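import Groth.Agent.Lib.Helper5.SV.Sep
import Mathlib.RingTheory.Smooth.AdicCompletion
import Mathlib.RingTheory.AdicCompletion.Completeness
import Mathlib.RingTheory.Etale.Field

/-! Existence of a total Hasse derivative over a perfect constant field (helper7). -/

set_option autoImplicit false

namespace Groth.Agent.H7.SF

open FunFld LocRes Polynomial

variable {k K : Type*} [Field k] [Field K] [Algebra k K]

open scoped IntermediateField.algebraAdjoinAdjoin in
/-- Over a perfect constant field there is a transcendental element over whose polynomial ring `K`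
is formally étale. -/
theorem exists_formallyEtale_adjoin [PerfectField k] (hK : IsFunctionField k K) :
    ∃ x : K, Transcendental k x ∧ Algebra.FormallyEtale (Algebra.adjoin k ({x} : Set K)) K := by
  classical
  haveI := SV.essFiniteType hK
  obtain ⟨S, hS, hsep⟩ := exists_isTranscendenceBasis_and_isSeparable_of_perfectField k K
  obtain ⟨⟨t, ht, hfin⟩, -⟩ := hK
  have halg : Algebra.IsAlgebraic (Algebra.adjoin k ({t} : Set K)) K := by
    have h1 : Algebra.IsAlgebraic (IntermediateField.adjoin k ({t} : Set K)) K :=
      Algebra.IsAlgebraic.of_finite _ _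
    exact Algebra.IsAlgebraic.trans (Algebra.adjoin k ({t} : Set K))
      (IntermediateField.adjoin k ({t} : Set K)) K
  have hle : Algebra.trdeg k K ≤ 1 := by
    have := Algebra.IsAlgebraic.trdeg_le_cardinalMk k ({t} : Set K)
    simpa using this
  have hge : 1 ≤ Algebra.trdeg k K := by
    have hai : AlgebraicIndependent k (fun _ : PUnit => t) :=
      algebraicIndependent_unique_type_iff.2 ht
    have := hai.cardinalMk_le_trdeg
    simpa using this
  have hcard : S.card = 1 := by
    have h1 := hS.cardinalMk_eq_trdeg
    rw [Cardinal.mk_coe_finset] at h1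
    have h2 : (S.card : Cardinal) = 1 := by rw [h1]; exact le_antisymm hle hge
    exact_mod_cast h2
  obtain ⟨x, rfl⟩ := Finset.card_eq_one.1 hcard
  have hxtr : Transcendental k x := by
    have h1 := hS.1
    have h2 := h1.transcendental ⟨x, Finset.mem_singleton_self x⟩
    exact h2
  refine ⟨x, hxtr, ?_⟩
  rw [Finset.coe_singleton] at hsep
  have h1 : Algebra.FormallyEtale (IntermediateField.adjoin k ({x} : Set K)) K :=
    Algebra.FormallyEtale.of_isSeparable _ _
  have h2 : Algebra.FormallyEtale (Algebra.adjoin k ({x} : Set K))
      (IntermediateField.adjoin k ({x} : Set K)) :=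
    .of_isLocalization (nonZeroDivisors _)
  exact .comp _ (IntermediateField.adjoin k ({x} : Set K)) _

section construct

variable {x : K} (hx : Transcendental k x)

/-- `k[x] → K⟦T⟧`, `x ↦ x + T`. -/
noncomputable def iota : Algebra.adjoin k ({x} : Set K) →ₐ[k] PowerSeries K :=
  (aeval (PowerSeries.C x + PowerSeries.X : PowerSeries K)).comp
    (Polynomial.algEquivOfTranscendental k x hx).symm.toAlgHom

lemma constantCoeff_aeval (p : k[X]) :
    PowerSeries.constantCoeff (aeval (PowerSeries.C x + PowerSeries.X : PowerSeries K) p) =
      aeval x p := by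
  have h1 : (PowerSeries.constantCoeff (R := K)).comp (algebraMap k (PowerSeries K)) =
      algebraMap k K := by
    ext c
    rw [RingHom.comp_apply, PowerSeries.algebraMap_apply, PowerSeries.constantCoeff_C]
  have h2 : PowerSeries.constantCoeff (PowerSeries.C x + PowerSeries.X : PowerSeries K) = x := by
    rw [map_add, PowerSeries.constantCoeff_C, PowerSeries.constantCoeff_X, add_zero]
  rw [aeval_def, aeval_def, Polynomial.hom_eval₂, h1, h2]

lemma constantCoeff_iota (a : Algebra.adjoin k ({x} : Set K)) :
    PowerSeries.constantCoeff (iota hx a) = (a : K) := by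
  obtain ⟨p, rfl⟩ := (Polynomial.algEquivOfTranscendental k x hx).surjective a
  unfold iota
  rw [AlgHom.comp_apply]
  change PowerSeries.constantCoeff (aeval _
    ((Polynomial.algEquivOfTranscendental k x hx).symm
      ((Polynomial.algEquivOfTranscendental k x hx) p))) = _
  rw [AlgEquiv.symm_apply_apply, constantCoeff_aeval, Polynomial.algEquivOfTranscendental_apply,
    ← Subalgebra.aeval_coe]

lemma iota_gen : iota hx ⟨x, Algebra.self_mem_adjoin_singleton k x⟩ =
    PowerSeries.C x + PowerSeries.X := by
  unfold iota
  rw [AlgHom.comp_apply]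
  change aeval _ ((Polynomial.algEquivOfTranscendental k x hx).symm _) = _
  rw [Polynomial.algEquivOfTranscendental_symm_gen, aeval_X]

/-- A copy of `k[x]` that instance search does not see as a subalgebra of `K`. -/
def Base (k : Type*) {K : Type*} [Field k] [Field K] [Algebra k K] (x : K) : Type _ :=
  ↥(Algebra.adjoin k ({x} : Set K))

noncomputable instance : CommRing (Base k x) :=
  inferInstanceAs (CommRing ↥(Algebra.adjoin k ({x} : Set K)))

noncomputable instance : Algebra k (Base k x) :=
  inferInstanceAs (Algebra k ↥(Algebra.adjoin k ({x} : Set K)))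

noncomputable instance : Algebra (Base k x) K :=
  inferInstanceAs (Algebra ↥(Algebra.adjoin k ({x} : Set K)) K)

instance : IsScalarTower k (Base k x) K :=
  inferInstanceAs (IsScalarTower k ↥(Algebra.adjoin k ({x} : Set K)) K)

/-- `iota` on the copy. -/
noncomputable def iotaB : Base k x →ₐ[k] PowerSeries K := iota hx

include hx in
/-- Existence of the total Hasse derivative with respect to a separating element. -/
theorem exists_isHasseFamily_of_formallyEtale
    [hét : Algebra.FormallyEtale (Algebra.adjoin k ({x} : Set K)) K] :
    ∃ H : K →ₐ[k] PowerSeries K, IsHasseFamily x H := by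
  have hét' : Algebra.FormallyEtale (Base k x) K := hét
  let _ : Algebra (Base k x) (PowerSeries K) := (iotaB hx).toRingHom.toAlgebra
  have : IsScalarTower k (Base k x) (PowerSeries K) :=
    IsScalarTower.of_algebraMap_eq (fun c => ((iotaB hx).commutes c).symm)
  let I : Ideal (PowerSeries K) := Ideal.span {PowerSeries.X}
  -- the map `K → K⟦T⟧ / (T)`
  let f : K →ₐ[Base k x] (PowerSeries K ⧸ I) :=
    { (Ideal.Quotient.mk I).comp (PowerSeries.C : K →+* PowerSeries K) with
      commutes' := fun a => by
        change Ideal.Quotient.mk I (PowerSeries.C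
          ((show ↥(Algebra.adjoin k ({x} : Set K)) from a) : K)) =
          Ideal.Quotient.mk I (iota hx a)
        rw [Ideal.Quotient.eq, Ideal.mem_span_singleton, PowerSeries.X_dvd_iff, map_sub,
          PowerSeries.constantCoeff_C, constantCoeff_iota, sub_self] }
  obtain ⟨g, hg⟩ := Algebra.FormallySmooth.exists_mkₐ_comp_eq_of_isAdicComplete (I := I) f
  refine ⟨g.restrictScalars k, ?_, fun y => ?_⟩
  · change g x = _
    have h1 := g.commutes
        (⟨x, Algebra.self_mem_adjoin_singleton k x⟩ : Algebra.adjoin k ({x} : Set K))
    exact h1.trans (iota_gen hx)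
  · change PowerSeries.constantCoeff (g y) = y
    have h1 := congrArg (fun φ : K →ₐ[Base k x] (PowerSeries K ⧸ I) => φ y) hg
    change Ideal.Quotient.mk I (g y) = Ideal.Quotient.mk I (PowerSeries.C y) at h1
    rw [Ideal.Quotient.eq, Ideal.mem_span_singleton, PowerSeries.X_dvd_iff, map_sub,
      PowerSeries.constantCoeff_C, sub_eq_zero] at h1
    exact h1

end construct

/-- Over a perfect constant field a function field has a total Hasse derivative. -/
theorem exists_isHasseFamily [PerfectField k] (hK : IsFunctionField k K) :
    ∃ (s : K) (H : K →ₐ[k] PowerSeries K), IsHasseFamily s H := by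
  obtain ⟨x, hx, hét⟩ := exists_formallyEtale_adjoin hK
  obtain ⟨H, hH⟩ := exists_isHasseFamily_of_formallyEtale hx
  exact ⟨x, H, hH⟩

end Groth.Agent.H7.SF
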