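import Groth.Agent.Lib.Helper7.TrDual

/-! The derivative of the minimal polynomial of an integral generator is divisible by the
different; equality and the conductor (helper7). -/

set_option autoImplicit false
set_option linter.unusedSectionVars false

universe u v w

namespace Groth.Agent.H7.TrDual

open FunFld LocRes WithZero Polynomial Groth.Agent.H7.IC Groth.Agent.H7.RH LaurentSeries

section main

variable {k : Type u} {K K' : Type v} [Field k] [Field K] [Field K'] [Algebra k K] [Algebra K K']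
  [Algebra k K'] [IsScalarTower k K K'] [FiniteDimensional K K'] [Algebra.IsSeparable K K']
variable {F F' : Type w} [Field F] [Algebra k F] [Field F'] [Algebra k F']

/-- a unit at `Q` in the integral closure with prescribed zeros at the other places -/
theorem exists_inB_mul (hK : IsFF1 k K) {P : Place k K} {Q : Place k K'} (hQP : IsOver Q P)
    {z : K'} (hz : Q.1 z ≤ 1) : ∃ w : K', Q.1 w = 1 ∧ InB P w ∧ InB P (w * z) := by
  classical
  have hfin := finite_isOver (K' := K') hK P
  obtain ⟨w, hw⟩ := Place.exists_approx_eq (insert Q hfin.toFinset) (fun _ => (0 : K'))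
    (fun Q' => if Q' = Q then 0 else min 0 (-log (Q'.1 z)))
  have hwQ : Q.1 w = 1 := by
    have := hw Q (Finset.mem_insert_self _ _)
    rwa [if_pos rfl, sub_zero, exp_zero] at this
  have hwQ' : ∀ Q' : Place k K', IsOver Q' P → Q' ≠ Q → Q'.1 w = exp (min 0 (-log (Q'.1 z))) := by
    intro Q' hQ' hne
    have := hw Q' (Finset.mem_insert_of_mem (by rw [Set.Finite.mem_toFinset]; exact hQ'))
    rwa [if_neg hne, sub_zero] at this
  refine ⟨w, hwQ, fun Q' hQ' => ?_, fun Q' hQ' => ?_⟩
  · by_cases h : Q' = Q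
    · rw [h, hwQ]
    · rw [hwQ' Q' hQ' h]
      exact (exp_le_exp.2 (min_le_left _ _)).trans_eq exp_zero
  · rw [map_mul]
    by_cases h : Q' = Q
    · rw [h, hwQ, one_mul]; exact hz
    · rw [hwQ' Q' hQ' h]
      rcases eq_or_ne (Q'.1 z) 0 with h0 | h0
      · rw [h0, mul_zero]; exact zero_le_one
      · have h1 : Q'.1 z = exp (log (Q'.1 z)) := (exp_log h0).symm
        set l := log (Q'.1 z) with hl
        rw [h1, ← exp_add]
        refine (exp_le_exp.2 ?_).trans_eq exp_zero
        have := min_le_right (0 : ℤ) (-l)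
        omega

/-- **S12575** -/
theorem diffExp_le_ord_derivative_minpoly (hK : IsFunctionField k K) (hg : IsGeometric k K)
    {P : Place k K} {Q : Place k K'} {e : ℕ} (he : IsOverWith Q P e)
    {φ : K →ₐ[k] F⸨X⸩} (hφ : IsExpansionAt P.1 φ) {ψ : K' →ₐ[k] F'⸨X⸩}
    (hψ : IsExpansionAt Q.1 ψ) {x : K} (hx : vDiff φ 1 x ≠ 0)
    (hx' : vDiff ψ 1 (algebraMap K K' x) ≠ 0) [P.1.HasExtension Q.1]
    (hf : Function.Surjective
      (algebraMap (IsLocalRing.ResidueField P.O) (IsLocalRing.ResidueField Q.O)))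
    [Algebra P.O K'] [IsScalarTower P.O K K']
    {y : K'} (hy : IntermediateField.adjoin K ({y} : Set K') = ⊤) (hyi : IsIntegral P.O y) :
    diffExp φ ψ e x ≤ Q.ord (aeval y (derivative (minpoly K y))) ∧
    (Q.ord (aeval y (derivative (minpoly K y))) = diffExp φ ψ e x →
      ∀ z : K', Q.1 z ≤ 1 → ∃ a ∈ Algebra.adjoin P.O ({y} : Set K'),
        ∃ b ∈ Algebra.adjoin P.O ({y} : Set K'), Q.1 b = 1 ∧ z * b = a) := by
  classical
  have hQP : IsOver Q P := ⟨e, he⟩
  obtain ⟨-, y₀, hy₀, hy₀Q⟩ := traceDual_min_valuation hK hg he hφ hψ hx hx' hf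
  have htop : Algebra.adjoin K ({y} : Set K') = ⊤ := by
    rw [← IntermediateField.adjoin_simple_toSubalgebra_of_isAlgebraic
      (Algebra.IsAlgebraic.isAlgebraic y), hy, IntermediateField.top_toSubalgebra]
  have hAQ : ∀ a ∈ Algebra.adjoin P.O ({y} : Set K'), Q.1 a ≤ 1 := fun a ha =>
    (mem_integralClosure_iff P hK a).1 (adjoin_le_integral hyi ha) Q hQP
  have hle := le_of_mem_dual htop hyi hAQ hy₀
  rw [hy₀Q, exp_le_exp] at hle
  refine ⟨hle, fun heq z hz => ?_⟩
  have hne := deriv_ne_zero (K := K) y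
  -- the dual of the integral closure is a module over it
  have hmod : ∀ b : K', InB P b →
      y₀ * b ∈ (Algebra.traceForm K K').dualSubmodule
        (Subalgebra.toSubmodule (Algebra.adjoin P.O ({y} : Set K'))) := by
    intro b hb
    rw [LinearMap.BilinForm.mem_dualSubmodule]
    intro z' hz'
    rw [Algebra.traceForm_apply, Submodule.mem_one, mul_assoc]
    have hbz : IsIntegral P.O (b * z') :=
      ((mem_integralClosure_iff P hK b).2 hb).mul (adjoin_le_integral hyi hz')
    exact ⟨⟨_, P.mem_O_iff.2 (hy₀ _ hbz)⟩, rfl⟩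
  have hmod' : ∀ b : K', InB P b →
      aeval y (derivative (minpoly K y)) * y₀ * b ∈ Algebra.adjoin P.O ({y} : Set K') := by
    intro b hb
    have := hmod b hb
    rw [traceForm_dualSubmodule_adjoin P.O K htop hyi,
      Submodule.mem_smul_pointwise_iff_exists] at this
    obtain ⟨a, ha, hab⟩ := this
    have : aeval y (derivative (minpoly K y)) * y₀ * b = a := by
      rw [mul_assoc, ← hab, smul_eq_mul, mul_inv_cancel_left₀ hne]
    rw [this]
    exact ha
  set c := aeval y (derivative (minpoly K y)) * y₀ with hc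
  have hcQ : Q.1 c = 1 := by
    rw [hc, map_mul, hy₀Q, Q.v_eq_exp_neg_ord hne, heq, ← exp_add, neg_add_cancel, exp_zero]
  obtain ⟨w, hwQ, hwB, hwzB⟩ := exists_inB_mul hK.isFF1 hQP hz
  refine ⟨c * (w * z), hmod' _ hwzB, c * w, hmod' _ hwB, by rw [map_mul, hcQ, hwQ, one_mul], ?_⟩
  ring

end main

end Groth.Agent.H7.TrDual
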