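import Mathlib

set_option autoImplicit false

namespace Groth.Agent.H7.Reg
open IsLocalRing

universe u

section Exchange
variable {R : Type u} [CommRing R] [IsLocalRing R] [IsNoetherianRing R]

/-- an element of `𝔪 \ 𝔪²` is part of a minimal system of generators of `𝔪`. -/
theorem exists_finset_span_insert (x : R) (hx : x ∈ maximalIdeal R)
    (hx2 : x ∉ (maximalIdeal R) ^ 2) :
    ∃ t : Finset R, t.card + 1 = (maximalIdeal R).spanFinrank ∧
      Ideal.span (insert x (t : Set R)) = maximalIdeal R := by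
  classical
  obtain ⟨s, hs₁, hs₂⟩ := Submodule.FG.exists_span_finset_card_eq_spanFinrank
    (maximalIdeal R).fg_of_isNoetherianRing
  have hsm : ∀ i ∈ s, i ∈ maximalIdeal R := fun i hi => by
    rw [← hs₂]; exact Submodule.subset_span hi
  have hxs : x ∈ Submodule.span R (s : Set R) := by rw [hs₂]; exact hx
  obtain ⟨f, -, hf⟩ := Submodule.mem_span_finset.mp hxs
  obtain ⟨i₀, hi₀s, hi₀⟩ : ∃ i ∈ s, f i ∉ maximalIdeal R := by
    by_contra hne
    push_neg at hne
    apply hx2
    rw [← hf, pow_two]
    refine Ideal.sum_mem _ fun i hi => ?_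
    rw [smul_eq_mul]
    exact Ideal.mul_mem_mul (hne i hi) (hsm i hi)
  have hu : IsUnit (f i₀) := by
    by_contra hnu
    exact hi₀ ((mem_maximalIdeal _).mpr hnu)
  obtain ⟨u, hu⟩ := hu
  refine ⟨s.erase i₀, ?_, ?_⟩
  · rw [Finset.card_erase_of_mem hi₀s, ← hs₁]
    have : 0 < s.card := Finset.card_pos.mpr ⟨i₀, hi₀s⟩
    omega
  · apply le_antisymm
    · rw [Ideal.span_le]
      intro y hy
      rcases hy with rfl | hy
      · exact hx
      · exact hsm y (Finset.mem_of_mem_erase hy)
    · have hsum := Finset.add_sum_erase s (fun i => f i • i) hi₀s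
      rw [hf] at hsum
      set J := Ideal.span (insert x ((s.erase i₀ : Finset R) : Set R)) with hJ
      have hxJ : x ∈ J := Ideal.subset_span (Set.mem_insert _ _)
      have htJ : ∀ i ∈ s.erase i₀, i ∈ J := fun i hi =>
        Ideal.subset_span (Set.mem_insert_of_mem _ hi)
      have hi₀mem : i₀ ∈ J := by
        have h1 : f i₀ * i₀ = x - ∑ i ∈ s.erase i₀, f i • i := by
          rw [← hsum, smul_eq_mul]; ring
        have h2 : i₀ = (↑u⁻¹ : R) * (f i₀ * i₀) := by
          rw [← mul_assoc, ← hu, Units.inv_mul, one_mul]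
        rw [h2, h1]
        apply Ideal.mul_mem_left
        apply Ideal.sub_mem
        · exact hxJ
        · refine Ideal.sum_mem _ fun i hi => ?_
          rw [smul_eq_mul]
          exact Ideal.mul_mem_left _ _ (htJ i hi)
      rw [← hs₂]
      show Ideal.span (s : Set R) ≤ _
      rw [Ideal.span_le]
      intro y hy
      by_cases hyi : y = i₀
      · rw [hyi]; exact hi₀mem
      · exact htJ y (Finset.mem_erase.mpr ⟨hyi, hy⟩)

end Exchange

section Quotient
variable {R : Type u} [CommRing R] [IsRegularLocalRing R]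

theorem withBot_le_of_succ_le (d : ℕ) (e : WithBot ℕ∞) (h : ((d + 1 : ℕ) : WithBot ℕ∞) ≤ e + 1) :
    (d : WithBot ℕ∞) ≤ e := by
  induction e using WithBot.recBotCoe with
  | bot =>
    rw [WithBot.bot_add] at h
    exact absurd h (not_le_of_gt (WithBot.bot_lt_coe _))
  | coe n =>
    have h1 : ((d + 1 : ℕ) : ℕ∞) ≤ n + 1 := by exact_mod_cast h
    have h2 : (d : ℕ∞) + 1 ≤ n + 1 := by exact_mod_cast h1
    have h3 : (d : ℕ∞) ≤ n := (ENat.add_le_add_iff_right (by norm_num)).mp h2
    exact_mod_cast h3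

theorem spanFinrank_eq_of_dim (d : ℕ) (hd : ringKrullDim R = (d : ℕ)) :
    (maximalIdeal R).spanFinrank = d := by
  have h := IsRegularLocalRing.spanFinrank_maximalIdeal (R := R)
  rw [hd] at h
  exact_mod_cast h

theorem quotient_regular (x : R) (hx : x ∈ maximalIdeal R) (hx2 : x ∉ (maximalIdeal R) ^ 2)
    (d : ℕ) (hd : ringKrullDim R = ((d + 1 : ℕ) : WithBot ℕ∞)) :
    IsRegularLocalRing (R ⧸ Ideal.span ({x} : Set R)) ∧
      ringKrullDim (R ⧸ Ideal.span ({x} : Set R)) = (d : ℕ) := by
  classical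
  have hle : Ideal.span ({x} : Set R) ≤ maximalIdeal R := by
    rw [Ideal.span_le]; intro y hy; rw [Set.mem_singleton_iff] at hy; rw [hy]; exact hx
  have hne : Ideal.span ({x} : Set R) ≠ ⊤ := fun h => by
    rw [h] at hle
    exact (maximalIdeal.isMaximal R).ne_top (top_le_iff.mp hle)
  haveI : Nontrivial (R ⧸ Ideal.span ({x} : Set R)) := Ideal.Quotient.nontrivial_iff.mpr hne
  have hsurj : Function.Surjective (Ideal.Quotient.mk (Ideal.span ({x} : Set R))) :=
    Ideal.Quotient.mk_surjective
  haveI : IsLocalRing (R ⧸ Ideal.span ({x} : Set R)) :=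
    IsLocalRing.of_surjective' (Ideal.Quotient.mk _) hsurj
  obtain ⟨t, ht1, ht2⟩ := exists_finset_span_insert x hx hx2
  have hmax : maximalIdeal (R ⧸ Ideal.span ({x} : Set R)) =
      Ideal.map (Ideal.Quotient.mk (Ideal.span ({x} : Set R))) (maximalIdeal R) := by
    have h1 : Ideal.comap (Ideal.Quotient.mk (Ideal.span ({x} : Set R)))
        (maximalIdeal (R ⧸ Ideal.span ({x} : Set R))) = maximalIdeal R :=
      eq_maximalIdeal (Ideal.comap_isMaximal_of_surjective _ hsurj)
    rw [← h1, Ideal.map_comap_of_surjective _ hsurj]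
  have hx0 : Ideal.Quotient.mk (Ideal.span ({x} : Set R)) x = 0 :=
    Ideal.Quotient.eq_zero_iff_mem.mpr (Ideal.subset_span (Set.mem_singleton x))
  have hspan : maximalIdeal (R ⧸ Ideal.span ({x} : Set R)) =
      Ideal.span ((Ideal.Quotient.mk (Ideal.span ({x} : Set R))) '' (t : Set R)) := by
    rw [hmax, ← ht2, Ideal.map_span, Set.image_insert_eq, hx0, Ideal.span_insert_zero]
  have hsf : (maximalIdeal R).spanFinrank = d + 1 := spanFinrank_eq_of_dim (d + 1) hd
  have hfr : (maximalIdeal (R ⧸ Ideal.span ({x} : Set R))).spanFinrank ≤ d := by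
    rw [hspan]
    calc _ ≤ ((Ideal.Quotient.mk (Ideal.span ({x} : Set R))) '' (t : Set R)).ncard :=
          Submodule.spanFinrank_span_le_ncard_of_finite (t.finite_toSet.image _)
      _ ≤ (t : Set R).ncard := Set.ncard_image_le t.finite_toSet
      _ = t.card := Set.ncard_coe_finset t
      _ = d := by omega
  have hge : ((d : ℕ) : WithBot ℕ∞) ≤ ringKrullDim (R ⧸ Ideal.span ({x} : Set R)) := by
    have h := ringKrullDim_le_ringKrullDim_quotient_add_card (R := R) ({x} : Finset R) (by
      rw [Finset.coe_singleton, Set.singleton_subset_iff, ringJacobson_eq_maximalIdeal]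
      exact hx)
    rw [Finset.coe_singleton, Finset.card_singleton, Nat.cast_one, hd] at h
    exact withBot_le_of_succ_le d _ h
  have hle' : ringKrullDim (R ⧸ Ideal.span ({x} : Set R)) ≤ (d : ℕ) :=
    (ringKrullDim_le_spanFinrank_maximalIdeal _).trans (by exact_mod_cast hfr)
  refine ⟨IsRegularLocalRing.of_spanFinrank_maximalIdeal_le _ ?_, le_antisymm hle' hge⟩
  exact le_trans (by exact_mod_cast hfr) hge

end Quotient

section Domain

theorem eq_bot_of_le_smul {R : Type u} [CommRing R] [IsLocalRing R] [IsNoetherianRing R]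
    (P : Ideal R) (h : P ≤ maximalIdeal R • P) : P = ⊥ :=
  Submodule.eq_bot_of_le_smul_of_le_jacobson_bot (maximalIdeal R) P P.fg_of_isNoetherianRing h
    (by rw [IsLocalRing.jacobson_eq_maximalIdeal _ bot_ne_top])

/-- for a regular local ring of positive dimension, there is a parameter outside `𝔪²` and all
minimal primes. -/
theorem exists_parameter {R : Type u} [CommRing R] [IsRegularLocalRing R] (d : ℕ)
    (hd : ringKrullDim R = ((d + 1 : ℕ) : WithBot ℕ∞)) :
    ∃ x ∈ maximalIdeal R, x ∉ (maximalIdeal R) ^ 2 ∧ ∀ P ∈ minimalPrimes R, x ∉ P := by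
  classical
  have hfin := minimalPrimes.finite_of_isNoetherianRing R
  have hsf : (maximalIdeal R).spanFinrank = d + 1 := spanFinrank_eq_of_dim (d + 1) hd
  let S : Finset (Ideal R) := insert ((maximalIdeal R) ^ 2) hfin.toFinset
  have hav := Ideal.subset_union_prime (R := R) (s := S) (f := id) ((maximalIdeal R) ^ 2)
    ((maximalIdeal R) ^ 2) (I := maximalIdeal R) (by
      intro i hi h1 _
      rcases Finset.mem_insert.mp hi with h | h
      · exact absurd h h1
      · exact Ideal.minimalPrimes_isPrime (hfin.mem_toFinset.mp h))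
  have hnot : ¬ ∃ i ∈ S, maximalIdeal R ≤ id i := by
    rintro ⟨i, hi, hle⟩
    rcases Finset.mem_insert.mp hi with h | h
    · subst h
      have h0 : maximalIdeal R = ⊥ := by
        apply eq_bot_of_le_smul
        rw [Ideal.smul_eq_mul, ← pow_two]
        exact hle
      have h1 : (maximalIdeal R).spanFinrank = 0 := by
        rw [h0]
        exact (Submodule.spanFinrank_eq_zero_iff_eq_bot Submodule.fg_bot).mpr rfl
      omega
    · have hmin : i ∈ minimalPrimes R := hfin.mem_toFinset.mp h
      have hip : i.IsPrime := Ideal.minimalPrimes_isPrime hmin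
      have heq : maximalIdeal R = i := (maximalIdeal.isMaximal R).eq_of_le hip.ne_top hle
      have hh : (maximalIdeal R).height = 0 := by
        rw [Ideal.height_eq_zero_iff, heq]; exact hmin
      have h2 := IsLocalRing.maximalIdeal_height_eq_ringKrullDim (R := R)
      rw [hh, hd] at h2
      have h3 : ((0 : ℕ) : WithBot ℕ∞) = ((d + 1 : ℕ) : WithBot ℕ∞) := by exact_mod_cast h2
      have h4 : (0 : ℕ) = d + 1 := by exact_mod_cast h3
      omega
  rw [← hav] at hnot
  rw [Set.not_subset] at hnot
  obtain ⟨x, hx, hxn⟩ := hnot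
  refine ⟨x, hx, ?_, ?_⟩
  · intro h2
    apply hxn
    exact Set.mem_biUnion (Finset.mem_coe.mpr (Finset.mem_insert_self _ _)) h2
  · intro P hP hxP
    apply hxn
    exact Set.mem_biUnion (Finset.mem_coe.mpr
      (Finset.mem_insert_of_mem (hfin.mem_toFinset.mpr hP))) hxP

theorem isDomain_of_dim : ∀ (d : ℕ) (R : Type u) [CommRing R] [IsRegularLocalRing R],
    ringKrullDim R = ((d : ℕ) : WithBot ℕ∞) → IsDomain R := by
  intro d
  induction d with
  | zero =>
    intro R _ _ hd
    have h0 : (maximalIdeal R).spanFinrank = 0 := spanFinrank_eq_of_dim 0 hd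
    have h1 : maximalIdeal R = ⊥ :=
      (Submodule.spanFinrank_eq_zero_iff_eq_bot (maximalIdeal R).fg_of_isNoetherianRing).mp h0
    exact (IsLocalRing.isField_iff_maximalIdeal_eq.mpr h1).isDomain
  | succ d ih =>
    intro R _ _ hd
    obtain ⟨x, hx, hx2, hxmin⟩ := exists_parameter d hd
    obtain ⟨hreg, hdim⟩ := quotient_regular x hx hx2 d hd
    have hdom : IsDomain (R ⧸ Ideal.span ({x} : Set R)) := ih _ hdim
    have hprime : (Ideal.span ({x} : Set R)).IsPrime := (Ideal.Quotient.isDomain_iff_prime _).mp hdom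
    obtain ⟨P, hPmin, hPle⟩ := Ideal.exists_minimalPrimes_le (bot_le : ⊥ ≤ Ideal.span ({x} : Set R))
    have hxP : x ∉ P := hxmin P hPmin
    have hPprime : P.IsPrime := Ideal.minimalPrimes_isPrime hPmin
    have hPsm : P ≤ maximalIdeal R • P := by
      intro y hy
      obtain ⟨a, rfl⟩ := Ideal.mem_span_singleton'.mp (hPle hy)
      have ha : a ∈ P := (hPprime.mem_or_mem hy).resolve_right hxP
      rw [mul_comm, ← smul_eq_mul]
      exact Submodule.smul_mem_smul hx ha
    have hP0 : P = ⊥ := eq_bot_of_le_smul P hPsm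
    rw [hP0] at hPprime
    exact IsDomain.of_bot_isPrime R

/-- **S0558**: every regular local ring is a domain. -/
theorem isDomain (R : Type u) [CommRing R] [IsRegularLocalRing R] : IsDomain R := by
  have h := IsRegularLocalRing.spanFinrank_maximalIdeal (R := R)
  exact isDomain_of_dim _ R h.symm

end Domain

end Groth.Agent.H7.Reg
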