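import Mathlib

set_option autoImplicit false

/-! formal inverse function theorem for power series in finitely many variables -/

namespace Groth.Agent.H7.PS
open MvPowerSeries Finsupp

variable {R : Type*} [CommRing R] {n : ℕ}

/-- part of `f` made of monomials whose least variable is `i`. -/
noncomputable def part (i : Fin n) (f : MvPowerSeries (Fin n) R) : MvPowerSeries (Fin n) R :=
  fun β => if β i ≠ 0 ∧ ∀ j < i, β j = 0 then coeff β f else 0

theorem coeff_part (i : Fin n) (f : MvPowerSeries (Fin n) R) (β : Fin n →₀ ℕ) :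
    coeff β (part i f) = if β i ≠ 0 ∧ ∀ j < i, β j = 0 then coeff β f else 0 := rfl

theorem X_dvd_part (i : Fin n) (f : MvPowerSeries (Fin n) R) : X i ∣ part i f := by
  rw [X_dvd_iff]
  intro m hm
  rw [coeff_part, if_neg]
  intro h
  exact h.1 hm

theorem sum_part (f : MvPowerSeries (Fin n) R) (hf : constantCoeff f = 0) :
    ∑ i, part i f = f := by
  ext β
  rw [map_sum]
  by_cases hβ : β = 0
  · subst hβ
    rw [Finset.sum_eq_zero]
    · exact hf.symm
    · intro i _
      rw [coeff_part, if_neg]
      intro h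
      exact h.1 rfl
  · have hne : β.support.Nonempty := Finsupp.support_nonempty_iff.mpr hβ
    set i₀ := β.support.min' hne with hi₀def
    have hi₀ : β i₀ ≠ 0 := Finsupp.mem_support_iff.mp (Finset.min'_mem _ hne)
    rw [Finset.sum_eq_single i₀]
    · rw [coeff_part, if_pos]
      refine ⟨hi₀, fun j hj => ?_⟩
      by_contra h
      exact absurd (Finset.min'_le _ j (Finsupp.mem_support_iff.mpr h)) (not_le.mpr hj)
    · intro i _ hi
      rw [coeff_part, if_neg]
      rintro ⟨h1, h2⟩
      have h3 : i₀ ≤ i := Finset.min'_le _ i (Finsupp.mem_support_iff.mpr h1)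
      have h4 : i₀ < i := lt_of_le_of_ne h3 (Ne.symm hi)
      exact hi₀ (h2 i₀ h4)
    · intro h
      exact absurd (Finset.mem_univ _) h

theorem le_order_part (i : Fin n) (f : MvPowerSeries (Fin n) R) : f.order ≤ (part i f).order := by
  refine le_order fun β hβ => ?_
  rw [coeff_part]
  split_ifs
  · exact coeff_of_lt_order hβ
  · rfl

theorem exists_decomp (d : ℕ) (f : MvPowerSeries (Fin n) R) (hf : ((d + 1 : ℕ) : ℕ∞) ≤ f.order) :
    ∃ g : Fin n → MvPowerSeries (Fin n) R, f = ∑ i, X i * g i ∧ ∀ i, (d : ℕ∞) ≤ (g i).order := by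
  have hc : constantCoeff f = 0 := by
    rw [← one_le_order_iff_constCoeff_eq_zero]
    refine le_trans ?_ hf
    exact_mod_cast Nat.le_add_left 1 d
  choose g hg using fun i => X_dvd_part i f
  refine ⟨g, ?_, fun i => ?_⟩
  · conv_lhs => rw [← sum_part f hc]
    exact Finset.sum_congr rfl fun i _ => hg i
  · refine nat_le_order fun γ hγ => ?_
    have h1 : coeff (single i 1 + γ) (X i * g i) = coeff γ (g i) := by
      rw [X_def, coeff_add_monomial_mul, one_mul]
    rw [← h1, ← hg]
    apply coeff_of_lt_order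
    refine lt_of_lt_of_le ?_ (hf.trans (le_order_part i f))
    rw [map_add, degree_single]
    exact_mod_cast (by omega : 1 + degree γ < d + 1)

theorem le_order_sum {ι : Type*} (s : Finset ι) (F : ι → MvPowerSeries (Fin n) R) (d : ℕ∞)
    (h : ∀ i ∈ s, d ≤ (F i).order) : d ≤ (∑ i ∈ s, F i).order := by
  refine le_order fun β hβ => ?_
  rw [map_sum]
  exact Finset.sum_eq_zero fun i hi => coeff_of_lt_order (lt_of_lt_of_le hβ (h i hi))

theorem le_order_sub (f g : MvPowerSeries (Fin n) R) (d : ℕ∞) (hf : d ≤ f.order)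
    (hg : d ≤ g.order) : d ≤ (f - g).order := by
  refine le_order fun β hβ => ?_
  rw [map_sub, coeff_of_lt_order (lt_of_lt_of_le hβ hf), coeff_of_lt_order (lt_of_lt_of_le hβ hg),
    sub_zero]

theorem le_order_add (f g : MvPowerSeries (Fin n) R) (d : ℕ∞) (hf : d ≤ f.order)
    (hg : d ≤ g.order) : d ≤ (f + g).order := by
  refine le_order fun β hβ => ?_
  rw [map_add, coeff_of_lt_order (lt_of_lt_of_le hβ hf), coeff_of_lt_order (lt_of_lt_of_le hβ hg),
    add_zero]

section Hom
variable (φ : MvPowerSeries (Fin n) R →ₐ[R] MvPowerSeries (Fin n) R)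

/-- an algebra endomorphism sending the variables into the maximal ideal does not lower orders. -/
theorem le_order_map (h0 : ∀ i, constantCoeff (φ (X i)) = 0) (d : ℕ) :
    ∀ f : MvPowerSeries (Fin n) R, (d : ℕ∞) ≤ f.order → (d : ℕ∞) ≤ (φ f).order := by
  induction d with
  | zero => intro f _; simp
  | succ d ih =>
    intro f hf
    obtain ⟨g, hg, hgo⟩ := exists_decomp d f hf
    rw [hg, map_sum]
    refine le_order_sum _ _ _ fun i _ => ?_
    rw [map_mul]
    refine le_trans ?_ le_order_mul
    have h1 : (1 : ℕ∞) ≤ (φ (X i)).order := one_le_order_iff_constCoeff_eq_zero.mpr (h0 i)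
    have h2 := ih (g i) (hgo i)
    calc ((d + 1 : ℕ) : ℕ∞) = 1 + d := by push_cast; ring
      _ ≤ _ := add_le_add h1 h2

theorem constantCoeff_of_two_le (hJ : ∀ i, (2 : ℕ∞) ≤ (φ (X i) - X i).order) (i : Fin n) :
    constantCoeff (φ (X i)) = 0 := by
  have h1 : constantCoeff (φ (X i) - X i) = 0 := by
    rw [← one_le_order_iff_constCoeff_eq_zero]
    exact le_trans (by norm_num) (hJ i)
  rw [map_sub, constantCoeff_X, sub_zero] at h1
  exact h1

/-- with identity Jacobian, `φ f - f` has larger order than `f`. -/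
theorem lt_order_map_sub (hJ : ∀ i, (2 : ℕ∞) ≤ (φ (X i) - X i).order) (d : ℕ) :
    ∀ f : MvPowerSeries (Fin n) R, (d : ℕ∞) ≤ f.order → ((d + 1 : ℕ) : ℕ∞) ≤ (φ f - f).order := by
  have h0 := constantCoeff_of_two_le φ hJ
  induction d with
  | zero =>
    intro f _
    set c := constantCoeff f with hc
    set f₁ := f - C c with hf₁
    have h1 : constantCoeff f₁ = 0 := by rw [hf₁, map_sub, constantCoeff_C, ← hc, sub_self]
    have h2 : φ f - f = φ f₁ - f₁ := by
      have h3 : φ (C c) = C c := by
        have : (C c : MvPowerSeries (Fin n) R) = algebraMap R _ c := rfl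
        rw [this, AlgHom.commutes]
      rw [hf₁, map_sub, h3]; ring
    rw [h2]
    have h4 : ((1 : ℕ) : ℕ∞) ≤ f₁.order := by
      rw [Nat.cast_one]; exact one_le_order_iff_constCoeff_eq_zero.mpr h1
    exact le_order_sub _ _ _ (le_order_map φ h0 1 f₁ h4) h4
  | succ d ih =>
    intro f hf
    obtain ⟨g, hg, hgo⟩ := exists_decomp d f hf
    have h1 : φ f - f = ∑ i, ((φ (X i) - X i) * φ (g i) + X i * (φ (g i) - g i)) := by
      conv_lhs => rw [hg, map_sum, ← Finset.sum_sub_distrib]
      refine Finset.sum_congr rfl fun i _ => ?_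
      rw [map_mul]; ring
    rw [h1]
    refine le_order_sum _ _ _ fun i _ => ?_
    refine le_order_add _ _ _ ?_ ?_
    · refine le_trans ?_ le_order_mul
      calc ((d + 1 + 1 : ℕ) : ℕ∞) = 2 + d := by push_cast; ring
        _ ≤ _ := add_le_add (hJ i) (le_order_map φ h0 d (g i) (hgo i))
    · refine le_trans ?_ le_order_mul
      have hX : (1 : ℕ∞) ≤ (X i : MvPowerSeries (Fin n) R).order :=
        one_le_order_iff_constCoeff_eq_zero.mpr (constantCoeff_X i)
      calc ((d + 1 + 1 : ℕ) : ℕ∞) = 1 + ((d + 1 : ℕ) : ℕ∞) := by push_cast; ring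
        _ ≤ _ := add_le_add hX (ih (g i) (hgo i))

theorem injective_of_jacobian_one (hJ : ∀ i, (2 : ℕ∞) ≤ (φ (X i) - X i).order) :
    Function.Injective φ := by
  rw [injective_iff_map_eq_zero]
  intro f hf
  rw [← order_eq_top_iff, ENat.eq_top_iff_forall_ge]
  intro m
  induction m with
  | zero => simp
  | succ m ih =>
    have h1 := lt_order_map_sub φ hJ m f ih
    rwa [hf, zero_sub, order_neg] at h1

/-- `δ = id - φ` raises orders. -/
noncomputable def delta : MvPowerSeries (Fin n) R →ₗ[R] MvPowerSeries (Fin n) R :=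
  LinearMap.id - φ.toLinearMap

theorem delta_apply (f : MvPowerSeries (Fin n) R) : delta φ f = f - φ f := rfl

theorem le_order_delta (hJ : ∀ i, (2 : ℕ∞) ≤ (φ (X i) - X i).order) (d : ℕ)
    (f : MvPowerSeries (Fin n) R) (hf : (d : ℕ∞) ≤ f.order) :
    ((d + 1 : ℕ) : ℕ∞) ≤ (delta φ f).order := by
  have h1 := lt_order_map_sub φ hJ d f hf
  rwa [← order_neg, neg_sub] at h1

theorem le_order_delta_pow (hJ : ∀ i, (2 : ℕ∞) ≤ (φ (X i) - X i).order) (k : ℕ)
    (f : MvPowerSeries (Fin n) R) : (k : ℕ∞) ≤ ((delta φ ^ k) f).order := by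
  induction k with
  | zero => simp
  | succ k ih =>
    rw [pow_succ', Module.End.mul_apply]
    exact le_order_delta φ hJ k _ ih

theorem surjective_of_jacobian_one (hJ : ∀ i, (2 : ℕ∞) ≤ (φ (X i) - X i).order) :
    Function.Surjective φ := by
  have h0 := constantCoeff_of_two_le φ hJ
  intro g
  let f : MvPowerSeries (Fin n) R :=
    fun α => ∑ k ∈ Finset.range (degree α + 1), coeff α ((delta φ ^ k) g)
  have hf : ∀ α, coeff α f = ∑ k ∈ Finset.range (degree α + 1), coeff α ((delta φ ^ k) g) :=
    fun α => rfl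
  -- partial sums
  let s : ℕ → MvPowerSeries (Fin n) R := fun N => ∑ k ∈ Finset.range N, (delta φ ^ k) g
  have hr : ∀ N : ℕ, (N : ℕ∞) ≤ (f - s N).order := by
    intro N
    refine nat_le_order fun α hα => ?_
    rw [map_sub, hf, map_sum, sub_eq_zero]
    refine Finset.sum_subset ?_ ?_
    · intro k hk
      rw [Finset.mem_range] at hk ⊢
      omega
    · intro k hk hk'
      rw [Finset.mem_range] at hk hk'
      apply coeff_of_lt_order
      refine lt_of_lt_of_le ?_ (le_order_delta_pow φ hJ k g)
      exact_mod_cast (by omega : degree α < k)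
  have hs : ∀ N : ℕ, φ (s N) = g - (delta φ ^ N) g := by
    intro N
    induction N with
    | zero => simp [s]
    | succ N ih =>
      have h1 : s (N + 1) = s N + (delta φ ^ N) g := Finset.sum_range_succ _ _
      have h2 : φ ((delta φ ^ N) g) = (delta φ ^ N) g - (delta φ ^ (N + 1)) g := by
        rw [pow_succ', Module.End.mul_apply, delta_apply]; ring
      rw [h1, map_add, ih, h2]; ring
  refine ⟨f, ?_⟩
  rw [← sub_eq_zero, ← order_eq_top_iff, ENat.eq_top_iff_forall_ge]
  intro N
  have h1 : φ f - g = φ (f - s N) - (delta φ ^ N) g := by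
    rw [map_sub, hs]; ring
  rw [h1]
  exact le_order_sub _ _ _ (le_order_map φ h0 N _ (hr N)) (le_order_delta_pow φ hJ N g)

theorem bijective_of_jacobian_one (hJ : ∀ i, (2 : ℕ∞) ≤ (φ (X i) - X i).order) :
    Function.Bijective φ :=
  ⟨injective_of_jacobian_one φ hJ, surjective_of_jacobian_one φ hJ⟩

end Hom

section Linear

theorem exists_single_of_degree_eq_one (β : Fin n →₀ ℕ) (h : degree β = 1) :
    ∃ l, β = single l 1 := by
  have hβ : β ≠ 0 := by
    rintro rfl
    simp at h
  obtain ⟨l, hl⟩ := Finsupp.support_nonempty_iff.mpr hβ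
  have hl' : β l ≠ 0 := Finsupp.mem_support_iff.mp hl
  have hle : single l 1 ≤ β := by
    rw [Finsupp.single_le_iff]
    omega
  have h1 : β = single l 1 + (β - single l 1) := (add_tsub_cancel_of_le hle).symm
  have h2 : degree (β - single l 1) = 0 := by
    have := congrArg degree h1
    rw [map_add, degree_single, h] at this
    omega
  rw [degree_eq_zero_iff] at h2
  exact ⟨l, by rw [h1, h2, add_zero]⟩

/-- the linear part of a power series. -/
noncomputable def lin (f : MvPowerSeries (Fin n) R) : MvPowerSeries (Fin n) R :=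
  ∑ l, coeff (single l 1) f • X l

theorem coeff_single_lin (f : MvPowerSeries (Fin n) R) (l₀ : Fin n) :
    coeff (single l₀ 1) (lin f) = coeff (single l₀ 1) f := by
  classical
  rw [lin, map_sum, Finset.sum_eq_single l₀]
  · rw [map_smul, coeff_index_single_X, if_pos rfl, smul_eq_mul, mul_one]
  · intro l _ hl
    rw [map_smul, coeff_index_single_X, if_neg (Ne.symm hl), smul_zero]
  · intro h
    exact absurd (Finset.mem_univ _) h

theorem two_le_order_sub_lin (f : MvPowerSeries (Fin n) R) (h0 : constantCoeff f = 0) :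
    (2 : ℕ∞) ≤ (f - lin f).order := by
  classical
  have : ((2 : ℕ) : ℕ∞) ≤ (f - lin f).order := by
    refine nat_le_order fun β hβ => ?_
    have hcases : degree β = 0 ∨ degree β = 1 := by omega
    rcases hcases with h | h
    · rw [degree_eq_zero_iff] at h
      subst h
      rw [map_sub, lin, map_sum]
      rw [Finset.sum_eq_zero]
      · rw [sub_zero]; exact h0
      · intro l _
        rw [map_smul, coeff_zero_X, smul_zero]
    · obtain ⟨l₀, rfl⟩ := exists_single_of_degree_eq_one β h
      rw [map_sub, coeff_single_lin, sub_self]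
  exact_mod_cast this

end Linear

section Main
variable (φ : MvPowerSeries (Fin n) R →ₐ[R] MvPowerSeries (Fin n) R)

/-- **formal inverse function theorem** (S10826). -/
theorem bijective_of_isUnit_det (h0 : ∀ i, constantCoeff (φ (X i)) = 0)
    (hJ : IsUnit (Matrix.det (Matrix.of fun i j : Fin n => coeff (single j 1) (φ (X i))))) :
    Function.Bijective φ := by
  classical
  set J : Matrix (Fin n) (Fin n) R := Matrix.of fun i j => coeff (single j 1) (φ (X i)) with hJdef
  set M := J⁻¹ with hM
  have hMJ : M * J = 1 := Matrix.nonsing_inv_mul J hJ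
  have hJM : J * M = 1 := Matrix.mul_nonsing_inv J hJ
  let a : Fin n → MvPowerSeries (Fin n) R := fun i => ∑ j, M i j • X j
  have ha0 : ∀ i, constantCoeff (a i) = 0 := by
    intro i
    simp only [a, map_sum]
    refine Finset.sum_eq_zero fun j _ => ?_
    rw [← coeff_zero_eq_constantCoeff_apply, map_smul, coeff_zero_X, smul_zero]
  have ha : HasSubst a := hasSubst_of_constantCoeff_zero ha0
  let ψ : MvPowerSeries (Fin n) R →ₐ[R] MvPowerSeries (Fin n) R := substAlgHom ha
  have hψX : ∀ i, ψ (X i) = a i := fun i => substAlgHom_X ha i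
  have hψ0 : ∀ i, constantCoeff (ψ (X i)) = 0 := fun i => by rw [hψX]; exact ha0 i
  have hlin : ∀ i, lin (φ (X i)) = ∑ l, J i l • X l := fun i => rfl
  have hone : ∀ i : Fin n, ∑ l, (1 : Matrix (Fin n) (Fin n) R) i l • (X l : MvPowerSeries (Fin n) R)
      = X i := by
    intro i
    rw [Finset.sum_eq_single i]
    · rw [Matrix.one_apply_eq, one_smul]
    · intro l _ hl
      rw [Matrix.one_apply_ne (Ne.symm hl), zero_smul]
    · intro h
      exact absurd (Finset.mem_univ _) h
  -- first composite
  have h1 : ∀ i, (2 : ℕ∞) ≤ ((φ.comp ψ) (X i) - X i).order := by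
    intro i
    have e1 : (φ.comp ψ) (X i) = ∑ j, M i j • φ (X j) := by
      rw [AlgHom.comp_apply, hψX]
      simp only [a, map_sum, map_smul]
    have e2 : ∑ j, M i j • lin (φ (X j)) = X i := by
      simp_rw [hlin, Finset.smul_sum, smul_smul]
      rw [Finset.sum_comm]
      simp_rw [← Finset.sum_smul]
      have : ∀ l, ∑ j, M i j * J j l = (1 : Matrix (Fin n) (Fin n) R) i l := fun l => by
        rw [← hMJ, Matrix.mul_apply]
      simp_rw [this]
      exact hone i
    have e3 : (φ.comp ψ) (X i) - X i = ∑ j, M i j • (φ (X j) - lin (φ (X j))) := by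
      simp_rw [smul_sub]
      rw [Finset.sum_sub_distrib, e2, e1]
    rw [e3]
    exact le_order_sum _ _ _ fun j _ => le_trans (two_le_order_sub_lin _ (h0 j)) le_order_smul
  have h2 : ∀ i, (2 : ℕ∞) ≤ ((ψ.comp φ) (X i) - X i).order := by
    intro i
    have e2 : ψ (lin (φ (X i))) = X i := by
      rw [hlin, map_sum]
      simp_rw [map_smul, hψX, a, Finset.smul_sum, smul_smul]
      rw [Finset.sum_comm]
      simp_rw [← Finset.sum_smul]
      have : ∀ j, ∑ l, J i l * M l j = (1 : Matrix (Fin n) (Fin n) R) i j := fun j => by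
        rw [← hJM, Matrix.mul_apply]
      simp_rw [this]
      exact hone i
    have e3 : (ψ.comp φ) (X i) - X i = ψ (φ (X i) - lin (φ (X i))) := by
      rw [map_sub, e2]; rfl
    rw [e3]
    have := le_order_map ψ hψ0 2 _ (by exact_mod_cast two_le_order_sub_lin _ (h0 i))
    exact_mod_cast this
  have b1 := bijective_of_jacobian_one _ h1
  have b2 := bijective_of_jacobian_one _ h2
  constructor
  · have : Function.Injective (ψ ∘ φ) := b2.1
    exact Function.Injective.of_comp this
  · have : Function.Surjective (φ ∘ ψ) := b1.2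
    exact Function.Surjective.of_comp this

end Main

end Groth.Agent.H7.PS
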