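import Mathlib

/-!
# Spectral spaces: specializations of pro-constructible sets, and a shrinking lemma
-/

open Topology Set

namespace Groth.Agent.H7.SP

variable {X : Type*} [TopologicalSpace X]

lemma compactSpace_cons [SpectralSpace X] : @CompactSpace X (constructibleTopology X) :=
  @Function.Surjective.compactSpace (WithConstructibleTopology X) X _ (constructibleTopology X)
    WithTopology.ofTopology (WithTopology.continuous_ofTopology _) _
    (WithTopology.ofTopology_surjective _)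

lemma isOpen_cons_of_isOpen [PrespectralSpace X] {s : Set X} (hs : IsOpen s) :
    IsOpen[constructibleTopology X] s := by
  have hb := PrespectralSpace.isTopologicalBasis (X := X)
  rw [hb.open_eq_sUnion' hs]
  apply @isOpen_sUnion X (constructibleTopology X)
  rintro t ⟨⟨hto, htc⟩, -⟩
  exact htc.isOpen_constructibleTopology_of_isOpen hto

lemma isClosed_cons_of_isCompact_isOpen {s : Set X} (hc : IsCompact s) (ho : IsOpen s) :
    IsClosed[constructibleTopology X] s := by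
  rw [← @isOpen_compl_iff X _ (constructibleTopology X)]
  exact IsCompact.isOpen_constructibleTopology_of_isClosed (s := sᶜ) (by simpa using hc)
    ho.isClosed_compl

lemma isClosed_cons_of_isClosed [PrespectralSpace X] {s : Set X} (hs : IsClosed s) :
    IsClosed[constructibleTopology X] s := by
  rw [← @isOpen_compl_iff X _ (constructibleTopology X)]
  exact isOpen_cons_of_isOpen hs.isOpen_compl

/-- Stacks 0903: the closure of a pro-constructible set is its set of specializations. -/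
lemma exists_specializes_of_mem_closure [SpectralSpace X] {E : Set X}
    (hE : IsClosed[constructibleTopology X] E) {y : X} (hy : y ∈ closure E) :
    ∃ y' ∈ E, y' ⤳ y := by
  have hcs := compactSpace_cons (X := X)
  have hEc : @IsCompact X (constructibleTopology X) E :=
    @IsClosed.isCompact X (constructibleTopology X) E hcs hE
  let ι := {V : Set X // IsOpen V ∧ IsCompact V ∧ y ∈ V}
  have h := @IsCompact.inter_iInter_nonempty X (constructibleTopology X) E ι hEc (fun i => i.1)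
    (fun i => isClosed_cons_of_isCompact_isOpen i.2.2.1 i.2.1) (by
      intro u
      have ho : IsOpen (⋂ i ∈ u, (i : ι).1) := isOpen_biInter_finset (fun i _ => i.2.1)
      have hym : y ∈ ⋂ i ∈ u, (i : ι).1 := by
        simp only [mem_iInter]
        intro i _
        exact i.2.2.2
      obtain ⟨x, hx1, hx2⟩ := mem_closure_iff.mp hy _ ho hym
      exact ⟨x, hx2, hx1⟩)
  obtain ⟨y', hy'E, hy'2⟩ := h
  refine ⟨y', hy'E, specializes_iff_forall_open.mpr ?_⟩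
  intro s hs hys
  obtain ⟨V, hV, hyV, hVs⟩ :=
    (PrespectralSpace.isTopologicalBasis (X := X)).exists_subset_of_mem_open hys hs
  exact hVs (mem_iInter.mp hy'2 ⟨V, hV.1, hV.2, hyV⟩)

/-- generization -/
lemma gen_mem {z y : X} (hz : z ∈ closure ({y} : Set X)) {O : Set X} (hO : IsOpen O) (hzO : z ∈ O) :
    y ∈ O := by
  obtain ⟨y', hy'O, hy'⟩ := mem_closure_iff.mp hz O hO hzO
  rw [mem_singleton_iff] at hy'
  exact hy' ▸ hy'O

section Shrink

variable [SpectralSpace X] {Z : Set X} (hZ : IsClosed Z)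
  (hconn : ∀ x : X, IsConnected (Z ∩ closure {x}))
  {J : Type*} [Finite J] (U : J → Set X) (hUo : ∀ j, IsOpen (U j)) (hUc : ∀ j, IsCompact (U j))
  (hcov : Z ⊆ ⋃ j, U j)
  (W : J → J → Set X) (hWo : ∀ j k, IsOpen (W j k))
  (hW1 : ∀ j, U j ⊆ W j j)
  (hW2 : ∀ j k, W j k ⊆ W k j)
  (hW3 : ∀ j k l, W j k ∩ W k l ⊆ W j l)
  (hW4 : ∀ j k, Z ∩ U j ∩ U k ⊆ W j k)

/-- `Z ∩ closure {y}` meets `U k` -/
def Jy (Z : Set X) (U : J → Set X) (y : X) (k : J) : Prop := (Z ∩ closure {y} ∩ U k).Nonempty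

include hconn hUo hcov hWo hW1 hW3 hW4 in
lemma claim (y : X) (k l : J) (hk : Jy Z U y k) (hl : Jy Z U y l) : y ∈ W k l := by
  by_contra hcon
  obtain ⟨zk, ⟨hzkZ, hzkc⟩, hzkU⟩ := hk
  have hyUk : y ∈ U k := gen_mem hzkc (hUo k) hzkU
  let A' : Set X := ⋃ l' ∈ {l' | Jy Z U y l' ∧ y ∈ W k l'}, U l'
  let B' : Set X := ⋃ l' ∈ {l' | Jy Z U y l' ∧ y ∉ W k l'}, U l'
  have hA'o : IsOpen A' := isOpen_biUnion (fun l' _ => hUo l')
  have hB'o : IsOpen B' := isOpen_biUnion (fun l' _ => hUo l')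
  have hsub : Z ∩ closure {y} ⊆ A' ∪ B' := by
    rintro z ⟨hzZ, hzc⟩
    obtain ⟨l', hl'⟩ := mem_iUnion.mp (hcov hzZ)
    have hJ : Jy Z U y l' := ⟨z, ⟨hzZ, hzc⟩, hl'⟩
    by_cases h : y ∈ W k l'
    · exact Or.inl (mem_biUnion (show l' ∈ {l' | Jy Z U y l' ∧ y ∈ W k l'} from ⟨hJ, h⟩) hl')
    · exact Or.inr (mem_biUnion (show l' ∈ {l' | Jy Z U y l' ∧ y ∉ W k l'} from ⟨hJ, h⟩) hl')
  have hA : ((Z ∩ closure {y}) ∩ A').Nonempty :=
    ⟨zk, ⟨hzkZ, hzkc⟩, mem_biUnion (show k ∈ {l' | Jy Z U y l' ∧ y ∈ W k l'} from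
      ⟨⟨zk, ⟨hzkZ, hzkc⟩, hzkU⟩, hW1 k hyUk⟩) hzkU⟩
  have hB : ((Z ∩ closure {y}) ∩ B').Nonempty := by
    obtain ⟨zl, ⟨hzlZ, hzlc⟩, hzlU⟩ := hl
    exact ⟨zl, ⟨hzlZ, hzlc⟩, mem_biUnion (show l ∈ {l' | Jy Z U y l' ∧ y ∉ W k l'} from
      ⟨⟨zl, ⟨hzlZ, hzlc⟩, hzlU⟩, hcon⟩) hzlU⟩
  obtain ⟨z, ⟨hzZ, hzc⟩, hzA, hzB⟩ := (hconn y).isPreconnected A' B' hA'o hB'o hsub hA hB
  obtain ⟨l₁, ⟨-, hl₁W⟩, hzl₁⟩ := mem_iUnion₂.mp hzA
  obtain ⟨l₂, ⟨-, hl₂W⟩, hzl₂⟩ := mem_iUnion₂.mp hzB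
  have h1 : z ∈ W l₁ l₂ := hW4 l₁ l₂ ⟨⟨hzZ, hzl₁⟩, hzl₂⟩
  have h2 : y ∈ W l₁ l₂ := gen_mem hzc (hWo l₁ l₂) h1
  exact hl₂W (hW3 k l₁ l₂ ⟨hl₁W, h2⟩)

/-- the shrunk sets -/
def shrunk (Z : Set X) (U : J → Set X) (W : J → J → Set X) (j : J) : Set X :=
  {y | y ∈ U j ∧ ∀ k, Jy Z U y k → y ∈ W j k}

include hconn hcov hW2 hW3 in
lemma shrunk_inter (j k : J) : shrunk Z U W j ∩ shrunk Z U W k ⊆ W j k := by
  rintro y ⟨⟨-, hj⟩, ⟨-, hk⟩⟩
  obtain ⟨z, hzZ, hzc⟩ := (hconn y).nonempty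
  obtain ⟨l, hl⟩ := mem_iUnion.mp (hcov hzZ)
  have hJ : Jy Z U y l := ⟨z, ⟨hzZ, hzc⟩, hl⟩
  exact hW3 j l k ⟨hj l hJ, hW2 k l (hk l hJ)⟩

include hconn hUo hcov hWo hW1 hW3 hW4 in
lemma shrunk_cover : (⋃ j, shrunk Z U W j) = univ := by
  apply eq_univ_of_forall
  intro y
  obtain ⟨z, hzZ, hzc⟩ := (hconn y).nonempty
  obtain ⟨j, hj⟩ := mem_iUnion.mp (hcov hzZ)
  have hJ : Jy Z U y j := ⟨z, ⟨hzZ, hzc⟩, hj⟩
  exact mem_iUnion.mpr ⟨j, gen_mem hzc (hUo j) hj, fun k hk =>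
    claim hconn U hUo hcov W hWo hW1 hW3 hW4 y j k hJ hk⟩

include hZ hUc in
lemma isClosed_cons_Jy (k : J) : IsClosed[constructibleTopology X] {y | Jy Z U y k} := by
  rw [← @isOpen_compl_iff X _ (constructibleTopology X)]
  rw [@isOpen_iff_forall_mem_open X (constructibleTopology X)]
  intro y hy
  have hK : IsCompact (Z ∩ U k) := (hUc k).inter_left hZ
  have hKsub : Z ∩ U k ⊆ (closure ({y} : Set X))ᶜ := by
    rintro z ⟨hzZ, hzU⟩ hzc
    exact hy ⟨z, ⟨hzZ, hzc⟩, hzU⟩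
  obtain ⟨O, hOc, hOo, hKO, hOsub⟩ :=
    PrespectralSpace.exists_isCompact_and_isOpen_between hK isClosed_closure.isOpen_compl hKsub
  refine ⟨Oᶜ, ?_, ?_, ?_⟩
  · intro y' hy'O hJ
    obtain ⟨z, ⟨hzZ, hzc⟩, hzU⟩ := hJ
    exact hy'O (gen_mem hzc hOo (hKO ⟨hzZ, hzU⟩))
  · exact IsCompact.isOpen_constructibleTopology_of_isClosed (s := Oᶜ) (by simpa using hOc)
      hOo.isClosed_compl
  · intro hyO
    exact hOsub hyO (subset_closure (mem_singleton y))

include hZ hconn hUo hUc hcov hWo hW1 hW3 hW4 in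
lemma isOpen_shrunk (j : J) : IsOpen (shrunk Z U W j) := by
  let B : J → Set X := fun k => {y | y ∈ U j ∧ Jy Z U y k ∧ y ∉ W j k}
  have hBc : ∀ k, IsClosed[constructibleTopology X] (B k) := by
    intro k
    have h1 := isClosed_cons_of_isCompact_isOpen (hUc j) (hUo j)
    have h2 := isClosed_cons_Jy hZ U hUc k
    have h3 := isClosed_cons_of_isClosed (hWo j k).isClosed_compl
    have := @IsClosed.inter X _ _ (constructibleTopology X) h1
      (@IsClosed.inter X _ _ (constructibleTopology X) h2 h3)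
    exact this
  have heq : shrunk Z U W j = U j ∩ (closure (⋃ k, B k))ᶜ := by
    ext y
    constructor
    · rintro ⟨hyU, hy⟩
      refine ⟨hyU, ?_⟩
      intro hcl
      rw [closure_iUnion_of_finite] at hcl
      obtain ⟨k, hk⟩ := mem_iUnion.mp hcl
      obtain ⟨y', ⟨hy'U, hy'J, hy'W⟩, hspec⟩ := exists_specializes_of_mem_closure (hBc k) hk
      obtain ⟨z, hzZ, hzc⟩ := (hconn y).nonempty
      obtain ⟨l, hl⟩ := mem_iUnion.mp (hcov hzZ)
      have hJ : Jy Z U y l := ⟨z, ⟨hzZ, hzc⟩, hl⟩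
      have h1 : y ∈ W j l := hy l hJ
      have h2 : y' ∈ W j l := hspec.mem_open (hWo j l) h1
      have hcl' : closure ({y} : Set X) ⊆ closure {y'} :=
        closure_minimal (singleton_subset_iff.mpr (specializes_iff_mem_closure.mp hspec))
          isClosed_closure
      have hJ' : Jy Z U y' l := ⟨z, ⟨hzZ, hcl' hzc⟩, hl⟩
      have h3 : y' ∈ W l k := claim hconn U hUo hcov W hWo hW1 hW3 hW4 y' l k hJ' hy'J
      exact hy'W (hW3 j l k ⟨h2, h3⟩)
    · rintro ⟨hyU, hy⟩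
      refine ⟨hyU, fun k hk => ?_⟩
      by_contra hW
      exact hy (subset_closure (mem_iUnion.mpr ⟨k, hyU, hk, hW⟩))
  rw [heq]
  exact (hUo j).inter isClosed_closure.isOpen_compl

include hZ hconn hUo hUc hcov hWo hW1 hW2 hW3 hW4 in
theorem exists_shrink :
    ∃ U' : J → Set X, (∀ j, IsOpen (U' j)) ∧ (∀ j, U' j ⊆ U j) ∧ (⋃ j, U' j) = univ ∧
      ∀ j k, U' j ∩ U' k ⊆ W j k :=
  ⟨shrunk Z U W, isOpen_shrunk hZ hconn U hUo hUc hcov W hWo hW1 hW3 hW4,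
    fun _ _ hy => hy.1, shrunk_cover hconn U hUo hcov W hWo hW1 hW3 hW4,
    shrunk_inter hconn U hcov W hW2 hW3⟩

end Shrink

end Groth.Agent.H7.SP
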