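import Groth.Agent.S0386
import Groth.Agent.Lib.Helper1.CritFib4
import Mathlib

/-!
# The flat locus of `X → Y` over `S` commutes with base change `S' → S` (structure sheaf case)
-/

set_option autoImplicit false
universe u

open CategoryTheory CategoryTheory.Limits AlgebraicGeometry

namespace Groth.Agent.H7.FlatLocBC

open Groth.Agent.H1.CritFib

/-- flatness of a morphism of schemes at a point -/
def FlatAt {A B : Scheme.{u}} (p : A ⟶ B) (a : A) : Prop := (p.stalkMap a).hom.Flat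

theorem flat_of_comp_flat_of_flat {R S S' : Type u} [CommRing R] [CommRing S] [CommRing S']
    [IsLocalRing S] [IsLocalRing S'] (φ : R →+* S) (ψ : S →+* S') [IsLocalHom ψ]
    (h1 : ψ.Flat) (h2 : (ψ.comp φ).Flat) : φ.Flat := by
  letI := φ.toAlgebra
  letI := ψ.toAlgebra
  letI := (ψ.comp φ).toAlgebra
  haveI : IsScalarTower R S S' := IsScalarTower.of_algebraMap_eq fun _ => rfl
  haveI : Module.Flat S S' := h1
  haveI : Module.Flat R S' := h2
  haveI : IsLocalHom (algebraMap S S') := ‹IsLocalHom ψ›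
  haveI : Module.FaithfullyFlat S S' := Module.FaithfullyFlat.of_flat_of_isLocalHom
  exact Groth.Agent.H1.flat_of_flat_of_faithfullyFlat_module R S S'

theorem FlatAt.comp {A B C : Scheme.{u}} (p : A ⟶ B) (q : B ⟶ C) (a : A) (hp : FlatAt p a)
    (hq : FlatAt q (p a)) : FlatAt (p ≫ q) a := by
  unfold FlatAt at *
  rw [Scheme.Hom.stalkMap_comp]
  exact RingHom.Flat.comp hq hp

theorem FlatAt.of_comp {A B C : Scheme.{u}} (p : A ⟶ B) (q : B ⟶ C) (a : A) (hp : FlatAt p a)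
    (hpq : FlatAt (p ≫ q) a) : FlatAt q (p a) := by
  unfold FlatAt at *
  rw [Scheme.Hom.stalkMap_comp] at hpq
  exact flat_of_comp_flat_of_flat (q.stalkMap (p a)).hom (p.stalkMap a).hom hp hpq

theorem FlatAt.of_flat {A B : Scheme.{u}} (p : A ⟶ B) [Flat p] (a : A) : FlatAt p a :=
  Flat.stalkMap p a

theorem FlatAt.of_restrict {A B : Scheme.{u}} (p : A ⟶ B) (N : A.Opens) (h : Flat (N.ι ≫ p))
    (a : A) (ha : a ∈ N) : FlatAt p a := by
  have h1 : FlatAt (N.ι ≫ p) ⟨a, ha⟩ := FlatAt.of_flat _ _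
  exact FlatAt.of_comp N.ι p ⟨a, ha⟩ (FlatAt.of_flat _ _) h1

theorem flat_restrict_of_forall {A B : Scheme.{u}} (p : A ⟶ B) (N : A.Opens)
    (h : ∀ a ∈ N, FlatAt p a) : Flat (N.ι ≫ p) :=
  Flat.of_stalkMap (f := N.ι ≫ p) fun a' =>
    FlatAt.comp N.ι p a' (FlatAt.of_flat _ _) (h _ a'.2)

/-- flatness at a point of a morphism locally of finite presentation is preserved by base
change. -/
theorem FlatAt.baseChange {U V U₁ V₁ : Scheme.{u}} (k : U ⟶ V) [LocallyOfFinitePresentation k]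
    {pU : U₁ ⟶ U} {k₁ : U₁ ⟶ V₁} {pV : V₁ ⟶ V} (sq : IsPullback pU k₁ k pV) (ξ : U₁)
    (h : FlatAt k (pU ξ)) : FlatAt k₁ ξ := by
  have hopen : IsOpen {x : U | (k.stalkMap x).hom.Flat} := Groth.Agent.S0386.result k
  let N : U.Opens := ⟨_, hopen⟩
  have hN : Flat (N.ι ≫ k) := flat_restrict_of_forall k N fun a ha => ha
  have sq1 : IsPullback (pU ∣_ N) (pU ⁻¹ᵁ N).ι N.ι pU := isPullback_morphismRestrict pU N
  have sq2 := sq1.paste_vert sq
  have hN' : Flat ((pU ⁻¹ᵁ N).ι ≫ k₁) := MorphismProperty.of_isPullback (P := @Flat) sq2 hN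
  exact FlatAt.of_restrict k₁ (pU ⁻¹ᵁ N) hN' ξ h

/-- the pointwise fibre criterion with the fibre taken over an arbitrary point `s`. -/
theorem crit_gen {U V W : Scheme.{u}} (k : U ⟶ V) (g : V ⟶ W)
    [LocallyOfFinitePresentation (k ≫ g)] [LocallyOfFiniteType g]
    (x₀ : U) (s : W) (η : (k ≫ g).fiber s) (hη : (k ≫ g).fiberι s η = x₀)
    (h1 : FlatAt (k ≫ g) x₀) (h2 : FlatAt (MoreMor.fiberMap k g s) η) :
    FlatAt g (k x₀) ∧ FlatAt k x₀ := by
  have hs : (k ≫ g) x₀ = s := by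
    rw [← hη, ← Scheme.Hom.comp_apply, Scheme.Hom.fiber_fac, Scheme.Hom.comp_apply,
      Scheme.fromSpecResidueField_apply]
  subst hs
  have hη' : η = (k ≫ g).asFiber x₀ :=
    ((k ≫ g).fiberι _).isEmbedding.injective (hη.trans ((k ≫ g).fiberι_asFiber x₀).symm)
  subst hη'
  exact (crit_stalk_iff k g x₀).mp ⟨h1, h2⟩

/-- flatness of the base change to a field valued point of the base implies flatness. -/
theorem flatAt_of_flatAt_fieldFibre {U V W : Scheme.{u}} (k : U ⟶ V) (g : V ⟶ W)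
    [LocallyOfFinitePresentation (k ≫ g)] [LocallyOfFiniteType g]
    (K : Type u) [Field K] (t : Spec (.of K) ⟶ W) {Vt Ut : Scheme.{u}}
    {pV : Vt ⟶ V} {qV : Vt ⟶ Spec (.of K)} (hVt : IsPullback pV qV g t)
    {pU : Ut ⟶ U} {kt : Ut ⟶ Vt} (hUt : IsPullback pU kt k pV) (ξ : Ut)
    (h1 : FlatAt (k ≫ g) (pU ξ)) (h2 : FlatAt kt ξ) : FlatAt k (pU ξ) := by
  obtain ⟨⟨x, φ⟩, rfl⟩ := (Scheme.SpecToEquivOfField K W).symm.surjective t
  change IsPullback pV qV g (Spec.map φ ≫ W.fromSpecResidueField x) at hVt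
  have hφ : Flat (Spec.map φ) := by
    rw [Flat.SpecMap_iff]
    letI alg : Algebra (W.residueField x) K := φ.hom.toAlgebra
    exact (inferInstance : Module.Flat (W.residueField x) K)
  -- `β`
  have hβc : pV ≫ g = (qV ≫ Spec.map φ) ≫ W.fromSpecResidueField x := by
    rw [Category.assoc]; exact hVt.w
  obtain ⟨β, hβ1, hβ2⟩ : ∃ β : Vt ⟶ g.fiber x, β ≫ g.fiberι x = pV ∧
      β ≫ g.fiberToSpecResidueField x = qV ≫ Spec.map φ :=
    ⟨pullback.lift _ _ hβc, pullback.lift_fst _ _ _, pullback.lift_snd _ _ _⟩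
  have sqβ : IsPullback β qV (g.fiberToSpecResidueField x) (Spec.map φ) := by
    apply IsPullback.of_right (h₁₂ := g.fiberι x) (h₂₂ := W.fromSpecResidueField x) _ hβ2
      (IsPullback.of_hasPullback g (W.fromSpecResidueField x))
    rw [hβ1]
    exact hVt
  haveI : Flat β := MorphismProperty.of_isPullback (P := @Flat) sqβ.flip hφ
  -- `α`
  have sqUW : IsPullback pU (kt ≫ qV) (k ≫ g) (Spec.map φ ≫ W.fromSpecResidueField x) :=
    hUt.paste_vert hVt
  have hαc : pU ≫ (k ≫ g) = ((kt ≫ qV) ≫ Spec.map φ) ≫ W.fromSpecResidueField x := by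
    rw [Category.assoc]; exact sqUW.w
  obtain ⟨α, hα1, hα2⟩ : ∃ α : Ut ⟶ (k ≫ g).fiber x, α ≫ (k ≫ g).fiberι x = pU ∧
      α ≫ (k ≫ g).fiberToSpecResidueField x = (kt ≫ qV) ≫ Spec.map φ :=
    ⟨pullback.lift _ _ hαc, pullback.lift_fst _ _ _, pullback.lift_snd _ _ _⟩
  have sqα : IsPullback α (kt ≫ qV) ((k ≫ g).fiberToSpecResidueField x) (Spec.map φ) := by
    apply IsPullback.of_right (h₁₂ := (k ≫ g).fiberι x) (h₂₂ := W.fromSpecResidueField x) _ hα2
      (IsPullback.of_hasPullback (k ≫ g) (W.fromSpecResidueField x))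
    rw [hα1]
    exact sqUW
  haveI : Flat α := MorphismProperty.of_isPullback (P := @Flat) sqα.flip hφ
  -- commutation
  have hcomm : α ≫ MoreMor.fiberMap k g x = kt ≫ β := by
    apply pullback.hom_ext
    · change (α ≫ MoreMor.fiberMap k g x) ≫ g.fiberι x = (kt ≫ β) ≫ g.fiberι x
      rw [Category.assoc, fiberMap_fiberι, ← Category.assoc, hα1, Category.assoc, hβ1]
      exact hUt.w
    · change (α ≫ MoreMor.fiberMap k g x) ≫ g.fiberToSpecResidueField x =
        (kt ≫ β) ≫ g.fiberToSpecResidueField x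
      rw [Category.assoc, fiberMap_fiberToSpecResidueField, hα2, Category.assoc kt β, hβ2]
      simp only [Category.assoc]
  have c1 : FlatAt (kt ≫ β) ξ := FlatAt.comp kt β ξ h2 (FlatAt.of_flat _ _)
  rw [← hcomm] at c1
  have c2 := FlatAt.of_comp α _ ξ (FlatAt.of_flat α ξ) c1
  have hη : (k ≫ g).fiberι x (α ξ) = pU ξ := by
    rw [← Scheme.Hom.comp_apply, hα1]
  exact (crit_gen k g (pU ξ) x _ hη h1 c2).2

/-- **The flat locus commutes with base change**: for `U → V → W` with `U` flat and locally of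
finite presentation over `W` and `V` locally of finite type over `W`, and a base change
`W' → W`. -/
theorem flatAt_baseChange_iff {U V W U' V' W' : Scheme.{u}} (k : U ⟶ V) (g : V ⟶ W)
    [LocallyOfFinitePresentation (k ≫ g)] [Flat (k ≫ g)] [LocallyOfFiniteType g]
    {r : W' ⟶ W} {rV : V' ⟶ V} {g' : V' ⟶ W'} (hV : IsPullback rV g' g r)
    {rU : U' ⟶ U} {k' : U' ⟶ V'} (hU : IsPullback rU k' k rV) (u' : U') :
    FlatAt k' u' ↔ FlatAt k (rU u') := by
  haveI : LocallyOfFinitePresentation k := locallyOfFinitePresentation_of_comp k g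
  refine ⟨fun h => ?_, fun h => FlatAt.baseChange k hU u' h⟩
  have hUW : IsPullback rU (k' ≫ g') (k ≫ g) r := hU.paste_vert hV
  haveI : LocallyOfFinitePresentation (k' ≫ g') :=
    MorphismProperty.of_isPullback (P := @LocallyOfFinitePresentation) hUW inferInstance
  haveI : LocallyOfFiniteType g' :=
    MorphismProperty.of_isPullback (P := @LocallyOfFiniteType) hV inferInstance
  haveI : LocallyOfFinitePresentation k' := locallyOfFinitePresentation_of_comp k' g'
  have sqV' : IsPullback (g'.fiberι ((k' ≫ g') u')) (g'.fiberToSpecResidueField ((k' ≫ g') u')) g'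
      (W'.fromSpecResidueField ((k' ≫ g') u')) := IsPullback.of_hasPullback _ _
  have sqU' : IsPullback ((k' ≫ g').fiberι ((k' ≫ g') u')) (MoreMor.fiberMap k' g' ((k' ≫ g') u'))
      k' (g'.fiberι ((k' ≫ g') u')) := isPullback_fiberMap k' g' _
  have hξ : (k' ≫ g').fiberι ((k' ≫ g') u') ((k' ≫ g').asFiber u') = u' :=
    (k' ≫ g').fiberι_asFiber u'
  have h2 : FlatAt (MoreMor.fiberMap k' g' ((k' ≫ g') u')) ((k' ≫ g').asFiber u') :=
    FlatAt.baseChange k' sqU' _ (by rw [hξ]; exact h)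
  have sqV : IsPullback (g'.fiberι ((k' ≫ g') u') ≫ rV)
      (g'.fiberToSpecResidueField ((k' ≫ g') u')) g
      (W'.fromSpecResidueField ((k' ≫ g') u') ≫ r) := (sqV'.flip.paste_vert hV.flip).flip
  have sqU : IsPullback ((k' ≫ g').fiberι ((k' ≫ g') u') ≫ rU)
      (MoreMor.fiberMap k' g' ((k' ≫ g') u')) k (g'.fiberι ((k' ≫ g') u') ≫ rV) :=
    sqU'.paste_horiz hU
  have h3 := flatAt_of_flatAt_fieldFibre k g (W'.residueField ((k' ≫ g') u'))
    (W'.fromSpecResidueField ((k' ≫ g') u') ≫ r) sqV sqU ((k' ≫ g').asFiber u')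
    (FlatAt.of_flat _ _) h2
  rwa [Scheme.Hom.comp_apply, hξ] at h3

end Groth.Agent.H7.FlatLocBC
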