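import Mathlib
universe u v

namespace Groth.Agent.H7.ArtFlat

open TensorProduct

section
variable {A : Type u} [CommRing A]

theorem lTensor_injective_of_equiv {T T' : Type*} [AddCommGroup T] [Module A T]
    [AddCommGroup T'] [Module A T'] {M N : Type*} [AddCommGroup M] [Module A M]
    [AddCommGroup N] [Module A N] (f : M →ₗ[A] N) (e : T ≃ₗ[A] T')
    (h : Function.Injective (f.lTensor T')) : Function.Injective (f.lTensor T) := by
  have hcomm : (e.toLinearMap.rTensor N).comp (f.lTensor T) =
      (f.lTensor T').comp (e.toLinearMap.rTensor M) := by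
    rw [LinearMap.rTensor_comp_lTensor, LinearMap.lTensor_comp_rTensor]
  have hinj : Function.Injective (e.toLinearMap.rTensor M) := by
    have : (e.symm.toLinearMap.rTensor M).comp (e.toLinearMap.rTensor M) = LinearMap.id := by
      rw [← LinearMap.rTensor_comp]; simp
    exact Function.LeftInverse.injective (g := e.symm.toLinearMap.rTensor M)
      (fun x => LinearMap.congr_fun this x)
  intro x y hxy
  apply hinj
  apply h
  have := congrArg (e.toLinearMap.rTensor N) hxy
  rw [← LinearMap.comp_apply, ← LinearMap.comp_apply, hcomm] at this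
  exact this

end

theorem eng (A : Type u) [CommRing A] [IsLocalRing A] [IsArtinianRing A]
    {M N : Type v} [AddCommGroup M] [Module A M] [AddCommGroup N] [Module A N] [Module.Flat A N]
    (f : M →ₗ[A] N) (hf : Function.Injective (f.lTensor (IsLocalRing.ResidueField A)))
    (T : Type u) [AddCommGroup T] [Module A T] [hT : Module.Finite A T] :
    Function.Injective (f.lTensor T) := by
  induction hT using IsNoetherianRing.induction_on_isQuotientEquivQuotientPrime A with
  | subsingleton T =>
    intro x y _
    exact Subsingleton.elim _ _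
  | quotient T p e =>
    have hp : p.asIdeal = IsLocalRing.maximalIdeal A :=
      IsLocalRing.eq_maximalIdeal (IsArtinianRing.isMaximal_of_isPrime p.asIdeal)
    let e' : T ≃ₗ[A] (A ⧸ IsLocalRing.maximalIdeal A) :=
      e.trans (Submodule.quotEquivOfEq _ _ hp)
    exact lTensor_injective_of_equiv f e' hf
  | exact T₁ T₂ T₃ a b ha hb hab h₁ h₃ =>
    rw [injective_iff_map_eq_zero]
    intro x hx
    have h1 : (f.lTensor T₃) (b.rTensor M x) = 0 := by
      have : (f.lTensor T₃).comp (b.rTensor M) = (b.rTensor N).comp (f.lTensor T₂) := by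
        rw [LinearMap.rTensor_comp_lTensor, LinearMap.lTensor_comp_rTensor]
      rw [← LinearMap.comp_apply, this, LinearMap.comp_apply, hx, map_zero]
    have h2 : b.rTensor M x = 0 := (injective_iff_map_eq_zero _).mp h₃ _ h1
    obtain ⟨y, rfl⟩ := (rTensor_exact M hab hb x).mp h2
    have h3 : (a.rTensor N) (f.lTensor T₁ y) = 0 := by
      have : (a.rTensor N).comp (f.lTensor T₁) = (f.lTensor T₂).comp (a.rTensor M) := by
        rw [LinearMap.rTensor_comp_lTensor, LinearMap.lTensor_comp_rTensor]
      rw [← LinearMap.comp_apply, this, LinearMap.comp_apply, hx]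
    have h4 : f.lTensor T₁ y = 0 :=
      (injective_iff_map_eq_zero _).mp (Module.Flat.rTensor_preserves_injective_linearMap a ha) _ h3
    rw [(injective_iff_map_eq_zero _).mp h₁ _ h4, map_zero]

theorem injective_of_lTensor_residue (A : Type u) [CommRing A] [IsLocalRing A] [IsArtinianRing A]
    {M N : Type v} [AddCommGroup M] [Module A M] [AddCommGroup N] [Module A N] [Module.Flat A N]
    (f : M →ₗ[A] N) (hf : Function.Injective (f.lTensor (IsLocalRing.ResidueField A))) :
    Function.Injective f := by
  have h := eng A f hf A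
  rw [injective_iff_map_eq_zero]
  intro x hx
  have h1 : (f.lTensor A) ((1 : A) ⊗ₜ[A] x) = 0 := by
    rw [LinearMap.lTensor_tmul, hx, tmul_zero]
  have h2 := (injective_iff_map_eq_zero _).mp h _ h1
  have h3 := congrArg (TensorProduct.lid A M) h2
  rwa [TensorProduct.lid_tmul, one_smul, map_zero] at h3

theorem subsingleton_of_tensor_residue (A : Type u) [CommRing A] [IsLocalRing A] [IsArtinianRing A]
    (C : Type v) [AddCommGroup C] [Module A C]
    (h : Subsingleton (IsLocalRing.ResidueField A ⊗[A] C)) : Subsingleton C := by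
  have e := TensorProduct.quotTensorEquivQuotSMul C (IsLocalRing.maximalIdeal A)
  have h0 : Subsingleton ((A ⧸ IsLocalRing.maximalIdeal A) ⊗[A] C) := h
  have h1 : Subsingleton (C ⧸ (IsLocalRing.maximalIdeal A • (⊤ : Submodule A C))) :=
    e.symm.toEquiv.subsingleton
  rw [Submodule.Quotient.subsingleton_iff] at h1
  have hnil : IsNilpotent (IsLocalRing.maximalIdeal A) := by
    rw [← IsLocalRing.jacobson_eq_maximalIdeal (⊥ : Ideal A) bot_ne_top]
    exact IsArtinianRing.isNilpotent_jacobson_bot
  obtain ⟨n, hn⟩ := hnil
  have h2 : ∀ n : ℕ, (IsLocalRing.maximalIdeal A) ^ n • (⊤ : Submodule A C) = ⊤ := by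
    intro n
    induction n with
    | zero => rw [pow_zero, Ideal.one_eq_top, Submodule.top_smul]
    | succ n ih => rw [pow_succ, Submodule.mul_smul, h1, ih]
  have h3 := h2 n
  rw [hn, Ideal.zero_eq_bot, Submodule.bot_smul] at h3
  rw [← Submodule.subsingleton_iff A]
  exact subsingleton_of_bot_eq_top h3

theorem surjective_of_lTensor_residue (A : Type u) [CommRing A] [IsLocalRing A] [IsArtinianRing A]
    {P L : Type v} [AddCommGroup P] [Module A P] [AddCommGroup L] [Module A L]
    (h : P →ₗ[A] L) (hs : Function.Surjective (h.lTensor (IsLocalRing.ResidueField A))) :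
    Function.Surjective h := by
  have hex : Function.Exact h (LinearMap.range h).mkQ := by
    intro a
    rw [Submodule.mkQ_apply, Submodule.Quotient.mk_eq_zero]
    rfl
  have hsurj : Function.Surjective (LinearMap.range h).mkQ := Submodule.mkQ_surjective _
  have hex' := lTensor_exact (IsLocalRing.ResidueField A) hex hsurj
  have hsurj' := LinearMap.lTensor_surjective (IsLocalRing.ResidueField A) hsurj
  have hsub : Subsingleton (IsLocalRing.ResidueField A ⊗[A] (L ⧸ LinearMap.range h)) := by
    have hz : ∀ z : IsLocalRing.ResidueField A ⊗[A] (L ⧸ LinearMap.range h), z = 0 := by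
      intro z
      obtain ⟨w, rfl⟩ := hsurj' z
      obtain ⟨u, rfl⟩ := hs w
      exact (hex' _).mpr ⟨u, rfl⟩
    exact ⟨fun z z' => by rw [hz z, hz z']⟩
  have hC := subsingleton_of_tensor_residue A _ hsub
  intro a
  have : (LinearMap.range h).mkQ a = 0 := Subsingleton.elim _ _
  rw [Submodule.mkQ_apply, Submodule.Quotient.mk_eq_zero] at this
  exact this

theorem flat_of_lTensor_residue_injective (A : Type u) [CommRing A] [IsLocalRing A]
    [IsArtinianRing A]
    {M N P : Type v} [AddCommGroup M] [Module A M] [AddCommGroup N] [Module A N]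
    [AddCommGroup P] [Module A P] [Module.Flat A N] (f : M →ₗ[A] N) (g : N →ₗ[A] P)
    (hg : Function.Surjective g) (hfg : Function.Exact f g)
    (hf : Function.Injective (f.lTensor (IsLocalRing.ResidueField A))) : Module.Flat A P := by
  rw [Module.Flat.iff_lTensor_injective']
  intro I
  have hI : Function.Exact I.subtype I.mkQ := by
    intro a
    rw [Submodule.mkQ_apply, Submodule.Quotient.mk_eq_zero]
    simp
  refine lTensor_injective_of_exact_of_exact_of_rTensor_injective hfg hg hI
    (Submodule.mkQ_surjective _) ?_ ?_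
  · rw [← LinearMap.lTensor_inj_iff_rTensor_inj]
    exact eng A f hf (A ⧸ I)
  · exact Module.Flat.lTensor_preserves_injective_linearMap _ I.injective_subtype

theorem flat_ker_of_flat (A : Type u) [CommRing A]
    {M N P : Type v} [AddCommGroup M] [Module A M] [AddCommGroup N] [Module A N]
    [AddCommGroup P] [Module A P] [Module.Flat A N] [Module.Flat A P]
    (f : M →ₗ[A] N) (g : N →ₗ[A] P)
    (hf : Function.Injective f) (hg : Function.Surjective g) (hfg : Function.Exact f g) :
    Module.Flat A M := by
  rw [Module.Flat.iff_lTensor_injective']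
  intro I
  have h1 : Function.Injective (f.rTensor I) := by
    rw [← LinearMap.lTensor_inj_iff_rTensor_inj]
    exact LinearMap.lTensor_injective_of_exact_of_flat g hg f hf hfg I
  have h2 : Function.Injective (I.subtype.lTensor N) :=
    Module.Flat.lTensor_preserves_injective_linearMap _ I.injective_subtype
  have hcomm : (f.rTensor A).comp (I.subtype.lTensor M) = (I.subtype.lTensor N).comp (f.rTensor I) := by
    rw [LinearMap.rTensor_comp_lTensor, LinearMap.lTensor_comp_rTensor]
  have h3 : Function.Injective ((f.rTensor A).comp (I.subtype.lTensor M)) := by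
    rw [hcomm]
    exact h2.comp h1
  exact Function.Injective.of_comp h3

theorem complex_exact (A : Type u) [CommRing A] [IsLocalRing A] [IsArtinianRing A]
    (P Q R M : Type v) [AddCommGroup P] [Module A P] [AddCommGroup Q] [Module A Q]
    [AddCommGroup R] [Module A R] [AddCommGroup M] [Module A M]
    [Module.Flat A R]
    (f : P →ₗ[A] Q) (g : Q →ₗ[A] R) (h : R →ₗ[A] M)
    (hfg : g ∘ₗ f = 0) (hgh : Function.Exact g h) (hh : Function.Surjective h)
    (hred : Function.Exact (f.lTensor (IsLocalRing.ResidueField A))
      (g.lTensor (IsLocalRing.ResidueField A))) :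
    Module.Flat A M ∧ Function.Exact f g := by
  have hle : LinearMap.range f ≤ LinearMap.ker g := by
    rintro _ ⟨x, rfl⟩; exact LinearMap.congr_fun hfg x
  let gb : (Q ⧸ LinearMap.range f) →ₗ[A] R := (LinearMap.range f).liftQ g hle
  let q := (LinearMap.range f).mkQ
  have hq : Function.Surjective q := Submodule.mkQ_surjective _
  have hgq : gb ∘ₗ q = g := Submodule.liftQ_mkQ _ _ _
  have hqf : q ∘ₗ f = 0 := by
    ext x
    simp only [LinearMap.comp_apply, LinearMap.zero_apply, q, Submodule.mkQ_apply,
      Submodule.Quotient.mk_eq_zero]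
    exact ⟨x, rfl⟩
  have hgb : Function.Injective (gb.lTensor (IsLocalRing.ResidueField A)) := by
    rw [injective_iff_map_eq_zero]
    intro z hz
    obtain ⟨w, rfl⟩ := LinearMap.lTensor_surjective (IsLocalRing.ResidueField A) hq z
    have h1 : (g.lTensor (IsLocalRing.ResidueField A)) w = 0 := by
      rw [← hgq, LinearMap.lTensor_comp, LinearMap.comp_apply]; exact hz
    obtain ⟨u, rfl⟩ := (hred w).mp h1
    rw [← LinearMap.comp_apply, ← LinearMap.lTensor_comp, hqf, LinearMap.lTensor_zero,
      LinearMap.zero_apply]
  have hinj : Function.Injective gb := injective_of_lTensor_residue A gb hgb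
  have hex : Function.Exact gb h := by
    intro r
    rw [hgh r]
    constructor
    · rintro ⟨x, rfl⟩; exact ⟨q x, LinearMap.congr_fun hgq x⟩
    · rintro ⟨y, rfl⟩
      obtain ⟨x, rfl⟩ := hq y
      exact ⟨x, (LinearMap.congr_fun hgq x).symm⟩
  refine ⟨flat_of_lTensor_residue_injective A gb h hh hex hgb, ?_⟩
  intro x
  constructor
  · intro hx
    have h1 : gb (q x) = 0 := by rw [← LinearMap.comp_apply, hgq]; exact hx
    have h2 := (injective_iff_map_eq_zero _).mp hinj _ h1
    rw [Submodule.mkQ_apply, Submodule.Quotient.mk_eq_zero] at h2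
    exact h2
  · rintro ⟨y, rfl⟩; exact LinearMap.congr_fun hfg y

end Groth.Agent.H7.ArtFlat
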