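import Mathlib
import Groth.Prelude.Def_EtMil
import Groth.Agent.Lib.Helper7.Old.Milnor
universe u

namespace Groth.Agent.H7.Milnor

open TensorProduct

section
variable {B' B A' A : Type u} [CommRing B'] [CommRing B] [CommRing A'] [CommRing A]
  [Algebra B' B] [Algebra B' A'] [Algebra B A] [Algebra A' A] [Algebra B' A]
  [IsScalarTower B' B A] [IsScalarTower B' A' A]

omit [Algebra B' A] [IsScalarTower B' B A] [IsScalarTower B' A' A] in
/-- every element of `B ⊗ L'` is of the form `1 ⊗ l`. -/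
theorem exists_one_tmul (hsq : EtMil.IsFibreSquare B' B A' A)
    (L' : Type u) [AddCommGroup L'] [Module B' L'] (z : B ⊗[B'] L') :
    ∃ l : L', z = (1 : B) ⊗ₜ[B'] l := by
  induction z using TensorProduct.induction_on with
  | zero => exact ⟨0, (TensorProduct.tmul_zero _ _).symm⟩
  | tmul b l =>
    obtain ⟨b', rfl⟩ := surj_B hsq b
    refine ⟨b' • l, ?_⟩
    rw [← TensorProduct.smul_tmul, Algebra.smul_def, mul_one]
  | add x y hx hy =>
    obtain ⟨a₁, rfl⟩ := hx
    obtain ⟨a₂, rfl⟩ := hy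
    exact ⟨a₁ + a₂, (TensorProduct.tmul_add _ _ _).symm⟩

omit [Algebra B' A] [IsScalarTower B' B A] [IsScalarTower B' A' A] in
/-- elements of `ker (A' → A)` lift to `ker (B' → B)`. -/
theorem exists_lift_ker (hsq : EtMil.IsFibreSquare B' B A' A) (i : A')
    (hi : algebraMap A' A i = 0) : ∃ j : B', algebraMap B' B j = 0 ∧ algebraMap B' A' j = i := by
  have hc : algebraMap B A 0 = algebraMap A' A i := by rw [map_zero, hi]
  obtain ⟨j, ⟨hj1, hj2⟩, -⟩ := hsq.2 0 i hc
  exact ⟨j, hj1, hj2⟩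

theorem S6916 (hsq : EtMil.IsFibreSquare B' B A' A)
    (L' : Type u) [AddCommGroup L'] [Module B' L'] (x : B ⊗[B'] L') (y : A' ⊗[B'] L')
    (hxy : (IsScalarTower.toAlgHom B' B A).toLinearMap.rTensor L' x =
      (IsScalarTower.toAlgHom B' A' A).toLinearMap.rTensor L' y) :
    ∃ l : L', (1 : B) ⊗ₜ[B'] l = x ∧ (1 : A') ⊗ₜ[B'] l = y := by
  obtain ⟨l₁, rfl⟩ := exists_one_tmul hsq L' x
  set I' : Submodule B' A' := (RingHom.ker (algebraMap A' A)).restrictScalars B' with hI'
  set g : A' →ₗ[B'] A := (IsScalarTower.toAlgHom B' A' A).toLinearMap with hg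
  have hex : Function.Exact I'.subtype g := by
    intro a'
    constructor
    · intro h
      refine ⟨⟨a', ?_⟩, rfl⟩
      simpa [hI', hg] using h
    · rintro ⟨⟨i, hi⟩, rfl⟩
      simpa [hI', hg] using hi
  have hsurj : Function.Surjective g := hsq.1
  have hex' := rTensor_exact L' hex hsurj
  have hz : g.rTensor L' (y - (1 : A') ⊗ₜ[B'] l₁) = 0 := by
    rw [map_sub, ← hxy]
    simp [hg]
  obtain ⟨w, hw⟩ := (hex' _).mp hz
  have key : ∀ w : I' ⊗[B'] L', ∃ l : L', ((1 : B) ⊗ₜ[B'] l : B ⊗[B'] L') = 0 ∧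
      (1 : A') ⊗ₜ[B'] l = I'.subtype.rTensor L' w := by
    intro w
    induction w using TensorProduct.induction_on with
    | zero => exact ⟨0, TensorProduct.tmul_zero _ _, by simp⟩
    | tmul i l =>
      obtain ⟨i, hi⟩ := i
      have hi' : algebraMap A' A i = 0 := by simpa [hI'] using hi
      obtain ⟨j, hj1, hj2⟩ := exists_lift_ker hsq i hi'
      refine ⟨j • l, ?_, ?_⟩
      · rw [← TensorProduct.smul_tmul, Algebra.smul_def, mul_one, hj1, TensorProduct.zero_tmul]
      · rw [← TensorProduct.smul_tmul, Algebra.smul_def, mul_one, hj2]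
        simp
    | add w₁ w₂ h₁ h₂ =>
      obtain ⟨l₁, h11, h12⟩ := h₁
      obtain ⟨l₂, h21, h22⟩ := h₂
      refine ⟨l₁ + l₂, ?_, ?_⟩
      · rw [TensorProduct.tmul_add, h11, h21, add_zero]
      · rw [TensorProduct.tmul_add, h12, h22, map_add]
  obtain ⟨l₂, h1, h2⟩ := key w
  refine ⟨l₁ + l₂, ?_, ?_⟩
  · rw [TensorProduct.tmul_add, h1, add_zero]
  · rw [TensorProduct.tmul_add, h2, hw]; abel

theorem S12081 (hsq : EtMil.IsFibreSquare B' B A' A)
    (D' C' : Type u) [CommRing D'] [CommRing C'] [Algebra B' D'] [Algebra A' C']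
    [Algebra D' C'] [Algebra B' C'] [IsScalarTower B' A' C'] [IsScalarTower B' D' C']
    [Algebra.IsPushout B' A' D' C'] :
    (algebraMap D' C') '' ((RingHom.ker (algebraMap B' B)).map (algebraMap B' D') : Set D') =
      ((RingHom.ker (algebraMap A' A)).map (algebraMap A' C') : Set C') := by
  have hbc : IsBaseChange A' (IsScalarTower.toAlgHom B' D' C').toLinearMap :=
    Algebra.IsPushout.out
  set JD : Ideal D' := (RingHom.ker (algebraMap B' B)).map (algebraMap B' D') with hJD
  set S : Submodule D' C' := Submodule.map (Algebra.linearMap D' C') JD with hS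
  have hSmem : ∀ c : C', c ∈ S ↔ c ∈ (algebraMap D' C') '' (JD : Set D') := by
    intro c
    simp only [hS, Submodule.mem_map, Algebra.linearMap_apply, Set.mem_image, SetLike.mem_coe]
  -- S is stable under A'
  have hA' : ∀ (a' : A') (x : D'), x ∈ JD → a' • algebraMap D' C' x ∈ S := by
    intro a' x hx
    rw [hJD] at hx
    unfold Ideal.map at hx
    induction hx using Submodule.span_induction with
    | mem x hx =>
      obtain ⟨j, hj, rfl⟩ := hx
      have hj' : algebraMap B' B j = 0 := hj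
      refine (hSmem _).mpr ⟨algebraMap B' D' (twist hsq j hj' a'), ?_, ?_⟩
      · exact Ideal.mem_map_of_mem _ (twist_B hsq j hj' a')
      · rw [← IsScalarTower.algebraMap_apply, IsScalarTower.algebraMap_apply B' A' C', twist_A',
          map_mul, ← IsScalarTower.algebraMap_apply, ← IsScalarTower.algebraMap_apply,
          Algebra.smul_def]
    | zero => simp
    | add x y _ _ hx hy => rw [map_add, smul_add]; exact add_mem hx hy
    | smul d x _ hx =>
      rw [smul_eq_mul, map_mul, ← mul_smul_comm, ← Algebra.smul_def]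
      exact Submodule.smul_mem _ _ hx
  have hA'S : ∀ (a' : A') (s : C'), s ∈ S → a' • s ∈ S := by
    intro a' s hs
    obtain ⟨x, hx, rfl⟩ := (hSmem s).mp hs
    exact hA' a' x hx
  have hC' : ∀ (c s : C'), s ∈ S → c * s ∈ S := by
    intro c s hs
    refine hbc.inductionOn c (fun c => c * s ∈ S) ?_ ?_ ?_ ?_
    · simp
    · intro d
      change algebraMap D' C' d * s ∈ S
      rw [← Algebra.smul_def]
      exact Submodule.smul_mem _ _ hs
    · intro a' n hn
      rw [smul_mul_assoc]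
      exact hA'S a' _ hn
    · intro n₁ n₂ h₁ h₂
      rw [add_mul]; exact add_mem h₁ h₂
  ext c
  rw [← hSmem]
  constructor
  · intro hc
    obtain ⟨x, hx, rfl⟩ := (hSmem c).mp hc
    have h1 : algebraMap D' C' x ∈ JD.map (algebraMap D' C') := Ideal.mem_map_of_mem _ hx
    rw [hJD, Ideal.map_map, ← IsScalarTower.algebraMap_eq,
      IsScalarTower.algebraMap_eq B' A' C', ← Ideal.map_map] at h1
    refine Ideal.map_mono ?_ h1
    rw [Ideal.map_le_iff_le_comap]
    intro j hj
    have hj' : algebraMap B' B j = 0 := hj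
    change algebraMap A' A (algebraMap B' A' j) = 0
    rw [← IsScalarTower.algebraMap_apply, IsScalarTower.algebraMap_apply B' B A, hj', map_zero]
  · intro hc
    have hc' : c ∈ (RingHom.ker (algebraMap A' A)).map (algebraMap A' C') := hc
    unfold Ideal.map at hc'
    induction hc' using Submodule.span_induction with
    | mem x hx =>
      obtain ⟨i, hi, rfl⟩ := hx
      obtain ⟨j, hj1, hj2⟩ := exists_lift_ker hsq i hi
      refine (hSmem _).mpr ⟨algebraMap B' D' j, Ideal.mem_map_of_mem _ hj1, ?_⟩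
      rw [← hj2, ← IsScalarTower.algebraMap_apply, ← IsScalarTower.algebraMap_apply]
    | zero => exact zero_mem _
    | add x y _ _ hx hy => exact add_mem (hx (by assumption)) (hy (by assumption))
    | smul d x _ hx => exact hC' d x (hx (by assumption))

end

section Quot
variable {R S : Type u} [CommRing R] [CommRing S] [Algebra R S]

theorem exists_one_tmul' (hs : Function.Surjective (algebraMap R S))
    (M : Type u) [AddCommGroup M] [Module R M] (z : S ⊗[R] M) :
    ∃ m : M, z = (1 : S) ⊗ₜ[R] m := by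
  induction z using TensorProduct.induction_on with
  | zero => exact ⟨0, (TensorProduct.tmul_zero _ _).symm⟩
  | tmul b l =>
    obtain ⟨b', rfl⟩ := hs b
    refine ⟨b' • l, ?_⟩
    rw [← TensorProduct.smul_tmul, Algebra.smul_def, mul_one]
  | add x y hx hy =>
    obtain ⟨a₁, rfl⟩ := hx
    obtain ⟨a₂, rfl⟩ := hy
    exact ⟨a₁ + a₂, (TensorProduct.tmul_add _ _ _).symm⟩

theorem one_tmul_eq_zero_of_mem (M : Type u) [AddCommGroup M] [Module R M] (m : M)
    (hm : m ∈ (RingHom.ker (algebraMap R S)) • (⊤ : Submodule R M)) :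
    ((1 : S) ⊗ₜ[R] m : S ⊗[R] M) = 0 := by
  refine Submodule.smul_induction_on hm ?_ ?_
  · intro i hi m _
    rw [← TensorProduct.smul_tmul, Algebra.smul_def, mul_one, (RingHom.mem_ker).mp hi,
      TensorProduct.zero_tmul]
  · intro x y hx hy
    rw [TensorProduct.tmul_add, hx, hy, add_zero]

theorem mem_of_one_tmul_eq_zero (hs : Function.Surjective (algebraMap R S))
    (M : Type u) [AddCommGroup M] [Module R M] (m : M)
    (hm : ((1 : S) ⊗ₜ[R] m : S ⊗[R] M) = 0) :
    m ∈ (RingHom.ker (algebraMap R S)) • (⊤ : Submodule R M) := by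
  set I : Ideal R := RingHom.ker (algebraMap R S) with hI
  have hex : Function.Exact (Submodule.subtype I) (Algebra.linearMap R S) := by
    intro a
    constructor
    · intro h; exact ⟨⟨a, h⟩, rfl⟩
    · rintro ⟨⟨i, hi⟩, rfl⟩; exact hi
  have hex' := rTensor_exact M hex hs
  have h0 : (Algebra.linearMap R S).rTensor M ((1 : R) ⊗ₜ[R] m) = 0 := by
    simpa using hm
  obtain ⟨w, hw⟩ := (hex' _).mp h0
  have key : ∀ w : I ⊗[R] M, TensorProduct.lid R M ((Submodule.subtype I).rTensor M w) ∈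
      I • (⊤ : Submodule R M) := by
    intro w
    induction w using TensorProduct.induction_on with
    | zero => simp
    | tmul i m =>
      simp only [LinearMap.rTensor_tmul, Submodule.subtype_apply, TensorProduct.lid_tmul]
      exact Submodule.smul_mem_smul i.2 trivial
    | add x y hx hy => rw [map_add, map_add]; exact add_mem hx hy
  have := key w
  rwa [hw, TensorProduct.lid_tmul, one_smul] at this

end Quot

section
variable {B' B A' A : Type u} [CommRing B'] [CommRing B] [CommRing A'] [CommRing A]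
  [Algebra B' B] [Algebra B' A'] [Algebra B A] [Algebra A' A] [Algebra B' A]
  [IsScalarTower B' B A] [IsScalarTower B' A' A]

theorem S6899 (hsq : EtMil.IsFibreSquare B' B A' A)
    {N₁ N₂ M₁' M₂' : Type u} [AddCommGroup N₁] [Module B N₁] [Module B' N₁] [IsScalarTower B' B N₁]
    [AddCommGroup N₂] [Module B N₂] [Module B' N₂] [IsScalarTower B' B N₂]
    [AddCommGroup M₁'] [Module A' M₁'] [Module B' M₁'] [IsScalarTower B' A' M₁']
    [AddCommGroup M₂'] [Module A' M₂'] [Module B' M₂'] [IsScalarTower B' A' M₂']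
    (φ₁ : A ⊗[B] N₁ ≃ₗ[A] A ⊗[A'] M₁') (φ₂ : A ⊗[B] N₂ ≃ₗ[A] A ⊗[A'] M₂') (u : N₁ →ₗ[B] N₂)
    (v : M₁' →ₗ[A'] M₂')
    (hc : (v.baseChange A).comp φ₁.toLinearMap = φ₂.toLinearMap.comp (u.baseChange A))
    (hu : Function.Surjective u) (hv : Function.Surjective v) :
    ∀ y : N₂ × M₂', y ∈ EtMil.glue B' φ₂ →
      ∃ x : N₁ × M₁', x ∈ EtMil.glue B' φ₁ ∧ u x.1 = y.1 ∧ v x.2 = y.2 := by
  rintro ⟨n₂, m₂⟩ hy
  have hy' : φ₂ ((1 : A) ⊗ₜ[B] n₂) = (1 : A) ⊗ₜ[A'] m₂ := hy
  obtain ⟨n₁, rfl⟩ := hu n₂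
  obtain ⟨m₁, hm₁⟩ := exists_one_tmul' hsq.1 M₁' (φ₁ ((1 : A) ⊗ₜ[B] n₁))
  have h1 : ((1 : A) ⊗ₜ[A'] (v m₁ - m₂) : A ⊗[A'] M₂') = 0 := by
    have := LinearMap.congr_fun hc ((1 : A) ⊗ₜ[B] n₁)
    simp only [LinearMap.comp_apply, LinearEquiv.coe_coe, hm₁, LinearMap.baseChange_tmul, hy']
      at this
    rw [TensorProduct.tmul_sub, this, sub_self]
  have h2 := mem_of_one_tmul_eq_zero hsq.1 M₂' _ h1
  have h3 : (RingHom.ker (algebraMap A' A)) • (⊤ : Submodule A' M₂') =
      Submodule.map v ((RingHom.ker (algebraMap A' A)) • (⊤ : Submodule A' M₁')) := by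
    rw [Submodule.map_smul'', Submodule.map_top, LinearMap.range_eq_top.mpr hv]
  rw [h3] at h2
  obtain ⟨δ, hδ, hδ2⟩ := h2
  refine ⟨(n₁, m₁ - δ), ?_, rfl, ?_⟩
  · change φ₁ ((1 : A) ⊗ₜ[B] n₁) = (1 : A) ⊗ₜ[A'] (m₁ - δ)
    rw [TensorProduct.tmul_sub, one_tmul_eq_zero_of_mem M₁' δ hδ, sub_zero, hm₁]
  · change v (m₁ - δ) = m₂
    rw [map_sub, hδ2]; abel

end

end Groth.Agent.H7.Milnor
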