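import Mathlib
import Groth.Prelude.Def_EtMil
import Groth.Agent.Lib.Helper7.Milnor2
universe u

namespace Groth.Agent.H7.Milnor

open TensorProduct

section
variable {B' B A' A : Type u} [CommRing B'] [CommRing B] [CommRing A'] [CommRing A]
  [Algebra B' B] [Algebra B' A'] [Algebra B A] [Algebra A' A] [Algebra B' A]
  [IsScalarTower B' B A] [IsScalarTower B' A' A]
variable {N M' : Type u} [AddCommGroup N] [Module B N] [Module B' N] [IsScalarTower B' B N]
  [AddCommGroup M'] [Module A' M'] [Module B' M'] [IsScalarTower B' A' M']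

theorem mem_glue_iff (φ : A ⊗[B] N ≃ₗ[A] A ⊗[A'] M') (x : N × M') :
    x ∈ EtMil.glue B' φ ↔ φ ((1 : A) ⊗ₜ[B] x.1) = (1 : A) ⊗ₜ[A'] x.2 := Iff.rfl

/-- (L0) every `n` extends to a pair in the glued module. -/
theorem exists_snd (hsq : EtMil.IsFibreSquare B' B A' A) (φ : A ⊗[B] N ≃ₗ[A] A ⊗[A'] M') (n : N) :
    ∃ p : M', (n, p) ∈ EtMil.glue B' φ := by
  obtain ⟨p, hp⟩ := exists_one_tmul' hsq.1 M' (φ ((1 : A) ⊗ₜ[B] n))
  exact ⟨p, hp⟩

/-- (L1) -/
theorem zero_mem_glue (φ : A ⊗[B] N ≃ₗ[A] A ⊗[A'] M') (δ : M')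
    (hδ : δ ∈ (RingHom.ker (algebraMap A' A)) • (⊤ : Submodule A' M')) :
    ((0 : N), δ) ∈ EtMil.glue B' φ := by
  change φ ((1 : A) ⊗ₜ[B] (0 : N)) = (1 : A) ⊗ₜ[A'] δ
  rw [one_tmul_eq_zero_of_mem M' δ hδ, TensorProduct.tmul_zero, map_zero]

/-- (L2) the second projections of glued pairs span `M'` over `A'`. -/
theorem span_snd_eq_top (hsq : EtMil.IsFibreSquare B' B A' A) (φ : A ⊗[B] N ≃ₗ[A] A ⊗[A'] M')
    (m : M') : m ∈ Submodule.span A' {p : M' | ∃ n : N, (n, p) ∈ EtMil.glue B' φ} := by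
  set P : Set M' := {p : M' | ∃ n : N, (n, p) ∈ EtMil.glue B' φ} with hP
  have key : ∀ w : A ⊗[B] N, ∃ q ∈ Submodule.span A' P, φ w = (1 : A) ⊗ₜ[A'] q := by
    intro w
    induction w using TensorProduct.induction_on with
    | zero => exact ⟨0, zero_mem _, by simp⟩
    | tmul a n =>
      obtain ⟨a', rfl⟩ := hsq.1 a
      obtain ⟨p, hp⟩ := exists_snd hsq φ n
      refine ⟨a' • p, Submodule.smul_mem _ _ (Submodule.subset_span ⟨n, hp⟩), ?_⟩
      have h1 : (algebraMap A' A a') ⊗ₜ[B] n = (algebraMap A' A a') • ((1 : A) ⊗ₜ[B] n) := by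
        rw [TensorProduct.smul_tmul', smul_eq_mul, mul_one]
      rw [h1, map_smul, (mem_glue_iff φ (n, p)).mp hp, TensorProduct.smul_tmul', smul_eq_mul,
        mul_one, ← TensorProduct.smul_tmul, Algebra.smul_def, mul_one]
    | add x y hx hy =>
      obtain ⟨q₁, hq₁, h₁⟩ := hx
      obtain ⟨q₂, hq₂, h₂⟩ := hy
      exact ⟨q₁ + q₂, add_mem hq₁ hq₂, by rw [map_add, h₁, h₂, TensorProduct.tmul_add]⟩
  obtain ⟨q, hq, hφ⟩ := key (φ.symm ((1 : A) ⊗ₜ[A'] m))
  rw [LinearEquiv.apply_symm_apply] at hφ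
  have h0 : ((1 : A) ⊗ₜ[A'] (m - q) : A ⊗[A'] M') = 0 := by
    rw [TensorProduct.tmul_sub, hφ, sub_self]
  have h1 := mem_of_one_tmul_eq_zero hsq.1 M' _ h0
  have h2 : m - q ∈ Submodule.span A' P :=
    Submodule.subset_span ⟨0, zero_mem_glue φ _ h1⟩
  have := add_mem h2 hq
  rwa [sub_add_cancel] at this

/-- (L3) -/
theorem zero_smul_mem (hsq : EtMil.IsFibreSquare B' B A' A) (φ : A ⊗[B] N ≃ₗ[A] A ⊗[A'] M')
    (m : M') (i : A') (hi : algebraMap A' A i = 0) :
    ((0 : N), i • m) ∈ (RingHom.ker (algebraMap B' B)) • (EtMil.glue B' φ) := by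
  have hm := span_snd_eq_top hsq φ m
  induction hm using Submodule.span_induction generalizing i with
  | mem p hp =>
    obtain ⟨n, hn⟩ := hp
    obtain ⟨j, hj1, hj2⟩ := exists_lift_ker hsq i hi
    have : ((0 : N), i • p) = j • (n, p) := by
      rw [Prod.smul_mk, ← IsScalarTower.algebraMap_smul B j n, hj1, zero_smul,
        ← IsScalarTower.algebraMap_smul A' j p, hj2]
    rw [this]
    exact Submodule.smul_mem_smul hj1 hn
  | zero => rw [smul_zero]; exact zero_mem _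
  | add x y _ _ hx hy =>
    have : ((0 : N), i • (x + y)) = ((0 : N), i • x) + ((0 : N), i • y) := by
      rw [Prod.mk_add_mk, add_zero, smul_add]
    rw [this]
    exact add_mem (hx i hi) (hy i hi)
  | smul a x _ hx =>
    rw [← mul_smul]
    exact hx (i * a) (by rw [map_mul, hi, zero_mul])

/-- (L4) -/
theorem mem_smul_of_fst_eq_zero (hsq : EtMil.IsFibreSquare B' B A' A)
    (φ : A ⊗[B] N ≃ₗ[A] A ⊗[A'] M') (x : N × M') (hx : x ∈ EtMil.glue B' φ) (h0 : x.1 = 0) :
    x ∈ (RingHom.ker (algebraMap B' B)) • (EtMil.glue B' φ) := by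
  obtain ⟨n, m⟩ := x
  simp only at h0
  subst h0
  have h1 : ((1 : A) ⊗ₜ[A'] m : A ⊗[A'] M') = 0 := by
    have := (mem_glue_iff φ _).mp hx
    simp only [TensorProduct.tmul_zero, map_zero] at this
    exact this.symm
  have h2 := mem_of_one_tmul_eq_zero hsq.1 M' _ h1
  refine Submodule.smul_induction_on h2 ?_ ?_
  · intro i hi m _
    exact zero_smul_mem hsq φ m i hi
  · intro x y hx hy
    have : ((0 : N), x + y) = ((0 : N), x) + ((0 : N), y) := by
      rw [Prod.mk_add_mk, add_zero]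
    rw [this]
    exact add_mem hx hy

theorem one_tmul_glue_eq_zero (hsq : EtMil.IsFibreSquare B' B A' A)
    (φ : A ⊗[B] N ≃ₗ[A] A ⊗[A'] M') (x : EtMil.glue B' φ) (h0 : x.1.1 = 0) :
    ((1 : B) ⊗ₜ[B'] x : B ⊗[B'] (EtMil.glue B' φ)) = 0 := by
  apply one_tmul_eq_zero_of_mem
  have h1 := mem_smul_of_fst_eq_zero hsq φ x.1 x.2 h0
  have h2 : (RingHom.ker (algebraMap B' B)) • (EtMil.glue B' φ) =
      Submodule.map (EtMil.glue B' φ).subtype
        ((RingHom.ker (algebraMap B' B)) • (⊤ : Submodule B' (EtMil.glue B' φ))) := by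
    rw [Submodule.map_smul'', Submodule.map_top, Submodule.range_subtype]
  rw [h2] at h1
  obtain ⟨y, hy, hyx⟩ := h1
  have : y = x := Subtype.ext hyx
  rwa [this] at hy

theorem S2019_fst (hsq : EtMil.IsFibreSquare B' B A' A) (φ : A ⊗[B] N ≃ₗ[A] A ⊗[A'] M') :
    Function.Bijective (LinearMap.liftBaseChange B (EtMil.glueFst B' φ)) := by
  constructor
  · rw [injective_iff_map_eq_zero]
    intro z hz
    obtain ⟨x, rfl⟩ := exists_one_tmul hsq _ z
    rw [LinearMap.liftBaseChange_tmul, one_smul] at hz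
    exact one_tmul_glue_eq_zero hsq φ x hz
  · intro n
    obtain ⟨p, hp⟩ := exists_snd hsq φ n
    refine ⟨(1 : B) ⊗ₜ[B'] ⟨(n, p), hp⟩, ?_⟩
    rw [LinearMap.liftBaseChange_tmul, one_smul]
    rfl

omit [IsScalarTower B' B A] in
/-- exactness of `I' ⊗ L → A' ⊗ L → A ⊗ L` with witnesses of the form `1 ⊗ (Σ jₖ lₖ)`. -/
theorem exists_one_tmul_of_rTensor_eq_zero (hsq : EtMil.IsFibreSquare B' B A' A)
    (L : Type u) [AddCommGroup L] [Module B' L] (z : A' ⊗[B'] L)
    (hz : (IsScalarTower.toAlgHom B' A' A).toLinearMap.rTensor L z = 0) :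
    ∃ l ∈ (RingHom.ker (algebraMap B' B)) • (⊤ : Submodule B' L), (1 : A') ⊗ₜ[B'] l = z := by
  set I' : Submodule B' A' := (RingHom.ker (algebraMap A' A)).restrictScalars B' with hI'
  set g : A' →ₗ[B'] A := (IsScalarTower.toAlgHom B' A' A).toLinearMap with hg
  have hex : Function.Exact I'.subtype g := by
    intro a'
    constructor
    · intro h
      refine ⟨⟨a', ?_⟩, rfl⟩
      simpa [hI', hg] using h
    · rintro ⟨⟨i, hi⟩, rfl⟩
      simpa [hI', hg] using hi
  have hsurj : Function.Surjective g := hsq.1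
  have hex' := rTensor_exact L hex hsurj
  obtain ⟨w, hw⟩ := (hex' _).mp hz
  have key : ∀ w : I' ⊗[B'] L, ∃ l ∈ (RingHom.ker (algebraMap B' B)) • (⊤ : Submodule B' L),
      (1 : A') ⊗ₜ[B'] l = I'.subtype.rTensor L w := by
    intro w
    induction w using TensorProduct.induction_on with
    | zero => exact ⟨0, zero_mem _, by simp⟩
    | tmul i l =>
      obtain ⟨i, hi⟩ := i
      have hi' : algebraMap A' A i = 0 := by simpa [hI'] using hi
      obtain ⟨j, hj1, hj2⟩ := exists_lift_ker hsq i hi'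
      refine ⟨j • l, Submodule.smul_mem_smul hj1 trivial, ?_⟩
      rw [← TensorProduct.smul_tmul, Algebra.smul_def, mul_one, hj2]
      simp
    | add w₁ w₂ h₁ h₂ =>
      obtain ⟨l₁, h11, h12⟩ := h₁
      obtain ⟨l₂, h21, h22⟩ := h₂
      exact ⟨l₁ + l₂, add_mem h11 h21, by rw [TensorProduct.tmul_add, h12, h22, map_add]⟩
  obtain ⟨l, hl, hl2⟩ := key w
  exact ⟨l, hl, by rw [hl2, hw]⟩

theorem fst_eq_zero_of_mem_smul (φ : A ⊗[B] N ≃ₗ[A] A ⊗[A'] M') (x : EtMil.glue B' φ)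
    (hx : x ∈ (RingHom.ker (algebraMap B' B)) • (⊤ : Submodule B' (EtMil.glue B' φ))) :
    x.1.1 = 0 := by
  refine Submodule.smul_induction_on hx ?_ ?_
  · intro j hj y _
    change (j • y.1).1 = 0
    rw [Prod.smul_fst, ← IsScalarTower.algebraMap_smul B j y.1.1, (RingHom.mem_ker).mp hj,
      zero_smul]
  · intro x y hx hy
    change (x.1 + y.1).1 = 0
    rw [Prod.fst_add, hx, hy, add_zero]

theorem S2019_snd (hsq : EtMil.IsFibreSquare B' B A' A) (φ : A ⊗[B] N ≃ₗ[A] A ⊗[A'] M') :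
    Function.Bijective (LinearMap.liftBaseChange A' (EtMil.glueSnd B' φ)) := by
  constructor
  · set e₁ : B ⊗[B'] (EtMil.glue B' φ) ≃ₗ[B] N :=
      LinearEquiv.ofBijective (LinearMap.liftBaseChange B (EtMil.glueFst B' φ)) (S2019_fst hsq φ)
      with he₁
    set Φ : A ⊗[B'] (EtMil.glue B' φ) ≃ₗ[A] A ⊗[A'] M' :=
      (TensorProduct.AlgebraTensorModule.cancelBaseChange B' B A A (EtMil.glue B' φ)).symm ≪≫ₗ
        (TensorProduct.AlgebraTensorModule.congr (LinearEquiv.refl A A) e₁) ≪≫ₗ φ with hΦ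
    have hΦ1 : ∀ (a : A) (x : EtMil.glue B' φ), Φ (a ⊗ₜ[B'] x) = φ (a ⊗ₜ[B] x.1.1) := by
      intro a x
      simp only [hΦ, LinearEquiv.trans_apply,
        TensorProduct.AlgebraTensorModule.cancelBaseChange_symm_tmul,
        TensorProduct.AlgebraTensorModule.congr_tmul, LinearEquiv.refl_apply, he₁,
        LinearEquiv.ofBijective_apply, LinearMap.liftBaseChange_tmul, one_smul]
      rfl
    have hsq' : ∀ z : A' ⊗[B'] (EtMil.glue B' φ),
        Φ ((IsScalarTower.toAlgHom B' A' A).toLinearMap.rTensor _ z) =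
          (1 : A) ⊗ₜ[A'] (LinearMap.liftBaseChange A' (EtMil.glueSnd B' φ) z) := by
      intro z
      induction z using TensorProduct.induction_on with
      | zero => simp
      | tmul a' x =>
        rw [LinearMap.rTensor_tmul, hΦ1, LinearMap.liftBaseChange_tmul]
        have h1 : (IsScalarTower.toAlgHom B' A' A).toLinearMap a' = algebraMap A' A a' := rfl
        have h2 : (algebraMap A' A a') ⊗ₜ[B] x.1.1 =
            (algebraMap A' A a') • ((1 : A) ⊗ₜ[B] x.1.1) := by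
          rw [TensorProduct.smul_tmul', smul_eq_mul, mul_one]
        rw [h1, h2, map_smul, (mem_glue_iff φ x.1).mp x.2, TensorProduct.smul_tmul',
          smul_eq_mul, mul_one, ← TensorProduct.smul_tmul, Algebra.smul_def, mul_one]
        rfl
      | add x y hx hy => rw [map_add, map_add, map_add, TensorProduct.tmul_add, hx, hy]
    rw [injective_iff_map_eq_zero]
    intro z hz
    have h1 := hsq' z
    rw [hz, TensorProduct.tmul_zero] at h1
    have h2 : (IsScalarTower.toAlgHom B' A' A).toLinearMap.rTensor _ z = 0 := by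
      simpa using h1
    obtain ⟨x, hx, rfl⟩ := exists_one_tmul_of_rTensor_eq_zero hsq _ z h2
    rw [LinearMap.liftBaseChange_tmul, one_smul] at hz
    have hx1 := fst_eq_zero_of_mem_smul φ x hx
    have hx2 : x.1.2 = 0 := hz
    have : x = 0 := by
      apply Subtype.ext
      exact Prod.ext hx1 hx2
    rw [this, TensorProduct.tmul_zero]
  · rw [← LinearMap.range_eq_top, LinearMap.range_liftBaseChange, eq_top_iff]
    intro m _
    refine Submodule.span_mono ?_ (span_snd_eq_top hsq φ m)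
    rintro p ⟨n, hn⟩
    exact ⟨⟨(n, p), hn⟩, rfl⟩

theorem S2019 (hsq : EtMil.IsFibreSquare B' B A' A) (φ : A ⊗[B] N ≃ₗ[A] A ⊗[A'] M') :
    Function.Bijective (LinearMap.liftBaseChange B (EtMil.glueFst B' φ)) ∧
    Function.Bijective (LinearMap.liftBaseChange A' (EtMil.glueSnd B' φ)) :=
  ⟨S2019_fst hsq φ, S2019_snd hsq φ⟩

end

end Groth.Agent.H7.Milnor
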