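import Mathlib
import Groth.Prelude.Def_EtMil
import Groth.Agent.Lib.Helper7.Milnor3
import Groth.Agent.Lib.Helper7.ArtFlat
universe u

namespace Groth.Agent.H7.Milnor

open TensorProduct

section General
variable {R : Type*} [CommRing R]

/-- middle exactness of the "Tor" functor. -/
theorem lTensor_injective_middle {M₁ M₂ M₃ N₁ N₂ : Type*}
    [AddCommGroup M₁] [Module R M₁] [AddCommGroup M₂] [Module R M₂] [AddCommGroup M₃] [Module R M₃]
    [AddCommGroup N₁] [Module R N₁] [AddCommGroup N₂] [Module R N₂]
    {f₁ : M₁ →ₗ[R] M₂} {f₂ : M₂ →ₗ[R] M₃} (hex : Function.Exact f₁ f₂)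
    (hsurj : Function.Surjective f₂) (g : N₁ →ₗ[R] N₂)
    (h1 : Function.Injective (g.lTensor M₁)) (h3 : Function.Injective (g.lTensor M₃))
    (h2 : Function.Injective (f₁.rTensor N₂)) : Function.Injective (g.lTensor M₂) := by
  rw [injective_iff_map_eq_zero]
  intro x hx
  have hx3 : f₂.rTensor N₁ x = 0 := by
    apply h3
    rw [map_zero, ← LinearMap.comp_apply, LinearMap.lTensor_comp_rTensor,
      ← LinearMap.rTensor_comp_lTensor, LinearMap.comp_apply, hx, map_zero]
  obtain ⟨x₁, rfl⟩ := (rTensor_exact N₁ hex hsurj x).mp hx3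
  have h0 : g.lTensor M₁ x₁ = 0 := by
    apply h2
    rw [map_zero, ← LinearMap.comp_apply, LinearMap.rTensor_comp_lTensor,
      ← LinearMap.lTensor_comp_rTensor, LinearMap.comp_apply, hx]
  have : x₁ = 0 := h1 (h0.trans (map_zero _).symm)
  rw [this, map_zero]

/-- dévissage step. -/
theorem tor_core {K' F' K'' F'' Kx X X'' Z W : Type*}
    [AddCommGroup K'] [Module R K'] [AddCommGroup F'] [Module R F'] [AddCommGroup K'']
    [Module R K''] [AddCommGroup F''] [Module R F''] [AddCommGroup Kx] [Module R Kx]
    [AddCommGroup X] [Module R X] [AddCommGroup X''] [Module R X''] [AddCommGroup Z] [Module R Z]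
    [AddCommGroup W] [Module R W] [Module.Flat R F'] [Module.Flat R F'']
    (k : K' →ₗ[R] F') (k' : K'' →ₗ[R] F'') (p' : F'' →ₗ[R] K') (hex' : Function.Exact k' p')
    (hp' : Function.Surjective p')
    (ι : Kx →ₗ[R] X) (η' : X →ₗ[R] X'') (incl : X'' →ₗ[R] Z) (δ : Z →ₗ[R] W)
    (hι : Function.Injective ι) (h1 : Function.Exact ι η') (hη' : Function.Surjective η')
    (hincl : Function.Injective incl) (h2 : Function.Exact incl δ) (hδ : Function.Surjective δ)
    (hZ : Function.Injective (k.lTensor Z)) (hW : Function.Injective (k'.lTensor W))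
    (hK : Function.Injective (k.lTensor Kx)) : Function.Injective (k.lTensor X) := by
  have hinclK : Function.Injective (incl.lTensor K') :=
    lTensor_injective_of_exact_of_exact_of_rTensor_injective hex' hp' h2 hδ
      ((LinearMap.lTensor_inj_iff_rTensor_inj _ _).mp hW)
      (Module.Flat.lTensor_preserves_injective_linearMap _ hincl)
  have hX'' : Function.Injective (k.lTensor X'') := by
    rw [injective_iff_map_eq_zero]
    intro x hx
    have h1 : k.lTensor Z (incl.rTensor K' x) = 0 := by
      rw [← LinearMap.comp_apply, LinearMap.lTensor_comp_rTensor,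
        ← LinearMap.rTensor_comp_lTensor, LinearMap.comp_apply, hx, map_zero]
    have h2 : incl.rTensor K' x = 0 := hZ (h1.trans (map_zero _).symm)
    exact ((LinearMap.lTensor_inj_iff_rTensor_inj _ _).mp hinclK) (h2.trans (map_zero _).symm)
  exact lTensor_injective_middle h1 hη' k hK hX''
    (Module.Flat.rTensor_preserves_injective_linearMap _ hι)

end General

section Gen
variable {R₀ R : Type u} [CommRing R₀] [CommRing R] [Algebra R₀ R]

theorem lTensor_injective_of_baseChange
    {K F P : Type u} [AddCommGroup K] [Module R₀ K] [AddCommGroup F] [Module R₀ F]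
    [AddCommGroup P] [Module R₀ P]
    (k : K →ₗ[R₀] F) (p : F →ₗ[R₀] P) (hex : Function.Exact k p) (hp : Function.Surjective p)
    (hk : Function.Injective (k.lTensor R)) [Module.Flat R (R ⊗[R₀] P)]
    (X : Type u) [AddCommGroup X] [Module R X] [Module R₀ X] [IsScalarTower R₀ R X] :
    Function.Injective (k.lTensor X) := by
  have h1 : Function.Injective ((k.baseChange R).lTensor X) := by
    refine LinearMap.lTensor_injective_of_exact_of_flat (p.baseChange R) ?_ (k.baseChange R) ?_ ?_ X
    · exact LinearMap.lTensor_surjective R hp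
    · exact hk
    · exact lTensor_exact R hex hp
  have hnat : ∀ z : X ⊗[R] (R ⊗[R₀] K),
      TensorProduct.AlgebraTensorModule.cancelBaseChange R₀ R R X F
        ((k.baseChange R).lTensor X z) =
      k.lTensor X (TensorProduct.AlgebraTensorModule.cancelBaseChange R₀ R R X K z) := by
    intro z
    induction z using TensorProduct.induction_on with
    | zero => simp
    | tmul x w =>
      induction w using TensorProduct.induction_on with
      | zero => simp
      | tmul r k' => simp
      | add a b ha hb =>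
        rw [TensorProduct.tmul_add, map_add, map_add, map_add, map_add, ha, hb]
    | add a b ha hb => rw [map_add, map_add, map_add, map_add, ha, hb]
  rw [injective_iff_map_eq_zero]
  intro x hx
  obtain ⟨z, rfl⟩ :=
    (TensorProduct.AlgebraTensorModule.cancelBaseChange R₀ R R X K).surjective x
  rw [← hnat] at hx
  have : (k.baseChange R).lTensor X z = 0 := by
    apply (TensorProduct.AlgebraTensorModule.cancelBaseChange R₀ R R X F).injective
    rw [hx, map_zero]
  rw [h1 (this.trans (map_zero _).symm), map_zero]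

end Gen

section
variable {B' B A' A : Type u} [CommRing B'] [CommRing B] [CommRing A'] [CommRing A]
  [Algebra B' B] [Algebra B' A'] [Algebra B A] [Algebra A' A] [Algebra B' A]
  [IsScalarTower B' B A] [IsScalarTower B' A' A]

theorem map_ker_mem (j : B') (hj : algebraMap B' B j = 0) :
    algebraMap B' A' j ∈ RingHom.ker (algebraMap A' A) := by
  rw [RingHom.mem_ker, ← IsScalarTower.algebraMap_apply,
    IsScalarTower.algebraMap_apply B' B A, hj, map_zero]

/-- the `B'`-linear map `ker (B' → B) → ker (A' → A)`. -/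
noncomputable def kerMap :
    (RingHom.ker (algebraMap B' B)) →ₗ[B'] (RingHom.ker (algebraMap A' A)) where
  toFun j := ⟨algebraMap B' A' j.1, map_ker_mem (B := B) (A := A) j.1 j.2⟩
  map_add' x y := by
    apply Subtype.ext
    simp
  map_smul' c x := by
    apply Subtype.ext
    simp [Algebra.smul_def]

theorem kerMap_apply (j : RingHom.ker (algebraMap B' B)) :
    ((kerMap (B := B) (A := A) j : RingHom.ker (algebraMap A' A)) : A') =
      algebraMap B' A' j.1 := rfl

theorem kerMap_bijective (hsq : EtMil.IsFibreSquare B' B A' A) :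
    Function.Bijective (kerMap (B' := B') (B := B) (A' := A') (A := A)) := by
  constructor
  · intro x y hxy
    apply Subtype.ext
    apply eq_of_eq hsq
    · rw [(RingHom.mem_ker).mp x.2, (RingHom.mem_ker).mp y.2]
    · have := congrArg Subtype.val hxy
      rwa [kerMap_apply, kerMap_apply] at this
  · rintro ⟨i, hi⟩
    obtain ⟨j, hj1, hj2⟩ := exists_lift_ker hsq i hi
    exact ⟨⟨j, hj1⟩, Subtype.ext hj2⟩

/-- the `B'`-linear iso `ker (B' → B) ≃ ker (A' → A)`. -/
noncomputable def kerEquiv (hsq : EtMil.IsFibreSquare B' B A' A) :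
    (RingHom.ker (algebraMap B' B)) ≃ₗ[B'] (RingHom.ker (algebraMap A' A)) :=
  LinearEquiv.ofBijective kerMap (kerMap_bijective hsq)

theorem kerEquiv_apply (hsq : EtMil.IsFibreSquare B' B A' A)
    (j : RingHom.ker (algebraMap B' B)) : ((kerEquiv hsq j : RingHom.ker (algebraMap A' A)) : A') =
      algebraMap B' A' j.1 := rfl

/-- Step A1: `Tor₁(B, L') = 0` computed on the `B` side. -/
theorem rTensor_ker_injective (hsq : EtMil.IsFibreSquare B' B A' A)
    (L' : Type u) [AddCommGroup L'] [Module B' L'] [Module.Flat A' (A' ⊗[B'] L')] :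
    Function.Injective ((Submodule.subtype (RingHom.ker (algebraMap B' B))).rTensor L') := by
  set J := RingHom.ker (algebraMap B' B) with hJ
  set I' := RingHom.ker (algebraMap A' A) with hI'
  have hflat : Function.Injective ((Submodule.subtype I').rTensor (A' ⊗[B'] L')) :=
    Module.Flat.rTensor_preserves_injective_linearMap _ (Submodule.injective_subtype _)
  set e1 := TensorProduct.congr (kerEquiv hsq) (LinearEquiv.refl B' L') with he1
  set e2 := (TensorProduct.AlgebraTensorModule.cancelBaseChange B' A' A' I' L').symm with he2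
  have hsq' : ∀ x : J ⊗[B'] L',
      TensorProduct.lid A' _ ((Submodule.subtype I').rTensor _ (e2 (e1 x))) =
        (1 : A') ⊗ₜ[B'] (TensorProduct.lid B' L' ((Submodule.subtype J).rTensor L' x)) := by
    intro x
    induction x using TensorProduct.induction_on with
    | zero => simp
    | tmul j l =>
      simp only [he1, he2, TensorProduct.congr_tmul, LinearEquiv.refl_apply,
        TensorProduct.AlgebraTensorModule.cancelBaseChange_symm_tmul, LinearMap.rTensor_tmul,
        Submodule.subtype_apply, TensorProduct.lid_tmul, kerEquiv_apply]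
      rw [TensorProduct.smul_tmul', smul_eq_mul, mul_one, ← TensorProduct.smul_tmul,
        Algebra.smul_def, mul_one]
    | add a b ha hb =>
      simp only [map_add, TensorProduct.tmul_add, ha, hb]
  rw [injective_iff_map_eq_zero]
  intro x hx
  have h1 := hsq' x
  rw [hx, map_zero, TensorProduct.tmul_zero] at h1
  have h2 : (Submodule.subtype I').rTensor _ (e2 (e1 x)) = 0 := by
    simpa using h1
  have h3 : e2 (e1 x) = 0 := hflat (h2.trans (map_zero _).symm)
  have h4 : e1 x = 0 := by simpa using h3
  simpa using h4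

end

section Fib
variable {B' B A' A : Type u} [CommRing B'] [CommRing B] [CommRing A'] [CommRing A]
  [Algebra B' B] [Algebra B' A'] [Algebra B A] [Algebra A' A] [Algebra B' A]
  [IsScalarTower B' B A] [IsScalarTower B' A' A]

variable (B' B A' A) in
/-- `B' → B × A'`. -/
noncomputable def fibIncl : B' →ₗ[B'] B × A' :=
  LinearMap.prod (Algebra.linearMap B' B) (Algebra.linearMap B' A')

variable (B' B A' A) in
/-- `B × A' → A`, `(b, a') ↦ b - a'`. -/
noncomputable def fibDiff : B × A' →ₗ[B'] A :=
  LinearMap.coprod (IsScalarTower.toAlgHom B' B A).toLinearMap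
    (-(IsScalarTower.toAlgHom B' A' A).toLinearMap)

theorem fibIncl_apply (b' : B') :
    fibIncl B' B A' b' = (algebraMap B' B b', algebraMap B' A' b') := rfl

theorem fibDiff_apply (x : B × A') :
    fibDiff B' B A' A x = algebraMap B A x.1 - algebraMap A' A x.2 := by
  simp [fibDiff, sub_eq_add_neg]

theorem fib_exact (hsq : EtMil.IsFibreSquare B' B A' A) :
    Function.Exact (fibIncl B' B A') (fibDiff B' B A' A) := by
  rintro ⟨b, a'⟩
  rw [fibDiff_apply]
  constructor
  · intro h
    obtain ⟨b', ⟨h1, h2⟩, -⟩ := hsq.2 b a' (sub_eq_zero.mp h)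
    exact ⟨b', by rw [fibIncl_apply, h1, h2]⟩
  · rintro ⟨b', hb'⟩
    rw [fibIncl_apply, Prod.mk.injEq] at hb'
    rw [← hb'.1, ← hb'.2, ← IsScalarTower.algebraMap_apply, ← IsScalarTower.algebraMap_apply,
      sub_self]

theorem fibDiff_surjective (hsq : EtMil.IsFibreSquare B' B A' A) :
    Function.Surjective (fibDiff B' B A' A) := by
  intro a
  obtain ⟨a', rfl⟩ := hsq.1 a
  exact ⟨(0, -a'), by rw [fibDiff_apply]; simp⟩

theorem fibIncl_injective (hsq : EtMil.IsFibreSquare B' B A' A) :
    Function.Injective (fibIncl B' B A') := by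
  intro x y hxy
  rw [fibIncl_apply, fibIncl_apply, Prod.mk.injEq] at hxy
  exact eq_of_eq hsq x y hxy.1 hxy.2

end Fib

section TheoremA
variable {B' B A' A : Type u} [CommRing B'] [CommRing B] [CommRing A'] [CommRing A]
  [Algebra B' B] [Algebra B' A'] [Algebra B A] [Algebra A' A] [Algebra B' A]
  [IsScalarTower B' B A] [IsScalarTower B' A' A]
variable {L' K' F' : Type u} [AddCommGroup L'] [Module B' L'] [AddCommGroup K'] [Module B' K']
  [AddCommGroup F'] [Module B' F']

theorem torB_ring (hsq : EtMil.IsFibreSquare B' B A' A)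
    [Module.Flat A' (A' ⊗[B'] L')]
    (k : K' →ₗ[B'] F') (p : F' →ₗ[B'] L') (hex : Function.Exact k p) (hp : Function.Surjective p)
    (hk : Function.Injective k) : Function.Injective (k.lTensor B) := by
  have hexJ : Function.Exact (Submodule.subtype (RingHom.ker (algebraMap B' B)))
      (Algebra.linearMap B' B) := by
    intro b'
    constructor
    · intro h; exact ⟨⟨b', h⟩, rfl⟩
    · rintro ⟨⟨j, hj⟩, rfl⟩; exact hj
  exact lTensor_injective_of_exact_of_exact_of_rTensor_injective hexJ (surj_B hsq) hex hp
    (rTensor_ker_injective hsq L')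
    (Module.Flat.lTensor_preserves_injective_linearMap k hk)

theorem torB (hsq : EtMil.IsFibreSquare B' B A' A)
    [Module.Flat B (B ⊗[B'] L')] [Module.Flat A' (A' ⊗[B'] L')]
    (k : K' →ₗ[B'] F') (p : F' →ₗ[B'] L') (hex : Function.Exact k p) (hp : Function.Surjective p)
    (hk : Function.Injective k)
    (X : Type u) [AddCommGroup X] [Module B X] [Module B' X] [IsScalarTower B' B X] :
    Function.Injective (k.lTensor X) :=
  lTensor_injective_of_baseChange k p hex hp (torB_ring hsq k p hex hp hk) X

theorem torA'_ring (hsq : EtMil.IsFibreSquare B' B A' A)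
    [Module.Flat B (B ⊗[B'] L')] [Module.Flat A' (A' ⊗[B'] L')] [Module.Flat B' F']
    (k : K' →ₗ[B'] F') (p : F' →ₗ[B'] L') (hex : Function.Exact k p) (hp : Function.Surjective p)
    (hk : Function.Injective k) : Function.Injective (k.lTensor A') := by
  have hmid : Function.Injective (k.lTensor (B × A')) :=
    lTensor_injective_middle (fib_exact hsq) (fibDiff_surjective hsq) k
      (Module.Flat.lTensor_preserves_injective_linearMap k hk)
      (torB hsq k p hex hp hk A)
      (Module.Flat.rTensor_preserves_injective_linearMap _ (fibIncl_injective hsq))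
  rw [injective_iff_map_eq_zero]
  intro x hx
  have h1 : k.lTensor (B × A') ((LinearMap.inr B' B A').rTensor K' x) = 0 := by
    rw [← LinearMap.comp_apply, LinearMap.lTensor_comp_rTensor, ← LinearMap.rTensor_comp_lTensor,
      LinearMap.comp_apply, hx, map_zero]
  have h2 : (LinearMap.inr B' B A').rTensor K' x = 0 := hmid (h1.trans (map_zero _).symm)
  have h3 : (LinearMap.snd B' B A').rTensor K' ((LinearMap.inr B' B A').rTensor K' x) = x := by
    rw [← LinearMap.comp_apply, ← LinearMap.rTensor_comp, LinearMap.snd_comp_inr,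
      LinearMap.rTensor_id, LinearMap.id_apply]
  rw [← h3, h2, map_zero]

theorem torA' (hsq : EtMil.IsFibreSquare B' B A' A)
    [Module.Flat B (B ⊗[B'] L')] [Module.Flat A' (A' ⊗[B'] L')] [Module.Flat B' F']
    (k : K' →ₗ[B'] F') (p : F' →ₗ[B'] L') (hex : Function.Exact k p) (hp : Function.Surjective p)
    (hk : Function.Injective k)
    (X : Type u) [AddCommGroup X] [Module A' X] [Module B' X] [IsScalarTower B' A' X] :
    Function.Injective (k.lTensor X) :=
  lTensor_injective_of_baseChange k p hex hp (torA'_ring hsq k p hex hp hk) X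

/-- variant of `torB` for modules killed by `ker (B' → B)`. -/
theorem torB_of_torsion (hsq : EtMil.IsFibreSquare B' B A' A)
    [Module.Flat B (B ⊗[B'] L')] [Module.Flat A' (A' ⊗[B'] L')]
    (k : K' →ₗ[B'] F') (p : F' →ₗ[B'] L') (hex : Function.Exact k p) (hp : Function.Surjective p)
    (hk : Function.Injective k)
    (Y : Type u) [AddCommGroup Y] [Module B' Y]
    (hY : ∀ j : B', algebraMap B' B j = 0 → ∀ y : Y, j • y = 0) :
    Function.Injective (k.lTensor Y) := by
  let _ : SMul B Y := ⟨fun b y => (Function.surjInv (surj_B hsq) b) • y⟩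
  have hsmul : ∀ (c : B') (y : Y), (algebraMap B' B c) • y = c • y := by
    intro c y
    change (Function.surjInv (surj_B hsq) (algebraMap B' B c)) • y = c • y
    have h1 : algebraMap B' B (Function.surjInv (surj_B hsq) (algebraMap B' B c) - c) = 0 := by
      rw [map_sub, Function.surjInv_eq (surj_B hsq), sub_self]
    have h2 := hY _ h1 y
    rwa [sub_smul, sub_eq_zero] at h2
  let _ : Module B Y := Function.Surjective.moduleLeft (algebraMap B' B) (surj_B hsq) hsmul
  have : IsScalarTower B' B Y := ⟨fun b' b y => by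
    rw [Algebra.smul_def, mul_smul, hsmul]⟩
  exact torB hsq k p hex hp hk Y

end TheoremA

section TheoremB
variable {B' B A' A : Type u} [CommRing B'] [CommRing B] [CommRing A'] [CommRing A]
  [Algebra B' B] [Algebra B' A'] [Algebra B A] [Algebra A' A] [Algebra B' A]
  [IsScalarTower B' B A] [IsScalarTower B' A' A]
variable {L' K' F' K'' F'' : Type u} [AddCommGroup L'] [Module B' L'] [AddCommGroup K']
  [Module B' K'] [AddCommGroup F'] [Module B' F'] [AddCommGroup K''] [Module B' K'']
  [AddCommGroup F''] [Module B' F'']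

theorem flat_baseChange_ker_B (hsq : EtMil.IsFibreSquare B' B A' A)
    [Module.Flat B (B ⊗[B'] L')] [Module.Flat A' (A' ⊗[B'] L')] [Module.Flat B' F']
    (k : K' →ₗ[B'] F') (p : F' →ₗ[B'] L') (hex : Function.Exact k p) (hp : Function.Surjective p)
    (hk : Function.Injective k) : Module.Flat B (B ⊗[B'] K') :=
  ArtFlat.flat_ker_of_flat B (k.baseChange B) (p.baseChange B) (torB_ring hsq k p hex hp hk)
    (LinearMap.lTensor_surjective B hp) (lTensor_exact B hex hp)

theorem flat_baseChange_ker_A' (hsq : EtMil.IsFibreSquare B' B A' A)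
    [Module.Flat B (B ⊗[B'] L')] [Module.Flat A' (A' ⊗[B'] L')] [Module.Flat B' F']
    (k : K' →ₗ[B'] F') (p : F' →ₗ[B'] L') (hex : Function.Exact k p) (hp : Function.Surjective p)
    (hk : Function.Injective k) : Module.Flat A' (A' ⊗[B'] K') :=
  ArtFlat.flat_ker_of_flat A' (k.baseChange A') (p.baseChange A') (torA'_ring hsq k p hex hp hk)
    (LinearMap.lTensor_surjective A' hp) (lTensor_exact A' hex hp)

/-- the canonical map `X → (B ⊗ X) × (A' ⊗ X)`. -/
noncomputable def toPair (B' B A' : Type u) [CommRing B'] [CommRing B] [CommRing A']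
    [Algebra B' B] [Algebra B' A'] (X : Type u) [AddCommGroup X] [Module B' X] :
    X →ₗ[B'] (B ⊗[B'] X) × (A' ⊗[B'] X) :=
  LinearMap.prod (TensorProduct.mk B' B X 1) (TensorProduct.mk B' A' X 1)

theorem toPair_apply (X : Type u) [AddCommGroup X] [Module B' X] (x : X) :
    toPair B' B A' X x = ((1 : B) ⊗ₜ[B'] x, (1 : A') ⊗ₜ[B'] x) := rfl

/-- the difference map `(B ⊗ X) × (A' ⊗ X) → A ⊗ X`. -/
noncomputable def pairDiff (B' B A' A : Type u) [CommRing B'] [CommRing B] [CommRing A']
    [CommRing A] [Algebra B' B] [Algebra B' A'] [Algebra B A] [Algebra A' A] [Algebra B' A]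
    [IsScalarTower B' B A] [IsScalarTower B' A' A] (X : Type u) [AddCommGroup X] [Module B' X] :
    (B ⊗[B'] X) × (A' ⊗[B'] X) →ₗ[B'] A ⊗[B'] X :=
  LinearMap.coprod ((IsScalarTower.toAlgHom B' B A).toLinearMap.rTensor X)
    (-((IsScalarTower.toAlgHom B' A' A).toLinearMap.rTensor X))

theorem pairDiff_apply (X : Type u) [AddCommGroup X] [Module B' X]
    (z : (B ⊗[B'] X) × (A' ⊗[B'] X)) :
    pairDiff B' B A' A X z = (IsScalarTower.toAlgHom B' B A).toLinearMap.rTensor X z.1 -
      (IsScalarTower.toAlgHom B' A' A).toLinearMap.rTensor X z.2 := by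
  simp [pairDiff, sub_eq_add_neg]

theorem pair_exact (hsq : EtMil.IsFibreSquare B' B A' A) (X : Type u) [AddCommGroup X]
    [Module B' X] : Function.Exact (toPair B' B A' X) (pairDiff B' B A' A X) := by
  rintro ⟨x, y⟩
  rw [pairDiff_apply]
  constructor
  · intro h
    obtain ⟨l, h1, h2⟩ := S6916 hsq X x y (sub_eq_zero.mp h)
    exact ⟨l, by rw [toPair_apply, h1, h2]⟩
  · rintro ⟨l, hl⟩
    rw [toPair_apply, Prod.mk.injEq] at hl
    rw [← hl.1, ← hl.2]
    simp

theorem pairDiff_surjective (hsq : EtMil.IsFibreSquare B' B A' A) (X : Type u) [AddCommGroup X]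
    [Module B' X] : Function.Surjective (pairDiff B' B A' A X) := by
  intro w
  have hs : Function.Surjective ((IsScalarTower.toAlgHom B' A' A).toLinearMap.rTensor X) :=
    LinearMap.rTensor_surjective X hsq.1
  obtain ⟨y, rfl⟩ := hs w
  exact ⟨(0, -y), by rw [pairDiff_apply]; simp⟩

/-- vanishing of "Tor₁(X, L')" for every `X`. -/
theorem tor_all (hsq : EtMil.IsFibreSquare B' B A' A)
    [Module.Flat B (B ⊗[B'] L')] [Module.Flat A' (A' ⊗[B'] L')] [Module.Flat B' F']
    [Module.Flat B (B ⊗[B'] K')] [Module.Flat A' (A' ⊗[B'] K')] [Module.Flat B' F'']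
    (k : K' →ₗ[B'] F') (p : F' →ₗ[B'] L') (hex : Function.Exact k p) (hp : Function.Surjective p)
    (hk : Function.Injective k)
    (k' : K'' →ₗ[B'] F'') (p' : F'' →ₗ[B'] K') (hex' : Function.Exact k' p')
    (hp' : Function.Surjective p') (hk' : Function.Injective k')
    (X : Type u) [AddCommGroup X] [Module B' X] :
    Function.Injective (k.lTensor X) := by
  have hηδ : Function.Exact (toPair B' B A' X) (pairDiff B' B A' A X) := pair_exact hsq X
  have hδs : Function.Surjective (pairDiff B' B A' A X) := pairDiff_surjective hsq X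
  -- (i) Z
  have hZ : Function.Injective (k.lTensor ((B ⊗[B'] X) × (A' ⊗[B'] X))) :=
    lTensor_injective_middle (Function.Exact.inl_snd (R := B')) LinearMap.snd_surjective k
      (torB hsq k p hex hp hk (B ⊗[B'] X)) (torA' hsq k p hex hp hk (A' ⊗[B'] X))
      (Module.Flat.rTensor_preserves_injective_linearMap _ LinearMap.inl_injective)
  -- (ii) W
  have hW : Function.Injective (k'.lTensor (A ⊗[B'] X)) :=
    torB hsq k' p' hex' hp' hk' (A ⊗[B'] X)
  have hinclδ : Function.Exact (LinearMap.range (toPair B' B A' X)).subtype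
      (pairDiff B' B A' A X) := by
    intro z
    rw [hηδ z]
    constructor
    · rintro ⟨x, rfl⟩; exact ⟨⟨toPair B' B A' X x, ⟨x, rfl⟩⟩, rfl⟩
    · rintro ⟨⟨_, ⟨x, rfl⟩⟩, rfl⟩; exact ⟨x, rfl⟩
  -- (v) K = ker η
  have hK : Function.Injective (k.lTensor (LinearMap.ker (toPair B' B A' X))) := by
    apply torB_of_torsion hsq k p hex hp hk
    intro j hj y
    apply Subtype.ext
    have hy : toPair B' B A' X y.1 = 0 := y.2
    rw [toPair_apply, Prod.mk_eq_zero] at hy
    exact (S14950 hsq X y.1 hy.1 hy.2).1 j hj
  -- (vi)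
  have hrr : Function.Exact (LinearMap.ker (toPair B' B A' X)).subtype
      (toPair B' B A' X).rangeRestrict := by
    intro x
    constructor
    · intro h
      refine ⟨⟨x, ?_⟩, rfl⟩
      rw [LinearMap.mem_ker]
      exact congrArg Subtype.val h
    · rintro ⟨⟨y, hy⟩, rfl⟩
      apply Subtype.ext
      exact hy
  exact tor_core (Kx := LinearMap.ker (toPair B' B A' X))
    (X'' := LinearMap.range (toPair B' B A' X)) k k' p' hex' hp'
    (LinearMap.ker (toPair B' B A' X)).subtype (toPair B' B A' X).rangeRestrict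
    (LinearMap.range (toPair B' B A' X)).subtype (pairDiff B' B A' A X)
    (Submodule.injective_subtype _) hrr (toPair B' B A' X).surjective_rangeRestrict
    (Submodule.injective_subtype _) hinclδ hδs hZ hW hK

theorem flat_of_presentations (hsq : EtMil.IsFibreSquare B' B A' A)
    [Module.Flat B (B ⊗[B'] L')] [Module.Flat A' (A' ⊗[B'] L')] [Module.Flat B' F']
    [Module.Flat B' F'']
    (k : K' →ₗ[B'] F') (p : F' →ₗ[B'] L') (hex : Function.Exact k p) (hp : Function.Surjective p)
    (hk : Function.Injective k)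
    (k' : K'' →ₗ[B'] F'') (p' : F'' →ₗ[B'] K') (hex' : Function.Exact k' p')
    (hp' : Function.Surjective p') (hk' : Function.Injective k') : Module.Flat B' L' := by
  have : Module.Flat B (B ⊗[B'] K') := flat_baseChange_ker_B hsq k p hex hp hk
  have : Module.Flat A' (A' ⊗[B'] K') := flat_baseChange_ker_A' hsq k p hex hp hk
  rw [Module.Flat.iff_lTensor_injective']
  intro I
  have hG : Function.Injective (k.lTensor (B' ⧸ I)) :=
    tor_all hsq k p hex hp hk k' p' hex' hp' hk' (B' ⧸ I)
  have hexI : Function.Exact I.subtype I.mkQ := by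
    intro x
    rw [Submodule.mkQ_apply, Submodule.Quotient.mk_eq_zero]
    constructor
    · intro hx; exact ⟨⟨x, hx⟩, rfl⟩
    · rintro ⟨y, rfl⟩; exact y.2
  exact lTensor_injective_of_exact_of_exact_of_rTensor_injective hex hp hexI
    (Submodule.mkQ_surjective _) ((LinearMap.lTensor_inj_iff_rTensor_inj _ _).mp hG)
    (Module.Flat.lTensor_preserves_injective_linearMap _ (Submodule.injective_subtype _))

end TheoremB

section Main
variable {B' B A' A : Type u} [CommRing B'] [CommRing B] [CommRing A'] [CommRing A]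
  [Algebra B' B] [Algebra B' A'] [Algebra B A] [Algebra A' A] [Algebra B' A]
  [IsScalarTower B' B A] [IsScalarTower B' A' A]

theorem exact_ker_subtype {R M N : Type*} [CommRing R] [AddCommGroup M] [Module R M]
    [AddCommGroup N] [Module R N] (p : M →ₗ[R] N) :
    Function.Exact (LinearMap.ker p).subtype p := by
  intro x
  constructor
  · intro h; exact ⟨⟨x, h⟩, rfl⟩
  · rintro ⟨⟨y, hy⟩, rfl⟩; exact hy

theorem exists_presentation (R : Type u) [CommRing R] (P : Type u) [AddCommGroup P] [Module R P] :
    ∃ (K F : Type u) (_ : AddCommGroup K) (_ : Module R K) (_ : AddCommGroup F) (_ : Module R F)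
      (_ : Module.Flat R F) (k : K →ₗ[R] F) (p : F →ₗ[R] P),
      Function.Exact k p ∧ Function.Surjective p ∧ Function.Injective k := by
  classical
  refine ⟨LinearMap.ker (Finsupp.linearCombination R (id : P → P)), P →₀ R, inferInstance,
    inferInstance, inferInstance, inferInstance, inferInstance,
    (LinearMap.ker (Finsupp.linearCombination R (id : P → P))).subtype,
    Finsupp.linearCombination R (id : P → P), ?_, ?_, ?_⟩
  · exact exact_ker_subtype _
  · exact Finsupp.linearCombination_surjective _ Function.surjective_id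
  · exact Submodule.injective_subtype _

theorem S14952 (hsq : EtMil.IsFibreSquare B' B A' A)
    (L' : Type u) [AddCommGroup L'] [Module B' L']
    [Module.Flat B (B ⊗[B'] L')] [Module.Flat A' (A' ⊗[B'] L')] : Module.Flat B' L' := by
  obtain ⟨K', F', _, _, _, _, _, k, p, hex, hp, hk⟩ := exists_presentation B' L'
  obtain ⟨K'', F'', _, _, _, _, _, k', p', hex', hp', hk'⟩ := exists_presentation B' K'
  exact flat_of_presentations hsq k p hex hp hk k' p' hex' hp' hk'

end Main

end Groth.Agent.H7.Milnor
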