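import Mathlib
import Groth.Prelude.Def_EtMil
import Groth.Agent.Lib.Helper7.Milnor4
universe u

namespace Groth.Agent.H7.Milnor

open TensorProduct

section Gen
variable {R₀ R : Type u} [CommRing R₀] [CommRing R] [Algebra R₀ R]

theorem finite_baseChange_ker
    {K F P : Type u} [AddCommGroup K] [Module R₀ K] [AddCommGroup F] [Module R₀ F]
    [AddCommGroup P] [Module R₀ P] [Module.Finite R₀ F]
    (k : K →ₗ[R₀] F) (p : F →ₗ[R₀] P) (hex : Function.Exact k p) (hp : Function.Surjective p)
    (hk : Function.Injective (k.lTensor R)) [Module.FinitePresentation R (R ⊗[R₀] P)] :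
    Module.Finite R (R ⊗[R₀] K) := by
  have hk' : Function.Injective (k.baseChange R) := hk
  have hp' : Function.Surjective (p.baseChange R) := LinearMap.lTensor_surjective R hp
  have hex' : Function.Exact (k.baseChange R) (p.baseChange R) := lTensor_exact R hex hp
  have hfg : (LinearMap.ker (p.baseChange R)).FG :=
    Module.FinitePresentation.fg_ker (p.baseChange R) hp'
  rw [LinearMap.exact_iff.mp hex'] at hfg
  have : Module.Finite R (LinearMap.range (k.baseChange R)) := Module.Finite.iff_fg.mpr hfg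
  exact Module.Finite.equiv (LinearEquiv.ofInjective (k.baseChange R) hk').symm

end Gen

section
variable {B' B A' A : Type u} [CommRing B'] [CommRing B] [CommRing A'] [CommRing A]
  [Algebra B' B] [Algebra B' A'] [Algebra B A] [Algebra A' A] [Algebra B' A]
  [IsScalarTower B' B A] [IsScalarTower B' A' A]

theorem S14954 (hsq : EtMil.IsFibreSquare B' B A' A)
    (L' : Type u) [AddCommGroup L'] [Module B' L']
    [Module.Flat B (B ⊗[B'] L')] [Module.FinitePresentation B (B ⊗[B'] L')]
    [Module.Flat A' (A' ⊗[B'] L')] [Module.FinitePresentation A' (A' ⊗[B'] L')] :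
    Module.FinitePresentation B' L' := by
  have : Module.Finite B' L' := S14953 hsq L'
  obtain ⟨n, p, hp⟩ := Module.Finite.exists_fin' B' L'
  have hex := exact_ker_subtype p
  have hk := Submodule.injective_subtype (LinearMap.ker p)
  have hB : Function.Injective ((LinearMap.ker p).subtype.lTensor B) :=
    torB_ring hsq _ p hex hp hk
  have hA' : Function.Injective ((LinearMap.ker p).subtype.lTensor A') :=
    torA'_ring hsq _ p hex hp hk
  have : Module.Finite B (B ⊗[B'] (LinearMap.ker p)) :=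
    finite_baseChange_ker _ p hex hp hB
  have : Module.Finite A' (A' ⊗[B'] (LinearMap.ker p)) :=
    finite_baseChange_ker _ p hex hp hA'
  have : Module.Finite B' (LinearMap.ker p) := S14953 hsq _
  exact Module.finitePresentation_of_free_of_surjective p hp (Module.Finite.iff_fg.mp inferInstance)

end

section Glue
variable {B' B A' A : Type u} [CommRing B'] [CommRing B] [CommRing A'] [CommRing A]
  [Algebra B' B] [Algebra B' A'] [Algebra B A] [Algebra A' A] [Algebra B' A]
  [IsScalarTower B' B A] [IsScalarTower B' A' A]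
variable {N M' : Type u} [AddCommGroup N] [Module B N] [Module B' N] [IsScalarTower B' B N]
  [AddCommGroup M'] [Module A' M'] [Module B' M'] [IsScalarTower B' A' M']

/-- `B ⊗ (N ×_φ M') ≃ N`. -/
noncomputable def glueFstEquiv (hsq : EtMil.IsFibreSquare B' B A' A)
    (φ : A ⊗[B] N ≃ₗ[A] A ⊗[A'] M') : B ⊗[B'] (EtMil.glue B' φ) ≃ₗ[B] N :=
  LinearEquiv.ofBijective (LinearMap.liftBaseChange B (EtMil.glueFst B' φ)) (S2019_fst hsq φ)

/-- `A' ⊗ (N ×_φ M') ≃ M'`. -/
noncomputable def glueSndEquiv (hsq : EtMil.IsFibreSquare B' B A' A)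
    (φ : A ⊗[B] N ≃ₗ[A] A ⊗[A'] M') : A' ⊗[B'] (EtMil.glue B' φ) ≃ₗ[A'] M' :=
  LinearEquiv.ofBijective (LinearMap.liftBaseChange A' (EtMil.glueSnd B' φ)) (S2019_snd hsq φ)

theorem glue_flat (hsq : EtMil.IsFibreSquare B' B A' A) (φ : A ⊗[B] N ≃ₗ[A] A ⊗[A'] M')
    [Module.Flat B N] [Module.Flat A' M'] : Module.Flat B' (EtMil.glue B' φ) := by
  have : Module.Flat B (B ⊗[B'] (EtMil.glue B' φ)) :=
    Module.Flat.of_linearEquiv (glueFstEquiv hsq φ)
  have : Module.Flat A' (A' ⊗[B'] (EtMil.glue B' φ)) :=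
    Module.Flat.of_linearEquiv (glueSndEquiv hsq φ)
  exact S14952 hsq _

theorem glue_finite (hsq : EtMil.IsFibreSquare B' B A' A) (φ : A ⊗[B] N ≃ₗ[A] A ⊗[A'] M')
    [Module.Finite B N] [Module.Finite A' M'] : Module.Finite B' (EtMil.glue B' φ) := by
  have : Module.Finite B (B ⊗[B'] (EtMil.glue B' φ)) :=
    Module.Finite.equiv (glueFstEquiv hsq φ).symm
  have : Module.Finite A' (A' ⊗[B'] (EtMil.glue B' φ)) :=
    Module.Finite.equiv (glueSndEquiv hsq φ).symm
  exact S14953 hsq _

theorem glue_projective (hsq : EtMil.IsFibreSquare B' B A' A) (φ : A ⊗[B] N ≃ₗ[A] A ⊗[A'] M')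
    [Module.Finite B N] [Module.Projective B N] [Module.Finite A' M'] [Module.Projective A' M'] :
    Module.Projective B' (EtMil.glue B' φ) := by
  have : Module.Flat B' (EtMil.glue B' φ) := glue_flat hsq φ
  have : Module.FinitePresentation B N := Module.finitePresentation_of_projective B N
  have : Module.FinitePresentation A' M' := Module.finitePresentation_of_projective A' M'
  have : Module.Flat B (B ⊗[B'] (EtMil.glue B' φ)) :=
    Module.Flat.of_linearEquiv (glueFstEquiv hsq φ)
  have : Module.Flat A' (A' ⊗[B'] (EtMil.glue B' φ)) :=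
    Module.Flat.of_linearEquiv (glueSndEquiv hsq φ)
  have : Module.FinitePresentation B (B ⊗[B'] (EtMil.glue B' φ)) :=
    Module.FinitePresentation.of_equiv (glueFstEquiv hsq φ).symm
  have : Module.FinitePresentation A' (A' ⊗[B'] (EtMil.glue B' φ)) :=
    Module.FinitePresentation.of_equiv (glueSndEquiv hsq φ).symm
  have : Module.FinitePresentation B' (EtMil.glue B' φ) := S14954 hsq _
  exact Module.Flat.projective_of_finitePresentation

theorem S2021 (hsq : EtMil.IsFibreSquare B' B A' A) (φ : A ⊗[B] N ≃ₗ[A] A ⊗[A'] M') :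
    (Module.Finite B N → Module.Finite A' M' → Module.Finite B' ↥(EtMil.glue B' φ)) ∧
    (Module.Finite B N → Module.Projective B N → Module.Finite A' M' → Module.Projective A' M' →
      Module.Finite B' ↥(EtMil.glue B' φ) ∧ Module.Projective B' ↥(EtMil.glue B' φ)) := by
  refine ⟨fun h1 h2 => glue_finite hsq φ, fun h1 h2 h3 h4 => ⟨glue_finite hsq φ, ?_⟩⟩
  exact glue_projective hsq φ

theorem toPair_injective_of_flat (hsq : EtMil.IsFibreSquare B' B A' A)
    (L' : Type u) [AddCommGroup L'] [Module B' L'] [Module.Flat B' L'] :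
    Function.Injective (fun l : L' =>
      (((1 : B) ⊗ₜ[B'] l : B ⊗[B'] L'), ((1 : A') ⊗ₜ[B'] l : A' ⊗[B'] L'))) := by
  have hinj : Function.Injective ((fibIncl B' B A').rTensor L') :=
    Module.Flat.rTensor_preserves_injective_linearMap _ (fibIncl_injective hsq)
  have key : ∀ l : L', ((1 : B) ⊗ₜ[B'] l : B ⊗[B'] L') = 0 →
      ((1 : A') ⊗ₜ[B'] l : A' ⊗[B'] L') = 0 → l = 0 := by
    intro l h1 h2
    have hz : (fibIncl B' B A').rTensor L' ((1 : B') ⊗ₜ[B'] l) = 0 := by
      have hdec : ∀ z : (B × A') ⊗[B'] L',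
          z = (LinearMap.inl B' B A').rTensor L' ((LinearMap.fst B' B A').rTensor L' z) +
            (LinearMap.inr B' B A').rTensor L' ((LinearMap.snd B' B A').rTensor L' z) := by
        intro z
        have hid : (LinearMap.inl B' B A').comp (LinearMap.fst B' B A') +
            (LinearMap.inr B' B A').comp (LinearMap.snd B' B A') = LinearMap.id := by
          ext <;> simp
        rw [← LinearMap.comp_apply, ← LinearMap.comp_apply, ← LinearMap.rTensor_comp,
          ← LinearMap.rTensor_comp, ← LinearMap.add_apply, ← LinearMap.rTensor_add, hid,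
          LinearMap.rTensor_id, LinearMap.id_apply]
      rw [hdec ((fibIncl B' B A').rTensor L' ((1 : B') ⊗ₜ[B'] l))]
      simp only [LinearMap.rTensor_tmul, fibIncl_apply, map_one, LinearMap.fst_apply,
        LinearMap.snd_apply, h1, h2, map_zero, add_zero]
    have h3 : ((1 : B') ⊗ₜ[B'] l : B' ⊗[B'] L') = 0 := hinj (hz.trans (map_zero _).symm)
    have h4 := congrArg (TensorProduct.lid B' L') h3
    simpa using h4
  intro l₁ l₂ h
  simp only [Prod.mk.injEq] at h
  have := key (l₁ - l₂) (by rw [TensorProduct.tmul_sub, h.1, sub_self])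
    (by rw [TensorProduct.tmul_sub, h.2, sub_self])
  exact sub_eq_zero.mp this

theorem S2020 (hsq : EtMil.IsFibreSquare B' B A' A) :
    (∀ (N M' : Type u) [AddCommGroup N] [Module B N] [Module B' N] [IsScalarTower B' B N]
    [AddCommGroup M'] [Module A' M'] [Module B' M'] [IsScalarTower B' A' M']
    (φ : A ⊗[B] N ≃ₗ[A] A ⊗[A'] M'), Module.Flat B N → Module.Flat A' M' →
      Module.Flat B' ↥(EtMil.glue B' φ)) ∧
    (∀ (L' : Type u) [AddCommGroup L'] [Module B' L'], Module.Flat B' L' →
      Function.Injective (fun l : L' =>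
        (((1 : B) ⊗ₜ[B'] l : B ⊗[B'] L'), ((1 : A') ⊗ₜ[B'] l : A' ⊗[B'] L'))) ∧
      ∀ (x : B ⊗[B'] L') (y : A' ⊗[B'] L'),
        (IsScalarTower.toAlgHom B' B A).toLinearMap.rTensor L' x =
          (IsScalarTower.toAlgHom B' A' A).toLinearMap.rTensor L' y →
          ∃ l : L', (1 : B) ⊗ₜ[B'] l = x ∧ (1 : A') ⊗ₜ[B'] l = y) := by
  refine ⟨?_, ?_⟩
  · intro N M' _ _ _ _ _ _ _ _ φ h1 h2
    exact glue_flat hsq φ
  · intro L' _ _ hL
    exact ⟨toPair_injective_of_flat hsq L', fun x y hxy => S6916 hsq L' x y hxy⟩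

end Glue

end Groth.Agent.H7.Milnor
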