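import Mathlib
import Groth.Prelude.Def_EtMil
import Groth.Agent.Lib.Helper7.Milnor5
universe u

namespace Groth.Agent.H7.Milnor

open TensorProduct

/-! ### glueing over a commutative square with surjections (not nec. a fibre square) -/
section RelGlue
variable {D' D C' C : Type u} [CommRing D'] [CommRing D] [CommRing C'] [CommRing C]
  [Algebra D' D] [Algebra D' C'] [Algebra D C] [Algebra C' C] [Algebra D' C]
  [IsScalarTower D' D C] [IsScalarTower D' C' C]
variable {N M' : Type u} [AddCommGroup N] [Module D N] [Module D' N] [IsScalarTower D' D N]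
  [AddCommGroup M'] [Module C' M'] [Module D' M'] [IsScalarTower D' C' M']

theorem exists_snd' (hs : Function.Surjective (algebraMap C' C))
    (φ : C ⊗[D] N ≃ₗ[C] C ⊗[C'] M') (n : N) :
    ∃ p : M', (n, p) ∈ EtMil.glue D' φ := by
  obtain ⟨p, hp⟩ := exists_one_tmul' hs M' (φ ((1 : C) ⊗ₜ[D] n))
  exact ⟨p, hp⟩

theorem span_snd_eq_top' (hs : Function.Surjective (algebraMap C' C))
    (φ : C ⊗[D] N ≃ₗ[C] C ⊗[C'] M')
    (m : M') : m ∈ Submodule.span C' (Prod.snd '' (EtMil.glue D' φ : Set (N × M'))) := by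
  set P : Set M' := Prod.snd '' (EtMil.glue D' φ : Set (N × M')) with hP
  have key : ∀ w : C ⊗[D] N, ∃ q ∈ Submodule.span C' P, φ w = (1 : C) ⊗ₜ[C'] q := by
    intro w
    induction w using TensorProduct.induction_on with
    | zero => exact ⟨0, zero_mem _, by simp⟩
    | tmul a n =>
      obtain ⟨a', rfl⟩ := hs a
      obtain ⟨p, hp⟩ := exists_snd' (D' := D') hs φ n
      refine ⟨a' • p, Submodule.smul_mem _ _ (Submodule.subset_span ⟨(n, p), hp, rfl⟩), ?_⟩
      have h1 : (algebraMap C' C a') ⊗ₜ[D] n = (algebraMap C' C a') • ((1 : C) ⊗ₜ[D] n) := by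
        rw [TensorProduct.smul_tmul', smul_eq_mul, mul_one]
      rw [h1, map_smul, (mem_glue_iff φ (n, p)).mp hp, TensorProduct.smul_tmul', smul_eq_mul,
        mul_one, ← TensorProduct.smul_tmul, Algebra.smul_def, mul_one]
    | add x y hx hy =>
      obtain ⟨q₁, hq₁, h₁⟩ := hx
      obtain ⟨q₂, hq₂, h₂⟩ := hy
      exact ⟨q₁ + q₂, add_mem hq₁ hq₂, by rw [map_add, h₁, h₂, TensorProduct.tmul_add]⟩
  obtain ⟨q, hq, hφ⟩ := key (φ.symm ((1 : C) ⊗ₜ[C'] m))
  rw [LinearEquiv.apply_symm_apply] at hφ
  have h0 : ((1 : C) ⊗ₜ[C'] (m - q) : C ⊗[C'] M') = 0 := by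
    rw [TensorProduct.tmul_sub, hφ, sub_self]
  have h1 := mem_of_one_tmul_eq_zero hs M' _ h0
  have h2 : m - q ∈ Submodule.span C' P :=
    Submodule.subset_span ⟨(0, m - q), zero_mem_glue φ _ h1, rfl⟩
  have := add_mem h2 hq
  rwa [sub_add_cancel] at this

/-- a `D'`-submodule hitting all first components and whose second components span contains the
glued module. -/
theorem glue_le_of (hs : Function.Surjective (algebraMap C' C))
    (hlift : ∀ c' : C', algebraMap C' C c' = 0 →
      ∃ x : D', algebraMap D' D x = 0 ∧ algebraMap D' C' x = c')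
    (φ : C ⊗[D] N ≃ₗ[C] C ⊗[C'] M') (G : Submodule D' (N × M'))
    (hG : G ≤ EtMil.glue D' φ)
    (ha : ∀ n : N, ∃ m' : M', (n, m') ∈ G)
    (hb : Submodule.span C' (Prod.snd '' (G : Set (N × M'))) = ⊤) :
    EtMil.glue D' φ ≤ G := by
  -- (L3)
  have h3 : ∀ y ∈ Submodule.span C' (Prod.snd '' (G : Set (N × M'))),
      ∀ i : C', algebraMap C' C i = 0 → ((0 : N), i • y) ∈ G := by
    intro y hy
    induction hy using Submodule.span_induction with
    | mem p hp =>
      intro i hi
      obtain ⟨⟨n, p⟩, hg, rfl⟩ := hp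
      obtain ⟨x, hx1, hx2⟩ := hlift i hi
      have : ((0 : N), i • p) = x • (n, p) := by
        rw [Prod.smul_mk, ← IsScalarTower.algebraMap_smul D x n, hx1, zero_smul,
          ← IsScalarTower.algebraMap_smul C' x p, hx2]
      rw [this]
      exact Submodule.smul_mem _ _ hg
    | zero => intro i _; rw [smul_zero]; exact zero_mem _
    | add x y _ _ hx hy =>
      intro i hi
      have : ((0 : N), i • (x + y)) = ((0 : N), i • x) + ((0 : N), i • y) := by
        rw [Prod.mk_add_mk, add_zero, smul_add]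
      rw [this]
      exact add_mem (hx i hi) (hy i hi)
    | smul a x _ hx =>
      intro i hi
      rw [← mul_smul]
      exact hx (i * a) (by rw [map_mul, hi, zero_mul])
  rintro ⟨n, m'⟩ hx
  obtain ⟨m'', hm''⟩ := ha n
  have hdiff : ((0 : N), m' - m'') ∈ G := by
    have hmem : ((0 : N), m' - m'') ∈ EtMil.glue D' φ := by
      have := sub_mem hx (hG hm'')
      rwa [Prod.mk_sub_mk, sub_self] at this
    have h1 : ((1 : C) ⊗ₜ[C'] (m' - m'') : C ⊗[C'] M') = 0 := by
      have e1 := (mem_glue_iff φ _).mp hmem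
      simp only [TensorProduct.tmul_zero, map_zero] at e1
      exact e1.symm
    have h2 := mem_of_one_tmul_eq_zero hs M' _ h1
    refine Submodule.smul_induction_on h2 ?_ ?_
    · intro i hi m _
      exact h3 m (by rw [hb]; trivial) i hi
    · intro x y hx hy
      have : ((0 : N), x + y) = ((0 : N), x) + ((0 : N), y) := by
        rw [Prod.mk_add_mk, add_zero]
      rw [this]
      exact add_mem hx hy
  have := add_mem hm'' hdiff
  rwa [Prod.mk_add_mk, add_zero, add_sub_cancel] at this

theorem glue_finite' (hs : Function.Surjective (algebraMap C' C))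
    (hsD : Function.Surjective (algebraMap D' D))
    (hlift : ∀ c' : C', algebraMap C' C c' = 0 →
      ∃ x : D', algebraMap D' D x = 0 ∧ algebraMap D' C' x = c')
    (φ : C ⊗[D] N ≃ₗ[C] C ⊗[C'] M') [Module.Finite D N] [Module.Finite C' M'] :
    Module.Finite D' (EtMil.glue D' φ) := by
  classical
  have : Module.Finite D' D := Module.Finite.of_surjective (Algebra.linearMap D' D) hsD
  have hN : Module.Finite D' N := Module.Finite.trans D N
  -- first components
  have h1 : Submodule.span D' (Prod.fst '' (EtMil.glue D' φ : Set (N × M'))) = ⊤ := by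
    rw [eq_top_iff]
    intro n _
    obtain ⟨p, hp⟩ := exists_snd' (D' := D') hs φ n
    exact Submodule.subset_span ⟨(n, p), hp, rfl⟩
  have hfg1 : (Submodule.span D' (Prod.fst '' (EtMil.glue D' φ : Set (N × M')))).FG := by
    rw [h1]; exact Module.Finite.fg_top
  obtain ⟨s₁, hs₁, hs₁'⟩ := (Submodule.fg_span_iff_fg_span_finset_subset _).mp hfg1
  obtain ⟨T₁, hT₁, hT₁'⟩ := Finset.subset_set_image_iff.mp hs₁
  -- second components
  have h2 : Submodule.span C' (Prod.snd '' (EtMil.glue D' φ : Set (N × M'))) = ⊤ := by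
    rw [eq_top_iff]
    intro m _
    exact span_snd_eq_top' hs φ m
  have hfg2 : (Submodule.span C' (Prod.snd '' (EtMil.glue D' φ : Set (N × M')))).FG := by
    rw [h2]; exact Module.Finite.fg_top
  obtain ⟨s₂, hs₂, hs₂'⟩ := (Submodule.fg_span_iff_fg_span_finset_subset _).mp hfg2
  obtain ⟨T₂, hT₂, hT₂'⟩ := Finset.subset_set_image_iff.mp hs₂
  set G : Submodule D' (N × M') := Submodule.span D' ((T₁ ∪ T₂ : Finset (N × M')) : Set (N × M'))
    with hG
  have hGle : G ≤ EtMil.glue D' φ := by
    rw [hG, Submodule.span_le, Finset.coe_union]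
    exact Set.union_subset hT₁ hT₂
  have hle : EtMil.glue D' φ ≤ G := by
    apply glue_le_of hs hlift φ G hGle
    · intro n
      have hn : n ∈ Submodule.span D' (s₁ : Set N) := by rw [← hs₁', h1]; trivial
      rw [← hT₁', Finset.coe_image] at hn
      have hn' : n ∈ Submodule.map (LinearMap.fst D' N M')
          (Submodule.span D' (T₁ : Set (N × M'))) := by
        rw [Submodule.map_span]; exact hn
      obtain ⟨g, hg, hgn⟩ := hn'
      refine ⟨g.2, ?_⟩
      have : (n, g.2) = g := by rw [← hgn]; rfl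
      rw [this]
      refine Submodule.span_mono ?_ hg
      rw [Finset.coe_union]; exact Set.subset_union_left
    · rw [eq_top_iff, ← h2, hs₂', ← hT₂', Finset.coe_image]
      apply Submodule.span_mono
      apply Set.image_mono
      intro x hx
      refine Submodule.subset_span ?_
      rw [Finset.coe_union]; exact Or.inr hx
  have heq : EtMil.glue D' φ = G := le_antisymm hle hGle
  rw [Module.Finite.iff_fg, heq, hG]
  exact Submodule.fg_span (Finset.finite_toSet _)

end RelGlue

section S6921

theorem rel_surj_D {B' B D' D : Type u} [CommRing B'] [CommRing B] [CommRing D'] [CommRing D]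
    [Algebra B' B] [Algebra B' D'] [Algebra B D] [Algebra D' D] [Algebra B' D]
    [IsScalarTower B' B D] [IsScalarTower B' D' D] [Algebra.IsPushout B' B D' D]
    (hB : Function.Surjective (algebraMap B' B)) :
    Function.Surjective (algebraMap D' D) := by
  have hbc : IsBaseChange B (IsScalarTower.toAlgHom B' D' D).toLinearMap :=
    Algebra.IsPushout.out
  intro d
  refine hbc.inductionOn d (fun d => ∃ x, algebraMap D' D x = d) ⟨0, map_zero _⟩ ?_ ?_ ?_
  · intro d'; exact ⟨d', rfl⟩
  · rintro b n ⟨x, rfl⟩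
    obtain ⟨b', rfl⟩ := hB b
    refine ⟨algebraMap B' D' b' * x, ?_⟩
    rw [map_mul, ← IsScalarTower.algebraMap_apply, Algebra.smul_def,
      ← IsScalarTower.algebraMap_apply]
  · rintro _ _ ⟨x, rfl⟩ ⟨y, rfl⟩
    exact ⟨x + y, map_add _ _ _⟩

theorem rel_surj_C {B' A' A D' C' C : Type u} [CommRing B'] [CommRing A'] [CommRing A]
    [CommRing D'] [CommRing C'] [CommRing C]
    [Algebra B' A] [Algebra B' D'] [Algebra A C] [Algebra D' C] [Algebra B' C]
    [IsScalarTower B' A C] [IsScalarTower B' D' C] [Algebra.IsPushout B' A D' C]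
    [Algebra A' A] [Algebra A' C'] [Algebra C' C] [Algebra A' C] [IsScalarTower A' A C]
    [IsScalarTower A' C' C] [Algebra D' C'] [IsScalarTower D' C' C]
    (hA : Function.Surjective (algebraMap A' A)) :
    Function.Surjective (algebraMap C' C) := by
  have hbc : IsBaseChange A (IsScalarTower.toAlgHom B' D' C).toLinearMap :=
    Algebra.IsPushout.out
  intro c
  refine hbc.inductionOn c (fun c => ∃ x, algebraMap C' C x = c) ⟨0, map_zero _⟩ ?_ ?_ ?_
  · intro d'
    refine ⟨algebraMap D' C' d', ?_⟩
    rw [← IsScalarTower.algebraMap_apply]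
    rfl
  · rintro a n ⟨x, rfl⟩
    obtain ⟨a', rfl⟩ := hA a
    refine ⟨algebraMap A' C' a' * x, ?_⟩
    rw [map_mul, ← IsScalarTower.algebraMap_apply, Algebra.smul_def,
      ← IsScalarTower.algebraMap_apply]
  · rintro _ _ ⟨x, rfl⟩ ⟨y, rfl⟩
    exact ⟨x + y, map_add _ _ _⟩

theorem rel_lift {B' B A' A : Type u} [CommRing B'] [CommRing B] [CommRing A'] [CommRing A]
    [Algebra B' B] [Algebra B' A'] [Algebra B A] [Algebra A' A] [Algebra B' A]
    [IsScalarTower B' B A] [IsScalarTower B' A' A]
    {D' D C' C : Type u} [CommRing D'] [CommRing D] [CommRing C'] [CommRing C]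
    [Algebra B' D'] [Algebra B D] [Algebra A' C'] [Algebra A C]
    [Algebra D' D] [Algebra B' D] [IsScalarTower B' B D] [IsScalarTower B' D' D]
    [Algebra D' C'] [Algebra B' C'] [IsScalarTower B' A' C'] [IsScalarTower B' D' C']
    [Algebra.IsPushout B' A' D' C']
    [Algebra D' C] [Algebra B' C] [IsScalarTower B' A C] [IsScalarTower B' D' C]
    [Algebra.IsPushout B' A D' C]
    [Algebra C' C] [IsScalarTower D' C' C] [Algebra A' C] [IsScalarTower A' A C]
    [IsScalarTower A' C' C]
    (hsq : EtMil.IsFibreSquare B' B A' A) (c' : C')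
    (hc' : algebraMap C' C c' = 0) :
    ∃ x : D', algebraMap D' D x = 0 ∧ algebraMap D' C' x = c' := by
  set e' := Algebra.IsPushout.equiv B' A' D' C' with he'
  set e := Algebra.IsPushout.equiv B' A D' C with he
  have hsq' : ∀ z : A' ⊗[B'] D', algebraMap C' C (e' z) =
      e ((IsScalarTower.toAlgHom B' A' A).toLinearMap.rTensor D' z) := by
    intro z
    induction z using TensorProduct.induction_on with
    | zero => simp
    | tmul a' d' =>
      rw [LinearMap.rTensor_tmul, he', he, Algebra.IsPushout.equiv_tmul,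
        Algebra.IsPushout.equiv_tmul, map_mul, ← IsScalarTower.algebraMap_apply,
        ← IsScalarTower.algebraMap_apply]
      have : (IsScalarTower.toAlgHom B' A' A).toLinearMap a' = algebraMap A' A a' := rfl
      rw [this, ← IsScalarTower.algebraMap_apply]
    | add x y hx hy => rw [map_add, map_add, map_add, map_add, hx, hy]
  have h1 := hsq' (e'.symm c')
  rw [AlgEquiv.apply_symm_apply, hc'] at h1
  have h2 : (IsScalarTower.toAlgHom B' A' A).toLinearMap.rTensor D' (e'.symm c') = 0 := by
    apply e.injective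
    rw [← h1, map_zero]
  obtain ⟨l, hl, hl2⟩ := exists_one_tmul_of_rTensor_eq_zero hsq D' _ h2
  refine ⟨l, ?_, ?_⟩
  · refine Submodule.smul_induction_on hl ?_ ?_
    · intro j hj d _
      rw [Algebra.smul_def, map_mul, ← IsScalarTower.algebraMap_apply,
        IsScalarTower.algebraMap_apply B' B D, (RingHom.mem_ker).mp hj, map_zero, zero_mul]
    · intro x y hx hy
      rw [map_add, hx, hy, add_zero]
  · have h3 : e' ((1 : A') ⊗ₜ[B'] l) = c' := by rw [hl2, AlgEquiv.apply_symm_apply]
    rw [he', Algebra.IsPushout.equiv_tmul, map_one, one_mul] at h3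
    exact h3

end S6921

end Groth.Agent.H7.Milnor
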