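import Mathlib

open CategoryTheory Limits

namespace Groth.Agent.H7.Neron

universe v u
variable {C : Type u} [Category.{v} C]

/-- Precomposition with `p` is bijective on morphisms to `N`. -/
def PreBij {S : C} (N : Over S) {W Z : Over S} (p : W ⟶ Z) : Prop :=
  Function.Bijective (fun g : Z ⟶ N => p ≫ g)

lemma preBij_iff_of_iso {S : C} (N : Over S) {W W' Z : Over S} (p : W ⟶ Z) (p' : W' ⟶ Z)
    (e : W ≅ W') (h : e.hom ≫ p' = p) : PreBij N p ↔ PreBij N p' := by
  have hb : Function.Bijective (fun g : W' ⟶ N => e.hom ≫ g) :=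
    ⟨fun a b hab => by simpa using hab, fun a => ⟨e.inv ≫ a, by simp⟩⟩
  have : (fun g : Z ⟶ N => p ≫ g) = (fun g : W' ⟶ N => e.hom ≫ g) ∘ (fun g : Z ⟶ N => p' ≫ g) := by
    funext g
    simp [← h]
  unfold PreBij
  rw [this]
  exact Function.Bijective.of_comp_iff' hb _

lemma preBij_comp_iff_of_left {S : C} (N : Over S) {W W' Z : Over S} (p : W ⟶ W') (q : W' ⟶ Z)
    (hp : PreBij N p) : PreBij N (p ≫ q) ↔ PreBij N q := by
  have : (fun g : Z ⟶ N => (p ≫ q) ≫ g) = (fun g : W' ⟶ N => p ≫ g) ∘ (fun g : Z ⟶ N => q ≫ g) := by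
    funext g
    simp
  unfold PreBij
  rw [this]
  exact Function.Bijective.of_comp_iff' hp _

lemma preBij_comp_iff_of_right {S : C} (N : Over S) {W W' Z : Over S} (p : W ⟶ W') (q : W' ⟶ Z)
    (hq : PreBij N q) : PreBij N (p ≫ q) ↔ PreBij N p := by
  have : (fun g : Z ⟶ N => (p ≫ q) ≫ g) = (fun g : W' ⟶ N => p ≫ g) ∘ (fun g : Z ⟶ N => q ≫ g) := by
    funext g
    simp
  unfold PreBij
  rw [this]
  exact Function.Bijective.of_comp_iff _ hq

variable [HasPullbacks C]

/-- The Néron-type mapping property of `N` tested on `Z`, for `j : S₀ ⟶ S`. -/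
def NMPAt {S S₀ : C} (j : S₀ ⟶ S) (N Z : Over S) : Prop :=
  Function.Bijective (fun g : Z ⟶ N => (Over.pullback j).map g)

lemma nmpAt_iff_counit {S S₀ : C} (j : S₀ ⟶ S) (N Z : Over S) :
    NMPAt j N Z ↔ PreBij N ((Over.mapPullbackAdj j).counit.app Z) := by
  have h : (fun g : Z ⟶ N => (Over.pullback j).map g) =
      (fun a => ((Over.mapPullbackAdj j).homEquiv _ _) a) ∘
        (fun g : Z ⟶ N => (Over.mapPullbackAdj j).counit.app Z ≫ g) := by
    funext g
    simp only [Function.comp_apply, Adjunction.homEquiv_unit, Functor.map_comp]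
    rw [← Category.assoc]
    erw [(Over.mapPullbackAdj j).right_triangle_components]
    simp
  unfold NMPAt PreBij
  rw [h]
  exact Function.Bijective.of_comp_iff' (Equiv.bijective _) _

lemma preBij_pullback_iff {S S' : C} (g : S' ⟶ S) (N : Over S) {W Z : Over S'} (p : W ⟶ Z) :
    PreBij ((Over.pullback g).obj N) p ↔ PreBij N ((Over.map g).map p) := by
  have h : (fun a : Z ⟶ (Over.pullback g).obj N => p ≫ a) ∘
        (fun a => ((Over.mapPullbackAdj g).homEquiv Z N) a) =
      (fun a => ((Over.mapPullbackAdj g).homEquiv W N) a) ∘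
        (fun a : (Over.map g).obj Z ⟶ N => (Over.map g).map p ≫ a) := by
    funext a
    simp only [Function.comp_apply]
    rw [Adjunction.homEquiv_naturality_left]
  unfold PreBij
  rw [← Function.Bijective.of_comp_iff _ (Equiv.bijective ((Over.mapPullbackAdj g).homEquiv Z N)),
    h]
  exact Function.Bijective.of_comp_iff' (Equiv.bijective _) _

lemma nmpAt_iff_of_isPullback {S S₀ : C} (j : S₀ ⟶ S) (N Z : Over S) {W : Over S} (p : W ⟶ Z)
    (q : W.left ⟶ S₀) (h : IsPullback p.left q Z.hom j) :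
    NMPAt j N Z ↔ PreBij N p := by
  rw [nmpAt_iff_counit]
  refine preBij_iff_of_iso N _ _ (Over.isoMk h.isoPullback.symm ?_) ?_
  · dsimp
    rw [← Over.w p, ← Category.assoc, h.isoPullback_inv_fst, pullback.condition]
  · ext
    dsimp
    simp


/-- Composite of the two counits as a pullback of `Z` along `j₀`. -/
lemma nmpAt_iff_two_step {S S₁ S₁₀ S₀ : C} (j₁ : S₁ ⟶ S) (j₁₀ : S₁₀ ⟶ S₁) (j₀ : S₀ ⟶ S)
    (t : S₁₀ ⟶ S₀) [IsIso t] (w : t ≫ j₀ = j₁₀ ≫ j₁) (N Z : Over S) :
    NMPAt j₀ N Z ↔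
      PreBij N ((Over.map j₁).map ((Over.mapPullbackAdj j₁₀).counit.app ((Over.pullback j₁).obj Z)) ≫
        (Over.mapPullbackAdj j₁).counit.app Z) := by
  refine nmpAt_iff_of_isPullback j₀ N Z _
    (pullback.snd ((Over.pullback j₁).obj Z).hom j₁₀ ≫ t) ?_
  have h1 : IsPullback (pullback.fst ((Over.pullback j₁).obj Z).hom j₁₀)
      (pullback.snd ((Over.pullback j₁).obj Z).hom j₁₀) ((Over.pullback j₁).obj Z).hom j₁₀ :=
    IsPullback.of_hasPullback _ _
  have h2 : IsPullback (pullback.fst Z.hom j₁) (pullback.snd Z.hom j₁) Z.hom j₁ :=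
    IsPullback.of_hasPullback _ _
  have h3 : IsPullback (pullback.snd ((Over.pullback j₁).obj Z).hom j₁₀)
      (pullback.fst ((Over.pullback j₁).obj Z).hom j₁₀ ≫ pullback.fst Z.hom j₁) (j₁₀ ≫ j₁) Z.hom :=
    h1.flip.paste_vert h2.flip
  have h4 : IsPullback t (j₁₀ ≫ j₁) j₀ (𝟙 S) := IsPullback.of_horiz_isIso ⟨by simp [w]⟩
  have h5 := (h3.paste_horiz h4).flip
  rw [Category.comp_id] at h5
  simpa using h5

/-- Transitivity: `S₀ ⊆ S₁ ⊆ S`. -/
lemma nmpAt_trans {S S₁ S₁₀ S₀ : C} (j₁ : S₁ ⟶ S) (j₁₀ : S₁₀ ⟶ S₁) (j₀ : S₀ ⟶ S)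
    (t : S₁₀ ⟶ S₀) [IsIso t] (w : t ≫ j₀ = j₁₀ ≫ j₁) (N Z : Over S)
    (h1 : NMPAt j₁ N Z) (h10 : NMPAt j₁₀ ((Over.pullback j₁).obj N) ((Over.pullback j₁).obj Z)) :
    NMPAt j₀ N Z := by
  rw [nmpAt_iff_two_step j₁ j₁₀ j₀ t w]
  rw [nmpAt_iff_counit] at h1
  rw [nmpAt_iff_counit, preBij_pullback_iff] at h10
  exact (preBij_comp_iff_of_left N _ _ h10).2 h1

/-- Cancellation: `S₀ ⊆ S₁ ⊆ S`. -/
lemma nmpAt_cancel {S S₁ S₁₀ S₀ : C} (j₁ : S₁ ⟶ S) (j₁₀ : S₁₀ ⟶ S₁) (j₀ : S₀ ⟶ S)
    (t : S₁₀ ⟶ S₀) [IsIso t] (w : t ≫ j₀ = j₁₀ ≫ j₁) (N Z : Over S)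
    (h0 : NMPAt j₀ N Z) (h10 : NMPAt j₁₀ ((Over.pullback j₁).obj N) ((Over.pullback j₁).obj Z)) :
    NMPAt j₁ N Z := by
  rw [nmpAt_iff_two_step j₁ j₁₀ j₀ t w] at h0
  rw [nmpAt_iff_counit]
  rw [nmpAt_iff_counit, preBij_pullback_iff] at h10
  exact (preBij_comp_iff_of_left N _ _ h10).1 h0

/-- Base change. -/
lemma nmpAt_baseChange {S S' U U' : C} (g : S' ⟶ S) (j : U ⟶ S) (j' : U' ⟶ S') (t : U' ⟶ U)
    (h : IsPullback t j' j g) (N : Over S) (Y' : Over S')
    (hN : NMPAt j N ((Over.map g).obj Y')) :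
    NMPAt j' ((Over.pullback g).obj N) Y' := by
  rw [nmpAt_iff_counit, preBij_pullback_iff]
  refine (nmpAt_iff_of_isPullback j N ((Over.map g).obj Y') _ (pullback.snd Y'.hom j' ≫ t) ?_).1 hN
  have h1 : IsPullback (pullback.snd Y'.hom j') (pullback.fst Y'.hom j') j' Y'.hom :=
    (IsPullback.of_hasPullback _ _).flip
  have h2 := (h1.paste_horiz h).flip
  simpa using h2


/-- Composition: `N → S → T`. -/
lemma nmpAt_comp {T T₀ S S₀ : C} (f : S ⟶ T) (j : T₀ ⟶ T) (j' : S₀ ⟶ S) (t : S₀ ⟶ T₀)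
    (hsq : IsPullback t j' j f) (N : Over S) (Z : Over T)
    (hS : NMPAt j (Over.mk f) Z)
    (hN : ∀ s : Z ⟶ Over.mk f, NMPAt j' N (Over.mk s.left)) :
    NMPAt j (Over.mk (N.hom ≫ f)) Z := by
  rw [nmpAt_iff_counit] at hS ⊢
  let ε := (Over.mapPullbackAdj j).counit.app Z
  have hε : ε.left = pullback.fst Z.hom j := by simp [ε]
  let π : Over.mk (N.hom ≫ f) ⟶ Over.mk f := Over.homMk N.hom rfl
  -- the key translation of `hN`
  have key : ∀ s : Z ⟶ Over.mk f,
      PreBij N (Over.homMk (pullback.fst Z.hom j) rfl :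
        Over.mk (pullback.fst Z.hom j ≫ s.left) ⟶ Over.mk s.left) := by
    intro s
    have hs : s.left ≫ f = Z.hom := Over.w s
    have hw : pullback.snd Z.hom j ≫ j = (pullback.fst Z.hom j ≫ s.left) ≫ f := by
      rw [Category.assoc, hs, pullback.condition]
    let q : pullback Z.hom j ⟶ S₀ := hsq.lift (pullback.snd Z.hom j) (pullback.fst Z.hom j ≫ s.left) hw
    have hq1 : q ≫ t = pullback.snd Z.hom j := hsq.lift_fst _ _ _
    have hq2 : q ≫ j' = pullback.fst Z.hom j ≫ s.left := hsq.lift_snd _ _ _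
    have h0 : IsPullback (q ≫ t) (pullback.fst Z.hom j) j (s.left ≫ f) := by
      rw [hq1, hs]
      exact (IsPullback.of_hasPullback Z.hom j).flip
    have h1 : IsPullback (pullback.fst Z.hom j) q s.left j' :=
      (IsPullback.of_right h0 hq2 hsq).flip
    exact (nmpAt_iff_of_isPullback j' N (Over.mk s.left)
      (Over.homMk (pullback.fst Z.hom j) rfl :
        Over.mk (pullback.fst Z.hom j ≫ s.left) ⟶ Over.mk s.left) q (by simpa using h1)).1 (hN s)
  constructor
  · intro g g' hgg'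
    dsimp only at hgg'
    have hgg'l : pullback.fst Z.hom j ≫ g.left = pullback.fst Z.hom j ≫ g'.left := by
      have := congrArg (fun x => x.left) hgg'
      simpa using this
    have hss' : g ≫ π = g' ≫ π := hS.1 (by
      dsimp only
      rw [← Category.assoc, ← Category.assoc, hgg'])
    have hss'l : g.left ≫ N.hom = g'.left ≫ N.hom := congrArg (fun x => x.left) hss'
    let s := g ≫ π
    let g1 : Over.mk s.left ⟶ N := Over.homMk g.left rfl
    let g2 : Over.mk s.left ⟶ N := Over.homMk g'.left hss'l.symm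
    have h12 : g1 = g2 := (key s).1 (by
      ext
      simpa [g1, g2] using hgg'l)
    ext
    exact congrArg (fun x => x.left) h12
  · intro h
    obtain ⟨s, hs⟩ := hS.2 (h ≫ π)
    dsimp only at hs
    have hsl : pullback.fst Z.hom j ≫ s.left = h.left ≫ N.hom := by
      have := congrArg (fun x => x.left) hs
      simpa [π] using this
    let h1 : Over.mk (pullback.fst Z.hom j ≫ s.left) ⟶ N := Over.homMk h.left hsl.symm
    obtain ⟨g1, hg1⟩ := (key s).2 h1
    dsimp only at hg1
    have hg1l : pullback.fst Z.hom j ≫ g1.left = h.left := by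
      have := congrArg (fun x => x.left) hg1
      simpa [h1] using this
    have hg1w : g1.left ≫ N.hom = s.left := Over.w g1
    have hsw : s.left ≫ f = Z.hom := Over.w s
    refine ⟨Over.homMk g1.left (by
      dsimp
      rw [← Category.assoc, hg1w, hsw]), ?_⟩
    ext
    simpa using hg1l

/-- Fibre products. -/
lemma preBij_prod {S : C} (N M : Over S) {W Z : Over S} (p : W ⟶ Z)
    (hN : PreBij N p) (hM : PreBij M p) :
    PreBij (Over.mk (pullback.fst N.hom M.hom ≫ N.hom)) p := by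
  let P : Over S := Over.mk (pullback.fst N.hom M.hom ≫ N.hom)
  let fstO : P ⟶ N := Over.homMk (pullback.fst N.hom M.hom) rfl
  let sndO : P ⟶ M := Over.homMk (pullback.snd N.hom M.hom) (by
    dsimp [P]
    rw [pullback.condition])
  constructor
  · intro g g' hgg'
    dsimp only at hgg'
    have h1 : g ≫ fstO = g' ≫ fstO := hN.1 (by
      dsimp only
      rw [← Category.assoc, ← Category.assoc, hgg'])
    have h2 : g ≫ sndO = g' ≫ sndO := hM.1 (by
      dsimp only
      rw [← Category.assoc, ← Category.assoc, hgg'])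
    ext
    apply pullback.hom_ext
    · exact congrArg (fun x => x.left) h1
    · exact congrArg (fun x => x.left) h2
  · intro h
    obtain ⟨a, ha⟩ := hN.2 (h ≫ fstO)
    obtain ⟨b, hb⟩ := hM.2 (h ≫ sndO)
    dsimp only at ha hb
    have ha' : p.left ≫ a.left = h.left ≫ pullback.fst N.hom M.hom :=
      congrArg (fun x => x.left) ha
    have hb' : p.left ≫ b.left = h.left ≫ pullback.snd N.hom M.hom :=
      congrArg (fun x => x.left) hb
    refine ⟨Over.homMk (pullback.lift a.left b.left (by rw [Over.w a, Over.w b])) ?_, ?_⟩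
    · dsimp [P]
      rw [← Category.assoc, pullback.lift_fst, Over.w a]
    · ext
      simp only [Over.comp_left, Over.homMk_left]
      apply pullback.hom_ext
      · rw [Category.assoc, pullback.lift_fst, ha']
      · rw [Category.assoc, pullback.lift_snd, hb']

/-- Fibre of `f : G ⟶ H` over a section `e` of `H`. -/
lemma preBij_fibre {S : C} (G H : Over S) (f : G ⟶ H) (e : S ⟶ H.left) (he : e ≫ H.hom = 𝟙 S)
    {W Z : Over S} (p : W ⟶ Z) (hG : PreBij G p)
    (hH : Function.Injective (fun g : Z ⟶ H => p ≫ g)) :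
    PreBij (Over.mk (pullback.snd f.left e)) p := by
  let K : Over S := Over.mk (pullback.snd f.left e)
  have hK : pullback.fst f.left e ≫ G.hom = pullback.snd f.left e := by
    rw [← Over.w f, ← Category.assoc, pullback.condition, Category.assoc, he, Category.comp_id]
  let i : K ⟶ G := Over.homMk (pullback.fst f.left e) hK
  let eO : Over.mk (𝟙 S) ⟶ H := Over.homMk e he
  constructor
  · intro g g' hgg'
    dsimp only at hgg'
    have h1 : g ≫ i = g' ≫ i := hG.1 (by
      dsimp only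
      rw [← Category.assoc, ← Category.assoc, hgg'])
    have h1' : g.left ≫ pullback.fst f.left e = g'.left ≫ pullback.fst f.left e :=
      congrArg (fun x => x.left) h1
    have hg : g.left ≫ pullback.snd f.left e = Z.hom := Over.w g
    have hg' : g'.left ≫ pullback.snd f.left e = Z.hom := Over.w g'
    ext
    apply pullback.hom_ext
    · exact h1'
    · rw [hg, hg']
  · intro h
    obtain ⟨a, ha⟩ := hG.2 (h ≫ i)
    dsimp only at ha
    have ha' : p.left ≫ a.left = h.left ≫ pullback.fst f.left e :=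
      congrArg (fun x => x.left) ha
    have hw : h.left ≫ pullback.snd f.left e = W.hom := Over.w h
    have hp : p.left ≫ Z.hom = W.hom := Over.w p
    have hZ : a ≫ f = (Over.homMk Z.hom : Z ⟶ Over.mk (𝟙 S)) ≫ eO := hH (by
      dsimp only
      rw [← Category.assoc, ha]
      ext
      simp only [Over.comp_left, Over.homMk_left, i, eO, Category.assoc]
      rw [pullback.condition, ← Category.assoc, hw, ← Category.assoc, hp])
    have hZ' : a.left ≫ f.left = Z.hom ≫ e := congrArg (fun x => x.left) hZ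
    refine ⟨Over.homMk (pullback.lift a.left Z.hom hZ') ?_, ?_⟩
    · dsimp [K]
      rw [pullback.lift_snd]
    · ext
      simp only [Over.comp_left, Over.homMk_left]
      apply pullback.hom_ext
      · rw [Category.assoc, pullback.lift_fst, ha']
      · rw [Category.assoc, pullback.lift_snd, hw, hp]

end Groth.Agent.H7.Neron
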