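import Mathlib
import Groth.Agent.Lib.Helper7.Neron1

open CategoryTheory Limits AlgebraicGeometry

namespace Groth.Agent.H7.Neron

universe v u

section general
variable {C : Type u} [Category.{v} C]

lemma isIso_of_isPullback_of_factor {A B D E : C} {t : A ⟶ B} {a : A ⟶ D} {b : B ⟶ E} {d : D ⟶ E}
    (h : IsPullback t a b d) [Mono d] (k : B ⟶ D) (hk : k ≫ d = b) : IsIso t := by
  refine ⟨h.lift (𝟙 B) k (by simp [hk]), ?_, h.lift_fst _ _ _⟩
  apply h.hom_ext
  · simp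
  · rw [Category.assoc, h.lift_snd, Category.id_comp, ← cancel_mono d, Category.assoc, hk, h.w]

end general

instance : MorphismProperty.IsMultiplicative @Smooth where
  id_mem _ := inferInstanceAs (Smooth (𝟙 _))

instance : MorphismProperty.HasOfPostcompProperty @Smooth @Etale := by
  rw [MorphismProperty.hasOfPostcompProperty_iff_le_diagonal]
  intro X Y f hf
  have : Etale f := hf
  have : Etale (pullback.diagonal f) := inferInstance
  exact inferInstanceAs (Smooth (pullback.diagonal f))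

lemma smooth_of_comp_etale {X Y Z : Scheme.{u}} (a : X ⟶ Y) (f : Y ⟶ Z) [Etale f]
    (h : Smooth (a ≫ f)) : Smooth a :=
  MorphismProperty.of_postcomp (W := @Smooth) (W' := @Etale) a f ‹_› h

theorem S13418_main {S : Scheme.{u}} (S₀ : S.Opens) (N M : Over S)
    (hN : ∀ Z : Over S, Smooth Z.hom →
      Function.Bijective (fun g : Z ⟶ N => (Over.pullback S₀.ι).map g))
    (hM : ∀ Z : Over S, Smooth Z.hom →
      Function.Bijective (fun g : Z ⟶ M => (Over.pullback S₀.ι).map g)) :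
    ∀ Z : Over S, Smooth Z.hom → Function.Bijective
      (fun g : Z ⟶ Over.mk (Limits.pullback.fst N.hom M.hom ≫ N.hom) =>
        (Over.pullback S₀.ι).map g) := by
  intro Z hZ
  exact (nmpAt_iff_counit _ _ _).2 (preBij_prod N M _ ((nmpAt_iff_counit _ _ _).1 (hN Z hZ))
    ((nmpAt_iff_counit _ _ _).1 (hM Z hZ)))

theorem S13427_main {S : Scheme.{u}} (S₀ : S.Opens) (G H : Over S)
    (hG : ∀ Z : Over S, Smooth Z.hom →
      Function.Bijective (fun g : Z ⟶ G => (Over.pullback S₀.ι).map g))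
    (hH : ∀ Z : Over S, Smooth Z.hom →
      Function.Bijective (fun g : Z ⟶ H => (Over.pullback S₀.ι).map g))
    (f : G ⟶ H) (e : S ⟶ H.left) (he : e ≫ H.hom = 𝟙 S) :
    ∀ Z : Over S, Smooth Z.hom → Function.Bijective
      (fun g : Z ⟶ Over.mk (Limits.pullback.snd f.left e) => (Over.pullback S₀.ι).map g) := by
  intro Z hZ
  exact (nmpAt_iff_counit _ _ _).2 (preBij_fibre G H f e he _
    ((nmpAt_iff_counit _ _ _).1 (hG Z hZ)) ((nmpAt_iff_counit _ _ _).1 (hH Z hZ)).1)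

lemma isIso_morphismRestrict_ι {S : Scheme.{u}} (S₀ S₁ : S.Opens) (h01 : S₀ ≤ S₁) :
    IsIso (S₁.ι ∣_ S₀) :=
  isIso_of_isPullback_of_factor (isPullback_morphismRestrict S₁.ι S₀) (S.homOfLE h01) (by simp)

theorem S13419_main {S : Scheme.{u}} (S₀ S₁ : S.Opens) (h01 : S₀ ≤ S₁) (N : Over S)
    (hN1 : ∀ Z : Over S, Smooth Z.hom →
      Function.Bijective (fun g : Z ⟶ N => (Over.pullback S₁.ι).map g))
    (hN10 : ∀ Z : Over (S₁ : Scheme.{u}), Smooth Z.hom →
      Function.Bijective (fun g : Z ⟶ (Over.pullback S₁.ι).obj N =>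
        (Over.pullback (S₁.ι ⁻¹ᵁ S₀).ι).map g)) :
    ∀ Z : Over S, Smooth Z.hom →
      Function.Bijective (fun g : Z ⟶ N => (Over.pullback S₀.ι).map g) := by
  intro Z hZ
  haveI := isIso_morphismRestrict_ι S₀ S₁ h01
  refine nmpAt_trans S₁.ι (S₁.ι ⁻¹ᵁ S₀).ι S₀.ι (S₁.ι ∣_ S₀) (morphismRestrict_ι _ _) N Z
    (hN1 Z hZ) (hN10 _ ?_)
  change Smooth (pullback.snd Z.hom S₁.ι)
  infer_instance

theorem S13420_main {S : Scheme.{u}} (S₀ S₁ : S.Opens) (h01 : S₀ ≤ S₁) (N : Over S)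
    (hN0 : ∀ Z : Over S, Smooth Z.hom →
      Function.Bijective (fun g : Z ⟶ N => (Over.pullback S₀.ι).map g))
    (hN10 : ∀ Z : Over (S₁ : Scheme.{u}), Smooth Z.hom →
      Function.Bijective (fun g : Z ⟶ (Over.pullback S₁.ι).obj N =>
        (Over.pullback (S₁.ι ⁻¹ᵁ S₀).ι).map g)) :
    ∀ Z : Over S, Smooth Z.hom →
      Function.Bijective (fun g : Z ⟶ N => (Over.pullback S₁.ι).map g) := by
  intro Z hZ
  haveI := isIso_morphismRestrict_ι S₀ S₁ h01
  refine nmpAt_cancel S₁.ι (S₁.ι ⁻¹ᵁ S₀).ι S₀.ι (S₁.ι ∣_ S₀) (morphismRestrict_ι _ _) N Z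
    (hN0 Z hZ) (hN10 _ ?_)
  change Smooth (pullback.snd Z.hom S₁.ι)
  infer_instance

theorem S13203_main {S S' : Scheme.{u}} (g : S' ⟶ S) [Smooth g] (U : S.Opens) (N : Over S)
    (hN : ∀ Y : Over S, Smooth Y.hom →
      Function.Bijective (fun f : Y ⟶ N => (Over.pullback U.ι).map f))
    (Y' : Over S') [Smooth Y'.hom] :
    Function.Bijective (fun f : Y' ⟶ (Over.pullback g).obj N =>
      (Over.pullback (g ⁻¹ᵁ U).ι).map f) := by
  refine nmpAt_baseChange g U.ι (g ⁻¹ᵁ U).ι (g ∣_ U) (isPullback_morphismRestrict g U) N Y'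
    (hN _ ?_)
  change Smooth (Y'.hom ≫ g)
  infer_instance

theorem S13421_main {T : Scheme.{u}} (T₀ : T.Opens) {S N : Scheme.{u}} (f : S ⟶ T) [Etale f]
    (g : N ⟶ S)
    (hS : ∀ Z : Over T, Smooth Z.hom →
      Function.Bijective (fun g : Z ⟶ Over.mk f => (Over.pullback T₀.ι).map g))
    (hN : ∀ Z : Over S, Smooth Z.hom →
      Function.Bijective (fun g' : Z ⟶ Over.mk g => (Over.pullback (f ⁻¹ᵁ T₀).ι).map g')) :
    ∀ Z : Over T, Smooth Z.hom →
      Function.Bijective (fun g' : Z ⟶ Over.mk (g ≫ f) => (Over.pullback T₀.ι).map g') := by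
  intro Z hZ
  refine nmpAt_comp f T₀.ι (f ⁻¹ᵁ T₀).ι (f ∣_ T₀) (isPullback_morphismRestrict f T₀)
    (Over.mk g) Z (hS Z hZ) (fun s => hN _ ?_)
  change Smooth s.left
  apply smooth_of_comp_etale s.left f
  have hw : s.left ≫ f = Z.hom := Over.w s
  rw [hw]
  exact hZ

end Groth.Agent.H7.Neron
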