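import Mathlib

/-!
# Helper7: WayOut1 — way-out dévissage for natural transformations of triangulated functors
between derived categories
-/

set_option autoImplicit false

open CategoryTheory Limits Pretriangulated DerivedCategory

namespace Groth.Agent.H7.WayOut

universe w₁ w₂ v₁ v₂ u₁ u₂

variable {A : Type u₁} [Category.{v₁} A] [Abelian A] [HasDerivedCategory.{w₁} A]
  {B : Type u₂} [Category.{v₂} B] [Abelian B] [HasDerivedCategory.{w₂} B]

section Homology

/-- for a distinguished triangle with third vertex in `D^{≥ c}`, the first map is an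
isomorphism on `H^q` for `q < c` -/
lemma isIso_homology_mor₁ (T : Triangle (DerivedCategory A)) (hT : T ∈ distTriang _) (c q : ℤ)
    (h₃ : T.obj₃.IsGE c) (hq : q < c) : IsIso ((homologyFunctor A q).map T.mor₁) := by
  haveI : Mono ((homologyFunctor A q).map T.mor₁) := by
    rw [HomologySequence.mono_homologyMap_mor₁_iff T hT (q - 1) q (by omega)]
    exact (T.obj₃.isZero_of_isGE c (q - 1) (by omega)).eq_of_src _ _
  haveI : Epi ((homologyFunctor A q).map T.mor₁) := by
    rw [HomologySequence.epi_homologyMap_mor₁_iff T hT q]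
    exact (T.obj₃.isZero_of_isGE c q hq).eq_of_tgt _ _
  exact isIso_of_mono_of_epi _

/-- for a distinguished triangle with first vertex in `D^{≤ c - 1}`, the second map is an
isomorphism on `H^q` for `q ≥ c` -/
lemma isIso_homology_mor₂ (T : Triangle (DerivedCategory A)) (hT : T ∈ distTriang _) (c q : ℤ)
    (h₁ : T.obj₁.IsLE (c - 1)) (hq : c ≤ q) : IsIso ((homologyFunctor A q).map T.mor₂) := by
  haveI : Mono ((homologyFunctor A q).map T.mor₂) := by
    rw [HomologySequence.mono_homologyMap_mor₂_iff T hT q]
    exact (T.obj₁.isZero_of_isLE (c - 1) q (by omega)).eq_of_src _ _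
  haveI : Epi ((homologyFunctor A q).map T.mor₂) := by
    rw [HomologySequence.epi_homologyMap_mor₂_iff T hT q (q + 1) rfl]
    exact (T.obj₁.isZero_of_isLE (c - 1) (q + 1) (by omega)).eq_of_tgt _ _
  exact isIso_of_mono_of_epi _

/-- the canonical t-structure -/
noncomputable abbrev tA : Triangulated.TStructure (DerivedCategory A) := TStructure.t

lemma isIso_homology_truncLTι (X : DerivedCategory A) (c q : ℤ) (hq : q < c) :
    IsIso ((homologyFunctor A q).map (((tA (A := A)).truncLTι c).app X)) :=
  isIso_homology_mor₁ ((tA.triangleLTGE c).obj X) (tA.triangleLTGE_distinguished c X) c q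
    inferInstance hq

lemma isIso_homology_truncGEπ (X : DerivedCategory A) (c q : ℤ) (hq : c ≤ q) :
    IsIso ((homologyFunctor A q).map (((tA (A := A)).truncGEπ c).app X)) :=
  isIso_homology_mor₂ ((tA.triangleLTGE c).obj X) (tA.triangleLTGE_distinguished c X) c q
    inferInstance hq

end Homology

section Main

variable {F G : DerivedCategory A ⥤ DerivedCategory B} [F.CommShift ℤ] [G.CommShift ℤ]
  [F.IsTriangulated] [G.IsTriangulated] (α : F ⟶ G) [NatTrans.CommShift α ℤ]

lemma isIso_app_of_iso {X Z : DerivedCategory A} (e : X ≅ Z) (h : IsIso (α.app Z)) :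
    IsIso (α.app X) := by
  have : α.app X = F.map e.hom ≫ α.app Z ≫ G.map e.inv := by
    rw [← Category.assoc, α.naturality, Category.assoc, ← G.map_comp, e.hom_inv_id, G.map_id,
      Category.comp_id]
  rw [this]
  infer_instance

lemma isIso_app_shift (X : DerivedCategory A) (k : ℤ) (h : IsIso (α.app X)) :
    IsIso (α.app (X⟦k⟧)) := by
  have h1 := NatTrans.shift_app_comm α k X
  have : α.app (X⟦k⟧) = (F.commShiftIso k).hom.app X ≫ (α.app X)⟦k⟧' ≫
      (G.commShiftIso k).inv.app X := by
    rw [← Category.assoc, h1, Category.assoc, Iso.hom_inv_id_app]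
    exact (Category.comp_id _).symm
  rw [this]
  infer_instance

lemma isIso_app_of_isZero {X : DerivedCategory A} (hX : IsZero X) : IsIso (α.app X) := by
  have hF : IsZero (F.obj X) := F.map_isZero hX
  have hG : IsZero (G.obj X) := G.map_isZero hX
  exact ⟨0, hF.eq_of_src _ _, hG.eq_of_src _ _⟩

/-- two out of three -/
lemma isIso_app_obj₂ (T : Triangle (DerivedCategory A)) (hT : T ∈ distTriang _)
    (h₁ : IsIso (α.app T.obj₁)) (h₃ : IsIso (α.app T.obj₃)) : IsIso (α.app T.obj₂) := by
  let φ : F.mapTriangle.obj T ⟶ G.mapTriangle.obj T :=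
    { hom₁ := α.app T.obj₁
      hom₂ := α.app T.obj₂
      hom₃ := α.app T.obj₃
      comm₁ := α.naturality T.mor₁
      comm₂ := α.naturality T.mor₂
      comm₃ := by
        change (F.map T.mor₃ ≫ (F.commShiftIso (1 : ℤ)).hom.app T.obj₁) ≫
          (α.app T.obj₁)⟦(1 : ℤ)⟧' =
          α.app T.obj₃ ≫ (G.map T.mor₃ ≫ (G.commShiftIso (1 : ℤ)).hom.app T.obj₁)
        rw [Category.assoc, NatTrans.shift_app_comm α 1 T.obj₁, ← Category.assoc,
          ← Category.assoc, α.naturality T.mor₃] }
  exact isIso₂_of_isIso₁₃ φ (F.map_distinguished T hT) (G.map_distinguished T hT) h₁ h₃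

/-- the coefficient objects at which `α` is an isomorphism -/
def Good (M : A) : Prop := IsIso (α.app ((singleFunctor A 0).obj M))

lemma good_of_iso {M M' : A} (e : M ≅ M') (h : Good α M') : Good α M :=
  isIso_app_of_iso α ((singleFunctor A 0).mapIso e) h

lemma good_of_isZero {M : A} (h : IsZero M) : Good α M :=
  isIso_app_of_isZero α ((singleFunctor A 0).map_isZero h)

/-- objects concentrated in one degree -/
lemma isIso_app_of_isGE_of_isLE (X : DerivedCategory A) (a : ℤ) (h₁ : X.IsGE a) (h₂ : X.IsLE a)
    (h : Good α ((homologyFunctor A a).obj X)) : IsIso (α.app X) := by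
  obtain ⟨Y, ⟨e⟩⟩ := exists_iso_singleFunctor_obj_of_isGE_of_isLE X a
  have e1 : (homologyFunctor A a).obj X ≅ Y :=
    (homologyFunctor A a).mapIso e ≪≫ (singleFunctorCompHomologyFunctorIso A a).app Y
  have hY : Good α Y := good_of_iso α e1.symm h
  have e2 : ((singleFunctor A 0).obj Y)⟦-a⟧ ≅ (singleFunctor A a).obj Y :=
    ((singleFunctors A).shiftIso (-a) a 0 (by omega)).app Y
  have h3 : IsIso (α.app (((singleFunctor A 0).obj Y)⟦-a⟧)) := isIso_app_shift α _ _ hY
  exact isIso_app_of_iso α (e ≪≫ e2.symm) h3

lemma good_homology_truncLT (X : DerivedCategory A) (c : ℤ)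
    (h : ∀ q, Good α ((homologyFunctor A q).obj X)) (q : ℤ) :
    Good α ((homologyFunctor A q).obj ((tA.truncLT c).obj X)) := by
  by_cases hq : q < c
  · haveI := isIso_homology_truncLTι X c q hq
    exact good_of_iso α (asIso ((homologyFunctor A q).map ((tA.truncLTι c).app X))) (h q)
  · apply good_of_isZero
    haveI : ((tA.truncLT c).obj X).IsLE (c - 1) := inferInstance
    exact ((tA.truncLT c).obj X).isZero_of_isLE (c - 1) q (by omega)

lemma good_homology_truncGE (X : DerivedCategory A) (c : ℤ)
    (h : ∀ q, Good α ((homologyFunctor A q).obj X)) (q : ℤ) :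
    Good α ((homologyFunctor A q).obj ((tA.truncGE c).obj X)) := by
  by_cases hq : c ≤ q
  · haveI := isIso_homology_truncGEπ X c q hq
    exact good_of_iso α (asIso ((homologyFunctor A q).map ((tA.truncGEπ c).app X))).symm (h q)
  · apply good_of_isZero
    haveI : ((tA.truncGE c).obj X).IsGE c := inferInstance
    exact ((tA.truncGE c).obj X).isZero_of_isGE c q (by omega)

/-- the bounded case -/
theorem isIso_app_of_bounded (N : ℕ) : ∀ (X : DerivedCategory A) (a : ℤ), X.IsGE a →
    X.IsLE (a + N) → (∀ q, Good α ((homologyFunctor A q).obj X)) → IsIso (α.app X) := by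
  induction N with
  | zero =>
    intro X a h₁ h₂ h
    have h₂' : X.IsLE a := by simpa using h₂
    exact isIso_app_of_isGE_of_isLE α X a h₁ h₂' (h a)
  | succ N ih =>
    intro X a h₁ h₂ h
    let c : ℤ := a + N + 1
    have hT := tA.triangleLTGE_distinguished c X
    haveI := h₁
    have h2' : X.IsLE c := by
      have : a + ((N + 1 : ℕ) : ℤ) = c := by push_cast; ring
      rwa [this] at h₂
    haveI := h2'
    have i1 : IsIso (α.app ((tA.truncLT c).obj X)) := by
      refine ih _ a inferInstance ?_ (good_homology_truncLT α X c h)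
      exact tA.isLE_truncLT_obj X c (a + N) (by omega)
    have i3 : IsIso (α.app ((tA.truncGE c).obj X)) :=
      isIso_app_of_isGE_of_isLE α _ c inferInstance inferInstance
        (good_homology_truncGE α X c h c)
    exact isIso_app_obj₂ α ((tA.triangleLTGE c).obj X) hT i1 i3

/-- the bounded below case, for left t-exact functors -/
theorem isIso_app_of_isGE
    (hF : ∀ (X : DerivedCategory A) (n : ℤ), X.IsGE n → (F.obj X).IsGE n)
    (hG : ∀ (X : DerivedCategory A) (n : ℤ), X.IsGE n → (G.obj X).IsGE n)
    (X : DerivedCategory A) (n₀ : ℤ) (hX : X.IsGE n₀)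
    (h : ∀ q, Good α ((homologyFunctor A q).obj X)) : IsIso (α.app X) := by
  rw [DerivedCategory.isIso_iff]
  intro q
  let c : ℤ := q + 1
  let X' := (tA.truncLT c).obj X
  let ι : X' ⟶ X := (tA.truncLTι c).app X
  have hT := tA.triangleLTGE_distinguished c X
  haveI := hX
  -- `α` is an isomorphism at the truncation
  have i1 : IsIso (α.app X') := by
    let a : ℤ := min n₀ q
    have ha : X'.IsGE a := by
      haveI : X'.IsGE n₀ := inferInstance
      exact tA.isGE_of_ge X' a n₀ (min_le_left _ _)
    have hb : X'.IsLE (a + ((q - a).toNat : ℕ)) := by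
      have : a + ((q - a).toNat : ℤ) = q := by
        have : a ≤ q := min_le_right _ _
        omega
      rw [this]
      exact tA.isLE_truncLT_obj X c q (by omega)
    exact isIso_app_of_bounded α _ X' a ha hb (good_homology_truncLT α X c h)
  -- the truncation map induces isomorphisms on `H^q` after applying `F` and `G`
  have iF : IsIso ((homologyFunctor B q).map (F.map ι)) :=
    isIso_homology_mor₁ (F.mapTriangle.obj ((tA.triangleLTGE c).obj X))
      (F.map_distinguished _ hT) c q (hF _ c inferInstance) (by omega)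
  have iG : IsIso ((homologyFunctor B q).map (G.map ι)) :=
    isIso_homology_mor₁ (G.mapTriangle.obj ((tA.triangleLTGE c).obj X))
      (G.map_distinguished _ hT) c q (hG _ c inferInstance) (by omega)
  have hn : (homologyFunctor B q).map (F.map ι) ≫ (homologyFunctor B q).map (α.app X) =
      (homologyFunctor B q).map (α.app X') ≫ (homologyFunctor B q).map (G.map ι) := by
    rw [← Functor.map_comp, ← Functor.map_comp, α.naturality]
  have : (homologyFunctor B q).map (α.app X) =
      inv ((homologyFunctor B q).map (F.map ι)) ≫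
        (homologyFunctor B q).map (α.app X') ≫ (homologyFunctor B q).map (G.map ι) := by
    rw [← hn, IsIso.inv_hom_id_assoc]
  rw [this]
  infer_instance

end Main

end Groth.Agent.H7.WayOut
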