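import Mathlib
open CategoryTheory CategoryTheory.Limits AlgebraicGeometry
universe u

namespace Groth.Agent.H7.ClImmMod

lemma faithful_pushforward {S T : Scheme.{u}} (f : S ⟶ T) [IsClosedImmersion f] :
    (Scheme.Modules.pushforward f).Faithful where
  map_injective := by
    intro E E' φ ψ h
    refine Scheme.Modules.hom_ext _ _ fun U => ?_
    obtain ⟨V, hV, hVU⟩ := (f.isClosedEmbedding.isInducing.isOpen_iff).mp U.2
    obtain rfl : U = f ⁻¹ᵁ ⟨V, hV⟩ := by ext1; exact hVU.symm
    have := congrArg (fun α => Scheme.Modules.Hom.app α ⟨V, hV⟩) h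
    exact this

theorem main {S T : Scheme.{u}} (f : S ⟶ T) [IsClosedImmersion f] (G : T.Modules) (E : S.Modules)
    (ψ : G ⟶ (Scheme.Modules.pushforward f).obj E) [Epi ψ] :
    Epi (((Scheme.Modules.pullbackPushforwardAdjunction f).homEquiv G E).symm ψ) ∧
      Epi (kernelComparison ψ (Scheme.Modules.pullback f)) := by
  constructor
  · set ψ' := ((Scheme.Modules.pullbackPushforwardAdjunction f).homEquiv G E).symm ψ with hψ'
    have h1 : ψ = (Scheme.Modules.pullbackPushforwardAdjunction f).unit.app G ≫
        (Scheme.Modules.pushforward f).map ψ' := by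
      have := (Scheme.Modules.pullbackPushforwardAdjunction f).homEquiv_unit (f := ψ')
      rw [← this, hψ', Equiv.apply_symm_apply]
    haveI : Epi ((Scheme.Modules.pushforward f).map ψ') := by
      have : Epi ((Scheme.Modules.pullbackPushforwardAdjunction f).unit.app G ≫
        (Scheme.Modules.pushforward f).map ψ') := h1 ▸ ‹Epi ψ›
      exact epi_of_epi ((Scheme.Modules.pullbackPushforwardAdjunction f).unit.app G) _
    haveI := faithful_pushforward f
    exact (Scheme.Modules.pushforward f).epi_of_epi_map ‹_›
  · let Sc : ShortComplex T.Modules := ShortComplex.mk (kernel.ι ψ) ψ (kernel.condition ψ)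
    have hS : Sc.Exact := ShortComplex.exact_of_f_is_kernel _ (kernelIsKernel ψ)
    haveI : Epi Sc.g := ‹Epi ψ›
    have hS' : (Sc.map (Scheme.Modules.pullback f)).Exact :=
      hS.map_of_epi_of_preservesCokernel (Scheme.Modules.pullback f) inferInstance inferInstance
    exact (ShortComplex.exact_iff_epi_kernel_lift _).mp hS'

end Groth.Agent.H7.ClImmMod
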