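import Mathlib

set_option autoImplicit false

universe w v₁ v₂ v₃ u₁ u₂ u₃

open CategoryTheory CategoryTheory.Limits Opposite

namespace Groth.Agent.H7.GT

section LanEval

variable {C : Type u₁} [Category.{v₁} C] {D : Type u₂} [Category.{v₂} D]
  (E : Type u₃) [Category.{v₃} E]

set_option backward.defeqAttrib.useBackward true in
set_option backward.isDefEq.respectTransparency false in
/-- General-universe version of Mathlib's `lanEvaluationIsoColim`. -/
noncomputable def lanEvalIso (F : C ⥤ D) (X : D)
    [∀ X : D, HasColimitsOfShape (CostructuredArrow F X) E] :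
    F.lan ⋙ (evaluation D E).obj X ≅
      (Functor.whiskeringLeft _ _ E).obj (CostructuredArrow.proj F X) ⋙ colim :=
  NatIso.ofComponents (fun G =>
    IsColimit.coconePointUniqueUpToIso
    (Functor.isPointwiseLeftKanExtensionLeftKanExtensionUnit F G X)
    (colimit.isColimit _)) (fun {G₁ G₂} φ => by
      apply (Functor.isPointwiseLeftKanExtensionLeftKanExtensionUnit F G₁ X).hom_ext
      intro T
      have h₁ := fun (G : C ⥤ E) => IsColimit.comp_coconePointUniqueUpToIso_hom
        (Functor.isPointwiseLeftKanExtensionLeftKanExtensionUnit F G X) (colimit.isColimit _) T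
      have h₂ := congr_app (F.lanUnit.naturality φ) T.left
      dsimp at h₁ h₂ ⊢
      simp only [Category.assoc] at h₁ ⊢
      simp only [Functor.lan, Functor.lanUnit] at h₂ ⊢
      rw [reassoc_of% h₁, NatTrans.naturality_assoc, ← reassoc_of% h₂, h₁,
        ι_colimMap, Functor.whiskerLeft_app]
      rfl)

/-- If all the comma categories have exact colimits in `E`, then `F.lan` preserves finite limits. -/
theorem lan_preservesFiniteLimits_of_exact (F : C ⥤ D) [HasFiniteLimits E]
    [∀ X : D, HasColimitsOfShape (CostructuredArrow F X) E]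
    [∀ X : D, HasExactColimitsOfShape (CostructuredArrow F X) E] :
    PreservesFiniteLimits (F.lan : (C ⥤ E) ⥤ (D ⥤ E)) := by
  apply preservesFiniteLimits_of_preservesFiniteLimitsOfSize.{0}
  intro J _ _
  apply preservesLimitsOfShape_of_evaluation (F.lan : (C ⥤ E) ⥤ D ⥤ E) J
  intro K
  exact preservesLimitsOfShape_of_natIso (lanEvalIso E F K).symm

end LanEval

end Groth.Agent.H7.GT

namespace Groth.Agent.H7.GT

section Components

variable (J : Type u₁) [Category.{v₁} J]

/-- The projection to connected components. -/
def piJ : J ⥤ Discrete (ConnectedComponents J) := ConnectedComponents.functorToDiscrete _ id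

variable {J}

lemma cospan_of_zigzag [HasPushouts J] {j j' : J} (h : Zigzag j j') :
    ∃ (k : J) (_ : j ⟶ k) (_ : j' ⟶ k), True := by
  induction h with
  | refl => exact ⟨j, 𝟙 _, 𝟙 _, trivial⟩
  | tail _ hz ih =>
    obtain ⟨k, f, g, -⟩ := ih
    rcases hz with ⟨⟨h⟩⟩ | ⟨⟨h⟩⟩
    · exact ⟨pushout g h, f ≫ pushout.inl g h, pushout.inr g h, trivial⟩
    · exact ⟨k, f, h ≫ g, trivial⟩

instance isFiltered_costructuredArrow_piJ [HasPushouts J] [HasCoequalizers J]
    (c : Discrete (ConnectedComponents J)) : IsFiltered (CostructuredArrow (piJ J) c) := by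
  have hne : Nonempty (CostructuredArrow (piJ J) c) := by
    obtain ⟨c⟩ := c
    obtain ⟨j, rfl⟩ := Quotient.exists_rep c
    exact ⟨CostructuredArrow.mk (Y := j) (𝟙 _)⟩
  have : IsFilteredOrEmpty (CostructuredArrow (piJ J) c) := by
    refine ⟨fun X Y => ?_, fun X Y f g => ?_⟩
    · have hX : (Quotient.mk _ X.left : ConnectedComponents J) = c.as := Discrete.eq_of_hom X.hom
      have hY : (Quotient.mk _ Y.left : ConnectedComponents J) = c.as := Discrete.eq_of_hom Y.hom
      have hz : Zigzag X.left Y.left := Quotient.exact (hX.trans hY.symm)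
      obtain ⟨k, f, g, -⟩ := cospan_of_zigzag hz
      have hk : (Quotient.mk _ k : ConnectedComponents J) = c.as :=
        (Quotient.sound (Zigzag.of_hom f)).symm.trans hX
      refine ⟨CostructuredArrow.mk (Y := k) (Discrete.eqToHom hk),
        CostructuredArrow.homMk f (Subsingleton.elim _ _),
        CostructuredArrow.homMk g (Subsingleton.elim _ _), trivial⟩
    · have hY : (Quotient.mk _ Y.left : ConnectedComponents J) = c.as := Discrete.eq_of_hom Y.hom
      have hk : (Quotient.mk _ (coequalizer f.left g.left) : ConnectedComponents J) = c.as :=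
        (Quotient.sound (Zigzag.of_hom (coequalizer.π f.left g.left))).symm.trans hY
      refine ⟨CostructuredArrow.mk (Y := coequalizer f.left g.left) (Discrete.eqToHom hk),
        CostructuredArrow.homMk (coequalizer.π f.left g.left) (Subsingleton.elim _ _), ?_⟩
      ext
      exact coequalizer.condition f.left g.left
  exact { }

end Components

end Groth.Agent.H7.GT

namespace Groth.Agent.H7.GT

section Exact

variable (J : Type u₁) [Category.{v₁} J] (A : Type u₃) [Category.{v₃} A]

theorem hasExactColimitsOfShape_of_components [HasFiniteLimits A]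
    [HasColimitsOfShape J A] [HasColimitsOfShape (Discrete (ConnectedComponents J)) A]
    [HasExactColimitsOfShape (Discrete (ConnectedComponents J)) A]
    [∀ c, HasColimitsOfShape (CostructuredArrow (piJ J) c) A]
    [∀ c, HasExactColimitsOfShape (CostructuredArrow (piJ J) c) A] :
    HasExactColimitsOfShape J A := by
  constructor
  have := lan_preservesFiniteLimits_of_exact A (piJ J)
  have : PreservesFiniteLimits ((piJ J).lan ⋙ (colim : (Discrete (ConnectedComponents J) ⥤ A) ⥤ A)) :=
    comp_preservesFiniteLimits _ _
  exact preservesFiniteLimits_of_natIso (Functor.lanCompColimIso (piJ J))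

/-- A category with pushouts and coequalizers has exact colimits in a category with
exact filtered colimits and exact coproducts. -/
theorem hasExactColimitsOfShape_of_hasPushouts [HasPushouts J] [HasCoequalizers J]
    [HasFiniteLimits A] [HasColimitsOfSize.{v₁, u₁} A] [AB5OfSize.{v₁, u₁} A]
    [HasCoproducts.{u₁} A] [AB4OfSize.{u₁} A] :
    HasExactColimitsOfShape J A :=
  hasExactColimitsOfShape_of_components J A

end Exact

end Groth.Agent.H7.GT

namespace Groth.Agent.H7.GT

section LanOp

variable {C : Type u₁} [Category.{v₁} C] {D : Type u₂} [Category.{v₂} D] (u : C ⥤ D)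
  [HasPullbacks C] [HasEqualizers C] [PreservesLimitsOfShape WalkingCospan u]
  [PreservesLimitsOfShape WalkingParallelPair u]
  (A : Type u₃) [Category.{v₃} A]
  [HasFiniteLimits A] [HasColimitsOfSize.{v₁, max u₁ v₂} A] [AB5OfSize.{v₁, max u₁ v₂} A]
  [HasCoproducts.{max u₁ v₂} A] [AB4OfSize.{max u₁ v₂} A]

theorem hasExactColimitsOfShape_structuredArrow_op (V : D) :
    HasExactColimitsOfShape (StructuredArrow V u)ᵒᵖ A := by
  have : HasPullbacks (StructuredArrow V u) := inferInstance
  have : HasEqualizers (StructuredArrow V u) := inferInstance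
  have : HasPushouts (StructuredArrow V u)ᵒᵖ := inferInstance
  have : HasCoequalizers (StructuredArrow V u)ᵒᵖ := inferInstance
  exact hasExactColimitsOfShape_of_hasPushouts _ A

theorem hasExactColimitsOfShape_costructuredArrow_op (V : Dᵒᵖ) :
    HasExactColimitsOfShape (CostructuredArrow u.op V) A := by
  have := hasExactColimitsOfShape_structuredArrow_op u A V.unop
  exact HasExactColimitsOfShape.of_domain_equivalence A
    (structuredArrowOpEquivalence u V.unop)

/-- If `C` has pullbacks and equalizers and `u` preserves them, then `Lan u.op` is exact on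
presheaves with values in a category with exact filtered colimits and exact coproducts. -/
theorem lan_op_preservesFiniteLimits :
    PreservesFiniteLimits (u.op.lan : (Cᵒᵖ ⥤ A) ⥤ (Dᵒᵖ ⥤ A)) := by
  have : ∀ V : Dᵒᵖ, HasExactColimitsOfShape (CostructuredArrow u.op V) A :=
    hasExactColimitsOfShape_costructuredArrow_op u A
  exact lan_preservesFiniteLimits_of_exact A u.op

end LanOp

end Groth.Agent.H7.GT

namespace Groth.Agent.H7.GT

section SheafPullback

variable {C : Type u₁} [Category.{v₁} C] {D : Type u₂} [Category.{v₂} D] (u : C ⥤ D)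
  [HasPullbacks C] [HasEqualizers C] [PreservesLimitsOfShape WalkingCospan u]
  [PreservesLimitsOfShape WalkingParallelPair u]
  (A : Type u₃) [Category.{v₃} A]
  [HasFiniteLimits A] [HasColimitsOfSize.{v₁, max u₁ v₂} A] [AB5OfSize.{v₁, max u₁ v₂} A]
  [HasCoproducts.{max u₁ v₂} A] [AB4OfSize.{max u₁ v₂} A]
  (J : GrothendieckTopology C) (K : GrothendieckTopology D)
  [HasSheafify K A]

theorem sheafPullbackConstruction_preservesFiniteLimits :
    PreservesFiniteLimits (Functor.sheafPullbackConstruction.sheafPullback u A J K) := by
  unfold Functor.sheafPullbackConstruction.sheafPullback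
  have := lan_op_preservesFiniteLimits u A
  have : PreservesFiniteLimits (u.op.lan ⋙ presheafToSheaf K A) := comp_preservesFiniteLimits _ _
  apply comp_preservesFiniteLimits

theorem sheafPullback_preservesFiniteLimits [u.IsContinuous J K] :
    PreservesFiniteLimits (u.sheafPullback A J K) := by
  have := sheafPullbackConstruction_preservesFiniteLimits u A J K
  exact preservesFiniteLimits_of_natIso
    (Functor.sheafPullbackConstruction.sheafPullbackIso u A J K).symm

end SheafPullback

end Groth.Agent.H7.GT

namespace Groth.Agent.H7.GT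

universe u

theorem S9106_main {C D : Type u} [SmallCategory C] [SmallCategory D]
    (J : GrothendieckTopology C) (K : GrothendieckTopology D) (u : C ⥤ D)
    [u.IsCocontinuous J K] [u.IsContinuous J K] [HasPullbacks C] [HasEqualizers C]
    [PreservesLimitsOfShape WalkingCospan u] [PreservesLimitsOfShape WalkingParallelPair u] :
    PreservesFiniteLimits (u.sheafPullback AddCommGrpCat.{u} J K) :=
  sheafPullback_preservesFiniteLimits u AddCommGrpCat.{u} J K

end Groth.Agent.H7.GT
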