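import Mathlib
import Groth.Prelude.Def_EtBase
import Groth.Agent.Lib.Helper7.GT1

set_option autoImplicit false

universe u

open CategoryTheory CategoryTheory.Limits Opposite AlgebraicGeometry

namespace Groth.Agent.H7.GT

/-- `AddCommGrpCat.{u+1}` has exact filtered colimits indexed by categories with objects in
`Type (u+1)` and morphisms in `Type u`. -/
instance ab5_addCommGrp_succ : AB5OfSize.{u, u + 1} AddCommGrpCat.{u + 1} :=
  AB5OfSize_of_univLE.{u, u + 1, u + 1, u + 1} AddCommGrpCat.{u + 1}

theorem S101_main {X Y : Scheme.{u}} (f : X ⟶ Y) [EtCoh.BCCont f] :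
    PreservesFiniteLimits (EtCoh.pull f) :=
  sheafPullback_preservesFiniteLimits (EtCoh.bc f) AddCommGrpCat.{u + 1}
    Y.smallEtaleTopology X.smallEtaleTopology

end Groth.Agent.H7.GT
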