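import Mathlib
import Groth.Prelude.Def_Dual3
import Groth.Agent.Lib.Helper1.CMFib
import Groth.Agent.H4.GF2
import Groth.Agent.H4.GL2

/-!
# Gorenstein morphisms: composition (S3627), after helper1's `CMFib`
-/

set_option autoImplicit false
set_option linter.style.haveILetI false
universe u

namespace Groth.Agent.H7.GorFib

open IsLocalRing Groth.Agent.H1.CMFib

/-- Gorenstein-ness along a flat local homomorphism with closed fibre `F`. -/
theorem gor_iff_of_flat_local {A B F : Type u} [CommRing A] [CommRing B] [CommRing F]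
    [IsNoetherianRing A] [IsNoetherianRing B] [IsLocalRing A] [IsLocalRing B]
    (φ : A →+* B) [IsLocalHom φ] (hφ : φ.Flat) (e : (B ⧸ (maximalIdeal A).map φ) ≃+* F) :
    LocCoh.IsGorensteinLocalRing B ↔
      LocCoh.IsGorensteinLocalRing A ∧ LocCoh.IsGorensteinLocalRing F := by
  letI := φ.toAlgebra
  haveI : IsLocalHom (algebraMap A B) := ‹IsLocalHom φ›
  haveI : Module.Flat A B := hφ
  have e' : (B ⧸ (maximalIdeal A).map (algebraMap A B)) ≃+* F := e
  have h := Groth.Agent.H4.GF2.S0344 (A := A) (B := B)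
  rw [h]
  constructor
  · rintro ⟨h1, h2⟩
    exact ⟨h1, Groth.Agent.H4.GL2.isGorensteinLocalRing_of_ringEquiv e' h2⟩
  · rintro ⟨h1, h2⟩
    exact ⟨h1, Groth.Agent.H4.GL2.isGorensteinLocalRing_of_ringEquiv e'.symm h2⟩

section LA3

variable {A B C : Type u} [CommRing A] [CommRing B] [CommRing C] [IsLocalRing A] [IsLocalRing B]
  [IsLocalRing C] (φ : A →+* B) (ψ : B →+* C) [IsLocalHom φ] [IsLocalHom ψ]

/-- **transitivity of Gorenstein-ness of closed fibres**. -/
theorem gor_fiber_comp_iff (hψ : ψ.Flat)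
    [IsNoetherianRing (B ⧸ (maximalIdeal A).map φ)]
    [IsNoetherianRing (C ⧸ ((maximalIdeal A).map φ).map ψ)] :
    LocCoh.IsGorensteinLocalRing (C ⧸ ((maximalIdeal A).map φ).map ψ) ↔
      LocCoh.IsGorensteinLocalRing (B ⧸ (maximalIdeal A).map φ) ∧
        LocCoh.IsGorensteinLocalRing (C ⧸ (maximalIdeal B).map ψ) := by
  have hIB : (maximalIdeal A).map φ ≤ maximalIdeal B := map_maximalIdeal_le' φ
  have hJC : ((maximalIdeal A).map φ).map ψ ≤ maximalIdeal C :=
    (Ideal.map_mono hIB).trans (map_maximalIdeal_le' ψ)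
  have hJK : ((maximalIdeal A).map φ).map ψ ≤ (maximalIdeal B).map ψ := Ideal.map_mono hIB
  haveI := isLocalRing_quotient ((maximalIdeal A).map φ) hIB
  haveI := isLocalRing_quotient (((maximalIdeal A).map φ).map ψ) hJC
  let ψbar : B ⧸ (maximalIdeal A).map φ →+* C ⧸ ((maximalIdeal A).map φ).map ψ :=
    Ideal.quotientMap (((maximalIdeal A).map φ).map ψ) ψ Ideal.le_comap_map
  have hflat : ψbar.Flat := Groth.Agent.H5.Nilp031L.flat_quotientMap ψ hψ ((maximalIdeal A).map φ)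
  have hmap : (maximalIdeal (B ⧸ (maximalIdeal A).map φ)).map ψbar =
      ((maximalIdeal B).map ψ).map (Ideal.Quotient.mk (((maximalIdeal A).map φ).map ψ)) := by
    rw [maximalIdeal_quotient ((maximalIdeal A).map φ),
      Ideal.map_map (Ideal.Quotient.mk ((maximalIdeal A).map φ)) ψbar,
      Ideal.map_map ψ (Ideal.Quotient.mk (((maximalIdeal A).map φ).map ψ))]
    congr 1
  haveI : IsLocalHom ψbar := by
    refine ((IsLocalRing.local_hom_TFAE ψbar).out 0 2 rfl rfl).mpr ?_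
    rw [hmap, maximalIdeal_quotient (((maximalIdeal A).map φ).map ψ)]
    exact Ideal.map_mono (map_maximalIdeal_le' ψ)
  let e : ((C ⧸ ((maximalIdeal A).map φ).map ψ) ⧸
      (maximalIdeal (B ⧸ (maximalIdeal A).map φ)).map ψbar) ≃+* C ⧸ (maximalIdeal B).map ψ :=
    (Ideal.quotEquivOfEq hmap).trans (DoubleQuot.quotQuotEquivQuotOfLE hJK)
  exact gor_iff_of_flat_local ψbar hflat e

end LA3

open AlgebraicGeometry CategoryTheory Groth.Agent.H1.FibreStalk

variable {X Y Z : Scheme.{u}}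

theorem gor_iff_of_ringEquiv {T T' : Type u} [CommRing T] [CommRing T'] (e : T ≃+* T') :
    LocCoh.IsGorensteinLocalRing T ↔ LocCoh.IsGorensteinLocalRing T' :=
  ⟨Groth.Agent.H4.GL2.isGorensteinLocalRing_of_ringEquiv e,
    Groth.Agent.H4.GL2.isGorensteinLocalRing_of_ringEquiv e.symm⟩

theorem gor_fiber_comp_iff_sch (f : X ⟶ Y) (g : Y ⟶ Z) (x : X) (hfl : (f.stalkMap x).hom.Flat)
    [IsNoetherianRing ((g.fiber (g (f x))).presheaf.stalk (g.asFiber (f x)))]
    [IsNoetherianRing (((f ≫ g).fiber ((f ≫ g) x)).presheaf.stalk ((f ≫ g).asFiber x))] :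
    LocCoh.IsGorensteinLocalRing
        (((f ≫ g).fiber ((f ≫ g) x)).presheaf.stalk ((f ≫ g).asFiber x)) ↔
      LocCoh.IsGorensteinLocalRing ((g.fiber (g (f x))).presheaf.stalk (g.asFiber (f x))) ∧
        LocCoh.IsGorensteinLocalRing ((f.fiber (f x)).presheaf.stalk (f.asFiber x)) := by
  have e₁ := fiberStalkEquiv (f ≫ g) x
  have e₂ := fiberStalkEquiv g (f x)
  have e₃ := fiberStalkEquiv f x
  haveI n₂ : IsNoetherianRing (Y.presheaf.stalk (f x) ⧸
      (maximalIdeal (Z.presheaf.stalk (g (f x)))).map (g.stalkMap (f x)).hom) :=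
    isNoetherianRing_of_ringEquiv _ e₂.symm
  let e₁' : (X.presheaf.stalk x ⧸ ((maximalIdeal (Z.presheaf.stalk (g (f x)))).map
      (g.stalkMap (f x)).hom).map (f.stalkMap x).hom) ≃+*
      (((f ≫ g).fiber ((f ≫ g) x)).presheaf.stalk ((f ≫ g).asFiber x)) :=
    (Ideal.quotEquivOfEq (map_map_stalkMap f g x)).trans e₁
  haveI n₃ : IsNoetherianRing (X.presheaf.stalk x ⧸
      ((maximalIdeal (Z.presheaf.stalk (g (f x)))).map
      (g.stalkMap (f x)).hom).map (f.stalkMap x).hom) :=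
    isNoetherianRing_of_ringEquiv _ e₁'.symm
  have key := gor_fiber_comp_iff (g.stalkMap (f x)).hom (f.stalkMap x).hom hfl
  rw [← gor_iff_of_ringEquiv e₁', ← gor_iff_of_ringEquiv e₂, ← gor_iff_of_ringEquiv e₃]
  exact key

theorem S3627_main (f : X ⟶ Y) (g : Y ⟶ Z)
    (hfibf : ∀ y, IsLocallyNoetherian (f.fiber y)) (hfibg : ∀ y, IsLocallyNoetherian (g.fiber y))
    (hfibfg : ∀ z, IsLocallyNoetherian ((f ≫ g).fiber z)) (x : X) :
    (Dual3.IsGorensteinAt f x → Dual3.IsGorensteinAt g (f x) →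
        Dual3.IsGorensteinAt (f ≫ g) x) ∧
      (Dual3.IsGorensteinAt (f ≫ g) x → (f.stalkMap x).hom.Flat →
        Dual3.IsGorensteinAt f x ∧ Dual3.IsGorensteinAt g (f x)) := by
  haveI := hfibg (g (f x))
  haveI : IsLocallyNoetherian ((f ≫ g).fiber ((f ≫ g) x)) := hfibfg _
  haveI : IsNoetherianRing ((g.fiber (g (f x))).presheaf.stalk (g.asFiber (f x))) := inferInstance
  haveI : IsNoetherianRing (((f ≫ g).fiber ((f ≫ g) x)).presheaf.stalk ((f ≫ g).asFiber x)) :=
    inferInstance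
  constructor
  · intro hf hg
    exact ⟨flat_stalkMap_comp' f g x hf.1 hg.1,
      (gor_fiber_comp_iff_sch f g x hf.1).mpr ⟨hg.2, hf.2⟩⟩
  · intro h hfl
    have hcm := (gor_fiber_comp_iff_sch f g x hfl).mp h.2
    have hgfl : (g.stalkMap (f x)).hom.Flat :=
      Groth.Agent.H1.EtNhd.stalk_flat_of_comp g f x hfl h.1
    exact ⟨⟨hfl, hcm.2⟩, ⟨hgfl, hcm.1⟩⟩

end Groth.Agent.H7.GorFib
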