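import Mathlib
import Groth.Prelude.Def_Dual3
import Groth.Agent.Lib.Helper1.CMBaseChange
import Groth.Agent.H4.GF5
import Groth.Agent.Lib.Helper7.GorFib

/-!
# Gorenstein morphisms: base change (S3625), after helper1's `CMBaseChange`/`BCStalkCM`
-/

set_option autoImplicit false
set_option linter.style.haveILetI false
universe u
open CategoryTheory CategoryTheory.Limits AlgebraicGeometry TensorProduct IsLocalRing

namespace Groth.Agent.H7.GorBC

open Groth.Agent.H7.GorFib Groth.Agent.H1.CMBC

section field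

attribute [local instance] Curv2.resAlgebra Curv2.stalkAlgebra

/-- Gorenstein-ness of local rings under a finitely generated extension of the base field. -/
theorem gor_stalk_bc (k : Type u) [Field k] (X : Scheme.{u}) [X.Over (Spec (CommRingCat.of k))]
    [IsLocallyNoetherian X] (k' : Type u) [Field k'] [Algebra k k']
    (hfg : (⊤ : IntermediateField k k').FG) (x' : ↥(Curv2.bc k X k')) :
    LocCoh.IsGorensteinLocalRing ↥(X.presheaf.stalk (Curv2.bcFst k X k' x')) ↔
      LocCoh.IsGorensteinLocalRing ↥((Curv2.bc k X k').presheaf.stalk x') := by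
  obtain ⟨q, hq, ⟨e⟩⟩ :=
    Groth.Agent.H1.BCStalk.exists_prime_of_point k X k' (Curv2.bcFst k X k' x') x' rfl
  have hfg' : ∃ s : Finset k', IntermediateField.adjoin k (s : Set k') = ⊤ := hfg
  rw [Groth.Agent.H4.GF5.S1760 k k' hfg' _ q hq]
  exact (gor_iff_of_ringEquiv e).symm

end field

/-- transport of the fibre stalk along an equality of base points. -/
theorem gor_stalk_fiber_congr {X Y : Scheme.{u}} (f : X ⟶ Y) (x : X) (y : Y) (hy : f x = y)
    (a : f.fiber y) (ha : f.fiberι y a = x) :
    LocCoh.IsGorensteinLocalRing ((f.fiber y).presheaf.stalk a) ↔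
      LocCoh.IsGorensteinLocalRing ((f.fiber (f x)).presheaf.stalk (f.asFiber x)) := by
  subst hy
  have : a = f.asFiber x :=
    (f.fiberι (f x)).isEmbedding.injective (ha.trans (f.fiberι_asFiber x).symm)
  rw [this]

/-- an isomorphism of schemes preserves Gorenstein-ness of stalks. -/
theorem gor_stalk_iff_of_iso {P Q : Scheme.{u}} (e : P ≅ Q) (p : P) :
    LocCoh.IsGorensteinLocalRing (Q.presheaf.stalk (e.hom p)) ↔
      LocCoh.IsGorensteinLocalRing (P.presheaf.stalk p) := by
  have hiso : IsIso (e.hom.stalkMap p) := inferInstance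
  let σ : Q.presheaf.stalk (e.hom p) ≃+* P.presheaf.stalk p :=
    (asIso (e.hom.stalkMap p)).commRingCatIsoToRingEquiv
  exact gor_iff_of_ringEquiv σ

set_option backward.isDefEq.respectTransparency false in
theorem gor_fiber_stalk_iff_aux {X Y X' Y' : Scheme.{u}} (f : X ⟶ Y) (f' : X' ⟶ Y') (g' : X' ⟶ X)
    (g : Y' ⟶ Y) (hc : IsPullback g' f' f g) (y' : Y') (a' : f'.fiber y')
    [IsLocallyNoetherian (f.fiber (g y'))] (hfg : (g.residueFieldMap y').hom.EssFiniteType) :
    LocCoh.IsGorensteinLocalRing ((f.fiber (g y')).presheaf.stalk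
      ((pullback.map f' (Y'.fromSpecResidueField y') f (Y.fromSpecResidueField (g y'))
        g' (Spec.map (g.residueFieldMap y')) g hc.w.symm (by simp)) a')) ↔
      LocCoh.IsGorensteinLocalRing ((f'.fiber y').presheaf.stalk a') := by
  have hφ := isPullback_fiberToSpecResidueField_of_isPullback hc y'
  set φ : f'.fiber y' ⟶ f.fiber (g y') :=
    pullback.map f' (Y'.fromSpecResidueField y') f (Y.fromSpecResidueField (g y'))
        g' (Spec.map (g.residueFieldMap y')) g hc.w.symm (by simp) with hφdef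
  letI alg : Algebra ↑(Y.residueField (g y')) ↑(Y'.residueField y') :=
    (g.residueFieldMap y').hom.toAlgebra
  letI ov : (f.fiber (g y')).Over (Spec (CommRingCat.of ↑(Y.residueField (g y')))) :=
    ⟨f.fiberToSpecResidueField (g y')⟩
  have hfg' : (⊤ : IntermediateField ↑(Y.residueField (g y')) ↑(Y'.residueField y')).FG :=
    IntermediateField.fg_top_iff.mpr hfg
  let e := hφ.isoPullback
  have he : e.hom ≫ pullback.fst _ _ = φ := hφ.isoPullback_hom_fst
  have key := gor_stalk_bc ↑(Y.residueField (g y')) (f.fiber (g y'))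
    ↑(Y'.residueField y') hfg' (e.hom a')
  have hpt : (Curv2.bcFst ↑(Y.residueField (g y')) (f.fiber (g y')) ↑(Y'.residueField y'))
      (e.hom a') = φ a' := by
    rw [← he]; rfl
  rw [hpt] at key
  exact key.trans (gor_stalk_iff_of_iso e a')

variable {X Y X' Y' : Scheme.{u}} {f : X ⟶ Y} {f' : X' ⟶ Y'} {g' : X' ⟶ X} {g : Y' ⟶ Y}

set_option backward.isDefEq.respectTransparency false in
theorem gor_asFiber_iff (hc : IsPullback g' f' f g) (x' : X')
    (hN : IsLocallyNoetherian (f.fiber (g (f' x'))))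
    (hfg : (g.residueFieldMap (f' x')).hom.EssFiniteType) :
    LocCoh.IsGorensteinLocalRing ((f.fiber (f (g' x'))).presheaf.stalk (f.asFiber (g' x'))) ↔
      LocCoh.IsGorensteinLocalRing ((f'.fiber (f' x')).presheaf.stalk (f'.asFiber x')) := by
  have haux := gor_fiber_stalk_iff_aux f f' g' g hc (f' x') (f'.asFiber x') hfg
  set φ : f'.fiber (f' x') ⟶ f.fiber (g (f' x')) :=
    pullback.map f' (Y'.fromSpecResidueField (f' x')) f (Y.fromSpecResidueField (g (f' x')))
        g' (Spec.map (g.residueFieldMap (f' x'))) g hc.w.symm (by simp) with hφdef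
  have hφι : φ ≫ f.fiberι (g (f' x')) = f'.fiberι (f' x') ≫ g' := by
    simp only [hφdef, Scheme.Hom.fiberι]
    exact pullback.lift_fst _ _ _
  have hι : f.fiberι (g (f' x')) (φ (f'.asFiber x')) = g' x' := by
    rw [← Scheme.Hom.comp_apply, hφι, Scheme.Hom.comp_apply, f'.fiberι_asFiber]
  have hy : f (g' x') = g (f' x') := by
    rw [← Scheme.Hom.comp_apply, hc.w, Scheme.Hom.comp_apply]
  exact (gor_stalk_fiber_congr f (g' x') (g (f' x')) hy (φ (f'.asFiber x')) hι).symm.trans haux

theorem S3625_main (f : X ⟶ Y) (hN : ∀ y : Y, IsLocallyNoetherian (f.fiber y))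
    (f' : X' ⟶ Y') (g' : X' ⟶ X) (g : Y' ⟶ Y) [LocallyOfFiniteType g]
    (hc : IsPullback g' f' f g) (x' : X') :
    (Dual3.IsGorensteinAt f (g' x') → Dual3.IsGorensteinAt f' x') ∧
      ((f.stalkMap (g' x')).hom.Flat → Dual3.IsGorensteinAt f' x' →
        Dual3.IsGorensteinAt f (g' x')) ∧
      ((g.stalkMap (f' x')).hom.Flat → Dual3.IsGorensteinAt f' x' →
        Dual3.IsGorensteinAt f (g' x')) := by
  have key := gor_asFiber_iff hc x' (hN _)
      (Groth.Agent.H1.LocNoeth.essFiniteType_residueFieldMap g _)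
  refine ⟨fun h => ⟨flat_stalkMap_of_isPullback hc x' h.1, key.mp h.2⟩,
    fun hflat h => ⟨hflat, key.mpr h.2⟩,
    fun hflat h => ⟨flat_stalkMap_descend hc x' hflat h.1, key.mpr h.2⟩⟩

end Groth.Agent.H7.GorBC
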