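import Mathlib
import Groth.Agent.Lib.Helper7.GorBC

/-!
# Gorenstein morphisms: arbitrary base change for flat morphisms locally of finite type (S3626)
-/

set_option autoImplicit false
set_option linter.style.haveILetI false
universe u
open CategoryTheory CategoryTheory.Limits AlgebraicGeometry TensorProduct IsLocalRing

namespace Groth.Agent.H7.GorBC2

open Groth.Agent.H7.GorFib Groth.Agent.H1.CMBC Groth.Agent.H7.GorBC Groth.Agent.H4.GF3
  Groth.Agent.H4.GF4 Groth.Agent.H4.GF5

theorem gor_tensor_iff_of_essFiniteType (k k' : Type u) [Field k] [Field k'] [Algebra k k']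
    (B : Type u) [CommRing B] [IsLocalRing B] [Algebra k B] [Algebra.EssFiniteType k B]
    (q : PrimeSpectrum (B ⊗[k] k'))
    (hq : q.asIdeal.comap (algebraMap B (B ⊗[k] k')) = IsLocalRing.maximalIdeal B) :
    LocCoh.IsGorensteinLocalRing B ↔
      LocCoh.IsGorensteinLocalRing (Localization.AtPrime q.asIdeal) := by
  haveI : IsNoetherianRing B := Algebra.EssFiniteType.isNoetherianRing k B
  haveI : IsNoetherianRing (B ⊗[k] k') := by
    haveI : Algebra.EssFiniteType k' (k' ⊗[k] B) := inferInstance
    haveI : IsNoetherianRing (k' ⊗[k] B) := Algebra.EssFiniteType.isNoetherianRing k' _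
    exact isNoetherianRing_of_ringEquiv _ (Algebra.TensorProduct.comm k k' _).toRingEquiv
  let p : Ideal B := IsLocalRing.maximalIdeal B
  haveI : q.asIdeal.LiesOver p := ⟨hq.symm⟩
  have h1 : LocCoh.IsGorensteinLocalRing (Localization.AtPrime p) ↔
      LocCoh.IsGorensteinLocalRing (Localization.AtPrime q.asIdeal) := by
    refine gor_localization_iff p q.asIdeal ?_
    haveI : LocCoh.IsGorensteinRing k' :=
      isGorensteinRing_of_isDualizing_unit (isDualizing_unit_field k')
    have hfg : ∃ s : Finset p.ResidueField,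
        IntermediateField.adjoin k (s : Set p.ResidueField) = ⊤ := by
      haveI : Algebra.EssFiniteType k (Localization.AtPrime p) :=
        Algebra.EssFiniteType.comp k B (Localization.AtPrime p)
      haveI : Algebra.EssFiniteType k p.ResidueField :=
        inferInstanceAs (Algebra.EssFiniteType k
          (Localization.AtPrime p ⧸ IsLocalRing.maximalIdeal (Localization.AtPrime p)))
      exact IntermediateField.fg_top_iff.2 inferInstance
    have h2 : LocCoh.IsGorensteinRing (p.ResidueField ⊗[k] k') :=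
      S8948 k p.ResidueField k' hfg
    exact isGorensteinRing_of_ringEquiv
      (Algebra.TensorProduct.cancelBaseChange k B B p.ResidueField k').symm.toRingEquiv h2
  let e : B ≃ₐ[B] Localization.AtPrime p :=
    IsLocalization.atUnits B p.primeCompl (fun x hx => by
      have : x ∉ IsLocalRing.maximalIdeal B := hx
      have h' : IsUnit x := by simpa using this
      exact h')
  rw [← h1]
  exact gor_iff_of_ringEquiv e.toRingEquiv

section field

attribute [local instance] Curv2.resAlgebra Curv2.stalkAlgebra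

theorem gor_stalk_bc' (k : Type u) [Field k] (X : Scheme.{u}) [X.Over (Spec (CommRingCat.of k))]
    [LocallyOfFiniteType (X ↘ (Spec (CommRingCat.of k)))]
    (k' : Type u) [Field k'] [Algebra k k'] (x' : ↥(Curv2.bc k X k')) :
    LocCoh.IsGorensteinLocalRing ↥(X.presheaf.stalk (Curv2.bcFst k X k' x')) ↔
      LocCoh.IsGorensteinLocalRing ↥((Curv2.bc k X k').presheaf.stalk x') := by
  haveI hess : Algebra.EssFiniteType k (X.presheaf.stalk (Curv2.bcFst k X k' x')) :=
    Groth.Agent.H1.SmoothReg.essFiniteType_stalkMapK k (X ↘ (Spec (CommRingCat.of k))) _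
  obtain ⟨q, hq, ⟨e⟩⟩ :=
    Groth.Agent.H1.BCStalk.exists_prime_of_point k X k' (Curv2.bcFst k X k' x') x' rfl
  rw [gor_tensor_iff_of_essFiniteType k k' _ q hq]
  exact (gor_iff_of_ringEquiv e).symm

end field

set_option backward.isDefEq.respectTransparency false in
theorem gor_fiber_stalk_iff_aux' {X Y X' Y' : Scheme.{u}} (f : X ⟶ Y) (f' : X' ⟶ Y') (g' : X' ⟶ X)
    (g : Y' ⟶ Y) [LocallyOfFiniteType f] (hc : IsPullback g' f' f g) (y' : Y')
    (a' : f'.fiber y') :
    LocCoh.IsGorensteinLocalRing ((f.fiber (g y')).presheaf.stalk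
      ((pullback.map f' (Y'.fromSpecResidueField y') f (Y.fromSpecResidueField (g y'))
        g' (Spec.map (g.residueFieldMap y')) g hc.w.symm (by simp)) a')) ↔
      LocCoh.IsGorensteinLocalRing ((f'.fiber y').presheaf.stalk a') := by
  have hφ := isPullback_fiberToSpecResidueField_of_isPullback hc y'
  set φ : f'.fiber y' ⟶ f.fiber (g y') :=
    pullback.map f' (Y'.fromSpecResidueField y') f (Y.fromSpecResidueField (g y'))
        g' (Spec.map (g.residueFieldMap y')) g hc.w.symm (by simp) with hφdef
  letI alg : Algebra ↑(Y.residueField (g y')) ↑(Y'.residueField y') :=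
    (g.residueFieldMap y').hom.toAlgebra
  letI ov : (f.fiber (g y')).Over (Spec (CommRingCat.of ↑(Y.residueField (g y')))) :=
    ⟨f.fiberToSpecResidueField (g y')⟩
  haveI : LocallyOfFiniteType
      ((f.fiber (g y')) ↘ (Spec (CommRingCat.of ↑(Y.residueField (g y'))))) := by
    show LocallyOfFiniteType (pullback.snd f (Y.fromSpecResidueField (g y')))
    infer_instance
  let e := hφ.isoPullback
  have he : e.hom ≫ pullback.fst _ _ = φ := hφ.isoPullback_hom_fst
  have key := gor_stalk_bc' ↑(Y.residueField (g y')) (f.fiber (g y'))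
    ↑(Y'.residueField y') (e.hom a')
  have hpt : (Curv2.bcFst ↑(Y.residueField (g y')) (f.fiber (g y')) ↑(Y'.residueField y'))
      (e.hom a') = φ a' := by
    rw [← he]; rfl
  rw [hpt] at key
  exact key.trans (gor_stalk_iff_of_iso e a')

variable {X Y X' Y' : Scheme.{u}} {f : X ⟶ Y} {f' : X' ⟶ Y'} {g' : X' ⟶ X} {g : Y' ⟶ Y}

set_option backward.isDefEq.respectTransparency false in
theorem gor_asFiber_iff' [LocallyOfFiniteType f] (hc : IsPullback g' f' f g) (x' : X') :
    LocCoh.IsGorensteinLocalRing ((f.fiber (f (g' x'))).presheaf.stalk (f.asFiber (g' x'))) ↔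
      LocCoh.IsGorensteinLocalRing ((f'.fiber (f' x')).presheaf.stalk (f'.asFiber x')) := by
  have haux := gor_fiber_stalk_iff_aux' f f' g' g hc (f' x') (f'.asFiber x')
  set φ : f'.fiber (f' x') ⟶ f.fiber (g (f' x')) :=
    pullback.map f' (Y'.fromSpecResidueField (f' x')) f (Y.fromSpecResidueField (g (f' x')))
        g' (Spec.map (g.residueFieldMap (f' x'))) g hc.w.symm (by simp) with hφdef
  have hφι : φ ≫ f.fiberι (g (f' x')) = f'.fiberι (f' x') ≫ g' := by
    simp only [hφdef, Scheme.Hom.fiberι]
    exact pullback.lift_fst _ _ _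
  have hι : f.fiberι (g (f' x')) (φ (f'.asFiber x')) = g' x' := by
    rw [← Scheme.Hom.comp_apply, hφι, Scheme.Hom.comp_apply, f'.fiberι_asFiber]
  have hy : f (g' x') = g (f' x') := by
    rw [← Scheme.Hom.comp_apply, hc.w, Scheme.Hom.comp_apply]
  exact (gor_stalk_fiber_congr f (g' x') (g (f' x')) hy (φ (f'.asFiber x')) hι).symm.trans haux

theorem S3626_main (f : X ⟶ Y) [Flat f] [LocallyOfFiniteType f]
    (f' : X' ⟶ Y') (g' : X' ⟶ X) (g : Y' ⟶ Y) (hc : IsPullback g' f' f g) (x' : X') :
    Dual3.IsGorensteinAt f' x' ↔ Dual3.IsGorensteinAt f (g' x') := by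
  haveI : Flat f' := MorphismProperty.of_isPullback (P := @Flat) hc inferInstance
  constructor
  · intro h
    exact ⟨Flat.stalkMap f _, (gor_asFiber_iff' hc x').mpr h.2⟩
  · intro h
    exact ⟨Flat.stalkMap f' _, (gor_asFiber_iff' hc x').mp h.2⟩

end Groth.Agent.H7.GorBC2
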