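import Mathlib
import Groth.Agent.Lib.Helper7.GorBC2
import Groth.Agent.Lib.Helper1.EtStalk

/-!
# Gorenstein morphisms: invariance under étale squares
-/

set_option autoImplicit false
set_option linter.style.haveILetI false
universe u
open CategoryTheory CategoryTheory.Limits AlgebraicGeometry TensorProduct IsLocalRing

namespace Groth.Agent.H7.GorEt

open Groth.Agent.H7.GorFib Groth.Agent.H1.CMBC Groth.Agent.H7.GorBC Groth.Agent.H1.CMFib
  Groth.Agent.H1.FibreStalk

/-- a field is a Gorenstein local ring -/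
theorem gor_of_isField {K : Type u} [CommRing K] (hK : IsField K) :
    LocCoh.IsGorensteinLocalRing K := by
  letI := hK.toField
  exact Groth.Agent.H4.US17.gorenstein_of_isDualizing_unit
    (Groth.Agent.H4.GF4.isDualizing_unit_field K)

variable {U V W : Scheme.{u}}

/-- the local ring of the fibre of an étale morphism is a field -/
theorem isField_fiberStalk_of_etale (p : U ⟶ V) [Etale p] (r : U) :
    IsField ((p.fiber (p r)).presheaf.stalk (p.asFiber r)) := by
  have e := fiberStalkEquiv p r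
  have h1 := Groth.Agent.H1.EtStalk.map_maximalIdeal_stalkMap p r
  have h2 : IsField (U.presheaf.stalk r ⧸
      (maximalIdeal (V.presheaf.stalk (p r))).map (p.stalkMap r).hom) := by
    rw [h1]
    exact (Ideal.Quotient.maximal_ideal_iff_isField_quotient _).mp (maximalIdeal.isMaximal _)
  exact MulEquiv.isField h2 e.symm.toMulEquiv

theorem flat_congr_point {p : U ⟶ V} {a b : U} (e : a = b) :
    (p.stalkMap a).hom.Flat ↔ (p.stalkMap b).hom.Flat := by
  subst e; rfl

/-- **cancellation of an étale morphism on the target** for flatness at a point. -/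
theorem flat_of_comp_etale (h : U ⟶ V) (q : V ⟶ W) [Etale q] (r : U)
    (hfl : ((h ≫ q).stalkMap r).hom.Flat) : (h.stalkMap r).hom.Flat := by
  have sq := pullback_lift_diagonal_isPullback h q
  haveI : IsOpenImmersion (pullback.diagonal q) := inferInstance
  haveI hγ : IsOpenImmersion (pullback.lift (𝟙 U) h (by simp) : U ⟶ pullback (h ≫ q) q) :=
    MorphismProperty.of_isPullback (P := @IsOpenImmersion) sq inferInstance
  have e1 : (pullback.lift (𝟙 U) h (by simp) : U ⟶ pullback (h ≫ q) q) ≫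
      pullback.snd (h ≫ q) q = h := pullback.lift_snd _ _ _
  have e2 : (pullback.lift (𝟙 U) h (by simp) : U ⟶ pullback (h ≫ q) q) ≫
      pullback.fst (h ≫ q) q = 𝟙 U := pullback.lift_fst _ _ _
  have e3 : pullback.fst (h ≫ q) q
      ((pullback.lift (𝟙 U) h (by simp) : U ⟶ pullback (h ≫ q) q) r) = r := by
    rw [← Scheme.Hom.comp_apply, e2]; rfl
  have h2 : ((pullback.snd (h ≫ q) q).stalkMap
      ((pullback.lift (𝟙 U) h (by simp) : U ⟶ pullback (h ≫ q) q) r)).hom.Flat :=
    flat_stalkMap_of_isPullback (IsPullback.of_hasPullback (h ≫ q) q) _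
      ((flat_congr_point e3).mpr hfl)
  have h1 : ((pullback.lift (𝟙 U) h (by simp) : U ⟶ pullback (h ≫ q) q).stalkMap r).hom.Flat :=
    Flat.stalkMap _ r
  have h3 := flat_stalkMap_comp' _ _ r h1 h2
  exact (flat_stalkMap_congr e1 r).mp h3

/-- **étale on the source.** -/
theorem gorAt_comp_etale_source_iff {U'' : Scheme.{u}} (p : U'' ⟶ U) [Etale p] (h : U ⟶ V)
    (r : U'')
    [IsNoetherianRing ((h.fiber (h (p r))).presheaf.stalk (h.asFiber (p r)))]
    [IsNoetherianRing (((p ≫ h).fiber ((p ≫ h) r)).presheaf.stalk ((p ≫ h).asFiber r))] :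
    Dual3.IsGorensteinAt (p ≫ h) r ↔ Dual3.IsGorensteinAt h (p r) := by
  have hp : (p.stalkMap r).hom.Flat := Flat.stalkMap p r
  have key := gor_fiber_comp_iff_sch p h r hp
  constructor
  · intro hg
    exact ⟨Groth.Agent.H1.EtNhd.stalk_flat_of_comp h p r hp hg.1, (key.mp hg.2).1⟩
  · intro hg
    exact ⟨flat_stalkMap_comp' p h r hp hg.1,
      key.mpr ⟨hg.2, gor_of_isField (isField_fiberStalk_of_etale p r)⟩⟩

/-- **étale on the target.** -/
theorem gorAt_comp_etale_target_iff (h : U ⟶ V) (q : V ⟶ W) [Etale q] (r : U)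
    [IsNoetherianRing (((h ≫ q).fiber ((h ≫ q) r)).presheaf.stalk ((h ≫ q).asFiber r))] :
    Dual3.IsGorensteinAt (h ≫ q) r ↔ Dual3.IsGorensteinAt h r := by
  have hq : LocCoh.IsGorensteinLocalRing ((q.fiber (q (h r))).presheaf.stalk (q.asFiber (h r))) :=
    gor_of_isField (isField_fiberStalk_of_etale q (h r))
  haveI : IsNoetherianRing ((q.fiber (q (h r))).presheaf.stalk (q.asFiber (h r))) :=
    hq.toIsNoetherian
  constructor
  · intro hg
    have hfl := flat_of_comp_etale h q r hg.1
    exact ⟨hfl, ((gor_fiber_comp_iff_sch h q r hfl).mp hg.2).2⟩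
  · intro hg
    exact ⟨flat_stalkMap_comp' h q r hg.1 (Flat.stalkMap q _),
      (gor_fiber_comp_iff_sch h q r hg.1).mpr ⟨hq, hg.2⟩⟩

theorem gorAt_congr {h h' : U ⟶ V} (e : h = h') (r : U) :
    Dual3.IsGorensteinAt h r ↔ Dual3.IsGorensteinAt h' r := by
  subst e; rfl

/-- **Gorenstein-ness at a point is invariant under étale squares** (fibres locally
Noetherian). -/
theorem gorAt_etale_square {U'' V'' : Scheme.{u}} (h : U ⟶ V) (h'' : U'' ⟶ V'') (p : U'' ⟶ U)
    (q : V'' ⟶ V) [Etale p] [Etale q] (comm : h'' ≫ q = p ≫ h) (r : U'')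
    (hN1 : ∀ v, IsLocallyNoetherian (h.fiber v))
    (hN2 : ∀ v, IsLocallyNoetherian ((p ≫ h).fiber v)) :
    Dual3.IsGorensteinAt h'' r ↔ Dual3.IsGorensteinAt h (p r) := by
  haveI := hN1 (h (p r))
  haveI := hN2 ((p ≫ h) r)
  haveI : IsLocallyNoetherian ((h'' ≫ q).fiber ((h'' ≫ q) r)) := by
    have := hN2 ((h'' ≫ q) r)
    rw [← comm] at this
    exact this
  haveI : IsNoetherianRing ((h.fiber (h (p r))).presheaf.stalk (h.asFiber (p r))) :=
    inferInstance
  haveI : IsNoetherianRing (((p ≫ h).fiber ((p ≫ h) r)).presheaf.stalk ((p ≫ h).asFiber r)) :=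
    inferInstance
  haveI : IsNoetherianRing
      (((h'' ≫ q).fiber ((h'' ≫ q) r)).presheaf.stalk ((h'' ≫ q).asFiber r)) := inferInstance
  rw [← gorAt_comp_etale_target_iff h'' q r, gorAt_congr comm r,
    gorAt_comp_etale_source_iff p h r]

end Groth.Agent.H7.GorEt
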