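import Mathlib

set_option autoImplicit false

universe v₁ v₂ u₁ u₂

open CategoryTheory CategoryTheory.Limits

namespace Groth.Agent.H7.KInj

variable {C : Type u₁} [Category.{v₁} C] [Abelian C] {D : Type u₂} [Category.{v₂} D] [Abelian D]
  {L : C ⥤ D} {R : D ⥤ C} (adj : L ⊣ R) [L.Additive] [R.Additive]

/-- The unit of an adjunction, as a morphism of complexes. -/
@[simps]
def unitHC (K : CochainComplex C ℤ) :
    K ⟶ (R.mapHomologicalComplex _).obj ((L.mapHomologicalComplex _).obj K) where
  f n := adj.unit.app (K.X n)
  comm' i j _ := (adj.unit.naturality (K.d i j)).symm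

/-- The counit of an adjunction, as a morphism of complexes. -/
@[simps]
def counitHC (I : CochainComplex D ℤ) :
    (L.mapHomologicalComplex _).obj ((R.mapHomologicalComplex _).obj I) ⟶ I where
  f n := adj.counit.app (I.X n)
  comm' i j _ := (adj.counit.naturality (I.d i j)).symm

lemma unitHC_comp_map {K : CochainComplex C ℤ} {I : CochainComplex D ℤ}
    (f : K ⟶ (R.mapHomologicalComplex _).obj I) :
    unitHC adj K ≫ (R.mapHomologicalComplex _).map
      ((L.mapHomologicalComplex _).map f ≫ counitHC adj I) = f := by
  ext n
  simp only [HomologicalComplex.comp_f, Functor.mapHomologicalComplex_map_f, unitHC_f, counitHC_f]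
  have e1 : adj.unit.app (K.X n) ≫ R.map (L.map (f.f n)) =
      f.f n ≫ adj.unit.app (R.obj (I.X n)) := (adj.unit.naturality (f.f n)).symm
  refine (congrArg (adj.unit.app (K.X n) ≫ ·) (R.map_comp _ _)).trans ?_
  exact (Category.assoc _ _ _).symm.trans
    ((congrArg (· ≫ R.map (adj.counit.app (I.X n))) e1).trans
      ((Category.assoc _ _ _).trans
        ((congrArg (f.f n ≫ ·) (adj.right_triangle_components (I.X n))).trans
          (Category.comp_id _))))

lemma acyclic_map [PreservesFiniteLimits L] [PreservesFiniteColimits L]
    {K : CochainComplex C ℤ} (hK : K.Acyclic) :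
    ((L.mapHomologicalComplex _).obj K).Acyclic := by
  intro i
  exact ((hK i).map L : ((K.sc i).map L).Exact)

include adj in
/-- The right adjoint of an exact functor preserves K-injective complexes. -/
theorem isKInjective_map [PreservesFiniteLimits L] (I : CochainComplex D ℤ) [I.IsKInjective] :
    CochainComplex.IsKInjective ((R.mapHomologicalComplex (ComplexShape.up ℤ)).obj I) := by
  haveI : PreservesColimitsOfSize.{0, 0} L := adj.leftAdjoint_preservesColimits
  haveI : PreservesFiniteColimits L := PreservesColimitsOfSize.preservesFiniteColimits _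
  constructor
  intro K f hK
  have h := CochainComplex.IsKInjective.homotopyZero
    ((L.mapHomologicalComplex _).map f ≫ counitHC adj I) (acyclic_map hK)
  have h2 := ((R.mapHomotopy h).compLeft (unitHC adj K))
  rw [unitHC_comp_map] at h2
  exact ⟨h2.trans (Homotopy.ofEq (by simp))⟩

end Groth.Agent.H7.KInj
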