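import Groth.Agent.Lib.Helper7.FOSp4
import Groth.Agent.Lib.Helper5.Thick.FEtHom2
import Mathlib

/-!
# Representable etale morphisms are formally etale; descent of formal unramifiedness along
etale covers
-/

set_option autoImplicit false
universe u

open AlgebraicGeometry CategoryTheory Limits MorphismProperty

namespace Groth.Agent.H7.FOSp6

open _root_.AlgSp Groth.Agent.H5.AlgSp Groth.Agent.H7.FOSp1 Groth.Agent.H7.FOSp2
  Groth.Agent.H7.FOSp3 Groth.Agent.H7.FOSp4 Groth.Agent.H5.Thick Groth.Agent.H4.AlgSpInf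

variable {S : Scheme.{u}}

theorem isFormallyEtaleHom_of_etale {X Y : Scheme.{u}} (f : X ⟶ Y) [hf : Etale f] :
    MoreMor.IsFormallyEtaleHom f := by
  apply isFormallyEtaleHom_of_formallyEtale_appLE
  intro V U hV hU e
  have h1 := hf.etale_appLE hU hV e
  letI := (f.appLE U V e).hom.toAlgebra
  have h2 : Algebra.Etale Γ(Y, U) Γ(X, V) := h1
  exact (h2.formallyEtale : Algebra.FormallyEtale Γ(Y, U) Γ(X, V))

/-- sections of etale morphisms extend along first order thickenings. -/
theorem over_lift {P V W : Over S} (p : P ⟶ V) (hp : Etale p.left) (snd : W ⟶ V)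
    (hfo : FOThick snd.left) (s : W ⟶ P) (hs : s ≫ p = snd) :
    ∃ σ : V ⟶ P, snd ≫ σ = s ∧ σ ≫ p = 𝟙 V := by
  have hs' : s.left ≫ p.left = snd.left := by rw [← Over.comp_left, hs]
  obtain ⟨l, ⟨hl1, hl2⟩, -⟩ := existsUnique_lift_of_isFormallyEtaleHom p.left
    (isFormallyEtaleHom_of_etale p.left) snd.left hfo s.left (𝟙 V.left)
    (by rw [Category.comp_id, hs'])
  refine ⟨Over.homMk l ?_, ?_, ?_⟩
  · rw [← Over.w p, ← Category.assoc, hl2, Category.id_comp]
  · apply Over.OverMorphism.ext
    simpa using hl1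
  · apply Over.OverMorphism.ext
    simpa using hl2

/-- sections of formally unramified morphisms are determined on a first order thickening. -/
theorem over_uniq {P V W : Over S} (p : P ⟶ V) (hp : FormallyUnramified p.left) (snd : W ⟶ V)
    (hfo : FOThick snd.left) (σ σ' : V ⟶ P) (h1 : snd ≫ σ = snd ≫ σ') (h2 : σ ≫ p = σ' ≫ p) :
    σ = σ' := by
  haveI : IsClosedImmersion snd.left := hfo.1.1
  apply Over.OverMorphism.ext
  refine FormallyUnramified.hom_ext snd.left (isNilpotent_ker_of_isFirstOrderThickening hfo)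
    p.left ?_ ?_
  · rw [← Over.comp_left, ← Over.comp_left, h1]
  · rw [← Over.comp_left, ← Over.comp_left, h2]

variable {F G : Sp S} (a : F ⟶ G)

/-- uniqueness of lifts for representable formally unramified morphisms, along arbitrary first order
thickenings of schemes. -/
theorem rep_uniq {Q : MorphismProperty Scheme.{u}} (ha : RepWith Q a)
    (hQ : Q ≤ @FormallyUnramified) {V W : Over S} (snd : W ⟶ V) (hfo : FOThick snd.left)
    (l l' : (yon S).obj V ⟶ F) (h1 : (yon S).map snd ≫ l = (yon S).map snd ≫ l')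
    (h2 : l ≫ a = l' ≫ a) : l = l' := by
  have psq := ha.1.isPullback (l ≫ a)
  have hp : FormallyUnramified (ha.1.snd (l ≫ a)).left := hQ _ (ha.2 _ _ _ psq)
  obtain ⟨σ, hσ⟩ := (yon S).map_surjective
    (psq.lift l ((yon S).map (𝟙 V)) (by rw [(yon S).map_id, Category.id_comp]))
  obtain ⟨σ', hσ'⟩ := (yon S).map_surjective
    (psq.lift l' ((yon S).map (𝟙 V)) (by rw [(yon S).map_id, Category.id_comp, h2]))
  have e1 : (yon S).map σ ≫ ha.1.fst (l ≫ a) = l := by rw [hσ, psq.lift_fst]
  have e2 : (yon S).map σ' ≫ ha.1.fst (l ≫ a) = l' := by rw [hσ', psq.lift_fst]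
  have e3 : σ ≫ ha.1.snd (l ≫ a) = 𝟙 V := by
    apply (yon S).map_injective
    rw [Functor.map_comp, hσ, psq.lift_snd]
  have e4 : σ' ≫ ha.1.snd (l ≫ a) = 𝟙 V := by
    apply (yon S).map_injective
    rw [Functor.map_comp, hσ', psq.lift_snd]
  have key : σ = σ' := by
    refine over_uniq (ha.1.snd (l ≫ a)) hp snd hfo σ σ' ?_ (e3.trans e4.symm)
    apply (yon S).map_injective
    apply psq.hom_ext
    · rw [Functor.map_comp, Functor.map_comp, Category.assoc, Category.assoc, e1, e2, h1]
    · rw [← Functor.map_comp, ← Functor.map_comp, Category.assoc, Category.assoc, e3, e4]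
  rw [← e1, ← e2, key]

/-- existence of lifts for representable etale morphisms, along arbitrary first order thickenings
of schemes. -/
theorem rep_lift (ha : RepWith @Etale a) {V W : Over S} (snd : W ⟶ V) (hfo : FOThick snd.left)
    (top : (yon S).obj W ⟶ F) (bot : (yon S).obj V ⟶ G)
    (comm : top ≫ a = (yon S).map snd ≫ bot) :
    ∃ l : (yon S).obj V ⟶ F, (yon S).map snd ≫ l = top ∧ l ≫ a = bot := by
  have psq := ha.1.isPullback bot
  have hp : Etale (ha.1.snd bot).left := ha.2 _ _ _ psq
  obtain ⟨s, hs⟩ := (yon S).map_surjective (psq.lift top ((yon S).map snd) comm)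
  have hs1 : (yon S).map s ≫ ha.1.fst bot = top := by rw [hs, psq.lift_fst]
  have hs2 : s ≫ ha.1.snd bot = snd := by
    apply (yon S).map_injective
    rw [Functor.map_comp, hs, psq.lift_snd]
  obtain ⟨σ, hσ1, hσ2⟩ := over_lift (ha.1.snd bot) hp snd hfo s hs2
  refine ⟨(yon S).map σ ≫ ha.1.fst bot, ?_, ?_⟩
  · rw [← Category.assoc, ← Functor.map_comp, hσ1, hs1]
  · rw [Category.assoc, psq.w, ← Category.assoc, ← Functor.map_comp, hσ2, (yon S).map_id,
      Category.id_comp]

lemma FOThick_j {f : F ⟶ G} (sq : InfSq f) : FOThick sq.j.left :=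
  isFirstOrderThickening_SpecMap_mk sq.I sq.sq_zero

theorem isFormallyUnramifiedMor_of_repWith {Q : MorphismProperty Scheme.{u}} (ha : RepWith Q a)
    (hQ : Q ≤ @FormallyUnramified) : IsFormallyUnramifiedMor a := by
  rw [isFormallyUnramifiedMor_iff]
  intro sq l l' h1 h2
  exact rep_uniq a ha hQ sq.j (FOThick_j sq) l l' h1 h2

theorem isFormallySmoothMor_of_repWith_etale (ha : RepWith @Etale a) : IsFormallySmoothMor a :=
  fun sq => rep_lift a ha sq.j (FOThick_j sq) sq.top sq.bot sq.comm

lemma etale_le_formallyUnramified :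
    (@Etale : MorphismProperty Scheme.{u}) ≤ @FormallyUnramified := fun _ _ f hf => by
  have : Etale f := hf
  exact (inferInstance : FormallyUnramified f)

theorem isFormallyEtaleMor_of_repWith_etale (ha : RepWith @Etale a) : IsFormallyEtaleMor a :=
  (isFormallyEtaleMor_iff a).2 ⟨isFormallySmoothMor_of_repWith_etale a ha,
    isFormallyUnramifiedMor_of_repWith a ha etale_le_formallyUnramified⟩

/-- **descent of formal unramifiedness along a representable surjective etale morphism.** -/
theorem isFormallyUnramifiedMor_of_comp_cover {H : Sp S} (b : G ⟶ H) (ha1 : RepWith @Etale a)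
    (ha2 : RepWith @Surjective a) (hab : IsFormallyUnramifiedMor (a ≫ b)) :
    IsFormallyUnramifiedMor b := by
  rw [isFormallyUnramifiedMor_iff]
  intro sq l l' h1 h2
  have psq := ha1.1.isPullback l
  have hpe : RepWith @Etale ((yon S).map (ha1.1.snd l)) :=
    (repWith_yon_map_iff @Etale _).2 (ha1.2 _ _ _ psq)
  have hps : RepWith @Surjective ((yon S).map (ha1.1.snd l)) :=
    (repWith_yon_map_iff @Surjective _).2 (ha2.2 _ _ _ psq)
  haveI := isLocallySurjective_of_etale_surjective _ hpe hps
  rw [← cancel_epi ((yon S).map (ha1.1.snd l))]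
  -- the thickening over `P`
  have hfo : FOThick (pullback.snd sq.j (ha1.1.snd l)).left :=
    FOThick_pullback_snd sq.j _ (FOThick_j sq)
  have hw : (yon S).map (pullback.snd sq.j (ha1.1.snd l)) ≫ (yon S).map (ha1.1.snd l) =
      (yon S).map (pullback.fst sq.j (ha1.1.snd l)) ≫ (yon S).map sq.j := by
    rw [← Functor.map_comp, ← Functor.map_comp, pullback.condition]
  obtain ⟨m', hm1, hm2⟩ := rep_lift a ha1 (pullback.snd sq.j (ha1.1.snd l)) hfo
    ((yon S).map (pullback.snd sq.j (ha1.1.snd l)) ≫ ha1.1.fst l)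
    ((yon S).map (ha1.1.snd l) ≫ l') (by
      rw [Category.assoc, psq.w, ← Category.assoc, hw, Category.assoc, h1, ← Category.assoc,
        ← hw, Category.assoc])
  have key : ha1.1.fst l = m' := by
    refine sch_uniq (f := a ≫ b) stable_true (affUniq_of_formallyUnramified _ hab)
      (pullback.snd sq.j (ha1.1.snd l)) hfo _ _ trivial hm1.symm ?_
    rw [← Category.assoc, psq.w, ← Category.assoc, hm2, Category.assoc, Category.assoc, h2]
  rw [← psq.w, key, hm2]

end Groth.Agent.H7.FOSp6
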