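import Groth.Agent.Lib.Helper7.EtLift
import Mathlib

/-!
# Local lifting of etale schemes along a square zero thickening of an affine scheme
-/

set_option autoImplicit false
universe u

open AlgebraicGeometry CategoryTheory Limits

namespace Groth.Agent.H7.FOSp8

/-- a surjection with kernel generated by `I` exhibits a pushout of `A → A ⧸ I`. -/
theorem isPushout_of_ker_eq {A E' E : Type u} [CommRing A] [CommRing E'] [CommRing E]
    (I : Ideal A) (α : A →+* E') (πE : E' →+* E) (φ : A ⧸ I →+* E)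
    (hπ : Function.Surjective πE) (hker : RingHom.ker πE = Ideal.map α I)
    (hcomm : ∀ a, πE (α a) = φ (Ideal.Quotient.mk I a)) :
    IsPushout (CommRingCat.ofHom α) (CommRingCat.ofHom (Ideal.Quotient.mk I))
      (CommRingCat.ofHom πE) (CommRingCat.ofHom φ) := by
  have w : CommRingCat.ofHom α ≫ CommRingCat.ofHom πE =
      CommRingCat.ofHom (Ideal.Quotient.mk I) ≫ CommRingCat.ofHom φ := by
    ext a
    exact hcomm a
  have hkill : ∀ (s : PushoutCocone (CommRingCat.ofHom α) (CommRingCat.ofHom (Ideal.Quotient.mk I))),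
      RingHom.ker πE ≤ RingHom.ker s.inl.hom := by
    intro s
    rw [hker, Ideal.map_le_iff_le_comap]
    intro a ha
    rw [Ideal.mem_comap, RingHom.mem_ker]
    have h1 := congrArg (fun m => m.hom a) s.condition
    simp only [CommRingCat.hom_comp, CommRingCat.hom_ofHom, RingHom.comp_apply] at h1
    rw [h1, Ideal.Quotient.eq_zero_iff_mem.2 ha, map_zero]
  refine ⟨⟨w⟩, ⟨PushoutCocone.IsColimit.mk w
    (fun s => CommRingCat.ofHom (πE.liftOfSurjective hπ ⟨s.inl.hom, hkill s⟩)) ?_ ?_ ?_⟩⟩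
  · intro s
    ext x
    exact RingHom.liftOfSurjective_comp_apply πE hπ ⟨s.inl.hom, hkill s⟩ x
  · intro s
    ext a
    have h1 := congrArg (fun m => m.hom a) s.condition
    simp only [CommRingCat.hom_comp, CommRingCat.hom_ofHom, RingHom.comp_apply] at h1
    change (πE.liftOfSurjective hπ ⟨s.inl.hom, hkill s⟩) (φ (Ideal.Quotient.mk I a)) = _
    rw [← hcomm, RingHom.liftOfSurjective_comp_apply]
    exact h1
  · intro s m hm _
    ext y
    obtain ⟨x, rfl⟩ := hπ y
    change m.hom (πE x) = (πE.liftOfSurjective hπ ⟨s.inl.hom, hkill s⟩) (πE x)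
    rw [RingHom.liftOfSurjective_comp_apply]
    exact congrArg (fun k => k.hom x) hm

/-- **local lifting of etale schemes along square zero thickenings.** -/
theorem exists_local_etale_lift {A : Type u} [CommRing A] (I : Ideal A) (hI : I ^ 2 = ⊥)
    {P : Scheme.{u}} (p : P ⟶ Spec (.of (A ⧸ I))) [Etale p] (x : P) :
    ∃ (V W : Scheme.{u}) (q : V ⟶ Spec (.of A)) (i : W ⟶ V) (r : W ⟶ P),
      Etale q ∧ IsOpenImmersion r ∧ x ∈ Set.range r ∧
      IsPullback i (r ≫ p) q (Spec.map (CommRingCat.ofHom (Ideal.Quotient.mk I))) := by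
  let k := P.affineCover.idx x
  let W₀ := P.affineCover.X k
  let E : CommRingCat.{u} := Γ(W₀, ⊤)
  let r : Spec E ⟶ P := W₀.isoSpec.inv ≫ P.affineCover.f k
  obtain ⟨φ, hφ⟩ := Spec.map_surjective (r ≫ p)
  have hre : Etale (r ≫ p) := inferInstance
  rw [← hφ, HasRingHomProperty.Spec_iff (P := @Etale)] at hre
  letI : Algebra (A ⧸ I) E := φ.hom.toAlgebra
  haveI : Algebra.Etale (A ⧸ I) E := hre
  have hN : IsNilpotent (RingHom.ker (Ideal.Quotient.mk I)) := by
    rw [Ideal.mk_ker]
    exact ⟨2, by rw [hI]; rfl⟩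
  obtain ⟨E', _, _, hE', πE, hπ, hker, hcomm⟩ := Groth.Agent.H7.EtLift.exists_etale_lift
    (Ideal.Quotient.mk I) Ideal.Quotient.mk_surjective hN E
  rw [Ideal.mk_ker] at hker
  have hpo := isPushout_of_ker_eq I (algebraMap A E') πE φ.hom hπ hker hcomm
  have hpb := isPullback_SpecMap_of_isPushout _ _ _ _ hpo
  refine ⟨Spec (.of E'), Spec E, Spec.map (CommRingCat.ofHom (algebraMap A E')),
    Spec.map (CommRingCat.ofHom πE), r, ?_, inferInstance, ?_, ?_⟩
  · rw [HasRingHomProperty.Spec_iff (P := @Etale)]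
    exact RingHom.etale_algebraMap.2 hE'
  · obtain ⟨y, hy⟩ := P.affineCover.covers x
    refine ⟨W₀.isoSpec.hom y, ?_⟩
    change (W₀.isoSpec.inv ≫ P.affineCover.f k) (W₀.isoSpec.hom y) = x
    rw [← Scheme.Hom.comp_apply, Iso.hom_inv_id_assoc]
    exact hy
  · rw [← hφ]
    exact hpb

end Groth.Agent.H7.FOSp8
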