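import Mathlib
import Groth.Prelude.Def_BigSite
import Groth.Prelude.Def_SGA4b

set_option autoImplicit false

universe v₁ v₂ v₃ u₁ u₂ u₃ u

open CategoryTheory CategoryTheory.Limits Opposite AlgebraicGeometry

namespace Groth.Agent.H7.BS

section General

variable {C : Type u₂} [Category.{v₂} C] {D : Type u₃} [Category.{v₃} D] (G : C ⥤ D)
  (A : Type u₁) [Category.{v₁} A]
  (J : GrothendieckTopology C) (K : GrothendieckTopology D)
  [G.IsContinuous J K] [G.IsCocontinuous J K] [G.Full] [G.Faithful]
  [∀ F : Cᵒᵖ ⥤ A, G.op.HasPointwiseRightKanExtension F]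

theorem isIso_counit_cocont :
    IsIso (G.sheafAdjunctionCocontinuous A J K).counit := by
  apply (config := { allowSynthFailures := true }) NatIso.isIso_of_isIso_app
  intro F
  have h1 : IsIso ((sheafToPresheaf J A).map ((G.sheafAdjunctionCocontinuous A J K).counit.app F)) := by
    show IsIso ((G.sheafAdjunctionCocontinuous A J K).counit.app F).hom
    rw [Functor.sheafAdjunctionCocontinuous_counit_app_hom]
    haveI : G.op.Full := inferInstance
    haveI : G.op.Faithful := inferInstance
    haveI : ∀ (F : Cᵒᵖ ⥤ A), G.op.HasRightKanExtension F := fun F => inferInstance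
    haveI : G.op.HasPointwiseRightKanExtension F.obj := inferInstance
    rw [Functor.ranAdjunction_counit]
    apply (config := { allowSynthFailures := true }) NatIso.isIso_of_isIso_app
    intro X
    exact (Functor.isPointwiseRightKanExtensionRanCounit G.op F.obj (G.op.obj X)).isIso_hom_app
  exact isIso_of_reflects_iso _ (sheafToPresheaf J A)

variable [(G.sheafPushforwardContinuous A J K).IsRightAdjoint]

theorem isIso_unit_cont (F : Sheaf J A) :
    IsIso ((G.sheafAdjunctionContinuous A J K).unit.app F) := by
  let t : Adjunction.Triple (G.sheafPullback A J K) (G.sheafPushforwardContinuous A J K)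
      (G.sheafPushforwardCocontinuous A J K) :=
    ⟨G.sheafAdjunctionContinuous A J K, G.sheafAdjunctionCocontinuous A J K⟩
  have h : IsIso t.adj₁.unit := t.isIso_unit_iff_isIso_counit.2 (isIso_counit_cocont G A J K)
  exact (inferInstance : IsIso (t.adj₁.unit.app F))

end General

theorem S6184_main (X : Scheme.{u}) :
    (∀ G : EtDesc.Sh X, IsIso (((EtFppf.a X).sheafAdjunctionContinuous (Type (u + 1)) X.smallEtaleTopology
      (QuotSh.J Scheme.etalePrecoverage X)).unit.app G)) ∧
    (∀ G : EtCoh.Ab X, IsIso ((BigSite.piEtAdj Scheme.etalePrecoverage X).unit.app G)) := by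
  haveI : (EtFppf.a X).Full := inferInstanceAs (Scheme.Etale.forget X).Full
  haveI : (EtFppf.a X).Faithful := inferInstanceAs (Scheme.Etale.forget X).Faithful
  haveI : (EtFppf.a X).IsCocontinuous X.smallEtaleTopology (QuotSh.J Scheme.etalePrecoverage X) :=
    BigSite.aEtCocont_etale X
  haveI : (EtFppf.a X).IsContinuous X.smallEtaleTopology (QuotSh.J Scheme.etalePrecoverage X) :=
    BigSite.aEtCont_etale X
  refine ⟨fun G => ?_, fun G => ?_⟩
  · exact isIso_unit_cont (EtFppf.a X) (Type (u + 1)) X.smallEtaleTopology
      (QuotSh.J Scheme.etalePrecoverage X) G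
  · exact isIso_unit_cont (EtFppf.a X) AddCommGrpCat.{u + 1} X.smallEtaleTopology
      (QuotSh.J Scheme.etalePrecoverage X) G

end Groth.Agent.H7.BS
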