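import Mathlib
import Groth.Prelude.Def_EtShriek2
import Groth.Agent.Lib.Helper7.GT1
import Groth.Agent.Lib.Helper7.GT2

set_option autoImplicit false

universe u

open CategoryTheory CategoryTheory.Limits Opposite AlgebraicGeometry

namespace Groth.Agent.H7.GT

section

variable {U X : Scheme.{u}} (j : U ⟶ X) [AlgebraicGeometry.Etale j]

set_option backward.isDefEq.respectTransparency.types false in
theorem preservesConnected_compEtale (K : Type) [SmallCategory K] [FinCategory K] [IsConnected K] :
    PreservesLimitsOfShape K (EtShriek.compEtale j) := by
  have h1 : PreservesLimitsOfShape K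
      (EtShriek.compEtale j ⋙ (Scheme.Etale.forget X ⋙ Over.forget X)) := by
    change PreservesLimitsOfShape K (Scheme.Etale.forget U ⋙ Over.forget U)
    infer_instance
  have h2 : ReflectsLimitsOfShape K (Scheme.Etale.forget X ⋙ Over.forget X) := inferInstance
  exact preservesLimitsOfShape_of_reflects_of_preserves _ (Scheme.Etale.forget X ⋙ Over.forget X)

theorem S648_main [EtShriek.JCont j] :
    PreservesFiniteLimits (EtShriek.extZero j) := by
  haveI := preservesConnected_compEtale j WalkingCospan
  haveI := preservesConnected_compEtale j WalkingParallelPair
  exact sheafPullback_preservesFiniteLimits (EtShriek.compEtale j) AddCommGrpCat.{u + 1}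
    U.smallEtaleTopology X.smallEtaleTopology

end

end Groth.Agent.H7.GT
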