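import Mathlib
import Groth.Prelude.Def_EtShriek2
import Groth.Agent.Lib.Helper7.GT2
import Groth.Agent.Lib.Helper7.GT3

set_option autoImplicit false

universe u

open CategoryTheory CategoryTheory.Limits Opposite AlgebraicGeometry

namespace Groth.Agent.H7.ES

open Groth.Agent.H7.GT

section

variable {X Y : Scheme.{u}} (f : X ⟶ Y)

instance pull_preservesFiniteLimits : PreservesFiniteLimits (EtCoh.pull f) := S101_main f

instance pull_additive : (EtCoh.pull f).Additive := (EtCoh.pullPushAdj f).left_adjoint_additive

/-- `f_*` preserves injective abelian étale sheaves. -/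
instance push_preservesInjectiveObjects : (EtCoh.push f).PreservesInjectiveObjects :=
  Functor.preservesInjectiveObjects_of_adjunction_of_preservesMonomorphisms (EtCoh.pullPushAdj f)

instance push_preservesFiniteLimits : PreservesFiniteLimits (EtCoh.push f) := by
  haveI : PreservesLimitsOfSize.{0, 0} (EtCoh.push f) :=
    (EtCoh.pullPushAdj f).rightAdjoint_preservesLimits
  exact PreservesLimitsOfSize.preservesFiniteLimits _

instance pull_preservesFiniteColimits : PreservesFiniteColimits (EtCoh.pull f) := by
  haveI : PreservesColimitsOfSize.{0, 0} (EtCoh.pull f) :=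
    (EtCoh.pullPushAdj f).leftAdjoint_preservesColimits
  exact PreservesColimitsOfSize.preservesFiniteColimits _

end

section Etale

variable {U X : Scheme.{u}} (j : U ⟶ X) [hj : AlgebraicGeometry.Etale j]

/-- `V ↦ (V → U → X)` is left adjoint to base change along `j`. -/
noncomputable def compBcAdj : EtShriek.compEtale j ⊣ EtCoh.bc j :=
  MorphismProperty.Over.mapPullbackAdj EtCoh.etaleMP ⊤ j hj trivial

variable [EtShriek.JCont j]

/-- restriction along an étale `j` is left adjoint to `j_*`. -/
noncomputable def restrPushAdj : EtShriek.restrAlong j ⊣ EtCoh.push j :=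
  (compBcAdj j).sheafPushforwardContinuous (E := AddCommGrpCat.{u + 1}) U.smallEtaleTopology
    X.smallEtaleTopology

/-- For étale `j`, `j⁻¹` is restriction. -/
noncomputable def pullIsoRestr : EtCoh.pull j ≅ EtShriek.restrAlong j :=
  (EtCoh.pullPushAdj j).leftAdjointUniq (restrPushAdj j)

instance extZero_preservesFiniteLimits : PreservesFiniteLimits (EtShriek.extZero j) :=
  S648_main j

instance restrAlong_preservesInjectiveObjects :
    (EtShriek.restrAlong j).PreservesInjectiveObjects :=
  Functor.preservesInjectiveObjects_of_adjunction_of_preservesMonomorphisms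
    (EtShriek.extZeroAdj j)

/-- For étale `j`, `j⁻¹` preserves injectives. -/
theorem pull_injective_of_etale (I : EtCoh.Ab X) [Injective I] :
    Injective ((EtCoh.pull j).obj I) :=
  Injective.of_iso ((pullIsoRestr j).app I).symm (Functor.injective_obj _ _)

end Etale

end Groth.Agent.H7.ES
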