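import Mathlib
import Groth.Prelude.Def_EtShriek2

set_option autoImplicit false

universe u

open CategoryTheory CategoryTheory.Limits Opposite AlgebraicGeometry

namespace Groth.Agent.H7.ES

variable {U X : Scheme.{u}} (j : U ⟶ X) [hj : AlgebraicGeometry.Etale j]

set_option backward.isDefEq.respectTransparency.types false in
theorem compatiblePreserving_compEtale :
    CompatiblePreserving X.smallEtaleTopology (EtShriek.compEtale j) where
  compatible {F Z T x hx Y₁ Y₂ W f₁ f₂ g₁ g₂ hg₁ hg₂ h} := by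
    have hl : f₁.left ≫ g₁.left = f₂.left ≫ g₂.left := congrArg (fun k => k.left) h
    have e1 : f₁.left ≫ Y₁.hom ≫ j = W.hom := MorphismProperty.Over.w f₁
    have hW : EtCoh.etaleMP ((f₁.left ≫ Y₁.hom) ≫ j) := by
      rw [Category.assoc, e1]; exact W.prop
    let W' : U.Etale := MorphismProperty.Over.mk ⊤ (f₁.left ≫ Y₁.hom)
      (EtCoh.etaleMP.of_postcomp (W' := EtCoh.etaleMP) (f₁.left ≫ Y₁.hom) j hj hW)
    have w1 : g₁.left ≫ Z.hom = Y₁.hom := MorphismProperty.Over.w g₁
    have w2 : g₂.left ≫ Z.hom = Y₂.hom := MorphismProperty.Over.w g₂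
    have e2 : f₂.left ≫ Y₂.hom = f₁.left ≫ Y₁.hom :=
      ((congrArg (f₂.left ≫ ·) w2).symm.trans ((Category.assoc _ _ _).symm.trans
        ((congrArg (· ≫ Z.hom) hl.symm).trans ((Category.assoc _ _ _).trans
          (congrArg (f₁.left ≫ ·) w1)))))
    let g₁' : W' ⟶ Y₁ := MorphismProperty.Over.homMk f₁.left rfl
    let g₂' : W' ⟶ Y₂ := MorphismProperty.Over.homMk f₂.left e2
    let e : (EtShriek.compEtale j).obj W' ≅ W :=
      MorphismProperty.Over.isoMk (Iso.refl _)
        ((Category.id_comp W.hom).trans (e1.symm.trans (Category.assoc _ _ _).symm))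
    have hcomp : g₁' ≫ g₁ = g₂' ≫ g₂ := MorphismProperty.Over.Hom.ext hl
    have key := congrArg (F.obj.map e.inv.op) (hx g₁' g₂' hg₁ hg₂ hcomp)
    have h1 : f₁ = e.inv ≫ (EtShriek.compEtale j).map g₁' :=
      MorphismProperty.Over.Hom.ext (Category.id_comp f₁.left).symm
    have h2 : f₂ = e.inv ≫ (EtShriek.compEtale j).map g₂' :=
      MorphismProperty.Over.Hom.ext (Category.id_comp f₂.left).symm
    rw [h1, h2, op_comp, op_comp, Functor.map_comp_apply, Functor.map_comp_apply]
    exact key

/-- `compEtale j` is continuous for every étale `j`. -/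
instance jCont : EtShriek.JCont j :=
  Functor.isContinuous_of_coverPreserving (compatiblePreserving_compEtale j)
    (EtShriek.coverPreserving_compEtale j)

end Groth.Agent.H7.ES
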