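import Mathlib
import Groth.Prelude.Def_EtShriek2
import Groth.Agent.Lib.Helper7.ES1
import Groth.Agent.Lib.Helper7.ES2
import Groth.Agent.Lib.Helper7.BS3

set_option autoImplicit false

universe u

open CategoryTheory CategoryTheory.Limits Opposite AlgebraicGeometry

namespace Groth.Agent.H7.ES

section

variable {U X : Scheme.{u}} (j : U ⟶ X) [hj : AlgebraicGeometry.Etale j]

/-- `compEtale j` is cocontinuous (its right adjoint `bc j` preserves covers). -/
instance compEtale_isCocontinuous :
    (EtShriek.compEtale j).IsCocontinuous U.smallEtaleTopology X.smallEtaleTopology :=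
  ((compBcAdj j).isCocontinuous_iff_coverPreserving (J := U.smallEtaleTopology)
    (K := X.smallEtaleTopology)).2 (EtCoh.coverPreserving_bc j)

variable [Mono j] [EtShriek.JCont j]

theorem isIso_extZeroAdj_unit (F : EtCoh.Ab U) :
    IsIso ((EtShriek.extZeroAdj j).unit.app F) :=
  Groth.Agent.H7.BS.isIso_unit_cont (EtShriek.compEtale j) AddCommGrpCat.{u + 1}
    U.smallEtaleTopology X.smallEtaleTopology F

/-- For a monomorphic étale `j`, `j_*` is fully faithful. -/
noncomputable def pushFullyFaithful : (EtCoh.push j).FullyFaithful := by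
  let t : Adjunction.Triple (EtShriek.extZero j) (EtShriek.restrAlong j) (EtCoh.push j) :=
    ⟨EtShriek.extZeroAdj j, restrPushAdj j⟩
  haveI : IsIso t.adj₁.unit := by
    haveI : ∀ F, IsIso (t.adj₁.unit.app F) := fun F => isIso_extZeroAdj_unit j F
    exact NatIso.isIso_of_isIso_app _
  exact t.fullyFaithfulEquiv t.adj₁.fullyFaithfulLOfIsIsoUnit

theorem isIso_pullPushAdj_counit (F : EtCoh.Ab U) :
    IsIso ((EtCoh.pullPushAdj j).counit.app F) := by
  haveI := (pushFullyFaithful j).full
  haveI := (pushFullyFaithful j).faithful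
  infer_instance

end

theorem S651_main {U X : Scheme.{u}} (j : U ⟶ X) [IsOpenImmersion j]
    [AlgebraicGeometry.Etale j] [EtShriek.JCont j] (F : EtCoh.Ab U) :
    IsIso ((EtCoh.pullPushAdj j).counit.app F) ∧ IsIso ((EtShriek.extZeroAdj j).unit.app F) :=
  ⟨isIso_pullPushAdj_counit j F, isIso_extZeroAdj_unit j F⟩

end Groth.Agent.H7.ES
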