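import Mathlib
import Groth.Prelude.Def_EtCore
import Groth.Agent.Lib.Helper7.ES1

set_option autoImplicit false

universe u

open CategoryTheory CategoryTheory.Limits Opposite AlgebraicGeometry

namespace Groth.Agent.H7.ES

section Res

variable {X Y : Scheme.{u}} (f : X ⟶ Y)

/-- Restriction of global sections `Γ(Y, G) → Γ(X, f⁻¹ G)`. -/
noncomputable def res (G : EtCoh.Ab Y) :
    (EtCore.gsec Y).obj G ⟶ (EtCore.gsec X).obj ((EtCoh.pull f).obj G) :=
  (EtCore.gsec Y).map ((EtCoh.pullPushAdj f).unit.app G) ≫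
    (EtCore.pushGsecIso f).hom.app ((EtCoh.pull f).obj G)

lemma res_naturality {G G' : EtCoh.Ab Y} (φ : G ⟶ G') :
    (EtCore.gsec Y).map φ ≫ res f G' = res f G ≫ (EtCore.gsec X).map ((EtCoh.pull f).map φ) := by
  unfold res
  have h1 := (EtCoh.pullPushAdj f).unit.naturality φ
  have h2 := (EtCore.pushGsecIso f).hom.naturality ((EtCoh.pull f).map φ)
  simp only [Functor.id_obj, Functor.comp_obj, Functor.id_map, Functor.comp_map] at h1 h2
  rw [← Functor.map_comp_assoc, h1, Functor.map_comp_assoc, Category.assoc, ← h2]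

/-- The adjunction defining `pullConstIso`. -/
noncomputable abbrev constPullAdj :
    constantSheaf Y.smallEtaleTopology AddCommGrpCat.{u + 1} ⋙ EtCoh.pull f ⊣ EtCore.gsec X :=
  ((EtCore.constAdj Y).comp (EtCoh.pullPushAdj f)).ofNatIsoRight (EtCore.pushGsecIso f)

lemma homEquiv_pullConstIso_inv_comp (M : AddCommGrpCat.{u + 1}) (H : EtCoh.Ab X)
    (ψ : (EtCoh.pull f).obj ((constantSheaf Y.smallEtaleTopology AddCommGrpCat.{u + 1}).obj M) ⟶ H) :
    (EtCore.constAdj X).homEquiv M H ((EtCore.pullConstIso f).inv.app M ≫ ψ) =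
      (EtCore.constAdj Y).homEquiv M _ ((EtCoh.pullPushAdj f).homEquiv _ _ ψ) ≫
        (EtCore.pushGsecIso f).hom.app H := by
  rw [Adjunction.homEquiv_naturality_right]
  have h1 : (EtCore.constAdj X).homEquiv M _ ((EtCore.pullConstIso f).inv.app M) =
      (constPullAdj f).unit.app M :=
    Adjunction.homEquiv_leftAdjointUniq_hom_app (EtCore.constAdj X) (constPullAdj f) M
  rw [h1, ← Adjunction.homEquiv_unit, Adjunction.homEquiv_ofNatIsoRight_apply,
    Adjunction.comp_homEquiv]
  rfl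

lemma homEquiv_pullConstIso_inv_map (M : AddCommGrpCat.{u + 1}) (G : EtCoh.Ab Y)
    (φ : (constantSheaf Y.smallEtaleTopology AddCommGrpCat.{u + 1}).obj M ⟶ G) :
    (EtCore.constAdj X).homEquiv M _ ((EtCore.pullConstIso f).inv.app M ≫ (EtCoh.pull f).map φ) =
      (EtCore.constAdj Y).homEquiv M G φ ≫ res f G := by
  rw [homEquiv_pullConstIso_inv_comp]
  have : (EtCoh.pullPushAdj f).homEquiv _ _ ((EtCoh.pull f).map φ) =
      φ ≫ (EtCoh.pullPushAdj f).unit.app G := by
    rw [Adjunction.homEquiv_unit]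
    exact ((EtCoh.pullPushAdj f).unit.naturality φ).symm
  rw [this, Adjunction.homEquiv_naturality_right, Category.assoc]
  rfl

end Res

section Comp

variable {X Y Z : Scheme.{u}} (f : X ⟶ Y) (t : Y ⟶ Z)

set_option backward.isDefEq.respectTransparency.types false in
lemma pushGsecIso_comp (H : EtCoh.Ab X) :
    (EtCore.gsec Z).map ((EtCoh.pushComp t f).hom.app H) ≫
        (EtCore.pushGsecIso (f ≫ t)).hom.app H =
      (EtCore.pushGsecIso t).hom.app ((EtCoh.push f).obj H) ≫
        (EtCore.pushGsecIso f).hom.app H := by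
  have hT : IsTerminal ((EtCoh.bc f).obj ((EtCoh.bc t).obj (EtCoh.top Z))) :=
    IsTerminal.isTerminalObj (EtCoh.bc f) _ (EtCore.bcTopIsTerminal t)
  let e : EtCoh.bc t ⋙ EtCoh.bc f ≅ EtCoh.bc (f ≫ t) :=
    (MorphismProperty.Over.pullbackComp (P := EtCoh.etaleMP) (Q := ⊤) f t).symm
  have h1 : (EtCore.gsec Z).map ((EtCoh.pushComp t f).hom.app H) =
      H.obj.map (e.inv.app (EtCoh.top Z)).op := by
    simp [EtCoh.pushComp]
    rfl
  have h2 : (EtCore.pushGsecIso (f ≫ t)).hom.app H =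
      H.obj.map (EtCore.bcTopIso (f ≫ t)).inv.op := rfl
  have h3 : (EtCore.pushGsecIso t).hom.app ((EtCoh.push f).obj H) =
      H.obj.map ((EtCoh.bc f).map (EtCore.bcTopIso t).inv).op := rfl
  have h4 : (EtCore.pushGsecIso f).hom.app H = H.obj.map (EtCore.bcTopIso f).inv.op := rfl
  rw [h1, h2, h3, h4]
  refine (H.obj.map_comp _ _).symm.trans (Eq.trans ?_ (H.obj.map_comp _ _))
  refine congrArg H.obj.map ?_
  refine op_comp.symm.trans (Eq.trans ?_ op_comp)
  refine congrArg Quiver.Hom.op ?_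
  exact hT.hom_ext _ _

/-- The second adjunction defining `pullComp`. -/
noncomputable abbrev pullCompAdj : EtCoh.pull t ⋙ EtCoh.pull f ⊣ EtCoh.push (f ≫ t) :=
  ((EtCoh.pullPushAdj t).comp (EtCoh.pullPushAdj f)).ofNatIsoRight (EtCoh.pushComp t f)

lemma unit_comp_eq (G : EtCoh.Ab Z) :
    (EtCoh.pullPushAdj (f ≫ t)).unit.app G =
      (EtCoh.pullPushAdj t).unit.app G ≫
        (EtCoh.push t).map ((EtCoh.pullPushAdj f).unit.app ((EtCoh.pull t).obj G)) ≫
        (EtCoh.pushComp t f).hom.app ((EtCoh.pull f).obj ((EtCoh.pull t).obj G)) ≫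
        (EtCoh.push (f ≫ t)).map ((EtCore.pullComp f t).inv.app G) := by
  have h := Adjunction.unit_leftAdjointUniq_hom_app (EtCoh.pullPushAdj (f ≫ t)) (pullCompAdj f t) G
  have h' : (pullCompAdj f t).unit.app G =
      (EtCoh.pullPushAdj t).unit.app G ≫
        (EtCoh.push t).map ((EtCoh.pullPushAdj f).unit.app ((EtCoh.pull t).obj G)) ≫
        (EtCoh.pushComp t f).hom.app ((EtCoh.pull f).obj ((EtCoh.pull t).obj G)) := by
    simp [pullCompAdj, Adjunction.comp_unit_app]
  have h'' : (EtCoh.pullPushAdj (f ≫ t)).unit.app G =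
      (pullCompAdj f t).unit.app G ≫ (EtCoh.push (f ≫ t)).map ((EtCore.pullComp f t).inv.app G) := by
    rw [← h, Category.assoc, ← Functor.map_comp]
    erw [Iso.hom_inv_id_app]
    rw [CategoryTheory.Functor.map_id]
    exact (Category.comp_id _).symm
  rw [h'', h']
  simp only [Category.assoc]

theorem res_comp (G : EtCoh.Ab Z) :
    res (f ≫ t) G = res t G ≫ res f ((EtCoh.pull t).obj G) ≫
      (EtCore.gsec X).map ((EtCore.pullComp f t).inv.app G) := by
  unfold res
  rw [unit_comp_eq]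
  have n1 := (EtCore.pushGsecIso (f ≫ t)).hom.naturality ((EtCore.pullComp f t).inv.app G)
  have n2 := (EtCore.pushGsecIso t).hom.naturality
    ((EtCoh.pullPushAdj f).unit.app ((EtCoh.pull t).obj G))
  have n3 := pushGsecIso_comp f t ((EtCoh.pull f).obj ((EtCoh.pull t).obj G))
  simp only [Functor.comp_obj, Functor.comp_map] at n1 n2
  simp only [Functor.map_comp, Category.assoc]
  rw [n1, reassoc_of% n3, reassoc_of% n2]

end Comp

end Groth.Agent.H7.ES
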