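import Mathlib
import Groth.Prelude.Def_EtShriek2
import Groth.Agent.Lib.Helper7.ES4
import Groth.Agent.Lib.Helper7.ES9

set_option autoImplicit false

universe u

open CategoryTheory CategoryTheory.Limits Opposite AlgebraicGeometry

namespace Groth.Agent.H7.ES

section Gamma

variable {U X : Scheme.{u}} (j : U ⟶ X) [AlgebraicGeometry.Etale j] [EtShriek.JCont j]

/-- The object `U → X` of the small étale site of `X`. -/
noncomputable abbrev etObj : X.Etale := (EtShriek.compEtale j).obj (EtCoh.top U)

/-- Identification of `Γ(U, j⁻¹ G)` with `G(U → X)`. -/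
noncomputable def gammaIso (G : EtCoh.Ab X) :
    (EtCore.gsec U).obj ((EtCoh.pull j).obj G) ≅
      (EtCore.gsec U).obj ((EtShriek.restrAlong j).obj G) :=
  (EtCore.gsec U).mapIso ((pullIsoRestr j).app G)

/-- The concrete restriction map `G(X) → G(U → X)`. -/
noncomputable def secRes (G : EtCoh.Ab X) :
    (EtCore.gsec X).obj G ⟶ (EtCore.gsec U).obj ((EtShriek.restrAlong j).obj G) :=
  G.obj.map ((EtCore.topIsTerminal X).from (etObj j)).op

set_option backward.isDefEq.respectTransparency.types false in
theorem res_gammaIso (G : EtCoh.Ab X) :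
    res j G ≫ (gammaIso j G).hom = secRes j G := by
  have n1 : (EtCore.pushGsecIso j).hom.app ((EtCoh.pull j).obj G) ≫
      (EtCore.gsec U).map ((pullIsoRestr j).hom.app G) =
      (EtCore.gsec X).map ((EtCoh.push j).map ((pullIsoRestr j).hom.app G)) ≫
        (EtCore.pushGsecIso j).hom.app ((EtShriek.restrAlong j).obj G) :=
    ((EtCore.pushGsecIso j).hom.naturality _).symm
  have h : (EtCoh.pullPushAdj j).unit.app G ≫
      (EtCoh.push j).map ((pullIsoRestr j).hom.app G) = (restrPushAdj j).unit.app G :=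
    Adjunction.unit_leftAdjointUniq_hom_app (EtCoh.pullPushAdj j) (restrPushAdj j) G
  have key : res j G ≫ (gammaIso j G).hom =
      (EtCore.gsec X).map ((restrPushAdj j).unit.app G) ≫
        (EtCore.pushGsecIso j).hom.app ((EtShriek.restrAlong j).obj G) := by
    unfold res gammaIso
    rw [Functor.mapIso_hom, Iso.app_hom, Category.assoc, n1, ← Category.assoc,
      ← Functor.map_comp, h]
  rw [key]
  have h1 : (EtCore.gsec X).map ((restrPushAdj j).unit.app G) =
      G.obj.map ((compBcAdj j).counit.app (EtCoh.top X)).op := by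
    simp [restrPushAdj]
  have h2 : (EtCore.pushGsecIso j).hom.app ((EtShriek.restrAlong j).obj G) =
      G.obj.map ((EtShriek.compEtale j).map (EtCore.bcTopIso j).inv).op := rfl
  rw [h1, h2]
  unfold secRes
  refine (G.obj.map_comp _ _).symm.trans ?_
  refine congrArg G.obj.map ?_
  refine op_comp.symm.trans ?_
  refine congrArg Quiver.Hom.op ?_
  exact (EtCore.topIsTerminal X).hom_ext _ _

end Gamma

section Kappa

variable {W X : Scheme.{u}} (j : W ⟶ X) [AlgebraicGeometry.Etale j] [Mono j] [EtShriek.JCont j]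

lemma res_push_counit (H : EtCoh.Ab W) :
    res j ((EtCoh.push j).obj H) ≫ (EtCore.gsec W).map ((EtCoh.pullPushAdj j).counit.app H) =
      (EtCore.pushGsecIso j).hom.app H := by
  unfold res
  have n := (EtCore.pushGsecIso j).hom.naturality ((EtCoh.pullPushAdj j).counit.app H)
  simp only [Functor.comp_obj, Functor.comp_map] at n
  rw [Category.assoc]
  erw [← n]
  rw [← Functor.map_comp_assoc]
  erw [(EtCoh.pullPushAdj j).right_triangle_components H]
  rw [CategoryTheory.Functor.map_id, Category.id_comp]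
  rfl

lemma isIso_res_push (H : EtCoh.Ab W) : IsIso (res j ((EtCoh.push j).obj H)) := by
  haveI := isIso_pullPushAdj_counit j H
  have h := res_push_counit j H
  have : res j ((EtCoh.push j).obj H) = (EtCore.pushGsecIso j).hom.app H ≫
      inv ((EtCore.gsec W).map ((EtCoh.pullPushAdj j).counit.app H)) := by
    rw [← h, Category.assoc, IsIso.hom_inv_id, Category.comp_id]
  rw [this]
  infer_instance

/-- Two natural isomorphisms out of `G ↦ Γ(W, j⁻¹ G)` agreeing after restriction from `X`
coincide. -/
theorem natIso_eq_of_res {K : EtCoh.Ab X ⥤ AddCommGrpCat.{u + 1}}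
    (μ ν : EtCoh.pull j ⋙ EtCore.gsec W ≅ K)
    (h : ∀ G, res j G ≫ μ.hom.app G = res j G ≫ ν.hom.app G) (G : EtCoh.Ab X) :
    μ.hom.app G = ν.hom.app G := by
  let κ : EtCoh.pull j ⋙ EtCore.gsec W ≅ EtCoh.pull j ⋙ EtCore.gsec W := μ ≪≫ ν.symm
  have hκ : ∀ G, res j G ≫ κ.hom.app G = res j G := by
    intro G
    simp only [κ, Iso.trans_hom, Iso.symm_hom, NatTrans.comp_app]
    rw [reassoc_of% (h G), Iso.hom_inv_id_app]
    exact Category.comp_id _
  have h1 : ∀ H : EtCoh.Ab W, κ.hom.app ((EtCoh.push j).obj H) = 𝟙 _ := by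
    intro H
    haveI := isIso_res_push j H
    rw [← cancel_epi (res j ((EtCoh.push j).obj H)), hκ]
    exact (Category.comp_id _).symm
  have h2 : κ.hom.app G = 𝟙 _ := by
    let uG := (EtCoh.pullPushAdj j).unit.app G
    have nat : (EtCoh.pull j ⋙ EtCore.gsec W).map uG ≫
        κ.hom.app ((EtCoh.push j).obj ((EtCoh.pull j).obj G)) =
        κ.hom.app G ≫ (EtCoh.pull j ⋙ EtCore.gsec W).map uG := κ.hom.naturality uG
    rw [h1] at nat
    replace nat := (Category.comp_id _).symm.trans nat
    have hm : Mono ((EtCoh.pull j ⋙ EtCore.gsec W).map uG) := by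
      have hs : (EtCoh.pull j ⋙ EtCore.gsec W).map uG ≫ (EtCore.gsec W).map
          ((EtCoh.pullPushAdj j).counit.app ((EtCoh.pull j).obj G)) = 𝟙 _ := by
        rw [Functor.comp_map, ← Functor.map_comp]
        erw [(EtCoh.pullPushAdj j).left_triangle_components G]
        exact (EtCore.gsec W).map_id _
      exact (SplitMono.mk _ hs).mono
    rw [← cancel_mono ((EtCoh.pull j ⋙ EtCore.gsec W).map uG), Category.id_comp]
    exact nat.symm
  have : μ.hom.app G = κ.hom.app G ≫ ν.hom.app G := by
    simp [κ]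
  rw [this, h2, Category.id_comp]

end Kappa

end Groth.Agent.H7.ES
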