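import Mathlib
import Groth.Prelude.Def_EtShriek2
import Groth.Agent.Lib.Helper7.ES10

set_option autoImplicit false

universe u

open CategoryTheory CategoryTheory.Limits Opposite AlgebraicGeometry

namespace Groth.Agent.H7.ES

section Congr

variable {X Y : Scheme.{u}}

lemma res_congr {f f' : X ⟶ Y} (h : f = f') (G : EtCoh.Ab Y) :
    res f' G = res f G ≫ (EtCore.gsec X).map ((EtCore.pullCongr h).hom.app G) := by
  subst h
  simp [EtCore.pullCongr]

end Congr

section DD

variable {W U X : Scheme.{u}} (jU : U ⟶ X) (a : W ⟶ U) (jW : W ⟶ X) (w : a ≫ jU = jW)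
  [AlgebraicGeometry.Etale jU] [AlgebraicGeometry.Etale a] [AlgebraicGeometry.Etale jW]

/-- The transition isomorphism `(j_U⁻¹ ⋙ a⁻¹) ≅ j_W⁻¹` used by `HpullVia`. -/
noncomputable def thetaIso : EtCoh.pull jU ⋙ EtCoh.pull a ≅ EtCoh.pull jW :=
  (EtCore.pullComp a jU).symm ≪≫ EtCore.pullCongr w

lemma res_eq_res_res (G : EtCoh.Ab X) :
    res jW G = res jU G ≫ res a ((EtCoh.pull jU).obj G) ≫
      (EtCore.gsec W).map ((thetaIso jU a jW w).hom.app G) := by
  rw [res_congr w, res_comp]
  simp only [thetaIso, Iso.trans_hom, Iso.symm_hom, NatTrans.comp_app, Functor.map_comp,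
    Category.assoc]

/-- The comparison isomorphism `(W → X) ≅ (W → U → X)` in the small étale site of `X`. -/
noncomputable def sigmaIso :
    etObj jW ≅ (EtShriek.compEtale jU).obj (etObj a) :=
  MorphismProperty.Over.isoMk (Iso.refl _) (by simp [w])

variable [EtShriek.JCont jU] [EtShriek.JCont a] [EtShriek.JCont jW]

/-- `G ↦ G(W → U → X) ≅ G(W → X)`. -/
noncomputable def tauIso :
    EtShriek.restrAlong jU ⋙ EtShriek.restrAlong a ⋙ EtCore.gsec W ≅
      EtShriek.restrAlong jW ⋙ EtCore.gsec W :=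
  NatIso.ofComponents (fun G => G.obj.mapIso (sigmaIso jU a jW w).op) (fun {G G'} φ => by
    exact (φ.hom.naturality (sigmaIso jU a jW w).hom.op).symm)

/-- The identification of `Γ(W, j_W⁻¹ G)` with `G(W → X)` obtained through `U`. -/
noncomputable def muIso :
    EtCoh.pull jW ⋙ EtCore.gsec W ≅ EtShriek.restrAlong jW ⋙ EtCore.gsec W :=
  Functor.isoWhiskerRight (thetaIso jU a jW w).symm (EtCore.gsec W) ≪≫
    Functor.associator _ _ _ ≪≫
    Functor.isoWhiskerLeft (EtCoh.pull jU)
      (Functor.isoWhiskerRight (pullIsoRestr a) (EtCore.gsec W)) ≪≫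
    Functor.isoWhiskerRight (pullIsoRestr jU) (EtShriek.restrAlong a ⋙ EtCore.gsec W) ≪≫
    tauIso jU a jW w

/-- The direct identification. -/
noncomputable def nuIso :
    EtCoh.pull jW ⋙ EtCore.gsec W ≅ EtShriek.restrAlong jW ⋙ EtCore.gsec W :=
  Functor.isoWhiskerRight (pullIsoRestr jW) (EtCore.gsec W)

lemma nuIso_hom_app (G : EtCoh.Ab X) : (nuIso jW).hom.app G = (gammaIso jW G).hom := rfl

lemma muIso_hom_app (G : EtCoh.Ab X) :
    (muIso jU a jW w).hom.app G =
      (EtCore.gsec W).map ((thetaIso jU a jW w).inv.app G) ≫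
        (gammaIso a ((EtCoh.pull jU).obj G)).hom ≫
        (EtShriek.restrAlong a ⋙ EtCore.gsec W).map ((pullIsoRestr jU).hom.app G) ≫
        (tauIso jU a jW w).hom.app G := by
  simp [muIso, gammaIso]

/-- The canonical morphism `(W → X) ⟶ (U → X)` in the small étale site of `X`. -/
noncomputable def etObjMap : etObj jW ⟶ etObj jU :=
  (sigmaIso jU a jW w).hom ≫
    (EtShriek.compEtale jU).map ((EtCore.topIsTerminal U).from (etObj a))

/-- The restriction map `G(U → X) ⟶ G(W → X)`. -/
noncomputable def evalMap (G : EtCoh.Ab X) :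
    (EtCore.gsec U).obj ((EtShriek.restrAlong jU).obj G) ⟶
      (EtCore.gsec W).obj ((EtShriek.restrAlong jW).obj G) :=
  G.obj.map (etObjMap jU a jW w).op

set_option backward.isDefEq.respectTransparency.types false in
lemma secRes_evalMap (G : EtCoh.Ab X) :
    secRes jU G ≫ evalMap jU a jW w G = secRes jW G := by
  unfold secRes evalMap
  refine (G.obj.map_comp _ _).symm.trans ?_
  refine congrArg G.obj.map ?_
  refine op_comp.symm.trans ?_
  refine congrArg Quiver.Hom.op ?_
  exact (EtCore.topIsTerminal X).hom_ext _ _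

set_option backward.isDefEq.respectTransparency.types false in
/-- Evaluating `secRes a` after the comparison `j_U⁻¹ ≅ restriction`. -/
lemma secRes_comp_eval (G : EtCoh.Ab X) :
    secRes a ((EtCoh.pull jU).obj G) ≫
      (EtShriek.restrAlong a ⋙ EtCore.gsec W).map ((pullIsoRestr jU).hom.app G) ≫
        (tauIso jU a jW w).hom.app G =
      (gammaIso jU G).hom ≫ evalMap jU a jW w G := by
  have nat := ((pullIsoRestr jU).hom.app G).hom.naturality
    ((EtCore.topIsTerminal U).from (etObj a)).op
  have h1 : secRes a ((EtCoh.pull jU).obj G) ≫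
      (EtShriek.restrAlong a ⋙ EtCore.gsec W).map ((pullIsoRestr jU).hom.app G) =
      (gammaIso jU G).hom ≫ G.obj.map ((EtShriek.compEtale jU).map
        ((EtCore.topIsTerminal U).from (etObj a))).op := nat
  refine (Category.assoc _ _ _).symm.trans ?_
  refine (congrArg (· ≫ (tauIso jU a jW w).hom.app G) h1).trans ?_
  refine (Category.assoc _ _ _).trans ?_
  refine congrArg ((gammaIso jU G).hom ≫ ·) ?_
  exact (G.obj.map_comp _ _).symm

set_option backward.isDefEq.respectTransparency.types false in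
lemma res_muIso (G : EtCoh.Ab X) :
    res jW G ≫ (muIso jU a jW w).hom.app G = secRes jW G := by
  have e1 : (EtCore.gsec W).map ((thetaIso jU a jW w).hom.app G) ≫
      (EtCore.gsec W).map ((thetaIso jU a jW w).inv.app G) = 𝟙 _ := by
    rw [← Functor.map_comp, Iso.hom_inv_id_app]
    exact (EtCore.gsec W).map_id _
  rw [muIso_hom_app, res_eq_res_res jU a jW w]
  simp only [Category.assoc]
  rw [reassoc_of% e1, reassoc_of% (res_gammaIso a ((EtCoh.pull jU).obj G)), secRes_comp_eval,
    reassoc_of% (res_gammaIso jU G), secRes_evalMap]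

theorem muIso_eq_gammaIso [Mono jW] (G : EtCoh.Ab X) :
    (muIso jU a jW w).hom.app G = (gammaIso jW G).hom :=
  natIso_eq_of_res jW (muIso jU a jW w) (nuIso jW)
    (fun G => by rw [res_muIso, nuIso_hom_app, res_gammaIso]) G

/-- Key compatibility (D''): restriction of sections from `U` to `W`, read through the
identifications `Γ(U, j_U⁻¹G) ≅ G(U → X)`, `Γ(W, j_W⁻¹G) ≅ G(W → X)`, is the presheaf
restriction map of `G`. -/
theorem res_theta_gammaIso [Mono jW] (G : EtCoh.Ab X) :
    res a ((EtCoh.pull jU).obj G) ≫ (EtCore.gsec W).map ((thetaIso jU a jW w).hom.app G) ≫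
        (gammaIso jW G).hom =
      (gammaIso jU G).hom ≫ evalMap jU a jW w G := by
  have e1 : (EtCore.gsec W).map ((thetaIso jU a jW w).hom.app G) ≫
      (EtCore.gsec W).map ((thetaIso jU a jW w).inv.app G) = 𝟙 _ := by
    rw [← Functor.map_comp, Iso.hom_inv_id_app]
    exact (EtCore.gsec W).map_id _
  rw [← muIso_eq_gammaIso jU a jW w G, muIso_hom_app, reassoc_of% e1,
    reassoc_of% (res_gammaIso a ((EtCoh.pull jU).obj G)), secRes_comp_eval]

end DD

end Groth.Agent.H7.ES
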