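import Mathlib
import Groth.Prelude.Def_EtShriek2
import Groth.Agent.Lib.Helper7.ES1

set_option autoImplicit false

universe u

open CategoryTheory CategoryTheory.Limits Opposite AlgebraicGeometry

namespace Groth.Agent.H7.ES

set_option backward.isDefEq.respectTransparency.types false in
/-- A sieve on the small étale site containing a surjective morphism is covering. -/
lemma sieve_mem_of_surjective {Y : Scheme.{u}} {T T' : Y.Etale} (p : T' ⟶ T)
    (hp : Function.Surjective p.left.base) (S : Sieve T) (h : S p) :
    S ∈ Y.smallEtaleTopology T := by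
  have eY : Y.smallEtaleTopology =
      (Y.smallPretopology (P := EtCoh.etaleMP) (Q := EtCoh.etaleMP)).toGrothendieck :=
    Scheme.smallGrothendieckTopology_eq_toGrothendieck_smallPretopology Y le_rfl
  rw [eY]
  refine (Scheme.mem_toGrothendieck_smallPretopology T S).2 ?_
  intro x
  obtain ⟨y, hy⟩ := hp x
  exact ⟨T', p, y, h, inferInstance, hy⟩

end Groth.Agent.H7.ES

namespace Groth.Agent.H7.ES

section

variable {X Y : Scheme.{u}} (j : X ⟶ Y) [AlgebraicGeometry.Etale j]

set_option backward.isDefEq.respectTransparency.types false in
lemma compBcAdj_counit_left (T : Y.Etale) :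
    ((compBcAdj j).counit.app T).left = pullback.fst T.hom j := rfl

set_option backward.isDefEq.respectTransparency.types false in
lemma compBcAdj_counit_surjective [Surjective j] (T : Y.Etale) :
    Function.Surjective ((compBcAdj j).counit.app T).left.base := by
  rw [compBcAdj_counit_left]
  exact (inferInstance : Surjective (pullback.fst T.hom j)).surj

variable [EtShriek.JCont j]

/-- Restriction along a surjective étale morphism is faithful. -/
instance restrAlong_faithful [Surjective j] : (EtShriek.restrAlong j).Faithful where
  map_injective {F G} φ ψ h := by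
    apply Sheaf.hom_ext
    ext T : 2
    induction T using Opposite.rec with | _ T => ?_
    let p := (compBcAdj j).counit.app T
    have hcov : Sieve.generate (Presieve.singleton p) ∈ Y.smallEtaleTopology T :=
      sieve_mem_of_surjective p (compBcAdj_counit_surjective j T) _
        (Sieve.le_generate (Presieve.singleton p) _ _ (Presieve.singleton_self p))
    have hG := G.property (F.obj.obj (op T))
    refine ((hG _ hcov).isSeparatedFor).ext ?_
    rintro T' f ⟨T'', g, q, ⟨⟩, rfl⟩
    have h1 := congrArg (fun α => α.hom.app (op ((EtCoh.bc j).obj T))) h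
    have n1 := φ.hom.naturality p.op
    have n2 := ψ.hom.naturality p.op
    change φ.hom.app (op T) ≫ G.obj.map (g ≫ p).op = ψ.hom.app (op T) ≫ G.obj.map (g ≫ p).op
    rw [op_comp, Functor.map_comp, ← Category.assoc, ← Category.assoc]
    refine congrArg (· ≫ G.obj.map g.op) ?_
    refine n1.symm.trans (Eq.trans ?_ n2)
    exact congrArg (F.obj.map p.op ≫ ·) h1

end

end Groth.Agent.H7.ES

namespace Groth.Agent.H7.ES

theorem S8598_main {X Y : Scheme.{u}} (j : X ⟶ Y) [AlgebraicGeometry.Etale j] [Surjective j]
    [EtShriek.JCont j] (F : EtCoh.Ab Y) : Epi ((EtShriek.extZeroAdj j).counit.app F) :=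
  inferInstance

end Groth.Agent.H7.ES
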