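import Mathlib
import Groth.Prelude.Def_EtShriek2
import Groth.Agent.Lib.Helper7.ES7
import Groth.Agent.Lib.Helper7.ES11

set_option autoImplicit false

universe u

open CategoryTheory CategoryTheory.Limits Opposite AlgebraicGeometry

namespace Groth.Agent.H7.ES

set_option backward.isDefEq.respectTransparency.types false in
/-- A sieve on the small étale site containing a jointly surjective family is covering. -/
lemma sieve_mem_of_jointly_surjective {Y : Scheme.{u}} {T : Y.Etale} (S : Sieve T)
    (h : ∀ x : T.left, ∃ (T' : Y.Etale) (p : T' ⟶ T) (y : T'.left), S p ∧ p.left.base y = x) :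
    S ∈ Y.smallEtaleTopology T := by
  have eY : Y.smallEtaleTopology =
      (Y.smallPretopology (P := EtCoh.etaleMP) (Q := EtCoh.etaleMP)).toGrothendieck :=
    Scheme.smallGrothendieckTopology_eq_toGrothendieck_smallPretopology Y le_rfl
  rw [eY]
  refine (Scheme.mem_toGrothendieck_smallPretopology T S).2 ?_
  intro x
  obtain ⟨T', p, y, hp, hy⟩ := h x
  exact ⟨T', p, y, hp, inferInstance, hy⟩

section Glue

variable {U V W X : Scheme.{u}} (jU : U ⟶ X) (jV : V ⟶ X) (a : W ⟶ U) (b : W ⟶ V) (jW : W ⟶ X)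
  (wa : a ≫ jU = jW) (wb : b ≫ jV = jW)
  [AlgebraicGeometry.Etale jU] [AlgebraicGeometry.Etale jV] [AlgebraicGeometry.Etale a]
  [AlgebraicGeometry.Etale b] [AlgebraicGeometry.Etale jW]

lemma from_etObj_left [EtShriek.JCont jU] :
    ((EtCore.topIsTerminal X).from (etObj jU)).left = jU := by
  have h := MorphismProperty.Over.w ((EtCore.topIsTerminal X).from (etObj jU))
  exact (Category.comp_id _).symm.trans (h.trans (Category.id_comp jU))

/-- The two-element family `{U → X, V → X}` in the small étale site of `X`. -/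
noncomputable def pairObj [EtShriek.JCont jU] [EtShriek.JCont jV] : Bool → X.Etale
  | true => etObj jU
  | false => etObj jV

noncomputable def pairMap [EtShriek.JCont jU] [EtShriek.JCont jV] (i : Bool) :
    pairObj jU jV i ⟶ EtCoh.top X :=
  (EtCore.topIsTerminal X).from _

variable [EtShriek.JCont jU] [EtShriek.JCont jV]

lemma pair_covering
    (hcov : ∀ x : X, (∃ u : U, jU.base u = x) ∨ (∃ v : V, jV.base v = x)) :
    Sieve.ofArrows (pairObj jU jV) (pairMap jU jV) ∈ X.smallEtaleTopology (EtCoh.top X) := by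
  refine sieve_mem_of_jointly_surjective _ ?_
  intro x
  rcases hcov x with ⟨u, hu⟩ | ⟨v, hv⟩
  · refine ⟨etObj jU, pairMap jU jV true, u, Sieve.ofArrows_mk _ _ true, ?_⟩
    have : (pairMap jU jV true).left = jU := from_etObj_left jU
    rw [this]; exact hu
  · refine ⟨etObj jV, pairMap jU jV false, v, Sieve.ofArrows_mk _ _ false, ?_⟩
    have : (pairMap jU jV false).left = jV := from_etObj_left jV
    rw [this]; exact hv

lemma etObj_hom_eq : (etObj jU).hom = jU := Category.id_comp jU

lemma hom_etObj_subsingleton [Mono jU] (T' : X.Etale) : Subsingleton (T' ⟶ etObj jU) :=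
  ⟨fun α β => by
    apply MorphismProperty.Over.Hom.ext
    have hα : α.left ≫ jU = T'.hom :=
      (congrArg (α.left ≫ ·) (etObj_hom_eq jU)).symm.trans (MorphismProperty.Over.w α)
    have hβ : β.left ≫ jU = T'.hom :=
      (congrArg (β.left ≫ ·) (etObj_hom_eq jU)).symm.trans (MorphismProperty.Over.w β)
    exact (cancel_mono jU).1 (hα.trans hβ.symm)⟩

variable [EtShriek.JCont jW]

include wa in
lemma exists_lift_etObj (hpb : IsPullback a b jU jV) {T' : X.Etale}
    (α : T' ⟶ etObj jU) (β : T' ⟶ etObj jV) : Nonempty (T' ⟶ etObj jW) := by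
  have hα : α.left ≫ jU = T'.hom :=
    (congrArg (α.left ≫ ·) (etObj_hom_eq jU)).symm.trans (MorphismProperty.Over.w α)
  have hβ : β.left ≫ jV = T'.hom :=
    (congrArg (β.left ≫ ·) (etObj_hom_eq jV)).symm.trans (MorphismProperty.Over.w β)
  let c : T'.left ⟶ W := hpb.lift α.left β.left (hα.trans hβ.symm)
  have hc : c ≫ a = α.left := hpb.lift_fst _ _ _
  refine ⟨MorphismProperty.Over.homMk c ?_⟩
  refine (congrArg (c ≫ ·) (etObj_hom_eq jW)).trans ?_
  exact (congrArg (c ≫ ·) wa).symm.trans
    ((Category.assoc _ _ _).symm.trans ((congrArg (· ≫ jU) hc).trans hα))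

variable [EtShriek.JCont a] [EtShriek.JCont b] [Mono jU] [Mono jV]

set_option backward.isDefEq.respectTransparency.types false in
theorem exists_glue (hpb : IsPullback a b jU jV)
    (hcov : ∀ x : X, (∃ u : U, jU.base u = x) ∨ (∃ v : V, jV.base v = x))
    (G : EtCoh.Ab X) {E : AddCommGrpCat.{u + 1}}
    (yU : E ⟶ (EtCore.gsec U).obj ((EtShriek.restrAlong jU).obj G))
    (yV : E ⟶ (EtCore.gsec V).obj ((EtShriek.restrAlong jV).obj G))
    (h : yU ≫ evalMap jU a jW wa G = yV ≫ evalMap jV b jW wb G) :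
    ∃ x : E ⟶ (EtCore.gsec X).obj G, x ≫ secRes jU G = yU ∧ x ≫ secRes jV G = yV := by
  have hG : Presheaf.IsSheaf X.smallEtaleTopology G.obj := G.property
  let y : ∀ i, E ⟶ G.obj.obj (op (pairObj jU jV i)) := fun i =>
    match i with
    | true => yU
    | false => yV
  have hUV : ∀ ⦃T' : X.Etale⦄ (α : T' ⟶ etObj jU) (β : T' ⟶ etObj jV),
      yU ≫ G.obj.map α.op = yV ≫ G.obj.map β.op := by
    intro T' α β
    obtain ⟨γ⟩ := exists_lift_etObj jU jV a b jW wa hpb α β
    haveI := hom_etObj_subsingleton jU T'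
    haveI := hom_etObj_subsingleton jV T'
    have e1' : α = γ ≫ etObjMap jU a jW wa := Subsingleton.elim _ _
    have e2' : β = γ ≫ etObjMap jV b jW wb := Subsingleton.elim _ _
    have e1 : G.obj.map α.op = evalMap jU a jW wa G ≫ G.obj.map γ.op :=
      (congrArg (fun t => G.obj.map t.op) e1').trans (G.obj.map_comp _ _)
    have e2 : G.obj.map β.op = evalMap jV b jW wb G ≫ G.obj.map γ.op :=
      (congrArg (fun t => G.obj.map t.op) e2').trans (G.obj.map_comp _ _)
    refine (congrArg (yU ≫ ·) e1).trans ?_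
    refine Eq.trans ?_ (congrArg (yV ≫ ·) e2).symm
    refine (Category.assoc _ _ _).symm.trans (Eq.trans ?_ (Category.assoc _ _ _))
    exact congrArg (· ≫ G.obj.map γ.op) h
  have hy : ∀ ⦃T' : X.Etale⦄ ⦃i j : Bool⦄ (α : T' ⟶ pairObj jU jV i) (β : T' ⟶ pairObj jU jV j),
      α ≫ pairMap jU jV i = β ≫ pairMap jU jV j →
        y i ≫ G.obj.map α.op = y j ≫ G.obj.map β.op := by
    intro T' i j α β _
    cases i <;> cases j
    · haveI := hom_etObj_subsingleton jV T'
      have : α = β := Subsingleton.elim (α := T' ⟶ etObj jV) _ _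
      rw [this]
    · exact (hUV β α).symm
    · exact hUV α β
    · haveI := hom_etObj_subsingleton jU T'
      have : α = β := Subsingleton.elim (α := T' ⟶ etObj jU) _ _
      rw [this]
  refine ⟨hG.amalgamateOfArrows (pairMap jU jV) (pair_covering jU jV hcov) y hy, ?_, ?_⟩
  · exact hG.amalgamateOfArrows_map (pairMap jU jV) (pair_covering jU jV hcov) y hy true
  · exact hG.amalgamateOfArrows_map (pairMap jU jV) (pair_covering jU jV hcov) y hy false

omit [Mono jU] [Mono jV] in
set_option backward.isDefEq.respectTransparency.types false in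
theorem glue_ext
    (hcov : ∀ x : X, (∃ u : U, jU.base u = x) ∨ (∃ v : V, jV.base v = x))
    (G : EtCoh.Ab X) {E : AddCommGrpCat.{u + 1}} (x x' : E ⟶ (EtCore.gsec X).obj G)
    (hU : x ≫ secRes jU G = x' ≫ secRes jU G) (hV : x ≫ secRes jV G = x' ≫ secRes jV G) :
    x = x' := by
  have hG : Presheaf.IsSheaf X.smallEtaleTopology G.obj := G.property
  refine hG.hom_ext_ofArrows (pairMap jU jV) (pair_covering jU jV hcov) ?_
  intro i
  cases i
  · exact hV
  · exact hU

end Glue

end Groth.Agent.H7.ES
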