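import Mathlib
import Groth.Prelude.Def_EtBase
import Groth.Prelude.Def_BigSite
import Groth.Prelude.Def_SGA4b
import Groth.Agent.Lib.Helper7.ES12

/-!
# Helper7: PropC1 — condition (C) and the direct image of étale sheaves of sets
-/

set_option autoImplicit false

open CategoryTheory Limits AlgebraicGeometry Opposite

namespace Groth.Agent.H7.PropABC

universe u

section Sh

variable {X : Scheme.{u}}

theorem mono_iff_injective_sh {F G : EtDesc.Sh X} (a : F ⟶ G) :
    Mono a ↔ ∀ U : X.Etale, Function.Injective (a.hom.app (op U)) := by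
  constructor
  · intro h U
    haveI : Mono a.hom := (sheafToPresheaf _ _).map_mono a
    haveI : Mono (a.hom.app (op U)) := inferInstance
    exact (mono_iff_injective (a.hom.app (op U))).1 inferInstance
  · intro h
    haveI : ∀ U, Mono (a.hom.app U) := fun U => (mono_iff_injective _).2 (h U.unop)
    haveI : Mono a.hom := NatTrans.mono_of_mono_app _
    exact (sheafToPresheaf _ _).mono_of_mono_map (inferInstanceAs (Mono a.hom))

/-- sections of a sheaf of sets agreeing after restriction along a surjective étale map agree -/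
theorem eq_of_surjective {G : EtDesc.Sh X} {B U : X.Etale} (r : B ⟶ U)
    (hr : Function.Surjective r.left.base) (s s' : G.obj.obj (op U))
    (h : G.obj.map r.op s = G.obj.map r.op s') : s = s' := by
  have hcov : Sieve.generate (Presieve.singleton r) ∈ X.smallEtaleTopology U := by
    refine ES.sieve_mem_of_jointly_surjective _ (fun x => ?_)
    obtain ⟨b, hb⟩ := hr x
    exact ⟨B, r, b, ⟨B, 𝟙 _, r, Presieve.singleton.mk, Category.id_comp _⟩, hb⟩
  have hG := (isSheaf_iff_isSheaf_of_type _ _).1 G.property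
  refine (hG _ hcov).isSeparatedFor.ext ?_
  rintro T g ⟨T', k, r', ⟨⟩, rfl⟩
  rw [op_comp, G.obj.map_comp]
  exact congrArg (G.obj.map k.op) h

end Sh

section C

variable {X Y : Scheme.{u}} (f : X ⟶ Y)

/-- condition (C), rephrased inside the small étale sites -/
theorem exists_bc_surjective (hC : BigSite.PropC f) (U : X.Etale) :
    ∃ (V : Y.Etale) (r : (EtCoh.bc f).obj V ⟶ U), Function.Surjective r.left.base := by
  haveI : Etale U.hom := U.prop
  obtain ⟨V, v, hv, h, hh, hs⟩ := hC U.left U.hom
  haveI := hv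
  let Vet : Y.Etale := Scheme.Etale.mk v
  let B : X.Etale := (EtCoh.bc f).obj Vet
  let σ : B.left ⟶ pullback f v := (pullbackSymmetry f v).inv
  have hσ : σ ≫ pullback.fst f v = B.hom := pullbackSymmetry_inv_comp_fst f v
  refine ⟨Vet, MorphismProperty.Over.homMk (σ ≫ h) (by rw [Category.assoc, hh, hσ]), ?_⟩
  change Function.Surjective (σ ≫ h).base
  rw [Scheme.Hom.comp_base]
  exact hs.surj.comp (pullbackSymmetry f v).inv.homeomorph.surjective

theorem reflectsMono_of_propC (hC : BigSite.PropC f) : (EtDesc.pushSh f).ReflectsMonomorphisms := by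
  refine ⟨fun {G F} a ha => ?_⟩
  rw [mono_iff_injective_sh] at ha ⊢
  intro U s s' hss
  obtain ⟨V, r, hr⟩ := exists_bc_surjective f hC U
  refine eq_of_surjective r hr s s' ?_
  apply ha V
  have hnat := a.hom.naturality r.op
  have h1 : a.hom.app _ (G.obj.map r.op s) = F.obj.map r.op (a.hom.app _ s) :=
    ConcreteCategory.congr_hom hnat s
  have h2 : a.hom.app _ (G.obj.map r.op s') = F.obj.map r.op (a.hom.app _ s') :=
    ConcreteCategory.congr_hom hnat s'
  exact h1.trans ((congrArg (F.obj.map r.op) hss).trans h2.symm)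

theorem reflectsEpi_of_propC (hC : BigSite.PropC f) : (EtDesc.pushSh f).ReflectsEpimorphisms := by
  refine ⟨fun {G F} a ha => ?_⟩
  rw [← Sheaf.isLocallySurjective_iff_epi] at ha ⊢
  refine ⟨fun {U} s => ?_⟩
  obtain ⟨V, r, hr⟩ := exists_bc_surjective f hC U
  have hcov : Sieve.generate (Presieve.singleton r) ∈ X.smallEtaleTopology U := by
    refine ES.sieve_mem_of_jointly_surjective _ (fun x => ?_)
    obtain ⟨b, hb⟩ := hr x
    exact ⟨_, r, b, ⟨_, 𝟙 _, r, Presieve.singleton.mk, Category.id_comp _⟩, hb⟩
  have key : (Presheaf.imageSieve a.hom s).pullback r ∈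
      X.smallEtaleTopology ((EtCoh.bc f).obj V) := by
    rw [Presheaf.pullback_imageSieve]
    let s₁ : ((EtDesc.pushSh f).obj F).obj.obj (op V) := F.obj.map r.op s
    have hS := Presheaf.imageSieve_mem Y.smallEtaleTopology ((EtDesc.pushSh f).map a).hom s₁
    have h2 := (EtCoh.coverPreserving_bc f).cover_preserve hS
    refine X.smallEtaleTopology.superset_covering ?_ h2
    rintro T k ⟨V', g, m, hg, rfl⟩
    obtain ⟨t, ht⟩ := hg
    have ht' : a.hom.app (op ((EtCoh.bc f).obj V')) t =
        F.obj.map ((EtCoh.bc f).map g).op (F.obj.map r.op s) := ht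
    refine ⟨G.obj.map m.op t, ?_⟩
    have hnat := a.hom.naturality m.op
    have h1 : a.hom.app _ (G.obj.map m.op t) = F.obj.map m.op (a.hom.app _ t) :=
      ConcreteCategory.congr_hom hnat t
    rw [h1, ht', op_comp, F.obj.map_comp]
    rfl
  refine X.smallEtaleTopology.transitive hcov _ ?_
  rintro T g ⟨T', k, r', hr', rfl⟩
  obtain ⟨⟩ := hr'
  rw [Sieve.pullback_comp]
  exact X.smallEtaleTopology.pullback_stable _ key

theorem S6631_main (hC : BigSite.PropC f) :
    (EtDesc.pushSh f).ReflectsMonomorphisms ∧ (EtDesc.pushSh f).ReflectsEpimorphisms :=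
  ⟨reflectsMono_of_propC f hC, reflectsEpi_of_propC f hC⟩

end C

end Groth.Agent.H7.PropABC
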