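import Mathlib

set_option autoImplicit false

universe w w' v v' u₁ u'

open CategoryTheory CategoryTheory.Limits Opposite

namespace Groth.Agent.H7.ST

section Cons

variable {C : Type u₁} [Category.{v} C] {J : GrothendieckTopology C}
  {P : ObjectProperty (GrothendieckTopology.Point.{w} J)}
  [LocallySmall.{w} C] [HasSheafify J (Type w)] [J.WEqualsLocallyBijective (Type w)]
  [ObjectProperty.Small.{w} P]

/-- A sieve is covering as soon as it is "surjective on fibres" for a conservative family of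
points. -/
lemma sieve_mem_of_points (hP : P.IsConservativeFamilyOfPoints) {X : C} (S : Sieve X)
    (h : ∀ (Φ : P.FullSubcategory) (x : Φ.obj.fiber.obj X),
      ∃ (Y : C) (g : Y ⟶ X), S g ∧ ∃ y : Φ.obj.fiber.obj Y, Φ.obj.fiber.map g y = x) :
    S ∈ J X := by
  let ι := Σ Y : C, {g : Y ⟶ X // S g}
  let U : ι → C := fun i => i.1
  let f : ∀ i, U i ⟶ X := fun i => i.2.1
  have h1 : Sieve.ofArrows U f ∈ J X := by
    rw [hP.jointly_reflect_ofArrows_mem_of_small]
    intro Φ x
    obtain ⟨Y, g, hg, y, hy⟩ := h Φ x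
    exact ⟨⟨Y, g, hg⟩, y, hy⟩
  refine J.superset_covering ?_ h1
  rw [Sieve.ofArrows, Sieve.generate_le_iff, Presieve.ofArrows_le_iff]
  exact fun i => i.2.2

variable {A : Type u'} [Category.{v'} A] [HasColimitsOfSize.{w, w} A]
  {FC : A → A → Type*} {CC : A → Type w'} [∀ X Y, FunLike (FC X Y) (CC X) (CC Y)]
  [ConcreteCategory.{w'} A FC] [PreservesFilteredColimitsOfSize.{w, w} (forget A)]

theorem isLocallyInjective_of_stalks (hP : P.IsConservativeFamilyOfPoints) {F G : Cᵒᵖ ⥤ A}
    (f : F ⟶ G)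
    (hf : ∀ Φ : P.FullSubcategory, Function.Injective (Φ.obj.presheafFiber.map f)) :
    Presheaf.IsLocallyInjective J f := by
  constructor
  intro X x y h
  apply sieve_mem_of_points hP
  intro Φ p
  have e : Φ.obj.toPresheafFiber X.unop p F x = Φ.obj.toPresheafFiber X.unop p F y := by
    apply hf Φ
    rw [GrothendieckTopology.Point.toPresheafFiber_naturality_apply,
      GrothendieckTopology.Point.toPresheafFiber_naturality_apply]
    exact congrArg _ h
  obtain ⟨Y, g, q, hq, hg⟩ := (Φ.obj.toPresheafFiber_eq_iff' X.unop p x y).1 e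
  exact ⟨Y, g, hg, q, hq⟩

theorem isLocallySurjective_of_stalks (hP : P.IsConservativeFamilyOfPoints) {F G : Cᵒᵖ ⥤ A}
    (f : F ⟶ G)
    (hf : ∀ Φ : P.FullSubcategory, Function.Surjective (Φ.obj.presheafFiber.map f)) :
    Presheaf.IsLocallySurjective J f := by
  constructor
  intro U t
  apply sieve_mem_of_points hP
  intro Φ x
  obtain ⟨p, hp⟩ := hf Φ (Φ.obj.toPresheafFiber U x G t)
  obtain ⟨Y, y, s, rfl⟩ := Φ.obj.toPresheafFiber_jointly_surjective p
  rw [GrothendieckTopology.Point.toPresheafFiber_naturality_apply] at hp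
  let W : Φ.obj.fiber.Elements := IsCofiltered.min (⟨Y, y⟩ : Φ.obj.fiber.Elements) ⟨U, x⟩
  let a : W ⟶ (⟨Y, y⟩ : Φ.obj.fiber.Elements) := IsCofiltered.minToLeft _ _
  let b : W ⟶ (⟨U, x⟩ : Φ.obj.fiber.Elements) := IsCofiltered.minToRight _ _
  have ha : Φ.obj.fiber.map a.1 W.2 = y := a.2
  have hb : Φ.obj.fiber.map b.1 W.2 = x := b.2
  have e : Φ.obj.toPresheafFiber W.1 W.2 G (G.map a.1.op (f.app _ s)) =
      Φ.obj.toPresheafFiber W.1 W.2 G (G.map b.1.op t) := by
    rw [GrothendieckTopology.Point.toPresheafFiber_w_apply,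
      GrothendieckTopology.Point.toPresheafFiber_w_apply, ha, hb]
    exact hp
  obtain ⟨Z, c, z, hz, hc⟩ := (Φ.obj.toPresheafFiber_eq_iff' W.1 W.2 _ _).1 e
  refine ⟨Z, c ≫ b.1, ⟨F.map (c ≫ a.1).op s, ?_⟩, z, ?_⟩
  · rw [NatTrans.naturality_apply, op_comp, op_comp, Functor.map_comp, Functor.map_comp,
      ConcreteCategory.comp_apply, ConcreteCategory.comp_apply]
    exact hc
  · rw [Functor.map_comp]
    change Φ.obj.fiber.map b.1 (Φ.obj.fiber.map c z) = x
    rw [hz, hb]

end Cons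

end Groth.Agent.H7.ST
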