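import Mathlib
import Groth.Prelude.Def_EtBase
import Groth.Agent.Lib.Helper7.ST3

set_option autoImplicit false

universe u

open CategoryTheory CategoryTheory.Limits Opposite AlgebraicGeometry ZeroObject

namespace Groth.Agent.H7.ST

instance ab5_addCommGrp_small : AB5OfSize.{u, u} AddCommGrpCat.{u + 1} :=
  AB5OfSize_of_univLE.{u, u, u + 1, u + 1} AddCommGrpCat.{u + 1}

instance ab5_type_small : AB5OfSize.{u, u} (Type (u + 1)) :=
  AB5OfSize_of_univLE.{u, u, u + 1, u + 1} (Type (u + 1))

instance forget_addCommGrp_preservesFiltered_small :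
    PreservesFilteredColimitsOfSize.{u, u} (forget AddCommGrpCat.{u + 1}) :=
  haveI : PreservesFilteredColimitsOfSize.{u + 1, u + 1} (forget AddCommGrpCat.{u + 1}) :=
    inferInstance
  preservesFilteredColimitsOfSize_of_univLE.{u + 1, u + 1, u, u} _

instance forget_type_preservesFiltered_small :
    PreservesFilteredColimitsOfSize.{u, u} (forget (Type (u + 1))) :=
  haveI : PreservesFilteredColimitsOfSize.{u + 1, u + 1} (forget (Type (u + 1))) :=
    inferInstance
  preservesFilteredColimitsOfSize_of_univLE.{u + 1, u + 1, u, u} _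

section Etale

variable (X : Scheme.{u})

/-- Mathlib's small conservative family of geometric points. -/
noncomputable abbrev geomPt (s : X) : GrothendieckTopology.Point.{u} X.smallEtaleTopology :=
  Scheme.pointSmallEtale
    ((Scheme.SpecToEquivOfField (SeparableClosure (X.residueField s)) _).2
      ⟨s, CommRingCat.ofHom (algebraMap (X.residueField s) _)⟩)

abbrev PX : ObjectProperty (GrothendieckTopology.Point.{u} X.smallEtaleTopology) :=
  ObjectProperty.ofObj (geomPt X)

lemma hPX : (PX X).IsConservativeFamilyOfPoints :=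
  Scheme.isConservativeFamilyOfPoints_pointSmallEtale' X

variable {X}

theorem ab_mono_iff {F G : EtCoh.Ab X} (a : F ⟶ G) :
    Mono a ↔ ∀ (Ω : Type u) [Field Ω] [IsSepClosed Ω] (ξ : Spec (CommRingCat.of Ω) ⟶ X),
      Function.Injective ((EtCoh.stalk ξ).map a) := by
  constructor
  · intro _ Ω _ _ ξ
    exact (AddCommGrpCat.mono_iff_injective _).1 inferInstance
  · intro h
    haveI : Presheaf.IsLocallyInjective X.smallEtaleTopology a.hom := by
      refine isLocallyInjective_of_stalks (hPX X) a.hom ?_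
      rintro ⟨_, ⟨s⟩⟩
      exact h _ _
    haveI : Sheaf.IsLocallyInjective a := ‹_›
    exact Sheaf.mono_of_isLocallyInjective a

theorem ab_epi_iff {F G : EtCoh.Ab X} (a : F ⟶ G) :
    Epi a ↔ ∀ (Ω : Type u) [Field Ω] [IsSepClosed Ω] (ξ : Spec (CommRingCat.of Ω) ⟶ X),
      Function.Surjective ((EtCoh.stalk ξ).map a) := by
  constructor
  · intro _ Ω _ _ ξ
    exact (AddCommGrpCat.epi_iff_surjective _).1 inferInstance
  · intro h
    haveI : Presheaf.IsLocallySurjective X.smallEtaleTopology a.hom := by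
      refine isLocallySurjective_of_stalks (hPX X) a.hom ?_
      rintro ⟨_, ⟨s⟩⟩
      exact h _ _
    haveI : Sheaf.IsLocallySurjective a := ‹_›
    exact Sheaf.epi_of_isLocallySurjective a

theorem sh_mono_iff {F G : Sheaf X.smallEtaleTopology (Type (u + 1))} (v : F ⟶ G) :
    Mono v ↔ ∀ (Ω : Type u) [Field Ω] [IsSepClosed Ω] (ξ : Spec (CommRingCat.of Ω) ⟶ X),
      Function.Injective (((Scheme.pointSmallEtale ξ).sheafFiber (A := Type (u + 1))).map v) := by
  constructor
  · intro _ Ω _ _ ξ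
    exact (mono_iff_injective _).1 inferInstance
  · intro h
    haveI : Presheaf.IsLocallyInjective X.smallEtaleTopology v.hom := by
      refine isLocallyInjective_of_stalks (hPX X) v.hom ?_
      rintro ⟨_, ⟨s⟩⟩
      exact h _ _
    haveI : Sheaf.IsLocallyInjective v := ‹_›
    exact Sheaf.mono_of_isLocallyInjective v

theorem sh_epi_iff {F G : Sheaf X.smallEtaleTopology (Type (u + 1))} (v : F ⟶ G) :
    Epi v ↔ ∀ (Ω : Type u) [Field Ω] [IsSepClosed Ω] (ξ : Spec (CommRingCat.of Ω) ⟶ X),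
      Function.Surjective (((Scheme.pointSmallEtale ξ).sheafFiber (A := Type (u + 1))).map v) := by
  constructor
  · intro _ Ω _ _ ξ
    exact (epi_iff_surjective _).1 inferInstance
  · intro h
    haveI : Presheaf.IsLocallySurjective X.smallEtaleTopology v.hom := by
      refine isLocallySurjective_of_stalks (hPX X) v.hom ?_
      rintro ⟨_, ⟨s⟩⟩
      exact h _ _
    haveI : Sheaf.IsLocallySurjective v := ‹_›
    exact Sheaf.epi_of_isLocallySurjective' v

theorem ab_isZero_iff (H : EtCoh.Ab X) :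
    IsZero H ↔ ∀ (Ω : Type u) [Field Ω] [IsSepClosed Ω] (ξ : Spec (CommRingCat.of Ω) ⟶ X),
      IsZero ((EtCoh.stalk ξ).obj H) := by
  constructor
  · intro h Ω _ _ ξ
    exact (EtCoh.stalk ξ).map_isZero h
  · intro h
    haveI : Mono (0 : H ⟶ 0) := by
      rw [ab_mono_iff]
      intro Ω _ _ ξ x y _
      haveI := AddCommGrpCat.subsingleton_of_isZero (h Ω ξ)
      exact Subsingleton.elim x y
    exact IsZero.of_mono_zero H 0

theorem ab_exact_iff (S : ShortComplex (EtCoh.Ab X)) :
    S.Exact ↔ ∀ (Ω : Type u) [Field Ω] [IsSepClosed Ω] (ξ : Spec (CommRingCat.of Ω) ⟶ X),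
      (S.map (EtCoh.stalk ξ)).Exact := by
  constructor
  · intro h Ω _ _ ξ
    exact h.map (EtCoh.stalk ξ)
  · intro h
    rw [ShortComplex.exact_iff_isZero_homology, ab_isZero_iff]
    intro Ω _ _ ξ
    exact IsZero.of_iso ((ShortComplex.exact_iff_isZero_homology _).1 (h Ω ξ))
      (S.mapHomologyIso (EtCoh.stalk ξ)).symm

theorem S622_main (S : ShortComplex (EtCoh.Ab X)) {F G : EtCoh.Ab X} (a : F ⟶ G) :
    (S.Exact ↔ ∀ (Ω : Type u) [Field Ω] [IsSepClosed Ω] (ξ : Spec (CommRingCat.of Ω) ⟶ X),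
      (S.map (EtCoh.stalk ξ)).Exact) ∧
    (Mono a ↔ ∀ (Ω : Type u) [Field Ω] [IsSepClosed Ω] (ξ : Spec (CommRingCat.of Ω) ⟶ X),
      Function.Injective ((EtCoh.stalk ξ).map a)) ∧
    (Epi a ↔ ∀ (Ω : Type u) [Field Ω] [IsSepClosed Ω] (ξ : Spec (CommRingCat.of Ω) ⟶ X),
      Function.Surjective ((EtCoh.stalk ξ).map a)) :=
  ⟨ab_exact_iff S, ab_mono_iff a, ab_epi_iff a⟩

end Etale

end Groth.Agent.H7.ST
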