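import Mathlib
import Groth.Prelude.Def_EtBase
import Groth.Agent.Lib.Helper7.ES12
import Groth.Agent.Lib.Helper7.ST4

set_option autoImplicit false

universe u

open CategoryTheory CategoryTheory.Limits Opposite AlgebraicGeometry

namespace Groth.Agent.H7.ST

open Groth.Agent.H7.ES

section Empty

variable {X : Scheme.{u}}

/-- The empty sieve covers an étale `X`-scheme with empty underlying space. -/
lemma bot_mem_of_isEmpty (T : X.Etale) [IsEmpty T.left] :
    (⊥ : Sieve T) ∈ X.smallEtaleTopology T :=
  sieve_mem_of_jointly_surjective _ (fun x => (IsEmpty.false x).elim)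

/-- Sections of an abelian étale sheaf over an empty étale scheme are all equal. -/
lemma sections_subsingleton_of_isEmpty (G : EtCoh.Ab X) (T : X.Etale) [IsEmpty T.left] :
    Subsingleton (G.obj.obj (op T)) := by
  have hT : IsTerminal (G.obj.obj (op T)) := Sheaf.isTerminalOfBotCover G T (bot_mem_of_isEmpty T)
  have hZ : IsZero (G.obj.obj (op T)) := by
    refine IsZero.of_iso (isZero_zero _) (hT.uniqueUpToIso (IsZero.isTerminal (isZero_zero _)))
  exact AddCommGrpCat.subsingleton_of_isZero hZ

end Empty

section Closed

variable {Z X : Scheme.{u}} (i : Z ⟶ X) [IsClosedImmersion i]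

/-- The open complement of the preimage of `Z` in an étale `X`-scheme. -/
def complOpen (U : X.Etale) : U.left.Opens :=
  ⟨(U.hom.base ⁻¹' (Set.range i.base))ᶜ,
    (i.isClosedEmbedding.isClosed_range.preimage
      U.hom.continuous).isOpen_compl⟩

lemma mem_complOpen (U : X.Etale) (a : U.left) :
    a ∈ complOpen i U ↔ U.hom.base a ∉ Set.range i.base := Iff.rfl

/-- The complement as an object of the small étale site. -/
noncomputable def complObj (U : X.Etale) : X.Etale :=
  Scheme.Etale.mk ((complOpen i U).ι ≫ U.hom)

noncomputable def complMap (U : X.Etale) : complObj i U ⟶ U :=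
  MorphismProperty.Over.homMk (complOpen i U).ι rfl

set_option backward.isDefEq.respectTransparency.types false in
instance isEmpty_bc_complObj (U : X.Etale) : IsEmpty ((EtCoh.bc i).obj (complObj i U)).left := by
  constructor
  intro w
  let a : (complObj i U).left := (pullback.fst (complObj i U).hom i).base w
  let b : Z := (pullback.snd (complObj i U).hom i).base w
  have h : (complObj i U).hom.base a = i.base b := by
    have := congrArg (fun k => k.base w) (pullback.condition (f := (complObj i U).hom) (g := i))
    simpa using this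
  have ha : ((complOpen i U).ι.base a) ∈ complOpen i U := by
    have : (complOpen i U).ι.base a ∈ Set.range (complOpen i U).ι.base := ⟨a, rfl⟩
    rwa [Scheme.Opens.range_ι] at this
  rw [mem_complOpen] at ha
  apply ha
  refine ⟨b, ?_⟩
  rw [← h]
  rfl

variable (G : EtCoh.Ab Z) {Ω : Type u} [Field Ω] [IsSepClosed Ω]
  (ξ : Spec (CommRingCat.of Ω) ⟶ X)

set_option backward.isDefEq.respectTransparency.types false in
theorem S69_main (hξ : Disjoint (Set.range ξ.base) (Set.range i.base)) :
    IsZero ((EtCoh.stalk ξ).obj ((EtCoh.push i).obj G)) := by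
  let Φ := Scheme.pointSmallEtale ξ
  let P : EtCoh.Ab X := (EtCoh.push i).obj G
  have key : ∀ p : ToType (Φ.presheafFiber.obj P.obj), p = 0 := by
    intro p
    obtain ⟨U, x, z, rfl⟩ := Φ.toPresheafFiber_jointly_surjective p
    let xl : Spec (CommRingCat.of Ω) ⟶ U.left := x.left
    have hx : xl ≫ U.hom = ξ := Over.w x
    have hr : Set.range (complOpen i U).ι.base = (complOpen i U : Set U.left) :=
      Scheme.Opens.range_ι _
    have hrange : Set.range xl.base ⊆ Set.range (complOpen i U).ι.base := by
      rintro _ ⟨t, rfl⟩
      refine hr.ge ?_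
      change xl.base t ∈ complOpen i U
      rw [mem_complOpen]
      intro hmem
      have h1 : U.hom.base (xl.base t) = ξ.base t := by
        rw [← hx]; rfl
      rw [h1] at hmem
      exact Set.disjoint_left.1 hξ ⟨t, rfl⟩ hmem
    let l : Spec (CommRingCat.of Ω) ⟶ ↑(complOpen i U) :=
      IsOpenImmersion.lift (complOpen i U).ι xl hrange
    have hl : l ≫ (complOpen i U).ι = xl := IsOpenImmersion.lift_fac _ _ _
    let x' : Φ.fiber.obj (complObj i U) :=
      Over.homMk l (by
        change l ≫ (complOpen i U).ι ≫ U.hom = ξ
        rw [← Category.assoc, hl, hx])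
    have hx' : Φ.fiber.map (complMap i U) x' = x := by
      apply Over.OverMorphism.ext
      exact hl
    have h1 := GrothendieckTopology.Point.toPresheafFiber_w_apply Φ (complMap i U) x' P.obj z
    rw [hx'] at h1
    rw [← h1]
    haveI : Subsingleton (P.obj.obj (op (complObj i U))) :=
      sections_subsingleton_of_isEmpty G ((EtCoh.bc i).obj (complObj i U))
    have h2 : P.obj.map (complMap i U).op z = 0 := Subsingleton.elim _ _
    rw [h2, map_zero]
  haveI : Subsingleton (ToType (Φ.presheafFiber.obj P.obj)) :=
    ⟨fun p q => by rw [key p, key q]⟩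
  exact @AddCommGrpCat.isZero_of_subsingleton (Φ.presheafFiber.obj P.obj) this

end Closed

end Groth.Agent.H7.ST
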