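import Mathlib
import Groth.Prelude.Def_EtBase
import Groth.Prelude.Def_BigSite
import Groth.Prelude.Def_SGA4b
import Groth.Agent.Lib.Helper7.ES12
import Groth.Agent.Lib.Helper7.ST7
import Groth.Agent.Lib.Helper7.PropC1

/-!
# Helper7: PropB1 — condition (B) and the direct image of étale sheaves of sets
-/

set_option autoImplicit false

open CategoryTheory Limits AlgebraicGeometry Opposite

namespace Groth.Agent.H7.PropABC

universe u

section Sh

variable {X : Scheme.{u}}

set_option backward.isDefEq.respectTransparency.types false in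
/-- covering sieves of the small étale site are jointly surjective -/
lemma exists_of_sieve_mem {T : X.Etale} (S : Sieve T) (hS : S ∈ X.smallEtaleTopology T)
    (x : T.left) : ∃ (T' : X.Etale) (p : T' ⟶ T) (y : T'.left), S p ∧ p.left.base y = x := by
  have eX : X.smallEtaleTopology =
      (X.smallPretopology (P := EtCoh.etaleMP) (Q := EtCoh.etaleMP)).toGrothendieck :=
    Scheme.smallGrothendieckTopology_eq_toGrothendieck_smallPretopology X le_rfl
  rw [eX] at hS
  obtain ⟨T', p, y, hp, -, hy⟩ := (Scheme.mem_toGrothendieck_smallPretopology T S).1 hS x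
  exact ⟨T', p, y, hp, hy⟩

lemma subsingleton_sections_of_isEmpty (G : EtDesc.Sh X) (T : X.Etale) [IsEmpty T.left] :
    Subsingleton (G.obj.obj (op T)) := by
  have hT : IsTerminal (G.obj.obj (op T)) :=
    Sheaf.isTerminalOfBotCover G T (ST.bot_mem_of_isEmpty T)
  exact ⟨fun a b => by
    have := (Types.isTerminalEquivUnique _ hT)
    exact (this.uniq a).trans (this.uniq b).symm⟩

theorem exists_glue_disjoint (G : EtDesc.Sh X) {B : X.Etale} {μ : Type*} (W : μ → X.Etale)
    (q : ∀ a, W a ⟶ B) (hmono : ∀ a, Mono (q a).left)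
    (hcov : ∀ b : B.left, ∃ a w, (q a).left.base w = b)
    (hdisj : ∀ a b, a ≠ b → ∀ (w1 : (W a).left) (w2 : (W b).left),
      (q a).left.base w1 ≠ (q b).left.base w2)
    (t : ∀ a, G.obj.obj (op (W a))) : ∃ t' : G.obj.obj (op B), ∀ a, G.obj.map (q a).op t' = t a := by
  have hcover : Sieve.ofArrows W q ∈ X.smallEtaleTopology B := by
    refine ES.sieve_mem_of_jointly_surjective _ (fun b => ?_)
    obtain ⟨a, w, hw⟩ := hcov b
    exact ⟨W a, q a, w, Sieve.ofArrows_mk W q a, hw⟩
  have hG := (isSheaf_iff_isSheaf_of_type _ _).1 G.property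
  have h1 : Presieve.IsSheafFor G.obj (Presieve.ofArrows W q) := by
    rw [Presieve.isSheafFor_iff_generate]; exact hG _ hcover
  rw [Presieve.isSheafFor_arrows_iff] at h1
  obtain ⟨t', ht', -⟩ := h1 t (by
    intro a b T ga gb hab
    by_cases hab' : a = b
    · subst hab'
      haveI := hmono a
      have : ga = gb := by
        apply MorphismProperty.Over.Hom.ext
        have := congrArg (fun k => k.left) hab
        exact (cancel_mono (q a).left).1 this
      rw [this]
    · haveI : IsEmpty T.left := ⟨fun z => by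
        have h1 := congrArg (fun k => k.left.base z) hab
        exact hdisj a b hab' (ga.left.base z) (gb.left.base z) h1⟩
      haveI := subsingleton_sections_of_isEmpty G T
      exact Subsingleton.elim _ _)
  exact ⟨t', ht'⟩

theorem eq_of_jointly_surjective (G : EtDesc.Sh X) {B : X.Etale} {μ : Type*} (W : μ → X.Etale)
    (q : ∀ a, W a ⟶ B) (hcov : ∀ b : B.left, ∃ a w, (q a).left.base w = b)
    (s s' : G.obj.obj (op B)) (h : ∀ a, G.obj.map (q a).op s = G.obj.map (q a).op s') : s = s' := by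
  have hcover : Sieve.ofArrows W q ∈ X.smallEtaleTopology B := by
    refine ES.sieve_mem_of_jointly_surjective _ (fun b => ?_)
    obtain ⟨a, w, hw⟩ := hcov b
    exact ⟨W a, q a, w, Sieve.ofArrows_mk W q a, hw⟩
  have hG := (isSheaf_iff_isSheaf_of_type _ _).1 G.property
  refine (hG _ hcover).isSeparatedFor.ext ?_
  rintro T g ⟨T', k, r', ⟨a⟩, rfl⟩
  rw [op_comp, G.obj.map_comp]
  exact congrArg (G.obj.map k.op) (h a)

end Sh

end Groth.Agent.H7.PropABC

namespace Groth.Agent.H7.PropABC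

universe u

section B

variable {X Y : Scheme.{u}} (f : X ⟶ Y)

lemma bc_map_left_fst {U V : Y.Etale} (g : V ⟶ U) :
    ((EtCoh.bc f).map g).left ≫ pullback.fst U.hom f = pullback.fst V.hom f ≫ g.left :=
  (EtCoh.isPullback_bc_map f g).w

lemma bc_map_left_snd {U V : Y.Etale} (g : V ⟶ U) :
    ((EtCoh.bc f).map g).left ≫ pullback.snd U.hom f = pullback.snd V.hom f :=
  MorphismProperty.Over.w ((EtCoh.bc f).map g)

lemma comp_helper {C : Type*} [Category C] {A B D E E' F' : C} (hl : A ⟶ B) (pl : B ⟶ D)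
    (σ : D ⟶ E) (fst : E ⟶ F') (bh : D ⟶ F') (th : B ⟶ F') (wi : A ⟶ E') (pm : E' ⟶ E)
    (fst' : E' ⟶ F') (e1 : pl ≫ bh = th) (hσ : σ ≫ fst = bh) (e2 : hl ≫ pl ≫ σ = wi ≫ pm)
    (hpm : pm ≫ fst = fst') : hl ≫ th = wi ≫ fst' := by
  rw [← e1, ← hσ, ← hpm, ← Category.assoc wi, ← e2]
  simp only [Category.assoc]

theorem preservesEpi_of_propB (hB : BigSite.PropB f) : (EtDesc.pushSh f).PreservesEpimorphisms := by
  refine ⟨fun {G F} a ha => ?_⟩
  rw [← Sheaf.isLocallySurjective_iff_epi] at ha ⊢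
  refine ⟨fun {Vet} s => ?_⟩
  haveI : Etale Vet.hom := Vet.prop
  let B : X.Etale := (EtCoh.bc f).obj Vet
  let s₀ : F.obj.obj (op B) := s
  let σ : pullback Vet.hom f ⟶ pullback f Vet.hom := (pullbackSymmetry Vet.hom f).hom
  have hσ : σ ≫ pullback.fst f Vet.hom = pullback.snd Vet.hom f :=
    pullbackSymmetry_hom_comp_fst Vet.hom f
  have hσ2 : σ ≫ pullback.snd f Vet.hom = pullback.fst Vet.hom f :=
    pullbackSymmetry_hom_comp_snd Vet.hom f
  have hS : Presheaf.imageSieve a.hom s₀ ∈ X.smallEtaleTopology B :=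
    Presheaf.imageSieve_mem X.smallEtaleTopology a.hom s₀
  have hpt := exists_of_sieve_mem _ hS
  choose T p y hp hy using hpt
  choose tt htt using hp
  haveI : ∀ x, Etale (T x).hom := fun x => (T x).prop
  let pl : ∀ x, (T x).left ⟶ pullback Vet.hom f := fun x => (p x).left
  have hpl : ∀ x, pl x ≫ pullback.snd Vet.hom f = (T x).hom := fun x =>
    MorphismProperty.Over.w (p x)
  haveI : Etale (pullback.snd Vet.hom f) := inferInstance
  haveI : ∀ x, Etale (pl x) := fun x =>
    MorphismProperty.of_postcomp (W := @Etale) (W' := @Etale) (pl x) (pullback.snd Vet.hom f)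
      inferInstance (by rw [hpl x]; exact (T x).prop)
  obtain ⟨κ, V', v', hv'et, hv'surj, hW⟩ := hB Vet.left Vet.hom (↥B.left)
    (fun x => (T x).left)
    (fun x => pl x ≫ σ) (fun x => inferInstance) (fun z => by
      obtain ⟨b, rfl⟩ := (pullbackSymmetry Vet.hom f).hom.homeomorph.surjective z
      refine ⟨b, y b, ?_⟩
      rw [Scheme.Hom.comp_apply]
      exact congrArg σ.base (hy b))
  refine ES.sieve_mem_of_jointly_surjective _ (fun y₀ => ?_)
  obtain ⟨j, y', hy'⟩ := hv'surj y₀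
  haveI := hv'et j
  let V'j : Y.Etale := Scheme.Etale.mk (v' j ≫ Vet.hom)
  let vj : V'j ⟶ Vet := MorphismProperty.Over.homMk (v' j) rfl
  refine ⟨V'j, vj, y', ?_, hy'⟩
  obtain ⟨μ, W, hdisj, hsup, hfac⟩ := hW j
  choose i h hh using hfac
  let Bj : X.Etale := (EtCoh.bc f).obj V'j
  let Pj := pullback f (v' j ≫ Vet.hom)
  let σj : Pj ⟶ pullback (v' j ≫ Vet.hom) f := (pullbackSymmetry f (v' j ≫ Vet.hom)).hom
  have hσj : σj ≫ pullback.snd (v' j ≫ Vet.hom) f = pullback.fst f (v' j ≫ Vet.hom) :=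
    pullbackSymmetry_hom_comp_snd f (v' j ≫ Vet.hom)
  have hσj1 : σj ≫ pullback.fst (v' j ≫ Vet.hom) f = pullback.snd f (v' j ≫ Vet.hom) :=
    pullbackSymmetry_hom_comp_fst f (v' j ≫ Vet.hom)
  let Wa : μ → X.Etale := fun a => Scheme.Etale.mk ((W a).ι ≫ pullback.fst f (v' j ≫ Vet.hom))
  let qa : ∀ a, Wa a ⟶ Bj := fun a => MorphismProperty.Over.homMk ((W a).ι ≫ σj)
    ((Category.assoc _ _ _).trans (congrArg (fun t => (W a).ι ≫ t) hσj))
  let pm : Pj ⟶ pullback f Vet.hom :=
    pullback.map f (v' j ≫ Vet.hom) f Vet.hom (𝟙 X) (v' j) (𝟙 Y) (by simp) (by simp)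
  have hpm : pm ≫ pullback.fst f Vet.hom = pullback.fst f (v' j ≫ Vet.hom) :=
    (pullback.lift_fst _ _ _).trans (Category.comp_id _)
  have hpm2 : pm ≫ pullback.snd f Vet.hom = pullback.snd f (v' j ≫ Vet.hom) ≫ v' j :=
    pullback.lift_snd _ _ _
  have hh' : ∀ a, h a ≫ pl (i a) ≫ σ = (W a).ι ≫ pm := fun a => hh a
  let ha' : ∀ a, Wa a ⟶ T (i a) := fun a => MorphismProperty.Over.homMk (h a)
    (comp_helper (h a) (pl (i a)) σ (pullback.fst f Vet.hom) (pullback.snd Vet.hom f) (T (i a)).hom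
      (W a).ι pm (pullback.fst f (v' j ≫ Vet.hom)) (hpl (i a)) hσ (hh' a) hpm)
  -- key compatibility
  let bcl : pullback (v' j ≫ Vet.hom) f ⟶ pullback Vet.hom f := ((EtCoh.bc f).map vj).left
  have hb1 : bcl ≫ pullback.fst Vet.hom f = pullback.fst (v' j ≫ Vet.hom) f ≫ v' j :=
    bc_map_left_fst f vj
  have hb2 : bcl ≫ pullback.snd Vet.hom f = pullback.snd (v' j ≫ Vet.hom) f :=
    bc_map_left_snd f vj
  have hcomp : σj ≫ bcl ≫ σ = pm := by
    apply pullback.hom_ext
    · rw [Category.assoc, Category.assoc, hσ, hb2, hσj, hpm]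
    · rw [Category.assoc, Category.assoc, hσ2, hb1, ← Category.assoc, hσj1, hpm2]
  have hkey : ∀ a, qa a ≫ (EtCoh.bc f).map vj = ha' a ≫ p (i a) := by
    intro a
    apply MorphismProperty.Over.Hom.ext
    change ((W a).ι ≫ σj) ≫ bcl = h a ≫ pl (i a)
    haveI : Mono σ := inferInstanceAs (Mono (pullbackSymmetry Vet.hom f).hom)
    rw [← cancel_mono σ, Category.assoc (h a), hh' a, Category.assoc, Category.assoc, hcomp]
  -- glue
  let ta : ∀ a, G.obj.obj (op (Wa a)) := fun a => G.obj.map (ha' a).op (tt (i a))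
  have hsurjσj : Function.Surjective σj.base :=
    (pullbackSymmetry f (v' j ≫ Vet.hom)).hom.homeomorph.surjective
  have hinjσj : Function.Injective σj.base :=
    (pullbackSymmetry f (v' j ≫ Vet.hom)).hom.homeomorph.injective
  have hcov : ∀ b : Bj.left, ∃ a w, (qa a).left.base w = b := by
    intro b
    obtain ⟨b', rfl⟩ := hsurjσj b
    have hb' : b' ∈ (⨆ a, W a : Pj.Opens) := by rw [hsup]; trivial
    obtain ⟨a, hba⟩ := TopologicalSpace.Opens.mem_iSup.1 hb'
    refine ⟨a, ⟨b', hba⟩, ?_⟩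
    change ((W a).ι ≫ σj).base _ = _
    rw [Scheme.Hom.comp_apply]; rfl
  have hdj : ∀ a b, a ≠ b → ∀ (w1 : (Wa a).left) (w2 : (Wa b).left),
      (qa a).left.base w1 ≠ (qa b).left.base w2 := by
    intro a b hab w1 w2 h12
    change ((W a).ι ≫ σj).base w1 = ((W b).ι ≫ σj).base w2 at h12
    rw [Scheme.Hom.comp_apply, Scheme.Hom.comp_apply] at h12
    have h3 : ((W a).ι.base w1 : Pj) = (W b).ι.base w2 := hinjσj h12
    have h4 : (w1.1 : Pj) = w2.1 := h3
    have h5 : w1.1 ∈ W a ⊓ W b := ⟨w1.2, h4 ▸ w2.2⟩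
    exact (hdisj a b hab).le_bot h5
  obtain ⟨t', ht'⟩ := exists_glue_disjoint G Wa qa
    (fun a => inferInstanceAs (Mono ((W a).ι ≫ σj))) hcov hdj ta
  refine ⟨t', ?_⟩
  change a.hom.app (op Bj) t' = F.obj.map ((EtCoh.bc f).map vj).op s₀
  refine eq_of_jointly_surjective F Wa qa hcov _ _ (fun b => ?_)
  have hnat := a.hom.naturality (qa b).op
  have h1 : F.obj.map (qa b).op (a.hom.app _ t') = a.hom.app _ (G.obj.map (qa b).op t') :=
    (ConcreteCategory.congr_hom hnat t').symm
  rw [h1, ht' b]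
  have hnat2 := a.hom.naturality (ha' b).op
  have h2 : a.hom.app _ (G.obj.map (ha' b).op (tt (i b))) =
      F.obj.map (ha' b).op (a.hom.app _ (tt (i b))) := ConcreteCategory.congr_hom hnat2 _
  rw [h2, htt (i b)]
  have h3 : F.obj.map (ha' b).op (F.obj.map (p (i b)).op s₀) =
      F.obj.map (ha' b ≫ p (i b)).op s₀ := by
    rw [op_comp, F.obj.map_comp]; rfl
  have h4 : F.obj.map (qa b).op (F.obj.map ((EtCoh.bc f).map vj).op s₀) =
      F.obj.map (qa b ≫ (EtCoh.bc f).map vj).op s₀ := by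
    rw [op_comp, F.obj.map_comp]; rfl
  rw [h3, h4, hkey b]

theorem S6629_main (hB : BigSite.PropB f) : (EtDesc.pushSh f).PreservesEpimorphisms :=
  preservesEpi_of_propB f hB

end B

end Groth.Agent.H7.PropABC
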