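import Mathlib

set_option autoImplicit false
set_option linter.deprecated false

universe v u w w'

open CategoryTheory CategoryTheory.Limits Opposite

namespace Groth.Agent.H7.GalCov

variable {C : Type u} [Category.{v} C] {T Y : C} (hT : IsTerminal T) [HasBinaryProduct Y Y]
  {G : Type w'} (σ : G → (Y ⟶ Y)) (P : Cᵒᵖ ⥤ Type w)

include hT in
/-- Sheaf condition for the covering `Y → T` of a terminal object when `P (Y ⨯ Y)` embeds into the
`G`-indexed families of `P Y` via the graphs of the `σ g`. -/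
theorem isSheafFor_singleton_iff
    (hP : Function.Injective (fun s : P.obj (op (Y ⨯ Y)) => fun g : G =>
      P.map (prod.lift (𝟙 Y) (σ g)).op s)) :
    Presieve.IsSheafFor P (Presieve.singleton (hT.from Y)) ↔
      (Function.Injective (P.map (hT.from Y).op) ∧
        Set.range (P.map (hT.from Y).op) = {s | ∀ g : G, P.map (σ g).op s = s}) := by
  have hcompat : ∀ x : P.obj (op Y),
      (∀ {Z : C} (p₁ p₂ : Z ⟶ Y), p₁ ≫ hT.from Y = p₂ ≫ hT.from Y →
        P.map p₁.op x = P.map p₂.op x) ↔ ∀ g : G, P.map (σ g).op x = x := by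
    intro x
    constructor
    · intro h g
      have := h (σ g) (𝟙 Y) (hT.hom_ext _ _)
      simpa using this
    · intro h Z p₁ p₂ _
      have key : P.map (prod.fst : Y ⨯ Y ⟶ Y).op x = P.map (prod.snd : Y ⨯ Y ⟶ Y).op x := by
        apply hP
        funext g
        dsimp only
        rw [← FunctorToTypes.map_comp_apply, ← FunctorToTypes.map_comp_apply, ← op_comp, ← op_comp,
          prod.lift_fst, prod.lift_snd, h g]
        simp
      have e₁ : P.map p₁.op x = P.map (prod.lift p₁ p₂).op (P.map (prod.fst : Y ⨯ Y ⟶ Y).op x) := by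
        rw [← FunctorToTypes.map_comp_apply, ← op_comp, prod.lift_fst]
      have e₂ : P.map p₂.op x = P.map (prod.lift p₁ p₂).op (P.map (prod.snd : Y ⨯ Y ⟶ Y).op x) := by
        rw [← FunctorToTypes.map_comp_apply, ← op_comp, prod.lift_snd]
      rw [e₁, e₂, key]
  rw [Presieve.isSheafFor_singleton]
  constructor
  · intro h
    refine ⟨fun a b hab => ?_, ?_⟩
    · have hx : ∀ {Z : C} (p₁ p₂ : Z ⟶ Y), p₁ ≫ hT.from Y = p₂ ≫ hT.from Y →
          P.map p₁.op (P.map (hT.from Y).op a) = P.map p₂.op (P.map (hT.from Y).op a) := by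
        intro Z p₁ p₂ hp
        rw [← FunctorToTypes.map_comp_apply, ← FunctorToTypes.map_comp_apply, ← op_comp, ← op_comp,
          hp]
      obtain ⟨y, -, hy⟩ := h _ hx
      exact (hy a rfl).trans (hy b hab.symm).symm
    · ext s
      constructor
      · rintro ⟨t, rfl⟩ g
        rw [← FunctorToTypes.map_comp_apply, ← op_comp, hT.hom_ext (σ g ≫ hT.from Y) (hT.from Y)]
      · intro hs
        obtain ⟨y, hy, -⟩ := h s ((hcompat s).2 hs)
        exact ⟨y, hy⟩
  · rintro ⟨hinj, hrange⟩ x hx
    have hs : x ∈ {s | ∀ g : G, P.map (σ g).op s = s} := (hcompat x).1 hx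
    rw [← hrange] at hs
    obtain ⟨y, rfl⟩ := hs
    exact ⟨y, rfl, fun y' hy' => hinj hy'⟩

end Groth.Agent.H7.GalCov
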