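import Mathlib
import Groth.Prelude.Def_EtCore
import Groth.Agent.Lib.Helper7.GalCov1
import Groth.Agent.Lib.Helper7.ES12

set_option autoImplicit false
set_option linter.deprecated false

universe u

open CategoryTheory CategoryTheory.Limits Opposite AlgebraicGeometry

namespace Groth.Agent.H7.GalCov

open Groth.Agent.H7.ES

variable {X : Scheme.{u}}

/-- Morphisms of étale `X`-schemes are étale. -/
lemma etale_left {A B : X.Etale} (p : A ⟶ B) : AlgebraicGeometry.Etale p.left :=
  EtCoh.etaleMP.of_postcomp (W' := EtCoh.etaleMP) p.left B.hom B.prop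
    (by rw [MorphismProperty.Over.w p]; exact A.prop)

/-- The union of the images of a family of morphisms of étale `X`-schemes, as an open. -/
noncomputable def unionOpen {ι : Type*} {A : ι → X.Etale} {Z : X.Etale} (inj : ∀ i, A i ⟶ Z) :
    Z.left.Opens :=
  ⟨⋃ i, Set.range (inj i).left.base, isOpen_iUnion (fun i => by
    haveI := etale_left (inj i)
    exact (inj i).left.isOpenMap.isOpen_range)⟩

/-- The injections of a coproduct in the small étale site are jointly surjective. -/
theorem jointly_surjective_of_isColimit {ι : Type*} {A : ι → X.Etale} {Z : X.Etale}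
    (inj : ∀ i, A i ⟶ Z) (hc : IsColimit (Cofan.mk Z inj)) (z : Z.left) :
    ∃ (i : ι) (a : (A i).left), (inj i).left.base a = z := by
  let U : Z.left.Opens := unionOpen inj
  haveI : IsOpenImmersion U.ι := inferInstance
  haveI : AlgebraicGeometry.Etale Z.hom := Z.prop
  let ZU : X.Etale := Scheme.Etale.mk (U.ι ≫ Z.hom)
  let j : ZU ⟶ Z := MorphismProperty.Over.homMk U.ι rfl
  have hfac : ∀ i, Set.range (inj i).left.base ⊆ Set.range U.ι.base := by
    intro i
    rw [Scheme.Opens.range_ι]
    exact Set.subset_iUnion (fun i => Set.range (inj i).left.base) i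
  let l : ∀ i, (A i).left ⟶ (U : Scheme.{u}) := fun i =>
    IsOpenImmersion.lift U.ι (inj i).left (hfac i)
  have hl : ∀ i, l i ≫ U.ι = (inj i).left := fun i =>
    IsOpenImmersion.lift_fac U.ι (inj i).left (hfac i)
  let inj' : ∀ i, A i ⟶ ZU := fun i =>
    MorphismProperty.Over.homMk (l i) (by
      change l i ≫ U.ι ≫ Z.hom = (A i).hom
      rw [← Category.assoc, hl]
      exact MorphismProperty.Over.w (inj i))
  have hinj' : ∀ i, inj' i ≫ j = inj i := by
    intro i
    apply MorphismProperty.Over.Hom.ext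
    exact hl i
  let r : Z ⟶ ZU := Cofan.IsColimit.desc hc inj'
  have hr : ∀ i, inj i ≫ r = inj' i := fun i => Cofan.IsColimit.fac hc inj' i
  have hid : r ≫ j = 𝟙 Z := by
    refine Cofan.IsColimit.hom_ext hc _ _ (fun i => ?_)
    change inj i ≫ r ≫ j = inj i ≫ 𝟙 Z
    rw [← Category.assoc, hr, hinj', Category.comp_id]
  have hz : U.ι.base (r.left.base z) = z := by
    have h1 : r.left ≫ U.ι = 𝟙 Z.left := congrArg (fun t => t.left) hid
    exact congrArg (fun t : Z.left ⟶ Z.left => t.base z) h1
  have hzU : z ∈ (U : Set Z.left) := by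
    rw [← hz]
    exact (r.left.base z).2
  obtain ⟨i, a, ha⟩ := Set.mem_iUnion.1 hzU
  exact ⟨i, a, ha⟩

set_option backward.isDefEq.respectTransparency.types false in
theorem S16269_main (Y : X.Etale) (hY : Function.Surjective Y.hom.base)
    {G : Type u} [Group G] (σ : G →* Aut Y)
    (hgal : Nonempty (IsColimit (Cofan.mk (Y ⨯ Y) (fun g : G => prod.lift (𝟙 Y) (σ g).hom))))
    (F : EtCoh.Ab X) :
    Function.Injective (F.obj.map ((EtCore.topIsTerminal X).from Y).op) ∧
      Set.range (F.obj.map ((EtCore.topIsTerminal X).from Y).op) =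
        {s : EtCoh.sect F Y | ∀ g : G, F.obj.map (σ g).hom.op s = s} := by
  obtain ⟨hc⟩ := hgal
  let P : X.Etaleᵒᵖ ⥤ Type (u + 1) := F.obj ⋙ forget AddCommGrpCat.{u + 1}
  have hPsh : Presieve.IsSheaf X.smallEtaleTopology P :=
    (isSheaf_iff_isSheaf_of_type _ _).1
      ((Presheaf.isSheaf_iff_isSheaf_forget X.smallEtaleTopology F.obj
        (forget AddCommGrpCat.{u + 1})).1 F.property)
  -- the covering `Y → X`
  have hcov : Sieve.generate (Presieve.singleton ((EtCore.topIsTerminal X).from Y)) ∈
      X.smallEtaleTopology (EtCoh.top X) := by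
    refine sieve_mem_of_jointly_surjective _ (fun x => ?_)
    obtain ⟨y, hy⟩ := hY x
    refine ⟨Y, (EtCore.topIsTerminal X).from Y, y, ⟨_, 𝟙 _, _, Presieve.singleton_self _, Category.id_comp _⟩, ?_⟩
    have h1 : ((EtCore.topIsTerminal X).from Y).left = Y.hom := by
      have h := MorphismProperty.Over.w ((EtCore.topIsTerminal X).from Y)
      exact (Category.comp_id _).symm.trans h
    rw [h1]
    exact hy
  have hsh : Presieve.IsSheafFor P (Presieve.singleton ((EtCore.topIsTerminal X).from Y)) :=
    (Presieve.isSheafFor_iff_generate _).2 (hPsh _ hcov)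
  -- the covering of `Y ⨯ Y` by the graphs
  have hcov2 : Sieve.ofArrows (fun _ : G => Y) (fun g : G => prod.lift (𝟙 Y) (σ g).hom) ∈
      X.smallEtaleTopology (Y ⨯ Y) := by
    refine sieve_mem_of_jointly_surjective _ (fun z => ?_)
    obtain ⟨g, a, ha⟩ := jointly_surjective_of_isColimit _ hc z
    exact ⟨Y, prod.lift (𝟙 Y) (σ g).hom, a, Sieve.ofArrows_mk _ _ g, ha⟩
  have hP : Function.Injective (fun s : P.obj (op (Y ⨯ Y)) => fun g : G =>
      P.map (prod.lift (𝟙 Y) (σ g).hom).op s) := by
    intro s s' hss'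
    refine (hPsh _ hcov2).isSeparatedFor.ext (fun W f hf => ?_)
    obtain ⟨W', h, _, ⟨g⟩, rfl⟩ := hf
    have := congrFun hss' g
    dsimp only at this
    rw [op_comp, FunctorToTypes.map_comp_apply, FunctorToTypes.map_comp_apply, this]
  exact (isSheafFor_singleton_iff (EtCore.topIsTerminal X) (fun g => (σ g).hom) P hP).1 hsh

end Groth.Agent.H7.GalCov
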