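import Mathlib
import Groth.Prelude.Def_EtShriek2
import Groth.Agent.Lib.Helper7.ES12
import Groth.Agent.Lib.Helper7.GalCov2

set_option autoImplicit false

universe u

open CategoryTheory CategoryTheory.Limits Opposite AlgebraicGeometry

namespace Groth.Agent.H7.Sup

open Groth.Agent.H7.ES Groth.Agent.H7.GalCov

variable {S : Scheme.{u}} (F : EtCoh.Ab S)

/-- The fibre product of two objects over a third in the small étale site, by hand. -/
noncomputable def fibObj {U V V' : S.Etale} (φ : V ⟶ U) (φ' : V' ⟶ U) : S.Etale :=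
  haveI := etale_left φ'
  haveI : AlgebraicGeometry.Etale V.hom := V.prop
  MorphismProperty.Over.mk ⊤ (pullback.fst φ.left φ'.left ≫ V.hom) inferInstance

noncomputable def fibFst {U V V' : S.Etale} (φ : V ⟶ U) (φ' : V' ⟶ U) : fibObj φ φ' ⟶ V :=
  MorphismProperty.Over.homMk (pullback.fst φ.left φ'.left) rfl

noncomputable def fibSnd {U V V' : S.Etale} (φ : V ⟶ U) (φ' : V' ⟶ U) : fibObj φ φ' ⟶ V' :=
  MorphismProperty.Over.homMk (pullback.snd φ.left φ'.left) (by
    change pullback.snd φ.left φ'.left ≫ V'.hom = pullback.fst φ.left φ'.left ≫ V.hom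
    rw [← MorphismProperty.Over.w φ, ← MorphismProperty.Over.w φ', ← Category.assoc,
      ← Category.assoc, pullback.condition])

lemma fib_condition {U V V' : S.Etale} (φ : V ⟶ U) (φ' : V' ⟶ U) :
    fibFst φ φ' ≫ φ = fibSnd φ φ' ≫ φ' := by
  apply MorphismProperty.Over.Hom.ext
  exact pullback.condition

lemma exists_fib_point {U V V' : S.Etale} (φ : V ⟶ U) (φ' : V' ⟶ U) (v : V.left) (v' : V'.left)
    (h : φ.left.base v = φ'.left.base v') :
    ∃ z : (fibObj φ φ').left, (fibFst φ φ').left.base z = v ∧ (fibSnd φ φ').left.base z = v' :=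
  Scheme.Pullback.exists_preimage_pullback v v' h

/-- The vanishing locus of a section, as an open subset. -/
noncomputable def vanOpen (U : S.Etale) (σ : EtCoh.sect F U) : U.left.Opens :=
  ⟨⋃ (V : S.Etale) (φ : V ⟶ U) (_ : F.obj.map φ.op σ = 0), Set.range φ.left.base,
    isOpen_iUnion fun V => isOpen_iUnion fun φ => isOpen_iUnion fun _ => by
      haveI := etale_left φ
      exact φ.left.isOpenMap.isOpen_range⟩

lemma mem_vanOpen {U : S.Etale} {σ : EtCoh.sect F U} {x : U.left} :
    x ∈ vanOpen F U σ ↔ ∃ (V : S.Etale) (φ : V ⟶ U), F.obj.map φ.op σ = 0 ∧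
      x ∈ Set.range φ.left.base := by
  change x ∈ ⋃ (V : S.Etale) (φ : V ⟶ U) (_ : F.obj.map φ.op σ = 0), Set.range φ.left.base ↔ _
  simp only [Set.mem_iUnion, exists_prop]

theorem map_eq_zero_iff {U : S.Etale} (σ : EtCoh.sect F U) (V : S.Etale) (φ : V ⟶ U) :
    F.obj.map φ.op σ = 0 ↔ Set.range φ.left.base ⊆ (vanOpen F U σ : Set U.left) := by
  constructor
  · intro h x hx
    exact (mem_vanOpen F).2 ⟨V, φ, h, hx⟩
  · intro h
    have hsep := Sheaf.isSeparated F
    let T : Sieve V :=
      { arrows := fun V' ψ => F.obj.map (ψ ≫ φ).op σ = 0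
        downward_closed := by
          intro Y Z f hf g
          change F.obj.map ((g ≫ f) ≫ φ).op σ = 0
          rw [Category.assoc, op_comp, F.obj.map_comp]
          change (F.obj.map g.op) ((F.obj.map (f ≫ φ).op) σ) = 0
          rw [hf, map_zero] }
    have hT : T ∈ S.smallEtaleTopology V := by
      refine sieve_mem_of_jointly_surjective T ?_
      intro v
      obtain ⟨V', φ', hφ', v', hv'⟩ := (mem_vanOpen F).1 (h ⟨v, rfl⟩)
      obtain ⟨z, hz1, hz2⟩ := exists_fib_point φ φ' v v' hv'.symm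
      refine ⟨fibObj φ φ', fibFst φ φ', z, ?_, hz1⟩
      change F.obj.map (fibFst φ φ' ≫ φ).op σ = 0
      rw [fib_condition, op_comp, F.obj.map_comp]
      change (F.obj.map (fibSnd φ φ').op) ((F.obj.map φ'.op) σ) = 0
      rw [hφ', map_zero]
    refine hsep V T hT _ _ ?_
    intro Y f hf
    rw [map_zero]
    have : F.obj.map f.op (F.obj.map φ.op σ) = F.obj.map (f ≫ φ).op σ := by
      rw [op_comp, F.obj.map_comp]; rfl
    rw [this]
    exact hf

end Groth.Agent.H7.Sup
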