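import Mathlib
import Groth.Prelude.Def_SixF1
import Groth.Prelude.Def_Dual3
import Groth.Agent.Lib.Helper2.AdjPlus2
import Groth.Agent.Lib.Helper7.GT2

/-!
# Helper7: ModPull1 — exactness of the inverse image of étale sheaves of `Λ`-modules and two derived
adjunctions on `D⁺` (via helper2's `AdjPlus.nonempty_adj`)
-/

set_option autoImplicit false
universe u
open CategoryTheory CategoryTheory.Limits AlgebraicGeometry Opposite
attribute [local instance] HasDerivedCategory.standard

namespace Groth.Agent.H7.ModPull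

instance ab5_moduleCat_succ (Λ : Type (u + 1)) [CommRing Λ] :
    AB5OfSize.{u, u + 1} (ModuleCat.{u + 1} Λ) :=
  AB5OfSize_of_univLE.{u, u + 1, u + 1, u + 1} (ModuleCat.{u + 1} Λ)

/-- the inverse image of étale sheaves of `Λ`-modules is left exact -/
theorem pullMod_preservesFiniteLimits (Λ : Type (u + 1)) [CommRing Λ] {X Y : Scheme.{u}}
    (f : X ⟶ Y) : PreservesFiniteLimits (EtModW.pull Λ f) :=
  Groth.Agent.H7.GT.sheafPullback_preservesFiniteLimits (EtCoh.bc f) (ModuleCat.{u + 1} Λ)
    Y.smallEtaleTopology X.smallEtaleTopology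

theorem pullMod_preservesFiniteColimits (Λ : Type (u + 1)) [CommRing Λ] {X Y : Scheme.{u}}
    (f : X ⟶ Y) : PreservesFiniteColimits (EtModW.pull Λ f) :=
  ⟨fun _ _ _ => (EtSix.pullPushModAdj Λ f).leftAdjoint_preservesColimits.preservesColimitsOfShape⟩

theorem S4333_main (Λ : Type (u + 1)) [CommRing Λ] {Y Y' : Scheme.{u}} (g : Y' ⟶ Y) :
    Nonempty ((EtModW.pull Λ g).rightDerivedFunctorPlus ⊣
      (EtModW.push Λ g).rightDerivedFunctorPlus) := by
  haveI := pullMod_preservesFiniteLimits Λ g
  haveI := pullMod_preservesFiniteColimits Λ g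
  exact Groth.Agent.H2.AdjPlus.nonempty_adj (EtSix.pullPushModAdj Λ g)

theorem S3631_main (Z X : Scheme.{u}) (i : Z ⟶ X) [Dual3.HasHomO i]
    [EnoughInjectives X.Modules] [EnoughInjectives Z.Modules] :
    Nonempty (DCoh.RpushPlus i ⊣ Dual3.RHomOPlus i) := by
  haveI : PreservesFiniteLimits (Scheme.Modules.pushforward i) :=
    ⟨fun _ _ _ => (Scheme.Modules.pullbackPushforwardAdjunction i).rightAdjoint_preservesLimits.preservesLimitsOfShape⟩
  haveI : PreservesFiniteColimits (Scheme.Modules.pushforward i) :=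
    ⟨fun _ _ _ => (Dual3.homOAdj i).leftAdjoint_preservesColimits.preservesColimitsOfShape⟩
  exact Groth.Agent.H2.AdjPlus.nonempty_adj (Dual3.homOAdj i)

end Groth.Agent.H7.ModPull
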