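import Mathlib
import Groth.Prelude.Def_EtBase

set_option autoImplicit false

universe u

open CategoryTheory CategoryTheory.Limits Opposite AlgebraicGeometry

namespace Groth.Agent.H7.ST

section PointIso

universe w v v' u₁ u'

variable {C : Type u₁} [Category.{v} C] {J : GrothendieckTopology C}
  {A : Type u'} [Category.{v'} A] [HasColimitsOfSize.{w, w} A]

/-- An isomorphism of fibre functors induces an isomorphism of points. -/
@[simps]
def pointIsoOfFiberIso {Φ₁ Φ₂ : GrothendieckTopology.Point.{w} J} (e : Φ₁.fiber ≅ Φ₂.fiber) :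
    Φ₁ ≅ Φ₂ where
  hom := ⟨e.inv⟩
  inv := ⟨e.hom⟩
  hom_inv_id := by ext : 1; simp
  inv_hom_id := by ext : 1; simp

/-- Isomorphic points have isomorphic stalk functors. -/
noncomputable def sheafFiberIsoOfIso {Φ₁ Φ₂ : GrothendieckTopology.Point.{w} J} (e : Φ₁ ≅ Φ₂) :
    Φ₁.sheafFiber (A := A) ≅ Φ₂.sheafFiber where
  hom := GrothendieckTopology.Point.Hom.sheafFiber e.inv
  inv := GrothendieckTopology.Point.Hom.sheafFiber e.hom
  hom_inv_id := by
    rw [← GrothendieckTopology.Point.Hom.sheafFiber_comp, e.hom_inv_id,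
      GrothendieckTopology.Point.Hom.sheafFiber_id]
  inv_hom_id := by
    rw [← GrothendieckTopology.Point.Hom.sheafFiber_comp, e.inv_hom_id,
      GrothendieckTopology.Point.Hom.sheafFiber_id]

end PointIso

section ElementsEquiv

universe w v u₁

variable {C : Type u₁} [Category.{v} C]

/-- Isomorphic functors have equivalent categories of elements. -/
def elementsEquivOfIso {F₁ F₂ : C ⥤ Type w} (e : F₁ ≅ F₂) : F₁.Elements ≌ F₂.Elements :=
  Cat.equivOfIso (Functor.elementsFunctor.mapIso e)

lemma initiallySmall_elements_of_iso {F₁ F₂ : C ⥤ Type w} (e : F₁ ≅ F₂)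
    [InitiallySmall.{w} F₂.Elements] : InitiallySmall.{w} F₁.Elements :=
  initiallySmall_of_initial_of_initiallySmall (elementsEquivOfIso e).inverse

end ElementsEquiv

section Etale

variable {X Y : Scheme.{u}} (f : X ⟶ Y) {Ω : Type u} [Field Ω] [IsSepClosed Ω]
  (ξ : Spec (CommRingCat.of Ω) ⟶ X)

set_option backward.isDefEq.respectTransparency.types false in
/-- The fibre functor of the image geometric point. -/
noncomputable def fiberCompIso :
    EtCoh.bc f ⋙ (Scheme.pointSmallEtale ξ).fiber ≅ (Scheme.pointSmallEtale (ξ ≫ f)).fiber :=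
  (Functor.associator _ _ _).symm ≪≫
    Functor.isoWhiskerRight
      (MorphismProperty.Over.pullbackCompForgetIso (P := EtCoh.etaleMP) (Q := ⊤) f)
      (coyoneda.obj (op (Over.mk ξ))) ≪≫
    Functor.associator _ _ _ ≪≫
    Functor.isoWhiskerLeft (Scheme.Etale.forget Y)
      (((Over.mapPullbackAdj f).compCoyonedaIso.app (op (Over.mk ξ))).symm)

instance : InitiallySmall.{u} (EtCoh.bc f ⋙ (Scheme.pointSmallEtale ξ).fiber).Elements :=
  initiallySmall_elements_of_iso (fiberCompIso f ξ)

/-- The image point, as a `comap`. -/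
noncomputable def comapPoint : GrothendieckTopology.Point.{u} Y.smallEtaleTopology :=
  (Scheme.pointSmallEtale ξ).comap (EtCoh.bc f) (EtCoh.coverPreserving_bc f)

noncomputable def comapPointIso : comapPoint f ξ ≅ Scheme.pointSmallEtale (ξ ≫ f) :=
  pointIsoOfFiberIso (fiberCompIso f ξ)

/-- Stalk of the inverse image. -/
noncomputable def stalkPullIso :
    EtCoh.pull f ⋙ EtCoh.stalk ξ ≅ EtCoh.stalk (ξ ≫ f) :=
  ((Scheme.pointSmallEtale ξ).sheafFiberComapIso (EtCoh.bc f) (EtCoh.coverPreserving_bc f)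
      AddCommGrpCat.{u + 1}).symm ≪≫
    sheafFiberIsoOfIso (comapPointIso f ξ)

theorem S100_main (G : EtCoh.Ab Y) :
    Nonempty ((EtCoh.stalk ξ).obj ((EtCoh.pull f).obj G) ≅ (EtCoh.stalk (ξ ≫ f)).obj G) :=
  ⟨(stalkPullIso f ξ).app G⟩

end Etale

end Groth.Agent.H7.ST
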