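import Mathlib
import Groth.Prelude.Def_EtBase
import Groth.Agent.Lib.Helper7.ST1
import Groth.Agent.Lib.Helper7.ST4

set_option autoImplicit false

universe u

open CategoryTheory CategoryTheory.Limits Opposite AlgebraicGeometry ZeroObject

namespace Groth.Agent.H7.ST

section Family

variable {X : Scheme.{u}} {ι : Type u} {Ω : ι → Type u} [∀ i, Field (Ω i)]
  [∀ i, IsSepClosed (Ω i)] (s : ∀ i, Spec (CommRingCat.of (Ω i)) ⟶ X)

/-- The family of points attached to a family of geometric points. -/
abbrev PFam : ObjectProperty (GrothendieckTopology.Point.{u} X.smallEtaleTopology) :=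
  ObjectProperty.ofObj (fun i => Scheme.pointSmallEtale (s i))

variable (hs : ⋃ i, Set.range (s i) = Set.univ)

include hs

lemma hPFam : (PFam s).IsConservativeFamilyOfPoints :=
  Scheme.isConservative_pointSmallEtale s hs

theorem ab_mono_of_family {F G : EtCoh.Ab X} (a : F ⟶ G)
    (h : ∀ i, Function.Injective ((EtCoh.stalk (s i)).map a)) : Mono a := by
  haveI : Presheaf.IsLocallyInjective X.smallEtaleTopology a.hom := by
    refine isLocallyInjective_of_stalks (hPFam s hs) a.hom ?_
    rintro ⟨_, ⟨i⟩⟩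
    exact h i
  haveI : Sheaf.IsLocallyInjective a := ‹_›
  exact Sheaf.mono_of_isLocallyInjective a

theorem ab_epi_of_family {F G : EtCoh.Ab X} (a : F ⟶ G)
    (h : ∀ i, Function.Surjective ((EtCoh.stalk (s i)).map a)) : Epi a := by
  haveI : Presheaf.IsLocallySurjective X.smallEtaleTopology a.hom := by
    refine isLocallySurjective_of_stalks (hPFam s hs) a.hom ?_
    rintro ⟨_, ⟨i⟩⟩
    exact h i
  haveI : Sheaf.IsLocallySurjective a := ‹_›
  exact Sheaf.epi_of_isLocallySurjective a

theorem sh_mono_of_family {F G : Sheaf X.smallEtaleTopology (Type (u + 1))} (v : F ⟶ G)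
    (h : ∀ i, Function.Injective
      (((Scheme.pointSmallEtale (s i)).sheafFiber (A := Type (u + 1))).map v)) : Mono v := by
  haveI : Presheaf.IsLocallyInjective X.smallEtaleTopology v.hom := by
    refine isLocallyInjective_of_stalks (hPFam s hs) v.hom ?_
    rintro ⟨_, ⟨i⟩⟩
    exact h i
  haveI : Sheaf.IsLocallyInjective v := ‹_›
  exact Sheaf.mono_of_isLocallyInjective v

theorem sh_epi_of_family {F G : Sheaf X.smallEtaleTopology (Type (u + 1))} (v : F ⟶ G)
    (h : ∀ i, Function.Surjective
      (((Scheme.pointSmallEtale (s i)).sheafFiber (A := Type (u + 1))).map v)) : Epi v := by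
  haveI : Presheaf.IsLocallySurjective X.smallEtaleTopology v.hom := by
    refine isLocallySurjective_of_stalks (hPFam s hs) v.hom ?_
    rintro ⟨_, ⟨i⟩⟩
    exact h i
  haveI : Sheaf.IsLocallySurjective v := ‹_›
  exact Sheaf.epi_of_isLocallySurjective' v

end Family

section Surj

variable {Y' Y : Scheme.{u}} (g : Y' ⟶ Y)

/-- The chosen geometric point over a point of a scheme. -/
noncomputable abbrev geomξ (X : Scheme.{u}) (x : X) :
    Spec (CommRingCat.of (SeparableClosure (X.residueField x))) ⟶ X :=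
  (Scheme.SpecToEquivOfField (SeparableClosure (X.residueField x)) _).2
    ⟨x, CommRingCat.ofHom (algebraMap (X.residueField x) _)⟩

lemma geomξ_default (X : Scheme.{u}) (x : X) : (geomξ X x) default = x := by
  simp [geomξ, Scheme.SpecToEquivOfField]

lemma iUnion_range_comp [Surjective g] :
    ⋃ y' : Y', Set.range (geomξ Y' y' ≫ g) = Set.univ := by
  ext y
  simp only [Set.mem_iUnion, Set.mem_range, Set.mem_univ, iff_true]
  obtain ⟨y', rfl⟩ := g.surjective y
  exact ⟨y', default, by rw [Scheme.Hom.comp_apply, geomξ_default]⟩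

theorem S14622_main [Surjective g] (F : EtCoh.Ab Y) :
    Mono ((EtCoh.pullPushAdj g).unit.app F) := by
  refine ab_mono_of_family (fun y' => geomξ Y' y' ≫ g) (iUnion_range_comp g) _ ?_
  intro y'
  rw [← AddCommGrpCat.mono_iff_injective]
  let e := stalkPullIso g (geomξ Y' y')
  have hsplit : (EtCoh.pull g).map ((EtCoh.pullPushAdj g).unit.app F) ≫
      (EtCoh.pullPushAdj g).counit.app _ = 𝟙 _ :=
    (EtCoh.pullPushAdj g).left_triangle_components F
  haveI : Mono ((EtCoh.pull g).map ((EtCoh.pullPushAdj g).unit.app F)) :=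
    (SplitMono.mk _ hsplit).mono
  haveI : Mono ((EtCoh.pull g ⋙ EtCoh.stalk (geomξ Y' y')).map
      ((EtCoh.pullPushAdj g).unit.app F)) := by
    rw [Functor.comp_map]
    infer_instance
  have nat := e.hom.naturality ((EtCoh.pullPushAdj g).unit.app F)
  have h : (EtCoh.stalk (geomξ Y' y' ≫ g)).map ((EtCoh.pullPushAdj g).unit.app F) =
      e.inv.app F ≫ (EtCoh.pull g ⋙ EtCoh.stalk (geomξ Y' y')).map
        ((EtCoh.pullPushAdj g).unit.app F) ≫ e.hom.app _ := by
    rw [nat]
    exact (Iso.inv_hom_id_app_assoc e F _).symm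
  rw [h]
  infer_instance

end Surj

end Groth.Agent.H7.ST
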