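import Mathlib
import Groth.Prelude.Def_SGA4b
import Groth.Agent.Lib.Helper7.ST5

set_option autoImplicit false

universe w w' v v' u₁ u' u

open CategoryTheory CategoryTheory.Limits Opposite AlgebraicGeometry

namespace Groth.Agent.H7.ST

section Cons

variable {C : Type u₁} [Category.{v} C] {J : GrothendieckTopology C}
  {P : ObjectProperty (GrothendieckTopology.Point.{w} J)}
  [LocallySmall.{w} C] [HasSheafify J (Type w)] [J.WEqualsLocallyBijective (Type w)]
  [ObjectProperty.Small.{w} P]
  {A : Type u'} [Category.{v'} A] [HasColimitsOfSize.{w, w} A]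

theorem sheaf_hom_ext_of_stalks {FC : A → A → Type*} {CC : A → Type w'}
    [∀ X Y, FunLike (FC X Y) (CC X) (CC Y)]
    [ConcreteCategory.{w'} A FC] [PreservesFilteredColimitsOfSize.{w, w} (forget A)]
    [J.HasSheafCompose (forget A)]
    (hP : P.IsConservativeFamilyOfPoints) {F G : Sheaf J A}
    (a b : F ⟶ G)
    (h : ∀ Φ : P.FullSubcategory, Φ.obj.presheafFiber.map a.hom = Φ.obj.presheafFiber.map b.hom) :
    a = b := by
  have hsep : Presieve.IsSeparated J (G.obj ⋙ forget A) := by
    apply Presieve.IsSheaf.isSeparated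
    rw [← isSheaf_iff_isSheaf_of_type]
    exact ((sheafCompose J (forget A)).obj G).2
  apply Sheaf.hom_ext
  ext U : 2
  apply ConcreteCategory.hom_ext
  intro x
  have hmem : Presheaf.equalizerSieve (F := G.obj) (a.hom.app U x) (b.hom.app U x) ∈ J U.unop := by
    apply sieve_mem_of_points hP
    intro Φ p
    have e : Φ.obj.toPresheafFiber U.unop p G.obj (a.hom.app U x) =
        Φ.obj.toPresheafFiber U.unop p G.obj (b.hom.app U x) := by
      have h1 := GrothendieckTopology.Point.toPresheafFiber_naturality_apply Φ.obj a.hom U.unop p x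
      have h2 := GrothendieckTopology.Point.toPresheafFiber_naturality_apply Φ.obj b.hom U.unop p x
      rw [← h1, ← h2, h Φ]
    obtain ⟨Y, g, q, hq, hg⟩ := (Φ.obj.toPresheafFiber_eq_iff' U.unop p _ _).1 e
    exact ⟨Y, g, hg, q, hq⟩
  exact (hsep _ hmem).ext (fun _ _ hf => hf)

end Cons

section Sets

variable {X Y : Scheme.{u}} (f : X ⟶ Y) {Ω : Type u} [Field Ω] [IsSepClosed Ω]
  (ξ : Spec (CommRingCat.of Ω) ⟶ X)

/-- The stalk functor on sheaves of sets at a geometric point. -/
noncomputable abbrev stalkSh {X : Scheme.{u}} {Ω : Type u} [Field Ω] [IsSepClosed Ω]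
    (ξ : Spec (CommRingCat.of Ω) ⟶ X) : EtDesc.Sh X ⥤ Type (u + 1) :=
  (Scheme.pointSmallEtale ξ).sheafFiber (A := Type (u + 1))

/-- Stalk of the inverse image, for sheaves of sets. -/
noncomputable def stalkPullShIso :
    EtDesc.pullSh f ⋙ stalkSh ξ ≅ stalkSh (ξ ≫ f) :=
  ((Scheme.pointSmallEtale ξ).sheafFiberComapIso (EtCoh.bc f) (EtCoh.coverPreserving_bc f)
      (Type (u + 1))).symm ≪≫
    sheafFiberIsoOfIso (comapPointIso f ξ)

lemma stalkSh_map_eq_of_pull_eq {F G : EtDesc.Sh Y} (a b : F ⟶ G)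
    (h : (EtDesc.pullSh f).map a = (EtDesc.pullSh f).map b) :
    (stalkSh (ξ ≫ f)).map a = (stalkSh (ξ ≫ f)).map b := by
  let e := stalkPullShIso f ξ
  have ha := e.hom.naturality a
  have hb := e.hom.naturality b
  rw [← cancel_epi (e.hom.app F), ← ha, ← hb, Functor.comp_map, Functor.comp_map, h]

lemma isIso_stalkSh_map_of_isIso_pull {F G : EtDesc.Sh Y} (a : F ⟶ G)
    [IsIso ((EtDesc.pullSh f).map a)] : IsIso ((stalkSh (ξ ≫ f)).map a) := by
  let e := stalkPullShIso f ξ
  have ha := e.hom.naturality a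
  have h : (stalkSh (ξ ≫ f)).map a =
      e.inv.app F ≫ (EtDesc.pullSh f ⋙ stalkSh ξ).map a ≫ e.hom.app G := by
    rw [ha]
    exact (Iso.inv_hom_id_app_assoc e F _).symm
  rw [h, Functor.comp_map]
  infer_instance

theorem S3047_main {X' X : Scheme.{u}} (f : X' ⟶ X) [Surjective f] :
    (EtDesc.pullSh f).Faithful ∧ (EtDesc.pullSh f).ReflectsIsomorphisms := by
  constructor
  · constructor
    intro F G a b h
    refine sheaf_hom_ext_of_stalks (hPFam (fun x' => geomξ X' x' ≫ f) (iUnion_range_comp f)) a b ?_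
    rintro ⟨_, ⟨x'⟩⟩
    exact stalkSh_map_eq_of_pull_eq f (geomξ X' x') a b h
  · constructor
    intro F G a _
    have hb : ∀ x' : X', Function.Bijective ((stalkSh (geomξ X' x' ≫ f)).map a) := by
      intro x'
      haveI := isIso_stalkSh_map_of_isIso_pull f (geomξ X' x') a
      exact (isIso_iff_bijective _).1 inferInstance
    haveI : Mono a := sh_mono_of_family (fun x' => geomξ X' x' ≫ f) (iUnion_range_comp f) a
      (fun x' => (hb x').1)
    haveI : Epi a := sh_epi_of_family (fun x' => geomξ X' x' ≫ f) (iUnion_range_comp f) a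
      (fun x' => (hb x').2)
    exact isIso_of_mono_of_epi a

end Sets

end Groth.Agent.H7.ST
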