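import Mathlib
import Groth.Prelude.Def_EtBase
import Groth.Prelude.Def_EtCore
import Groth.Prelude.Def_SGA4b
import Groth.Agent.Lib.Helper7.ST5
import Groth.Agent.Lib.Helper7.ST6

/-!
# Helper7: SepCl1 — étale sheaves of sets on the spectrum of a separably closed field
-/

set_option autoImplicit false

open CategoryTheory Limits AlgebraicGeometry Opposite

namespace Groth.Agent.H7.SepCl

universe u

section Sec

variable {X : Scheme.{u}} {Ω : Type u} [Field Ω] [IsSepClosed Ω] (ξ : Spec (CommRingCat.of Ω) ⟶ X)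
  (σ : X ⟶ Spec (CommRingCat.of Ω)) (hσ : σ ≫ ξ = 𝟙 X) (hξ : ξ ≫ σ = 𝟙 _)

/-- the base point of the fibre over the final object, when `ξ` is an isomorphism -/
noncomputable def basePt :
    (Scheme.pointSmallEtale ξ).fiber.obj (EtCoh.top X) :=
  Over.homMk ξ (Category.comp_id _)

include hσ hξ in
/-- every pointed étale neighbourhood receives a map from the final object -/
lemma exists_from_top (U : X.Etale) (p : (Scheme.pointSmallEtale ξ).fiber.obj U) :
    ∃ f : EtCoh.top X ⟶ U, (Scheme.pointSmallEtale ξ).fiber.map f (basePt ξ) = p := by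
  have hp : p.left ≫ U.hom = ξ := Over.w p
  refine ⟨MorphismProperty.Over.homMk (σ ≫ p.left) ?_, ?_⟩
  · change (σ ≫ p.left) ≫ U.hom = 𝟙 X
    rw [Category.assoc, hp, hσ]
  · apply Over.OverMorphism.ext
    change ξ ≫ (σ ≫ p.left) = p.left
    rw [← Category.assoc, hξ, Category.id_comp]

include hσ hξ in
theorem bijective_toPresheafFiber (P : X.Etaleᵒᵖ ⥤ Type (u + 1)) :
    Function.Bijective ((Scheme.pointSmallEtale ξ).toPresheafFiber (EtCoh.top X) (basePt ξ) P) := by
  constructor
  · intro z₁ z₂ h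
    obtain ⟨Y, g, q, hq, hg⟩ :=
      ((Scheme.pointSmallEtale ξ).toPresheafFiber_eq_iff' (P := P) (EtCoh.top X) (basePt ξ) z₁ z₂).1 h
    obtain ⟨f, hf⟩ := exists_from_top ξ σ hσ hξ Y q
    have hfg : f ≫ g = 𝟙 _ := (EtCore.topIsTerminal X).hom_ext _ _
    have h1 : P.map f.op (P.map g.op z₁) = z₁ := by
      have : P.map (f ≫ g).op = 𝟙 _ := by rw [hfg, op_id, P.map_id]
      rw [op_comp, P.map_comp] at this
      exact ConcreteCategory.congr_hom this z₁
    have h2 : P.map f.op (P.map g.op z₂) = z₂ := by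
      have : P.map (f ≫ g).op = 𝟙 _ := by rw [hfg, op_id, P.map_id]
      rw [op_comp, P.map_comp] at this
      exact ConcreteCategory.congr_hom this z₂
    rw [← h1, ← h2, hg]
  · intro p
    obtain ⟨U, u, z, rfl⟩ := (Scheme.pointSmallEtale ξ).toPresheafFiber_jointly_surjective (P := P) p
    obtain ⟨f, hf⟩ := exists_from_top ξ σ hσ hξ U u
    refine ⟨P.map f.op z, ?_⟩
    have hw := (Scheme.pointSmallEtale ξ).toPresheafFiber_w f (basePt ξ) P
    rw [hf] at hw
    exact ConcreteCategory.congr_hom hw z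

end Sec

end Groth.Agent.H7.SepCl

namespace Groth.Agent.H7.SepCl

universe u

section Main

variable {X : Scheme.{u}} {Ω : Type u} [Field Ω] [IsSepClosed Ω] (ξ : Spec (CommRingCat.of Ω) ⟶ X)
  (σ : X ⟶ Spec (CommRingCat.of Ω)) (hσ : σ ≫ ξ = 𝟙 X) (hξ : ξ ≫ σ = 𝟙 _)

/-- global sections of sheaves of sets -/
noncomputable abbrev Γ : EtDesc.Sh X ⥤ Type (u + 1) :=
  (sheafSections X.smallEtaleTopology (Type (u + 1))).obj (op (EtCoh.top X))

include hσ hξ in
theorem bijective_stalk_map_iff {F G : EtDesc.Sh X} (a : F ⟶ G) :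
    Function.Bijective ((Scheme.pointSmallEtale ξ).presheafFiber.map a.hom) ↔
      Function.Bijective (a.hom.app (op (EtCoh.top X))) := by
  have hnat := (Scheme.pointSmallEtale ξ).toPresheafFiber_naturality a.hom (EtCoh.top X) (basePt ξ)
  have hF := bijective_toPresheafFiber ξ σ hσ hξ F.obj
  have hG := bijective_toPresheafFiber ξ σ hσ hξ G.obj
  have hcomp : ((Scheme.pointSmallEtale ξ).presheafFiber.map a.hom) ∘
      ((Scheme.pointSmallEtale ξ).toPresheafFiber (EtCoh.top X) (basePt ξ) F.obj) =
      ((Scheme.pointSmallEtale ξ).toPresheafFiber (EtCoh.top X) (basePt ξ) G.obj) ∘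
        (a.hom.app (op (EtCoh.top X))) := by
    funext z
    exact ConcreteCategory.congr_hom hnat z
  constructor
  · intro h
    have h1 : Function.Bijective (((Scheme.pointSmallEtale ξ).toPresheafFiber (EtCoh.top X)
        (basePt ξ) G.obj) ∘ (a.hom.app (op (EtCoh.top X)))) := by
      rw [← hcomp]; exact h.comp hF
    exact (Function.Bijective.of_comp_iff' hG _).1 h1
  · intro h
    have h1 : Function.Bijective (((Scheme.pointSmallEtale ξ).presheafFiber.map a.hom) ∘
        ((Scheme.pointSmallEtale ξ).toPresheafFiber (EtCoh.top X) (basePt ξ) F.obj)) := by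
      rw [hcomp]; exact hG.comp h
    exact (Function.Bijective.of_comp_iff _ hF).1 h1

include hσ hξ in
theorem Γ_reflects_iso {F G : EtDesc.Sh X} (a : F ⟶ G) (h : IsIso ((Γ (X := X)).map a)) :
    IsIso a := by
  have hb : Function.Bijective (a.hom.app (op (EtCoh.top X))) :=
    (isIso_iff_bijective _).1 h
  have hs := (bijective_stalk_map_iff ξ σ hσ hξ a).2 hb
  have hcov : ⋃ _ : PUnit.{u + 1}, Set.range ξ.base = Set.univ := by
    ext x
    simp only [Set.mem_iUnion, Set.mem_range, Set.mem_univ, iff_true]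
    refine ⟨PUnit.unit, σ.base x, ?_⟩
    rw [← Scheme.Hom.comp_apply, hσ]; rfl
  haveI : Mono a := ST.sh_mono_of_family (ι := PUnit.{u + 1}) (Ω := fun _ => Ω) (fun _ => ξ) hcov a
    (fun _ => hs.1)
  haveI : Epi a := ST.sh_epi_of_family (ι := PUnit.{u + 1}) (Ω := fun _ => Ω) (fun _ => ξ) hcov a
    (fun _ => hs.2)
  exact isIso_of_mono_of_epi a

include hσ hξ in
theorem bijective_toSheafify_app_top (P : X.Etaleᵒᵖ ⥤ Type (u + 1)) :
    Function.Bijective ((toSheafify X.smallEtaleTopology P).app (op (EtCoh.top X))) := by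
  let Φ := Scheme.pointSmallEtale ξ
  have hnat := Φ.toPresheafFiber_naturality (toSheafify X.smallEtaleTopology P) (EtCoh.top X)
    (basePt ξ)
  have hP := bijective_toPresheafFiber ξ σ hσ hξ P
  have hS := bijective_toPresheafFiber ξ σ hσ hξ (sheafify X.smallEtaleTopology P)
  have hm : Function.Bijective (Φ.presheafFiber.map (toSheafify X.smallEtaleTopology P)) :=
    Φ.toPresheafFiber_map_bijective _
  have hcomp : (Φ.presheafFiber.map (toSheafify X.smallEtaleTopology P)) ∘
      (Φ.toPresheafFiber (EtCoh.top X) (basePt ξ) P) =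
      (Φ.toPresheafFiber (EtCoh.top X) (basePt ξ) (sheafify X.smallEtaleTopology P)) ∘
        ((toSheafify X.smallEtaleTopology P).app (op (EtCoh.top X))) := by
    funext z
    exact ConcreteCategory.congr_hom hnat z
  have h1 : Function.Bijective ((Φ.toPresheafFiber (EtCoh.top X) (basePt ξ)
      (sheafify X.smallEtaleTopology P)) ∘
        ((toSheafify X.smallEtaleTopology P).app (op (EtCoh.top X)))) := by
    rw [← hcomp]; exact hm.comp hP
  exact (Function.Bijective.of_comp_iff' hS _).1 h1

/-- the constant sheaf adjunction -/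
noncomputable abbrev constAdj :
    constantSheaf X.smallEtaleTopology (Type (u + 1)) ⊣ Γ (X := X) :=
  constantSheafAdj X.smallEtaleTopology (Type (u + 1)) (EtCore.topIsTerminal X)

include hσ hξ in
theorem isIso_unit (S : Type (u + 1)) : IsIso ((constAdj (X := X)).unit.app S) := by
  have h1 : (constAdj (X := X)).unit.app S =
      (constantPresheafAdj (Type (u + 1)) (EtCore.topIsTerminal X)).unit.app S ≫
        (toSheafify X.smallEtaleTopology ((Functor.const _).obj S)).app (op (EtCoh.top X)) := rfl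
  rw [h1]
  have i2 : IsIso ((toSheafify X.smallEtaleTopology
      ((Functor.const X.Etaleᵒᵖ).obj S)).app (op (EtCoh.top X))) :=
    (isIso_iff_bijective _).2 (bijective_toSheafify_app_top ξ σ hσ hξ _)
  have i1 : IsIso ((constantPresheafAdj (Type (u + 1)) (EtCore.topIsTerminal X)).unit.app S) := by
    rw [constantPresheafAdj_unit_app]
    exact IsIso.id _
  exact @IsIso.comp_isIso _ _ _ _ _ _ _ i1 i2

include hσ hξ in
theorem isEquivalence_Γ : (Γ (X := X)).IsEquivalence := by
  haveI : ∀ S, IsIso ((constAdj (X := X)).unit.app S) := isIso_unit ξ σ hσ hξ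
  haveI : ∀ F, IsIso ((constAdj (X := X)).counit.app F) := fun F => by
    apply Γ_reflects_iso ξ σ hσ hξ
    have ht := (constAdj (X := X)).right_triangle_components F
    exact IsIso.of_isIso_fac_left ht
  exact (constAdj (X := X)).toEquivalence.isEquivalence_inverse

end Main

theorem S3055_main (k : Type u) [Field k] [IsSepClosed k] :
    ((sheafSections (Spec (CommRingCat.of k)).smallEtaleTopology (Type (u + 1))).obj
      (op (EtCoh.top (Spec (CommRingCat.of k))))).IsEquivalence :=
  isEquivalence_Γ (𝟙 _) (𝟙 _) (Category.id_comp _) (Category.id_comp _)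

end Groth.Agent.H7.SepCl
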