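import Mathlib
import Groth.Prelude.Def_EtBase
import Groth.Prelude.Def_EtCore
import Groth.Prelude.Def_SGA4b
import Groth.Agent.Lib.Helper7.SepCl1

/-!
# Helper7: SepCl2 — inverse image between spectra of separably closed fields
-/

set_option autoImplicit false

open CategoryTheory Limits AlgebraicGeometry Opposite

namespace Groth.Agent.H7.SepCl

universe u

section Sec

variable {X : Scheme.{u}} {Ω : Type u} [Field Ω] [IsSepClosed Ω] (ξ : Spec (CommRingCat.of Ω) ⟶ X)
  (σ : X ⟶ Spec (CommRingCat.of Ω)) (hσ : σ ≫ ξ = 𝟙 X) (hξ : ξ ≫ σ = 𝟙 _)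
  {Ω' : Type u} [Field Ω'] [IsSepClosed Ω'] (ζ : Spec (CommRingCat.of Ω') ⟶ X)

include hσ hξ in
lemma exists_from_top' (U : X.Etale) (p : (Scheme.pointSmallEtale ζ).fiber.obj U) :
    ∃ f : EtCoh.top X ⟶ U, (Scheme.pointSmallEtale ζ).fiber.map f (basePt ζ) = p := by
  haveI : Etale U.hom := U.prop
  let UL : Scheme.{u} := U.left
  let uh : UL ⟶ X := U.hom
  haveI : Etale uh := U.prop
  let pl : Spec (CommRingCat.of Ω') ⟶ UL := p.left
  have hp : pl ≫ uh = ζ := Over.w p
  let d' : Spec (CommRingCat.of Ω') := default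
  let d : Spec (CommRingCat.of Ω) := default
  let x : UL := pl.base d'
  have hsub : ∀ a b : X, a = b := by
    intro a b
    have ha : ξ.base (σ.base a) = a := by rw [← Scheme.Hom.comp_apply, hσ]; rfl
    have hb : ξ.base (σ.base b) = b := by rw [← Scheme.Hom.comp_apply, hσ]; rfl
    rw [← ha, ← hb, Subsingleton.elim (σ.base a) (σ.base b)]
  have hx0 : uh.base x = ξ.base d := hsub _ _
  obtain ⟨l, hl1, hl2⟩ := Scheme.exists_fac_of_etale_of_isSepClosed uh ξ x hx0
  let m : X ⟶ UL := σ ≫ l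
  have hm : m ≫ uh = 𝟙 X := by
    change (σ ≫ l) ≫ uh = 𝟙 X
    rw [Category.assoc, hl1, hσ]
  haveI : Etale (m ≫ uh) := by rw [hm]; infer_instance
  haveI : Etale m := Etale.of_comp m uh
  haveI : Mono m := (SplitMono.mk uh hm).mono
  haveI : IsOpenImmersion m := IsOpenImmersion.of_flat_of_mono m
  have hx : x ∈ Set.range m.base := by
    refine ⟨ξ.base d, ?_⟩
    change (σ ≫ l).base _ = x
    rw [Scheme.Hom.comp_apply, ← hl2]
    congr 1
    exact Subsingleton.elim _ _
  have hr : Set.range pl.base ⊆ Set.range m.base := by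
    rintro _ ⟨a, rfl⟩
    have : a = d' := Subsingleton.elim _ _
    rw [this]
    exact hx
  let t : Spec (CommRingCat.of Ω') ⟶ X := IsOpenImmersion.lift m pl hr
  have ht : t ≫ m = pl := IsOpenImmersion.lift_fac m pl hr
  have ht2 : t = ζ := by
    have h1 : (t ≫ m) ≫ uh = ζ := (congrArg (fun z => z ≫ uh) ht).trans hp
    have h2 : (t ≫ m) ≫ uh = t := by
      rw [Category.assoc, hm, Category.comp_id]
    exact h2.symm.trans h1
  refine ⟨MorphismProperty.Over.homMk m (hm.trans (by rfl)), ?_⟩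
  apply Over.OverMorphism.ext
  change ζ ≫ m = pl
  exact (congrArg (fun z => z ≫ m) ht2.symm).trans ht

include hσ hξ in
theorem bijective_toPresheafFiber' (P : X.Etaleᵒᵖ ⥤ Type (u + 1)) :
    Function.Bijective ((Scheme.pointSmallEtale ζ).toPresheafFiber (EtCoh.top X) (basePt ζ) P) := by
  constructor
  · intro z₁ z₂ h
    obtain ⟨Y, g, q, hq, hg⟩ :=
      ((Scheme.pointSmallEtale ζ).toPresheafFiber_eq_iff' (P := P) (EtCoh.top X) (basePt ζ)
        z₁ z₂).1 h
    obtain ⟨f, hf⟩ := exists_from_top' ξ σ hσ hξ ζ Y q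
    have hfg : f ≫ g = 𝟙 _ := (EtCore.topIsTerminal X).hom_ext _ _
    have h1 : P.map f.op (P.map g.op z₁) = z₁ := by
      have : P.map (f ≫ g).op = 𝟙 _ := by rw [hfg, op_id, P.map_id]
      rw [op_comp, P.map_comp] at this
      exact ConcreteCategory.congr_hom this z₁
    have h2 : P.map f.op (P.map g.op z₂) = z₂ := by
      have : P.map (f ≫ g).op = 𝟙 _ := by rw [hfg, op_id, P.map_id]
      rw [op_comp, P.map_comp] at this
      exact ConcreteCategory.congr_hom this z₂
    rw [← h1, ← h2, hg]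
  · intro p
    obtain ⟨U, u, z, rfl⟩ :=
      (Scheme.pointSmallEtale ζ).toPresheafFiber_jointly_surjective (P := P) p
    obtain ⟨f, hf⟩ := exists_from_top' ξ σ hσ hξ ζ U u
    refine ⟨P.map f.op z, ?_⟩
    have hw := (Scheme.pointSmallEtale ζ).toPresheafFiber_w f (basePt ζ) P
    rw [hf] at hw
    exact ConcreteCategory.congr_hom hw z

include hσ hξ in
/-- global sections are the stalk at any geometric point -/
theorem nonempty_Γ_iso_stalk : Nonempty (Γ (X := X) ≅ ST.stalkSh ζ) := by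
  let α : Γ (X := X) ⟶ ST.stalkSh ζ :=
    Functor.whiskerLeft (sheafToPresheaf X.smallEtaleTopology (Type (u + 1)))
      ((Scheme.pointSmallEtale ζ).toPresheafFiberNatTrans (A := Type (u + 1)) (EtCoh.top X)
        (basePt ζ))
  haveI : ∀ F, IsIso (α.app F) := fun F =>
    (isIso_iff_bijective _).2 (bijective_toPresheafFiber' ξ σ hσ hξ ζ F.obj)
  haveI : IsIso α := NatIso.isIso_of_isIso_app α
  exact ⟨asIso α⟩

end Sec

theorem S5592_main (k k' : Type u) [Field k] [IsSepClosed k]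
    [Field k'] [IsSepClosed k'] [Algebra k k'] :
    (EtDesc.pullSh (Spec.map (CommRingCat.ofHom (algebraMap k k')))).IsEquivalence := by
  let u : Spec (CommRingCat.of k') ⟶ Spec (CommRingCat.of k) :=
    Spec.map (CommRingCat.ofHom (algebraMap k k'))
  obtain ⟨e1⟩ := nonempty_Γ_iso_stalk (X := Spec (CommRingCat.of k')) (𝟙 _) (𝟙 _)
    (Category.id_comp _) (Category.id_comp _) (𝟙 (Spec (CommRingCat.of k')))
  obtain ⟨e2⟩ := nonempty_Γ_iso_stalk (X := Spec (CommRingCat.of k)) (𝟙 _) (𝟙 _)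
    (Category.id_comp _) (Category.id_comp _) (𝟙 (Spec (CommRingCat.of k')) ≫ u)
  let e3 := ST.stalkPullShIso u (𝟙 (Spec (CommRingCat.of k')))
  let e : EtDesc.pullSh u ⋙ Γ (X := Spec (CommRingCat.of k')) ≅ Γ (X := Spec (CommRingCat.of k)) :=
    Functor.isoWhiskerLeft (EtDesc.pullSh u) e1 ≪≫ e3 ≪≫ e2.symm
  haveI : (Γ (X := Spec (CommRingCat.of k'))).IsEquivalence := S3055_main k'
  haveI : (Γ (X := Spec (CommRingCat.of k))).IsEquivalence := S3055_main k
  haveI : (EtDesc.pullSh u ⋙ Γ (X := Spec (CommRingCat.of k'))).IsEquivalence :=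
    Functor.isEquivalence_of_iso e.symm
  exact Functor.isEquivalence_of_comp_right (EtDesc.pullSh u) (Γ (X := Spec (CommRingCat.of k')))

end Groth.Agent.H7.SepCl
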