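import Mathlib

/-!
# Helper7: CI1 — lifting standard étale algebras along a surjection of rings
-/

set_option autoImplicit false

open Polynomial TensorProduct

namespace Groth.Agent.H7.CI

universe u

/-- Two standard étale pairs whose universal elements satisfy each other's conditions have
isomorphic rings. -/
theorem nonempty_algEquiv_of_hasMap {R : Type*} [CommRing R] (P Q : StandardEtalePair R)
    (h1 : P.HasMap Q.X) (h2 : Q.HasMap P.X) : Nonempty (P.Ring ≃ₐ[R] Q.Ring) :=
  ⟨AlgEquiv.ofAlgHom (P.lift Q.X h1) (Q.lift P.X h2) (Q.hom_ext (by simp)) (P.hom_ext (by simp))⟩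

/-- A standard étale algebra over a quotient `A₀` of `A` lifts to a standard étale algebra over `A`. -/
theorem exists_lift_standardEtale {A A₀ B₀ : Type u} [CommRing A] [CommRing A₀] [CommRing B₀]
    [Algebra A A₀] [Algebra A₀ B₀] (hsurj : Function.Surjective (algebraMap A A₀))
    [Algebra.IsStandardEtale A₀ B₀] :
    ∃ P : StandardEtalePair A, Nonempty (A₀ ⊗[A] P.Ring ≃ₐ[A₀] B₀) := by
  classical
  let P₀ : StandardEtalePresentation A₀ B₀ :=
    Algebra.IsStandardEtale.nonempty_standardEtalePresentation.some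
  obtain ⟨f, hf, -, hfm⟩ := lifts_and_natDegree_eq_and_monic
    ((mem_lifts _).mpr (map_surjective _ hsurj P₀.f)) P₀.monic_f
  obtain ⟨g, hg⟩ := map_surjective _ hsurj P₀.g
  let P : StandardEtalePair A := ⟨f, hfm, g * derivative f, ⟨g, 0, 1, by ring⟩⟩
  let Q : StandardEtalePair A₀ := P.map (algebraMap A A₀)
  have hQf : Q.f = P₀.f := hf
  have hQg : Q.g = P₀.g * derivative P₀.f := by
    change (g * derivative f).map _ = _
    rw [Polynomial.map_mul, hg, ← derivative_map, hf]
  let PP : StandardEtalePresentation A P.Ring :=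
    ⟨P, P.X, P.hasMap_X, by simpa [StandardEtalePair.lift_X_left] using Function.bijective_id⟩
  let e1 : A₀ ⊗[A] P.Ring ≃ₐ[A₀] Q.Ring := PP.baseChange.equivRing
  have h1 : Q.HasMap P₀.P.X := by
    refine ⟨?_, ?_⟩
    · rw [hQf]; exact P₀.P.hasMap_X.1
    · rw [hQg, map_mul]
      exact P₀.P.hasMap_X.2.mul P₀.P.hasMap_X.isUnit_derivative_f
  have h2 : P₀.P.HasMap Q.X := by
    refine ⟨?_, ?_⟩
    · rw [← hQf]; exact Q.hasMap_X.1
    · have := Q.hasMap_X.2
      rw [hQg, map_mul] at this
      exact isUnit_of_mul_isUnit_left this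
  obtain ⟨e2⟩ := nonempty_algEquiv_of_hasMap Q P₀.P h1 h2
  exact ⟨P, ⟨(e1.trans e2).trans P₀.equivRing.symm⟩⟩

end Groth.Agent.H7.CI
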