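import Mathlib
import Groth.Agent.Lib.Helper7.CI1

/-!
# Helper7: CI2 — affine-local lifting of étale algebras over a quotient, as a pushout square
-/

set_option autoImplicit false

open CategoryTheory Limits TensorProduct

namespace Groth.Agent.H7.CI

universe u

/-- Affine-local lifting: for an étale `A/I`-algebra `B` and a prime `Q` of `B` there are `g ∉ Q` and
an étale `A`-algebra `P` whose base change to `A/I` is `B[1/g]`. -/
theorem exists_isPushout_of_etale {A : CommRingCat.{u}} (I : Ideal A) {B : CommRingCat.{u}}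
    (ψ : CommRingCat.of (A ⧸ I) ⟶ B) (hψ : ψ.hom.Etale) (Q : Ideal B) [Q.IsPrime] :
    ∃ (g : B) (P : CommRingCat.{u}) (α : A ⟶ P) (β : P ⟶ CommRingCat.of (Localization.Away g)),
      g ∉ Q ∧ α.hom.Etale ∧
      IsPushout (CommRingCat.ofHom (Ideal.Quotient.mk I)) α
        (ψ ≫ CommRingCat.ofHom (algebraMap B (Localization.Away g))) β := by
  letI : Algebra (A ⧸ I) B := ψ.hom.toAlgebra
  haveI : Algebra.Etale (A ⧸ I) B := hψ
  obtain ⟨g, hgQ, hg⟩ := Algebra.IsEtaleAt.exists_isStandardEtale (R := A ⧸ I) Q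
  obtain ⟨P, ⟨e⟩⟩ := exists_lift_standardEtale (A := A) (A₀ := A ⧸ I)
    (B₀ := Localization.Away g) Ideal.Quotient.mk_surjective
  have h0 := CommRingCat.isPushout_tensorProduct A (A ⧸ I) P.Ring
  refine ⟨g, CommRingCat.of P.Ring, CommRingCat.ofHom (algebraMap A P.Ring),
    CommRingCat.ofHom ((e.toAlgHom.toRingHom).comp
      (Algebra.TensorProduct.includeRight (R := A) (A := A ⧸ I) (B := P.Ring)).toRingHom), hgQ, ?_, ?_⟩
  · exact RingHom.etale_algebraMap.mpr (inferInstance : Algebra.Etale A P.Ring)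
  · refine h0.of_iso (Iso.refl _) (Iso.refl _) (Iso.refl _) e.toRingEquiv.toCommRingCatIso ?_ ?_ ?_ ?_
    · simp
    · simp
    · ext x
      simp
      have h1 : e (Ideal.Quotient.mk I x ⊗ₜ[A] 1) =
          algebraMap (A ⧸ I) (Localization.Away g) (Ideal.Quotient.mk I x) := by
        rw [← e.commutes]; rfl
      rw [h1, IsScalarTower.algebraMap_apply (A ⧸ I) B (Localization.Away g)]
      rfl
    · ext x
      simp

end Groth.Agent.H7.CI
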