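import Mathlib
import Groth.Agent.Lib.Helper7.CI2

/-!
# Helper7: CI3 — étale schemes over a closed subscheme lift locally
-/

set_option autoImplicit false

open CategoryTheory Limits AlgebraicGeometry

namespace Groth.Agent.H7.CI

universe u

theorem exists_lift_of_charts {X Y U : Scheme.{u}} (f : X ⟶ Y) (p : U ⟶ X)
    {A A₀ B' P : CommRingCat.{u}} (φ : A ⟶ A₀) (α : A ⟶ P) (ψ' : A₀ ⟶ B') (β : P ⟶ B')
    (hpo : IsPushout φ α ψ' β) (hα : α.hom.Etale)
    (jY : Spec A ⟶ Y) [IsOpenImmersion jY] (jX : Spec A₀ ⟶ X)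
    (hX : IsPullback jX (Spec.map φ) f jY)
    (jU : Spec B' ⟶ U) [IsOpenImmersion jU] (hU : jU ≫ p = Spec.map ψ' ≫ jX) (u : U)
    (hu : u ∈ Set.range jU.base) :
    ∃ (V : Scheme.{u}) (q : V ⟶ Y) (_ : Etale q) (h : pullback q f ⟶ U),
      h ≫ p = pullback.snd q f ∧ IsOpenImmersion h ∧ u ∈ Set.range h.base := by
  haveI : Etale (Spec.map α) := (HasRingHomProperty.Spec_iff (P := @Etale)).mpr hα
  have h1 : IsPullback (Spec.map ψ') (Spec.map β) (Spec.map φ) (Spec.map α) :=
    isPullback_SpecMap_of_isPushout φ α ψ' β hpo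
  have h2 : IsPullback (Spec.map β) (Spec.map ψ' ≫ jX) (Spec.map α ≫ jY) f :=
    (h1.paste_horiz hX).flip
  refine ⟨Spec P, Spec.map α ≫ jY, inferInstance, h2.isoPullback.inv ≫ jU, ?_, inferInstance, ?_⟩
  · rw [Category.assoc, hU, Iso.inv_comp_eq]
    simp
  · obtain ⟨w, rfl⟩ := hu
    refine ⟨h2.isoPullback.hom.base w, ?_⟩
    rw [← Scheme.Hom.comp_apply]
    simp


/-- Étale schemes over a closed subscheme lift locally to étale schemes over the ambient scheme. -/
theorem exists_etale_lift {X Y U : Scheme.{u}} (f : X ⟶ Y) [IsClosedImmersion f] (p : U ⟶ X)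
    [Etale p] (u : U) :
    ∃ (V : Scheme.{u}) (q : V ⟶ Y) (_ : Etale q) (h : pullback q f ⟶ U),
      h ≫ p = pullback.snd q f ∧ IsOpenImmersion h ∧ u ∈ Set.range h.base := by
  let 𝒰 := Y.affineOpenCover
  let y : Y := f.base (p.base u)
  obtain ⟨y', hy'⟩ := 𝒰.covers y
  let A : CommRingCat := 𝒰.X (𝒰.idx y)
  let jY : Spec A ⟶ Y := 𝒰.f (𝒰.idx y)
  obtain ⟨I, e, he⟩ := IsClosedImmersion.Spec_iff.mp
    (inferInstance : IsClosedImmersion (pullback.snd f jY))
  let jX : Spec (.of (A ⧸ I)) ⟶ X := e.inv ≫ pullback.fst f jY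
  have hX : IsPullback jX (Spec.map (CommRingCat.ofHom (Ideal.Quotient.mk I))) f jY := by
    refine IsPullback.of_iso (IsPullback.of_hasPullback f jY) e (Iso.refl _) (Iso.refl _)
      (Iso.refl _) ?_ ?_ ?_ ?_ <;> simp [jX, he]
  obtain ⟨x₀, hx₀, -⟩ := Scheme.Pullback.exists_preimage_pullback (f := f) (g := jY) (p.base u) y' hy'.symm
  have hx' : jX.base (e.hom.base x₀) = p.base u := by
    rw [← Scheme.Hom.comp_apply]
    simp [jX, hx₀]
  obtain ⟨u', hu', -⟩ := Scheme.Pullback.exists_preimage_pullback (f := p) (g := jX) u _ hx'.symm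
  let 𝒱 := (pullback p jX).affineOpenCover
  obtain ⟨u'', hu''⟩ := 𝒱.covers u'
  let B : CommRingCat := 𝒱.X (𝒱.idx u')
  let jB : Spec B ⟶ pullback p jX := 𝒱.f (𝒱.idx u')
  let r : Spec B ⟶ Spec (.of (A ⧸ I)) := jB ≫ pullback.snd p jX
  haveI : Etale r := inferInstance
  let ψ : CommRingCat.of (A ⧸ I) ⟶ B := Spec.preimage r
  have hψr : Spec.map ψ = r := Spec.map_preimage r
  have hψ : ψ.hom.Etale := (HasRingHomProperty.Spec_iff (P := @Etale)).mp (hψr ▸ inferInstance)
  obtain ⟨g, P, α, β, hgQ, hα, hpo⟩ := exists_isPushout_of_etale I ψ hψ u''.asIdeal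
  let jU : Spec (.of (Localization.Away g)) ⟶ U :=
    Spec.map (CommRingCat.ofHom (algebraMap B (Localization.Away g))) ≫ jB ≫ pullback.fst p jX
  refine exists_lift_of_charts f p _ α _ β hpo hα jY jX hX jU ?_ u ?_
  · simp only [jU, Category.assoc, pullback.condition, Spec.map_comp, hψr, r]
  · have hmem : u'' ∈ Set.range (Spec.map (CommRingCat.ofHom
        (algebraMap B (Localization.Away g)))).base := by
      have := PrimeSpectrum.localization_away_comap_range (Localization.Away g) g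
      change u'' ∈ Set.range (PrimeSpectrum.comap (algebraMap B (Localization.Away g)))
      rw [this]
      exact hgQ
    obtain ⟨w, hw⟩ := hmem
    refine ⟨w, ?_⟩
    simp only [jU, Scheme.Hom.comp_apply]
    rw [hw, hu'', hu']

end Groth.Agent.H7.CI
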