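import Mathlib
import Groth.Prelude.Def_EtBase
import Groth.Agent.Lib.Helper7.CI3
import Groth.Agent.Lib.Helper7.ES12

/-!
# Helper7: CI5 — base change along a closed immersion: cover-dense and locally faithful
-/

set_option autoImplicit false

open CategoryTheory Limits AlgebraicGeometry

namespace Groth.Agent.H7.CI

universe u

theorem functorPushforward_mem_of_isIso {C D : Type*} [Category C] [Category D] (G : C ⥤ D)
    (K : GrothendieckTopology D) {U : C} (S : Sieve U) {W : C} (g : W ⟶ U) (hg : S g)
    [IsIso (G.map g)] : S.functorPushforward G ∈ K (G.obj U) := by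
  have : S.functorPushforward G = ⊤ := by
    rw [← Sieve.id_mem_iff_eq_top]
    exact ⟨W, g, inv (G.map g), hg, by simp⟩
  rw [this]; exact K.top_mem _

instance isLocallyFaithful_bc {Z X : Scheme.{u}} (i : Z ⟶ X) :
    (EtCoh.bc i).IsLocallyFaithful Z.smallEtaleTopology where
  functorPushforward_equalizer_mem {U V} f₁ f₂ h := by
    have hl := isLimitForkMapOfIsLimit (EtCoh.bc i) (equalizer.condition f₁ f₂)
      (equalizerIsEqualizer f₁ f₂)
    haveI : IsIso ((EtCoh.bc i).map (equalizer.ι f₁ f₂)) :=
      isIso_limit_cone_parallelPair_of_eq h hl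
    exact functorPushforward_mem_of_isIso _ _ _ (equalizer.ι f₁ f₂) (equalizer.condition f₁ f₂)

instance isCoverDense_bc {Z X : Scheme.{u}} (i : Z ⟶ X) [IsClosedImmersion i] :
    (EtCoh.bc i).IsCoverDense Z.smallEtaleTopology where
  is_cover U := by
    refine ES.sieve_mem_of_jointly_surjective _ (fun x => ?_)
    haveI : Etale U.hom := U.prop
    obtain ⟨V, q, hq, h, h1, h2, y, hy⟩ := exists_etale_lift i U.hom x
    let Vx : X.Etale := Scheme.Etale.mk q
    let m : (EtCoh.bc i).obj Vx ⟶ U := MorphismProperty.Over.homMk h h1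
    exact ⟨(EtCoh.bc i).obj Vx, m, y, Presieve.in_coverByImage _ m, hy⟩

end Groth.Agent.H7.CI
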