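import Mathlib
import Groth.Prelude.Def_EtBase
import Groth.Agent.Lib.Helper7.CI5

/-!
# Helper7: CI6 — base change along a closed immersion is locally full
-/

set_option autoImplicit false

open CategoryTheory Limits AlgebraicGeometry

namespace Groth.Agent.H7.CI

universe u

section

variable {Z X : Scheme.{u}} (i : Z ⟶ X)

lemma bc_map_left_fst {A B : X.Etale} (g : A ⟶ B) :
    ((EtCoh.bc i).map g).left ≫ pullback.fst B.hom i = pullback.fst A.hom i ≫ g.left :=
  pullback.lift_fst _ _ _

lemma bc_map_left_snd {A B : X.Etale} (g : A ⟶ B) :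
    ((EtCoh.bc i).map g).left ≫ pullback.snd B.hom i = pullback.snd A.hom i :=
  pullback.lift_snd _ _ _

/-- The base-change square of a morphism of étale schemes is cartesian. -/
lemma bc_map_isPullback {A B : X.Etale} (g : A ⟶ B) :
    IsPullback ((EtCoh.bc i).map g).left (pullback.fst A.hom i) (pullback.fst B.hom i) g.left := by
  have hA : A.hom = g.left ≫ B.hom := (MorphismProperty.Over.w g).symm
  have outer : IsPullback (((EtCoh.bc i).map g).left ≫ pullback.snd B.hom i) (pullback.fst A.hom i)
      i (g.left ≫ B.hom) := by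
    rw [bc_map_left_snd, ← hA]
    exact (IsPullback.of_hasPullback A.hom i).flip
  exact IsPullback.of_right outer (bc_map_left_fst i g) (IsPullback.of_hasPullback B.hom i).flip

end

/-- Two open immersions in the small étale site with the same range are isomorphic. -/
theorem exists_iso_of_range_eq {Z : Scheme.{u}} {A B P : Z.Etale} (γ : A ⟶ P) (w : B ⟶ P)
    [IsOpenImmersion γ.left] [IsOpenImmersion w.left]
    (hr : Set.range γ.left.base = Set.range w.left.base) :
    ∃ θ : A ⟶ B, IsIso θ ∧ θ ≫ w = γ := by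
  let θ0 := IsOpenImmersion.isoOfRangeEq γ.left w.left hr
  have h0 : θ0.hom ≫ w.left = γ.left := IsOpenImmersion.isoOfRangeEq_hom_fac _ _ hr
  let θ : A ⟶ B := MorphismProperty.Over.homMk θ0.hom (by
    rw [← MorphismProperty.Over.w w, ← Category.assoc, h0, MorphismProperty.Over.w γ])
  refine ⟨θ, ?_, ?_⟩
  · haveI : IsIso ((Scheme.Etale.forget Z ⋙ Over.forget Z).map θ) :=
      (inferInstance : IsIso θ0.hom)
    exact isIso_of_reflects_iso θ (Scheme.Etale.forget Z ⋙ Over.forget Z)
  · exact MorphismProperty.Over.Hom.ext h0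

theorem exists_lift_hom {Z X : Scheme.{u}} (i : Z ⟶ X) [IsClosedImmersion i] (U U' : X.Etale)
    (h : (EtCoh.bc i).obj U ⟶ (EtCoh.bc i).obj U') :
    ∃ (W : X.Etale) (a : W ⟶ U) (b : W ⟶ U'), IsIso ((EtCoh.bc i).map a) ∧
      (EtCoh.bc i).map a ≫ h = (EtCoh.bc i).map b := by
  let G := EtCoh.bc i
  let P : X.Etale := U ⨯ U'
  let γ : G.obj U ⟶ G.obj P := prod.lift (𝟙 _) h ≫ (PreservesLimitPair.iso G U U').inv
  have hγ1 : γ ≫ G.map prod.fst = 𝟙 _ := by
    change (prod.lift (𝟙 _) h ≫ (PreservesLimitPair.iso G U U').inv) ≫ G.map prod.fst = 𝟙 _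
    rw [Category.assoc, PreservesLimitPair.iso_inv_fst, prod.lift_fst]
  have hγ2 : γ ≫ G.map prod.snd = h := by
    change (prod.lift (𝟙 _) h ≫ (PreservesLimitPair.iso G U U').inv) ≫ G.map prod.snd = h
    rw [Category.assoc, PreservesLimitPair.iso_inv_snd, prod.lift_snd]
  -- γ.left is an open immersion
  haveI : Mono γ.left := by
    have : γ.left ≫ (G.map prod.fst).left = 𝟙 _ := congrArg (fun t => t.left) hγ1
    exact mono_of_mono_fac this
  haveI : IsOpenImmersion γ.left := IsOpenImmersion.of_flat_of_mono γ.left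
  -- the closed immersion c
  let c : (G.obj P).left ⟶ P.left := pullback.fst P.hom i
  haveI : IsClosedImmersion c :=
    MorphismProperty.pullback_fst (P := @IsClosedImmersion) _ _ inferInstance
  let O : Set (G.obj P).left := Set.range γ.left.base
  have hO : IsOpen O := IsOpenImmersion.isOpen_range γ.left
  let W' : P.left.Opens := ⟨(c.base '' Oᶜ)ᶜ,
    (c.isClosedEmbedding.isClosedMap _ hO.isClosed_compl).isOpen_compl⟩
  let W : X.Etale := Scheme.Etale.mk (W'.ι ≫ P.hom)
  let w : W ⟶ P := MorphismProperty.Over.homMk W'.ι rfl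
  have hpb := bc_map_isPullback i w
  haveI : IsOpenImmersion (G.map w).left :=
    MorphismProperty.of_isPullback (P := @IsOpenImmersion) hpb.flip (inferInstance : IsOpenImmersion W'.ι)
  have hr : Set.range γ.left.base = Set.range (G.map w).left.base := by
    have h1 := Scheme.image_preimage_eq_of_isPullback hpb.flip Set.univ
    rw [Set.preimage_univ, Set.image_univ, Set.image_univ] at h1
    rw [h1]
    have h2 : Set.range w.left.base = (W' : Set P.left) := by
      change Set.range W'.ι.base = _
      exact Scheme.Opens.range_ι W'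
    rw [h2]
    change O = c.base ⁻¹' (c.base '' Oᶜ)ᶜ
    rw [Set.preimage_compl, Set.preimage_image_eq _ c.isClosedEmbedding.injective, compl_compl]
  obtain ⟨θ, hθ, hθw⟩ := exists_iso_of_range_eq γ (G.map w) hr
  refine ⟨W, w ≫ prod.fst, w ≫ prod.snd, ?_, ?_⟩
  · have : θ ≫ G.map (w ≫ prod.fst) = 𝟙 _ := by
      rw [G.map_comp, ← Category.assoc, hθw, hγ1]
    have h2 : G.map (w ≫ prod.fst) = inv θ := by
      rw [← cancel_epi θ, this, IsIso.hom_inv_id]
    rw [h2]; infer_instance
  · rw [← cancel_epi θ, G.map_comp, G.map_comp, ← Category.assoc, ← Category.assoc, ← Category.assoc,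
      hθw, hγ1, hγ2, Category.id_comp]

end Groth.Agent.H7.CI
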