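import Mathlib
import Groth.Prelude.Def_EtBase
import Groth.Agent.Lib.Helper7.CI6

/-!
# Helper7: CI7 — pushforward along a closed immersion is fully faithful (dense subsite argument)
-/

set_option autoImplicit false

open CategoryTheory Limits AlgebraicGeometry Opposite

namespace Groth.Agent.H7.CI

universe u

instance isLocallyFull_bc {Z X : Scheme.{u}} (i : Z ⟶ X) [IsClosedImmersion i] :
    (EtCoh.bc i).IsLocallyFull Z.smallEtaleTopology where
  functorPushforward_imageSieve_mem {U V} f := by
    obtain ⟨W, a, b, ha, hab⟩ := exists_lift_hom i U V f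
    exact functorPushforward_mem_of_isIso _ _ _ a ⟨b, hab.symm⟩

section

variable {Z X : Scheme.{u}} (i : Z ⟶ X) [IsClosedImmersion i]

/-- the topology on `X.Etale` induced from `Z.Etale` along base change -/
noncomputable abbrev indTop : GrothendieckTopology X.Etale :=
  (EtCoh.bc i).inducedTopology Z.smallEtaleTopology

instance : (EtCoh.bc i).IsDenseSubsite (indTop i) Z.smallEtaleTopology := inferInstance

instance hasLimitsStructuredArrow (V : Z.Etaleᵒᵖ) :
    HasLimitsOfShape (StructuredArrow V (EtCoh.bc i).op) AddCommGrpCat.{u + 1} := by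
  haveI : HasLimitsOfSize.{u, u + 1} AddCommGrpCat.{u + 1} :=
    hasLimitsOfSizeShrink.{u, u + 1, u + 1, u + 1} _
  infer_instance

/-- pushforward to sheaves for the induced topology: an equivalence -/
noncomputable abbrev pushInd : EtCoh.Ab Z ⥤ Sheaf (indTop i) AddCommGrpCat.{u + 1} :=
  (EtCoh.bc i).sheafPushforwardContinuous AddCommGrpCat.{u + 1} (indTop i) Z.smallEtaleTopology

instance : (pushInd i).IsEquivalence := inferInstance

theorem push_full_faithful [EtCoh.BCCont i] : (EtCoh.push i).Full ∧ (EtCoh.push i).Faithful := by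
  constructor
  · constructor
    intro F₁ F₂ φ
    let φ' : (pushInd i).obj F₁ ⟶ (pushInd i).obj F₂ := ⟨φ.hom⟩
    refine ⟨(pushInd i).preimage φ', ?_⟩
    apply Sheaf.hom_ext
    exact congrArg (fun t => t.hom) ((pushInd i).map_preimage φ')
  · constructor
    intro F₁ F₂ ψ₁ ψ₂ h
    apply (pushInd i).map_injective
    apply Sheaf.hom_ext
    exact congrArg (fun t => t.hom) h

end

end Groth.Agent.H7.CI
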