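import Mathlib
import Groth.Prelude.Def_EtBase
import Groth.Agent.Lib.Helper7.CI7
import Groth.Agent.Lib.Helper7.ST7

/-!
# Helper7: CI9 — essential image of the pushforward along a closed immersion
-/

set_option autoImplicit false

open CategoryTheory Limits AlgebraicGeometry Opposite

namespace Groth.Agent.H7.CI

universe u w

variable {Z X : Scheme.{u}} (i : Z ⟶ X)

/-- an étale `X`-scheme whose image misses `Z` -/
def OffZ (U : X.Etale) : Prop := Disjoint (Set.range U.hom.base) (Set.range i.base)

variable {i} in
lemma OffZ.of_hom {U W : X.Etale} (k : W ⟶ U) (h : OffZ i U) : OffZ i W := by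
  refine Set.disjoint_of_subset_left ?_ h
  rintro _ ⟨w, rfl⟩
  refine ⟨k.left.base w, ?_⟩
  rw [← Scheme.Hom.comp_apply, MorphismProperty.Over.w k]

/-- converse of joint surjectivity for covering sieves of the small étale site -/
lemma exists_of_mem_smallEtaleTopology {Y : Scheme.{u}} {T : Y.Etale} (S : Sieve T)
    (hS : S ∈ Y.smallEtaleTopology T) (x : T.left) :
    ∃ (T' : Y.Etale) (p : T' ⟶ T) (y : T'.left), S p ∧ p.left.base y = x := by
  have eY : Y.smallEtaleTopology =
      (Y.smallPretopology (P := EtCoh.etaleMP) (Q := EtCoh.etaleMP)).toGrothendieck :=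
    Scheme.smallGrothendieckTopology_eq_toGrothendieck_smallPretopology Y le_rfl
  rw [eY] at hS
  obtain ⟨T', p, y, hp, -, hy⟩ := (Scheme.mem_toGrothendieck_smallPretopology T S).1 hS x
  exact ⟨T', p, y, hp, hy⟩

/-- the sieve `S` enlarged by everything off `Z` -/
def bigSieve {V : X.Etale} (S : Sieve V) : Sieve V where
  arrows W g := S g ∨ OffZ i W
  downward_closed := by
    rintro W W' g (hg | hg) k
    · exact Or.inl (S.downward_closed hg k)
    · exact Or.inr (hg.of_hom k)

variable [IsClosedImmersion i]

lemma offZ_complObj (V : X.Etale) : OffZ i (ST.complObj i V) := by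
  rw [OffZ, Set.disjoint_left]
  rintro _ ⟨a, rfl⟩ hx
  have ha : ((ST.complOpen i V).ι.base a) ∈ ST.complOpen i V := by
    have : (ST.complOpen i V).ι.base a ∈ Set.range (ST.complOpen i V).ι.base := ⟨a, rfl⟩
    rwa [Scheme.Opens.range_ι] at this
  rw [ST.mem_complOpen] at ha
  exact ha hx

lemma bigSieve_mem {V : X.Etale} (S : Sieve V)
    (hS : S.functorPushforward (EtCoh.bc i) ∈ Z.smallEtaleTopology ((EtCoh.bc i).obj V)) :
    bigSieve i S ∈ X.smallEtaleTopology V := by
  refine ES.sieve_mem_of_jointly_surjective _ (fun v => ?_)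
  by_cases hv : V.hom.base v ∈ Set.range i.base
  · obtain ⟨z, hz⟩ := hv
    obtain ⟨vz, hvz, -⟩ := Scheme.Pullback.exists_preimage_pullback (f := V.hom) (g := i) v z hz.symm
    obtain ⟨T', p, y, ⟨W, g, h, hg, hp⟩, hy⟩ := exists_of_mem_smallEtaleTopology _ hS vz
    refine ⟨W, g, (pullback.fst W.hom i).base (h.left.base y), Or.inl hg, ?_⟩
    have e2 : g.left.base ((pullback.fst W.hom i).base (h.left.base y)) =
        (pullback.fst V.hom i).base (((EtCoh.bc i).map g).left.base (h.left.base y)) := by
      exact congrArg (fun t => t.base (h.left.base y)) (bc_map_left_fst i g).symm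
    have e3 : ((EtCoh.bc i).map g).left.base (h.left.base y) = p.left.base y := by rw [hp]; rfl
    rw [e2, e3, hy, hvz]
  · refine ⟨ST.complObj i V, ST.complMap i V, ⟨v, hv⟩, Or.inr (offZ_complObj i V), ?_⟩
    rfl

/-- A sheaf of types for the étale topology which has exactly one section over every étale scheme
off `Z` is a sheaf for the topology induced from `Z`. -/
theorem isSheafFor_of_offZ (P : X.Etaleᵒᵖ ⥤ Type w) (hP : Presieve.IsSheaf X.smallEtaleTopology P)
    (hU : ∀ U : X.Etale, OffZ i U → Nonempty (Unique (P.obj (op U))))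
    {V : X.Etale} (S : Sieve V)
    (hS : S.functorPushforward (EtCoh.bc i) ∈ Z.smallEtaleTopology ((EtCoh.bc i).obj V)) :
    Presieve.IsSheafFor P (S : Presieve V) := by
  classical
  have hT := hP _ (bigSieve_mem i S hS)
  intro x hx
  rw [Presieve.compatible_iff_sieveCompatible] at hx
  -- the extended family
  let x' : Presieve.FamilyOfElements P (bigSieve i S : Presieve V) := fun W g hg =>
    if h : S g then x g h else
      (hU W (hg.resolve_left h)).some.default
  have hx' : x'.Compatible := by
    rw [Presieve.compatible_iff_sieveCompatible]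
    intro W W' g k hg
    by_cases h : S g
    · have h' : S (k ≫ g) := S.downward_closed h k
      simp only [x', dif_pos h, dif_pos h']
      exact hx g k h
    · have hW : OffZ i W := hg.resolve_left h
      obtain ⟨u⟩ := hU W' (hW.of_hom k)
      exact (u.uniq _).trans (u.uniq _).symm
  obtain ⟨t, ht, htu⟩ := hT x' hx'
  refine ⟨t, ?_, ?_⟩
  · intro W g hg
    have := ht g (Or.inl hg)
    simpa only [x', dif_pos hg] using this
  · intro t' ht'
    refine htu t' ?_
    intro W g hg
    by_cases h : S g
    · simp only [x', dif_pos h]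
      exact ht' g h
    · obtain ⟨u⟩ := hU W (hg.resolve_left h)
      exact (u.uniq _).trans (u.uniq _).symm

end Groth.Agent.H7.CI
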