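import Mathlib
import Groth.Prelude.Def_EtBase
import Groth.Agent.Lib.Helper7.CI9

/-!
# Helper7: CI10 — essential image of the pushforward along a closed immersion (assembly)
-/

set_option autoImplicit false

open CategoryTheory Limits AlgebraicGeometry Opposite

namespace Groth.Agent.H7.CI

universe u

variable {Z X : Scheme.{u}} (i : Z ⟶ X) [IsClosedImmersion i]

lemma isEmpty_bc_of_offZ (U : X.Etale) (hU : OffZ i U) : IsEmpty ((EtCoh.bc i).obj U).left := by
  constructor
  intro w
  have h : U.hom.base ((pullback.fst U.hom i).base w) = i.base ((pullback.snd U.hom i).base w) :=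
    congrArg (fun k => k.base w) (pullback.condition (f := U.hom) (g := i))
  exact Set.disjoint_left.mp hU ⟨_, rfl⟩ ⟨_, h.symm⟩

/-- sheaves vanishing off `Z` are sheaves for the induced topology -/
theorem isSheaf_indTop_of_offZ (F : EtCoh.Ab X)
    (hF : ∀ U : X.Etale, OffZ i U → IsZero (F.obj.obj (op U))) :
    Presheaf.IsSheaf (indTop i) F.obj := by
  intro E V S hS
  refine isSheafFor_of_offZ i (F.obj ⋙ coyoneda.obj (op E)) (F.2 E) (fun U hU => ?_) S ?_
  · exact (hF U hU).unique_from E
  · exact (Functor.mem_inducedTopology_iff_of_isCoverDense (G := EtCoh.bc i)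
      (K := Z.smallEtaleTopology) S).mp hS

theorem essImage_push_iff [EtCoh.BCCont i] (F : EtCoh.Ab X) :
    (EtCoh.push i).essImage F ↔
      ∀ U : X.Etale, Disjoint (Set.range U.hom.base) (Set.range i.base) →
        IsZero (F.obj.obj (op U)) := by
  constructor
  · rintro ⟨G, ⟨e⟩⟩ U hU
    haveI := isEmpty_bc_of_offZ i U hU
    haveI := ST.sections_subsingleton_of_isEmpty G ((EtCoh.bc i).obj U)
    have hz : IsZero (G.obj.obj (op ((EtCoh.bc i).obj U))) := AddCommGrpCat.isZero_of_subsingleton _
    exact hz.of_iso (((sheafToPresheaf _ _).mapIso e).app (op U)).symm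
  · intro hF
    let F' : Sheaf (indTop i) AddCommGrpCat.{u + 1} := ⟨F.obj, isSheaf_indTop_of_offZ i F hF⟩
    let G := (pushInd i).objPreimage F'
    let e : (pushInd i).obj G ≅ F' := (pushInd i).objObjPreimageIso F'
    let e₀ : (EtCoh.bc i).op ⋙ G.obj ≅ F.obj := (sheafToPresheaf _ _).mapIso e
    exact ⟨G, ⟨(fullyFaithfulSheafToPresheaf X.smallEtaleTopology AddCommGrpCat.{u + 1}).preimageIso e₀⟩⟩

end Groth.Agent.H7.CI
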