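import Mathlib
import Groth.Prelude.Def_EtBase
import Groth.Agent.Lib.Helper7.CI7
import Groth.Agent.Lib.Helper7.ST1

/-!
# Helper7: CI8 — stalks of the pushforward along a closed immersion
-/

set_option autoImplicit false

open CategoryTheory Limits AlgebraicGeometry Opposite

namespace Groth.Agent.H7.CI

universe u

variable {Z X : Scheme.{u}} (i : Z ⟶ X) [IsClosedImmersion i]

instance isIso_counit [EtCoh.BCCont i] : IsIso (EtCoh.pullPushAdj i).counit := by
  obtain ⟨hfull, hfaith⟩ := push_full_faithful i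
  haveI := hfull; haveI := hfaith
  infer_instance

theorem stalk_push_iso [EtCoh.BCCont i] (G : EtCoh.Ab Z) {Ω : Type u} [Field Ω] [IsSepClosed Ω]
    (ζ : Spec (CommRingCat.of Ω) ⟶ Z) :
    Nonempty ((EtCoh.stalk (ζ ≫ i)).obj ((EtCoh.push i).obj G) ≅ (EtCoh.stalk ζ).obj G) :=
  ⟨((ST.stalkPullIso i ζ).app ((EtCoh.push i).obj G)).symm ≪≫
    (EtCoh.stalk ζ).mapIso (asIso ((EtCoh.pullPushAdj i).counit.app G))⟩

end Groth.Agent.H7.CI
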