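import Mathlib
import Groth.Prelude.Def_EtBase
import Groth.Prelude.Def_EtShriek2
import Groth.Agent.Lib.Helper7.CI10
import Groth.Agent.Lib.Helper7.CI8
import Groth.Agent.Lib.Helper7.ES2

/-!
# Helper7: CI11 — restriction to the open complement and sheaves supported on a closed subscheme
-/

set_option autoImplicit false

open CategoryTheory Limits AlgebraicGeometry Opposite

namespace Groth.Agent.H7.CI

universe u

/-- a sheaf is zero iff all its sections are zero -/
theorem isZero_sheaf_iff {Y : Scheme.{u}} (F : EtCoh.Ab Y) :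
    IsZero F ↔ ∀ V : Y.Etale, IsZero (F.obj.obj (op V)) := by
  constructor
  · intro h V
    rw [IsZero.iff_id_eq_zero]
    have h0 : 𝟙 F = 0 := (IsZero.iff_id_eq_zero F).mp h
    have := congrArg (fun t => t.hom.app (op V)) h0
    exact this
  · intro h
    rw [IsZero.iff_id_eq_zero]
    apply Sheaf.hom_ext
    refine NatTrans.ext (funext fun V => ?_)
    exact (h V.unop).eq_of_src _ _

section

variable {Z X U : Scheme.{u}} (i : Z ⟶ X) (j : U ⟶ X) [IsOpenImmersion j]
  (hZU : Set.range j.base = (Set.range i.base)ᶜ)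

include hZU

lemma offZ_compEtale (V' : U.Etale) : OffZ i ((EtShriek.compEtale j).obj V') := by
  rw [OffZ, Set.disjoint_left]
  rintro _ ⟨a, rfl⟩ hx
  have : ((EtShriek.compEtale j).obj V').hom.base a ∈ Set.range j.base :=
    ⟨V'.hom.base a, rfl⟩
  rw [hZU] at this
  exact this hx

/-- an étale `X`-scheme off `Z` comes from an étale `U`-scheme -/
lemma exists_iso_compEtale_of_offZ (W : X.Etale) (hW : OffZ i W) :
    ∃ V' : U.Etale, Nonempty ((EtShriek.compEtale j).obj V' ≅ W) := by
  have hr : Set.range W.hom.base ⊆ Set.range j.base := by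
    rw [hZU]
    intro x hx hx'
    exact Set.disjoint_left.mp hW hx hx'
  let l : W.left ⟶ U := IsOpenImmersion.lift j W.hom hr
  have hl : l ≫ j = W.hom := IsOpenImmersion.lift_fac j W.hom hr
  let g : W ⟶ (EtShriek.compEtale j).obj (EtCoh.top U) :=
    MorphismProperty.Over.homMk l (by
      change l ≫ (𝟙 U ≫ j) = W.hom
      rw [Category.id_comp, hl])
  exact ⟨(EtShriek.compEtaleLift j g).1, ⟨(EtShriek.compEtaleLift j g).2⟩⟩

/-- the restriction of `M` to the open complement vanishes iff `M` has no sections off `Z` -/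
theorem isZero_pull_iff (M : EtCoh.Ab X) :
    IsZero ((EtCoh.pull j).obj M) ↔ ∀ W : X.Etale, OffZ i W → IsZero (M.obj.obj (op W)) := by
  have e := (ES.pullIsoRestr j).app M
  constructor
  · intro h W hW
    obtain ⟨V', ⟨φ⟩⟩ := exists_iso_compEtale_of_offZ i j hZU W hW
    have h1 : IsZero ((EtShriek.restrAlong j).obj M) := h.of_iso e.symm
    have h2 := (isZero_sheaf_iff _).mp h1 V'
    exact h2.of_iso (M.obj.mapIso φ.op)
  · intro h
    refine IsZero.of_iso ?_ e
    rw [isZero_sheaf_iff]
    intro V'
    exact h _ (offZ_compEtale i j hZU V')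

variable [IsClosedImmersion i]

/-- `j⁻¹ i_* = 0` -/
theorem isZero_pull_push (B : EtCoh.Ab Z) : IsZero ((EtCoh.pull j).obj ((EtCoh.push i).obj B)) := by
  rw [isZero_pull_iff i j hZU]
  exact (essImage_push_iff i _).mp ((EtCoh.push i).obj_mem_essImage B)

/-- sheaves with zero restriction to the open complement are pushforwards from `Z` -/
theorem essImage_push_of_isZero_pull (M : EtCoh.Ab X) (h : IsZero ((EtCoh.pull j).obj M)) :
    (EtCoh.push i).essImage M :=
  (essImage_push_iff i M).mpr ((isZero_pull_iff i j hZU M).mp h)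

end

end Groth.Agent.H7.CI
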