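import Mathlib
import Groth.Prelude.Def_EtBase
import Groth.Agent.Lib.Helper7.CI11
import Groth.Agent.Lib.Helper7.ES1

/-!
# Helper7: CI12 — sections supported on `Z` of an injective sheaf restrict to an injective sheaf on `Z`
-/

set_option autoImplicit false

open CategoryTheory Limits AlgebraicGeometry Opposite

namespace Groth.Agent.H7.CI

universe u

/-- the kernel of the unit `M → j_* j⁻¹ M` has zero restriction to `U` -/
theorem isZero_pull_kernel_unit {X U : Scheme.{u}} (j : U ⟶ X) (M : EtCoh.Ab X) :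
    IsZero ((EtCoh.pull j).obj (kernel ((EtCoh.pullPushAdj j).unit.app M))) := by
  let κ := kernel.ι ((EtCoh.pullPushAdj j).unit.app M)
  have h1 : (EtCoh.pull j).map κ ≫ (EtCoh.pull j).map ((EtCoh.pullPushAdj j).unit.app M) = 0 := by
    rw [← Functor.map_comp, kernel.condition, Functor.map_zero]
  haveI : Mono ((EtCoh.pull j).map ((EtCoh.pullPushAdj j).unit.app M)) :=
    (SplitMono.mk _ ((EtCoh.pullPushAdj j).left_triangle_components M)).mono
  have h2 : (EtCoh.pull j).map κ = 0 := zero_of_comp_mono _ h1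
  exact IsZero.of_mono_eq_zero _ h2

variable {Z X U : Scheme.{u}} (i : Z ⟶ X) [IsClosedImmersion i] (j : U ⟶ X) [IsOpenImmersion j]
  (hZU : Set.range j.base = (Set.range i.base)ᶜ)

include hZU

/-- a map from a pushforward `i_* B` to `j_* N` is zero -/
theorem hom_push_push_eq_zero (B : EtCoh.Ab Z) (N : EtCoh.Ab U)
    (ψ : (EtCoh.push i).obj B ⟶ (EtCoh.push j).obj N) : ψ = 0 := by
  apply ((EtCoh.pullPushAdj j).homEquiv _ _).symm.injective
  exact (isZero_pull_push i j hZU B).eq_of_src _ _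

theorem injective_of_iso_kernel (I : EtCoh.Ab X) [Injective I] (G : EtCoh.Ab Z)
    (e : (EtCoh.push i).obj G ≅ kernel ((EtCoh.pullPushAdj j).unit.app I)) : Injective G := by
  obtain ⟨hfull, hfaith⟩ := push_full_faithful i
  haveI := hfull; haveI := hfaith
  constructor
  intro A B g m hm
  let κ := kernel.ι ((EtCoh.pullPushAdj j).unit.app I)
  let φ : (EtCoh.push i).obj A ⟶ I := (EtCoh.push i).map g ≫ e.hom ≫ κ
  haveI : Mono ((EtCoh.push i).map m) := inferInstance
  let ψ : (EtCoh.push i).obj B ⟶ I := Injective.factorThru φ ((EtCoh.push i).map m)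
  have hψ : (EtCoh.push i).map m ≫ ψ = φ := Injective.comp_factorThru φ _
  have hψ0 : ψ ≫ (EtCoh.pullPushAdj j).unit.app I = 0 := hom_push_push_eq_zero i j hZU B _ _
  let ψ' : (EtCoh.push i).obj B ⟶ kernel ((EtCoh.pullPushAdj j).unit.app I) :=
    kernel.lift _ ψ hψ0
  have hψ' : ψ' ≫ κ = ψ := kernel.lift_ι _ _ _
  have h3 : (EtCoh.push i).map m ≫ ψ' = (EtCoh.push i).map g ≫ e.hom := by
    rw [← cancel_mono κ, Category.assoc, hψ', hψ, Category.assoc]
  refine ⟨(EtCoh.push i).preimage (ψ' ≫ e.inv), ?_⟩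
  apply (EtCoh.push i).map_injective
  rw [Functor.map_comp, Functor.map_preimage, ← Category.assoc, h3, Category.assoc, e.hom_inv_id,
    Category.comp_id]

theorem injective_pull_kernel (I : EtCoh.Ab X) [Injective I] :
    Injective ((EtCoh.pull i).obj (kernel ((EtCoh.pullPushAdj j).unit.app I))) := by
  obtain ⟨G, ⟨e⟩⟩ := essImage_push_of_isZero_pull i j hZU _ (isZero_pull_kernel_unit j I)
  haveI := injective_of_iso_kernel i j hZU I G e
  have e2 : (EtCoh.pull i).obj (kernel ((EtCoh.pullPushAdj j).unit.app I)) ≅ G :=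
    (EtCoh.pull i).mapIso e.symm ≪≫ asIso ((EtCoh.pullPushAdj i).counit.app G)
  exact Injective.of_iso e2.symm inferInstance

end Groth.Agent.H7.CI
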