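import Mathlib

set_option autoImplicit false

universe v₁ v₂ v₃ u₁ u₂ u₃

open CategoryTheory CategoryTheory.Limits Opposite

namespace Groth.Agent.H7.GT

section Presheaf

variable {C : Type u₁} [Category.{v₁} C] {D : Type u₂} [Category.{v₂} D]
  (L : C ⥤ D) [L.Full] [L.Faithful] (H : Type u₃) [Category.{v₃} H]
  [HasZeroObject H] [HasZeroMorphisms H]
  [∀ F : C ⥤ H, L.HasPointwiseLeftKanExtension F]

/-- If every object of `D` is either in the essential image of the fully faithful functor `L` or
receives no morphism from the image of `L`, then the counit of `Lan_L ⊣ L^*` is a pointwise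
monomorphism. -/
theorem mono_lanAdjunction_counit_app_app
    (hL : ∀ Y : D, (∃ X : C, Nonempty (L.obj X ≅ Y)) ∨ IsEmpty (CostructuredArrow L Y))
    (G : D ⥤ H) (Y : D) : Mono (((L.lanAdjunction H).counit.app G).app Y) := by
  rcases hL Y with ⟨X, ⟨e⟩⟩ | hY
  · have h1 : IsIso (((L.lanAdjunction H).counit.app G).app (L.obj X)) := by
      have h := L.lanUnit_app_app_lanAdjunction_counit_app_app (H := H) G X
      have : ((L.lanAdjunction H).counit.app G).app (L.obj X) =
          inv ((L.lanUnit.app (L ⋙ G)).app X) := by
        rw [← cancel_epi ((L.lanUnit.app (L ⋙ G)).app X), h, IsIso.hom_inv_id]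
      rw [this]
      infer_instance
    have h2 : ((L.lanAdjunction H).counit.app G).app Y =
        (L.lan.obj (L ⋙ G)).map e.inv ≫ ((L.lanAdjunction H).counit.app G).app (L.obj X) ≫
          G.map e.hom := by
      have nat := ((L.lanAdjunction H).counit.app G).naturality e.hom
      change (L.lan.obj (L ⋙ G)).map e.hom ≫ _ = _ ≫ G.map e.hom at nat
      rw [← nat, ← Functor.map_comp_assoc, e.inv_hom_id, CategoryTheory.Functor.map_id,
        Category.id_comp]
    rw [h2]
    infer_instance
  · have hz : IsInitial ((L.lan.obj (L ⋙ G)).obj Y) :=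
      (isColimitEquivIsInitialOfIsEmpty _
        ((Functor.LeftExtension.mk _ (L.lanUnit.app (L ⋙ G))).coconeAt Y))
        (Functor.isPointwiseLeftKanExtensionLeftKanExtensionUnit L (L ⋙ G) Y)
    have : IsZero ((L.lan.obj (L ⋙ G)).obj Y) :=
      (isZero_zero H).of_iso (hz.uniqueUpToIso HasZeroObject.zeroIsInitial)
    exact this.mono _

end Presheaf

section Sheaf

variable {C : Type u₁} [Category.{v₁} C] {D : Type u₂} [Category.{v₂} D]
  (u : C ⥤ D) [u.Full] [u.Faithful] (J : GrothendieckTopology C) (K : GrothendieckTopology D)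
  [u.IsContinuous J K] (A : Type u₃) [Category.{v₃} A]
  [HasZeroObject A] [HasZeroMorphisms A]
  [∀ F : Cᵒᵖ ⥤ A, u.op.HasPointwiseLeftKanExtension F] [HasWeakSheafify K A]
  [(presheafToSheaf K A).PreservesMonomorphisms]

set_option backward.isDefEq.respectTransparency false in
/-- The counit `u_! u^* Y ⟶ Y` is a monomorphism when `u` is fully faithful with image a sieve. -/
theorem mono_sheafAdjunctionContinuous_counit_app
    (hu : ∀ {T : D} {S : C} (_ : T ⟶ u.obj S), ∃ S' : C, Nonempty (u.obj S' ≅ T))
    (Y : Sheaf K A) : Mono ((u.sheafAdjunctionContinuous A J K).counit.app Y) := by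
  have hL : ∀ T : Dᵒᵖ, (∃ S : Cᵒᵖ, Nonempty (u.op.obj S ≅ T)) ∨
      IsEmpty (CostructuredArrow u.op T) := by
    intro T
    by_cases h : Nonempty (CostructuredArrow u.op T)
    · obtain ⟨f⟩ := h
      obtain ⟨S', ⟨e⟩⟩ := hu f.hom.unop
      exact Or.inl ⟨op S', ⟨e.op.symm⟩⟩
    · exact Or.inr (not_nonempty_iff.1 h)
  have hpre : Mono ((u.op.lanAdjunction A).counit.app Y.obj) := by
    haveI : ∀ T, Mono (((u.op.lanAdjunction A).counit.app Y.obj).app T) := fun T =>
      mono_lanAdjunction_counit_app_app u.op A hL Y.obj T
    exact NatTrans.mono_of_mono_app _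
  have key : (Functor.sheafPullbackConstruction.sheafAdjunctionContinuous u A J K).counit.app Y =
      (presheafToSheaf K A).map ((u.op.lanAdjunction A).counit.app Y.obj) ≫
        (sheafificationAdjunction K A).counit.app Y := by
    have := Adjunction.map_restrictFullyFaithful_counit_app
      (L := Functor.sheafPullbackConstruction.sheafPullback u A J K)
      (R := u.sheafPushforwardContinuous A J K)
      ((u.op.lanAdjunction A).comp (sheafificationAdjunction K A))
      (fullyFaithfulSheafToPresheaf J A) (Functor.FullyFaithful.id _) (Iso.refl _) (Iso.refl _) Y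
    refine this.trans ?_
    simp only [Iso.refl_inv, NatTrans.id_app, Adjunction.comp_counit_app]
    erw [Category.id_comp, CategoryTheory.Functor.map_id, Category.id_comp]
    rfl
  have h2 : Mono ((Functor.sheafPullbackConstruction.sheafAdjunctionContinuous u A J K).counit.app
      Y) := by
    rw [key]
    haveI : Mono ((presheafToSheaf K A).map ((u.op.lanAdjunction A).counit.app Y.obj)) :=
      inferInstance
    exact mono_comp _ _
  rw [← Adjunction.leftAdjointUniq_hom_app_counit (u.sheafAdjunctionContinuous A J K)
    (Functor.sheafPullbackConstruction.sheafAdjunctionContinuous u A J K) Y]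
  infer_instance

end Sheaf

end Groth.Agent.H7.GT
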