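import Mathlib
import Groth.Prelude.Def_EtShriek2
import Groth.Agent.Lib.Helper7.ES4
import Groth.Agent.Lib.Helper7.GT4

set_option autoImplicit false

universe u

open CategoryTheory CategoryTheory.Limits Opposite AlgebraicGeometry

namespace Groth.Agent.H7.ES

open Groth.Agent.H7.GT

section

variable {U X : Scheme.{u}} (j : U ⟶ X) [AlgebraicGeometry.Etale j] [Mono j] [EtShriek.JCont j]

/-- For a monomorphic étale `j`, the counit `j_! j⁻¹ G ⟶ G` is a monomorphism. -/
theorem mono_extZeroAdj_counit (G : EtCoh.Ab X) :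
    Mono ((EtShriek.extZeroAdj j).counit.app G) :=
  mono_sheafAdjunctionContinuous_counit_app (EtShriek.compEtale j) U.smallEtaleTopology
    X.smallEtaleTopology AddCommGrpCat.{u + 1}
    (fun g => ⟨(EtShriek.compEtaleLift j g).1, ⟨(EtShriek.compEtaleLift j g).2⟩⟩) G

end

end Groth.Agent.H7.ES
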