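import Mathlib
import Groth.Prelude.Def_EtBase
import Groth.Prelude.Def_EtShriek2
import Groth.Agent.Lib.Helper7.CI12
import Groth.Agent.Lib.Helper7.ES8

/-!
# Helper7: CI13 — the exact sequence `0 → j_! j⁻¹ F → F → i_* i⁻¹ F → 0`
-/

set_option autoImplicit false

open CategoryTheory Limits AlgebraicGeometry Opposite

namespace Groth.Agent.H7.CI

universe u

variable {Z X U : Scheme.{u}} (i : Z ⟶ X) [IsClosedImmersion i] (j : U ⟶ X) [IsOpenImmersion j]
  (hZU : Set.range j.base = (Set.range i.base)ᶜ)

include hZU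

/-- zero-ness is detected by restriction to `Z` and to `U` -/
theorem isZero_of_pull (M : EtCoh.Ab X) (h1 : IsZero ((EtCoh.pull i).obj M))
    (h2 : IsZero ((EtCoh.pull j).obj M)) : IsZero M := by
  obtain ⟨G, ⟨e⟩⟩ := essImage_push_of_isZero_pull i j hZU M h2
  have hG : IsZero G :=
    (h1.of_iso ((EtCoh.pull i).mapIso e)).of_iso (asIso ((EtCoh.pullPushAdj i).counit.app G)).symm
  exact ((EtCoh.push i).map_isZero hG).of_iso e.symm

theorem isZero_restr_push [EtShriek.JCont j] (B : EtCoh.Ab Z) :
    IsZero ((EtShriek.restrAlong j).obj ((EtCoh.push i).obj B)) :=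
  (isZero_pull_push i j hZU B).of_iso ((ES.pullIsoRestr j).app _).symm

/-- maps `j_! N → i_* B` vanish -/
theorem hom_extZero_push_eq_zero [EtShriek.JCont j] (N : EtCoh.Ab U) (B : EtCoh.Ab Z)
    (ψ : (EtShriek.extZero j).obj N ⟶ (EtCoh.push i).obj B) : ψ = 0 := by
  apply ((EtShriek.extZeroAdj j).homEquiv _ _).injective
  exact (isZero_restr_push i j hZU B).eq_of_tgt _ _

/-- `i⁻¹ j_! = 0` -/
theorem isZero_pull_extZero [EtShriek.JCont j] (N : EtCoh.Ab U) :
    IsZero ((EtCoh.pull i).obj ((EtShriek.extZero j).obj N)) := by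
  rw [IsZero.iff_id_eq_zero]
  apply ((EtCoh.pullPushAdj i).homEquiv _ _).injective
  exact (hom_extZero_push_eq_zero i j hZU N _ _).trans (hom_extZero_push_eq_zero i j hZU N _ _).symm


set_option maxHeartbeats 800000 in
theorem shortExact_extZero_push [EtShriek.JCont j] (F : EtCoh.Ab X) :
    ∃ w : (EtShriek.extZeroAdj j).counit.app F ≫ (EtCoh.pullPushAdj i).unit.app F = 0,
      (ShortComplex.mk _ _ w).ShortExact := by
  have w := hom_extZero_push_eq_zero i j hZU _ _
    ((EtShriek.extZeroAdj j).counit.app F ≫ (EtCoh.pullPushAdj i).unit.app F)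
  refine ⟨w, ?_⟩
  let S := ShortComplex.mk _ _ w
  haveI : PreservesLimitsOfSize.{0, 0} (EtShriek.restrAlong j) :=
    (EtShriek.extZeroAdj j).rightAdjoint_preservesLimits
  haveI : PreservesColimitsOfSize.{0, 0} (EtShriek.restrAlong j) :=
    (ES.restrPushAdj j).leftAdjoint_preservesColimits
  haveI : PreservesFiniteLimits (EtShriek.restrAlong j) := PreservesLimitsOfSize.preservesFiniteLimits _
  haveI : PreservesFiniteColimits (EtShriek.restrAlong j) :=
    PreservesColimitsOfSize.preservesFiniteColimits _
  -- the two key isomorphisms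
  haveI hgi : IsIso ((EtCoh.pull i).map ((EtCoh.pullPushAdj i).unit.app F)) := by
    have h := (EtCoh.pullPushAdj i).left_triangle_components F
    have : (EtCoh.pull i).map ((EtCoh.pullPushAdj i).unit.app F) =
        inv ((EtCoh.pullPushAdj i).counit.app ((EtCoh.pull i).obj F)) := by
      exact (cancel_mono ((EtCoh.pullPushAdj i).counit.app ((EtCoh.pull i).obj F))).1
        (h.trans (IsIso.inv_hom_id _).symm)
    rw [this]; infer_instance
  haveI hfj : IsIso ((EtShriek.restrAlong j).map ((EtShriek.extZeroAdj j).counit.app F)) := by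
    have h := (EtShriek.extZeroAdj j).right_triangle_components F
    haveI := ES.isIso_extZeroAdj_unit j ((EtShriek.restrAlong j).obj F)
    have : (EtShriek.restrAlong j).map ((EtShriek.extZeroAdj j).counit.app F) =
        inv ((EtShriek.extZeroAdj j).unit.app ((EtShriek.restrAlong j).obj F)) := by
      exact (cancel_epi ((EtShriek.extZeroAdj j).unit.app ((EtShriek.restrAlong j).obj F))).1
        (h.trans (IsIso.hom_inv_id _).symm)
    rw [this]; infer_instance
  have hi : (S.map (EtCoh.pull i)).Exact := by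
    have hf : (S.map (EtCoh.pull i)).f = 0 := (isZero_pull_extZero i j hZU _).eq_of_src _ _
    rw [ShortComplex.exact_iff_mono _ hf]
    exact (inferInstance : Mono ((EtCoh.pull i).map ((EtCoh.pullPushAdj i).unit.app F)))
  have hj : (S.map (EtShriek.restrAlong j)).Exact := by
    have hg : (S.map (EtShriek.restrAlong j)).g = 0 := (isZero_restr_push i j hZU _).eq_of_tgt _ _
    rw [ShortComplex.exact_iff_epi _ hg]
    exact (inferInstance : Epi ((EtShriek.restrAlong j).map ((EtShriek.extZeroAdj j).counit.app F)))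
  have hex : S.Exact := by
    rw [ShortComplex.exact_iff_isZero_homology]
    apply isZero_of_pull i j hZU
    · exact ((ShortComplex.exact_iff_isZero_homology _).mp hi).of_iso
        (S.mapHomologyIso (EtCoh.pull i)).symm
    · have := ((ShortComplex.exact_iff_isZero_homology _).mp hj).of_iso
        (S.mapHomologyIso (EtShriek.restrAlong j)).symm
      exact this.of_iso ((ES.pullIsoRestr j).app _)
  haveI : Mono S.f := ES.mono_extZeroAdj_counit j F
  haveI : Epi S.g := by
    apply Preadditive.epi_of_cokernel_zero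
    refine IsZero.eq_of_tgt ?_ _ _
    apply isZero_of_pull i j hZU
    · refine IsZero.of_iso ?_ (PreservesCokernel.iso (EtCoh.pull i) S.g)
      exact isZero_cokernel_of_epi _
    · haveI : Epi ((EtCoh.pull j).map (cokernel.π S.g)) := inferInstance
      exact IsZero.of_epi_eq_zero ((EtCoh.pull j).map (cokernel.π S.g))
        ((isZero_pull_push i j hZU _).eq_of_src _ _)
  exact ShortComplex.ShortExact.mk hex

end Groth.Agent.H7.CI
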