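import Mathlib

set_option autoImplicit false

universe w w' w'' v v' v'' u u' u''

open CategoryTheory CategoryTheory.Limits Abelian

namespace Groth.Agent.H7.EX

variable {C : Type u} [Category.{v} C] [Abelian C] [HasExt.{w} C]
  {D : Type u'} [Category.{v'} D] [Abelian D] [HasExt.{w'} D]
  {E : Type u''} [Category.{v''} E] [Abelian E] [HasExt.{w''} E]

section DimShift

variable [EnoughInjectives C]

/-- The short exact sequence `0 → B → I(B) → I(B)/B → 0`. -/
noncomputable abbrev shiftSC (B : C) : ShortComplex C :=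
  ShortComplex.mk (Injective.ι B) (cokernel.π (Injective.ι B)) (cokernel.condition _)

lemma shiftSC_shortExact (B : C) : (shiftSC B).ShortExact where
  exact := ShortComplex.exact_cokernel (Injective.ι B)
  mono_f := by dsimp [shiftSC]; infer_instance
  epi_g := by dsimp [shiftSC]; infer_instance

instance (B : C) : Injective (shiftSC B).X₂ := by dsimp [shiftSC]; infer_instance

lemma exists_comp_extClass {M B : C} {n : ℕ} (e : Ext M B (n + 1)) :
    ∃ e₀ : Ext M (shiftSC B).X₃ n, e₀.comp (shiftSC_shortExact B).extClass rfl = e :=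
  Ext.covariant_sequence_exact₁ M (shiftSC_shortExact B) e (Ext.eq_zero_of_injective _) rfl

end DimShift

section NatTrans

variable [EnoughInjectives C] {G G' : C ⥤ D} [G.Additive] [G'.Additive]
  [PreservesFiniteLimits G] [PreservesFiniteColimits G]
  [PreservesFiniteLimits G'] [PreservesFiniteColimits G'] (τ : G ⟶ G')

/-- Naturality of the map on `Ext` induced by exact functors, w.r.t. natural transformations. -/
theorem mapExactFunctor_natTrans {M B : C} {n : ℕ} (e : Ext M B n) :
    (e.mapExactFunctor G).comp (Ext.mk₀ (τ.app B)) (add_zero n) =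
      (Ext.mk₀ (τ.app M)).comp (e.mapExactFunctor G') (zero_add n) := by
  induction n generalizing B with
  | zero =>
    obtain ⟨f, rfl⟩ := (Ext.mk₀_bijective M B).2 e
    simp only [Ext.mapExactFunctor_mk₀, Ext.mk₀_comp_mk₀, τ.naturality]
  | succ n ih =>
    obtain ⟨e₀, rfl⟩ := exists_comp_extClass e
    have hS := shiftSC_shortExact B
    have nat : (hS.map_of_exact G).extClass.comp (Ext.mk₀ (τ.app B)) (add_zero 1) =
        (Ext.mk₀ (τ.app (shiftSC B).X₃)).comp (hS.map_of_exact G').extClass (zero_add 1) :=
      ShortComplex.ShortExact.extClass_naturality (hS.map_of_exact G)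
        (hS.map_of_exact G') ((shiftSC B).mapNatTrans τ)
    rw [Ext.mapExactFunctor_comp, Ext.mapExactFunctor_comp, Ext.mapExactFunctor_extClass,
      Ext.mapExactFunctor_extClass]
    calc ((e₀.mapExactFunctor G).comp (hS.map_of_exact G).extClass rfl).comp
          (Ext.mk₀ (τ.app B)) (add_zero (n + 1))
        = (e₀.mapExactFunctor G).comp ((hS.map_of_exact G).extClass.comp
          (Ext.mk₀ (τ.app B)) (add_zero 1)) rfl := Ext.comp_assoc_of_third_deg_zero _ _ _ _
      _ = (e₀.mapExactFunctor G).comp ((Ext.mk₀ (τ.app (shiftSC B).X₃)).comp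
          (hS.map_of_exact G').extClass (zero_add 1)) rfl :=
        congrArg (fun x => (e₀.mapExactFunctor G).comp x rfl) nat
      _ = ((e₀.mapExactFunctor G).comp (Ext.mk₀ (τ.app (shiftSC B).X₃)) (add_zero n)).comp
          (hS.map_of_exact G').extClass rfl := (Ext.comp_assoc_of_second_deg_zero _ _ _ _).symm
      _ = ((Ext.mk₀ (τ.app M)).comp (e₀.mapExactFunctor G') (zero_add n)).comp
          (hS.map_of_exact G').extClass rfl :=
        congrArg (fun x => x.comp (hS.map_of_exact G').extClass rfl) (ih e₀)
      _ = (Ext.mk₀ (τ.app M)).comp ((e₀.mapExactFunctor G').comp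
          (hS.map_of_exact G').extClass rfl) (zero_add (n + 1)) :=
        Ext.comp_assoc _ _ _ (zero_add n) rfl (by omega)

end NatTrans

section CompFunctor

variable [EnoughInjectives C] (G : C ⥤ D) (G' : D ⥤ E) [G.Additive] [G'.Additive]
  [PreservesFiniteLimits G] [PreservesFiniteColimits G]
  [PreservesFiniteLimits G'] [PreservesFiniteColimits G']

/-- The map on `Ext` induced by a composition of exact functors. -/
theorem mapExactFunctor_comp_functor {M B : C} {n : ℕ} (e : Ext M B n) :
    e.mapExactFunctor (G ⋙ G') = (e.mapExactFunctor G).mapExactFunctor G' := by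
  induction n generalizing B with
  | zero =>
    obtain ⟨f, rfl⟩ := (Ext.mk₀_bijective M B).2 e
    simp only [Ext.mapExactFunctor_mk₀, Functor.comp_map]
  | succ n ih =>
    obtain ⟨e₀, rfl⟩ := exists_comp_extClass e
    have hS := shiftSC_shortExact B
    have h1 : (e₀.comp hS.extClass rfl).mapExactFunctor (G ⋙ G') =
        (e₀.mapExactFunctor (G ⋙ G')).comp (hS.map_of_exact (G ⋙ G')).extClass rfl :=
      (Ext.mapExactFunctor_comp (G ⋙ G') e₀ hS.extClass rfl).trans
        (congrArg (fun x => (e₀.mapExactFunctor (G ⋙ G')).comp x rfl)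
          (Ext.mapExactFunctor_extClass (G ⋙ G') hS))
    have h2 : (e₀.comp hS.extClass rfl).mapExactFunctor G =
        (e₀.mapExactFunctor G).comp (hS.map_of_exact G).extClass rfl :=
      (Ext.mapExactFunctor_comp G e₀ hS.extClass rfl).trans
        (congrArg (fun x => (e₀.mapExactFunctor G).comp x rfl)
          (Ext.mapExactFunctor_extClass G hS))
    have h3 : ((e₀.mapExactFunctor G).comp (hS.map_of_exact G).extClass rfl).mapExactFunctor G' =
        ((e₀.mapExactFunctor G).mapExactFunctor G').comp
          ((hS.map_of_exact G).map_of_exact G').extClass rfl :=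
      (Ext.mapExactFunctor_comp G' (e₀.mapExactFunctor G) (hS.map_of_exact G).extClass rfl).trans
        (congrArg (fun x => ((e₀.mapExactFunctor G).mapExactFunctor G').comp x rfl)
          (Ext.mapExactFunctor_extClass G' (hS.map_of_exact G)))
    refine h1.trans (Eq.trans ?_ ((congrArg (fun x => x.mapExactFunctor G') h2).trans h3).symm)
    exact congrArg (fun x => x.comp ((hS.map_of_exact G).map_of_exact G').extClass rfl) (ih e₀)

end CompFunctor

section Adj

variable [EnoughInjectives C] {L : D ⥤ C} {R : C ⥤ D} (adj : L ⊣ R) [R.Additive]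
  [PreservesFiniteLimits R] [PreservesFiniteColimits R]

/-- The adjunction map on `Ext` groups: `Ext^n(L A, B) → Ext^n(A, R B)`. -/
noncomputable def extAdj (A : D) (B : C) (n : ℕ) : Ext (L.obj A) B n →+ Ext A (R.obj B) n :=
  ((Ext.mk₀ (adj.unit.app A)).precomp (R.obj B) (zero_add n)).comp (R.mapExtAddHom (L.obj A) B n)

lemma extAdj_apply {A : D} {B : C} {n : ℕ} (e : Ext (L.obj A) B n) :
    extAdj adj A B n e = (Ext.mk₀ (adj.unit.app A)).comp (e.mapExactFunctor R) (zero_add n) := rfl

lemma extAdj_mk₀ {A : D} {B : C} (f : L.obj A ⟶ B) :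
    extAdj adj A B 0 (Ext.mk₀ f) = Ext.mk₀ (adj.homEquiv A B f) := by
  rw [extAdj_apply, Ext.mapExactFunctor_mk₀, Ext.mk₀_comp_mk₀, Adjunction.homEquiv_unit]

lemma extAdj_comp_mk₀ {A : D} {B B' : C} {n : ℕ} (e : Ext (L.obj A) B n) (g : B ⟶ B') :
    extAdj adj A B' n (e.comp (Ext.mk₀ g) (add_zero n)) =
      (extAdj adj A B n e).comp (Ext.mk₀ (R.map g)) (add_zero n) := by
  rw [extAdj_apply, extAdj_apply, Ext.mapExactFunctor_comp, Ext.mapExactFunctor_mk₀]
  exact (Ext.comp_assoc_of_third_deg_zero _ _ _ _).symm

lemma extAdj_comp_extClass {A : D} {S : ShortComplex C} (hS : S.ShortExact) {n : ℕ}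
    (e : Ext (L.obj A) S.X₃ n) :
    extAdj adj A S.X₁ (n + 1) (e.comp hS.extClass rfl) =
      (extAdj adj A S.X₃ n e).comp (hS.map_of_exact R).extClass rfl := by
  rw [extAdj_apply, extAdj_apply, Ext.mapExactFunctor_comp, Ext.mapExactFunctor_extClass]
  exact (Ext.comp_assoc _ _ _ (zero_add n) rfl (by omega)).symm

variable [R.PreservesInjectiveObjects]

attribute [local instance] Ext.subsingleton_of_injective in
theorem extAdj_bijective (A : D) (B : C) (n : ℕ) : Function.Bijective (extAdj adj A B n) := by
  induction n generalizing B with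
  | zero =>
    have h : ⇑(extAdj adj A B 0) = Ext.homEquiv₀.symm ∘ (adj.homEquiv A B) ∘ Ext.homEquiv₀ := by
      ext x
      obtain ⟨f, rfl⟩ := (Ext.mk₀_bijective _ _).2 x
      simp [extAdj_mk₀, Ext.homEquiv₀]
    rw [h]
    exact Ext.homEquiv₀.symm.bijective.comp ((adj.homEquiv A B).bijective.comp
      Ext.homEquiv₀.bijective)
  | succ n hn =>
    have hS := shiftSC_shortExact B
    have : Injective ((shiftSC B).map R).X₂ :=
      Functor.PreservesInjectiveObjects.injective_obj (inferInstance : Injective (shiftSC B).X₂)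
    exact AddMonoidHom.bijective_of_surjective_of_bijective_of_right_exact _ _ _ _
      (extAdj adj A (shiftSC B).X₂ n) (extAdj adj A (shiftSC B).X₃ n)
      (extAdj adj A (shiftSC B).X₁ (n + 1))
      (by ext e; exact (extAdj_comp_mk₀ adj e _).symm)
      (by ext e; exact (extAdj_comp_extClass adj hS e).symm)
      ((ShortComplex.ab_exact_iff_function_exact _).mp
        (Ext.covariant_sequence_exact₃' (L.obj A) hS n (n + 1) rfl))
      ((ShortComplex.ab_exact_iff_function_exact _).mp
        (Ext.covariant_sequence_exact₃' A (hS.map_of_exact R) n (n + 1) rfl))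
      (hn _).surjective (hn _)
      (fun x₁ ↦ Ext.covariant_sequence_exact₁ _ hS x₁ (by subsingleton) rfl)
      (fun y₁ ↦ Ext.covariant_sequence_exact₁ _ (hS.map_of_exact R) y₁ (by subsingleton) rfl)

end Adj

end Groth.Agent.H7.EX
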