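import Mathlib

set_option autoImplicit false

universe w v u

open CategoryTheory CategoryTheory.Limits Abelian

namespace Groth.Agent.H7.EX

variable {C : Type u} [Category.{v} C] [Abelian C] [HasExt.{w} C]

section Biprod

variable {A B F : C} {n : ℕ}

/-- The class on `A ⊞ B` with components `y` and `z`. -/
noncomputable def extPair (y : Ext A F n) (z : Ext B F n) : Ext (A ⊞ B) F n :=
  (Ext.mk₀ biprod.fst).comp y (zero_add n) + (Ext.mk₀ biprod.snd).comp z (zero_add n)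

lemma inl_extPair (y : Ext A F n) (z : Ext B F n) :
    (Ext.mk₀ biprod.inl).comp (extPair y z) (zero_add n) = y := by
  simp [extPair, Ext.comp_add]

lemma inr_extPair (y : Ext A F n) (z : Ext B F n) :
    (Ext.mk₀ biprod.inr).comp (extPair y z) (zero_add n) = z := by
  simp [extPair, Ext.comp_add]

lemma extPair_eta (x : Ext (A ⊞ B) F n) :
    extPair ((Ext.mk₀ biprod.inl).comp x (zero_add n)) ((Ext.mk₀ biprod.inr).comp x (zero_add n))
      = x := by
  apply Ext.biprod_ext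
  · rw [inl_extPair]
  · rw [inr_extPair]

lemma lift_comp_extPair {W : C} (a : W ⟶ A) (b : W ⟶ B) (y : Ext A F n) (z : Ext B F n) :
    (Ext.mk₀ (biprod.lift a b)).comp (extPair y z) (zero_add n) =
      (Ext.mk₀ a).comp y (zero_add n) + (Ext.mk₀ b).comp z (zero_add n) := by
  simp [extPair, Ext.comp_add]

end Biprod

section MV

variable {ZW ZU ZV ZX : C} (aU : ZW ⟶ ZU) (aV : ZW ⟶ ZV) (eU : ZU ⟶ ZX) (eV : ZV ⟶ ZX)
  (w : aU ≫ eU = aV ≫ eV)

/-- The Mayer-Vietoris short complex `ZW ⟶ ZU ⊞ ZV ⟶ ZX`. -/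
noncomputable def mvSC : ShortComplex C :=
  ShortComplex.mk (biprod.lift aU (-aV)) (biprod.desc eU eV) (by simp [w])

variable (hS : (mvSC aU aV eU eV w).ShortExact) (F : C)

include hS

theorem mv_exact₀ (x : Ext ZX F 0) (h1 : (Ext.mk₀ eU).comp x (zero_add 0) = 0)
    (h2 : (Ext.mk₀ eV).comp x (zero_add 0) = 0) : x = 0 := by
  have : Epi (biprod.desc eU eV) := hS.epi_g
  apply Ext.precomp_mk₀_injective_of_epi F (biprod.desc eU eV)
  change (Ext.mk₀ (biprod.desc eU eV)).comp x (zero_add 0) =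
    (Ext.mk₀ (biprod.desc eU eV)).comp 0 (zero_add 0)
  rw [Ext.comp_zero]
  apply Ext.biprod_ext
  · rw [Ext.comp_zero, Ext.mk₀_comp_mk₀_assoc, biprod.inl_desc]; exact h1
  · rw [Ext.comp_zero, Ext.mk₀_comp_mk₀_assoc, biprod.inr_desc]; exact h2

/-- the connecting map -/
noncomputable def mvδ (n : ℕ) : Ext ZW F n →+ Ext ZX F (n + 1) :=
  hS.extClass.precomp F (add_comm 1 n)

theorem mv_exact₁ {n : ℕ} (x : Ext ZX F (n + 1)) :
    ((Ext.mk₀ eU).comp x (zero_add _) = 0 ∧ (Ext.mk₀ eV).comp x (zero_add _) = 0) ↔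
      ∃ y : Ext ZW F n, mvδ aU aV eU eV w hS F n y = x := by
  constructor
  · rintro ⟨h1, h2⟩
    refine Ext.contravariant_sequence_exact₃ hS F x ?_ (add_comm 1 n)
    change (Ext.mk₀ (biprod.desc eU eV)).comp x (zero_add (n + 1)) = 0
    apply Ext.biprod_ext
    · rw [Ext.comp_zero, Ext.mk₀_comp_mk₀_assoc, biprod.inl_desc]; exact h1
    · rw [Ext.comp_zero, Ext.mk₀_comp_mk₀_assoc, biprod.inr_desc]; exact h2
  · rintro ⟨y, rfl⟩
    have h0 : (Ext.mk₀ (biprod.desc eU eV)).comp (hS.extClass.comp y (add_comm 1 n))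
        (zero_add (n + 1)) = 0 := hS.comp_extClass_assoc y (add_comm 1 n)
    have hU := congrArg (fun t => (Ext.mk₀ (biprod.inl : ZU ⟶ ZU ⊞ ZV)).comp t (zero_add (n + 1))) h0
    have hV := congrArg (fun t => (Ext.mk₀ (biprod.inr : ZV ⟶ ZU ⊞ ZV)).comp t (zero_add (n + 1))) h0
    simp only [Ext.mk₀_comp_mk₀_assoc, biprod.inl_desc, biprod.inr_desc, Ext.comp_zero] at hU hV
    exact ⟨hU, hV⟩

theorem mv_exact₂ {n : ℕ} (y : Ext ZU F n) (z : Ext ZV F n) :
    ((Ext.mk₀ aU).comp y (zero_add _) - (Ext.mk₀ aV).comp z (zero_add _) = 0) ↔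
      ∃ x : Ext ZX F n, (Ext.mk₀ eU).comp x (zero_add _) = y ∧
        (Ext.mk₀ eV).comp x (zero_add _) = z := by
  constructor
  · intro h
    obtain ⟨x, hx⟩ := Ext.contravariant_sequence_exact₂ hS F (extPair y z) (by
      change (Ext.mk₀ (biprod.lift aU (-aV))).comp (extPair y z) (zero_add n) = 0
      rw [lift_comp_extPair, Ext.mk₀_neg, Ext.neg_comp, ← sub_eq_add_neg]
      exact h)
    refine ⟨x, ?_, ?_⟩
    · have := congrArg (fun t => (Ext.mk₀ (biprod.inl : ZU ⟶ ZU ⊞ ZV)).comp t (zero_add n)) hx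
      simpa [mvSC, inl_extPair] using this
    · have := congrArg (fun t => (Ext.mk₀ (biprod.inr : ZV ⟶ ZU ⊞ ZV)).comp t (zero_add n)) hx
      simpa [mvSC, inr_extPair] using this
  · rintro ⟨x, rfl, rfl⟩
    rw [Ext.mk₀_comp_mk₀_assoc, Ext.mk₀_comp_mk₀_assoc, w, sub_self]

theorem mv_exact₃ {n : ℕ} (t : Ext ZW F n) :
    (mvδ aU aV eU eV w hS F n t = 0) ↔
      ∃ (y : Ext ZU F n) (z : Ext ZV F n),
        (Ext.mk₀ aU).comp y (zero_add _) - (Ext.mk₀ aV).comp z (zero_add _) = t := by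
  constructor
  · intro h
    obtain ⟨x₂, hx₂⟩ := Ext.contravariant_sequence_exact₁ hS F t (add_comm 1 n) h
    refine ⟨(Ext.mk₀ biprod.inl).comp x₂ (zero_add n), (Ext.mk₀ biprod.inr).comp x₂ (zero_add n), ?_⟩
    rw [← hx₂]
    conv_rhs => rw [← extPair_eta x₂]
    change _ = (Ext.mk₀ (biprod.lift aU (-aV))).comp _ (zero_add n)
    rw [lift_comp_extPair, Ext.mk₀_neg, Ext.neg_comp, ← sub_eq_add_neg]
  · rintro ⟨y, z, rfl⟩
    have : (Ext.mk₀ aU).comp y (zero_add n) - (Ext.mk₀ aV).comp z (zero_add n) =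
        (Ext.mk₀ (mvSC aU aV eU eV w).f).comp (extPair y z) (zero_add n) := by
      change _ = (Ext.mk₀ (biprod.lift aU (-aV))).comp _ (zero_add n)
      rw [lift_comp_extPair, Ext.mk₀_neg, Ext.neg_comp, ← sub_eq_add_neg]
    rw [this]
    exact hS.extClass_comp_assoc (extPair y z) (h := add_comm 1 n)

end MV

end Groth.Agent.H7.EX
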