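import Mathlib
import Groth.Agent.Lib.Helper7.EX1
import Groth.Agent.Lib.Helper7.EX2

set_option autoImplicit false

universe w₁ w₂ w₃ w₄ v₁ v₂ v₃ v₄ u₁ u₂ u₃ u₄

open CategoryTheory CategoryTheory.Limits Abelian

namespace Groth.Agent.H7.EX

section C2

variable {C : Type u₁} [Category.{v₁} C] [Abelian C] [HasExt.{w₁} C]
  {D : Type u₂} [Category.{v₂} D] [Abelian D] [HasExt.{w₂} D]
  [EnoughInjectives C] {L : D ⥤ C} {R : C ⥤ D} (adj : L ⊣ R) [R.Additive]
  [PreservesFiniteLimits R] [PreservesFiniteColimits R]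

lemma extAdj_mk₀_comp {A : D} {M B : C} {n : ℕ} (g : L.obj A ⟶ M) (e : Ext M B n) :
    extAdj adj A B n ((Ext.mk₀ g).comp e (zero_add n)) =
      (Ext.mk₀ (adj.homEquiv A M g)).comp (e.mapExactFunctor R) (zero_add n) := by
  rw [extAdj_apply, Ext.mapExactFunctor_comp, Ext.mapExactFunctor_mk₀, Ext.mk₀_comp_mk₀_assoc,
    Adjunction.homEquiv_unit]

end C2

section C3

variable {X : Type u₁} [Category.{v₁} X] [Abelian X] [HasExt.{w₁} X] [EnoughInjectives X]
  {U : Type u₂} [Category.{v₂} U] [Abelian U] [HasExt.{w₂} U]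
  {W : Type u₃} [Category.{v₃} W] [Abelian W] [HasExt.{w₃} W]
  {RU : X ⥤ U} {Ra : U ⥤ W} {RW : X ⥤ W}
  [RU.Additive] [PreservesFiniteLimits RU] [PreservesFiniteColimits RU]
  [Ra.Additive] [PreservesFiniteLimits Ra] [PreservesFiniteColimits Ra]
  [RW.Additive] [PreservesFiniteLimits RW] [PreservesFiniteColimits RW]
  (θ : RU ⋙ Ra ≅ RW) {LU : U ⥤ X} (adjU : LU ⊣ RU) {LW : W ⥤ X} (adjW : LW ⊣ RW)
  {zU : U} {zW : W} (ca : zW ⟶ Ra.obj zU)

/-- The transition map `L_W z_W ⟶ L_U z_U`. -/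
noncomputable def transAlpha : LW.obj zW ⟶ LU.obj zU :=
  (adjW.homEquiv _ _).symm (ca ≫ Ra.map (adjU.unit.app zU) ≫ θ.hom.app (LU.obj zU))

lemma homEquiv_transAlpha :
    adjW.homEquiv _ _ (transAlpha θ adjU adjW ca) =
      ca ≫ Ra.map (adjU.unit.app zU) ≫ θ.hom.app (LU.obj zU) :=
  Equiv.apply_symm_apply _ _

/-- The "restriction" map `Ext^n(z_U, R_U F) → Ext^n(z_W, R_W F)`. -/
noncomputable def restrMap (F : X) (n : ℕ) : Ext zU (RU.obj F) n →+ Ext zW (RW.obj F) n :=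
  ((Ext.mk₀ (θ.hom.app F)).postcomp zW (add_zero n)).comp
    (((Ext.mk₀ ca).precomp (Ra.obj (RU.obj F)) (zero_add n)).comp (Ra.mapExtAddHom _ _ n))

lemma restrMap_apply (F : X) {n : ℕ} (x : Ext zU (RU.obj F) n) :
    restrMap θ ca F n x = ((Ext.mk₀ ca).comp (x.mapExactFunctor Ra) (zero_add n)).comp
      (Ext.mk₀ (θ.hom.app F)) (add_zero n) := rfl

theorem restrMap_extAdj (F : X) {n : ℕ} (e : Ext (LU.obj zU) F n) :
    restrMap θ ca F n (extAdj adjU zU F n e) =
      extAdj adjW zW F n ((Ext.mk₀ (transAlpha θ adjU adjW ca)).comp e (zero_add n)) := by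
  rw [extAdj_mk₀_comp, homEquiv_transAlpha, restrMap_apply, extAdj_apply,
    Ext.mapExactFunctor_comp, Ext.mapExactFunctor_mk₀, ← mapExactFunctor_comp_functor]
  have nat := mapExactFunctor_natTrans θ.hom e
  rw [Ext.comp_assoc_of_third_deg_zero, Ext.comp_assoc_of_third_deg_zero]
  erw [nat]
  rw [Ext.mk₀_comp_mk₀_assoc, Ext.mk₀_comp_mk₀_assoc, Category.assoc]

/-- The augmentation `L_U z_U ⟶ z_X`. -/
noncomputable def transEps {zX : X} (cU : zU ⟶ RU.obj zX) : LU.obj zU ⟶ zX :=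
  (adjU.homEquiv _ _).symm cU

lemma homEquiv_transEps {zX : X} (cU : zU ⟶ RU.obj zX) :
    adjU.homEquiv _ _ (transEps adjU cU) = cU := Equiv.apply_symm_apply _ _

lemma homEquiv_transAlpha_transEps {zX : X} (cU : zU ⟶ RU.obj zX) :
    adjW.homEquiv _ _ (transAlpha θ adjU adjW ca ≫ transEps adjU cU) =
      ca ≫ Ra.map cU ≫ θ.hom.app zX := by
  rw [Adjunction.homEquiv_naturality_right, homEquiv_transAlpha, Category.assoc, Category.assoc,
    ← θ.hom.naturality, Functor.comp_map, ← Ra.map_comp_assoc, ← Adjunction.homEquiv_unit,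
    homEquiv_transEps]

lemma homEquiv_transAlpha_comp {G : X} (ψ : LU.obj zU ⟶ G) :
    adjW.homEquiv _ _ (transAlpha θ adjU adjW ca ≫ ψ) =
      ca ≫ Ra.map (adjU.homEquiv _ _ ψ) ≫ θ.hom.app G := by
  rw [Adjunction.homEquiv_naturality_right, homEquiv_transAlpha, Category.assoc, Category.assoc,
    ← θ.hom.naturality, Functor.comp_map, ← Ra.map_comp_assoc, ← Adjunction.homEquiv_unit]

end C3

section Main

variable {X : Type u₁} [Category.{v₁} X] [Abelian X] [HasExt.{w₁} X] [EnoughInjectives X]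
  {U : Type u₂} [Category.{v₂} U] [Abelian U] [HasExt.{w₂} U]
  {V : Type u₄} [Category.{v₄} V] [Abelian V] [HasExt.{w₄} V]
  {W : Type u₃} [Category.{v₃} W] [Abelian W] [HasExt.{w₃} W]
  {RU : X ⥤ U} {RV : X ⥤ V} {Ra : U ⥤ W} {Rb : V ⥤ W} {RW : X ⥤ W}
  [RU.Additive] [PreservesFiniteLimits RU] [PreservesFiniteColimits RU]
  [RV.Additive] [PreservesFiniteLimits RV] [PreservesFiniteColimits RV]
  [Ra.Additive] [PreservesFiniteLimits Ra] [PreservesFiniteColimits Ra]
  [Rb.Additive] [PreservesFiniteLimits Rb] [PreservesFiniteColimits Rb]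
  [RW.Additive] [PreservesFiniteLimits RW] [PreservesFiniteColimits RW]
  (θa : RU ⋙ Ra ≅ RW) (θb : RV ⋙ Rb ≅ RW)
  {LU : U ⥤ X} (adjU : LU ⊣ RU) {LV : V ⥤ X} (adjV : LV ⊣ RV) {LW : W ⥤ X} (adjW : LW ⊣ RW)
  {zX : X} {zU : U} {zV : V} {zW : W}
  (cU : zU ⟶ RU.obj zX) (cV : zV ⟶ RV.obj zX) (ca : zW ⟶ Ra.obj zU) (cb : zW ⟶ Rb.obj zV)

/-- The pullback map `Ext^n(z_X, F) → Ext^n(z_U, R_U F)`. -/
noncomputable def pullMap (F : X) (n : ℕ) : Ext zX F n →+ Ext zU (RU.obj F) n :=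
  ((Ext.mk₀ cU).precomp (RU.obj F) (zero_add n)).comp (RU.mapExtAddHom zX F n)

lemma pullMap_apply (F : X) {n : ℕ} (e : Ext zX F n) :
    pullMap cU F n e = (Ext.mk₀ cU).comp (e.mapExactFunctor RU) (zero_add n) := rfl

lemma pullMap_eq (F : X) {n : ℕ} (e : Ext zX F n) :
    pullMap cU F n e = extAdj adjU zU F n ((Ext.mk₀ (transEps adjU cU)).comp e (zero_add n)) := by
  rw [extAdj_mk₀_comp, homEquiv_transEps, pullMap_apply]

include θa θb adjU adjV adjW cU cV ca cb in
lemma transAlpha_transEps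
    (hc : ca ≫ Ra.map cU ≫ θa.hom.app zX = cb ≫ Rb.map cV ≫ θb.hom.app zX) :
    transAlpha θa adjU adjW ca ≫ transEps adjU cU =
      transAlpha θb adjV adjW cb ≫ transEps adjV cV := by
  apply (adjW.homEquiv _ _).injective
  rw [homEquiv_transAlpha_transEps, homEquiv_transAlpha_transEps, hc]

/-- Criterion for the Mayer–Vietoris complex to be short exact. -/
theorem mvSC_shortExact
    (w : transAlpha θa adjU adjW ca ≫ transEps adjU cU =
      transAlpha θb adjV adjW cb ≫ transEps adjV cV)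
    [Mono (transAlpha θa adjU adjW ca)]
    (hinj : ∀ (G : X) (φ : zX ⟶ G), cU ≫ RU.map φ = 0 → cV ≫ RV.map φ = 0 → φ = 0)
    (hglue : ∀ (G : X) (ξU : zU ⟶ RU.obj G) (ξV : zV ⟶ RV.obj G),
      ca ≫ Ra.map ξU ≫ θa.hom.app G = cb ≫ Rb.map ξV ≫ θb.hom.app G →
        ∃ φ : zX ⟶ G, cU ≫ RU.map φ = ξU ∧ cV ≫ RV.map φ = ξV) :
    (mvSC (transAlpha θa adjU adjW ca) (transAlpha θb adjV adjW cb)
      (transEps adjU cU) (transEps adjV cV) w).ShortExact := by
  have hεU : ∀ {G : X} (φ : zX ⟶ G), adjU.homEquiv _ _ (transEps adjU cU ≫ φ) = cU ≫ RU.map φ := by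
    intro G φ
    rw [Adjunction.homEquiv_naturality_right, homEquiv_transEps]
  have hεV : ∀ {G : X} (φ : zX ⟶ G), adjV.homEquiv _ _ (transEps adjV cV ≫ φ) = cV ≫ RV.map φ := by
    intro G φ
    rw [Adjunction.homEquiv_naturality_right, homEquiv_transEps]
  haveI : LU.Additive := adjU.left_adjoint_additive
  haveI : LV.Additive := adjV.left_adjoint_additive
  have hmono : Mono (biprod.lift (transAlpha θa adjU adjW ca) (-transAlpha θb adjV adjW cb)) := by
    have : Mono (biprod.lift (transAlpha θa adjU adjW ca) (-transAlpha θb adjV adjW cb) ≫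
        biprod.fst) := by
      rw [biprod.lift_fst]
      infer_instance
    exact mono_of_mono _ biprod.fst
  have hcok : IsColimit (CokernelCofork.ofπ (biprod.desc (transEps adjU cU) (transEps adjV cV))
      (show biprod.lift (transAlpha θa adjU adjW ca) (-transAlpha θb adjV adjW cb) ≫
        biprod.desc (transEps adjU cU) (transEps adjV cV) = 0 by simp [w])) := by
    have hex : ∀ {G : X} (ψ : LU.obj zU ⊞ LV.obj zV ⟶ G)
        (_ : biprod.lift (transAlpha θa adjU adjW ca) (-transAlpha θb adjV adjW cb) ≫ ψ = 0),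
        ∃ φ : zX ⟶ G, biprod.desc (transEps adjU cU) (transEps adjV cV) ≫ φ = ψ := by
      intro G ψ hψ
      have h1 : transAlpha θa adjU adjW ca ≫ biprod.inl ≫ ψ =
          transAlpha θb adjV adjW cb ≫ biprod.inr ≫ ψ := by
        have : biprod.lift (transAlpha θa adjU adjW ca) (-transAlpha θb adjV adjW cb) =
            transAlpha θa adjU adjW ca ≫ biprod.inl - transAlpha θb adjV adjW cb ≫ biprod.inr := by
          apply biprod.hom_ext <;> simp
        rw [this, Preadditive.sub_comp, sub_eq_zero, Category.assoc, Category.assoc] at hψ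
        exact hψ
      have h2 := congrArg (adjW.homEquiv _ _) h1
      rw [homEquiv_transAlpha_comp, homEquiv_transAlpha_comp] at h2
      obtain ⟨φ, hφU, hφV⟩ := hglue G _ _ h2
      refine ⟨φ, ?_⟩
      apply biprod.hom_ext'
      · rw [biprod.inl_desc_assoc]
        apply (adjU.homEquiv _ _).injective
        rw [hεU, hφU]
      · rw [biprod.inr_desc_assoc]
        apply (adjV.homEquiv _ _).injective
        rw [hεV, hφV]
    have hepi : Epi (biprod.desc (transEps adjU cU) (transEps adjV cV)) := by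
      constructor
      intro G φ φ' h
      rw [← sub_eq_zero]
      apply hinj
      · rw [← hεU, Preadditive.comp_sub]
        have := congrArg (fun t => biprod.inl ≫ t) h
        simp only [biprod.inl_desc_assoc] at this
        rw [this, sub_self]
        exact (adjU.homAddEquiv zU G).map_zero
      · rw [← hεV, Preadditive.comp_sub]
        have := congrArg (fun t => biprod.inr ≫ t) h
        simp only [biprod.inr_desc_assoc] at this
        rw [this, sub_self]
        exact (adjV.homAddEquiv zV G).map_zero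
    refine CokernelCofork.IsColimit.ofπ _ _ (fun {G} ψ hψ => (hex ψ hψ).choose)
      (fun {G} ψ hψ => (hex ψ hψ).choose_spec) (fun {G} ψ hψ m hm => ?_)
    rw [← cancel_epi (biprod.desc (transEps adjU cU) (transEps adjV cV)), hm,
      (hex ψ hψ).choose_spec]
  have hepi : Epi (biprod.desc (transEps adjU cU) (transEps adjV cV)) :=
    epi_of_isColimit_cofork hcok
  exact
    { exact := ShortComplex.exact_of_g_is_cokernel _ hcok
      mono_f := hmono
      epi_g := hepi }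

variable [RU.PreservesInjectiveObjects] [RV.PreservesInjectiveObjects]
  [RW.PreservesInjectiveObjects]

/-- Abstract Mayer–Vietoris. -/
theorem mv_abstract
    (w : transAlpha θa adjU adjW ca ≫ transEps adjU cU =
      transAlpha θb adjV adjW cb ≫ transEps adjV cV)
    (hS : (mvSC (transAlpha θa adjU adjW ca) (transAlpha θb adjV adjW cb)
      (transEps adjU cU) (transEps adjV cV) w).ShortExact) (F : X) :
    ∃ δ : ∀ n : ℕ, Ext zW (RW.obj F) n →+ Ext zX F (n + 1),
      (∀ x : Ext zX F 0, pullMap cU F 0 x = 0 → pullMap cV F 0 x = 0 → x = 0) ∧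
      (∀ (n : ℕ) (x : Ext zX F (n + 1)),
        (pullMap cU F (n + 1) x = 0 ∧ pullMap cV F (n + 1) x = 0) ↔ ∃ t, δ n t = x) ∧
      (∀ (n : ℕ) (y : Ext zU (RU.obj F) n) (z : Ext zV (RV.obj F) n),
        restrMap θa ca F n y - restrMap θb cb F n z = 0 ↔
          ∃ x, pullMap cU F n x = y ∧ pullMap cV F n x = z) ∧
      (∀ (n : ℕ) (t : Ext zW (RW.obj F) n),
        δ n t = 0 ↔ ∃ y z, restrMap θa ca F n y - restrMap θb cb F n z = t) := by
  let ΨU : ∀ n, Ext (LU.obj zU) F n ≃+ Ext zU (RU.obj F) n := fun n =>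
    AddEquiv.ofBijective (extAdj adjU zU F n) (extAdj_bijective adjU zU F n)
  let ΨV : ∀ n, Ext (LV.obj zV) F n ≃+ Ext zV (RV.obj F) n := fun n =>
    AddEquiv.ofBijective (extAdj adjV zV F n) (extAdj_bijective adjV zV F n)
  let ΨW : ∀ n, Ext (LW.obj zW) F n ≃+ Ext zW (RW.obj F) n := fun n =>
    AddEquiv.ofBijective (extAdj adjW zW F n) (extAdj_bijective adjW zW F n)
  have hpU : ∀ {n : ℕ} (x : Ext zX F n), pullMap cU F n x =
      ΨU n ((Ext.mk₀ (transEps adjU cU)).comp x (zero_add n)) := fun x => pullMap_eq adjU cU F x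
  have hpV : ∀ {n : ℕ} (x : Ext zX F n), pullMap cV F n x =
      ΨV n ((Ext.mk₀ (transEps adjV cV)).comp x (zero_add n)) := fun x => pullMap_eq adjV cV F x
  have hrU : ∀ {n : ℕ} (y : Ext (LU.obj zU) F n), restrMap θa ca F n (ΨU n y) =
      ΨW n ((Ext.mk₀ (transAlpha θa adjU adjW ca)).comp y (zero_add n)) :=
    fun y => restrMap_extAdj θa adjU adjW ca F y
  have hrV : ∀ {n : ℕ} (y : Ext (LV.obj zV) F n), restrMap θb cb F n (ΨV n y) =
      ΨW n ((Ext.mk₀ (transAlpha θb adjV adjW cb)).comp y (zero_add n)) :=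
    fun y => restrMap_extAdj θb adjV adjW cb F y
  refine ⟨fun n => (mvδ _ _ _ _ w hS F n).comp (ΨW n).symm.toAddMonoidHom, ?_, ?_, ?_, ?_⟩
  · intro x h1 h2
    rw [hpU, AddEquiv.map_eq_zero_iff] at h1
    rw [hpV, AddEquiv.map_eq_zero_iff] at h2
    exact mv_exact₀ _ _ _ _ w hS F x h1 h2
  · intro n x
    rw [hpU, hpV, AddEquiv.map_eq_zero_iff, AddEquiv.map_eq_zero_iff, mv_exact₁ _ _ _ _ w hS F x]
    constructor
    · rintro ⟨t, ht⟩
      exact ⟨ΨW n t, by simpa using ht⟩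
    · rintro ⟨t, ht⟩
      exact ⟨(ΨW n).symm t, ht⟩
  · intro n y z
    obtain ⟨y, rfl⟩ := (ΨU n).surjective y
    obtain ⟨z, rfl⟩ := (ΨV n).surjective z
    rw [hrU, hrV, ← map_sub, AddEquiv.map_eq_zero_iff, mv_exact₂ _ _ _ _ w hS F y z]
    constructor
    · rintro ⟨x, rfl, rfl⟩
      exact ⟨x, hpU x, hpV x⟩
    · rintro ⟨x, h1, h2⟩
      rw [hpU] at h1
      rw [hpV] at h2
      exact ⟨x, (ΨU n).injective h1, (ΨV n).injective h2⟩
  · intro n t
    obtain ⟨t, rfl⟩ := (ΨW n).surjective t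
    have : ((mvδ _ _ _ _ w hS F n).comp (ΨW n).symm.toAddMonoidHom) (ΨW n t) =
        mvδ _ _ _ _ w hS F n t := by simp
    rw [this, mv_exact₃ _ _ _ _ w hS F t]
    constructor
    · rintro ⟨y, z, rfl⟩
      exact ⟨ΨU n y, ΨV n z, by rw [hrU, hrV, ← map_sub]⟩
    · rintro ⟨y, z, h⟩
      obtain ⟨y, rfl⟩ := (ΨU n).surjective y
      obtain ⟨z, rfl⟩ := (ΨV n).surjective z
      rw [hrU, hrV, ← map_sub] at h
      exact ⟨y, z, (ΨW n).injective h⟩

end Main

end Groth.Agent.H7.EX
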