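import Mathlib
import Groth.Prelude.Def_EtShriek2
import Groth.Agent.Lib.Helper7.EX3
import Groth.Agent.Lib.Helper7.ES8
import Groth.Agent.Lib.Helper7.ES12

set_option autoImplicit false

universe w₁ w₂ w₃ v₁ v₂ v₃ u₁ u₂ u₃ u

open CategoryTheory CategoryTheory.Limits Opposite AlgebraicGeometry Abelian

namespace Groth.Agent.H7.EX

section MonoAlpha

variable {X : Type u₁} [Category.{v₁} X] {U : Type u₂} [Category.{v₂} U]
  {W : Type u₃} [Category.{v₃} W]
  {RU : X ⥤ U} {Ra : U ⥤ W} {RW : X ⥤ W}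
  (θ : RU ⋙ Ra ≅ RW) {LU : U ⥤ X} (adjU : LU ⊣ RU) {LW : W ⥤ X} (adjW : LW ⊣ RW)
  {zU : U} {zW : W} (ca : zW ⟶ Ra.obj zU)

lemma transAlpha'_mono [IsIso ca] [IsIso (adjU.unit.app zU)]
    [Mono (adjW.counit.app (LU.obj zU))] :
    Mono ((adjW.homEquiv _ _).symm (ca ≫ Ra.map (adjU.unit.app zU) ≫ θ.hom.app (LU.obj zU))) := by
  rw [Adjunction.homEquiv_counit]
  infer_instance

end MonoAlpha

end Groth.Agent.H7.EX

namespace Groth.Agent.H7.ES

open Groth.Agent.H7.EX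

section PullAdj

variable {U X : Scheme.{u}} (j : U ⟶ X) [AlgebraicGeometry.Etale j]

/-- `j_! ⊣ j⁻¹` for étale `j`. -/
noncomputable def pullAdj : EtShriek.extZero j ⊣ EtCoh.pull j :=
  (EtShriek.extZeroAdj j).ofNatIsoRight (pullIsoRestr j).symm

lemma pullAdj_unit_app (F : EtCoh.Ab U) :
    (pullAdj j).unit.app F =
      (EtShriek.extZeroAdj j).unit.app F ≫ (pullIsoRestr j).inv.app ((EtShriek.extZero j).obj F) := by
  rw [← Adjunction.homEquiv_id, pullAdj, Adjunction.homEquiv_ofNatIsoRight_apply,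
    Adjunction.homEquiv_id]
  rfl

lemma pullAdj_counit_app (G : EtCoh.Ab X) :
    (pullAdj j).counit.app G =
      (EtShriek.extZero j).map ((pullIsoRestr j).hom.app G) ≫
        (EtShriek.extZeroAdj j).counit.app G := by
  rw [← Adjunction.homEquiv_symm_id, pullAdj, Adjunction.homEquiv_ofNatIsoRight_symm_apply,
    Adjunction.homEquiv_counit, Category.id_comp]
  rfl

instance isIso_pullAdj_unit_app [Mono j] (F : EtCoh.Ab U) : IsIso ((pullAdj j).unit.app F) := by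
  rw [pullAdj_unit_app]
  haveI := isIso_extZeroAdj_unit j F
  infer_instance

instance mono_pullAdj_counit_app [Mono j] (G : EtCoh.Ab X) : Mono ((pullAdj j).counit.app G) := by
  rw [pullAdj_counit_app]
  haveI := mono_extZeroAdj_counit j G
  infer_instance

instance pull_preservesInjectiveObjects : (EtCoh.pull j).PreservesInjectiveObjects :=
  ⟨fun {I} _ => pull_injective_of_etale j I⟩

end PullAdj

end Groth.Agent.H7.ES

namespace Groth.Agent.H7.ES

open Groth.Agent.H7.EX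

section MV

/-- The group `ℤ` in the universe of the coefficient category. -/
abbrev ZZ : AddCommGrpCat.{u + 1} := AddCommGrpCat.of (ULift.{u + 1} ℤ)

section L1

variable {U X : Scheme.{u}} (j : U ⟶ X)

lemma homEquiv_pullConst_inv_map (G : EtCoh.Ab X) (φ : EtCoh.const X ℤ ⟶ G) :
    (EtCore.constAdj U).homEquiv ZZ.{u} _ ((EtCore.pullConst j ℤ).inv ≫ (EtCoh.pull j).map φ) =
      (EtCore.constAdj X).homEquiv ZZ.{u} G φ ≫ res j G :=
  homEquiv_pullConstIso_inv_map j ZZ.{u} G φ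

lemma homEquiv_pullConst_inv :
    (EtCore.constAdj U).homEquiv ZZ.{u} _ (EtCore.pullConst j ℤ).inv =
      (EtCore.constAdj X).homEquiv ZZ.{u} _ (𝟙 (EtCoh.const X ℤ)) ≫ res j (EtCoh.const X ℤ) := by
  rw [← homEquiv_pullConst_inv_map, CategoryTheory.Functor.map_id, Category.comp_id]

end L1

variable {U V W X : Scheme.{u}} (jU : U ⟶ X) (jV : V ⟶ X) (a : W ⟶ U) (b : W ⟶ V) (jW : W ⟶ X)
  (wa : a ≫ jU = jW) (wb : b ≫ jV = jW)
  [AlgebraicGeometry.Etale jU] [AlgebraicGeometry.Etale jV] [AlgebraicGeometry.Etale a]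
  [AlgebraicGeometry.Etale b] [AlgebraicGeometry.Etale jW]

lemma homEquiv_ca_map (G : EtCoh.Ab X) (ξ : EtCoh.const U ℤ ⟶ (EtCoh.pull jU).obj G) :
    (EtCore.constAdj W).homEquiv ZZ.{u} _
        ((EtCore.pullConst a ℤ).inv ≫ (EtCoh.pull a).map ξ ≫ (thetaIso jU a jW wa).hom.app G) =
      (EtCore.constAdj U).homEquiv ZZ.{u} _ ξ ≫ res a ((EtCoh.pull jU).obj G) ≫
        (EtCore.gsec W).map ((thetaIso jU a jW wa).hom.app G) := by
  rw [← Category.assoc, Adjunction.homEquiv_naturality_right, homEquiv_pullConst_inv_map,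
    Category.assoc]

include wa wb in
lemma mv_hc :
    (EtCore.pullConst a ℤ).inv ≫ (EtCoh.pull a).map (EtCore.pullConst jU ℤ).inv ≫
        (thetaIso jU a jW wa).hom.app (EtCoh.const X ℤ) =
      (EtCore.pullConst b ℤ).inv ≫ (EtCoh.pull b).map (EtCore.pullConst jV ℤ).inv ≫
        (thetaIso jV b jW wb).hom.app (EtCoh.const X ℤ) := by
  apply ((EtCore.constAdj W).homEquiv ZZ.{u} _).injective
  rw [homEquiv_ca_map, homEquiv_ca_map, homEquiv_pullConst_inv, homEquiv_pullConst_inv,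
    Category.assoc, Category.assoc, ← res_eq_res_res jU a jW wa, ← res_eq_res_res jV b jW wb]

variable [Mono jU] [Mono jV] [Mono jW]

omit [Mono jU] [Mono jV] in
lemma mv_hinj'
    (hcov : ∀ x : X, (∃ u : U, jU.base u = x) ∨ (∃ v : V, jV.base v = x))
    (G : EtCoh.Ab X) (φ φ' : EtCoh.const X ℤ ⟶ G)
    (hU : (EtCore.pullConst jU ℤ).inv ≫ (EtCoh.pull jU).map φ =
      (EtCore.pullConst jU ℤ).inv ≫ (EtCoh.pull jU).map φ')
    (hV : (EtCore.pullConst jV ℤ).inv ≫ (EtCoh.pull jV).map φ =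
      (EtCore.pullConst jV ℤ).inv ≫ (EtCoh.pull jV).map φ') : φ = φ' := by
  apply ((EtCore.constAdj X).homEquiv ZZ.{u} G).injective
  have hU' := congrArg ((EtCore.constAdj U).homEquiv ZZ.{u} _) hU
  rw [homEquiv_pullConst_inv_map, homEquiv_pullConst_inv_map] at hU'
  have hV' := congrArg ((EtCore.constAdj V).homEquiv ZZ.{u} _) hV
  rw [homEquiv_pullConst_inv_map, homEquiv_pullConst_inv_map] at hV'
  refine glue_ext jU jV hcov G _ _ ?_ ?_
  · rw [← res_gammaIso jU G, ← Category.assoc, hU', Category.assoc]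
  · rw [← res_gammaIso jV G, ← Category.assoc, hV', Category.assoc]

omit [Mono jU] [Mono jV] in
lemma mv_hinj
    (hcov : ∀ x : X, (∃ u : U, jU.base u = x) ∨ (∃ v : V, jV.base v = x))
    (G : EtCoh.Ab X) (φ : EtCoh.const X ℤ ⟶ G)
    (hU : (EtCore.pullConst jU ℤ).inv ≫ (EtCoh.pull jU).map φ = 0)
    (hV : (EtCore.pullConst jV ℤ).inv ≫ (EtCoh.pull jV).map φ = 0) : φ = 0 := by
  refine mv_hinj' jU jV hcov G φ 0 ?_ ?_
  · rw [hU, Functor.map_zero, comp_zero]
  · rw [hV, Functor.map_zero, comp_zero]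

lemma mv_hglue (hpb : IsPullback a b jU jV)
    (hcov : ∀ x : X, (∃ u : U, jU.base u = x) ∨ (∃ v : V, jV.base v = x))
    (G : EtCoh.Ab X) (ξU : EtCoh.const U ℤ ⟶ (EtCoh.pull jU).obj G)
    (ξV : EtCoh.const V ℤ ⟶ (EtCoh.pull jV).obj G)
    (h : (EtCore.pullConst a ℤ).inv ≫ (EtCoh.pull a).map ξU ≫ (thetaIso jU a jW wa).hom.app G =
      (EtCore.pullConst b ℤ).inv ≫ (EtCoh.pull b).map ξV ≫ (thetaIso jV b jW wb).hom.app G) :
    ∃ φ : EtCoh.const X ℤ ⟶ G, (EtCore.pullConst jU ℤ).inv ≫ (EtCoh.pull jU).map φ = ξU ∧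
      (EtCore.pullConst jV ℤ).inv ≫ (EtCoh.pull jV).map φ = ξV := by
  have h' := congrArg ((EtCore.constAdj W).homEquiv ZZ.{u} _) h
  rw [homEquiv_ca_map, homEquiv_ca_map] at h'
  have h2 : ((EtCore.constAdj U).homEquiv ZZ.{u} _ ξU ≫ (gammaIso jU G).hom) ≫
        evalMap jU a jW wa G =
      ((EtCore.constAdj V).homEquiv ZZ.{u} _ ξV ≫ (gammaIso jV G).hom) ≫
        evalMap jV b jW wb G := by
    rw [Category.assoc, Category.assoc, ← res_theta_gammaIso jU a jW wa G,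
      ← res_theta_gammaIso jV b jW wb G]
    have := congrArg (· ≫ (gammaIso jW G).hom) h'
    simpa only [Category.assoc] using this
  obtain ⟨x, hxU, hxV⟩ := exists_glue jU jV a b jW wa wb hpb hcov G _ _ h2
  refine ⟨((EtCore.constAdj X).homEquiv ZZ.{u} G).symm x, ?_, ?_⟩
  · apply ((EtCore.constAdj U).homEquiv ZZ.{u} _).injective
    rw [homEquiv_pullConst_inv_map, Equiv.apply_symm_apply,
      ← cancel_mono (gammaIso jU G).hom, Category.assoc, res_gammaIso]
    exact hxU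
  · apply ((EtCore.constAdj V).homEquiv ZZ.{u} _).injective
    rw [homEquiv_pullConst_inv_map, Equiv.apply_symm_apply,
      ← cancel_mono (gammaIso jV G).hom, Category.assoc, res_gammaIso]
    exact hxV

instance mono_transAlpha :
    Mono (transAlpha (thetaIso jU a jW wa) (pullAdj jU) (pullAdj jW)
      (EtCore.pullConst a ℤ).inv) :=
  transAlpha'_mono (thetaIso jU a jW wa) (pullAdj jU) (pullAdj jW) (EtCore.pullConst a ℤ).inv

/-- Mayer–Vietoris for two étale monomorphisms `U → X`, `V → X` covering `X`, with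
`W = U ×_X V`. -/
theorem mv_etale (hpb : IsPullback a b jU jV)
    (hcov : ∀ x : X, (∃ u : U, jU.base u = x) ∨ (∃ v : V, jV.base v = x)) (F : EtCoh.Ab X) :
    ∃ δ : ∀ n : ℕ, EtCoh.H W ((EtCoh.pull jW).obj F) n →+ EtCoh.H X F (n + 1),
      (∀ x : EtCoh.H X F 0, EtCore.Hpull jU F 0 x = 0 → EtCore.Hpull jV F 0 x = 0 → x = 0) ∧
      (∀ (n : ℕ) (x : EtCoh.H X F (n + 1)),
        (EtCore.Hpull jU F (n + 1) x = 0 ∧ EtCore.Hpull jV F (n + 1) x = 0) ↔ ∃ t, δ n t = x) ∧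
      (∀ (n : ℕ) (y : EtCoh.H U ((EtCoh.pull jU).obj F) n)
        (z : EtCoh.H V ((EtCoh.pull jV).obj F) n),
        EtCore.HpullVia a jU jW wa F n y - EtCore.HpullVia b jV jW wb F n z = 0 ↔
          ∃ x, EtCore.Hpull jU F n x = y ∧ EtCore.Hpull jV F n x = z) ∧
      (∀ (n : ℕ) (t : EtCoh.H W ((EtCoh.pull jW).obj F) n),
        δ n t = 0 ↔ ∃ y z,
          EtCore.HpullVia a jU jW wa F n y - EtCore.HpullVia b jV jW wb F n z = t) := by
  have w := transAlpha_transEps (thetaIso jU a jW wa) (thetaIso jV b jW wb)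
    (pullAdj jU) (pullAdj jV) (pullAdj jW)
    (EtCore.pullConst jU ℤ).inv (EtCore.pullConst jV ℤ).inv
    (EtCore.pullConst a ℤ).inv (EtCore.pullConst b ℤ).inv (mv_hc jU jV a b jW wa wb)
  have hS := mvSC_shortExact (thetaIso jU a jW wa) (thetaIso jV b jW wb)
    (pullAdj jU) (pullAdj jV) (pullAdj jW)
    (EtCore.pullConst jU ℤ).inv (EtCore.pullConst jV ℤ).inv
    (EtCore.pullConst a ℤ).inv (EtCore.pullConst b ℤ).inv w
    (mv_hinj jU jV hcov) (mv_hglue jU jV a b jW wa wb hpb hcov)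
  exact mv_abstract (thetaIso jU a jW wa) (thetaIso jV b jW wb)
    (pullAdj jU) (pullAdj jV) (pullAdj jW)
    (EtCore.pullConst jU ℤ).inv (EtCore.pullConst jV ℤ).inv
    (EtCore.pullConst a ℤ).inv (EtCore.pullConst b ℤ).inv w hS F

end MV

end Groth.Agent.H7.ES
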