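import Mathlib
import Groth.Prelude.Def_BigSite

set_option autoImplicit false

universe v' u' u

open CategoryTheory CategoryTheory.Limits Opposite AlgebraicGeometry

namespace Groth.Agent.H7.BS

section

variable {C : Type*} [Category C] {X Y : C} (f : X ⟶ Y)

instance over_map_faithful : (Over.map f).Faithful where
  map_injective {U V} a b h := by
    ext
    have := congrArg (fun m => m.left) h
    simpa using this

instance over_map_full [Mono f] : (Over.map f).Full where
  map_surjective {U V} h := by
    refine ⟨Over.homMk h.left ?_, ?_⟩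
    · have := Over.w h
      simp only [Over.map_obj_hom] at this
      rw [← Category.assoc] at this
      exact (cancel_mono f).1 this
    · ext
      simp

end

variable {X Y : Scheme.{u}} (f : X ⟶ Y) (K : Precoverage Scheme.{u})
  (A : Type u') [Category.{v'} A]

theorem counit_isIso_of_mono [Mono f] (F : Sheaf (QuotSh.J K X) A) :
    IsIso ((BigSite.bigAdj K f A).counit.app F) := by
  have h1 : IsIso ((sheafToPresheaf _ _).map ((BigSite.bigAdj K f A).counit.app F)) := by
    apply (config := { allowSynthFailures := true }) NatIso.isIso_of_isIso_app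
    intro U
    have : IsIso ((Over.mapPullbackAdj f).unit.app U.unop) := inferInstance
    have e : ((BigSite.bigAdj K f A).counit.app F).hom.app U =
        F.obj.map ((Over.mapPullbackAdj f).unit.app U.unop).op := by
      simp [BigSite.bigAdj]
    show IsIso (((BigSite.bigAdj K f A).counit.app F).hom.app U)
    rw [e]
    have h2 : IsIso ((Over.mapPullbackAdj f).unit.app U.unop).op := inferInstance
    exact Functor.map_isIso _ _
  exact isIso_of_reflects_iso _ (sheafToPresheaf _ _)

section BaseChange

variable {C : Type*} [Category C] [HasPullbacks C] {S T S' T' : C} {f : T ⟶ S} {g : S' ⟶ S}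
  {g' : T' ⟶ T} {f' : T' ⟶ S'} (hsq : IsPullback g' f' f g)

include hsq in
/-- The pasted pullback square for an object `U'` over `S'`. -/
lemma pasted (U' : Over S') :
    IsPullback (pullback.fst U'.hom f') (pullback.snd U'.hom f' ≫ g') (U'.hom ≫ g) f :=
  ((IsPullback.of_hasPullback U'.hom f').flip.paste_horiz hsq).flip

/-- Base change: `Over.pullback f' ⋙ Over.map g' ≅ Over.map g ⋙ Over.pullback f`. -/
noncomputable def bcIso : Over.pullback f' ⋙ Over.map g' ≅ Over.map g ⋙ Over.pullback f :=
  NatIso.ofComponents
    (fun U' => Over.isoMk (pasted hsq U').isoPullback (by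
      dsimp
      exact (pasted hsq U').isoPullback_hom_snd))
    (by
      intro U' V' h
      apply Over.OverMorphism.ext
      dsimp
      apply pullback.hom_ext
      · simp only [Over.isoMk_hom_left, Over.pullback_map_left, Over.map_map_left, Category.assoc,
          Over.map_obj_hom]
        rw [(pasted hsq V').isoPullback_hom_fst,
          pullback.lift_fst, pullback.lift_fst, (pasted hsq U').isoPullback_hom_fst_assoc]
      · simp only [Over.isoMk_hom_left, Over.pullback_map_left, Over.map_map_left, Category.assoc,
          Over.map_obj_hom]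
        rw [(pasted hsq V').isoPullback_hom_snd,
          pullback.lift_snd_assoc, pullback.lift_snd, (pasted hsq U').isoPullback_hom_snd])

end BaseChange

/-- Base change for big sites: `g_big⁻¹ f_big,* ≅ f'_big,* g'_big⁻¹`. -/
noncomputable def bigBaseChange (K : Precoverage Scheme.{u}) {S T S' T' : Scheme.{u}}
    {f : T ⟶ S} {g : S' ⟶ S} {g' : T' ⟶ T} {f' : T' ⟶ S'} (hsq : IsPullback g' f' f g)
    (A : Type u') [Category.{v'} A] :
    BigSite.pushBig K f A ⋙ BigSite.pullBig K g A ≅
      BigSite.pullBig K g' A ⋙ BigSite.pushBig K f' A :=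
  haveI : (Over.pullback f' ⋙ Over.map g').IsContinuous (QuotSh.J K S') (QuotSh.J K T) :=
    Functor.isContinuous_comp _ _ _ (QuotSh.J K T') _
  Functor.sheafPushforwardContinuousComp' (F := Over.map g) (G := Over.pullback f)
      (bcIso hsq).symm A (QuotSh.J K S') (QuotSh.J K S) (QuotSh.J K T) ≪≫
    (Functor.sheafPushforwardContinuousComp (Over.pullback f') (Over.map g') A
      (QuotSh.J K S') (QuotSh.J K T') (QuotSh.J K T)).symm

theorem S12464_main {S T S' T' : Scheme.{u}} (f : T ⟶ S) (g : S' ⟶ S) (g' : T' ⟶ T)
    (f' : T' ⟶ S') (hsq : IsPullback g' f' f g) (A : Type u') [Category.{v'} A] :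
    Nonempty (BigSite.pushBig Scheme.zariskiPrecoverage f A ⋙
        BigSite.pullBig Scheme.zariskiPrecoverage g A ≅
        BigSite.pullBig Scheme.zariskiPrecoverage g' A ⋙
          BigSite.pushBig Scheme.zariskiPrecoverage f' A) ∧
      Nonempty (BigSite.pushBig Scheme.etalePrecoverage f A ⋙
        BigSite.pullBig Scheme.etalePrecoverage g A ≅
        BigSite.pullBig Scheme.etalePrecoverage g' A ⋙
          BigSite.pushBig Scheme.etalePrecoverage f' A) :=
  ⟨⟨bigBaseChange _ hsq A⟩, ⟨bigBaseChange _ hsq A⟩⟩

theorem S6637_main {X Y : Scheme.{u}} (f : X ⟶ Y) [Mono f] (K : Precoverage Scheme.{u}) :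
    (∀ F : QuotSh.Sh K X, IsIso ((BigSite.bigAdj K f (Type (u + 1))).counit.app F)) ∧
      (∀ F : BigSite.Ab K X, IsIso ((BigSite.bigAdj K f AddCommGrpCat.{u + 1}).counit.app F)) :=
  ⟨fun F => counit_isIso_of_mono f K _ F, fun F => counit_isIso_of_mono f K _ F⟩

end Groth.Agent.H7.BS
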