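import Mathlib
import Groth.Prelude.Def_EtShriek2
import Groth.Agent.Lib.Helper7.ES1
import Groth.Agent.Lib.Helper7.ES2
import Groth.Agent.Lib.Helper7.BS1

set_option autoImplicit false

universe u

open CategoryTheory CategoryTheory.Limits Opposite AlgebraicGeometry

namespace Groth.Agent.H7.ES

section

variable {V' V Y X : Scheme.{u}} (j : V ⟶ X) [AlgebraicGeometry.Etale j]
    (f : Y ⟶ X) (j' : V' ⟶ Y) [AlgebraicGeometry.Etale j'] (f' : V' ⟶ V)
    (h : IsPullback j' f' f j)

set_option backward.isDefEq.respectTransparency.types false in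
/-- Base change and composition of small étale sites commute for a cartesian square. -/
noncomputable def bcCompIso :
    EtCoh.bc f' ⋙ EtShriek.compEtale j' ≅ EtShriek.compEtale j ⋙ EtCoh.bc f :=
  Functor.fullyFaithfulCancelRight (Scheme.Etale.forget Y)
    (Functor.associator _ _ _ ≪≫
      Functor.isoWhiskerLeft (EtCoh.bc f')
        (Iso.refl _ : EtShriek.compEtale j' ⋙ Scheme.Etale.forget Y ≅
          Scheme.Etale.forget V' ⋙ Over.map j') ≪≫
      (Functor.associator _ _ _).symm ≪≫
      Functor.isoWhiskerRight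
        (MorphismProperty.Over.pullbackCompForgetIso (P := EtCoh.etaleMP) (Q := ⊤) f') (Over.map j') ≪≫
      Functor.associator _ _ _ ≪≫
      Functor.isoWhiskerLeft (Scheme.Etale.forget V) (Groth.Agent.H7.BS.bcIso h) ≪≫
      (Functor.associator _ _ _).symm ≪≫
      Functor.isoWhiskerRight
        (Iso.refl _ : Scheme.Etale.forget V ⋙ Over.map j ≅
          EtShriek.compEtale j ⋙ Scheme.Etale.forget X) (Over.pullback f) ≪≫
      Functor.associator _ _ _ ≪≫
      Functor.isoWhiskerLeft (EtShriek.compEtale j)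
        (MorphismProperty.Over.pullbackCompForgetIso (P := EtCoh.etaleMP) (Q := ⊤) f).symm ≪≫
      (Functor.associator _ _ _).symm)

variable [EtShriek.JCont j] [EtShriek.JCont j']

set_option backward.isDefEq.respectTransparency.types false in
/-- `f'_* j'⁻¹ ≅ j⁻¹ f_*`. -/
noncomputable def restrPushIso :
    EtShriek.restrAlong j' ⋙ EtCoh.push f' ≅ EtCoh.push f ⋙ EtShriek.restrAlong j :=
  haveI : (EtShriek.compEtale j ⋙ EtCoh.bc f).IsContinuous V.smallEtaleTopology
      Y.smallEtaleTopology := Functor.isContinuous_comp _ _ _ X.smallEtaleTopology _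
  Functor.sheafPushforwardContinuousComp' (F := EtCoh.bc f') (G := EtShriek.compEtale j')
      (FG := EtShriek.compEtale j ⋙ EtCoh.bc f) (bcCompIso j f j' f' h)
      AddCommGrpCat.{u + 1} V.smallEtaleTopology V'.smallEtaleTopology Y.smallEtaleTopology ≪≫
    (Functor.sheafPushforwardContinuousComp (EtShriek.compEtale j) (EtCoh.bc f)
      AddCommGrpCat.{u + 1} V.smallEtaleTopology X.smallEtaleTopology Y.smallEtaleTopology).symm

include h in
theorem S649_main :
    Nonempty (EtCoh.pull f' ⋙ EtShriek.extZero j' ≅ EtShriek.extZero j ⋙ EtCoh.pull f) :=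
  ⟨(((EtCoh.pullPushAdj f').comp (EtShriek.extZeroAdj j')).ofNatIsoRight
    (restrPushIso j f j' f' h)).leftAdjointUniq
      ((EtShriek.extZeroAdj j).comp (EtCoh.pullPushAdj f))⟩

end

end Groth.Agent.H7.ES
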