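import Mathlib
import Groth.Agent.Lib.Helper7.EX3

set_option autoImplicit false

universe w₁ w₂ w₃ w₄ v₁ v₂ v₃ v₄ u₁ u₂ u₃ u₄

open CategoryTheory CategoryTheory.Limits Abelian

namespace Groth.Agent.H7.EX

section HomSurj

variable {X : Type u₁} [Category.{v₁} X] [Abelian X] [HasExt.{w₁} X] [EnoughInjectives X]
  {U : Type u₂} [Category.{v₂} U] [Abelian U] [HasExt.{w₂} U]
  {V : Type u₄} [Category.{v₄} V] [Abelian V] [HasExt.{w₄} V]
  {W : Type u₃} [Category.{v₃} W] [Abelian W] [HasExt.{w₃} W]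
  {RU : X ⥤ U} {RV : X ⥤ V} {Ra : U ⥤ W} {Rb : V ⥤ W} {RW : X ⥤ W}
  [RU.Additive] [PreservesFiniteLimits RU] [PreservesFiniteColimits RU]
  [RV.Additive] [PreservesFiniteLimits RV] [PreservesFiniteColimits RV]
  [Ra.Additive] [PreservesFiniteLimits Ra] [PreservesFiniteColimits Ra]
  [Rb.Additive] [PreservesFiniteLimits Rb] [PreservesFiniteColimits Rb]
  [RW.Additive] [PreservesFiniteLimits RW] [PreservesFiniteColimits RW]
  (θa : RU ⋙ Ra ≅ RW) (θb : RV ⋙ Rb ≅ RW)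
  {LU : U ⥤ X} (adjU : LU ⊣ RU) {LV : V ⥤ X} (adjV : LV ⊣ RV) {LW : W ⥤ X} (adjW : LW ⊣ RW)
  {zX : X} {zU : U} {zV : V} {zW : W}
  (cU : zU ⟶ RU.obj zX) (cV : zV ⟶ RV.obj zX) (ca : zW ⟶ Ra.obj zU) (cb : zW ⟶ Rb.obj zV)

/-- Hom-level surjectivity in the Mayer–Vietoris situation: if `Ext¹(z_X, G) = 0`, every
`z_W ⟶ R_W G` is a difference of restrictions. -/
theorem mv_hom_surj
    (w : transAlpha θa adjU adjW ca ≫ transEps adjU cU =
      transAlpha θb adjV adjW cb ≫ transEps adjV cV)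
    (hS : (mvSC (transAlpha θa adjU adjW ca) (transAlpha θb adjV adjW cb)
      (transEps adjU cU) (transEps adjV cV) w).ShortExact)
    (G : X) [Subsingleton (Ext zX G 1)] (ξW : zW ⟶ RW.obj G) :
    ∃ (ξU : zU ⟶ RU.obj G) (ξV : zV ⟶ RV.obj G),
      ca ≫ Ra.map ξU ≫ θa.hom.app G - cb ≫ Rb.map ξV ≫ θb.hom.app G = ξW := by
  haveI : LW.Additive := adjW.left_adjoint_additive
  obtain ⟨x₂, hx₂⟩ := Ext.contravariant_sequence_exact₁ hS G
    (Ext.mk₀ ((adjW.homEquiv _ _).symm ξW)) (zero_add 1)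
    (@Subsingleton.elim (Ext zX G 1) _ _ _)
  obtain ⟨ψ, rfl⟩ := Ext.mk₀_bijective _ _ |>.2 x₂
  rw [Ext.mk₀_comp_mk₀] at hx₂
  have hψ : biprod.lift (transAlpha θa adjU adjW ca) (-transAlpha θb adjV adjW cb) ≫ ψ =
      (adjW.homEquiv _ _).symm ξW := (Ext.mk₀_bijective _ _).1 hx₂
  refine ⟨adjU.homEquiv _ _ (biprod.inl ≫ ψ), adjV.homEquiv _ _ (biprod.inr ≫ ψ), ?_⟩
  rw [← homEquiv_transAlpha_comp, ← homEquiv_transAlpha_comp]
  have e : biprod.lift (transAlpha θa adjU adjW ca) (-transAlpha θb adjV adjW cb) =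
      transAlpha θa adjU adjW ca ≫ biprod.inl - transAlpha θb adjV adjW cb ≫ biprod.inr := by
    apply biprod.hom_ext <;> simp
  rw [e, Preadditive.sub_comp, Category.assoc, Category.assoc] at hψ
  have := congrArg (adjW.homAddEquiv zW G) hψ
  rw [map_sub] at this
  refine this.trans ?_
  exact Equiv.apply_symm_apply _ _

end HomSurj

end Groth.Agent.H7.EX
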