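import Mathlib
import Groth.Prelude.Def_EtShriek2
import Groth.Agent.Lib.Helper7.ES13
import Groth.Agent.Lib.Helper7.EX5

set_option autoImplicit false

universe u

open CategoryTheory CategoryTheory.Limits Opposite AlgebraicGeometry Abelian

namespace Groth.Agent.H7.ES

open Groth.Agent.H7.EX

section MVSurj

variable {U V W X : Scheme.{u}} (jU : U ⟶ X) (jV : V ⟶ X) (a : W ⟶ U) (b : W ⟶ V) (jW : W ⟶ X)
  (wa : a ≫ jU = jW) (wb : b ≫ jV = jW)
  [AlgebraicGeometry.Etale jU] [AlgebraicGeometry.Etale jV] [AlgebraicGeometry.Etale a]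
  [AlgebraicGeometry.Etale b] [AlgebraicGeometry.Etale jW]
  [Mono jU] [Mono jV] [Mono jW]

/-- Hom-level: if `H¹(X, G) = 0`, every `ℤ_W ⟶ j_W⁻¹ G` is a difference of restrictions. -/
theorem mv_hom_surj_etale (hpb : IsPullback a b jU jV)
    (hcov : ∀ x : X, (∃ u : U, jU.base u = x) ∨ (∃ v : V, jV.base v = x)) (G : EtCoh.Ab X)
    [Subsingleton (EtCoh.H X G 1)] (ξW : EtCoh.const W ℤ ⟶ (EtCoh.pull jW).obj G) :
    ∃ (ξU : EtCoh.const U ℤ ⟶ (EtCoh.pull jU).obj G)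
      (ξV : EtCoh.const V ℤ ⟶ (EtCoh.pull jV).obj G),
      (EtCore.pullConst a ℤ).inv ≫ (EtCoh.pull a).map ξU ≫ (thetaIso jU a jW wa).hom.app G -
        (EtCore.pullConst b ℤ).inv ≫ (EtCoh.pull b).map ξV ≫ (thetaIso jV b jW wb).hom.app G =
          ξW := by
  have w := transAlpha_transEps (thetaIso jU a jW wa) (thetaIso jV b jW wb)
    (pullAdj jU) (pullAdj jV) (pullAdj jW)
    (EtCore.pullConst jU ℤ).inv (EtCore.pullConst jV ℤ).inv
    (EtCore.pullConst a ℤ).inv (EtCore.pullConst b ℤ).inv (mv_hc jU jV a b jW wa wb)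
  have hS := mvSC_shortExact (thetaIso jU a jW wa) (thetaIso jV b jW wb)
    (pullAdj jU) (pullAdj jV) (pullAdj jW)
    (EtCore.pullConst jU ℤ).inv (EtCore.pullConst jV ℤ).inv
    (EtCore.pullConst a ℤ).inv (EtCore.pullConst b ℤ).inv w
    (mv_hinj jU jV hcov) (mv_hglue jU jV a b jW wa wb hpb hcov)
  haveI : Subsingleton (Ext (EtCoh.const X ℤ) G 1) := ‹Subsingleton (EtCoh.H X G 1)›
  exact mv_hom_surj (thetaIso jU a jW wa) (thetaIso jV b jW wb)
    (pullAdj jU) (pullAdj jV) (pullAdj jW)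
    (EtCore.pullConst jU ℤ).inv (EtCore.pullConst jV ℤ).inv
    (EtCore.pullConst a ℤ).inv (EtCore.pullConst b ℤ).inv w hS G ξW

/-- Section-level (morphisms from `ℤ`): if `H¹(X, G) = 0`, every section over `W` is a
difference of restrictions of sections over `U` and `V`. -/
theorem mv_sec_surj (hpb : IsPullback a b jU jV)
    (hcov : ∀ x : X, (∃ u : U, jU.base u = x) ∨ (∃ v : V, jV.base v = x)) (G : EtCoh.Ab X)
    [Subsingleton (EtCoh.H X G 1)]
    (σ : ZZ.{u} ⟶ (EtCore.gsec W).obj ((EtShriek.restrAlong jW).obj G)) :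
    ∃ (σU : ZZ.{u} ⟶ (EtCore.gsec U).obj ((EtShriek.restrAlong jU).obj G))
      (σV : ZZ.{u} ⟶ (EtCore.gsec V).obj ((EtShriek.restrAlong jV).obj G)),
      σU ≫ evalMap jU a jW wa G - σV ≫ evalMap jV b jW wb G = σ := by
  obtain ⟨ξU, ξV, h⟩ := mv_hom_surj_etale jU jV a b jW wa wb hpb hcov G
    (((EtCore.constAdj W).homEquiv ZZ.{u} _).symm (σ ≫ (gammaIso jW G).inv))
  refine ⟨(EtCore.constAdj U).homEquiv ZZ.{u} _ ξU ≫ (gammaIso jU G).hom,
    (EtCore.constAdj V).homEquiv ZZ.{u} _ ξV ≫ (gammaIso jV G).hom, ?_⟩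
  have h' := congrArg ((EtCore.constAdj W).homAddEquiv ZZ.{u} _) h
  rw [map_sub] at h'
  have h'' : (EtCore.constAdj W).homEquiv ZZ.{u} _
        ((EtCore.pullConst a ℤ).inv ≫ (EtCoh.pull a).map ξU ≫ (thetaIso jU a jW wa).hom.app G) -
      (EtCore.constAdj W).homEquiv ZZ.{u} _
        ((EtCore.pullConst b ℤ).inv ≫ (EtCoh.pull b).map ξV ≫ (thetaIso jV b jW wb).hom.app G) =
      σ ≫ (gammaIso jW G).inv := h'.trans (Equiv.apply_symm_apply _ _)
  rw [homEquiv_ca_map, homEquiv_ca_map] at h''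
  have h3 := congrArg (· ≫ (gammaIso jW G).hom) h''
  simp only [Preadditive.sub_comp, Category.assoc, Iso.inv_hom_id, Category.comp_id] at h3
  rw [res_theta_gammaIso jU a jW wa G, res_theta_gammaIso jV b jW wb G] at h3
  simpa only [Category.assoc] using h3

/-- The morphism `ℤ ⟶ A` picking out an element. -/
noncomputable def zzHom (A : AddCommGrpCat.{u + 1}) (s : A) : ZZ.{u} ⟶ A :=
  AddCommGrpCat.ofHom ((zmultiplesHom A s).comp AddEquiv.ulift.toAddMonoidHom)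

lemma zzHom_one (A : AddCommGrpCat.{u + 1}) (s : A) : (zzHom A s).hom ⟨1⟩ = s := by
  change (AddEquiv.ulift (⟨1⟩ : ULift.{u + 1} ℤ)) • s = s
  exact one_smul ℤ s

/-- Element-level: if `H¹(X, G) = 0`, every section over `W` is a difference of restrictions of
sections over `U` and `V`. -/
theorem mv_elt_surj (hpb : IsPullback a b jU jV)
    (hcov : ∀ x : X, (∃ u : U, jU.base u = x) ∨ (∃ v : V, jV.base v = x)) (G : EtCoh.Ab X)
    [Subsingleton (EtCoh.H X G 1)] (s : G.obj.obj (op (etObj jW))) :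
    ∃ (sU : G.obj.obj (op (etObj jU))) (sV : G.obj.obj (op (etObj jV))),
      (G.obj.map (etObjMap jU a jW wa).op).hom sU - (G.obj.map (etObjMap jV b jW wb).op).hom sV =
        s := by
  obtain ⟨σU, σV, h⟩ := mv_sec_surj jU jV a b jW wa wb hpb hcov G
    (zzHom ((EtCore.gsec W).obj ((EtShriek.restrAlong jW).obj G)) s)
  refine ⟨σU.hom ⟨1⟩, σV.hom ⟨1⟩, ?_⟩
  have := congrArg (fun t => t.hom (⟨1⟩ : ULift.{u + 1} ℤ)) h
  refine Eq.trans ?_ (this.trans (zzHom_one _ s))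
  rfl

end MVSurj

end Groth.Agent.H7.ES
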