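import Mathlib
import Groth.Prelude.Def_BigSite

set_option autoImplicit false

universe u

open CategoryTheory CategoryTheory.Limits Opposite AlgebraicGeometry

namespace Groth.Agent.H7.BS

section General

variable {C : Type*} [Category C] [Abelian C] [HasInjectiveResolutions C]
  {D : Type*} [Category D] [Abelian D]

lemma isZero_rightDerived_succ_of_exact (F : C ⥤ D) [F.Additive] [PreservesFiniteLimits F]
    [PreservesFiniteColimits F] (X : C) (n : ℕ) :
    IsZero ((F.rightDerived (n + 1)).obj X) := by
  let P := injectiveResolution X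
  refine IsZero.of_iso ?_ (P.isoRightDerivedObj F (n + 1))
  have h := P.cocomplex_exactAt_succ n
  change IsZero (((F.mapHomologicalComplex _).obj P.cocomplex).homology (n + 1))
  rw [← HomologicalComplex.exactAt_iff_isZero_homology]
  exact (h.map F : ((P.cocomplex.sc (n + 1)).map F).Exact)

end General

theorem isZero_RresEt_etale (S : Scheme.{u}) (G : BigSite.Ab Scheme.etalePrecoverage S) (q : ℕ)
    (hq : 0 < q) :
    IsZero ((BigSite.RresEt Scheme.etalePrecoverage S q).obj G) := by
  obtain ⟨n, rfl⟩ : ∃ n, q = n + 1 := ⟨q - 1, by omega⟩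
  haveI : PreservesLimitsOfSize.{0, 0} (BigSite.resEt Scheme.etalePrecoverage S) :=
    (BigSite.piEtAdj Scheme.etalePrecoverage S).rightAdjoint_preservesLimits
  haveI : PreservesColimitsOfSize.{0, 0} (BigSite.resEt Scheme.etalePrecoverage S) :=
    (BigSite.iEtAdj Scheme.etalePrecoverage S).leftAdjoint_preservesColimits
  haveI : PreservesFiniteLimits (BigSite.resEt Scheme.etalePrecoverage S) :=
    PreservesLimitsOfSize.preservesFiniteLimits _
  haveI : PreservesFiniteColimits (BigSite.resEt Scheme.etalePrecoverage S) :=
    PreservesColimitsOfSize.preservesFiniteColimits _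
  exact isZero_rightDerived_succ_of_exact _ G n

theorem S6688_main (S : Scheme.{u}) (F : EtCoh.Ab S) (q : ℕ) (hq : 0 < q) :
    IsZero ((BigSite.RresEt Scheme.etalePrecoverage S q).obj
      ((BigSite.piEtPull Scheme.etalePrecoverage S).obj F)) :=
  isZero_RresEt_etale S _ q hq

end Groth.Agent.H7.BS
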