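import Groth.Agent.Lib.Helper7.UTCon
import Mathlib

set_option autoImplicit false
universe u

open AlgebraicGeometry CategoryTheory Limits TensorProduct

namespace Groth.Agent.H7.UTCon

open Groth.Agent.H5.Thick

theorem ker_eq_bot_of_subsingleton_tensor {A B : Type u} [CommRing A] [CommRing B] [Algebra A B]
    (hs : Function.Surjective (algebraMap A B))
    (hK : ∀ x y, x ∈ RingHom.ker (algebraMap A B) → y ∈ RingHom.ker (algebraMap A B) → x * y = 0)
    [Subsingleton (B ⊗[A] (RingHom.ker (algebraMap A B)))] :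
    RingHom.ker (algebraMap A B) = ⊥ := by
  set K := RingHom.ker (algebraMap A B) with hKdef
  have hex : Function.Exact (Submodule.subtype (K.restrictScalars A)) (Algebra.linearMap A B) := by
    intro x
    constructor
    · intro hx
      exact ⟨⟨x, hx⟩, rfl⟩
    · rintro ⟨y, rfl⟩
      exact y.2
  have hex2 := rTensor_exact K hex hs
  rw [eq_bot_iff]
  intro k hk
  have h0 : (Algebra.linearMap A B).rTensor K ((1 : A) ⊗ₜ[A] (⟨k, hk⟩ : K)) = 0 :=
    Subsingleton.elim _ _
  obtain ⟨z, hz⟩ := (hex2 _).mp h0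
  have hzero : (TensorProduct.lid A K).toLinearMap ∘ₗ
      (Submodule.subtype (K.restrictScalars A)).rTensor K = 0 := by
    apply TensorProduct.ext'
    intro x y
    apply Subtype.ext
    simpa using hK x.1 y.1 x.2 y.2
  have h1 := congrArg (fun φ => φ z) hzero
  simp only [LinearMap.comp_apply, LinearMap.zero_apply] at h1
  rw [hz] at h1
  have h2 : (⟨k, hk⟩ : K) = 0 := by simpa using h1
  simpa using congrArg Subtype.val h2

end Groth.Agent.H7.UTCon

namespace Groth.Agent.H7.UTCon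

open Groth.Agent.H5.Thick Groth.Agent.LD.QC

theorem isZero_idealMod_bot (X : Scheme.{u}) :
    IsZero (ClSub.idealMod (⊥ : X.IdealSheafData)) := by
  apply isZero_of_affine_cover
  intro x
  obtain ⟨_, ⟨U, hU, rfl⟩, hxU, -⟩ := X.isBasis_affineOpens.exists_subset_of_mem_open
    (Set.mem_univ x) isOpen_univ
  refine ⟨U, hU, hxU, fun s => ?_⟩
  apply (idealModSectionsEquiv (⊥ : X.IdealSheafData) ⟨U, hU⟩).injective
  apply Subtype.ext
  have key : ∀ (J : Ideal Γ(X, U)) (y : J), J = ⊥ → (y : Γ(X, U)) = 0 := by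
    rintro J y rfl
    exact (Ideal.mem_bot).mp y.2
  rw [map_zero]
  exact key _ _ (by rw [Scheme.IdealSheafData.ideal_bot, Pi.bot_apply])

theorem isZero_conormal_of_isIso {Z X : Scheme.{u}} (i : Z ⟶ X) [IsIso i] :
    IsZero (Omega.conormal i) := by
  unfold Omega.conormal
  rw [i.ker_eq_bot_of_isIso]
  exact (Scheme.Modules.pullback i).map_isZero (isZero_idealMod_bot X)

theorem subsingleton_sections_of_isZero {X : Scheme.{u}} (M : X.Modules) (h : IsZero M)
    (V : X.Opens) : Subsingleton Γ(M, V) := by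
  refine subsingleton_of_forall_eq 0 (fun s => ?_)
  have h1 : (𝟙 M : M ⟶ M) = 0 := h.eq_of_src _ _
  have h2 := congrArg (fun φ : M ⟶ M => φ.app V s) h1
  simpa using h2

end Groth.Agent.H7.UTCon

namespace Groth.Agent.H7.UTCon

open Groth.Agent.H5.Thick Groth.Agent.LD.QC

theorem isIso_of_isZero_conormal {Z X : Scheme.{u}} (i : Z ⟶ X)
    (hi : MoreMor.IsFirstOrderThickening i) (h0 : IsZero (Omega.conormal i)) : IsIso i := by
  haveI : IsClosedImmersion i := hi.1.1
  rw [IsClosedImmersion.isIso_iff_ker_eq_bot]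
  ext U : 2
  rw [Scheme.IdealSheafData.ideal_bot, Pi.bot_apply]
  have hle : U.1 ≤ i.coborderRange := by
    intro x _
    change x ∈ coborder (Set.range i)
    rw [i.isClosedEmbedding.isClosed_range.coborder_eq]
    trivial
  obtain ⟨hsurj, σ, Ξ, -, -⟩ := Groth.Agent.H3.Om.conormal_chart i U.2 hle
  letI := (i.appLE U.1 (i ⁻¹ᵁ U.1) le_rfl).hom.toAlgebra
  haveI : Subsingleton Γ(Omega.conormal i, i ⁻¹ᵁ U.1) := subsingleton_sections_of_isZero _ h0 _
  haveI : Subsingleton (Γ(Z, i ⁻¹ᵁ U.1) ⊗[Γ(X, U.1)]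
      RingHom.ker (algebraMap Γ(X, U.1) Γ(Z, i ⁻¹ᵁ U.1))) := Ξ.toEquiv.subsingleton
  have hker : i.ker.ideal U = RingHom.ker (algebraMap Γ(X, U.1) Γ(Z, i ⁻¹ᵁ U.1)) := by
    have hmap : algebraMap Γ(X, U.1) Γ(Z, i ⁻¹ᵁ U.1) = (i.app U.1).hom :=
      congrArg CommRingCat.Hom.hom (Scheme.Hom.appLE_eq_app i)
    rw [hmap]; exact Scheme.Hom.ker_apply i U
  rw [hker]
  apply ker_eq_bot_of_subsingleton_tensor hsurj
  intro x y hx hy
  have h3 : x * y ∈ (i.ker * i.ker).ideal U := by
    rw [Scheme.IdealSheafData.ideal_mul]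
    exact Ideal.mul_mem_mul (hker ▸ hx) (hker ▸ hy)
  rw [hi.2] at h3
  simpa using h3

theorem S9750_main {X S : Scheme.{u}} (f : X ⟶ S) :
    (MoreMor.IsFormallyEtaleHom f ↔ FormallyUnramified f ∧ OmegaSh.IsUnivThickening f (𝟙 X) f) ∧
    (∀ {X' : Scheme.{u}} (i : X ⟶ X') (h' : X' ⟶ S) [QuasiCompact i], FormallyUnramified f →
      OmegaSh.IsUnivThickening f i h' →
        (MoreMor.IsFormallyEtaleHom f ↔ IsZero (Omega.conormal i))) := by
  refine ⟨⟨fun hf => ⟨formallyUnramified_of_isFormallyEtaleHom f hf,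
    isUnivThickening_id_of_isFormallyEtaleHom f hf⟩,
    fun h => isFormallyEtaleHom_of_isUnivThickening_id f h.2⟩, ?_⟩
  intro X' i h' _ _ hu
  constructor
  · intro hf
    haveI : IsIso i := isIso_of_isUnivThickening (isUnivThickening_id_of_isFormallyEtaleHom f hf)
      hu i (Category.id_comp i) hu.2.1
    exact isZero_conormal_of_isIso i
  · intro h0
    haveI : IsIso i := isIso_of_isZero_conormal i hu.1 h0
    exact isFormallyEtaleHom_of_isUnivThickening_id f (isUnivThickening_id_of_isIso f i h' hu)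

end Groth.Agent.H7.UTCon
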