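import Mathlib

/-!
# Helper7: EZA — abstract lemmas on left Kan extensions of abelian presheaves

* `mem_closure_of_isColimit`, `exists_finite_sum_of_isColimit`: elements of a colimit in
  `AddCommGrpCat` are finite sums of images.
* `isLocallyInjective_lanAdjunct`: criterion for local injectivity of a map out of `Lan P`.
* `mono_homEquiv_symm`: the sheaf-level adjunct is a monomorphism if the presheaf-level adjunct
  is locally injective.
-/

set_option autoImplicit false

universe w v₁ v₂ u₁ u₂

open CategoryTheory CategoryTheory.Limits Opposite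

namespace Groth.Agent.H7.EZ

section Colim

variable {J : Type u₁} [Category.{v₁} J] {K : J ⥤ AddCommGrpCat.{w}} {c : Cocone K}

lemma mem_closure_of_isColimit (hc : IsColimit c) (x : c.pt) :
    x ∈ AddSubgroup.closure {y : c.pt | ∃ (j : J) (s : K.obj j), c.ι.app j s = y} := by
  let H : AddSubgroup c.pt :=
    AddSubgroup.closure {y : c.pt | ∃ (j : J) (s : K.obj j), c.ι.app j s = y}
  let q : c.pt ⟶ AddCommGrpCat.of (c.pt ⧸ H) := AddCommGrpCat.ofHom (QuotientAddGroup.mk' H)
  have hq : q = 0 := by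
    refine hc.hom_ext (fun j => ?_)
    ext s
    change (QuotientAddGroup.mk' H) (c.ι.app j s) = 0
    exact (QuotientAddGroup.eq_zero_iff _).2 (AddSubgroup.subset_closure ⟨j, s, rfl⟩)
  have h2 : (QuotientAddGroup.mk' H) x = 0 := congrArg (fun f => f.hom x) hq
  exact (QuotientAddGroup.eq_zero_iff x).1 h2

lemma exists_finite_sum_of_isColimit (hc : IsColimit c) (x : c.pt) :
    ∃ (ι : Type) (_ : Fintype ι) (a : ι → Σ j : J, K.obj j),
      x = ∑ k, c.ι.app (a k).1 (a k).2 := by
  have hx := mem_closure_of_isColimit hc x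
  induction hx using AddSubgroup.closure_induction with
  | mem y hy =>
    obtain ⟨j, s, rfl⟩ := hy
    exact ⟨Unit, inferInstance, fun _ => ⟨j, s⟩, by simp⟩
  | zero => exact ⟨Empty, inferInstance, Empty.elim, by simp⟩
  | add y z _ _ hy hz =>
    obtain ⟨ι₁, _, a₁, rfl⟩ := hy
    obtain ⟨ι₂, _, a₂, rfl⟩ := hz
    exact ⟨ι₁ ⊕ ι₂, inferInstance, Sum.elim a₁ a₂, by rw [Fintype.sum_sum_type]; rfl⟩
  | neg y _ hy =>
    obtain ⟨ι₁, _, a₁, rfl⟩ := hy
    exact ⟨ι₁, inferInstance, fun k => ⟨(a₁ k).1, -(a₁ k).2⟩, by simp [Finset.sum_neg_distrib]⟩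

end Colim

section Lan

variable {C : Type u₁} [Category.{v₁} C] {D : Type u₂} [Category.{v₂} D] (u : C ⥤ D)
  (K : GrothendieckTopology D)
  [∀ F : Cᵒᵖ ⥤ AddCommGrpCat.{w}, u.op.HasPointwiseLeftKanExtension F]
  (P : Cᵒᵖ ⥤ AddCommGrpCat.{w}) (Q : Dᵒᵖ ⥤ AddCommGrpCat.{w}) (η : P ⟶ u.op ⋙ Q)

/-- the adjunct `Lan P ⟶ Q` of `η : P ⟶ u^* Q`. -/
noncomputable abbrev lanAdjunct : u.op.lan.obj P ⟶ Q :=
  ((u.op.lanAdjunction AddCommGrpCat.{w}).homEquiv P Q).symm η

lemma lanUnit_lanAdjunct (V : Cᵒᵖ) :
    (u.op.lanUnit.app P).app V ≫ (lanAdjunct u P Q η).app (u.op.obj V) = η.app V := by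
  have h := ((u.op.lanAdjunction AddCommGrpCat.{w}).homEquiv P Q).apply_symm_apply η
  rw [Adjunction.homEquiv_unit] at h
  exact congrArg (fun t => t.app V) h

/-- the cocone of the pointwise left Kan extension at `W`. -/
noncomputable abbrev lanCocone (W : Dᵒᵖ) : Cocone (CostructuredArrow.proj u.op W ⋙ P) :=
  (Functor.LeftExtension.mk _ (u.op.lanUnit.app P)).coconeAt W

noncomputable def lanCoconeIsColimit (W : Dᵒᵖ) : IsColimit (lanCocone u P W) :=
  Functor.isPointwiseLeftKanExtensionLeftKanExtensionUnit u.op P W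

lemma lanCocone_ι_lanAdjunct (W : Dᵒᵖ) (g : CostructuredArrow u.op W) :
    (lanCocone u P W).ι.app g ≫ (lanAdjunct u P Q η).app W = η.app g.left ≫ Q.map g.hom := by
  change ((u.op.lanUnit.app P).app g.left ≫ (u.op.lan.obj P).map g.hom) ≫ _ = _
  rw [Category.assoc, (lanAdjunct u P Q η).naturality, ← Category.assoc, lanUnit_lanAdjunct]

lemma lanCocone_ι_map {W W' : Dᵒᵖ} (h : W ⟶ W') (g : CostructuredArrow u.op W) :
    (lanCocone u P W).ι.app g ≫ (u.op.lan.obj P).map h =
      (lanCocone u P W').ι.app ((CostructuredArrow.map h).obj g) := by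
  change ((u.op.lanUnit.app P).app g.left ≫ (u.op.lan.obj P).map g.hom) ≫ _ =
    (u.op.lanUnit.app P).app g.left ≫ (u.op.lan.obj P).map (g.hom ≫ h)
  rw [Category.assoc, Functor.map_comp]

theorem isLocallyInjective_lanAdjunct
    (H : ∀ (W : D) (ι : Type) [Fintype ι]
      (a : ι → Σ g : CostructuredArrow u.op (op W), P.obj g.left),
      ∑ k, Q.map (a k).1.hom (η.app (a k).1.left (a k).2) = 0 →
      ∃ S ∈ K W, ∀ ⦃W' : D⦄ (h : W' ⟶ W), S h →
        ∀ (c : Cocone (CostructuredArrow.proj u.op (op W') ⋙ P)),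
          (∑ k, c.ι.app ((CostructuredArrow.map h.op).obj (a k).1) (a k).2 : c.pt) = 0) :
    Presheaf.IsLocallyInjective K (lanAdjunct u P Q η) := by
  constructor
  intro Wop x y hxy
  obtain ⟨W⟩ := Wop
  change ToType ((u.op.lan.obj P).obj (op W)) at x y
  change (lanAdjunct u P Q η).app (op W) x = (lanAdjunct u P Q η).app (op W) y at hxy
  have hz : (lanAdjunct u P Q η).app (op W) (x - y) = 0 := by
    rw [map_sub, hxy, sub_self]
  obtain ⟨ι, _, a, ha⟩ : ∃ (ι : Type) (_ : Fintype ι)
      (a : ι → Σ g : CostructuredArrow u.op (op W), P.obj g.left),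
      x - y = ∑ k, (lanCocone u P (op W)).ι.app (a k).1 (a k).2 :=
    exists_finite_sum_of_isColimit (lanCoconeIsColimit u P (op W)) (x - y)
  have hsum : ∑ k, Q.map (a k).1.hom (η.app (a k).1.left (a k).2) = 0 := by
    have e : ∀ k, Q.map (a k).1.hom (η.app (a k).1.left (a k).2) =
        (lanAdjunct u P Q η).app (op W) ((lanCocone u P (op W)).ι.app (a k).1 (a k).2) := by
      intro k
      have h1 := congrArg (fun f => f.hom (a k).2)
        (lanCocone_ι_lanAdjunct u P Q η (op W) (a k).1)
      simp only [AddCommGrpCat.hom_comp, AddMonoidHom.coe_comp, Function.comp_apply] at h1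
      exact h1.symm
    calc ∑ k, Q.map (a k).1.hom (η.app (a k).1.left (a k).2)
        = ∑ k, (lanAdjunct u P Q η).app (op W)
            ((lanCocone u P (op W)).ι.app (a k).1 (a k).2) :=
          Finset.sum_congr rfl (fun k _ => e k)
      _ = (lanAdjunct u P Q η).app (op W)
            (∑ k, (lanCocone u P (op W)).ι.app (a k).1 (a k).2) :=
          (map_sum ((lanAdjunct u P Q η).app (op W)).hom _ _).symm
      _ = 0 := by rw [← ha]; exact hz
  obtain ⟨S, hS, hS'⟩ := H W ι a hsum
  refine K.superset_covering ?_ hS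
  intro W' h hh
  change (u.op.lan.obj P).map h.op x = (u.op.lan.obj P).map h.op y
  rw [← sub_eq_zero, ← map_sub, ha]
  have e : ∀ k, (u.op.lan.obj P).map h.op ((lanCocone u P (op W)).ι.app (a k).1 (a k).2) =
      (lanCocone u P (op W')).ι.app ((CostructuredArrow.map h.op).obj (a k).1) (a k).2 := by
    intro k
    have h1 := congrArg (fun f => f.hom (a k).2) (lanCocone_ι_map u P h.op (a k).1)
    simp only [AddCommGrpCat.hom_comp, AddMonoidHom.coe_comp, Function.comp_apply] at h1
    exact h1
  calc (u.op.lan.obj P).map h.op (∑ k, (lanCocone u P (op W)).ι.app (a k).1 (a k).2)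
      = ∑ k, (u.op.lan.obj P).map h.op ((lanCocone u P (op W)).ι.app (a k).1 (a k).2) :=
        map_sum ((u.op.lan.obj P).map h.op).hom _ _
    _ = ∑ k, (lanCocone u P (op W')).ι.app ((CostructuredArrow.map h.op).obj (a k).1) (a k).2 :=
        Finset.sum_congr rfl (fun k _ => e k)
    _ = 0 := hS' h hh (lanCocone u P (op W'))

end Lan

section Sheaf

variable {C : Type u₁} [Category.{v₁} C] {D : Type u₂} [Category.{v₂} D]
  (u : C ⥤ D) (J : GrothendieckTopology C) (K : GrothendieckTopology D)
  [u.IsContinuous J K]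
  [∀ F : Cᵒᵖ ⥤ AddCommGrpCat.{w}, u.op.HasPointwiseLeftKanExtension F]
  [HasWeakSheafify K AddCommGrpCat.{w}]

set_option backward.isDefEq.respectTransparency false in
lemma explicit_counit (Y : Sheaf K AddCommGrpCat.{w}) :
    (Functor.sheafPullbackConstruction.sheafAdjunctionContinuous u AddCommGrpCat.{w} J K).counit.app
        Y =
      (presheafToSheaf K AddCommGrpCat.{w}).map
          ((u.op.lanAdjunction AddCommGrpCat.{w}).counit.app Y.obj) ≫
        (sheafificationAdjunction K AddCommGrpCat.{w}).counit.app Y := by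
  have := Adjunction.map_restrictFullyFaithful_counit_app
    (L := Functor.sheafPullbackConstruction.sheafPullback u AddCommGrpCat.{w} J K)
    (R := u.sheafPushforwardContinuous AddCommGrpCat.{w} J K)
    ((u.op.lanAdjunction AddCommGrpCat.{w}).comp (sheafificationAdjunction K AddCommGrpCat.{w}))
    (fullyFaithfulSheafToPresheaf J AddCommGrpCat.{w}) (Functor.FullyFaithful.id _) (Iso.refl _)
    (Iso.refl _) Y
  refine this.trans ?_
  simp only [Iso.refl_inv, NatTrans.id_app, Adjunction.comp_counit_app]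
  erw [Category.id_comp, CategoryTheory.Functor.map_id, Category.id_comp]

variable [K.WEqualsLocallyBijective AddCommGrpCat.{w}]
  [K.HasSheafCompose (forget AddCommGrpCat.{w})]

set_option backward.isDefEq.respectTransparency false in
theorem mono_homEquiv_symm (F : Sheaf J AddCommGrpCat.{w}) (Q : Sheaf K AddCommGrpCat.{w})
    (η : F ⟶ (u.sheafPushforwardContinuous AddCommGrpCat.{w} J K).obj Q)
    (hη : Presheaf.IsLocallyInjective K (lanAdjunct u F.obj Q.obj η.hom)) :
    Mono (((u.sheafAdjunctionContinuous AddCommGrpCat.{w} J K).homEquiv F Q).symm η) := by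
  let adj := u.sheafAdjunctionContinuous AddCommGrpCat.{w} J K
  let adj' := Functor.sheafPullbackConstruction.sheafAdjunctionContinuous u AddCommGrpCat.{w} J K
  have key : (adj'.homEquiv F Q).symm η =
      (presheafToSheaf K AddCommGrpCat.{w}).map (lanAdjunct u F.obj Q.obj η.hom) ≫
        (sheafificationAdjunction K AddCommGrpCat.{w}).counit.app Q := by
    rw [Adjunction.homEquiv_counit, explicit_counit]
    change (presheafToSheaf K AddCommGrpCat.{w}).map (u.op.lan.map η.hom) ≫ _ ≫ _ = _
    rw [← Category.assoc, ← Functor.map_comp]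
    congr 2
  have hm : Mono ((presheafToSheaf K AddCommGrpCat.{w}).map (lanAdjunct u F.obj Q.obj η.hom)) := by
    haveI : Sheaf.IsLocallyInjective
        ((presheafToSheaf K AddCommGrpCat.{w}).map (lanAdjunct u F.obj Q.obj η.hom)) :=
      (Presheaf.isLocallyInjective_presheafToSheaf_map_iff K _).2 hη
    exact Sheaf.mono_of_isLocallyInjective _
  have h2 : Mono ((adj'.homEquiv F Q).symm η) := by
    rw [key]
    exact mono_comp _ _
  have h3 : (adj.homEquiv F Q).symm η =
      (Adjunction.leftAdjointUniq adj adj').hom.app F ≫ (adj'.homEquiv F Q).symm η := by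
    rw [Equiv.symm_apply_eq, Adjunction.homEquiv_naturality_right,
      Adjunction.homEquiv_leftAdjointUniq_hom_app, ← Adjunction.homEquiv_unit,
      Equiv.apply_symm_apply]
  change Mono ((adj.homEquiv F Q).symm η)
  rw [h3]
  exact mono_comp _ _

end Sheaf

end Groth.Agent.H7.EZ
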