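import Mathlib
import Groth.Prelude.Def_EtShriek2
import Groth.Agent.Lib.Helper7.EZA

/-!
# Helper7: EZB — extension by zero along the graph, and `j_! ⟶ j_*` for separated étale `j`
-/

set_option autoImplicit false

universe u

open CategoryTheory CategoryTheory.Limits Opposite AlgebraicGeometry MorphismProperty

namespace Groth.Agent.H7.EZ

/-! ### copies of small lemmas -/

set_option backward.isDefEq.respectTransparency.types false in
/-- A sieve on the small étale site containing a jointly surjective family is covering. -/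
lemma sieve_mem_of_jointly_surjective {Y : Scheme.{u}} {T : Y.Etale} (S : Sieve T)
    (h : ∀ x : T.left, ∃ (T' : Y.Etale) (p : T' ⟶ T) (y : T'.left), S p ∧ p.left y = x) :
    S ∈ Y.smallEtaleTopology T := by
  have eY : Y.smallEtaleTopology =
      (Y.smallPretopology (P := EtCoh.etaleMP) (Q := EtCoh.etaleMP)).toGrothendieck :=
    Scheme.smallGrothendieckTopology_eq_toGrothendieck_smallPretopology Y le_rfl
  rw [eY]
  refine (Scheme.mem_toGrothendieck_smallPretopology T S).2 ?_
  intro x
  obtain ⟨T', p, y, hp, hy⟩ := h x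
  exact ⟨T', p, y, hp, inferInstance, hy⟩

/-- The empty sieve covers an étale `X`-scheme with empty underlying space. -/
lemma bot_mem_of_isEmpty {X : Scheme.{u}} (T : X.Etale) [IsEmpty T.left] :
    (⊥ : Sieve T) ∈ X.smallEtaleTopology T :=
  sieve_mem_of_jointly_surjective _ (fun x => (IsEmpty.false x).elim)

/-- Sections of an abelian étale sheaf over an empty étale scheme are all equal. -/
lemma sections_subsingleton_of_isEmpty {X : Scheme.{u}} (G : EtCoh.Ab X) (T : X.Etale)
    [IsEmpty T.left] : Subsingleton (G.obj.obj (op T)) := by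
  have hT : IsTerminal (G.obj.obj (op T)) := Sheaf.isTerminalOfBotCover G T (bot_mem_of_isEmpty T)
  have hZ : IsZero (G.obj.obj (op T)) := by
    refine IsZero.of_iso (isZero_zero _) (hT.uniqueUpToIso (IsZero.isTerminal (isZero_zero _)))
  exact AddCommGrpCat.subsingleton_of_isZero hZ

set_option backward.isDefEq.respectTransparency false in
/-- equalizers of morphisms into an unramified scheme are open immersions -/
lemma isOpenImmersion_equalizer_ι_left {S : Scheme.{u}} {X Y : Over S} [FormallyUnramified Y.hom]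
    [LocallyOfFiniteType Y.hom] (f g : X ⟶ Y) : IsOpenImmersion (equalizer.ι f g).left := by
  refine MorphismProperty.of_isPullback
    ((Limits.isPullback_equalizer_prod f g).map (Over.forget _)).flip ?_
  rw [← MorphismProperty.cancel_right_of_respectsIso @IsOpenImmersion _
    (Over.prodLeftIsoPullback Y Y).hom]
  convert! (inferInstance : IsOpenImmersion (pullback.diagonal Y.hom))
  ext1 <;> simp [← Over.comp_left]

/-! ### nowhere equal morphisms -/

/-- two morphisms that agree on no nonempty scheme -/
def Disj {T U : Scheme.{u}} (a b : T ⟶ U) : Prop :=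
  ∀ (T' : Scheme.{u}) (t : T' ⟶ T), t ≫ a = t ≫ b → IsEmpty T'

lemma Disj.comp {T T' U : Scheme.{u}} {a b : T ⟶ U} (h : Disj a b) (c : T' ⟶ T) :
    Disj (c ≫ a) (c ≫ b) :=
  fun T'' t ht => h T'' (t ≫ c) (by simpa using ht)

lemma Disj.symm {T U : Scheme.{u}} {a b : T ⟶ U} (h : Disj a b) : Disj b a :=
  fun T'' t ht => h T'' t ht.symm

/-- clopen locus where two sections of a separated étale morphism agree -/
lemma exists_clopen_eq {T U X : Scheme.{u}} (j : U ⟶ X) [Etale j] [IsSeparated j] (a b : T ⟶ U)
    (h : a ≫ j = b ≫ j) :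
    ∃ E : Set T, IsOpen E ∧ IsClosed E ∧
      (∀ (T' : Scheme.{u}) (t : T' ⟶ T), t ≫ a = t ≫ b → Set.range t ⊆ E) ∧
      (∀ V : T.Opens, (V : Set T) ⊆ E → V.ι ≫ a = V.ι ≫ b) := by
  let X' : Over X := Over.mk (a ≫ j)
  let Y' : Over X := Over.mk j
  let f' : X' ⟶ Y' := Over.homMk a
  let g' : X' ⟶ Y' := Over.homMk b h.symm
  haveI : IsSeparated Y'.hom := ‹IsSeparated j›
  haveI : FormallyUnramified Y'.hom := (inferInstance : FormallyUnramified j)
  haveI : LocallyOfFiniteType Y'.hom := (inferInstance : LocallyOfFiniteType j)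
  haveI := isOpenImmersion_equalizer_ι_left f' g'
  haveI : IsClosedImmersion (equalizer.ι f' g').left := inferInstance
  refine ⟨Set.range (equalizer.ι f' g').left, IsOpenImmersion.isOpen_range _,
    (equalizer.ι f' g').left.isClosedEmbedding.isClosed_range, ?_, ?_⟩
  · intro T' t ht
    let U' : Over X := Over.mk (t ≫ a ≫ j)
    let t' : U' ⟶ X' := Over.homMk t
    have hl : (equalizer.lift t' (by ext1; exact ht : t' ≫ f' = t' ≫ g')).left ≫
        (equalizer.ι f' g').left = t := by
      rw [← Over.comp_left, equalizer.lift_ι]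
      rfl
    rintro _ ⟨x, rfl⟩
    refine ⟨(equalizer.lift t' (by ext1; exact ht : t' ≫ f' = t' ≫ g')).left x, ?_⟩
    rw [← Scheme.Hom.comp_apply, hl]
  · intro V hV
    have hr : Set.range V.ι ⊆ Set.range (equalizer.ι f' g').left := by
      rw [Scheme.Opens.range_ι]; exact hV
    have hr' : IsOpenImmersion.lift (equalizer.ι f' g').left V.ι hr ≫ (equalizer.ι f' g').left =
        V.ι := IsOpenImmersion.lift_fac _ _ hr
    have hc : (equalizer.ι f' g').left ≫ a = (equalizer.ι f' g').left ≫ b :=
      congr($(equalizer.condition f' g').left)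
    rw [← hr', Category.assoc, hc, Category.assoc]

/-- locally, finitely many sections of a separated étale morphism are pairwise equal or
nowhere equal -/
lemma exists_open_separating {W U X : Scheme.{u}} (j : U ⟶ X) [Etale j] [IsSeparated j]
    {ι : Type} [Finite ι] (φ : ι → (W ⟶ U)) (q : W ⟶ X) (hφ : ∀ k, φ k ≫ j = q) (w : W) :
    ∃ V : W.Opens, w ∈ V ∧
      ∀ k l, V.ι ≫ φ k = V.ι ≫ φ l ∨ Disj (V.ι ≫ φ k) (V.ι ≫ φ l) := by
  choose E hEo hEc hE1 hE2 using fun (p : ι × ι) =>
    exists_clopen_eq j (φ p.1) (φ p.2) ((hφ p.1).trans (hφ p.2).symm)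
  classical
  let O : ι × ι → Set W := fun p => if w ∈ E p then E p else (E p)ᶜ
  have hO : ∀ p, IsOpen (O p) := fun p => by
    dsimp only [O]; split_ifs
    exacts [hEo p, (hEc p).isOpen_compl]
  have hw : ∀ p, w ∈ O p := fun p => by
    dsimp only [O]; split_ifs with h
    exacts [h, h]
  let V : W.Opens := ⟨⋂ p, O p, isOpen_iInter_of_finite hO⟩
  have hV : ∀ (x : W), x ∈ V → ∀ p, x ∈ O p := fun x hx p => Set.mem_iInter.1 hx p
  refine ⟨V, Set.mem_iInter.2 hw, fun k l => ?_⟩
  by_cases h : w ∈ E (k, l)
  · left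
    refine hE2 (k, l) V (fun x hx => ?_)
    have := hV x hx (k, l)
    simpa only [O, if_pos h] using this
  · right
    intro T' t ht
    refine ⟨fun t' => ?_⟩
    have h1 : (t ≫ V.ι) t' ∈ E (k, l) :=
      hE1 (k, l) T' (t ≫ V.ι) (by simpa using ht) ⟨t', rfl⟩
    have h3 : (t ≫ V.ι) t' ∈ V := by
      have : (t ≫ V.ι) t' ∈ Set.range V.ι := ⟨t t', (Scheme.Hom.comp_apply _ _ _).symm⟩
      rwa [Scheme.Opens.range_ι] at this
    have h2 := hV _ h3 (k, l)
    simp only [O, if_neg h] at h2
    exact h2 h1


/-! ### the graph sieve -/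

section Graph

open EtShriek

variable {U X : Scheme.{u}} (j : U ⟶ X) [Etale j]

/-- first projection `V ×_X U ⟶ V` -/
noncomputable def pr1 (V : U.Etale) :
    ((EtCoh.bc j).obj ((compEtale j).obj V)).left ⟶ V.left :=
  pullback.fst (V.hom ≫ j) j

/-- second projection `V ×_X U ⟶ U` -/
noncomputable def pr2 (V : U.Etale) :
    ((EtCoh.bc j).obj ((compEtale j).obj V)).left ⟶ U :=
  pullback.snd (V.hom ≫ j) j

lemma bcG_hom (V : U.Etale) : ((EtCoh.bc j).obj ((compEtale j).obj V)).hom = pr2 j V := rfl

lemma pr_condition (V : U.Etale) : pr1 j V ≫ V.hom ≫ j = pr2 j V ≫ j := pullback.condition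

lemma pr_hom_ext (V : U.Etale) {T : Scheme.{u}}
    (a b : T ⟶ ((EtCoh.bc j).obj ((compEtale j).obj V)).left)
    (h1 : a ≫ pr1 j V = b ≫ pr1 j V) (h2 : a ≫ pr2 j V = b ≫ pr2 j V) : a = b :=
  pullback.hom_ext h1 h2

/-- the sieve on `V ×_X U` of maps either factoring through the graph of `V ⟶ U` or missing it -/
def grSieve (V : U.Etale) : Sieve ((EtCoh.bc j).obj ((compEtale j).obj V)) where
  arrows T b := (b.left ≫ pr1 j V) ≫ V.hom = T.hom ∨ Disj ((b.left ≫ pr1 j V) ≫ V.hom) T.hom
  downward_closed := by
    intro T T' b hb c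
    have e1 : ((c ≫ b).left ≫ pr1 j V) ≫ V.hom = c.left ≫ (b.left ≫ pr1 j V) ≫ V.hom := by
      change ((c.left ≫ b.left) ≫ pr1 j V) ≫ V.hom = _
      simp only [Category.assoc]
    have e2 : T'.hom = c.left ≫ T.hom := (MorphismProperty.Over.w c).symm
    rcases hb with hb | hb
    · left; rw [e1, e2, hb]
    · right; rw [e1, e2]; exact hb.comp c.left

/-- the graph of `V ⟶ U` as a morphism of étale `U`-schemes -/
noncomputable def gr (V : U.Etale) : V ⟶ (EtCoh.bc j).obj ((compEtale j).obj V) :=
  MorphismProperty.Over.homMk (pullback.lift (𝟙 V.left) V.hom (by simp))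
    (pullback.lift_snd _ _ _)

lemma gr_left_pr1 (V : U.Etale) : (gr j V).left ≫ pr1 j V = 𝟙 _ := pullback.lift_fst _ _ _

lemma gr_left_pr2 (V : U.Etale) : (gr j V).left ≫ pr2 j V = V.hom := pullback.lift_snd _ _ _

variable [IsSeparated j]

instance (V : U.Etale) : IsClosedImmersion (gr j V).left := by
  haveI : IsSeparated (pr1 j V) :=
    MorphismProperty.pullback_fst (P := @IsSeparated) _ _ inferInstance
  haveI : IsClosedImmersion ((gr j V).left ≫ pr1 j V) := by
    rw [gr_left_pr1]; infer_instance
  exact IsClosedImmersion.of_comp (gr j V).left (pr1 j V)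

lemma grSieve_mem (V : U.Etale) : grSieve j V ∈ U.smallEtaleTopology _ := by
  refine sieve_mem_of_jointly_surjective _ (fun z => ?_)
  by_cases hz : z ∈ Set.range (gr j V).left
  · obtain ⟨v, hv⟩ := hz
    exact ⟨V, gr j V, v, Or.inl (by rw [gr_left_pr1, Category.id_comp]), hv⟩
  · let O : ((EtCoh.bc j).obj ((compEtale j).obj V)).left.Opens :=
      ⟨(Set.range (gr j V).left)ᶜ, (gr j V).left.isClosedEmbedding.isClosed_range.isOpen_compl⟩
    let T : U.Etale := Scheme.Etale.mk (O.ι ≫ ((EtCoh.bc j).obj ((compEtale j).obj V)).hom)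
    let b : T ⟶ (EtCoh.bc j).obj ((compEtale j).obj V) := MorphismProperty.Over.homMk O.ι rfl
    refine ⟨T, b, ⟨z, hz⟩, Or.inr ?_, rfl⟩
    intro T' t ht
    refine ⟨fun t' => ?_⟩
    have ht' : t ≫ (O.ι ≫ pr1 j V) ≫ V.hom = t ≫ O.ι ≫ pr2 j V := ht
    have e : t ≫ O.ι = (t ≫ O.ι ≫ pr1 j V) ≫ (gr j V).left := by
      apply pr_hom_ext
      · simp only [Category.assoc, gr_left_pr1, Category.comp_id]
      · simp only [Category.assoc, gr_left_pr2]
        simpa only [Category.assoc] using ht'.symm
    have h1 : (t ≫ O.ι) t' ∈ Set.range (gr j V).left := by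
      rw [e]; exact ⟨_, (Scheme.Hom.comp_apply _ _ _).symm⟩
    have h3 : (t ≫ O.ι) t' ∈ O := by
      have : (t ≫ O.ι) t' ∈ Set.range O.ι := ⟨t t', (Scheme.Hom.comp_apply _ _ _).symm⟩
      rwa [Scheme.Opens.range_ι] at this
    exact h3 h1

end Graph


/-! ### extension by zero along the graph -/

section Ext

open EtShriek

variable {U X : Scheme.{u}} (F : EtCoh.Ab U)

set_option backward.isDefEq.respectTransparency false in
lemma isSheaf_type : Presieve.IsSheaf U.smallEtaleTopology (F.obj ⋙ forget AddCommGrpCat) := by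
  rw [← isSheaf_iff_isSheaf_of_type, ← Presheaf.isSheaf_iff_isSheaf_forget _ F.obj (forget _)]
  exact F.2

set_option backward.isDefEq.respectTransparency false in
open Classical in
/-- restriction along `p` if `p` is a morphism of `U`-schemes, zero otherwise -/
noncomputable def resOr {V T : U.Etale} (p : T.left ⟶ V.left) (s : F.obj.obj (op V)) :
    F.obj.obj (op T) :=
  if h : p ≫ V.hom = T.hom then F.obj.map (MorphismProperty.Over.homMk p h : T ⟶ V).op s else 0

set_option backward.isDefEq.respectTransparency false in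
lemma resOr_pos {V T : U.Etale} (p : T.left ⟶ V.left) (s : F.obj.obj (op V))
    (h : p ≫ V.hom = T.hom) :
    resOr F p s = F.obj.map (MorphismProperty.Over.homMk p h : T ⟶ V).op s := dif_pos h

set_option backward.isDefEq.respectTransparency false in
lemma resOr_neg {V T : U.Etale} (p : T.left ⟶ V.left) (s : F.obj.obj (op V))
    (h : ¬ p ≫ V.hom = T.hom) : resOr F p s = 0 := dif_neg h

set_option backward.isDefEq.respectTransparency false in
lemma resOr_zero {V T : U.Etale} (p : T.left ⟶ V.left) : resOr F p (0 : F.obj.obj (op V)) = 0 := by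
  by_cases h : p ≫ V.hom = T.hom
  · rw [resOr_pos F p _ h, map_zero]
  · rw [resOr_neg F p _ h]

set_option backward.isDefEq.respectTransparency false in
lemma resOr_add {V T : U.Etale} (p : T.left ⟶ V.left) (s t : F.obj.obj (op V)) :
    resOr F p (s + t) = resOr F p s + resOr F p t := by
  by_cases h : p ≫ V.hom = T.hom
  · rw [resOr_pos F p _ h, resOr_pos F p _ h, resOr_pos F p _ h, map_add]
  · rw [resOr_neg F p _ h, resOr_neg F p _ h, resOr_neg F p _ h, add_zero]

set_option backward.isDefEq.respectTransparency false in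
lemma resOr_comp {V T T' : U.Etale} (c : T' ⟶ T) (p : T.left ⟶ V.left) (s : F.obj.obj (op V))
    (hp : p ≫ V.hom = T.hom ∨ Disj (p ≫ V.hom) T.hom) :
    F.obj.map c.op (resOr F p s) = resOr F (c.left ≫ p) s := by
  have e2 : T'.hom = c.left ≫ T.hom := (MorphismProperty.Over.w c).symm
  by_cases h : p ≫ V.hom = T.hom
  · have h' : (c.left ≫ p) ≫ V.hom = T'.hom := by rw [Category.assoc, h, e2]
    rw [resOr_pos F p _ h, resOr_pos F _ _ h']
    have : (MorphismProperty.Over.homMk (c.left ≫ p) h' : T' ⟶ V) =
        c ≫ (MorphismProperty.Over.homMk p h : T ⟶ V) := MorphismProperty.Over.Hom.ext rfl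
    rw [this, op_comp, Functor.map_comp]
    rfl
  · rw [resOr_neg F p _ h, map_zero]
    by_cases h' : (c.left ≫ p) ≫ V.hom = T'.hom
    · have hd : Disj (p ≫ V.hom) T.hom := hp.resolve_left h
      haveI : IsEmpty T'.left := hd T'.left c.left (by rw [← Category.assoc, h', e2])
      haveI := sections_subsingleton_of_isEmpty F T'
      exact Subsingleton.elim _ _
    · rw [resOr_neg F _ _ h']

set_option backward.isDefEq.respectTransparency false in
lemma resOr_comp_right {V V' T : U.Etale} (f : V' ⟶ V) (p : T.left ⟶ V'.left)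
    (s : F.obj.obj (op V)) :
    resOr F (p ≫ f.left) s = resOr F p (F.obj.map f.op s) := by
  have e : (p ≫ f.left) ≫ V.hom = p ≫ V'.hom := by
    rw [Category.assoc, MorphismProperty.Over.w f]
  by_cases h : p ≫ V'.hom = T.hom
  · have h' : (p ≫ f.left) ≫ V.hom = T.hom := e.trans h
    rw [resOr_pos F _ _ h, resOr_pos F _ _ h']
    have : (MorphismProperty.Over.homMk (p ≫ f.left) h' : T ⟶ V) =
        (MorphismProperty.Over.homMk p h : T ⟶ V') ≫ f := MorphismProperty.Over.Hom.ext rfl
    rw [this, op_comp, Functor.map_comp]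
    rfl
  · have h' : ¬ (p ≫ f.left) ≫ V.hom = T.hom := fun h'' => h (e.symm.trans h'')
    rw [resOr_neg F _ _ h, resOr_neg F _ _ h']

set_option backward.isDefEq.respectTransparency false in
lemma resOr_nat {F F' : EtCoh.Ab U} (α : F ⟶ F') {V T : U.Etale} (p : T.left ⟶ V.left)
    (s : F.obj.obj (op V)) :
    α.hom.app (op T) (resOr F p s) = resOr F' p (α.hom.app (op V) s) := by
  by_cases h : p ≫ V.hom = T.hom
  · rw [resOr_pos F _ _ h, resOr_pos F' _ _ h]
    have := congrArg (fun φ => φ s) (congrArg AddCommGrpCat.Hom.hom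
      (α.hom.naturality (MorphismProperty.Over.homMk p h : T ⟶ V).op))
    simp only [AddCommGrpCat.hom_comp, AddMonoidHom.coe_comp, Function.comp_apply] at this
    exact this
  · rw [resOr_neg F _ _ h, resOr_neg F' _ _ h, map_zero]

variable (j : U ⟶ X) [Etale j] [IsSeparated j]

set_option backward.isDefEq.respectTransparency false in
/-- the family of local sections defining the extension by zero -/
noncomputable def extFam (V : U.Etale) (s : F.obj.obj (op V)) :
    Presieve.FamilyOfElements (F.obj ⋙ forget AddCommGrpCat) (grSieve j V).arrows :=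
  fun _ b _ => resOr F (b.left ≫ pr1 j V) s

set_option backward.isDefEq.respectTransparency false in
lemma extFam_compatible (V : U.Etale) (s : F.obj.obj (op V)) : (extFam F j V s).Compatible := by
  intro T₁ T₂ Z g₁ g₂ f₁ f₂ h₁ h₂ e
  change F.obj.map g₁.op (resOr F (f₁.left ≫ pr1 j V) s) =
    F.obj.map g₂.op (resOr F (f₂.left ≫ pr1 j V) s)
  rw [resOr_comp F g₁ _ s h₁, resOr_comp F g₂ _ s h₂]
  have : g₁.left ≫ f₁.left = g₂.left ≫ f₂.left := congrArg (fun t => t.left) e
  rw [← Category.assoc, this, Category.assoc]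

set_option backward.isDefEq.respectTransparency false in
/-- extension by zero of a section over `V` to `V ×_X U` along the (clopen) graph -/
noncomputable def ext (V : U.Etale) (s : F.obj.obj (op V)) :
    F.obj.obj (op ((EtCoh.bc j).obj ((compEtale j).obj V))) :=
  ((isSheaf_type F) (grSieve j V) (grSieve_mem j V)).amalgamate (extFam F j V s)
    (extFam_compatible F j V s)

set_option backward.isDefEq.respectTransparency false in
lemma ext_spec (V : U.Etale) (s : F.obj.obj (op V)) {T : U.Etale}
    (b : T ⟶ (EtCoh.bc j).obj ((compEtale j).obj V)) (hb : (grSieve j V).arrows b) :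
    F.obj.map b.op (ext F j V s) = resOr F (b.left ≫ pr1 j V) s :=
  Presieve.IsSheafFor.valid_glue _ (extFam_compatible F j V s) b hb

set_option backward.isDefEq.respectTransparency false in
lemma ext_unique (V : U.Etale) (s : F.obj.obj (op V))
    (t : F.obj.obj (op ((EtCoh.bc j).obj ((compEtale j).obj V))))
    (ht : ∀ (T : U.Etale) (b : T ⟶ (EtCoh.bc j).obj ((compEtale j).obj V)),
      (grSieve j V).arrows b → F.obj.map b.op t = resOr F (b.left ≫ pr1 j V) s) :
    t = ext F j V s := by
  refine ((isSheaf_type F) (grSieve j V) (grSieve_mem j V)).isSeparatedFor.ext ?_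
  intro T b hb
  change F.obj.map b.op t = F.obj.map b.op (ext F j V s)
  rw [ht T b hb, ext_spec F j V s b hb]

set_option backward.isDefEq.respectTransparency false in
lemma ext_add (V : U.Etale) (s t : F.obj.obj (op V)) :
    ext F j V (s + t) = ext F j V s + ext F j V t := by
  symm
  refine ext_unique F j V (s + t) _ (fun T b hb => ?_)
  rw [map_add, ext_spec F j V s b hb, ext_spec F j V t b hb, resOr_add]

set_option backward.isDefEq.respectTransparency false in
/-- extension by zero as a group homomorphism -/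
noncomputable def etaApp (V : U.Etale) :
    F.obj.obj (op V) ⟶ F.obj.obj (op ((EtCoh.bc j).obj ((compEtale j).obj V))) :=
  AddCommGrpCat.ofHom (AddMonoidHom.mk' (ext F j V) (ext_add F j V))

set_option backward.isDefEq.respectTransparency false in
lemma etaApp_apply (V : U.Etale) (s : F.obj.obj (op V)) : etaApp F j V s = ext F j V s := rfl

set_option backward.isDefEq.respectTransparency false in
lemma bcG_map_left_pr1 {V V' : U.Etale} (f : V' ⟶ V) :
    ((EtCoh.bc j).map ((compEtale j).map f)).left ≫ pr1 j V = pr1 j V' ≫ f.left :=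
  pullback.lift_fst _ _ _

set_option backward.isDefEq.respectTransparency false in
lemma ext_map {V V' : U.Etale} (f : V' ⟶ V) (s : F.obj.obj (op V)) :
    F.obj.map ((EtCoh.bc j).map ((compEtale j).map f)).op (ext F j V s) =
      ext F j V' (F.obj.map f.op s) := by
  refine ext_unique F j V' _ _ (fun T b hb => ?_)
  have e1 : (b ≫ (EtCoh.bc j).map ((compEtale j).map f)).left ≫ pr1 j V =
      (b.left ≫ pr1 j V') ≫ f.left := by
    change (b.left ≫ ((EtCoh.bc j).map ((compEtale j).map f)).left) ≫ pr1 j V = _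
    rw [Category.assoc, bcG_map_left_pr1, Category.assoc]
  have e2 : ((b.left ≫ pr1 j V') ≫ f.left) ≫ V.hom = (b.left ≫ pr1 j V') ≫ V'.hom := by
    rw [Category.assoc, MorphismProperty.Over.w f]
  have hb' : (grSieve j V).arrows (b ≫ (EtCoh.bc j).map ((compEtale j).map f)) := by
    change _ ≫ V.hom = T.hom ∨ Disj (_ ≫ V.hom) T.hom
    rw [e1, e2]
    exact hb
  have h1 : F.obj.map b.op (F.obj.map ((EtCoh.bc j).map ((compEtale j).map f)).op
      (ext F j V s)) = F.obj.map (b ≫ (EtCoh.bc j).map ((compEtale j).map f)).op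
        (ext F j V s) := by
    rw [op_comp, Functor.map_comp]
    rfl
  rw [h1, ext_spec F j V s _ hb', e1, resOr_comp_right]

set_option backward.isDefEq.respectTransparency false in
lemma ext_nat {F F' : EtCoh.Ab U} (α : F ⟶ F') (V : U.Etale) (s : F.obj.obj (op V)) :
    α.hom.app (op ((EtCoh.bc j).obj ((compEtale j).obj V))) (ext F j V s) =
      ext F' j V (α.hom.app (op V) s) := by
  refine ext_unique F' j V _ _ (fun T b hb => ?_)
  have := congrArg (fun φ => φ (ext F j V s)) (congrArg AddCommGrpCat.Hom.hom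
    (α.hom.naturality b.op))
  simp only [AddCommGrpCat.hom_comp, AddMonoidHom.coe_comp, Function.comp_apply] at this
  rw [← this, ext_spec F j V s b hb, resOr_nat]

end Ext


/-! ### the comparison map `j_! ⟶ j_*` -/

section Main

open EtShriek

variable {U X : Scheme.{u}} (j : U ⟶ X) [Etale j] [IsSeparated j] [JCont j]

set_option backward.isDefEq.respectTransparency false in
/-- `η_F : F ⟶ j⁻¹ j_* F`, extension by zero along the graph -/
noncomputable def etaSh (F : EtCoh.Ab U) : F ⟶ (restrAlong j).obj ((EtCoh.push j).obj F) :=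
  ⟨{ app := fun V => etaApp F j V.unop
     naturality := fun V V' f => by
       ext s
       exact (ext_map F j f.unop s).symm }⟩

set_option backward.isDefEq.respectTransparency false in
/-- `η` is natural in `F` -/
noncomputable def etaNat : 𝟭 (EtCoh.Ab U) ⟶ EtCoh.push j ⋙ restrAlong j where
  app F := etaSh j F
  naturality F F' α := by
    apply Sheaf.hom_ext
    ext V s
    exact (ext_nat j α V.unop s).symm

/-- the comparison map `j_! ⟶ j_*` -/
noncomputable def tau : extZero j ⟶ EtCoh.push j where
  app F := ((extZeroAdj j).homEquiv F ((EtCoh.push j).obj F)).symm (etaSh j F)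
  naturality F F' α := by
    rw [← Adjunction.homEquiv_naturality_left_symm, ← Adjunction.homEquiv_naturality_right_symm]
    congr 1
    exact (etaNat j).naturality α

end Main


/-! ### local injectivity -/

section Inj

open EtShriek

variable {U X : Scheme.{u}} (j : U ⟶ X) [Etale j]

/-- the map `W ⟶ U` induced by `g : W ⟶ (V → U → X)` -/
noncomputable def phi {W : X.Etale} {V : U.Etale} (g : W ⟶ (compEtale j).obj V) : W.left ⟶ U :=
  g.left ≫ V.hom

set_option backward.isDefEq.respectTransparency false in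
lemma phi_comp_j {W : X.Etale} {V : U.Etale} (g : W ⟶ (compEtale j).obj V) :
    phi j g ≫ j = W.hom := by
  have := MorphismProperty.Over.w g
  rw [phi, Category.assoc]
  exact this

set_option backward.isDefEq.respectTransparency false in
lemma phi_comp {W W' : X.Etale} {V : U.Etale} (h : W' ⟶ W) (g : W ⟶ (compEtale j).obj V) :
    phi j (h ≫ g) = h.left ≫ phi j g := Category.assoc _ _ _

set_option backward.isDefEq.respectTransparency false in
/-- `W` as an étale `U`-scheme via `phi` -/
noncomputable def Wphi {W : X.Etale} {V : U.Etale} (g : W ⟶ (compEtale j).obj V) : U.Etale :=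
  haveI : Etale (phi j g ≫ j) := by rw [phi_comp_j]; exact W.prop
  haveI : Etale (phi j g) := Etale.of_comp (phi j g) j
  Scheme.Etale.mk (phi j g)

set_option backward.isDefEq.respectTransparency false in
/-- the identity, as a map `(W via phi → U → X) ⟶ W` -/
noncomputable def ehom {W : X.Etale} {V : U.Etale} (g : W ⟶ (compEtale j).obj V) :
    (compEtale j).obj (Wphi j g) ⟶ W :=
  MorphismProperty.Over.homMk (𝟙 W.left) ((Category.id_comp _).trans (phi_comp_j j g).symm)

set_option backward.isDefEq.respectTransparency false in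
/-- the identity, as a map `W ⟶ (W via phi → U → X)` -/
noncomputable def einv {W : X.Etale} {V : U.Etale} (g : W ⟶ (compEtale j).obj V) :
    W ⟶ (compEtale j).obj (Wphi j g) :=
  MorphismProperty.Over.homMk (𝟙 W.left) ((Category.id_comp _).trans (phi_comp_j j g))

lemma bc_map_left_fst' {A B : X.Etale} (g : A ⟶ B) :
    ((EtCoh.bc j).map g).left ≫ pullback.fst B.hom j = pullback.fst A.hom j ≫ g.left :=
  pullback.lift_fst _ _ _

variable [IsSeparated j] (F : EtCoh.Ab U)

set_option backward.isDefEq.respectTransparency false in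
theorem sum_cocone_eq_zero (W : X.Etale) {ι : Type} [Fintype ι] (V : ι → U.Etale)
    (g : ∀ k, W ⟶ (compEtale j).obj (V k)) (s : ∀ k, F.obj.obj (op (V k)))
    (hsep : ∀ k l, phi j (g k) = phi j (g l) ∨ Disj (phi j (g k)) (phi j (g l)))
    (hsum : ∑ k, F.obj.map ((EtCoh.bc j).map (g k)).op (ext F j (V k) (s k)) = 0)
    (c : Cocone (CostructuredArrow.proj (compEtale j).op (op W) ⋙ F.obj)) :
    (∑ k, c.ι.app (CostructuredArrow.mk (g k).op) (s k) : c.pt) = 0 := by
  classical
  have star : ∀ k, ∑ l, resOr F (T := Wphi j (g k)) (V := V l) (g l).left (s l) = 0 := by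
    intro k
    let γ : Wphi j (g k) ⟶ (EtCoh.bc j).obj W :=
      gr j (Wphi j (g k)) ≫ (EtCoh.bc j).map (ehom j (g k))
    have e1 : ∀ l, (γ ≫ (EtCoh.bc j).map (g l)).left ≫ pr1 j (V l) = (g l).left := by
      intro l
      change ((gr j (Wphi j (g k))).left ≫ ((EtCoh.bc j).map (ehom j (g k))).left ≫
        ((EtCoh.bc j).map (g l)).left) ≫ pullback.fst ((compEtale j).obj (V l)).hom j = _
      rw [Category.assoc, Category.assoc, bc_map_left_fst', ← Category.assoc
        ((EtCoh.bc j).map (ehom j (g k))).left, bc_map_left_fst']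
      change (gr j (Wphi j (g k))).left ≫ (pr1 j (Wphi j (g k)) ≫ 𝟙 _) ≫ (g l).left = _
      rw [Category.comp_id, ← Category.assoc, gr_left_pr1, Category.id_comp]
    have e2 : ∀ l, resOr F (T := Wphi j (g k)) (V := V l) (g l).left (s l) =
        F.obj.map γ.op (F.obj.map ((EtCoh.bc j).map (g l)).op (ext F j (V l) (s l))) := by
      intro l
      have hb : (grSieve j (V l)).arrows (γ ≫ (EtCoh.bc j).map (g l)) := by
        change _ ≫ (V l).hom = (Wphi j (g k)).hom ∨ Disj (_ ≫ (V l).hom) (Wphi j (g k)).hom
        rw [e1 l]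
        exact hsep l k
      have h1 : F.obj.map γ.op (F.obj.map ((EtCoh.bc j).map (g l)).op (ext F j (V l) (s l))) =
          F.obj.map (γ ≫ (EtCoh.bc j).map (g l)).op (ext F j (V l) (s l)) := by
        have := congrArg (fun φ => φ.hom (ext F j (V l) (s l)))
          (F.obj.map_comp ((EtCoh.bc j).map (g l)).op γ.op)
        simp only [AddCommGrpCat.hom_comp, AddMonoidHom.coe_comp, Function.comp_apply] at this
        exact this.symm
      rw [h1, ext_spec F j (V l) (s l) _ hb, e1 l]
    calc ∑ l, resOr F (T := Wphi j (g k)) (V := V l) (g l).left (s l)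
        = ∑ l, F.obj.map γ.op (F.obj.map ((EtCoh.bc j).map (g l)).op (ext F j (V l) (s l))) :=
          Finset.sum_congr rfl (fun l _ => e2 l)
      _ = F.obj.map γ.op (∑ l, F.obj.map ((EtCoh.bc j).map (g l)).op (ext F j (V l) (s l))) :=
          (map_sum (F.obj.map γ.op).hom _ _).symm
      _ = 0 := by rw [hsum, map_zero]
  have star2 : ∀ k, ∑ l, (if phi j (g l) = phi j (g k) then
      c.ι.app (CostructuredArrow.mk (g l).op) (s l) else 0 : c.pt) = 0 := by
    intro k
    let g0 : CostructuredArrow (compEtale j).op (op W) :=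
      CostructuredArrow.mk (Y := op (Wphi j (g k))) (einv j (g k)).op
    have e : ∀ l, (if phi j (g l) = phi j (g k) then
        c.ι.app (CostructuredArrow.mk (g l).op) (s l) else 0 : c.pt) =
        c.ι.app g0 (resOr F (T := Wphi j (g k)) (V := V l) (g l).left (s l)) := by
      intro l
      by_cases h : phi j (g l) = phi j (g k)
      · rw [if_pos h]
        have h' : (g l).left ≫ (V l).hom = (Wphi j (g k)).hom := h
        rw [resOr_pos F _ _ h']
        let f' : Wphi j (g k) ⟶ V l := MorphismProperty.Over.homMk (g l).left h'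
        let m : (CostructuredArrow.mk (g l).op : CostructuredArrow (compEtale j).op (op W)) ⟶ g0 :=
          CostructuredArrow.homMk f'.op (by
            change ((compEtale j).map f').op ≫ (einv j (g k)).op = (g l).op
            rw [← op_comp]
            congr 1)
        have h2 := congrArg (fun φ => φ.hom (s l)) (c.w m)
        simp only [AddCommGrpCat.hom_comp, AddMonoidHom.coe_comp, Function.comp_apply] at h2
        exact h2.symm
      · rw [if_neg h]
        have h' : ¬ (g l).left ≫ (V l).hom = (Wphi j (g k)).hom := h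
        rw [resOr_neg F _ _ h', map_zero]
    calc ∑ l, (if phi j (g l) = phi j (g k) then
          c.ι.app (CostructuredArrow.mk (g l).op) (s l) else 0 : c.pt)
        = ∑ l, c.ι.app g0 (resOr F (T := Wphi j (g k)) (V := V l) (g l).left (s l)) :=
          Finset.sum_congr rfl (fun l _ => e l)
      _ = c.ι.app g0 (∑ l, resOr F (T := Wphi j (g k)) (V := V l) (g l).left (s l)) :=
          (map_sum (c.ι.app g0).hom _ _).symm
      _ = 0 := by rw [star k, map_zero]
  let t : ι → c.pt := fun l => c.ι.app (CostructuredArrow.mk (g l).op) (s l)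
  have hfib := Finset.sum_fiberwise_of_maps_to (s := Finset.univ)
    (t := Finset.univ.image (fun l => phi j (g l))) (g := fun l => phi j (g l))
    (fun l _ => Finset.mem_image_of_mem _ (Finset.mem_univ l)) t
  change ∑ k, t k = 0
  rw [← hfib]
  refine Finset.sum_eq_zero (fun ψ hψ => ?_)
  obtain ⟨k, -, rfl⟩ := Finset.mem_image.1 hψ
  rw [Finset.sum_filter]
  exact star2 k

end Inj


section Final

open EtShriek

variable {U X : Scheme.{u}} (j : U ⟶ X) [Etale j] [IsSeparated j] [JCont j]

set_option backward.isDefEq.respectTransparency false in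
theorem locInj (F : EtCoh.Ab U) :
    Presheaf.IsLocallyInjective X.smallEtaleTopology
      (lanAdjunct (compEtale j) F.obj ((EtCoh.push j).obj F).obj (etaSh j F).hom) := by
  refine isLocallyInjective_lanAdjunct (compEtale j) X.smallEtaleTopology F.obj _ _ ?_
  intro W ι _ a hsum
  let V : ι → U.Etale := fun k => (a k).1.left.unop
  let g : ∀ k, W ⟶ (compEtale j).obj (V k) := fun k => (a k).1.hom.unop
  let s : ∀ k, F.obj.obj (op (V k)) := fun k => (a k).2
  have hsum0 : ∑ k, F.obj.map ((EtCoh.bc j).map (g k)).op (ext F j (V k) (s k)) = 0 := hsum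
  let S : Sieve W :=
    { arrows := fun W' h => ∀ k l, h.left ≫ phi j (g k) = h.left ≫ phi j (g l) ∨
        Disj (h.left ≫ phi j (g k)) (h.left ≫ phi j (g l))
      downward_closed := by
        intro W₁ W₂ h hh c k l
        have e : ∀ k, (c ≫ h).left ≫ phi j (g k) = c.left ≫ h.left ≫ phi j (g k) :=
          fun k => Category.assoc _ _ _
        rw [e k, e l]
        rcases hh k l with h1 | h1
        · left; rw [h1]
        · right; exact h1.comp c.left }
  refine ⟨S, ?_, ?_⟩
  · refine sieve_mem_of_jointly_surjective _ (fun w => ?_)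
    obtain ⟨O, hwO, hO⟩ := exists_open_separating j (fun k => phi j (g k)) W.hom
      (fun k => phi_comp_j j (g k)) w
    let W' : X.Etale := Scheme.Etale.mk (O.ι ≫ W.hom)
    let h : W' ⟶ W := MorphismProperty.Over.homMk O.ι rfl
    exact ⟨W', h, ⟨w, hwO⟩, hO, rfl⟩
  · intro W' h hh c
    have hsep : ∀ k l, phi j (h ≫ g k) = phi j (h ≫ g l) ∨
        Disj (phi j (h ≫ g k)) (phi j (h ≫ g l)) := by
      intro k l
      rw [phi_comp, phi_comp]
      exact hh k l
    have hsum' : ∑ k, F.obj.map ((EtCoh.bc j).map (h ≫ g k)).op (ext F j (V k) (s k)) = 0 := by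
      have e : ∀ k, F.obj.map ((EtCoh.bc j).map (h ≫ g k)).op (ext F j (V k) (s k)) =
          F.obj.map ((EtCoh.bc j).map h).op
            (F.obj.map ((EtCoh.bc j).map (g k)).op (ext F j (V k) (s k))) := by
        intro k
        have := congrArg (fun φ => φ.hom (ext F j (V k) (s k)))
          (F.obj.map_comp ((EtCoh.bc j).map (g k)).op ((EtCoh.bc j).map h).op)
        simp only [AddCommGrpCat.hom_comp, AddMonoidHom.coe_comp, Function.comp_apply] at this
        rw [← this, ← op_comp, ← Functor.map_comp]
      calc ∑ k, F.obj.map ((EtCoh.bc j).map (h ≫ g k)).op (ext F j (V k) (s k))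
          = ∑ k, F.obj.map ((EtCoh.bc j).map h).op
              (F.obj.map ((EtCoh.bc j).map (g k)).op (ext F j (V k) (s k))) :=
            Finset.sum_congr rfl (fun k _ => e k)
        _ = F.obj.map ((EtCoh.bc j).map h).op
              (∑ k, F.obj.map ((EtCoh.bc j).map (g k)).op (ext F j (V k) (s k))) :=
            (map_sum (F.obj.map ((EtCoh.bc j).map h).op).hom _ _).symm
        _ = 0 := by rw [hsum0, map_zero]
    exact sum_cocone_eq_zero j F W' V (fun k => h ≫ g k) s hsep hsum' c

theorem S0650_main :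
    ∃ τ : extZero j ⟶ EtCoh.push j, ∀ F : EtCoh.Ab U, Mono (τ.app F) :=
  ⟨tau j, fun F => mono_homEquiv_symm (compEtale j) U.smallEtaleTopology X.smallEtaleTopology F
    ((EtCoh.push j).obj F) (etaSh j F) (locInj j F)⟩

end Final

end Groth.Agent.H7.EZ
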