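import Mathlib
import Groth.Agent.Lib.Helper7.EZA

/-!
# Helper7: EZC — abstract lemmas: the sheaf-level adjunct is an isomorphism when the presheaf-level
adjunct is locally bijective; local surjectivity criterion for maps out of `Lan P`.
-/

set_option autoImplicit false

universe w v₁ v₂ u₁ u₂

open CategoryTheory CategoryTheory.Limits Opposite

namespace Groth.Agent.H7.EZ

section Lan

variable {C : Type u₁} [Category.{v₁} C] {D : Type u₂} [Category.{v₂} D] (u : C ⥤ D)
  (K : GrothendieckTopology D)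
  [∀ F : Cᵒᵖ ⥤ AddCommGrpCat.{w}, u.op.HasPointwiseLeftKanExtension F]
  (P : Cᵒᵖ ⥤ AddCommGrpCat.{w}) (Q : Dᵒᵖ ⥤ AddCommGrpCat.{w}) (η : P ⟶ u.op ⋙ Q)

lemma lanAdjunct_comp {Q' : Dᵒᵖ ⥤ AddCommGrpCat.{w}} (ψ : Q ⟶ Q') :
    lanAdjunct u P Q' (η ≫ Functor.whiskerLeft u.op ψ) = lanAdjunct u P Q η ≫ ψ :=
  Adjunction.homEquiv_naturality_right_symm (u.op.lanAdjunction AddCommGrpCat.{w}) η ψ

/-- every element of the form `Q(g)(η s)` is in the image of the adjunct -/
lemma exists_lanAdjunct_eq (W : D) (V : C) (g : W ⟶ u.obj V) (s : P.obj (op V)) :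
    ∃ x : (u.op.lan.obj P).obj (op W),
      (lanAdjunct u P Q η).app (op W) x = Q.map g.op (η.app (op V) s) := by
  refine ⟨(lanCocone u P (op W)).ι.app (CostructuredArrow.mk (Y := op V) g.op) s, ?_⟩
  have h1 := congrArg (fun f => f.hom s)
    (lanCocone_ι_lanAdjunct u P Q η (op W) (CostructuredArrow.mk (Y := op V) g.op))
  simp only [AddCommGrpCat.hom_comp, AddMonoidHom.coe_comp, Function.comp_apply] at h1
  exact h1

end Lan

section Sheaf

variable {C : Type u₁} [Category.{v₁} C] {D : Type u₂} [Category.{v₂} D]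
  (u : C ⥤ D) (J : GrothendieckTopology C) (K : GrothendieckTopology D)
  [u.IsContinuous J K]
  [∀ F : Cᵒᵖ ⥤ AddCommGrpCat.{w}, u.op.HasPointwiseLeftKanExtension F]
  [HasWeakSheafify K AddCommGrpCat.{w}]
  [K.WEqualsLocallyBijective AddCommGrpCat.{w}]
  [K.HasSheafCompose (forget AddCommGrpCat.{w})]

set_option backward.isDefEq.respectTransparency false in
theorem isIso_homEquiv_symm (F : Sheaf J AddCommGrpCat.{w}) (Q : Sheaf K AddCommGrpCat.{w})
    (η : F ⟶ (u.sheafPushforwardContinuous AddCommGrpCat.{w} J K).obj Q)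
    (h1 : Presheaf.IsLocallyInjective K (lanAdjunct u F.obj Q.obj η.hom))
    (h2 : Presheaf.IsLocallySurjective K (lanAdjunct u F.obj Q.obj η.hom)) :
    IsIso (((u.sheafAdjunctionContinuous AddCommGrpCat.{w} J K).homEquiv F Q).symm η) := by
  let adj := u.sheafAdjunctionContinuous AddCommGrpCat.{w} J K
  let adj' := Functor.sheafPullbackConstruction.sheafAdjunctionContinuous u AddCommGrpCat.{w} J K
  have key : (adj'.homEquiv F Q).symm η =
      (presheafToSheaf K AddCommGrpCat.{w}).map (lanAdjunct u F.obj Q.obj η.hom) ≫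
        (sheafificationAdjunction K AddCommGrpCat.{w}).counit.app Q := by
    rw [Adjunction.homEquiv_counit, explicit_counit]
    change (presheafToSheaf K AddCommGrpCat.{w}).map (u.op.lan.map η.hom) ≫ _ ≫ _ = _
    rw [← Category.assoc, ← Functor.map_comp]
    congr 2
  have hm : IsIso ((presheafToSheaf K AddCommGrpCat.{w}).map
      (lanAdjunct u F.obj Q.obj η.hom)) :=
    (GrothendieckTopology.W_iff K _).1 (K.W_of_isLocallyBijective _)
  have h2 : IsIso ((adj'.homEquiv F Q).symm η) := by
    rw [key]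
    infer_instance
  have h3 : (adj.homEquiv F Q).symm η =
      (Adjunction.leftAdjointUniq adj adj').hom.app F ≫ (adj'.homEquiv F Q).symm η := by
    rw [Equiv.symm_apply_eq, Adjunction.homEquiv_naturality_right,
      Adjunction.homEquiv_leftAdjointUniq_hom_app, ← Adjunction.homEquiv_unit,
      Equiv.apply_symm_apply]
  change IsIso ((adj.homEquiv F Q).symm η)
  rw [h3]
  infer_instance

end Sheaf

end Groth.Agent.H7.EZ
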