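import Mathlib
import Groth.Prelude.Def_EtShriek2
import Groth.Agent.Lib.Helper7.EZB
import Groth.Agent.Lib.Helper7.EZC

/-!
# Helper7: EZD — sections with proper support are locally sums of extensions by zero
-/

set_option autoImplicit false

universe u

open CategoryTheory CategoryTheory.Limits Opposite AlgebraicGeometry MorphismProperty

namespace Groth.Agent.H7.EZ

section Zero

variable {U : Scheme.{u}} (F : EtCoh.Ab U)

set_option backward.isDefEq.respectTransparency false in
lemma map_map_apply {A B C : U.Etale} (f : A ⟶ B) (g : B ⟶ C) (s : F.obj.obj (op C)) :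
    F.obj.map f.op (F.obj.map g.op s) = F.obj.map (f ≫ g).op s := by
  have := congrArg (fun φ => φ.hom s) (F.obj.map_comp g.op f.op)
  simp only [AddCommGrpCat.hom_comp, AddMonoidHom.coe_comp, Function.comp_apply] at this
  exact this.symm

set_option backward.isDefEq.respectTransparency false in
/-- a section vanishing on a jointly surjective étale family is zero -/
lemma eq_zero_of_locally_zero {T : U.Etale} (s : F.obj.obj (op T))
    (h : ∀ x : T.left, ∃ (T' : U.Etale) (c : T' ⟶ T) (x' : T'.left),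
      c.left x' = x ∧ F.obj.map c.op s = 0) : s = 0 := by
  let S : Sieve T :=
    { arrows := fun T' c => F.obj.map c.op s = 0
      downward_closed := by
        intro T₁ T₂ c hc d
        change F.obj.map (d ≫ c).op s = 0
        rw [← map_map_apply, hc, map_zero] }
  have hS : S ∈ U.smallEtaleTopology T :=
    sieve_mem_of_jointly_surjective S (fun x => by
      obtain ⟨T', c, x', hx, hc⟩ := h x
      exact ⟨T', c, x', hc, hx⟩)
  refine ((isSheaf_type F) S hS).isSeparatedFor.ext ?_
  intro T' c hc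
  change F.obj.map c.op s = F.obj.map c.op 0
  rw [map_zero]
  exact hc

/-- `s` vanishes on every étale `T → B` whose image misses `A` -/
def SuppIn {B : U.Etale} (s : F.obj.obj (op B)) (A : Set B.left) : Prop :=
  ∀ (T : U.Etale) (b : T ⟶ B), (∀ x : T.left, b.left x ∉ A) → F.obj.map b.op s = 0

set_option backward.isDefEq.respectTransparency false in
lemma suppIn_of_sectSupp {B : U.Etale} (s : F.obj.obj (op B)) (A : Set B.left)
    (h : EtShriek.sectSupp F B s ⊆ A) : SuppIn F s A := by
  intro T b hb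
  refine eq_zero_of_locally_zero F _ (fun x => ?_)
  have hx : b.left x ∉ EtShriek.sectSupp F B s := fun h' => hb x (h h')
  simp only [EtShriek.sectSupp, Set.mem_setOf_eq, not_forall, not_not] at hx
  obtain ⟨W0, g0, ⟨w0, hw0⟩, e0⟩ := hx
  let T' : U.Etale := Scheme.Etale.mk (pullback.fst b.left g0.left ≫ T.hom)
  let c : T' ⟶ T := MorphismProperty.Over.homMk (pullback.fst b.left g0.left) rfl
  have hc : pullback.snd b.left g0.left ≫ W0.hom = pullback.fst b.left g0.left ≫ T.hom := by
    rw [← MorphismProperty.Over.w b, ← MorphismProperty.Over.w g0, ← Category.assoc,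
      ← Category.assoc, pullback.condition]
  let c' : T' ⟶ W0 := MorphismProperty.Over.homMk (pullback.snd b.left g0.left) hc
  have hp : c ≫ b = c' ≫ g0 := MorphismProperty.Over.Hom.ext pullback.condition
  obtain ⟨z, hz1, hz2⟩ := Scheme.Pullback.exists_preimage_pullback (f := b.left) (g := g0.left)
    x w0 hw0.symm
  refine ⟨T', c, z, hz1, ?_⟩
  rw [map_map_apply, hp, ← map_map_apply, e0, map_zero]

set_option backward.isDefEq.respectTransparency false in
lemma eq_zero_of_suppIn_empty {B : U.Etale} (s : F.obj.obj (op B)) (h : SuppIn F s ∅) : s = 0 := by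
  have := h B (𝟙 B) (fun x hx => hx)
  simpa using this

lemma SuppIn.mono {B : U.Etale} {s : F.obj.obj (op B)} {A A' : Set B.left} (h : SuppIn F s A)
    (hA : A ⊆ A') : SuppIn F s A' :=
  fun T b hb => h T b (fun x hx => hb x (hA hx))

set_option backward.isDefEq.respectTransparency false in
lemma SuppIn.map {B B' : U.Etale} {s : F.obj.obj (op B)} {A : Set B.left} (h : SuppIn F s A)
    (c : B' ⟶ B) : SuppIn F (F.obj.map c.op s) (c.left ⁻¹' A) := by
  intro T b hb
  rw [map_map_apply]
  exact h T (b ≫ c) (fun x hx => hb x hx)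

end Zero


section Geo

open EtShriek

variable {U X : Scheme.{u}} (j : U ⟶ X) [Etale j]

instance isOpenImmersion_gr (V : U.Etale) : IsOpenImmersion (gr j V).left := by
  haveI : Mono (gr j V).left := mono_of_mono_fac (gr_left_pr1 j V)
  exact IsOpenImmersion.of_flat_of_mono _

set_option backward.isDefEq.respectTransparency false in
lemma disj_of_not_mem_range (V : U.Etale) {T : U.Etale}
    (b : T ⟶ (EtCoh.bc j).obj ((compEtale j).obj V))
    (h : ∀ x : T.left, b.left x ∉ Set.range (gr j V).left) :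
    Disj ((b.left ≫ pr1 j V) ≫ V.hom) T.hom := by
  intro T' t ht
  refine ⟨fun t' => ?_⟩
  have hT : T.hom = b.left ≫ pr2 j V := (MorphismProperty.Over.w b).symm
  have e : t ≫ b.left = (t ≫ b.left ≫ pr1 j V) ≫ (gr j V).left := by
    apply pr_hom_ext
    · simp only [Category.assoc, gr_left_pr1, Category.comp_id]
    · simp only [Category.assoc, gr_left_pr2]
      rw [hT] at ht
      simpa only [Category.assoc] using ht.symm
  have h1 : (t ≫ b.left) t' ∈ Set.range (gr j V).left := by
    rw [e]; exact ⟨_, (Scheme.Hom.comp_apply _ _ _).symm⟩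
  exact h (t t') (by rwa [Scheme.Hom.comp_apply] at h1)

variable [IsSeparated j] (F : EtCoh.Ab U)

set_option backward.isDefEq.respectTransparency false in
lemma ext_map_eq_zero (V : U.Etale) (s : F.obj.obj (op V)) {T : U.Etale}
    (b : T ⟶ (EtCoh.bc j).obj ((compEtale j).obj V))
    (h : ∀ x : T.left, b.left x ∉ Set.range (gr j V).left) :
    F.obj.map b.op (ext F j V s) = 0 := by
  have hd := disj_of_not_mem_range j V b h
  rw [ext_spec F j V s b (Or.inr hd)]
  by_cases h' : (b.left ≫ pr1 j V) ≫ V.hom = T.hom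
  · haveI : IsEmpty T.left := hd T.left (𝟙 _) (by rw [Category.id_comp, Category.id_comp, h'])
    haveI := sections_subsingleton_of_isEmpty F T
    exact Subsingleton.elim _ _
  · exact resOr_neg F _ _ h'

set_option backward.isDefEq.respectTransparency false in
lemma ext_gr (V : U.Etale) (s : F.obj.obj (op V)) :
    F.obj.map (gr j V).op (ext F j V s) = s := by
  have h : ((gr j V).left ≫ pr1 j V) ≫ V.hom = V.hom := by rw [gr_left_pr1, Category.id_comp]
  rw [ext_spec F j V s (gr j V) (Or.inl h), resOr_pos F _ _ h]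
  have : (MorphismProperty.Over.homMk ((gr j V).left ≫ pr1 j V) h : V ⟶ V) = 𝟙 V :=
    MorphismProperty.Over.Hom.ext (gr_left_pr1 j V)
  rw [this]
  simp

lemma suppIn_ext (V : U.Etale) (s : F.obj.obj (op V)) :
    SuppIn F (ext F j V s) (Set.range (gr j V).left) :=
  fun _ b hb => ext_map_eq_zero j F V s b hb

/-- the étale `X`-scheme `N ×_X U` -/
noncomputable abbrev N2 (N : X.Etale) : X.Etale := (compEtale j).obj ((EtCoh.bc j).obj N)

set_option backward.isDefEq.respectTransparency false in
/-- the projection `N ×_X U ⟶ N` -/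
noncomputable def h2 (N : X.Etale) : N2 j N ⟶ N :=
  MorphismProperty.Over.homMk (prV j N) pullback.condition

set_option backward.isDefEq.respectTransparency false in
lemma gr_bc_h2 (N : X.Etale) :
    gr j ((EtCoh.bc j).obj N) ≫ (EtCoh.bc j).map (h2 j N) = 𝟙 _ := by
  apply MorphismProperty.Over.Hom.ext
  change (gr j ((EtCoh.bc j).obj N)).left ≫ ((EtCoh.bc j).map (h2 j N)).left = 𝟙 _
  apply pullback.hom_ext
  · rw [Category.assoc, bc_map_left_fst', Category.id_comp]
    change (gr j ((EtCoh.bc j).obj N)).left ≫ pr1 j ((EtCoh.bc j).obj N) ≫ prV j N = _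
    rw [← Category.assoc, gr_left_pr1, Category.id_comp]
  · rw [Category.assoc, Category.id_comp]
    have : ((EtCoh.bc j).map (h2 j N)).left ≫ pullback.snd N.hom j =
        pr2 j ((EtCoh.bc j).obj N) := pullback.lift_snd _ _ _
    rw [this, gr_left_pr2]
    rfl

end Geo


section CI

open EtShriek

variable {U X : Scheme.{u}} (j : U ⟶ X) [Etale j] [IsSeparated j]

/-- subsets of `N ×_X U` which are images of closed subschemes of `N` -/
def CI (N : X.Etale) (A : Set ((EtCoh.bc j).obj N).left) : Prop :=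
  ∃ (V : Scheme.{u}) (a : V ⟶ ((EtCoh.bc j).obj N).left),
    IsClosedImmersion (a ≫ prV j N) ∧ Set.range a = A

variable {j}

lemma CI.isClosed_image {N : X.Etale} {A : Set ((EtCoh.bc j).obj N).left} (h : CI j N A)
    (C : Set ((EtCoh.bc j).obj N).left) (hC : IsClosed C) : IsClosed (prV j N '' (A ∩ C)) := by
  obtain ⟨V, a, ha, rfl⟩ := h
  have : prV j N '' (Set.range a ∩ C) = (a ≫ prV j N) '' (a ⁻¹' C) := by
    ext y
    constructor
    · rintro ⟨_, ⟨⟨v, rfl⟩, hv⟩, rfl⟩
      exact ⟨v, hv, Scheme.Hom.comp_apply _ _ _⟩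
    · rintro ⟨v, hv, rfl⟩
      exact ⟨a v, ⟨⟨v, rfl⟩, hv⟩, (Scheme.Hom.comp_apply _ _ _).symm⟩
  rw [this]
  exact (a ≫ prV j N).isClosedEmbedding.isClosedMap _ (hC.preimage a.continuous)

lemma CI.inj {N : X.Etale} {A : Set ((EtCoh.bc j).obj N).left} (h : CI j N A)
    {y y' : ((EtCoh.bc j).obj N).left} (hy : y ∈ A) (hy' : y' ∈ A)
    (e : prV j N y = prV j N y') : y = y' := by
  obtain ⟨V, a, ha, rfl⟩ := h
  obtain ⟨v, rfl⟩ := hy
  obtain ⟨v', rfl⟩ := hy'
  have : (a ≫ prV j N) v = (a ≫ prV j N) v' := by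
    rw [Scheme.Hom.comp_apply, Scheme.Hom.comp_apply]; exact e
  rw [(a ≫ prV j N).isClosedEmbedding.injective this]

set_option backward.isDefEq.respectTransparency false in
lemma CI.preimage {N N' : X.Etale} {A : Set ((EtCoh.bc j).obj N).left} (h : CI j N A)
    (g : N' ⟶ N) : CI j N' (((EtCoh.bc j).map g).left ⁻¹' A) := by
  obtain ⟨V, a, ha, rfl⟩ := h
  refine ⟨pullback a ((EtCoh.bc j).map g).left, pullback.snd _ _, ?_,
    Scheme.Pullback.range_snd _ _⟩
  have sq : IsPullback (pullback.fst a ((EtCoh.bc j).map g).left)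
      (pullback.snd a ((EtCoh.bc j).map g).left ≫ prV j N') (a ≫ prV j N) g.left :=
    (IsPullback.of_hasPullback a ((EtCoh.bc j).map g).left).paste_vert
      (EtCoh.isPullback_bc_map j g)
  exact MorphismProperty.of_isPullback (P := @IsClosedImmersion) sq ha

variable (j)

set_option backward.isDefEq.respectTransparency false in
lemma exists_open_nbhd (N : X.Etale) (Cl : Set N.left) (hCl : IsClosed Cl) (u : N.left)
    (hu : u ∉ Cl) :
    ∃ (N' : X.Etale) (h : N' ⟶ N) (u' : N'.left), h.left u' = u ∧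
      ∀ y : ((EtCoh.bc j).obj N').left, prV j N (((EtCoh.bc j).map h).left y) ∉ Cl := by
  let O : N.left.Opens := ⟨Clᶜ, hCl.isOpen_compl⟩
  let N' : X.Etale := Scheme.Etale.mk (O.ι ≫ N.hom)
  let h : N' ⟶ N := MorphismProperty.Over.homMk O.ι rfl
  refine ⟨N', h, ⟨u, hu⟩, rfl, fun y => ?_⟩
  have e : prV j N (((EtCoh.bc j).map h).left y) = O.ι (prV j N' y) := by
    have := congrArg (fun f : ((EtCoh.bc j).obj N').left ⟶ N.left => f y) (bc_map_left_fst' j h)
    simp only [Scheme.Hom.comp_apply] at this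
    exact this
  rw [e]
  have : O.ι (prV j N' y) ∈ Set.range O.ι := ⟨_, rfl⟩
  rw [Scheme.Opens.range_ι] at this
  exact this

variable (F : EtCoh.Ab U)

/-- subgroup of sections over `N ×_X U` generated by extensions by zero -/
noncomputable def ImgGrp (N : X.Etale) : AddSubgroup (F.obj.obj (op ((EtCoh.bc j).obj N))) :=
  AddSubgroup.closure {y | ∃ (V : U.Etale) (g : N ⟶ (compEtale j).obj V) (s : F.obj.obj (op V)),
    F.obj.map ((EtCoh.bc j).map g).op (ext F j V s) = y}

set_option backward.isDefEq.respectTransparency false in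
lemma ImgGrp.map {N N' : X.Etale} (h : N' ⟶ N) {y : F.obj.obj (op ((EtCoh.bc j).obj N))}
    (hy : y ∈ ImgGrp j F N) : F.obj.map ((EtCoh.bc j).map h).op y ∈ ImgGrp j F N' := by
  induction hy using AddSubgroup.closure_induction with
  | mem y hy =>
    obtain ⟨V, g, s, rfl⟩ := hy
    refine AddSubgroup.subset_closure ⟨V, h ≫ g, s, ?_⟩
    rw [Functor.map_comp, map_map_apply]
  | zero => rw [map_zero]; exact zero_mem _
  | add x y _ _ hx hy => rw [map_add]; exact add_mem hx hy
  | neg x _ hx => rw [map_neg]; exact neg_mem hx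

end CI


section Induction

open EtShriek

variable {U X : Scheme.{u}} (j : U ⟶ X) [Etale j] [IsSeparated j] (F : EtCoh.Ab U)

set_option backward.isDefEq.respectTransparency false in
/-- key step: after subtracting the extension by zero along the tautological graph, the support
shrinks -/
lemma suppIn_sub_ext (N : X.Etale) (t : F.obj.obj (op ((EtCoh.bc j).obj N)))
    (A : Set ((EtCoh.bc j).obj N).left) (R : Set ((EtCoh.bc j).obj N).left)
    (hsupp : SuppIn F t (A ∪ R)) :
    SuppIn F (F.obj.map ((EtCoh.bc j).map (h2 j N)).op t - ext F j ((EtCoh.bc j).obj N) t)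
      ((((EtCoh.bc j).map (h2 j N)).left ⁻¹' R) ∪
        ((((EtCoh.bc j).map (h2 j N)).left ⁻¹' A) ∩
          (Set.range (gr j ((EtCoh.bc j).obj N)).left)ᶜ)) := by
  intro T b hb
  refine eq_zero_of_locally_zero F _ (fun x => ?_)
  by_cases hx : b.left x ∈ Set.range (gr j ((EtCoh.bc j).obj N)).left
  · -- near the graph
    let Γo : ((EtCoh.bc j).obj (N2 j N)).left.Opens :=
      ⟨Set.range (gr j ((EtCoh.bc j).obj N)).left, IsOpenImmersion.isOpen_range _⟩
    let O₁ : T.left.Opens := b.left ⁻¹ᵁ Γo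
    let T₁ : U.Etale := Scheme.Etale.mk (O₁.ι ≫ T.hom)
    let c₁ : T₁ ⟶ T := MorphismProperty.Over.homMk O₁.ι rfl
    have hr : Set.range (O₁.ι ≫ b.left) ⊆ Set.range (gr j ((EtCoh.bc j).obj N)).left := by
      rintro _ ⟨z, rfl⟩
      rw [Scheme.Hom.comp_apply]
      have : O₁.ι z ∈ Set.range O₁.ι := ⟨_, rfl⟩
      rw [Scheme.Opens.range_ι] at this
      exact this
    have hl : IsOpenImmersion.lift (gr j ((EtCoh.bc j).obj N)).left (O₁.ι ≫ b.left) hr ≫
        (gr j ((EtCoh.bc j).obj N)).left = O₁.ι ≫ b.left := IsOpenImmersion.lift_fac _ _ hr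
    have hw : IsOpenImmersion.lift (gr j ((EtCoh.bc j).obj N)).left (O₁.ι ≫ b.left) hr ≫
        ((EtCoh.bc j).obj N).hom = T₁.hom := by
      rw [← MorphismProperty.Over.w (gr j ((EtCoh.bc j).obj N)), ← Category.assoc, hl,
        Category.assoc, MorphismProperty.Over.w b]
      rfl
    let l : T₁ ⟶ (EtCoh.bc j).obj N := MorphismProperty.Over.homMk _ hw
    have hfac : c₁ ≫ b = l ≫ gr j ((EtCoh.bc j).obj N) :=
      MorphismProperty.Over.Hom.ext hl.symm
    refine ⟨T₁, c₁, ⟨x, hx⟩, rfl, ?_⟩
    rw [map_map_apply, hfac, ← map_map_apply, map_sub, map_map_apply, gr_bc_h2, ext_gr]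
    simp
  · -- away from the graph
    let Γc : ((EtCoh.bc j).obj (N2 j N)).left.Opens :=
      ⟨(Set.range (gr j ((EtCoh.bc j).obj N)).left)ᶜ,
        (gr j ((EtCoh.bc j).obj N)).left.isClosedEmbedding.isClosed_range.isOpen_compl⟩
    let O₂ : T.left.Opens := b.left ⁻¹ᵁ Γc
    let T₂ : U.Etale := Scheme.Etale.mk (O₂.ι ≫ T.hom)
    let c₂ : T₂ ⟶ T := MorphismProperty.Over.homMk O₂.ι rfl
    have hmiss : ∀ z : T₂.left, (c₂ ≫ b).left z ∉
        Set.range (gr j ((EtCoh.bc j).obj N)).left := by
      intro z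
      change b.left (O₂.ι z) ∉ _
      have : O₂.ι z ∈ Set.range O₂.ι := ⟨_, rfl⟩
      rw [Scheme.Opens.range_ι] at this
      exact this
    refine ⟨T₂, c₂, ⟨x, hx⟩, rfl, ?_⟩
    rw [map_map_apply, map_sub, ext_map_eq_zero j F _ t (c₂ ≫ b) hmiss, sub_zero, map_map_apply]
    refine hsupp T₂ ((c₂ ≫ b) ≫ (EtCoh.bc j).map (h2 j N)) (fun z hz => ?_)
    have hz' : ((EtCoh.bc j).map (h2 j N)).left ((c₂ ≫ b).left z) ∈ A ∪ R := hz
    have hbz := hb (c₂.left z)
    rcases hz' with hzA | hzR
    · exact hbz (Or.inr ⟨hzA, hmiss z⟩)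
    · exact hbz (Or.inl hzR)


set_option backward.isDefEq.respectTransparency false in
theorem locSurj_aux (n : ℕ) : ∀ (N : X.Etale) (u : N.left)
    (t : F.obj.obj (op ((EtCoh.bc j).obj N))) (L : List (Set ((EtCoh.bc j).obj N).left)),
    L.length ≤ n → (∀ A ∈ L, CI j N A) → SuppIn F t {y | ∃ A ∈ L, y ∈ A} →
    ∃ (N' : X.Etale) (h : N' ⟶ N) (u' : N'.left), h.left u' = u ∧
      F.obj.map ((EtCoh.bc j).map h).op t ∈ ImgGrp j F N' := by
  induction n with
  | zero =>
    intro N u t L hL hCI hsupp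
    have hL0 : L = [] := List.length_eq_zero_iff.1 (Nat.le_zero.1 hL)
    subst hL0
    have ht : t = 0 := eq_zero_of_suppIn_empty F t (hsupp.mono F (by
      rintro y ⟨A, hA, _⟩
      simp at hA))
    exact ⟨N, 𝟙 N, u, rfl, by rw [ht, map_zero]; exact zero_mem _⟩
  | succ n ih =>
    intro N u t L hL hCI hsupp
    rcases L with _ | ⟨A, L'⟩
    · have ht : t = 0 := eq_zero_of_suppIn_empty F t (hsupp.mono F (by
        rintro y ⟨A, hA, _⟩
        simp at hA))
      exact ⟨N, 𝟙 N, u, rfl, by rw [ht, map_zero]; exact zero_mem _⟩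
    · have hA : CI j N A := hCI A (List.mem_cons_self ..)
      have hL' : L'.length ≤ n := by simpa using hL
      have hsupp' : SuppIn F t (A ∪ {y | ∃ A' ∈ L', y ∈ A'}) := hsupp.mono F (by
        rintro y ⟨A', hA', hy⟩
        rcases List.mem_cons.1 hA' with rfl | hA'
        · exact Or.inl hy
        · exact Or.inr ⟨A', hA', hy⟩)
      by_cases hu : u ∈ prV j N '' A
      · -- the main case
        obtain ⟨y₀, hy₀, rfl⟩ := hu
        let B := (EtCoh.bc j).obj N
        let pre₂ : Set ((EtCoh.bc j).obj N).left → Set ((EtCoh.bc j).obj (N2 j N)).left :=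
          fun S => ((EtCoh.bc j).map (h2 j N)).left ⁻¹' S
        let Γ : Set ((EtCoh.bc j).obj (N2 j N)).left := Set.range (gr j B).left
        have hΓo : IsOpen Γ := IsOpenImmersion.isOpen_range _
        have hA₂ : CI j (N2 j N) (pre₂ A) := hA.preimage (h2 j N)
        have claim1 := suppIn_sub_ext j F N t A {y | ∃ A' ∈ L', y ∈ A'} hsupp'
        let Cl : Set (N2 j N).left := prV j (N2 j N) '' (pre₂ A ∩ Γᶜ)
        have hCl : IsClosed Cl := hA₂.isClosed_image _ hΓo.isClosed_compl
        have hu₂ : (y₀ : (N2 j N).left) ∉ Cl := by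
          rintro ⟨y, ⟨hyA, hyΓ⟩, hy⟩
          have hΓ1 : prV j (N2 j N) ((gr j B).left y₀) = y₀ := by
            have := congrArg (fun f : B.left ⟶ B.left => f y₀) (gr_left_pr1 j B)
            simp only [Scheme.Hom.comp_apply] at this
            exact this
          have hΓ2 : (gr j B).left y₀ ∈ pre₂ A := by
            change ((EtCoh.bc j).map (h2 j N)).left ((gr j B).left y₀) ∈ A
            have := congrArg (fun f : B ⟶ B => f.left y₀) (gr_bc_h2 j N)
            change ((gr j B).left ≫ ((EtCoh.bc j).map (h2 j N)).left) y₀ = y₀ at this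
            rw [Scheme.Hom.comp_apply] at this
            rw [this]
            exact hy₀
          have := hA₂.inj hyA hΓ2 (hy.trans hΓ1.symm)
          exact hyΓ (this ▸ ⟨y₀, rfl⟩)
        obtain ⟨N₃, h₃, u₃, hu₃, hN₃⟩ := exists_open_nbhd j (N2 j N) Cl hCl y₀ hu₂
        let pre₃ : Set ((EtCoh.bc j).obj (N2 j N)).left → Set ((EtCoh.bc j).obj N₃).left :=
          fun S => ((EtCoh.bc j).map h₃).left ⁻¹' S
        obtain ⟨N₄, h₄, u₄, hu₄, hN₄⟩ := ih N₃ u₃
          (F.obj.map ((EtCoh.bc j).map h₃).op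
            (F.obj.map ((EtCoh.bc j).map (h2 j N)).op t - ext F j B t))
          ((L'.map pre₂).map pre₃) (by simpa using hL')
          (by
            intro A' hA'
            obtain ⟨A₁, hA₁, rfl⟩ := List.mem_map.1 hA'
            obtain ⟨A₂, hA₂', rfl⟩ := List.mem_map.1 hA₁
            exact ((hCI A₂ (List.mem_cons_of_mem _ hA₂')).preimage (h2 j N)).preimage h₃)
          ((claim1.map F ((EtCoh.bc j).map h₃)).mono F (by
            rintro y (⟨A', hA', hy⟩ | ⟨hyA, hyΓ⟩)
            · exact ⟨pre₃ (pre₂ A'), List.mem_map.2 ⟨pre₂ A', List.mem_map.2 ⟨A', hA', rfl⟩, rfl⟩,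
                hy⟩
            · exact (hN₃ y ⟨_, ⟨hyA, hyΓ⟩, rfl⟩).elim))
        refine ⟨N₄, h₄ ≫ h₃ ≫ h2 j N, u₄, ?_, ?_⟩
        · change (h2 j N).left (h₃.left (h₄.left u₄)) = _
          rw [hu₄, hu₃]
          rfl
        · have e1 : F.obj.map ((EtCoh.bc j).map (h₄ ≫ h₃ ≫ h2 j N)).op t =
              F.obj.map ((EtCoh.bc j).map h₄).op (F.obj.map ((EtCoh.bc j).map h₃).op
                (F.obj.map ((EtCoh.bc j).map (h2 j N)).op t - ext F j B t)) +
              F.obj.map ((EtCoh.bc j).map (h₄ ≫ h₃)).op (ext F j B t) := by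
            rw [map_sub, map_sub, map_map_apply, map_map_apply, map_map_apply,
              ← Functor.map_comp, ← Functor.map_comp, Category.assoc, sub_add_cancel]
          rw [e1]
          exact add_mem hN₄ (AddSubgroup.subset_closure ⟨B, h₄ ≫ h₃, t, rfl⟩)
      · -- shrink the base away from the image of `A`
        have hCl : IsClosed (prV j N '' A) := by
          have := hA.isClosed_image Set.univ isClosed_univ
          rwa [Set.inter_univ] at this
        obtain ⟨N', h, u', hu', hN'⟩ := exists_open_nbhd j N _ hCl u hu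
        let pre : Set ((EtCoh.bc j).obj N).left → Set ((EtCoh.bc j).obj N').left :=
          fun S => ((EtCoh.bc j).map h).left ⁻¹' S
        obtain ⟨N'', h', u'', hu'', hN''⟩ := ih N' u' (F.obj.map ((EtCoh.bc j).map h).op t)
          (L'.map pre) (by simpa using hL')
          (by
            intro A' hA'
            obtain ⟨A₁, hA₁, rfl⟩ := List.mem_map.1 hA'
            exact (hCI A₁ (List.mem_cons_of_mem _ hA₁)).preimage h)
          ((hsupp'.map F ((EtCoh.bc j).map h)).mono F (by
            rintro y (hyA | ⟨A', hA', hy⟩)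
            · exact (hN' y ⟨_, hyA, rfl⟩).elim
            · exact ⟨pre A', List.mem_map.2 ⟨A', hA', rfl⟩, hy⟩))
        refine ⟨N'', h' ≫ h, u'', ?_, ?_⟩
        · change h.left (h'.left u'') = u
          rw [hu'', hu']
        · rw [Functor.map_comp, ← map_map_apply]
          exact hN''

end Induction

end Groth.Agent.H7.EZ
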