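import Mathlib
import Groth.Prelude.Def_EtShriek2
import Groth.Agent.Lib.Helper1.ProperOverClSub2
import Groth.Agent.Lib.Helper5.AlgSp.FppfLocal

/-!
# Helper7: ShrSheaf — sections with proper support form a sheaf (S0680)
-/

set_option autoImplicit false

open CategoryTheory Limits AlgebraicGeometry Opposite MorphismProperty

namespace Groth.Agent.H7.ShrSheaf

universe u v₁ u₁

section Abstract

variable {C : Type u₁} [Category.{v₁} C] (J : GrothendieckTopology C)

/-- A sub-presheaf of a sheaf of abelian groups which is closed under gluing is a sheaf. -/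
theorem isSheaf_of_sub (P G : Cᵒᵖ ⥤ AddCommGrpCat.{max v₁ u₁}) (ι : P ⟶ G)
    (hι : ∀ V, Function.Injective (ι.app V))
    (hG : Presheaf.IsSheaf J G)
    (hglue : ∀ (V : C) (S : Sieve V), S ∈ J V → ∀ s : G.obj (op V),
      (∀ ⦃V' : C⦄ (g : V' ⟶ V), S g → ∃ t : P.obj (op V'), ι.app (op V') t = G.map g.op s) →
        ∃ t : P.obj (op V), ι.app (op V) t = s) :
    Presheaf.IsSheaf J P := by
  rw [Presheaf.isSheaf_iff_isSheaf_forget J P (forget _), isSheaf_iff_isSheaf_of_type]
  have hG' : Presieve.IsSheaf J (G ⋙ forget _) := by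
    rw [← isSheaf_iff_isSheaf_of_type, ← Presheaf.isSheaf_iff_isSheaf_forget J G (forget _)]
    exact hG
  have nat : ∀ {A B : C} (g : A ⟶ B) (t : P.obj (op B)),
      ι.app (op A) (P.map g.op t) = G.map g.op (ι.app (op B) t) := by
    intro A B g t
    have := congrArg (fun φ => φ t) (congrArg AddCommGrpCat.Hom.hom (ι.naturality g.op))
    simpa using this
  intro V S hS x hx
  let y : Presieve.FamilyOfElements (G ⋙ forget _) S.arrows :=
    fun V' g hg => ι.app (op V') (x g hg)
  have hy : y.Compatible := by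
    intro A B D g1 g2 f1 f2 h1 h2 e
    change G.map g1.op (ι.app (op A) (x f1 h1)) = G.map g2.op (ι.app (op B) (x f2 h2))
    rw [← nat, ← nat]
    exact congrArg _ (hx g1 g2 h1 h2 e)
  obtain ⟨t, ht, htu⟩ := hG' S hS y hy
  obtain ⟨s, rfl⟩ := hglue V S hS t (fun V' g hg => ⟨x g hg, (ht g hg).symm⟩)
  refine ⟨s, ?_, ?_⟩
  · intro V' g hg
    apply hι
    change ι.app (op V') (P.map g.op s) = _
    rw [nat]
    exact ht g hg
  · intro s' hs'
    apply hι
    apply htu
    intro V' g hg
    change G.map g.op (ι.app (op V) s') = ι.app (op V') (x g hg)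
    rw [← nat]
    exact congrArg _ (hs' g hg)

end Abstract


section Supp

open EtShriek

variable {X : Scheme.{u}} (F : EtCoh.Ab X)

lemma sectSupp_zero (U : X.Etale) : sectSupp F U 0 = ∅ := by
  ext x
  simp only [Set.mem_empty_iff_false, iff_false]
  intro hx
  refine hx U (𝟙 U) ⟨x, rfl⟩ ?_
  exact map_zero _

lemma sectSupp_neg (U : X.Etale) (s : EtCoh.sect F U) : sectSupp F U (-s) = sectSupp F U s := by
  ext x
  refine forall_congr' fun W => forall_congr' fun g => imp_congr Iff.rfl ?_
  rw [map_neg, neg_ne_zero]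

lemma sectSupp_add_subset (U : X.Etale) (s t : EtCoh.sect F U) :
    sectSupp F U (s + t) ⊆ sectSupp F U s ∪ sectSupp F U t := by
  intro x hx
  by_contra hcon
  rw [Set.mem_union, not_or] at hcon
  obtain ⟨h1, h2⟩ := hcon
  simp only [sectSupp, Set.mem_setOf_eq, not_forall, not_not] at h1 h2
  obtain ⟨W1, g1, ⟨w1, hw1⟩, e1⟩ := h1
  obtain ⟨W2, g2, ⟨w2, hw2⟩, e2⟩ := h2
  let W : X.Etale := Scheme.Etale.mk (pullback.fst g1.left g2.left ≫ W1.hom)
  let p1 : W ⟶ W1 := MorphismProperty.Over.homMk (pullback.fst g1.left g2.left) rfl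
  have hc : pullback.snd g1.left g2.left ≫ W2.hom = pullback.fst g1.left g2.left ≫ W1.hom := by
    rw [← MorphismProperty.Over.w g1, ← MorphismProperty.Over.w g2, ← Category.assoc,
      ← Category.assoc, pullback.condition]
  let p2 : W ⟶ W2 := MorphismProperty.Over.homMk (pullback.snd g1.left g2.left) hc
  have hp : p1 ≫ g1 = p2 ≫ g2 := by
    apply MorphismProperty.Over.Hom.ext
    exact pullback.condition
  obtain ⟨z, hz1, hz2⟩ := Scheme.Pullback.exists_preimage_pullback (f := g1.left) (g := g2.left)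
    w1 w2 (hw1.trans hw2.symm)
  refine hx W (p1 ≫ g1) ⟨z, ?_⟩ ?_
  · change g1.left.base ((pullback.fst g1.left g2.left).base z) = x
    rw [hz1, hw1]
  · rw [map_add]
    have a1 : F.obj.map (p1 ≫ g1).op s = 0 := by
      rw [op_comp, Functor.map_comp]
      change F.obj.map p1.op (F.obj.map g1.op s) = 0
      rw [e1, map_zero]
    have a2 : F.obj.map (p1 ≫ g1).op t = 0 := by
      rw [hp, op_comp, Functor.map_comp]
      change F.obj.map p2.op (F.obj.map g2.op t) = 0
      rw [e2, map_zero]
    rw [a1, a2, add_zero]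

lemma isClosed_sectSupp (U : X.Etale) (s : EtCoh.sect F U) : IsClosed (sectSupp F U s) := by
  rw [← isOpen_compl_iff, isOpen_iff_forall_mem_open]
  intro x hx
  simp only [sectSupp, Set.mem_compl_iff, Set.mem_setOf_eq, not_forall, not_not] at hx
  obtain ⟨W, g, ⟨w, hw⟩, e⟩ := hx
  refine ⟨Set.range g.left.base, ?_, g.left.isOpenMap.isOpen_range, ⟨w, hw⟩⟩
  rintro _ ⟨w', rfl⟩ hw'
  exact hw' W g ⟨w', rfl⟩ e

lemma preimage_sectSupp_subset {U U' : X.Etale} (h : U' ⟶ U) (s : EtCoh.sect F U) :
    h.left.base ⁻¹' (sectSupp F U s) ⊆ sectSupp F U' (F.obj.map h.op s) := by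
  intro x' hx' W' g' ⟨w', hw'⟩
  have := hx' W' (g' ≫ h) ⟨w', by
    change h.left.base (g'.left.base w') = _
    rw [hw']⟩
  rwa [op_comp, Functor.map_comp] at this

end Supp


section Proper

open EtShriek Groth.Agent.H1

variable {X S : Scheme.{u}}

/-- a closed subset of a closed subset proper over the base is proper over the base
(copy of lead's `PS.isProperOver_of_subset`). -/
theorem isProperOver_of_subset (f : X ⟶ S) [LocallyOfFiniteType f] {Z W : Set X}
    (hZ : ClSub.IsProperOver f Z) (hW : IsClosed W) (hWZ : W ⊆ Z) : ClSub.IsProperOver f W := by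
  obtain ⟨T, i, hi, rfl, hp⟩ := IsProperOver.exists_closedImmersion hZ
  have hc : IsClosed (⇑i ⁻¹' W) := hW.preimage i.continuous
  let J := Scheme.IdealSheafData.vanishingIdeal ⟨⇑i ⁻¹' W, hc⟩
  refine (isProperOver_iff_exists f W).mpr ⟨_, J.subschemeι ≫ i, inferInstance, ?_, ?_⟩
  · rw [Scheme.Hom.comp_base, TopCat.coe_comp, Set.range_comp, J.range_subschemeι,
      Scheme.IdealSheafData.coe_support_vanishingIdeal]
    change ⇑i '' (⇑i ⁻¹' W) = W
    rw [Set.image_preimage_eq_inter_range, Set.inter_eq_left]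
    exact hWZ
  · rw [Category.assoc]
    infer_instance

theorem isProperOver_union (f : X ⟶ S) [LocallyOfFiniteType f] {Z W : Set X}
    (hZ : ClSub.IsProperOver f Z) (hW : ClSub.IsProperOver f W) : ClSub.IsProperOver f (Z ∪ W) := by
  have := isProperOver_iUnion f (fun b : Bool => cond b Z W) (fun b => by cases b <;> assumption)
  convert this using 1
  ext x
  simp only [Set.mem_union, Set.mem_iUnion, Bool.exists_bool, cond_true, cond_false]
  tauto

theorem isProperOver_empty (f : X ⟶ S) [LocallyOfFiniteType f] : ClSub.IsProperOver f ∅ := by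
  have := isProperOver_iUnion f (fun b : Empty => (∅ : Set X)) (fun b => b.elim)
  simpa using this

/-- fppf descent of properness along a jointly surjective family (copy of helper1's
`WtMax.isProper_of_flat_family`). -/
theorem isProper_of_flat_family {X Y : Scheme.{u}} (f : X ⟶ Y) (U : Y → Scheme.{u})
    (g : ∀ y, U y ⟶ Y) (hg : ∀ y, Flat (g y) ∧ LocallyOfFinitePresentation (g y))
    (hy : ∀ y, y ∈ Set.range (g y)) (h : ∀ y, IsProper (pullback.snd f (g y))) : IsProper f := by
  let p : ∐ U ⟶ Y := Sigma.desc g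
  have hp : (@Surjective ⊓ @Flat ⊓ @LocallyOfFinitePresentation : MorphismProperty Scheme) p := by
    refine ⟨⟨⟨fun x => ?_⟩, ?_⟩, ?_⟩
    · obtain ⟨z, hz⟩ := hy x
      refine ⟨Sigma.ι U x z, ?_⟩
      rw [← Scheme.Hom.comp_apply, Sigma.ι_desc, hz]
    · exact IsZariskiLocalAtSource.sigmaDesc (P := @Flat) (fun x => (hg x).1)
    · exact IsZariskiLocalAtSource.sigmaDesc (P := @LocallyOfFinitePresentation)
        (fun x => (hg x).2)
  refine MorphismProperty.of_pullback_snd_of_descendsAlong (P := @IsProper) (f := f) (g := p) hp ?_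
  rw [IsZariskiLocalAtTarget.iff_of_openCover (P := @IsProper) (sigmaOpenCover U)]
  intro (x : Y)
  change IsProper (pullback.snd (pullback.snd f p) (Sigma.ι U x))
  have sq : IsPullback (pullback.fst (pullback.snd f p) (Sigma.ι U x) ≫ pullback.fst f p)
      (pullback.snd (pullback.snd f p) (Sigma.ι U x)) f (Sigma.ι U x ≫ p) :=
    IsPullback.paste_horiz (IsPullback.of_hasPullback _ _) (IsPullback.of_hasPullback f p)
  rw [Groth.Agent.H5.AlgSp.prop_of_isPullback_snd_iff (P := @IsProper) sq]
  have e : Sigma.ι U x ≫ p = g x := Sigma.ι_desc _ _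
  rw [e]
  exact h x

end Proper


section Main

open EtShriek Groth.Agent.H1

variable {X Y : Scheme.{u}} (f : X ⟶ Y) [LocallyOfFiniteType f] (F : EtCoh.Ab X)

/-- converse of joint surjectivity for covering sieves of the small étale site
(copy of `CI.exists_of_mem_smallEtaleTopology`). -/
lemma exists_of_mem_smallEtaleTopology {Y : Scheme.{u}} {T : Y.Etale} (S : Sieve T)
    (hS : S ∈ Y.smallEtaleTopology T) (x : T.left) :
    ∃ (T' : Y.Etale) (p : T' ⟶ T) (y : T'.left), S p ∧ p.left.base y = x := by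
  have eY : Y.smallEtaleTopology =
      (Y.smallPretopology (P := EtCoh.etaleMP) (Q := EtCoh.etaleMP)).toGrothendieck :=
    Scheme.smallGrothendieckTopology_eq_toGrothendieck_smallPretopology Y le_rfl
  rw [eY] at hS
  obtain ⟨T', p, y, hp, -, hy⟩ := (Scheme.mem_toGrothendieck_smallPretopology T S).1 hS x
  exact ⟨T', p, y, hp, hy⟩

instance lft_prV (V : Y.Etale) : LocallyOfFiniteType (prV f V) := by
  change LocallyOfFiniteType (pullback.fst V.hom f)
  infer_instance

lemma shriekPred_zero (V : Y.Etale) : ShriekPred f F V 0 := by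
  intro V' φ
  refine ⟨∅, ?_, isProperOver_empty _⟩
  rw [map_zero, sectSupp_zero]

lemma shriekPred_neg (V : Y.Etale) (s : EtCoh.sect F ((EtCoh.bc f).obj V))
    (hs : ShriekPred f F V s) : ShriekPred f F V (-s) := by
  intro V' φ
  obtain ⟨Z, hZ, hp⟩ := hs V' φ
  refine ⟨Z, ?_, hp⟩
  rwa [map_neg, sectSupp_neg]

lemma shriekPred_add (V : Y.Etale) (s t : EtCoh.sect F ((EtCoh.bc f).obj V))
    (hs : ShriekPred f F V s) (ht : ShriekPred f F V t) : ShriekPred f F V (s + t) := by
  intro V' φ
  obtain ⟨Z, hZ, hp⟩ := hs V' φ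
  obtain ⟨Z', hZ', hp'⟩ := ht V' φ
  refine ⟨Z ∪ Z', ?_, isProperOver_union _ hp hp'⟩
  rw [map_add]
  exact (sectSupp_add_subset F _ _ _).trans (Set.union_subset_union hZ hZ')

lemma mem_shriekSubgroup_iff (V : Y.Etale) (s : EtCoh.sect F ((EtCoh.bc f).obj V)) :
    s ∈ shriekSubgroup f F V ↔ ShriekPred f F V s := by
  constructor
  · intro hs
    induction hs using AddSubgroup.closure_induction with
    | mem x hx => exact hx
    | zero => exact shriekPred_zero f F V
    | add x y _ _ hx hy => exact shriekPred_add f F V x y hx hy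
    | neg x _ hx => exact shriekPred_neg f F V x hx
  · intro hs
    exact AddSubgroup.subset_closure hs

/-- local nature of proper support on the base for the étale topology -/
theorem hasProperSupport_of_cover (V : Y.Etale) (S : Sieve V) (hS : S ∈ Y.smallEtaleTopology V)
    (s : EtCoh.sect F ((EtCoh.bc f).obj V))
    (h : ∀ (V' : Y.Etale) (ψ : V' ⟶ V), S ψ →
      HasProperSupport F ((EtCoh.bc f).obj V') (F.obj.map ((EtCoh.bc f).map ψ).op s) (prV f V')) :
    HasProperSupport F ((EtCoh.bc f).obj V) s (prV f V) := by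
  have hcl := isClosed_sectSupp F _ s
  refine ⟨sectSupp F _ s, le_rfl, ?_⟩
  let i := (Scheme.IdealSheafData.vanishingIdeal ⟨sectSupp F _ s, hcl⟩).subschemeι
  have hr : Set.range i = sectSupp F _ s := by
    rw [Scheme.IdealSheafData.range_subschemeι, Scheme.IdealSheafData.coe_support_vanishingIdeal]
    rfl
  refine (isProperOver_iff_exists (prV f V) _).mpr ⟨_, i, inferInstance, hr, ?_⟩
  have hch : ∀ y : V.left, ∃ (T' : Y.Etale) (p : T' ⟶ V) (y' : T'.left), S p ∧ p.left.base y' = y :=
    fun y => exists_of_mem_smallEtaleTopology S hS y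
  choose T' p y' hp hy' using hch
  refine isProper_of_flat_family (i ≫ prV f V) (fun y => (T' y).left) (fun y => (p y).left)
    (fun y => ⟨inferInstance, inferInstance⟩) (fun y => ⟨y' y, hy' y⟩) (fun y => ?_)
  have sq := EtCoh.isPullback_bc_map f (p y)
  have h1 : IsPullback (pullback.fst i ((EtCoh.bc f).map (p y)).left)
      (pullback.snd i ((EtCoh.bc f).map (p y)).left) i ((EtCoh.bc f).map (p y)).left :=
    IsPullback.of_hasPullback _ _
  have h2 := h1.paste_vert sq
  rw [← Groth.Agent.H5.AlgSp.prop_of_isPullback_snd_iff (P := @IsProper) h2]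
  obtain ⟨Zy, hZy, hpy⟩ := h (T' y) (p y) (hp y)
  rw [← isProperOver_range_iff]
  refine isProperOver_of_subset _ hpy ?_ ?_
  · exact (pullback.snd i ((EtCoh.bc f).map (p y)).left).isClosedEmbedding.isClosed_range
  · rw [Scheme.Pullback.range_snd, hr]
    exact (preimage_sectSupp_subset F _ s).trans hZy

theorem shriekPred_of_cover (V : Y.Etale) (S : Sieve V) (hS : S ∈ Y.smallEtaleTopology V)
    (s : EtCoh.sect F ((EtCoh.bc f).obj V))
    (h : ∀ (V' : Y.Etale) (ψ : V' ⟶ V), S ψ →
      ShriekPred f F V' (F.obj.map ((EtCoh.bc f).map ψ).op s)) :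
    ShriekPred f F V s := by
  intro V' φ
  refine hasProperSupport_of_cover f F V' (S.pullback φ) (Y.smallEtaleTopology.pullback_stable φ hS)
    _ (fun V'' ψ hψ => ?_)
  have := h V'' (ψ ≫ φ) hψ V'' (𝟙 _)
  rw [CategoryTheory.Functor.map_id, op_id, CategoryTheory.Functor.map_id] at this
  rw [CategoryTheory.Functor.map_comp, op_comp, CategoryTheory.Functor.map_comp] at this
  exact this

theorem S0680_main : Presheaf.IsSheaf Y.smallEtaleTopology (EtShriek.lowerShriekPre f F) := by
  refine isSheaf_of_sub Y.smallEtaleTopology (lowerShriekPre f F) ((EtCoh.push f).obj F).obj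
    (lowerShriekPreι f F) (fun V => Subtype.val_injective) ((EtCoh.push f).obj F).property ?_
  intro V S hS s hs
  have : ShriekPred f F V s := by
    refine shriekPred_of_cover f F V S hS s (fun V' ψ hψ => ?_)
    obtain ⟨t, ht⟩ := hs ψ hψ
    rw [← mem_shriekSubgroup_iff]
    have : (t.1 : EtCoh.sect F ((EtCoh.bc f).obj V')) = F.obj.map ((EtCoh.bc f).map ψ).op s := ht
    rw [← this]
    exact t.2
  exact ⟨⟨s, (mem_shriekSubgroup_iff f F V s).mpr this⟩, rfl⟩

end Main

end Groth.Agent.H7.ShrSheaf
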