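import Mathlib
import Groth.Prelude.Def_EtShriek2
import Groth.Agent.Lib.Helper7.EZD
import Groth.Agent.Lib.Helper7.ShrSheaf
import Groth.Agent.S0096

/-!
# Helper7: EZE — `j_! ≅` sections with proper support, for `j` separated étale (S0727)
-/

set_option autoImplicit false

universe u

open CategoryTheory CategoryTheory.Limits Opposite AlgebraicGeometry MorphismProperty

namespace Groth.Agent.H7.EZ

section Gam

open EtShriek

variable {U X : Scheme.{u}} (j : U ⟶ X) [Etale j]

/-- the graph of `phi j φ : N ⟶ U` as a morphism of étale `U`-schemes `N ⟶ N ×_X U` -/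
noncomputable def gam {N : X.Etale} {V : U.Etale} (φ : N ⟶ (compEtale j).obj V) :
    Wphi j φ ⟶ (EtCoh.bc j).obj N :=
  gr j (Wphi j φ) ≫ (EtCoh.bc j).map (ehom j φ)

set_option backward.isDefEq.respectTransparency false in
lemma gam_left_prV {N : X.Etale} {V : U.Etale} (φ : N ⟶ (compEtale j).obj V) :
    (gam j φ).left ≫ prV j N = 𝟙 N.left := by
  change ((gr j (Wphi j φ)).left ≫ ((EtCoh.bc j).map (ehom j φ)).left) ≫
    pullback.fst N.hom j = _
  rw [Category.assoc, bc_map_left_fst']
  change (gr j (Wphi j φ)).left ≫ pr1 j (Wphi j φ) ≫ 𝟙 _ = _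
  rw [Category.comp_id, gr_left_pr1]
  rfl

set_option backward.isDefEq.respectTransparency false in
lemma gam_left_snd {N : X.Etale} {V : U.Etale} (φ : N ⟶ (compEtale j).obj V) :
    (gam j φ).left ≫ pullback.snd N.hom j = phi j φ := by
  have := MorphismProperty.Over.w (gam j φ)
  exact this

set_option backward.isDefEq.respectTransparency false in
lemma gam_map_left_pr1 {N : X.Etale} {V : U.Etale} (φ : N ⟶ (compEtale j).obj V) :
    (gam j φ ≫ (EtCoh.bc j).map φ).left ≫ pr1 j V = φ.left := by
  change ((gam j φ).left ≫ ((EtCoh.bc j).map φ).left) ≫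
    pullback.fst ((compEtale j).obj V).hom j = _
  rw [Category.assoc, bc_map_left_fst', ← Category.assoc]
  have := gam_left_prV j φ
  change (gam j φ).left ≫ pullback.fst N.hom j = 𝟙 N.left at this
  rw [this]
  exact Category.id_comp _

variable [IsSeparated j]

instance isClosedImmersion_gam {N : X.Etale} {V : U.Etale} (φ : N ⟶ (compEtale j).obj V) :
    IsClosedImmersion (gam j φ).left := by
  haveI : IsSeparated (prV j N) :=
    MorphismProperty.pullback_fst (P := @IsSeparated) _ _ inferInstance
  haveI : IsClosedImmersion ((gam j φ).left ≫ prV j N) := by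
    rw [gam_left_prV]; exact (inferInstance : IsClosedImmersion (𝟙 N.left))
  exact IsClosedImmersion.of_comp (gam j φ).left (prV j N)

set_option backward.isDefEq.respectTransparency false in
lemma disj_of_not_mem_range_gam {N : X.Etale} {V : U.Etale} (φ : N ⟶ (compEtale j).obj V)
    {T : U.Etale} (b : T ⟶ (EtCoh.bc j).obj N)
    (h : ∀ x : T.left, b.left x ∉ Set.range (gam j φ).left) :
    Disj ((b.left ≫ prV j N) ≫ phi j φ) T.hom := by
  intro T' t ht
  refine ⟨fun t' => ?_⟩
  have hT : T.hom = b.left ≫ pullback.snd N.hom j := (MorphismProperty.Over.w b).symm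
  have e : t ≫ b.left = (t ≫ b.left ≫ prV j N) ≫ (gam j φ).left := by
    apply pullback.hom_ext
    · have := gam_left_prV j φ
      change (gam j φ).left ≫ pullback.fst N.hom j = 𝟙 N.left at this
      simp only [Category.assoc, this, Category.comp_id]
    · simp only [Category.assoc, gam_left_snd]
      rw [hT] at ht
      simpa only [Category.assoc] using ht.symm
  have h1 : (t ≫ b.left) t' ∈ Set.range (gam j φ).left := by
    rw [e]; exact ⟨_, (Scheme.Hom.comp_apply _ _ _).symm⟩
  exact h (t t') (by rwa [Scheme.Hom.comp_apply] at h1)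

variable (F : EtCoh.Ab U)

set_option backward.isDefEq.respectTransparency false in
/-- the restriction of an extension by zero has support in the graph -/
lemma sectSupp_map_ext_subset {N : X.Etale} {V : U.Etale} (φ : N ⟶ (compEtale j).obj V)
    (s : F.obj.obj (op V)) :
    sectSupp F ((EtCoh.bc j).obj N) (F.obj.map ((EtCoh.bc j).map φ).op (ext F j V s)) ⊆
      Set.range (gam j φ).left := by
  intro y hy
  by_contra hy'
  let O : ((EtCoh.bc j).obj N).left.Opens :=
    ⟨(Set.range (gam j φ).left)ᶜ, (gam j φ).left.isClosedEmbedding.isClosed_range.isOpen_compl⟩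
  let T : U.Etale := Scheme.Etale.mk (O.ι ≫ ((EtCoh.bc j).obj N).hom)
  let b : T ⟶ (EtCoh.bc j).obj N := MorphismProperty.Over.homMk O.ι rfl
  have hb : ∀ x : T.left, b.left x ∉ Set.range (gam j φ).left := by
    intro x
    have : O.ι x ∈ Set.range O.ι := ⟨_, rfl⟩
    rw [Scheme.Opens.range_ι] at this
    exact this
  refine hy T b ⟨⟨y, hy'⟩, rfl⟩ ?_
  rw [map_map_apply]
  have e1 : (b ≫ (EtCoh.bc j).map φ).left ≫ pr1 j V = (b.left ≫ prV j N) ≫ φ.left := by
    change (b.left ≫ ((EtCoh.bc j).map φ).left) ≫ pullback.fst ((compEtale j).obj V).hom j = _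
    rw [Category.assoc, bc_map_left_fst', Category.assoc]
  have hd : Disj (((b ≫ (EtCoh.bc j).map φ).left ≫ pr1 j V) ≫ V.hom) T.hom := by
    rw [e1, Category.assoc]
    exact disj_of_not_mem_range_gam j φ b hb
  rw [ext_spec F j V s _ (Or.inr hd)]
  by_cases h' : ((b ≫ (EtCoh.bc j).map φ).left ≫ pr1 j V) ≫ V.hom = T.hom
  · haveI : IsEmpty T.left := hd T.left (𝟙 _) (by rw [Category.id_comp, Category.id_comp, h'])
    haveI := sections_subsingleton_of_isEmpty F T
    exact Subsingleton.elim _ _
  · exact resOr_neg F _ _ h'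

set_option backward.isDefEq.respectTransparency false in
/-- extensions by zero have proper support -/
lemma shriekPred_ext (V : U.Etale) (s : F.obj.obj (op V)) :
    ShriekPred j F ((compEtale j).obj V) (ext F j V s) := by
  intro N φ
  refine ⟨Set.range (gam j φ).left, sectSupp_map_ext_subset j F φ s, ?_⟩
  haveI : LocallyOfFiniteType (prV j N) := inferInstance
  refine (Groth.Agent.H1.isProperOver_iff_exists (prV j N) _).mpr
    ⟨_, (gam j φ).left, inferInstance, rfl, ?_⟩
  rw [gam_left_prV]
  exact (inferInstance : IsProper (𝟙 N.left))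

end Gam

section Main1

open EtShriek

variable {U X : Scheme.{u}} (j : U ⟶ X) [Etale j] [IsSeparated j] (F : EtCoh.Ab U)

set_option backward.isDefEq.respectTransparency false in
set_option maxHeartbeats 800000 in
/-- a section with proper support is, étale locally on the base, a sum of extensions by zero -/
theorem exists_nbhd_mem_ImgGrp (W : X.Etale) (t0 : F.obj.obj (op ((EtCoh.bc j).obj W)))
    (ht : ShriekPred j F W t0) (w : W.left) :
    ∃ (N' : X.Etale) (h : N' ⟶ W) (u' : N'.left), h.left u' = w ∧
      F.obj.map ((EtCoh.bc j).map h).op t0 ∈ ImgGrp j F N' := by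
  obtain ⟨Z, hZ, hprop⟩ := ht W (𝟙 W)
  have hid : F.obj.map ((EtCoh.bc j).map (𝟙 W)).op t0 = t0 := by
    rw [CategoryTheory.Functor.map_id, op_id, CategoryTheory.Functor.map_id]
    rfl
  rw [hid] at hZ
  haveI : LocallyOfFiniteType (prV j W) := inferInstance
  obtain ⟨Z', i, hi, hr, hp⟩ := (Groth.Agent.H1.isProperOver_iff_exists (prV j W) Z).1 hprop
  haveI := hi
  haveI := hp
  haveI : Etale (prV j W) := inferInstance
  haveI : FormallyUnramified (prV j W) := inferInstance
  haveI : FormallyUnramified i := inferInstance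
  haveI : FormallyUnramified (i ≫ prV j W) :=
    MorphismProperty.comp_mem _ _ _ inferInstance inferInstance
  haveI : LocallyQuasiFinite (i ≫ prV j W) :=
    Groth.Agent.H1.EtLocFinal.locallyQuasiFinite_of_unramified _
  haveI : IsFinite (i ≫ prV j W) := IsFinite.of_isProper_of_locallyQuasiFinite _
  obtain ⟨N₀, g, hg, u₀, hgu, n, V, c, hc, e, he⟩ := Groth.Agent.S0096.result (i ≫ prV j W) w
  haveI := hg
  let N : X.Etale := Scheme.Etale.mk (g ≫ W.hom)
  let h : N ⟶ W := MorphismProperty.Over.homMk g rfl
  have hcond : pullback.snd (i ≫ prV j W) g ≫ N.hom =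
      (pullback.fst (i ≫ prV j W) g ≫ i ≫ pullback.snd W.hom j) ≫ j := by
    change pullback.snd (i ≫ prV j W) g ≫ g ≫ W.hom = _
    rw [← Category.assoc, ← pullback.condition]
    simp only [Category.assoc]
    rw [pullback.condition]
  let κ : pullback (i ≫ prV j W) g ⟶ ((EtCoh.bc j).obj N).left :=
    pullback.lift (pullback.snd (i ≫ prV j W) g)
      (pullback.fst (i ≫ prV j W) g ≫ i ≫ pullback.snd W.hom j) hcond
  have hκ1 : κ ≫ prV j N = pullback.snd (i ≫ prV j W) g := pullback.lift_fst _ _ _
  have hκ2 : κ ≫ ((EtCoh.bc j).map h).left = pullback.fst (i ≫ prV j W) g ≫ i := by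
    apply pullback.hom_ext
    · rw [Category.assoc, bc_map_left_fst', ← Category.assoc]
      change (κ ≫ prV j N) ≫ g = _
      rw [hκ1, ← pullback.condition, Category.assoc]
    · rw [Category.assoc]
      have : ((EtCoh.bc j).map h).left ≫ pullback.snd W.hom j = pullback.snd N.hom j :=
        pullback.lift_snd _ _ _
      rw [this, Category.assoc]
      exact pullback.lift_snd _ _ _
  have sq : IsPullback (pullback.fst (i ≫ prV j W) g) κ i ((EtCoh.bc j).map h).left := by
    refine IsPullback.of_bot ?_ hκ2.symm (EtCoh.isPullback_bc_map j h)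
    rw [hκ1]
    exact IsPullback.of_hasPullback _ _
  let a : ∀ k : Fin n, V k ⟶ ((EtCoh.bc j).obj N).left := fun k => Sigma.ι V k ≫ e.hom ≫ κ
  have ha : ∀ k, a k ≫ prV j N = c k := by
    intro k
    change (Sigma.ι V k ≫ e.hom ≫ κ) ≫ prV j N = c k
    rw [Category.assoc, Category.assoc, hκ1]
    exact he k
  let L : List (Set ((EtCoh.bc j).obj N).left) := List.ofFn (fun k => Set.range (a k))
  have hL : ∀ A ∈ L, CI j N A := by
    intro A hA
    obtain ⟨k, rfl⟩ := (List.mem_ofFn' _ _).1 hA
    exact ⟨V k, a k, by rw [ha k]; exact hc k, rfl⟩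
  have hsupp : SuppIn F (F.obj.map ((EtCoh.bc j).map h).op t0) {y | ∃ A ∈ L, y ∈ A} := by
    refine ((suppIn_of_sectSupp F t0 Z hZ).map F ((EtCoh.bc j).map h)).mono F ?_
    intro y hy
    have hy' : ((EtCoh.bc j).map h).left y ∈ Set.range i := by rw [hr]; exact hy
    obtain ⟨z', hz'⟩ := hy'
    obtain ⟨z, hz1, hz2⟩ := Scheme.Pullback.exists_preimage_pullback
      (f := i) (g := ((EtCoh.bc j).map h).left) z' y hz'
    let q := sq.isoPullback.inv z
    have hq : κ q = y := by
      change (sq.isoPullback.inv ≫ κ) z = y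
      rw [IsPullback.isoPullback_inv_snd]
      exact hz2
    obtain ⟨k, v, hv⟩ := (sigmaOpenCover V).exists_eq (e.inv q)
    refine ⟨Set.range (a k), (List.mem_ofFn' _ _).2 ⟨k, rfl⟩, v, ?_⟩
    change (Sigma.ι V k ≫ e.hom ≫ κ) v = y
    rw [Scheme.Hom.comp_apply, Scheme.Hom.comp_apply]
    have hv' : Sigma.ι V k v = e.inv q := hv
    rw [hv', ← Scheme.Hom.comp_apply e.inv e.hom, e.inv_hom_id]
    exact hq
  obtain ⟨N', h', u', hu', hN'⟩ := locSurj_aux j F n N u₀ _ L (by simp [L]) hL hsupp
  refine ⟨N', h' ≫ h, u', ?_, ?_⟩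
  · change g (h'.left u') = w
    rw [hu']
    exact hgu
  · rw [Functor.map_comp, ← map_map_apply]
    exact hN'

end Main1

section Main2

open EtShriek

variable {U X : Scheme.{u}} (j : U ⟶ X) [Etale j] [IsSeparated j]

lemma ext_mem (F : EtCoh.Ab U) (V : U.Etale) (s : F.obj.obj (op V)) :
    ext F j V s ∈ shriekSubgroup j F ((compEtale j).obj V) :=
  (Groth.Agent.H7.ShrSheaf.mem_shriekSubgroup_iff j F _ _).2 (shriekPred_ext j F V s)

set_option backward.isDefEq.respectTransparency false in
/-- extension by zero, as a map to the presheaf of sections with proper support -/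
noncomputable def etaPre (F : EtCoh.Ab U) : F.obj ⟶ (compEtale j).op ⋙ lowerShriekPre j F where
  app V := AddCommGrpCat.ofHom ((etaApp F j V.unop).hom.codRestrict
    (shriekSubgroup j F ((compEtale j).obj V.unop)) (fun s => ext_mem j F V.unop s))
  naturality V V' f := by
    ext s
    apply Subtype.ext
    exact (ext_map F j f.unop s).symm

set_option backward.isDefEq.respectTransparency false in
lemma etaPre_nat {F F' : EtCoh.Ab U} (α : F ⟶ F') :
    α.hom ≫ etaPre j F' =
      etaPre j F ≫ Functor.whiskerLeft (compEtale j).op ((lowerShriekPreFunctor j).map α) := by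
  ext V s
  apply Subtype.ext
  exact (ext_nat j α V.unop s).symm

variable [JCont j]

set_option backward.isDefEq.respectTransparency false in
lemma etaPre_ι (F : EtCoh.Ab U) :
    etaPre j F ≫ Functor.whiskerLeft (compEtale j).op (lowerShriekPreι j F) = (etaSh j F).hom := by
  ext V s
  rfl

set_option backward.isDefEq.respectTransparency false in
/-- `F ⟶ j⁻¹ (j_♮ F)` -/
noncomputable def etaSh' (F : EtCoh.Ab U) : F ⟶ (restrAlong j).obj ((lowerShriek j).obj F) :=
  ⟨etaPre j F ≫ Functor.whiskerLeft (compEtale j).op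
    (toSheafify X.smallEtaleTopology (lowerShriekPre j F))⟩

set_option backward.isDefEq.respectTransparency false in
noncomputable def etaNat' : 𝟭 (EtCoh.Ab U) ⟶ lowerShriek j ⋙ restrAlong j where
  app F := etaSh' j F
  naturality F F' α := by
    apply Sheaf.hom_ext
    change α.hom ≫ (etaPre j F' ≫ Functor.whiskerLeft (compEtale j).op
        (toSheafify X.smallEtaleTopology (lowerShriekPre j F'))) =
      (etaPre j F ≫ Functor.whiskerLeft (compEtale j).op
        (toSheafify X.smallEtaleTopology (lowerShriekPre j F))) ≫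
        Functor.whiskerLeft (compEtale j).op
          (sheafifyMap X.smallEtaleTopology ((lowerShriekPreFunctor j).map α))
    rw [← Category.assoc, etaPre_nat, Category.assoc, Category.assoc,
      ← Functor.whiskerLeft_comp, ← Functor.whiskerLeft_comp]
    congr 2
    exact toSheafify_naturality X.smallEtaleTopology ((lowerShriekPreFunctor j).map α)

/-- the comparison map `j_! ⟶ j_♮` -/
noncomputable def sigmaNat : extZero j ⟶ lowerShriek j where
  app F := ((extZeroAdj j).homEquiv F ((lowerShriek j).obj F)).symm (etaSh' j F)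
  naturality F F' α := by
    rw [← Adjunction.homEquiv_naturality_left_symm, ← Adjunction.homEquiv_naturality_right_symm]
    congr 1
    exact (etaNat' j).naturality α

set_option backward.isDefEq.respectTransparency false in
lemma exists_of_mem_ImgGrp (F : EtCoh.Ab U) (N : X.Etale)
    (y : F.obj.obj (op ((EtCoh.bc j).obj N))) (hy : y ∈ ImgGrp j F N) :
    ∃ x : ((compEtale j).op.lan.obj F.obj).obj (op N),
      (lanAdjunct (compEtale j) F.obj ((EtCoh.push j).obj F).obj (etaSh j F).hom).app (op N) x =
        y := by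
  induction hy using AddSubgroup.closure_induction with
  | mem y hy =>
    obtain ⟨V, g, s, rfl⟩ := hy
    exact exists_lanAdjunct_eq (compEtale j) F.obj ((EtCoh.push j).obj F).obj (etaSh j F).hom
      N V g s
  | zero => exact ⟨0, map_zero _⟩
  | add x y _ _ hx hy =>
    obtain ⟨x', rfl⟩ := hx
    obtain ⟨y', rfl⟩ := hy
    exact ⟨x' + y', map_add _ _ _⟩
  | neg x _ hx =>
    obtain ⟨x', rfl⟩ := hx
    exact ⟨-x', map_neg _ _⟩

set_option backward.isDefEq.respectTransparency false in
theorem locSurj (F : EtCoh.Ab U) :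
    Presheaf.IsLocallySurjective X.smallEtaleTopology
      (lanAdjunct (compEtale j) F.obj (lowerShriekPre j F) (etaPre j F)) := by
  constructor
  intro W t
  refine sieve_mem_of_jointly_surjective _ (fun w => ?_)
  have ht : ShriekPred j F W t.1 :=
    (Groth.Agent.H7.ShrSheaf.mem_shriekSubgroup_iff j F W t.1).1 t.2
  obtain ⟨N', h, u', hu', hN'⟩ := exists_nbhd_mem_ImgGrp j F W t.1 ht w
  obtain ⟨x, hx⟩ := exists_of_mem_ImgGrp j F N' _ hN'
  refine ⟨N', h, u', ⟨x, ?_⟩, hu'⟩
  apply Subtype.ext
  have hfac : lanAdjunct (compEtale j) F.obj (lowerShriekPre j F) (etaPre j F) ≫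
      lowerShriekPreι j F =
      lanAdjunct (compEtale j) F.obj ((EtCoh.push j).obj F).obj (etaSh j F).hom := by
    rw [← lanAdjunct_comp, etaPre_ι]
  have h1 := congrArg (fun φ => (φ.app (op N')).hom x) hfac
  simp only [NatTrans.comp_app, AddCommGrpCat.hom_comp, AddMonoidHom.coe_comp,
    Function.comp_apply] at h1
  exact h1.trans hx

set_option backward.isDefEq.respectTransparency false in
theorem isIso_sigmaNat_app (F : EtCoh.Ab U) : IsIso ((sigmaNat j).app F) := by
  have hfac : lanAdjunct (compEtale j) F.obj (lowerShriekPre j F) (etaPre j F) ≫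
      lowerShriekPreι j F =
      lanAdjunct (compEtale j) F.obj ((EtCoh.push j).obj F).obj (etaSh j F).hom := by
    rw [← lanAdjunct_comp, etaPre_ι]
  haveI := locInj j F
  haveI : Presheaf.IsLocallyInjective X.smallEtaleTopology
      (lanAdjunct (compEtale j) F.obj (lowerShriekPre j F) (etaPre j F)) :=
    Presheaf.isLocallyInjective_of_isLocallyInjective_fac X.smallEtaleTopology hfac
  haveI := locSurj j F
  have e : lanAdjunct (compEtale j) F.obj ((lowerShriek j).obj F).obj (etaSh' j F).hom =
      lanAdjunct (compEtale j) F.obj (lowerShriekPre j F) (etaPre j F) ≫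
        toSheafify X.smallEtaleTopology (lowerShriekPre j F) :=
    lanAdjunct_comp (compEtale j) F.obj (lowerShriekPre j F) (etaPre j F) _
  refine isIso_homEquiv_symm (compEtale j) U.smallEtaleTopology X.smallEtaleTopology F
    ((lowerShriek j).obj F) (etaSh' j F) ?_ ?_
  · rw [e]; infer_instance
  · rw [e]; infer_instance

theorem S0727_main : Nonempty (extZero j ≅ lowerShriek j) := by
  haveI : ∀ F, IsIso ((sigmaNat j).app F) := isIso_sigmaNat_app j
  haveI : IsIso (sigmaNat j) := NatIso.isIso_of_isIso_app _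
  exact ⟨asIso (sigmaNat j)⟩

end Main2

end Groth.Agent.H7.EZ
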