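import Mathlib
import Groth.Prelude.Def_EtShriek2
import Groth.Agent.Lib.Helper7.ShrSheaf
import Groth.Agent.Lib.Helper7.EZD

/-!
# Helper7: SHA — direct image with proper support: honest functor, base change stability,
composition (towards S0685 / S0686 / S12103)
-/

set_option autoImplicit false

universe u

open CategoryTheory CategoryTheory.Limits Opposite AlgebraicGeometry MorphismProperty

namespace Groth.Agent.H7.SH

open EtShriek Groth.Agent.H1 Groth.Agent.H7.ShrSheaf Groth.Agent.H7.EZ

lemma exists_preimage_of_isPullback {P A B C : Scheme.{u}} {fst : P ⟶ A} {snd : P ⟶ B}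
    {a : A ⟶ C} {b : B ⟶ C} (sq : IsPullback fst snd a b) (x : A) (y : B) (h : a x = b y) :
    ∃ z : P, fst z = x ∧ snd z = y := by
  obtain ⟨z, hz1, hz2⟩ := Scheme.Pullback.exists_preimage_pullback (f := a) (g := b) x y h
  refine ⟨sq.isoPullback.inv z, ?_, ?_⟩
  · rw [← hz1, ← Scheme.Hom.comp_apply, IsPullback.isoPullback_inv_fst]
  · rw [← hz2, ← Scheme.Hom.comp_apply, IsPullback.isoPullback_inv_snd]

section Gen

variable {X Y : Scheme.{u}} (f : X ⟶ Y)

lemma bc_map_left_prV {V V' : Y.Etale} (φ : V' ⟶ V) :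
    ((EtCoh.bc f).map φ).left ≫ prV f V = prV f V' ≫ φ.left :=
  pullback.lift_fst _ _ _

variable (F : EtCoh.Ab X)

set_option backward.isDefEq.respectTransparency false in
/-- the support of a restricted section lies over the support -/
lemma sectSupp_map_subset_preimage {U U' : X.Etale} (h : U' ⟶ U) (s : EtCoh.sect F U) :
    sectSupp F U' (F.obj.map h.op s) ⊆ h.left ⁻¹' (sectSupp F U s) := by
  intro x' hx' W g ⟨w, hw⟩ e0
  let T' : X.Etale := Scheme.Etale.mk (pullback.fst h.left g.left ≫ U'.hom)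
  let c : T' ⟶ U' := MorphismProperty.Over.homMk (pullback.fst h.left g.left) rfl
  have hc : pullback.snd h.left g.left ≫ W.hom = pullback.fst h.left g.left ≫ U'.hom := by
    rw [← MorphismProperty.Over.w h, ← MorphismProperty.Over.w g, ← Category.assoc,
      ← Category.assoc, pullback.condition]
  let c' : T' ⟶ W := MorphismProperty.Over.homMk (pullback.snd h.left g.left) hc
  have hp : c ≫ h = c' ≫ g := MorphismProperty.Over.Hom.ext pullback.condition
  obtain ⟨z, hz1, hz2⟩ := Scheme.Pullback.exists_preimage_pullback (f := h.left) (g := g.left)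
    x' w hw.symm
  refine hx' T' c ⟨z, hz1⟩ ?_
  rw [map_map_apply, hp, ← map_map_apply, e0, map_zero]

lemma sectSupp_map_eq_preimage {U U' : X.Etale} (h : U' ⟶ U) (s : EtCoh.sect F U) :
    sectSupp F U' (F.obj.map h.op s) = h.left ⁻¹' (sectSupp F U s) :=
  subset_antisymm (sectSupp_map_subset_preimage F h s) (preimage_sectSupp_subset F h s)

variable [LocallyOfFiniteType f]

/-- proper support is stable under base change -/
lemma shriekPred_of_hasProperSupport (V : Y.Etale) (s : EtCoh.sect F ((EtCoh.bc f).obj V))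
    (h : HasProperSupport F ((EtCoh.bc f).obj V) s (prV f V)) : ShriekPred f F V s := by
  intro V' φ
  obtain ⟨Z, hZ, hp⟩ := h
  refine ⟨((EtCoh.bc f).map φ).left ⁻¹' Z, ?_,
    isProperOver_preimage_of_isPullback (prV f V) φ.left _ (prV f V')
      (EtCoh.isPullback_bc_map f φ) Z hp⟩
  exact (sectSupp_map_subset_preimage F _ s).trans (Set.preimage_mono hZ)

lemma hasProperSupport_of_shriekPred (V : Y.Etale) (s : EtCoh.sect F ((EtCoh.bc f).obj V))
    (h : ShriekPred f F V s) : HasProperSupport F ((EtCoh.bc f).obj V) s (prV f V) := by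
  have := h V (𝟙 V)
  rwa [CategoryTheory.Functor.map_id, op_id, CategoryTheory.Functor.map_id] at this

lemma mem_shriekSubgroup_iff' (V : Y.Etale) (s : EtCoh.sect F ((EtCoh.bc f).obj V)) :
    s ∈ shriekSubgroup f F V ↔ HasProperSupport F ((EtCoh.bc f).obj V) s (prV f V) :=
  (mem_shriekSubgroup_iff f F V s).trans
    ⟨hasProperSupport_of_shriekPred f F V s, shriekPred_of_hasProperSupport f F V s⟩

/-- the honest direct image with proper support -/
noncomputable def shr : EtCoh.Ab X ⥤ EtCoh.Ab Y where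
  obj F := ⟨lowerShriekPre f F, S0680_main f F⟩
  map α := ⟨(lowerShriekPreFunctor f).map α⟩
  map_id F := by
    apply Sheaf.hom_ext
    exact (lowerShriekPreFunctor f).map_id F
  map_comp α β := by
    apply Sheaf.hom_ext
    exact (lowerShriekPreFunctor f).map_comp α β

/-- `f_!` is isomorphic to the honest functor -/
noncomputable def shrIso : lowerShriek f ≅ shr f :=
  (show shr f ≅ shr f ⋙ (sheafToPresheaf _ _ ⋙ presheafToSheaf _ _) from
    (Functor.rightUnitor (shr f)).symm ≪≫
      Functor.isoWhiskerLeft (shr f) (sheafificationNatIso Y.smallEtaleTopology AddCommGrpCat.{u+1})).symm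

/-- restriction in the honest `f_!` is restriction of the underlying section -/
lemma shr_map_val {N N' : Y.Etale} (h : N' ⟶ N) (t : EtCoh.sect ((shr f).obj F) N) :
    (((shr f).obj F).obj.map h.op t : shriekSubgroup f F N').1 =
      F.obj.map ((EtCoh.bc f).map h).op (t : shriekSubgroup f F N).1 := rfl

lemma shr_eq_zero_iff {N : Y.Etale} (t : EtCoh.sect ((shr f).obj F) N) :
    t = 0 ↔ (t : shriekSubgroup f F N).1 = 0 := by
  constructor
  · intro h
    rw [h]
    rfl
  · intro h
    exact Subtype.ext h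

set_option backward.isDefEq.respectTransparency false in
/-- the support of a section of `f_! F` lies in any closed set over which the underlying section
is supported -/
lemma sectSupp_shr_subset {N : Y.Etale} (t : EtCoh.sect ((shr f).obj F) N) (A : Set N.left)
    (hA : IsClosed A)
    (h : sectSupp F ((EtCoh.bc f).obj N) (t : shriekSubgroup f F N).1 ⊆ (prV f N) ⁻¹' A) :
    sectSupp ((shr f).obj F) N t ⊆ A := by
  intro y hy
  by_contra hyA
  let O : N.left.Opens := ⟨Aᶜ, hA.isOpen_compl⟩
  let N' : Y.Etale := Scheme.Etale.mk (O.ι ≫ N.hom)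
  let h' : N' ⟶ N := MorphismProperty.Over.homMk O.ι rfl
  refine hy N' h' ⟨⟨y, hyA⟩, rfl⟩ ?_
  rw [shr_eq_zero_iff, shr_map_val]
  have h1 := (suppIn_of_sectSupp F _ _ h).map F ((EtCoh.bc f).map h')
  refine eq_zero_of_suppIn_empty F _ (h1.mono F ?_)
  intro z hz
  have e : prV f N (((EtCoh.bc f).map h').left z) = O.ι (prV f N' z) := by
    have := congrArg (fun φ : ((EtCoh.bc f).obj N').left ⟶ N.left => φ z) (bc_map_left_prV f h')
    simp only [Scheme.Hom.comp_apply] at this
    exact this
  have h2 : O.ι (prV f N' z) ∈ Set.range O.ι := ⟨_, rfl⟩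
  rw [Scheme.Opens.range_ι] at h2
  have h3 : prV f N (((EtCoh.bc f).map h').left z) ∈ A := hz
  rw [e] at h3
  exact h2 h3

set_option backward.isDefEq.respectTransparency false in
/-- the support of the underlying section lies over the support of the section of `f_! F` -/
lemma sectSupp_val_subset {N : Y.Etale} (t : EtCoh.sect ((shr f).obj F) N) :
    sectSupp F ((EtCoh.bc f).obj N) (t : shriekSubgroup f F N).1 ⊆
      (prV f N) ⁻¹' (sectSupp ((shr f).obj F) N t) := by
  intro x hx N' h' ⟨n', hn'⟩ h0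
  rw [shr_eq_zero_iff, shr_map_val] at h0
  obtain ⟨z, hz1, hz2⟩ := exists_preimage_of_isPullback (EtCoh.isPullback_bc_map f h') x n' hn'.symm
  exact hx _ ((EtCoh.bc f).map h') ⟨z, hz1⟩ h0

end Gen

section Comp

variable {X Y Z : Scheme.{u}} (f : X ⟶ Y) (g : Y ⟶ Z)

/-- the natural isomorphism `X ×_Y (Y ×_Z W) ≅ X ×_Z W` -/
noncomputable def eIso : EtCoh.bc g ⋙ EtCoh.bc f ≅ EtCoh.bc (f ≫ g) :=
  (MorphismProperty.Over.pullbackComp (P := EtCoh.etaleMP) (Q := ⊤) f g).symm

set_option backward.isDefEq.respectTransparency false in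
lemma eIso_hom_left_prV (W : Z.Etale) :
    ((eIso f g).hom.app W).left ≫ prV (f ≫ g) W =
      prV f ((EtCoh.bc g).obj W) ≫ prV g W := by
  simp [eIso, EtCoh.bc, prV]
  rfl

set_option backward.isDefEq.respectTransparency false in
lemma eIso_inv_left_prV (W : Z.Etale) :
    ((eIso f g).inv.app W).left ≫ prV f ((EtCoh.bc g).obj W) ≫ prV g W =
      prV (f ≫ g) W := by
  simp [eIso, EtCoh.bc, prV]
  exact pullbackLeftPullbackSndIso_inv_fst W.hom g f

variable [LocallyOfFiniteType f] [LocallyOfFiniteType g] (F : EtCoh.Ab X)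

instance isIso_eIso_hom_left (W : Z.Etale) : IsIso ((eIso f g).hom.app W).left :=
  inferInstanceAs (IsIso ((MorphismProperty.Over.forget _ _ _ ⋙ CategoryTheory.Over.forget _).map
    ((eIso f g).hom.app W)))

instance isIso_eIso_inv_left (W : Z.Etale) : IsIso ((eIso f g).inv.app W).left :=
  inferInstanceAs (IsIso ((MorphismProperty.Over.forget _ _ _ ⋙ CategoryTheory.Over.forget _).map
    ((eIso f g).inv.app W)))

instance lft_comp_prV (W : Z.Etale) :
    LocallyOfFiniteType (prV f ((EtCoh.bc g).obj W) ≫ prV g W) := inferInstance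

instance isSeparated_prV [IsSeparated g] (W : Z.Etale) : IsSeparated (prV g W) := by
  change IsSeparated (pullback.fst W.hom g)
  infer_instance

/-- proper support over `W` gives proper support over `Y_W` -/
lemma hasProperSupport_fwd1 [IsSeparated g] (W : Z.Etale)
    (s : EtCoh.sect F ((EtCoh.bc (f ≫ g)).obj W))
    (hs : HasProperSupport F _ s (prV (f ≫ g) W)) :
    ∃ Z' : Set ((EtCoh.bc f).obj ((EtCoh.bc g).obj W)).left,
      sectSupp F _ (F.obj.map ((eIso f g).hom.app W).op s) ⊆ Z' ∧
      ClSub.IsProperOver (prV f ((EtCoh.bc g).obj W) ≫ prV g W) Z' ∧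
      ClSub.IsProperOver (prV f ((EtCoh.bc g).obj W)) Z' := by
  obtain ⟨Z0, hZ0, hp⟩ := hs
  have hp' : ClSub.IsProperOver (prV f ((EtCoh.bc g).obj W) ≫ prV g W)
      (((eIso f g).hom.app W).left ⁻¹' Z0) :=
    isProperOver_preimage_of_isProper (prV f ((EtCoh.bc g).obj W) ≫ prV g W) (prV (f ≫ g) W)
      ((eIso f g).hom.app W).left (eIso_hom_left_prV f g W) Z0 hp
  refine ⟨_, (sectSupp_map_subset_preimage F _ s).trans (Set.preimage_mono hZ0), hp', ?_⟩
  obtain ⟨T, i, hi, hr, hpi⟩ := IsProperOver.exists_closedImmersion hp'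
  have h1 : IsProper ((i ≫ prV f ((EtCoh.bc g).obj W)) ≫ prV g W) := by
    rw [Category.assoc]
    exact hpi
  have h2 : IsProper (i ≫ prV f ((EtCoh.bc g).obj W)) :=
    IsProper.of_comp (i ≫ prV f ((EtCoh.bc g).obj W)) (prV g W)
  rw [← hr]
  exact (isProperOver_range_iff (prV f ((EtCoh.bc g).obj W)) i).mpr h2

/-- a section of `f_! F` over `Y_W` whose underlying section is supported in a subset proper
over `W` has proper support over `W` -/
lemma hasProperSupport_fwd2 [IsSeparated g] (W : Z.Etale)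
    (t : EtCoh.sect ((shr f).obj F) ((EtCoh.bc g).obj W))
    (Z' : Set ((EtCoh.bc f).obj ((EtCoh.bc g).obj W)).left)
    (hZ' : sectSupp F _ (t : shriekSubgroup f F ((EtCoh.bc g).obj W)).1 ⊆ Z')
    (hp : ClSub.IsProperOver (prV f ((EtCoh.bc g).obj W) ≫ prV g W) Z') :
    HasProperSupport ((shr f).obj F) ((EtCoh.bc g).obj W) t (prV g W) := by
  have h1 : ClSub.IsProperOver (prV g W) (prV f ((EtCoh.bc g).obj W) '' Z') :=
    isProperOver_image_of_isSeparated (prV f ((EtCoh.bc g).obj W) ≫ prV g W) (prV g W)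
      (prV f ((EtCoh.bc g).obj W)) rfl Z' hp
  refine ⟨_, sectSupp_shr_subset f F t _ h1.1 ?_, h1⟩
  exact hZ'.trans (Set.subset_preimage_image _ _)

/-- a section of `f_! F` over `Y_W` with proper support over `W` has underlying section with
proper support over `W` -/
lemma hasProperSupport_bwd (W : Z.Etale)
    (t : EtCoh.sect ((shr f).obj F) ((EtCoh.bc g).obj W))
    (ht : HasProperSupport ((shr f).obj F) ((EtCoh.bc g).obj W) t (prV g W)) :
    HasProperSupport F ((EtCoh.bc (f ≫ g)).obj W)
      (F.obj.map ((eIso f g).inv.app W).op (t : shriekSubgroup f F ((EtCoh.bc g).obj W)).1)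
      (prV (f ≫ g) W) := by
  obtain ⟨Z₂, hZ₂, hp₂⟩ := ht
  obtain ⟨Z₁, hZ₁, hp₁⟩ := (mem_shriekSubgroup_iff' f F _ _).mp
    (t : shriekSubgroup f F ((EtCoh.bc g).obj W)).2
  obtain ⟨T, i, hi, hr, hpi⟩ := IsProperOver.exists_closedImmersion hp₁
  -- `Z₁ ∩ prV⁻¹ Z₂` is proper over `W`
  have h1 : ClSub.IsProperOver ((i ≫ prV f ((EtCoh.bc g).obj W)) ≫ prV g W)
      ((i ≫ prV f ((EtCoh.bc g).obj W)) ⁻¹' Z₂) :=
    isProperOver_preimage_of_isProper ((i ≫ prV f ((EtCoh.bc g).obj W)) ≫ prV g W) (prV g W)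
      (i ≫ prV f ((EtCoh.bc g).obj W)) rfl Z₂ hp₂
  have h2 : ClSub.IsProperOver (prV f ((EtCoh.bc g).obj W) ≫ prV g W)
      (i '' ((i ≫ prV f ((EtCoh.bc g).obj W)) ⁻¹' Z₂)) :=
    isProperOver_image_of_universallyClosed ((i ≫ prV f ((EtCoh.bc g).obj W)) ≫ prV g W)
      (prV f ((EtCoh.bc g).obj W) ≫ prV g W) i (Category.assoc _ _ _).symm _ h1
  have h3 : i '' ((i ≫ prV f ((EtCoh.bc g).obj W)) ⁻¹' Z₂) =
      Z₁ ∩ (prV f ((EtCoh.bc g).obj W)) ⁻¹' Z₂ := by
    rw [← hr]
    ext x
    constructor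
    · rintro ⟨a, ha, rfl⟩
      exact ⟨⟨a, rfl⟩, by simpa using ha⟩
    · rintro ⟨⟨a, rfl⟩, ha⟩
      exact ⟨a, by simpa using ha, rfl⟩
  rw [h3] at h2
  have h4 : ClSub.IsProperOver (prV (f ≫ g) W)
      (((eIso f g).inv.app W).left ⁻¹' (Z₁ ∩ (prV f ((EtCoh.bc g).obj W)) ⁻¹' Z₂)) :=
    isProperOver_preimage_of_isProper (prV (f ≫ g) W) (prV f ((EtCoh.bc g).obj W) ≫ prV g W)
      ((eIso f g).inv.app W).left (eIso_inv_left_prV f g W) _ h2
  refine ⟨_, ?_, h4⟩
  refine (sectSupp_map_subset_preimage F _ _).trans (Set.preimage_mono ?_)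
  exact Set.subset_inter hZ₁ ((sectSupp_val_subset f F t).trans (Set.preimage_mono hZ₂))

variable [IsSeparated g]

lemma comp_mem1 (W : Z.Etale) (s : EtCoh.sect F ((EtCoh.bc (f ≫ g)).obj W))
    (hs : s ∈ shriekSubgroup (f ≫ g) F W) :
    F.obj.map ((eIso f g).hom.app W).op s ∈ shriekSubgroup f F ((EtCoh.bc g).obj W) := by
  obtain ⟨Z', h1, -, h3⟩ :=
    hasProperSupport_fwd1 f g F W s ((mem_shriekSubgroup_iff' (f ≫ g) F W s).mp hs)
  exact (mem_shriekSubgroup_iff' f F _ _).mpr ⟨Z', h1, h3⟩

lemma comp_mem2 (W : Z.Etale) (s : EtCoh.sect F ((EtCoh.bc (f ≫ g)).obj W))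
    (hs : s ∈ shriekSubgroup (f ≫ g) F W) :
    (⟨F.obj.map ((eIso f g).hom.app W).op s, comp_mem1 f g F W s hs⟩ :
      shriekSubgroup f F ((EtCoh.bc g).obj W)) ∈
      shriekSubgroup g ((shr f).obj F) W := by
  obtain ⟨Z', h1, h2, -⟩ :=
    hasProperSupport_fwd1 f g F W s ((mem_shriekSubgroup_iff' (f ≫ g) F W s).mp hs)
  exact (mem_shriekSubgroup_iff' g ((shr f).obj F) W _).mpr
    (hasProperSupport_fwd2 f g F W ⟨_, comp_mem1 f g F W s hs⟩ Z' h1 h2)

/-- the comparison on sections -/
noncomputable def compFun (W : Z.Etale) :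
    shriekSubgroup (f ≫ g) F W →+ shriekSubgroup g ((shr f).obj F) W where
  toFun s := ⟨⟨F.obj.map ((eIso f g).hom.app W).op s.1, comp_mem1 f g F W s.1 s.2⟩,
    comp_mem2 f g F W s.1 s.2⟩
  map_zero' := by
    apply Subtype.ext
    apply Subtype.ext
    exact map_zero _
  map_add' a b := by
    apply Subtype.ext
    apply Subtype.ext
    exact map_add _ _ _

lemma compFun_val_val (W : Z.Etale) (s : shriekSubgroup (f ≫ g) F W) :
    ((compFun f g F W s).1 : shriekSubgroup f F ((EtCoh.bc g).obj W)).1 =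
      F.obj.map ((eIso f g).hom.app W).op s.1 := rfl

set_option backward.isDefEq.respectTransparency false in
lemma map_inv_map_hom (W : Z.Etale) (s : EtCoh.sect F ((EtCoh.bc (f ≫ g)).obj W)) :
    F.obj.map ((eIso f g).inv.app W).op (F.obj.map ((eIso f g).hom.app W).op s) = s := by
  rw [map_map_apply]
  have : (eIso f g).inv.app W ≫ (eIso f g).hom.app W = 𝟙 _ := by simp
  rw [this]
  simp

set_option backward.isDefEq.respectTransparency false in
lemma map_hom_map_inv (W : Z.Etale)
    (s : EtCoh.sect F ((EtCoh.bc f).obj ((EtCoh.bc g).obj W))) :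
    F.obj.map ((eIso f g).hom.app W).op (F.obj.map ((eIso f g).inv.app W).op s) = s := by
  rw [map_map_apply]
  have : (eIso f g).hom.app W ≫ (eIso f g).inv.app W = 𝟙 _ := by simp
  rw [this]
  simp

lemma compFun_bijective (W : Z.Etale) : Function.Bijective (compFun f g F W) := by
  constructor
  · intro a b hab
    apply Subtype.ext
    have := congrArg (fun t : shriekSubgroup g ((shr f).obj F) W =>
      F.obj.map ((eIso f g).inv.app W).op (t.1 : shriekSubgroup f F ((EtCoh.bc g).obj W)).1) hab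
    simp only [compFun_val_val, map_inv_map_hom] at this
    exact this
  · intro t
    have hmem : F.obj.map ((eIso f g).inv.app W).op
        (t.1 : shriekSubgroup f F ((EtCoh.bc g).obj W)).1 ∈ shriekSubgroup (f ≫ g) F W :=
      (mem_shriekSubgroup_iff' (f ≫ g) F W _).mpr
        (hasProperSupport_bwd f g F W t.1
          ((mem_shriekSubgroup_iff' g ((shr f).obj F) W t.1).mp t.2))
    refine ⟨⟨_, hmem⟩, ?_⟩
    apply Subtype.ext
    apply Subtype.ext
    rw [compFun_val_val]
    exact map_hom_map_inv f g F W _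

set_option backward.isDefEq.respectTransparency false in
/-- the comparison as a morphism of presheaves -/
noncomputable def compPre :
    lowerShriekPre (f ≫ g) F ⟶ lowerShriekPre g ((shr f).obj F) where
  app W := AddCommGrpCat.ofHom (compFun f g F W.unop)
  naturality W W' ψ := by
    ext ⟨s, hs⟩
    apply Subtype.ext
    apply Subtype.ext
    symm
    change F.obj.map ((EtCoh.bc f).map ((EtCoh.bc g).map ψ.unop)).op
        (F.obj.map ((eIso f g).hom.app W.unop).op s) =
      F.obj.map ((eIso f g).hom.app W'.unop).op (F.obj.map ((EtCoh.bc (f ≫ g)).map ψ.unop).op s)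
    have h1 := map_map_apply F ((EtCoh.bc f).map ((EtCoh.bc g).map ψ.unop))
      ((eIso f g).hom.app W.unop) s
    have h2 := map_map_apply F ((eIso f g).hom.app W'.unop) ((EtCoh.bc (f ≫ g)).map ψ.unop) s
    have h3 := (eIso f g).hom.naturality ψ.unop
    rw [Functor.comp_map] at h3
    exact h1.trans ((congrArg (fun φ => F.obj.map φ.op s) h3).trans h2.symm)

instance isIso_compPre : IsIso (compPre f g F) := by
  rw [NatTrans.isIso_iff_isIso_app]
  intro W
  exact (ConcreteCategory.isIso_iff_bijective _).mpr (compFun_bijective f g F W.unop)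

variable [IsSeparated f]

/-- the comparison `(f ≫ g)_! ⟶ f_! ⋙ g_!` of honest functors -/
noncomputable def compHom : shr (f ≫ g) ⟶ shr f ⋙ shr g where
  app F := ⟨compPre f g F⟩
  naturality F F' α := by
    apply Sheaf.hom_ext
    ext W ⟨s, hs⟩
    apply Subtype.ext
    apply Subtype.ext
    change F'.obj.map ((eIso f g).hom.app W.unop).op (α.hom.app _ s) =
      α.hom.app _ (F.obj.map ((eIso f g).hom.app W.unop).op s)
    have := congrArg (fun φ => φ.hom s) (α.hom.naturality ((eIso f g).hom.app W.unop).op)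
    simp only [AddCommGrpCat.hom_comp, AddMonoidHom.coe_comp, Function.comp_apply] at this
    exact this.symm

instance isIso_compHom_app (F : EtCoh.Ab X) : IsIso ((compHom f g).app F) := by
  haveI : IsIso ((sheafToPresheaf _ _).map ((compHom f g).app F)) := isIso_compPre f g F
  exact isIso_of_reflects_iso _ (sheafToPresheaf _ _)

instance isIso_compHom : IsIso (compHom f g) := NatIso.isIso_of_isIso_app _

/-- composition of honest direct images with proper support -/
noncomputable def shrComp : shr (f ≫ g) ≅ shr f ⋙ shr g := asIso (compHom f g)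

/-- **S0685**: direct images with proper support compose -/
noncomputable def lowerShriekComp :
    lowerShriek (f ≫ g) ≅ lowerShriek f ⋙ lowerShriek g :=
  shrIso (f ≫ g) ≪≫ shrComp f g ≪≫
    (Functor.isoWhiskerRight (shrIso f) (lowerShriek g) ≪≫
      Functor.isoWhiskerLeft (shr f) (shrIso g)).symm

theorem S0685_main : Nonempty (lowerShriek (f ≫ g) ≅ lowerShriek f ⋙ lowerShriek g) :=
  ⟨lowerShriekComp f g⟩

end Comp

end Groth.Agent.H7.SH
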