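import Mathlib
import Groth.Prelude.Def_EtCore
import Groth.Agent.Lib.Helper8.HensPair.SmoothSection
import Groth.Agent.Lib.Helper7.ST4

set_option autoImplicit false

universe u

open CategoryTheory CategoryTheory.Limits Opposite AlgebraicGeometry

namespace Groth.Agent.H7.ST

section StrictlyHenselian

variable (R : Type u) [CommRing R] [HenselianLocalRing R]

/-- The closed point of `Spec R` as a morphism from the spectrum of the residue field. -/
noncomputable abbrev clPt :
    Spec (CommRingCat.of (IsLocalRing.ResidueField R)) ⟶ Spec (CommRingCat.of R) :=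
  Spec.map (CommRingCat.ofHom (IsLocalRing.residue R))

variable [IsSepClosed (IsLocalRing.ResidueField R)]

/-- The canonical point of the fibre of the terminal object. -/
noncomputable abbrev clPtTop :
    (Scheme.pointSmallEtale (clPt R)).fiber.obj (EtCoh.top (Spec (CommRingCat.of R))) :=
  Over.homMk (clPt R) (Category.comp_id _)

/-- Over a henselian local ring every point of the fibre at the closed point of an étale scheme
extends to a section. -/
lemma exists_section_of_fiber (W : (Spec (CommRingCat.of R)).Etale)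
    (w : (Scheme.pointSmallEtale (clPt R)).fiber.obj W) :
    ∃ s : EtCoh.top (Spec (CommRingCat.of R)) ⟶ W,
      (Scheme.pointSmallEtale (clPt R)).fiber.map s (clPtTop R) = w := by
  haveI : AlgebraicGeometry.Etale W.hom := W.prop
  obtain ⟨u, hu1, hu2⟩ := Groth.Agent.H8.SmoothSection.exists_section R W.hom w.left (Over.w w)
  refine ⟨MorphismProperty.Over.homMk u hu1, ?_⟩
  apply Over.OverMorphism.ext
  exact hu2

/-- Global sections map bijectively onto the stalk at the closed geometric point. -/
theorem S74_main (F : EtCoh.Ab (Spec (CommRingCat.of R))) :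
    Function.Bijective ((Scheme.pointSmallEtale (clPt R)).toPresheafFiber
      (EtCoh.top (Spec (CommRingCat.of R))) (clPtTop R) F.obj) := by
  set Φ := Scheme.pointSmallEtale (clPt R) with hΦ
  constructor
  · intro z₁ z₂ h
    obtain ⟨W, f, w, hw, hz⟩ := (Φ.toPresheafFiber_eq_iff' _ _ z₁ z₂).1 h
    obtain ⟨s, hs⟩ := exists_section_of_fiber R W w
    have hsf : s ≫ f = 𝟙 _ := (EtCore.topIsTerminal _).hom_ext _ _
    have h1 := congrArg (F.obj.map s.op) hz
    have e : ∀ z, F.obj.map s.op (F.obj.map f.op z) = z := by
      intro z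
      rw [← ConcreteCategory.comp_apply, ← F.obj.map_comp, ← op_comp, hsf, op_id,
        F.obj.map_id]
      rfl
    rwa [e, e] at h1
  · intro p
    obtain ⟨W, w, z, rfl⟩ := Φ.toPresheafFiber_jointly_surjective p
    obtain ⟨s, hs⟩ := exists_section_of_fiber R W w
    refine ⟨F.obj.map s.op z, ?_⟩
    have := GrothendieckTopology.Point.toPresheafFiber_w_apply Φ s (clPtTop R) F.obj z
    rw [this, hs]

/-- Over a strictly henselian local ring, global sections preserve epimorphisms. -/
theorem gsec_map_surjective_of_epi {F G : EtCoh.Ab (Spec (CommRingCat.of R))} (a : F ⟶ G) [Epi a] :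
    Function.Surjective ((EtCore.gsec (Spec (CommRingCat.of R))).map a) := by
  intro t
  haveI : Sheaf.IsLocallySurjective a := (Sheaf.isLocallySurjective_iff_epi' (φ := a)).2 inferInstance
  have hS := Presheaf.imageSieve_mem (Spec (CommRingCat.of R)).smallEtaleTopology a.hom t
  obtain ⟨W, f, ⟨z, hz⟩, w, -⟩ :=
    (Scheme.pointSmallEtale (clPt R)).jointly_surjective _ hS (clPtTop R)
  obtain ⟨s, hs⟩ := exists_section_of_fiber R W w
  have hsf : s ≫ f = 𝟙 _ := (EtCore.topIsTerminal _).hom_ext _ _
  refine ⟨F.obj.map s.op z, ?_⟩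
  have n1 := congrArg (fun φ => φ z) (congrArg ConcreteCategory.hom (a.hom.naturality s.op))
  have e : G.obj.map s.op (G.obj.map f.op t) = t := by
    rw [← ConcreteCategory.comp_apply, ← G.obj.map_comp, ← op_comp, hsf, op_id, G.obj.map_id]
    rfl
  simp only [ConcreteCategory.comp_apply] at n1
  change a.hom.app _ (F.obj.map s.op z) = t
  rw [n1, hz, e]

instance gsec_preservesEpimorphisms :
    (EtCore.gsec (Spec (CommRingCat.of R))).PreservesEpimorphisms :=
  ⟨fun a _ => (AddCommGrpCat.epi_iff_surjective _).2 (gsec_map_surjective_of_epi R a)⟩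

end StrictlyHenselian

/-- `ℤ` (in any universe) is a projective abelian group. -/
instance projective_ulift_int : Projective (AddCommGrpCat.of (ULift.{u + 1} ℤ)) where
  factors {E X} f e _ := by
    have he := (AddCommGrpCat.epi_iff_surjective e).1 inferInstance
    obtain ⟨y, hy⟩ := he (f ⟨1⟩)
    let g : ULift.{u + 1} ℤ →+ E := (zmultiplesHom E y).comp AddEquiv.ulift.toAddMonoidHom
    refine ⟨AddCommGrpCat.ofHom g, ?_⟩
    ext ⟨n⟩
    change e (n • y) = f ⟨n⟩
    rw [map_zsmul, hy, ← map_zsmul]
    congr 1
    apply ULift.ext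
    simp

section StrictlyHenselian2

variable (R : Type u) [CommRing R] [HenselianLocalRing R]
  [IsSepClosed (IsLocalRing.ResidueField R)]

instance projective_const :
    Projective ((constantSheaf (Spec (CommRingCat.of R)).smallEtaleTopology
      AddCommGrpCat.{u + 1}).obj (AddCommGrpCat.of (ULift.{u + 1} ℤ))) :=
  (EtCore.constAdj (Spec (CommRingCat.of R))).map_projective _ inferInstance

theorem S73_main (F : EtCoh.Ab (Spec (CommRingCat.of R))) (p : ℕ) (hp : 1 ≤ p) :
    Subsingleton (EtCoh.H (Spec (CommRingCat.of R)) F p) := by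
  obtain ⟨n, rfl⟩ : ∃ n, p = n + 1 := ⟨p - 1, by omega⟩
  refine ⟨fun a b => ?_⟩
  rw [Abelian.Ext.eq_zero_of_projective a, Abelian.Ext.eq_zero_of_projective b]

end StrictlyHenselian2

end Groth.Agent.H7.ST
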