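import Groth.Agent.Lib.Helper7.FlatFibA
import Groth.Agent.Lib.Helper1.CritFib2
import Groth.Agent.Lib.Lead.QC.StalkPullback
import Groth.Agent.Lib.Lead.QC.FlatBC
import Mathlib

/-!
# Fibrewise flatness in fibre form implies the quotient form (S1441)
-/

set_option autoImplicit false
universe u

open CategoryTheory Limits AlgebraicGeometry

namespace Groth.Agent.H7.FlatFib

open Groth.Agent.H1.FibreStalk Groth.Agent.H1.CritFib Groth.Agent.LD.QC

/-- the stalk of a pullback as a base change, at a point given up to equality. -/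
theorem exists_isBaseChange_stalk_congr {Z X : Scheme.{u}} (ι : Z ⟶ X) (F : X.Modules)
    [F.IsQuasicoherent] (z : Z) (x : X) (hzx : ι z = x)
    (b : X.presheaf.stalk x →+* Z.presheaf.stalk z)
    (hb : b = (ι.stalkMap z).hom.comp
      (X.presheaf.stalkCongr (Inseparable.of_eq hzx.symm)).hom.hom) :
    letI : Algebra (X.presheaf.stalk x) (Z.presheaf.stalk z) := b.toAlgebra
    letI : Module (X.presheaf.stalk x) (((Scheme.Modules.pullback ι).obj F).presheaf.stalk z) :=
      Module.compHom _ b
    haveI : IsScalarTower (X.presheaf.stalk x) (Z.presheaf.stalk z)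
        (((Scheme.Modules.pullback ι).obj F).presheaf.stalk z) :=
      IsScalarTower.of_algebraMap_smul fun _ _ => rfl
    ∃ σ : F.presheaf.stalk x →ₗ[X.presheaf.stalk x]
        ((Scheme.Modules.pullback ι).obj F).presheaf.stalk z,
      IsBaseChange (Z.presheaf.stalk z) σ := by
  subst hzx
  have hb' : b = (ι.stalkMap z).hom := by
    rw [hb]
    ext r
    simp [TopCat.Presheaf.stalkCongr]
  subst hb'
  exact exists_stalk_pullback_isBaseChange ι F z

/-- **fibre form ⇒ quotient form**: if the pullback of `F` to the fibre `X_s` is flat over the fibre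
`Y_s` at the point of `X_s` over `x`, then `F_x / 𝔪_s F_x` is flat over `O_{Y,y} / 𝔪_s O_{Y,y}`. -/
theorem flat_quot_of_isFlatOverAt_fiberMap {X Y S : Scheme.{u}} (f : X ⟶ Y) (g : Y ⟶ S)
    (F : X.Modules) [F.IsQuasicoherent] (x : X)
    (h : FlatMod.IsFlatOverAt (MoreMor.fiberMap f g (g (f x)))
      ((Scheme.Modules.pullback ((f ≫ g).fiberι (g (f x)))).obj F) ((f ≫ g).asFiber x)) :
    letI := FlatMod.moduleStalkOver f F x
    Module.Flat (↑(Y.presheaf.stalk (f x)) ⧸ Ideal.map (g.stalkMap (f x)).hom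
        (IsLocalRing.maximalIdeal ↑(S.presheaf.stalk (g (f x)))))
      (↑(F.presheaf.stalk x) ⧸ (Ideal.map (g.stalkMap (f x)).hom
        (IsLocalRing.maximalIdeal ↑(S.presheaf.stalk (g (f x)))) •
        (⊤ : Submodule ↑(Y.presheaf.stalk (f x)) ↑(F.presheaf.stalk x)))) := by
  letI modA := FlatMod.moduleStalkOver f F x
  -- the rings
  let b : X.presheaf.stalk x →+* ((f ≫ g).fiber (g (f x))).presheaf.stalk ((f ≫ g).asFiber x) :=
    toFiberStalk (f ≫ g) x
  let a : Y.presheaf.stalk (f x) →+*
      (g.fiber (g (f x))).presheaf.stalk ((MoreMor.fiberMap f g (g (f x))) ((f ≫ g).asFiber x)) :=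
    (((g.fiber (g (f x))).presheaf.stalkCongr
      (.of_eq (fiberMap_asFiber f g x).symm)).hom.hom).comp (toFiberStalk g (f x))
  let χ := ((MoreMor.fiberMap f g (g (f x))).stalkMap ((f ≫ g).asFiber x)).hom
  have hsq : χ.comp a = b.comp (f.stalkMap x).hom := fibre_square f g x
  letI algBB' : Algebra (X.presheaf.stalk x)
      (((f ≫ g).fiber (g (f x))).presheaf.stalk ((f ≫ g).asFiber x)) := b.toAlgebra
  letI modBN : Module (X.presheaf.stalk x)
      (((Scheme.Modules.pullback ((f ≫ g).fiberι (g (f x)))).obj F).presheaf.stalk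
        ((f ≫ g).asFiber x)) := Module.compHom _ b
  haveI : IsScalarTower (X.presheaf.stalk x)
      (((f ≫ g).fiber (g (f x))).presheaf.stalk ((f ≫ g).asFiber x))
      (((Scheme.Modules.pullback ((f ≫ g).fiberι (g (f x)))).obj F).presheaf.stalk
        ((f ≫ g).asFiber x)) :=
    IsScalarTower.of_algebraMap_smul fun _ _ => rfl
  obtain ⟨σ, hσ⟩ := exists_isBaseChange_stalk_congr ((f ≫ g).fiberι (g (f x))) F
    ((f ≫ g).asFiber x) x ((f ≫ g).fiberι_asFiber x) b rfl
  letI modA'N := FlatMod.moduleStalkOver (MoreMor.fiberMap f g (g (f x)))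
    ((Scheme.Modules.pullback ((f ≫ g).fiberι (g (f x)))).obj F) ((f ≫ g).asFiber x)
  haveI : Module.Flat ((g.fiber (g (f x))).presheaf.stalk
      ((MoreMor.fiberMap f g (g (f x))) ((f ≫ g).asFiber x)))
      (((Scheme.Modules.pullback ((f ≫ g).fiberι (g (f x)))).obj F).presheaf.stalk
        ((f ≫ g).asFiber x)) := h
  have hiso : Function.Bijective (((g.fiber (g (f x))).presheaf.stalkCongr
      (.of_eq (fiberMap_asFiber f g x).symm)).hom.hom) :=
    ((g.fiber (g (f x))).presheaf.stalkCongr
      (.of_eq (fiberMap_asFiber f g x).symm)).commRingCatIsoToRingEquiv.bijective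
  have ha : Function.Surjective a := hiso.2.comp (toFiberStalk_surjective g (f x))
  have hb : Function.Surjective (algebraMap (X.presheaf.stalk x)
      (((f ≫ g).fiber (g (f x))).presheaf.stalk ((f ≫ g).asFiber x))) :=
    toFiberStalk_surjective (f ≫ g) x
  have hka : RingHom.ker a = Ideal.map (g.stalkMap (f x)).hom
      (IsLocalRing.maximalIdeal ↑(S.presheaf.stalk (g (f x)))) := by
    rw [← ker_toFiberStalk g (f x)]
    ext r
    rw [RingHom.mem_ker, RingHom.mem_ker, RingHom.comp_apply]
    exact map_eq_zero_iff _ hiso.1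
  have hkb : RingHom.ker (algebraMap (X.presheaf.stalk x)
      (((f ≫ g).fiber (g (f x))).presheaf.stalk ((f ≫ g).asFiber x))) =
      (RingHom.ker a).map (f.stalkMap x).hom := by
    rw [hka, Ideal.map_map]
    have h1 := ker_toFiberStalk (f ≫ g) x
    rw [Scheme.Hom.stalkMap_comp] at h1
    exact h1
  have key := flat_quot_of_isBaseChange (M := F.presheaf.stalk x)
    (N := ((Scheme.Modules.pullback ((f ≫ g).fiberι (g (f x)))).obj F).presheaf.stalk
      ((f ≫ g).asFiber x)) (f.stalkMap x).hom a χ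
    (fun α => RingHom.congr_fun hsq α) ha hb hkb (fun _ _ => rfl) (fun _ _ => rfl) σ hσ
  rw [hka] at key
  exact key

end Groth.Agent.H7.FlatFib
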