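import Mathlib

set_option autoImplicit false

universe v₁ v₂ u₁ u₂ w w'

open CategoryTheory CategoryTheory.Limits Opposite

namespace Groth.Agent.H7.ST

section Abstract

variable {𝒜 : Type u₁} [Category.{v₁} 𝒜] {ℬ : Type u₂} [Category.{v₂} ℬ]
  {L : 𝒜 ⥤ ℬ} {R : ℬ ⥤ 𝒜} (adj : L ⊣ R)
  {ι : Type w} {Lu : ι → (𝒜 ⥤ ℬ)} {Ru : ι → (ℬ ⥤ 𝒜)} (adju : ∀ i, Lu i ⊣ Ru i)
  (π : ∀ i, R ⟶ Ru i)
  (hπ : ∀ M : ℬ, IsLimit (Fan.mk (R.obj M) (fun i => (π i).app M)))

include hπ in
lemma fan_lift_fac (F : 𝒜) (Z : ℬ) (h : ∀ i, F ⟶ (Ru i).obj Z) (i : ι) :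
    Fan.IsLimit.lift (hπ Z) h ≫ (π i).app Z = h i :=
  Fan.IsLimit.fac (hπ Z) h i

include hπ in
lemma fan_hom_ext (F : 𝒜) (Z : ℬ) (a b : F ⟶ R.obj Z)
    (h : ∀ i, a ≫ (π i).app Z = b ≫ (π i).app Z) : a = b :=
  Fan.IsLimit.hom_ext (hπ Z) _ _ h

/-- If a right adjoint `R` is (pointwise) the product of right adjoints `Ru i`, then the left
adjoint `L` is (pointwise) the coproduct of the left adjoints `Lu i`. -/
noncomputable def leftAdjointCoprodIso (F : 𝒜) [HasCoproduct (fun i => (Lu i).obj F)] :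
    L.obj F ≅ ∐ fun i => (Lu i).obj F :=
  Coyoneda.ext _ _
    (fun {Z} g => Sigma.desc (fun i => ((adju i).homEquiv F Z).symm
      (adj.homEquiv F Z g ≫ (π i).app Z)))
    (fun {Z} f => (adj.homEquiv F Z).symm
      (Fan.IsLimit.lift (hπ Z) (fun i => (adju i).homEquiv F Z
        (Sigma.ι (fun i => (Lu i).obj F) i ≫ f))))
    (fun {Z} g => by
      apply (adj.homEquiv F Z).injective
      rw [Equiv.apply_symm_apply]
      refine fan_hom_ext π hπ F Z _ _ (fun i => ?_)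
      rw [fan_lift_fac π hπ]
      simp)
    (fun {Z} f => by
      refine Sigma.hom_ext _ _ (fun i => ?_)
      rw [Sigma.ι_desc, Equiv.apply_symm_apply, fan_lift_fac π hπ]
      simp)
    (fun {Z Z'} f g => by
      apply (adj.homEquiv F Z').injective
      rw [Equiv.apply_symm_apply, Adjunction.homEquiv_naturality_right, Equiv.apply_symm_apply]
      refine fan_hom_ext π hπ F Z' _ _ (fun i => ?_)
      rw [fan_lift_fac π hπ, Category.assoc]
      have h1 : R.map g ≫ (π i).app Z' = (π i).app Z ≫ (Ru i).map g := (π i).naturality g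
      have h2 := fan_lift_fac π hπ F Z
        (fun i => (adju i).homEquiv F Z (Sigma.ι (fun i => (Lu i).obj F) i ≫ f)) i
      rw [h1, reassoc_of% h2, ← Adjunction.homEquiv_naturality_right, Category.assoc])

end Abstract

section PiSigma

variable {C : Type u₁} [Category.{v₁} C] {ι : Type w} {B : ι → Type w'} {A' : Type w'}
  (e : (Σ i, B i) ≃ A') (M : C) [HasProduct (fun _ : A' => M)]
  [∀ i, HasProduct (fun _ : B i => M)]

/-- A product indexed by a disjoint union is the product of the products. -/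
noncomputable def isLimitFanSigma :
    IsLimit (Fan.mk (∏ᶜ fun _ : A' => M)
      (fun i => Pi.lift (fun b : B i => Pi.π (fun _ : A' => M) (e ⟨i, b⟩)))) := by
  have key : ∀ (s : Fan (fun i => ∏ᶜ fun _ : B i => M)) (x y : Σ i, B i), x = y →
      s.proj x.1 ≫ Pi.π (fun _ : B x.1 => M) x.2 = s.proj y.1 ≫ Pi.π (fun _ : B y.1 => M) y.2 := by
    rintro s x _ rfl
    rfl
  refine Fan.IsLimit.mk _
    (fun s => Pi.lift (fun a => s.proj (e.symm a).1 ≫ Pi.π (fun _ : B (e.symm a).1 => M) (e.symm a).2))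
    (fun s i => ?_) (fun s m hm => ?_)
  · dsimp
    refine Pi.hom_ext _ _ (fun b => ?_)
    simp only [Category.assoc, Pi.lift_π]
    exact key s _ ⟨i, b⟩ (e.symm_apply_apply _)
  · refine Pi.hom_ext (f := fun _ : A' => M) _ _ (fun a => ?_)
    obtain ⟨⟨i, b⟩, rfl⟩ := e.surjective a
    rw [Pi.lift_π]
    have := hm i
    dsimp at this
    rw [key s _ ⟨i, b⟩ (e.symm_apply_apply _), ← this]
    simp

end PiSigma

section PiLemmas

variable {C : Type u₁} [Category.{v₁} C] {A A' B B' : Type w} (M N : C)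
  [HasProduct (fun _ : A => M)] [HasProduct (fun _ : A' => M)]
  [HasProduct (fun _ : B => M)] [HasProduct (fun _ : B' => M)]

lemma pi_map'_lift_comm (p : A' → A) (q : B' → B) (i : B → A) (i' : B' → A')
    (h : ∀ b', i (q b') = p (i' b')) :
    Pi.map' p (fun _ => 𝟙 M) ≫ Pi.lift (fun b' : B' => Pi.π (fun _ : A' => M) (i' b')) =
      Pi.lift (fun b : B => Pi.π (fun _ : A => M) (i b)) ≫ Pi.map' q (fun _ => 𝟙 M) := by
  refine Pi.hom_ext _ _ (fun b' => ?_)
  rw [Category.assoc, Category.assoc, Pi.lift_π, Pi.map'_comp_π, Pi.map'_comp_π, Pi.lift_π_assoc,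
    h]

lemma pi_map_lift_comm [HasProduct (fun _ : A => N)] [HasProduct (fun _ : B => N)]
    (g : M ⟶ N) (i : B → A) :
    Limits.Pi.map (fun _ : A => g) ≫ Pi.lift (fun b : B => Pi.π (fun _ : A => N) (i b)) =
      Pi.lift (fun b : B => Pi.π (fun _ : A => M) (i b)) ≫ Limits.Pi.map (fun _ : B => g) := by
  refine Pi.hom_ext _ _ (fun b => ?_)
  rw [Category.assoc, Category.assoc, Pi.lift_π, Limits.Pi.map_π, Limits.Pi.map_π, Pi.lift_π_assoc]

end PiLemmas

end Groth.Agent.H7.ST
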