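import Mathlib
import Groth.Prelude.Def_EtShriek2
import Groth.Agent.Lib.Helper7.ST10

set_option autoImplicit false

universe u

open CategoryTheory CategoryTheory.Limits Opposite AlgebraicGeometry

namespace Groth.Agent.H7.ST

section ExtZeroStalk

variable {U X : Scheme.{u}} (j : U ⟶ X) [AlgebraicGeometry.Etale j]
  {Ω : Type u} [Field Ω] [IsSepClosed Ω] (ξ : Spec (CommRingCat.of Ω) ⟶ X)

/-- Lifts of a geometric point of `X` to `U`. -/
abbrev Lifts := {u : Spec (CommRingCat.of Ω) ⟶ U // u ≫ j = ξ}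

variable {j ξ}

/-- A point of the fibre of `V` at a lift `u` of `ξ` gives a point of the fibre of `V → U → X`
at `ξ`. -/
noncomputable def fiberIncl (u : Lifts j ξ) (V : U.Etale) (t : (Scheme.pointSmallEtale u.1).fiber.obj V) :
    (Scheme.pointSmallEtale ξ).fiber.obj ((EtShriek.compEtale j).obj V) :=
  Over.homMk t.left (by
    have := Over.w t
    dsimp at this ⊢
    rw [reassoc_of% this, u.2])

lemma fiberIncl_map (u : Lifts j ξ) {V V' : U.Etale} (f : V' ⟶ V)
    (t : (Scheme.pointSmallEtale u.1).fiber.obj V') :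
    fiberIncl u V ((Scheme.pointSmallEtale u.1).fiber.map f t) =
      (Scheme.pointSmallEtale ξ).fiber.map ((EtShriek.compEtale j).map f) (fiberIncl u V' t) := by
  apply Over.OverMorphism.ext
  rfl

lemma sigma_fiber_ext (V : U.Etale) {u u' : Lifts j ξ} (h : u.1 = u'.1)
    (t : (Scheme.pointSmallEtale u.1).fiber.obj V) (t' : (Scheme.pointSmallEtale u'.1).fiber.obj V)
    (ht : t.left = t'.left) :
    (⟨u, t⟩ : Σ u : Lifts j ξ, (Scheme.pointSmallEtale u.1).fiber.obj V) = ⟨u', t'⟩ := by
  obtain ⟨u, hu⟩ := u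
  obtain ⟨u', hu'⟩ := u'
  dsimp at h
  subst h
  congr 1
  apply Over.OverMorphism.ext
  exact ht

variable (j ξ) in
/-- The fibre of `V → U → X` at `ξ` is the disjoint union of the fibres of `V` at the lifts. -/
noncomputable def fiberEquiv (V : U.Etale) :
    (Σ u : Lifts j ξ, (Scheme.pointSmallEtale u.1).fiber.obj V) ≃
      (Scheme.pointSmallEtale ξ).fiber.obj ((EtShriek.compEtale j).obj V) where
  toFun p := fiberIncl p.1 V p.2
  invFun s := ⟨⟨s.left ≫ V.hom, by
    have := Over.w s
    dsimp at this ⊢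
    rw [Category.assoc]
    exact this⟩, Over.homMk s.left rfl⟩
  left_inv := by
    rintro ⟨u, t⟩
    refine sigma_fiber_ext V ?_ _ _ rfl
    exact Over.w t
  right_inv s := by
    apply Over.OverMorphism.ext
    rfl

variable [EtShriek.JCont j]

/-- The skyscraper sheaf functor at a geometric point. -/
noncomputable abbrev sky {Y : Scheme.{u}} (ζ : Spec (CommRingCat.of Ω) ⟶ Y) :
    AddCommGrpCat.{u + 1} ⥤ EtCoh.Ab Y :=
  (Scheme.pointSmallEtale ζ).skyscraperSheafFunctor

/-- `stalk ⊣ sky`. -/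
noncomputable abbrev stalkSkyAdj {Y : Scheme.{u}} (ζ : Spec (CommRingCat.of Ω) ⟶ Y) :
    EtCoh.stalk ζ ⊣ sky ζ :=
  (Scheme.pointSmallEtale ζ).skyscraperSheafAdjunction

/-- The projection of the restriction of the skyscraper at `ξ` to the skyscraper at a lift. -/
noncomputable def projApp (u : Lifts j ξ) (M : AddCommGrpCat.{u + 1}) :
    (sky ξ ⋙ EtShriek.restrAlong j).obj M ⟶ (sky u.1).obj M :=
  ⟨{ app := fun V => Pi.lift (fun t => Pi.π _ (fiberIncl u V.unop t))
     naturality := fun V V' f => by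
      exact pi_map'_lift_comm M _ _ _ _ (fun t => fiberIncl_map u f.unop t) }⟩

lemma projApp_hom_app (u : Lifts j ξ) (M : AddCommGrpCat.{u + 1}) (V : U.Etaleᵒᵖ) :
    (projApp u M).hom.app V = Pi.lift (fun t => Pi.π _ (fiberIncl u V.unop t)) := rfl

/-- The projections are natural in `M`. -/
noncomputable def projNat (u : Lifts j ξ) : sky ξ ⋙ EtShriek.restrAlong j ⟶ sky u.1 where
  app M := projApp u M
  naturality M N g := by
    apply Sheaf.hom_ext
    ext V : 2
    exact pi_map_lift_comm M N g _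


variable (j ξ) in
/-- The restricted skyscraper is the product of the skyscrapers at the lifts. -/
noncomputable def isLimitProj (M : AddCommGrpCat.{u + 1}) :
    IsLimit (Fan.mk ((sky ξ ⋙ EtShriek.restrAlong j).obj M)
      (fun u : Lifts j ξ => (projNat u).app M)) := by
  refine isLimitOfReflects (sheafToPresheaf _ _) ?_
  refine (isLimitMapConeFanMkEquiv _ _ _).symm ?_
  refine evaluationJointlyReflectsLimits _ (fun V => ?_)
  refine (isLimitMapConeFanMkEquiv _ _ _).symm ?_
  exact isLimitFanSigma (fiberEquiv j ξ V.unop) M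

variable (j ξ) in
theorem S647_main (F : EtCoh.Ab U) :
    Nonempty ((EtCoh.stalk ξ).obj ((EtShriek.extZero j).obj F) ≅
      ∐ fun u : {u : Spec (CommRingCat.of Ω) ⟶ U // u ≫ j = ξ} => (EtCoh.stalk u.1).obj F) :=
  ⟨leftAdjointCoprodIso (L := EtShriek.extZero j ⋙ EtCoh.stalk ξ)
    (R := sky ξ ⋙ EtShriek.restrAlong j)
    ((EtShriek.extZeroAdj j).comp (stalkSkyAdj ξ))
    (Lu := fun u : Lifts j ξ => EtCoh.stalk u.1) (Ru := fun u : Lifts j ξ => sky u.1)
    (fun u => stalkSkyAdj u.1) (fun u => projNat u) (isLimitProj j ξ) F⟩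

end ExtZeroStalk

end Groth.Agent.H7.ST
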