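import Mathlib
import Groth.Prelude.Def_EtShriek2
import Groth.Agent.Lib.Helper7.ST5
import Groth.Agent.Lib.Helper7.ES8

set_option autoImplicit false

universe u

open CategoryTheory CategoryTheory.Limits Opposite AlgebraicGeometry

namespace Groth.Agent.H7.ST

open Groth.Agent.H7.ES

section Unique

variable {U X : Scheme.{u}} (j : U ⟶ X) [IsOpenImmersion j]

/-- Stalk of the restriction along an étale morphism. -/
noncomputable def stalkRestrIso [AlgebraicGeometry.Etale j] [EtShriek.JCont j]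
    {Ω : Type u} [Field Ω] [IsSepClosed Ω] (ζ : Spec (CommRingCat.of Ω) ⟶ U) :
    EtShriek.restrAlong j ⋙ EtCoh.stalk ζ ≅ EtCoh.stalk (ζ ≫ j) :=
  Functor.isoWhiskerRight (pullIsoRestr j).symm (EtCoh.stalk ζ) ≪≫ stalkPullIso j ζ

/-- A geometric point either factors through an open immersion or misses its image. -/
lemma factors_or_disjoint {Ω : Type u} [Field Ω] (ξ : Spec (CommRingCat.of Ω) ⟶ X) :
    (∃ ζ : Spec (CommRingCat.of Ω) ⟶ U, ζ ≫ j = ξ) ∨
      Set.range ξ.base ⊆ (Set.range j.base)ᶜ := by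
  by_cases h : ξ.base default ∈ Set.range j.base
  · left
    refine ⟨IsOpenImmersion.lift j ξ ?_, IsOpenImmersion.lift_fac _ _ _⟩
    rintro _ ⟨t, rfl⟩
    rwa [Subsingleton.elim t default]
  · right
    rintro _ ⟨t, rfl⟩
    rwa [Subsingleton.elim t default]

theorem S652_main [AlgebraicGeometry.Etale j] [EtShriek.JCont j] (F : EtCoh.Ab U)
    (G : EtCoh.Ab X) (hres : Nonempty ((EtShriek.restrAlong j).obj G ≅ F))
    (hzero : ∀ (Ω : Type u) [Field Ω] [IsSepClosed Ω] (ξ : Spec (CommRingCat.of Ω) ⟶ X),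
      Set.range ξ.base ⊆ (Set.range j.base)ᶜ → IsZero ((EtCoh.stalk ξ).obj G)) :
    Nonempty (G ≅ (EtShriek.extZero j).obj F) := by
  obtain ⟨e⟩ := hres
  let c := (EtShriek.extZeroAdj j).counit.app G
  haveI : Mono c := mono_extZeroAdj_counit j G
  haveI : Epi c := by
    rw [ab_epi_iff]
    intro Ω _ _ ξ
    rcases factors_or_disjoint j ξ with ⟨ζ, rfl⟩ | hd
    · rw [← AddCommGrpCat.epi_iff_surjective]
      let θ := stalkRestrIso j ζ
      have hsplit : (EtShriek.extZeroAdj j).unit.app ((EtShriek.restrAlong j).obj G) ≫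
          (EtShriek.restrAlong j).map c = 𝟙 _ :=
        (EtShriek.extZeroAdj j).right_triangle_components G
      haveI : Epi ((EtShriek.restrAlong j).map c) := (SplitEpi.mk _ hsplit).epi
      haveI : Epi ((EtShriek.restrAlong j ⋙ EtCoh.stalk ζ).map c) := by
        rw [Functor.comp_map]
        infer_instance
      have nat := θ.hom.naturality c
      have h : (EtCoh.stalk (ζ ≫ j)).map c =
          θ.inv.app _ ≫ (EtShriek.restrAlong j ⋙ EtCoh.stalk ζ).map c ≫ θ.hom.app _ := by
        rw [nat]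
        exact (Iso.inv_hom_id_app_assoc θ _ _).symm
      rw [h]
      infer_instance
    · intro y
      haveI : Subsingleton ((EtCoh.stalk ξ).obj G) :=
        AddCommGrpCat.subsingleton_of_isZero (hzero Ω ξ hd)
      exact ⟨0, Subsingleton.elim (α := (EtCoh.stalk ξ).obj G) _ _⟩
  haveI : IsIso c := isIso_of_mono_of_epi c
  exact ⟨(asIso c).symm ≪≫ (EtShriek.extZero j).mapIso e⟩

end Unique

end Groth.Agent.H7.ST
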