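import Groth.Agent.Lib.Helper7.FlatLocBC
import Groth.Prelude.Def_AlgSpMor5
import Groth.Agent.Lib.Helper5.AlgSp.LocPCalc
import Groth.Agent.Lib.Helper5.AlgSp.LocPAt
import Groth.Agent.Lib.Helper5.AlgSp.Points
import Groth.Agent.Lib.Helper5.AlgSp.PointsTop
import Groth.Agent.Lib.Helper5.AlgSp.FibreProduct
import Mathlib

/-!
# The flat locus of a morphism of algebraic spaces is open and commutes with base change (S10609)
-/

set_option autoImplicit false
universe u

open AlgebraicGeometry CategoryTheory Limits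

namespace Groth.Agent.H7.FlatLocSp

open _root_.AlgSp Groth.Agent.H5.AlgSp Groth.Agent.H5.EtSrc Groth.Agent.H7.FlatLocBC
  Groth.Agent.H1.CritFib

variable {S : Scheme.{u}}

lemma etale_le_flat' : (@Etale : MorphismProperty Scheme.{u}) ≤ @Flat := fun _ _ f hf => by
  have : Etale f := hf
  exact (inferInstance : Flat f)

/-- pullbacks in `Over S` computed on underlying schemes -/
theorem exists_over_pullback {U V V' : Over S} (k : U ⟶ V) (ι : V' ⟶ V) :
    ∃ (U' : Over S) (pr1 : U' ⟶ U) (k' : U' ⟶ V'), IsPullback pr1 k' k ι ∧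
      IsPullback pr1.left k'.left k.left ι.left := by
  let U' : Over S := Over.mk (pullback.fst k.left ι.left ≫ U.hom)
  let pr1 : U' ⟶ U := Over.homMk (pullback.fst k.left ι.left) rfl
  let k' : U' ⟶ V' := Over.homMk (pullback.snd k.left ι.left) (by
    change pullback.snd k.left ι.left ≫ V'.hom = pullback.fst k.left ι.left ≫ U.hom
    rw [← Over.w ι, ← Over.w k, pullback.condition_assoc])
  have hcomm : pr1 ≫ k = k' ≫ ι := Over.OverMorphism.ext pullback.condition
  exact ⟨U', pr1, k', IsPullback.of_map (Over.forget S) hcomm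
    (IsPullback.of_hasPullback k.left ι.left), IsPullback.of_hasPullback k.left ι.left⟩

/-- **Chart independence of flatness at a point.** -/
theorem isFlatAtMor_iff_of_chart {X Y : Sp S} {f : X ⟶ Y} {U V : Over S}
    (a : (yon S).obj U ⟶ X) (b : (yon S).obj V ⟶ Y) (k : U ⟶ V)
    (hae : RepWith @Etale a) (hbe : RepWith @Etale b) (comm : a ≫ f = (yon S).map k ≫ b)
    [LocallyOfFinitePresentation k.left] (u : U.left) :
    IsFlatAtMor f (Points.ofPt a u) ↔ FlatAt k.left u := by
  constructor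
  · intro h
    exact h a b k u hae hbe comm rfl
  · intro h U' V' a' b' k' u' ha' hb' comm' hu'
    have hopen : IsOpen {x : U.left | (k.left.stalkMap x).hom.Flat} :=
      Groth.Agent.S0386.result k.left
    let N : U.left.Opens := ⟨_, hopen⟩
    have hN : Flat (N.ι ≫ k.left) := flat_restrict_of_forall k.left N fun a ha => ha
    have hx : HasAtMor (fun U _ h u => ∃ W : U.Opens, u ∈ W ∧ Flat (W.ι ≫ h)) f
        (Points.ofPt a' u') :=
      ⟨U, V, a, b, k, u, hae, hbe, comm, hu'.symm, N, h, hN⟩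
    obtain ⟨N', hu'N', hN'⟩ :=
      exists_open_of_hasAtMor etale_le_flat' a' b' k' ha' hb' comm' u' hx
    exact FlatAt.of_restrict k'.left N' hN' u' hu'N'

/-- base change of a chart diagram -/
theorem exists_chart_baseChange {F G F' G' : Sp S} {f : F ⟶ G} {f' : F' ⟶ G'} {pF : F' ⟶ F}
    {pG : G' ⟶ G} (sq : IsPullback pF f' f pG) {U V V' : Over S} {b : (yon S).obj V ⟶ G}
    (k : U ⟶ V) (c : (yon S).obj U ⟶ pullback f b) (hce : RepWith @Etale c)
    (hcs : RepWith @Surjective c) (hck : c ≫ pullback.snd f b = (yon S).map k)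
    (b' : (yon S).obj V' ⟶ G') (rV : V' ⟶ V) (hb' : b' ≫ pG = (yon S).map rV ≫ b)
    {U' : Over S} (rU : U' ⟶ U) (k' : U' ⟶ V') (hU : IsPullback rU k' k rV) :
    ∃ (a' : (yon S).obj U' ⟶ F') (c' : (yon S).obj U' ⟶ pullback f' b'),
      a' ≫ f' = (yon S).map k' ≫ b' ∧
      a' ≫ pF = (yon S).map rU ≫ c ≫ pullback.fst f b ∧
      RepWith @Etale c' ∧ RepWith @Surjective c' ∧ c' ≫ pullback.fst f' b' = a' ∧
      c' ≫ pullback.snd f' b' = (yon S).map k' := by
  have sqP := IsPullback.of_hasPullback f b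
  have sqP' := IsPullback.of_hasPullback f' b'
  have hUy := hU.map (yon S)
  have big : IsPullback (pullback.fst f' b' ≫ pF) (pullback.snd f' b') f ((yon S).map rV ≫ b) := by
    rw [← hb']
    exact sqP'.paste_horiz sq
  have hw : (pullback.fst f' b' ≫ pF) ≫ f = (pullback.snd f' b' ≫ (yon S).map rV) ≫ b := by
    rw [Category.assoc _ _ b]; exact big.w
  have T3 : IsPullback (sqP.lift _ _ hw) (pullback.snd f' b') (pullback.snd f b)
      ((yon S).map rV) := by
    apply IsPullback.of_right (h₁₂ := pullback.fst f b) (h₂₂ := b) _ (sqP.lift_snd _ _ _) sqP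
    rw [sqP.lift_fst]
    exact big
  have hw' : ((yon S).map rU ≫ c) ≫ pullback.snd f b = (yon S).map k' ≫ (yon S).map rV := by
    rw [Category.assoc, hck]; exact hUy.w
  have T4 : IsPullback (T3.lift _ _ hw') ((yon S).map rU) (sqP.lift _ _ hw) c := by
    apply IsPullback.of_right (h₁₂ := pullback.snd f' b') (h₂₂ := pullback.snd f b) _
      (T3.lift_fst _ _ _) T3.flip
    rw [T3.lift_snd, hck]
    exact hUy.flip
  refine ⟨T3.lift _ _ hw' ≫ pullback.fst f' b', T3.lift _ _ hw', ?_, ?_,
    MorphismProperty.of_isPullback (P := RepWith @Etale) T4.flip hce,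
    MorphismProperty.of_isPullback (P := RepWith @Surjective) T4.flip hcs, rfl,
    T3.lift_snd _ _ _⟩
  · rw [Category.assoc, pullback.condition, ← Category.assoc, T3.lift_snd]
  · calc (T3.lift _ _ hw' ≫ pullback.fst f' b') ≫ pF
        = T3.lift _ _ hw' ≫ (sqP.lift _ _ hw ≫ pullback.fst f b) := by
          rw [Category.assoc, sqP.lift_fst]
      _ = (T3.lift _ _ hw' ≫ sqP.lift _ _ hw) ≫ pullback.fst f b := (Category.assoc _ _ _).symm
      _ = ((yon S).map rU ≫ c) ≫ pullback.fst f b := by rw [T3.lift_fst]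
      _ = (yon S).map rU ≫ c ≫ pullback.fst f b := Category.assoc _ _ _

section main

variable {X Y Z : Sp S} (hX : IsAlgSpace X) (hY : IsAlgSpace Y) (hZ : IsAlgSpace Z)
  (f : X ⟶ Y) (h : Y ⟶ Z)
  (hfp : LocP @LocallyOfFinitePresentation (f ≫ h)) (hfl : LocP @Flat (f ≫ h))
  (hft : LocP @LocallyOfFiniteType h)

include hX hY hZ hfp hft in
/-- the flat locus is open -/
theorem isOpen_flatLocus : IsOpen {x : Points X | IsFlatAtMor f x} := by
  obtain ⟨W, c, hce, hcs⟩ := hZ.atlas
  obtain ⟨V, b, gV, hbe, hbs, comm₁⟩ := exists_chart_diagram_surj hY h hce hcs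
  obtain ⟨U, a, k, hae, has, comm₂⟩ := exists_chart_diagram_surj hX f hbe hbs
  have comm₃ : a ≫ f ≫ h = (yon S).map (k ≫ gV) ≫ c := by
    rw [← Category.assoc, comm₂, Category.assoc, comm₁, Functor.map_comp, Category.assoc]
  haveI i1 : LocallyOfFinitePresentation (k.left ≫ gV.left) := hfp a c (k ≫ gV) hae hce comm₃
  haveI i3 : LocallyOfFiniteType gV.left := hft b c gV hbe hce comm₁
  haveI i4 : LocallyOfFinitePresentation k.left := locallyOfFinitePresentation_of_comp k.left gV.left
  have hq := isQuotientMap_ofPt hae has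
  rw [← hq.isOpen_preimage]
  have he : Points.ofPt a ⁻¹' {x : Points X | IsFlatAtMor f x} =
      {u : U.left | (k.left.stalkMap u).hom.Flat} := by
    ext u
    exact isFlatAtMor_iff_of_chart a b k hae hbe comm₂ u
  rw [he]
  exact Groth.Agent.S0386.result k.left

include hX hY hZ hfp hfl hft in
/-- the flat locus commutes with base change -/
theorem isFlatAtMor_baseChange_iff {X' Y' Z' : Sp S} (hZ' : IsAlgSpace Z')
    (g : Z' ⟶ Z) (f' : X' ⟶ Y') (h' : Y' ⟶ Z') (pX : X' ⟶ X) (pY : Y' ⟶ Y)
    (sqY : IsPullback pY h' h g) (sqX : IsPullback pX f' f pY) (x' : Points X') :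
    IsFlatAtMor f' x' ↔ IsFlatAtMor f (Points.map pX x') := by
  obtain ⟨W, c, hce, hcs⟩ := hZ.atlas
  obtain ⟨V, b, gV, eV, hbe, comm₁, heVe, heVs, heVb, heVg⟩ := exists_chart_diagram hY h hce
  obtain ⟨U, a, k, cU, hae, comm₂, hcUe, hcUs, hcUa, hcUk⟩ := exists_chart_diagram hX f hbe
  obtain ⟨W', c', r, hc'e, hc's, comm₀⟩ := exists_chart_diagram_surj hZ' g hce hcs
  obtain ⟨V', rV, g', hVsq, hVsql⟩ := exists_over_pullback gV r
  obtain ⟨U', rU, k', hUsq, hUsql⟩ := exists_over_pullback k rV
  -- first level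
  obtain ⟨bY', eV', hbY'1, hbY'2, heV'e, heV's, heV'b, heV'g⟩ :=
    exists_chart_baseChange sqY gV eV heVe heVs heVg c' r comm₀ rV g' hVsq
  rw [heVb] at hbY'2
  have hbY'e : RepWith @Etale bY' := by
    rw [← heV'b]
    exact (RepWith @Etale).comp_mem _ _ heV'e
      (MorphismProperty.of_isPullback (P := RepWith @Etale)
        (IsPullback.of_hasPullback h' c').flip hc'e)
  have hbY's : RepWith @Surjective bY' := by
    rw [← heV'b]
    exact (RepWith @Surjective).comp_mem _ _ heV's
      (MorphismProperty.of_isPullback (P := RepWith @Surjective)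
        (IsPullback.of_hasPullback h' c').flip hc's)
  -- second level
  obtain ⟨a', cU', ha'1, ha'2, hcU'e, hcU's, hcU'a, hcU'k⟩ :=
    exists_chart_baseChange sqX k cU hcUe hcUs hcUk bY' rV hbY'2 rU k' hUsq
  rw [hcUa] at ha'2
  have ha'e : RepWith @Etale a' := by
    rw [← hcU'a]
    exact (RepWith @Etale).comp_mem _ _ hcU'e
      (MorphismProperty.of_isPullback (P := RepWith @Etale)
        (IsPullback.of_hasPullback f' bY').flip hbY'e)
  have ha's : RepWith @Surjective a' := by
    rw [← hcU'a]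
    exact (RepWith @Surjective).comp_mem _ _ hcU's
      (MorphismProperty.of_isPullback (P := RepWith @Surjective)
        (IsPullback.of_hasPullback f' bY').flip hbY's)
  obtain ⟨u', rfl⟩ := ofPt_surjective_of_repWith ha's x'
  have comm₃ : a ≫ f ≫ h = (yon S).map (k ≫ gV) ≫ c := by
    rw [← Category.assoc, comm₂, Category.assoc, comm₁, Functor.map_comp, Category.assoc]
  haveI i1 : LocallyOfFinitePresentation (k.left ≫ gV.left) := hfp a c (k ≫ gV) hae hce comm₃
  haveI i2 : Flat (k.left ≫ gV.left) := hfl a c (k ≫ gV) hae hce comm₃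
  haveI i3 : LocallyOfFiniteType gV.left := hft b c gV hbe hce comm₁
  haveI i4 : LocallyOfFinitePresentation k.left := locallyOfFinitePresentation_of_comp k.left gV.left
  haveI i5 : LocallyOfFinitePresentation k'.left :=
    MorphismProperty.of_isPullback (P := @LocallyOfFinitePresentation) hUsql i4
  have hpt : Points.map pX (Points.ofPt a' u') = Points.ofPt a (rU.left u') := by
    rw [Points.map_ofPt, ha'2, ofPt_yon_map_comp]
  rw [hpt, isFlatAtMor_iff_of_chart a' bY' k' ha'e hbY'e ha'1 u',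
    isFlatAtMor_iff_of_chart a b k hae hbe comm₂ (rU.left u')]
  exact flatAt_baseChange_iff k.left gV.left hVsql hUsql u'

end main

end Groth.Agent.H7.FlatLocSp
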