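import Mathlib
import Groth.Agent.Lib.Helper7.GorEt
import Groth.Agent.Lib.Helper7.FlatLocSp
import Groth.Agent.Lib.Helper3.AlgSpCov.RedNoeth
import Groth.Agent.Lib.Helper1.AlgSpDim

/-!
# Gorenstein morphisms of algebraic spaces: chart independence
-/

set_option autoImplicit false
universe u

open AlgebraicGeometry CategoryTheory Limits

namespace Groth.Agent.H7.GorSp

open _root_.AlgSp Groth.Agent.H5.AlgSp Groth.Agent.H5.EtSrc Groth.Agent.H7.FlatLocSp

variable {S : Scheme.{u}}

/-- the hypothesis "the fibres of `f` are locally Noetherian" -/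
def FibNoeth {X Y : Sp S} (f : X ⟶ Y) : Prop :=
  ∀ (k : FieldPt Y) (Xk : Sp S) (a : Xk ⟶ X) (b : Xk ⟶ (yon S).obj k.pt),
    IsPullback a b f k.toHom → IsLocNoethSp Xk

/-- base change of a chart diagram (no surjectivity) -/
theorem exists_chart_baseChange' {F G F' G' : Sp S} {f : F ⟶ G} {f' : F' ⟶ G'} {pF : F' ⟶ F}
    {pG : G' ⟶ G} (sq : IsPullback pF f' f pG) {U V V' : Over S} {b : (yon S).obj V ⟶ G}
    (k : U ⟶ V) (c : (yon S).obj U ⟶ pullback f b) (hce : RepWith @Etale c)
    (hck : c ≫ pullback.snd f b = (yon S).map k)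
    (b' : (yon S).obj V' ⟶ G') (rV : V' ⟶ V) (hb' : b' ≫ pG = (yon S).map rV ≫ b)
    {U' : Over S} (rU : U' ⟶ U) (k' : U' ⟶ V') (hU : IsPullback rU k' k rV) :
    ∃ (a' : (yon S).obj U' ⟶ F') (c' : (yon S).obj U' ⟶ pullback f' b'),
      a' ≫ f' = (yon S).map k' ≫ b' ∧
      a' ≫ pF = (yon S).map rU ≫ c ≫ pullback.fst f b ∧
      RepWith @Etale c' ∧ c' ≫ pullback.fst f' b' = a' ∧
      c' ≫ pullback.snd f' b' = (yon S).map k' := by
  have sqP := IsPullback.of_hasPullback f b
  have sqP' := IsPullback.of_hasPullback f' b'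
  have hUy := hU.map (yon S)
  have big : IsPullback (pullback.fst f' b' ≫ pF) (pullback.snd f' b') f ((yon S).map rV ≫ b) := by
    rw [← hb']
    exact sqP'.paste_horiz sq
  have hw : (pullback.fst f' b' ≫ pF) ≫ f = (pullback.snd f' b' ≫ (yon S).map rV) ≫ b := by
    rw [Category.assoc _ _ b]; exact big.w
  have T3 : IsPullback (sqP.lift _ _ hw) (pullback.snd f' b') (pullback.snd f b)
      ((yon S).map rV) := by
    apply IsPullback.of_right (h₁₂ := pullback.fst f b) (h₂₂ := b) _ (sqP.lift_snd _ _ _) sqP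
    rw [sqP.lift_fst]
    exact big
  have hw' : ((yon S).map rU ≫ c) ≫ pullback.snd f b = (yon S).map k' ≫ (yon S).map rV := by
    rw [Category.assoc, hck]; exact hUy.w
  have T4 : IsPullback (T3.lift _ _ hw') ((yon S).map rU) (sqP.lift _ _ hw) c := by
    apply IsPullback.of_right (h₁₂ := pullback.snd f' b') (h₂₂ := pullback.snd f b) _
      (T3.lift_fst _ _ _) T3.flip
    rw [T3.lift_snd, hck]
    exact hUy.flip
  refine ⟨T3.lift _ _ hw' ≫ pullback.fst f' b', T3.lift _ _ hw', ?_, ?_,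
    MorphismProperty.of_isPullback (P := RepWith @Etale) T4.flip hce, rfl,
    T3.lift_snd _ _ _⟩
  · rw [Category.assoc, pullback.condition, ← Category.assoc, T3.lift_snd]
  · calc (T3.lift _ _ hw' ≫ pullback.fst f' b') ≫ pF
        = T3.lift _ _ hw' ≫ (sqP.lift _ _ hw ≫ pullback.fst f b) := by
          rw [Category.assoc, sqP.lift_fst]
      _ = (T3.lift _ _ hw' ≫ sqP.lift _ _ hw) ≫ pullback.fst f b := (Category.assoc _ _ _).symm
      _ = ((yon S).map rU ≫ c) ≫ pullback.fst f b := by rw [T3.lift_fst]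
      _ = (yon S).map rU ≫ c ≫ pullback.fst f b := Category.assoc _ _ _

/-- the canonical map of a chart diagram to the fibre product is étale -/
theorem repWith_etale_lift {X Y : Sp S} {f : X ⟶ Y} {U V : Over S}
    (a : (yon S).obj U ⟶ X) (b : (yon S).obj V ⟶ Y) (h : U ⟶ V)
    (ha : RepWith @Etale a) (hb : RepWith @Etale b) (comm : a ≫ f = (yon S).map h ≫ b) :
    RepWith @Etale (pullback.lift a ((yon S).map h) comm : (yon S).obj U ⟶ pullback f b) := by
  have h1 : RepWith @Etale (pullback.fst f b) :=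
    MorphismProperty.of_isPullback (P := RepWith @Etale) (IsPullback.of_hasPullback f b).flip hb
  refine repWith_etale_of_comp (b := pullback.fst f b) ?_ h1
  rw [pullback.lift_fst]
  exact ha

/-- **the fibres of the top arrow of a chart diagram are locally Noetherian.** -/
theorem chart_fibre_noeth {X Y : Sp S} {f : X ⟶ Y} (hf : FibNoeth f) {U V : Over S}
    (a : (yon S).obj U ⟶ X) (b : (yon S).obj V ⟶ Y) (h : U ⟶ V)
    (ha : RepWith @Etale a) (hb : RepWith @Etale b) (comm : a ≫ f = (yon S).map h ≫ b)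
    (v : V.left) : IsLocallyNoetherian (h.left.fiber v) := by
  have hXk : IsLocNoethSp (pullback f (FieldPt.ofPt b v).toHom) :=
    hf (FieldPt.ofPt b v) _ _ _ (IsPullback.of_hasPullback f (FieldPt.ofPt b v).toHom)
  let ι : Over.mk (V.left.fromSpecResidueField v ≫ V.hom) ⟶ V :=
    Over.homMk (V.left.fromSpecResidueField v) rfl
  have hι : (FieldPt.ofPt b v).toHom = (yon S).map ι ≫ b := FieldPt.toHom_ofPt b v
  obtain ⟨U', pr1, k', hpb, hpbl⟩ := exists_over_pullback h ι
  have hce := repWith_etale_lift a b h ha hb comm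
  obtain ⟨a', c', -, -, hc'e, hc'a, -⟩ := exists_chart_baseChange'
    (IsPullback.of_hasPullback f (FieldPt.ofPt b v).toHom) h
    (pullback.lift a ((yon S).map h) comm) hce (pullback.lift_snd _ _ _)
    (𝟙 ((yon S).obj (FieldPt.ofPt b v).pt)) ι (by rw [Category.id_comp]; exact hι) pr1 k' hpb
  have ha'e : RepWith @Etale a' := by
    rw [← hc'a]
    exact MorphismProperty.RespectsIso.postcomp _ _ _ hc'e
  haveI : IsLocallyNoetherian U'.left :=
    Groth.Agent.H3.AlgSpCov.isLocallyNoetherian_of_etale_of_isLocNoethSp hXk a' ha'e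
  exact isLocallyNoetherian_of_isOpenImmersion hpbl.isoPullback.inv

/-- **chart independence** for pointwise predicates invariant under étale squares whose
members satisfy a side condition `C` valid for all chart diagrams of `f`. -/
theorem chart_indep {Q : ∀ {U V : Scheme.{u}}, (U ⟶ V) → ↥U → Prop}
    {C : ∀ {U V : Scheme.{u}}, (U ⟶ V) → Prop}
    (hQ : ∀ ⦃U V U'' V'' : Scheme.{u}⦄ (h : U ⟶ V) (h'' : U'' ⟶ V'') (p : U'' ⟶ U) (q : V'' ⟶ V),
      Etale p → Etale q → h'' ≫ q = p ≫ h → C h → C (p ≫ h) → ∀ r : U'', Q h'' r ↔ Q h (p r))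
    {F G : Sp S} {f : F ⟶ G}
    (hC : ∀ ⦃U V : Over S⦄ (a : (yon S).obj U ⟶ F) (b : (yon S).obj V ⟶ G) (h : U ⟶ V),
      RepWith @Etale a → RepWith @Etale b → a ≫ f = (yon S).map h ≫ b → C h.left)
    {U V : Over S} (a : (yon S).obj U ⟶ F) (b : (yon S).obj V ⟶ G) (h : U ⟶ V)
    (ha : RepWith @Etale a) (hb : RepWith @Etale b) (comm : a ≫ f = (yon S).map h ≫ b)
    (u : ↥U.left)
    {U' V' : Over S} (a' : (yon S).obj U' ⟶ F) (b' : (yon S).obj V' ⟶ G) (h' : U' ⟶ V')
    (ha' : RepWith @Etale a') (hb' : RepWith @Etale b')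
    (comm' : a' ≫ f = (yon S).map h' ≫ b') (u' : ↥U'.left)
    (hu' : Points.ofPt a' u' = Points.ofPt a u) (hQ' : Q h'.left u') : Q h.left u := by
  -- `R = U' ×_F U`
  have sqU := ha'.rep.isPullback' a
  have hpr : Etale (ha'.rep.snd a).left := ha'.property_snd a
  have hpr' : Etale (ha'.rep.fst' a).left := ha.property a' _ _ sqU.flip
  have h12 : Points.map a' (Points.schemeHomeo U' u') = Points.ofPt a u := by
    rw [← hu', Points.ofPt_eq_map_ofScheme]
    rfl
  obtain ⟨r, hr1, hr2⟩ := exists_point_of_isPullback sqU (Points.schemeHomeo U' u') u h12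
  have hr' : (ha'.rep.fst' a).left r = u' := by
    apply (Points.schemeHomeo U').injective
    rw [← hr2]
    have := ofPt_yon_map_comp (ha'.rep.fst' a) (𝟙 ((yon S).obj U')) r
    rw [Category.comp_id] at this
    rw [this]
    rfl
  -- `V'' = V' ×_G V`
  have sqV := hb'.rep.isPullback' b
  have hq : Etale (hb'.rep.snd b).left := hb'.property_snd b
  have hq' : Etale (hb'.rep.fst' b).left := hb.property b' _ _ sqV.flip
  have hw : (yon S).map (ha'.rep.fst' a ≫ h') ≫ b' = (yon S).map (ha'.rep.snd a ≫ h) ≫ b := by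
    rw [Functor.map_comp, Functor.map_comp, Category.assoc, Category.assoc, ← comm', ← comm,
      ← Category.assoc, ← Category.assoc, sqU.w]
  obtain ⟨k, hk⟩ := (yon S).map_surjective (sqV.lift _ _ hw)
  have hk1 : k ≫ hb'.rep.fst' b = ha'.rep.fst' a ≫ h' :=
    (yon S).map_injective (by rw [Functor.map_comp, hk, sqV.lift_fst])
  have hk2 : k ≫ hb'.rep.snd b = ha'.rep.snd a ≫ h :=
    (yon S).map_injective (by rw [Functor.map_comp, hk, sqV.lift_snd])
  have hk1' : k.left ≫ (hb'.rep.fst' b).left = (ha'.rep.fst' a).left ≫ h'.left := by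
    rw [← Over.comp_left, hk1, Over.comp_left]
  have hk2' : k.left ≫ (hb'.rep.snd b).left = (ha'.rep.snd a).left ≫ h.left := by
    rw [← Over.comp_left, hk2, Over.comp_left]
  -- the side conditions
  have c1 : C h'.left := hC a' b' h' ha' hb' comm'
  have c2 : C h.left := hC a b h ha hb comm
  have hA1 : RepWith @Etale ((yon S).map (ha'.rep.fst' a) ≫ a') :=
    (RepWith @Etale).comp_mem _ _ ((repWith_yon_map_iff @Etale _).2 hpr') ha'
  have hA2 : RepWith @Etale ((yon S).map (ha'.rep.snd a) ≫ a) :=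
    (RepWith @Etale).comp_mem _ _ ((repWith_yon_map_iff @Etale _).2 hpr) ha
  have c3 : C ((ha'.rep.fst' a).left ≫ h'.left) := by
    have := hC ((yon S).map (ha'.rep.fst' a) ≫ a') b' (ha'.rep.fst' a ≫ h') hA1 hb'
      (by rw [Category.assoc, comm', Functor.map_comp, Category.assoc])
    rwa [Over.comp_left] at this
  have c4 : C ((ha'.rep.snd a).left ≫ h.left) := by
    have := hC ((yon S).map (ha'.rep.snd a) ≫ a) b (ha'.rep.snd a ≫ h) hA2 hb
      (by rw [Category.assoc, comm, Functor.map_comp, Category.assoc])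
    rwa [Over.comp_left] at this
  have e1 := hQ h'.left k.left (ha'.rep.fst' a).left (hb'.rep.fst' b).left hpr' hq' hk1' c1 c3 r
  have e2 := hQ h.left k.left (ha'.rep.snd a).left (hb'.rep.snd b).left hpr hq hk2' c2 c4 r
  rw [hr'] at e1
  rw [hr1] at e2
  exact e2.mp (e1.mpr hQ')

/-- the side condition -/
def NF {U V : Scheme.{u}} (h : U ⟶ V) : Prop := ∀ v, IsLocallyNoetherian (h.fiber v)

theorem gor_etLocal ⦃U V U'' V'' : Scheme.{u}⦄ (h : U ⟶ V) (h'' : U'' ⟶ V'') (p : U'' ⟶ U)
    (q : V'' ⟶ V) (hp : Etale p) (hq : Etale q) (comm : h'' ≫ q = p ≫ h) (c1 : NF h)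
    (c2 : NF (p ≫ h)) (r : U'') :
    Dual3.IsGorensteinAt h'' r ↔ Dual3.IsGorensteinAt h (p r) :=
  Groth.Agent.H7.GorEt.gorAt_etale_square h h'' p q comm r c1 c2

/-- **chart independence of Gorenstein-ness at a point.** -/
theorem locPAt_gor_iff {X Y : Sp S} {f : X ⟶ Y} (hf : FibNoeth f) {U V : Over S}
    (a : (yon S).obj U ⟶ X) (b : (yon S).obj V ⟶ Y) (h : U ⟶ V)
    (ha : RepWith @Etale a) (hb : RepWith @Etale b) (comm : a ≫ f = (yon S).map h ≫ b)
    (u : ↥U.left) :
    LocPAt (fun h u => Dual3.IsGorensteinAt h u) f (Points.ofPt a u) ↔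
      Dual3.IsGorensteinAt h.left u := by
  constructor
  · intro hh
    exact hh a b h u ha hb comm rfl
  · intro hh U' V' a' b' h' u' ha' hb' comm' hu'
    exact chart_indep (Q := fun h u => Dual3.IsGorensteinAt h u) (C := fun h => NF h)
      gor_etLocal (fun _ _ a b h ha hb comm => chart_fibre_noeth hf a b h ha hb comm)
      a' b' h' ha' hb' comm' u' a b h ha hb comm u hu'.symm hh

end Groth.Agent.H7.GorSp
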