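import Mathlib
import Groth.Prelude.Def_BlowUp2
import Groth.Agent.Lib.Helper1.AusBuch
import Groth.Agent.Lib.Helper1.CartierKit

set_option autoImplicit false
universe u

open AlgebraicGeometry CategoryTheory IsLocalRing Pointwise

namespace Groth.Agent.H7.SkCartier

/-- depth and dimension of the quotient by a regular element. -/
theorem depth_dim_quot {R R' : Type u} [CommRing R] [IsLocalRing R] [IsNoetherianRing R]
    [CommRing R'] [IsLocalRing R'] (φ : R →+* R') (hφ : Function.Surjective φ) (f : R)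
    (hker : RingHom.ker φ = Ideal.span {f}) (hreg : IsSMulRegular R f) :
    LocCoh.depth R' R' + 1 = LocCoh.depth R R ∧ ringKrullDim R' + 1 = ringKrullDim R := by
  have hfm : f ∈ maximalIdeal R := by
    have hne : RingHom.ker φ ≠ ⊤ := RingHom.ker_ne_top φ
    have : f ∈ RingHom.ker φ := by rw [hker]; exact Ideal.subset_span rfl
    exact IsLocalRing.le_maximalIdeal hne this
  constructor
  · letI : Algebra R R' := φ.toAlgebra
    have hsurj : Function.Surjective (algebraMap R R') := hφ
    haveI : Module.Finite R R' := Module.Finite.of_surjective (Algebra.linearMap R R') hsurj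
    have h1 : LocCoh.depth R R' = LocCoh.depth R' R' :=
      Groth.Agent.H1.AB.depth_eq_of_surjective hsurj R'
    have hkerlin : LinearMap.ker (Algebra.linearMap R R') = f • (⊤ : Submodule R R) := by
      ext x
      rw [LinearMap.mem_ker, Submodule.mem_smul_pointwise_iff_exists]
      have : x ∈ RingHom.ker φ ↔ φ x = 0 := RingHom.mem_ker
      change φ x = 0 ↔ _
      rw [← this, hker, Ideal.mem_span_singleton']
      constructor
      · rintro ⟨a, rfl⟩
        exact ⟨a, trivial, by rw [smul_eq_mul, mul_comm]⟩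
      · rintro ⟨a, -, rfl⟩
        exact ⟨a, by rw [smul_eq_mul, mul_comm]⟩
    let e : QuotSMulTop f R ≃ₗ[R] R' :=
      (Submodule.quotEquivOfEq _ _ hkerlin.symm).trans
        (LinearMap.quotKerEquivOfSurjective (Algebra.linearMap R R') hsurj)
    have h2 : LocCoh.depth R (QuotSMulTop f R) = LocCoh.depth R R' :=
      Groth.Agent.H1.AB.depth_eq_of_linearEquiv e
    have h3 := Groth.Agent.H6.Depth.idealDepth_quotSMulTop_add_one (maximalIdeal R) R f hfm hreg
    rw [← h1, ← h2]
    exact h3
  · have e : (R ⧸ Ideal.span {f}) ≃+* R' :=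
      (Ideal.quotEquivOfEq hker.symm).trans (RingHom.quotientKerEquivOfSurjective hφ)
    rw [← ringKrullDim_eq_of_ringEquiv e]
    exact ringKrullDim_quotient_span_singleton_succ_eq_ringKrullDim hreg hfm

lemma sk_arith_enat (k n : ℕ) (m : ℕ∞) (h : min (k : ℕ∞) (m + 1) ≤ (n : ℕ∞) + 1) :
    min ((k - 1 : ℕ) : ℕ∞) m ≤ n := by
  induction m using ENat.recTopCoe with
  | top =>
    rw [top_add, min_eq_left le_top] at h
    have h2 : k ≤ n + 1 := by exact_mod_cast h
    refine le_trans (min_le_left _ _) ?_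
    have h3 : k - 1 ≤ n := by omega
    exact_mod_cast h3
  | coe m =>
    rw [min_le_iff] at h ⊢
    rcases h with h | h
    · left
      have h2 : k ≤ n + 1 := by exact_mod_cast h
      have h3 : k - 1 ≤ n := by omega
      exact_mod_cast h3
    · right
      have h2 : m + 1 ≤ n + 1 := by exact_mod_cast h
      have h3 : m ≤ n := by omega
      exact_mod_cast h3

/-- arithmetic of `(S_k)` under quotient by a regular element. -/
lemma sk_arith (k : ℕ) (a a' : WithBot ℕ∞) (δ δ' : ℕ∞) (ha : a' + 1 = a) (hδ : δ' + 1 = δ)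
    (h : min (k : WithBot ℕ∞) a ≤ ((δ : ℕ∞) : WithBot ℕ∞)) :
    min ((k - 1 : ℕ) : WithBot ℕ∞) a' ≤ ((δ' : ℕ∞) : WithBot ℕ∞) := by
  subst ha hδ
  induction δ' using ENat.recTopCoe with
  | top => exact le_top
  | coe n =>
    induction a' using WithBot.recBotCoe with
    | bot => simp
    | coe m =>
      have h' : ((min (k : ℕ∞) (m + 1) : ℕ∞) : WithBot ℕ∞) ≤ (((n : ℕ∞) + 1 : ℕ∞) : WithBot ℕ∞) := by
        rw [WithBot.coe_min]; exact h
      rw [WithBot.coe_le_coe] at h'
      have h3 := sk_arith_enat k n m h'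
      have h4 : ((min ((k - 1 : ℕ) : ℕ∞) m : ℕ∞) : WithBot ℕ∞) ≤ (((n : ℕ) : ℕ∞) : WithBot ℕ∞) :=
        WithBot.coe_le_coe.mpr h3
      rw [WithBot.coe_min] at h4
      exact h4

/-- `(S_k)` on a locally Noetherian scheme gives `(S_{k-1})` on an effective Cartier divisor. -/
theorem sk_subscheme {V : Scheme.{u}} [IsLocallyNoetherian V] (I : V.IdealSheafData)
    (hI : BlowUp.IsEffCartierIdeal I) (k : ℕ)
    (hSk : ∀ x : V, min (k : WithBot ℕ∞) (ringKrullDim (V.presheaf.stalk x)) ≤
      ((LocCoh.depth (V.presheaf.stalk x) (V.presheaf.stalk x) : ℕ∞) : WithBot ℕ∞))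
    (v : I.subscheme) :
    min ((k - 1 : ℕ) : WithBot ℕ∞) (ringKrullDim (I.subscheme.presheaf.stalk v)) ≤
      ((LocCoh.depth (I.subscheme.presheaf.stalk v) (I.subscheme.presheaf.stalk v) : ℕ∞) :
        WithBot ℕ∞) := by
  obtain ⟨U, hxU, f, hf, hIU⟩ := hI (I.subschemeι v)
  have hker := Groth.Agent.H1.CartierKit.ker_stalkMap_subschemeι I U v hxU
  rw [hIU, Ideal.map_span, Set.image_singleton] at hker
  have hsurj : Function.Surjective (I.subschemeι.stalkMap v).hom :=
    I.subschemeι.stalkMap_surjective v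
  have hreg : IsSMulRegular (V.presheaf.stalk (I.subschemeι v))
      ((V.presheaf.germ U.1 (I.subschemeι v) hxU).hom f) := by
    letI := V.presheaf.algebra_section_stalk ⟨I.subschemeι v, hxU⟩
    haveI hloc := U.2.isLocalization_stalk ⟨I.subschemeι v, hxU⟩
    haveI : Module.Flat Γ(V, U.1) (V.presheaf.stalk (I.subschemeι v)) :=
      IsLocalization.flat _ (U.2.primeIdealOf ⟨I.subschemeι v, hxU⟩).asIdeal.primeCompl
    have h1 : IsSMulRegular (V.presheaf.stalk (I.subschemeι v)) f :=
      Module.Flat.isSMulRegular_of_nonZeroDivisors hf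
    exact (isSMulRegular_algebraMap_iff (V.presheaf.stalk (I.subschemeι v))).mpr h1
  obtain ⟨h1, h2⟩ := depth_dim_quot (I.subschemeι.stalkMap v).hom hsurj _ hker hreg
  exact sk_arith k _ _ _ _ h2 h1 (hSk _)

end Groth.Agent.H7.SkCartier
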