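import Mathlib
import Groth.Agent.Lib.Helper7.SkCartier1
import Groth.Agent.Lib.Helper7.GorSp
import Groth.Agent.Lib.Helper1.ComplDepth
import Groth.Agent.Lib.Helper1.LocNoethFib
import Groth.Agent.Lib.Helper1.EtStalk
import Groth.Agent.Lib.Helper1.ReflFree
import Groth.Agent.Lib.Helper2.PicCodim2

set_option autoImplicit false
universe u

open AlgebraicGeometry CategoryTheory Limits IsLocalRing

namespace Groth.Agent.H7.SkCartier

open _root_.AlgSp Groth.Agent.H5.AlgSp

/-- depth and dimension of local rings are invariant along étale morphisms. -/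
theorem depth_dim_etale {U'' U : Scheme.{u}} (p : U'' ⟶ U) [Etale p] [IsLocallyNoetherian U]
    (r : U'') :
    LocCoh.depth (U''.presheaf.stalk r) (U''.presheaf.stalk r) =
        LocCoh.depth (U.presheaf.stalk (p r)) (U.presheaf.stalk (p r)) ∧
      ringKrullDim (U''.presheaf.stalk r) = ringKrullDim (U.presheaf.stalk (p r)) := by
  haveI : IsLocallyNoetherian U'' := LocallyOfFiniteType.isLocallyNoetherian p
  letI : Algebra (U.presheaf.stalk (p r)) (U''.presheaf.stalk r) := (p.stalkMap r).hom.toAlgebra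
  haveI : Module.Flat (U.presheaf.stalk (p r)) (U''.presheaf.stalk r) := Flat.stalkMap p r
  haveI : IsLocalHom (algebraMap (U.presheaf.stalk (p r)) (U''.presheaf.stalk r)) :=
    inferInstanceAs (IsLocalHom (p.stalkMap r).hom)
  apply Groth.Agent.H1.ComplDepth.depth_dim_eq_of_fiber_dim_zero
  have : (maximalIdeal (U.presheaf.stalk (p r))).map
      (algebraMap (U.presheaf.stalk (p r)) (U''.presheaf.stalk r)) =
      maximalIdeal (U''.presheaf.stalk r) := Groth.Agent.H1.EtStalk.map_maximalIdeal_stalkMap p r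
  rw [this]
  exact ringKrullDim_eq_zero_of_isField
    ((Ideal.Quotient.maximal_ideal_iff_isField_quotient _).mp (maximalIdeal.isMaximal _))

variable {S : Scheme.{u}}

/-- the `(S_k)` predicate at a point -/
def SkAt (k : ℕ) (U : Scheme.{u}) (x : U) : Prop :=
  min ((k : ℕ) : WithBot ℕ∞) (ringKrullDim ↥(U.presheaf.stalk x)) ≤
    ((LocCoh.depth ↥(U.presheaf.stalk x) ↥(U.presheaf.stalk x) : ℕ∞) : WithBot ℕ∞)

theorem skAt_etale_iff (k : ℕ) {U'' U : Scheme.{u}} (p : U'' ⟶ U) [Etale p]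
    [IsLocallyNoetherian U] (r : U'') : SkAt k U'' r ↔ SkAt k U (p r) := by
  obtain ⟨h1, h2⟩ := depth_dim_etale p r
  unfold SkAt
  rw [h1, h2]

/-- every scheme étale over an étale-locally (locally Noetherian, `(S_k)`) sheaf is locally
Noetherian and `(S_k)`. -/
theorem sk_of_etaleLocally {Z : Sp S} (k : ℕ)
    (hZ : EtaleLocally (fun U => IsLocallyNoetherian U ∧ ∀ x : ↥U, SkAt k U x) Z)
    {T : Over S} (a : (yon S).obj T ⟶ Z) (ha : RepWith @Etale a) :
    IsLocallyNoetherian T.left ∧ ∀ t : T.left, SkAt k T.left t := by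
  obtain ⟨U₀, p, hpe, hps, hU₀n, hU₀s⟩ := hZ
  have sq := hpe.rep.isPullback' a
  have h1 : Etale (hpe.rep.snd a).left := hpe.property_snd a
  have h2 : Etale (hpe.rep.fst' a).left := ha.property p _ _ sq.flip
  have h3 : Surjective (hpe.rep.snd a).left := hps.property _ _ _ sq
  haveI := hU₀n
  haveI hWn : IsLocallyNoetherian (hpe.rep.pullback a).left :=
    LocallyOfFiniteType.isLocallyNoetherian (hpe.rep.fst' a).left
  have hTn : IsLocallyNoetherian T.left :=
    Groth.Agent.H1.LocNoeth.isLocallyNoetherian_of_flat_surjective_isOpenMap (hpe.rep.snd a).left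
      (hpe.rep.snd a).left.isOpenMap
  refine ⟨hTn, fun t => ?_⟩
  haveI := hTn
  obtain ⟨r, hr⟩ := (hpe.rep.snd a).left.surjective t
  have e1 := skAt_etale_iff k (hpe.rep.fst' a).left r
  have e2 := skAt_etale_iff k (hpe.rep.snd a).left r
  rw [hr] at e2
  exact e2.mp (e1.mpr (hU₀s _))

theorem S10798_main {X D : Sp S} (k : ℕ)
    (hX : EtaleLocally (fun U => IsLocallyNoetherian U ∧ ∀ x : ↥U,
        min ((k : ℕ) : WithBot ℕ∞) (ringKrullDim ↥(U.presheaf.stalk x)) ≤
          ((LocCoh.depth ↥(U.presheaf.stalk x) ↥(U.presheaf.stalk x) : ℕ∞) : WithBot ℕ∞)) X)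
    (i : D ⟶ X) (hD : AlgSp.IsEffCartierSub i) :
    EtaleLocally (fun V => IsLocallyNoetherian V ∧ ∀ v : ↥V,
        min ((k - 1 : ℕ) : WithBot ℕ∞) (ringKrullDim ↥(V.presheaf.stalk v)) ≤
          ((LocCoh.depth ↥(V.presheaf.stalk v) ↥(V.presheaf.stalk v) : ℕ∞) : WithBot ℕ∞)) D := by
  obtain ⟨hrep, V, φ, I, fst, hφe, hφs, sq, hI⟩ := hD
  have hfe : RepWith @Etale fst :=
    MorphismProperty.of_isPullback (P := RepWith @Etale) sq.flip hφe
  have hfs : RepWith @Surjective fst :=
    MorphismProperty.of_isPullback (P := RepWith @Surjective) sq.flip hφs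
  obtain ⟨hVn, hVs⟩ := sk_of_etaleLocally k hX φ hφe
  haveI := hVn
  exact ⟨_, fst, hfe, hfs, LocallyOfFiniteType.isLocallyNoetherian I.subschemeι,
    fun v => sk_subscheme I hI k hVs v⟩

lemma le_of_not_succ_le (d : WithBot ℕ∞) (n : ℕ)
    (h : ¬ (((n + 1 : ℕ) : ℕ∞) : WithBot ℕ∞) ≤ d) : d ≤ (((n : ℕ) : ℕ∞) : WithBot ℕ∞) := by
  induction d using WithBot.recBotCoe with
  | bot => exact bot_le
  | coe m =>
    rw [WithBot.coe_le_coe] at h ⊢
    induction m using ENat.recTopCoe with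
    | top => exact absurd le_top h
    | coe m =>
      have h2 : ¬ n + 1 ≤ m := by exact_mod_cast h
      have h3 : m ≤ n := by omega
      exact_mod_cast h3

/-- a normal Noetherian local domain is `(S_2)`. -/
theorem s2_of_normal (R : Type u) [CommRing R] [IsLocalRing R] [IsNoetherianRing R] [IsDomain R]
    [IsIntegrallyClosed R] :
    min ((2 : ℕ) : WithBot ℕ∞) (ringKrullDim R) ≤ ((LocCoh.depth R R : ℕ∞) : WithBot ℕ∞) := by
  by_cases h2 : (2 : WithBot ℕ∞) ≤ ringKrullDim R
  · have := Groth.Agent.H2.PicCodim2.two_le_depth_of_normal R h2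
    refine le_trans (min_le_left _ _) ?_
    have h3 : ((2 : ℕ∞) : WithBot ℕ∞) ≤ ((LocCoh.depth R R : ℕ∞) : WithBot ℕ∞) :=
      WithBot.coe_le_coe.mpr this
    exact h3
  · by_cases h1 : (1 : WithBot ℕ∞) ≤ ringKrullDim R
    · have hnf : ¬ IsField R := by
        intro hf
        rw [ringKrullDim_eq_zero_of_isField hf] at h1
        exact absurd h1 (by decide)
      have hm : maximalIdeal R ≠ ⊥ := fun h => hnf (IsLocalRing.isField_iff_maximalIdeal_eq.mpr h)
      obtain ⟨a, ha, ha0⟩ := Submodule.exists_mem_ne_zero_of_ne_bot hm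
      have hreg : IsSMulRegular R a :=
        isSMulRegular_iff_right_eq_zero_of_smul.mpr
          (fun x hx => (mul_eq_zero.mp hx).resolve_left ha0)
      have := Groth.Agent.H1.ReflFree.one_le_depth_of_isSMulRegular R R a ha hreg
      have h3 : ((1 : ℕ∞) : WithBot ℕ∞) ≤ ((LocCoh.depth R R : ℕ∞) : WithBot ℕ∞) :=
        WithBot.coe_le_coe.mpr this
      refine le_trans (min_le_right _ _) (le_trans ?_ h3)
      exact le_of_not_succ_le _ 1 h2
    · refine le_trans (min_le_right _ _) ?_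
      refine le_trans (le_of_not_succ_le _ 0 h1) ?_
      exact WithBot.coe_le_coe.mpr zero_le

theorem S10799_main {X D : Sp S}
    (hX : EtaleLocally (fun U => IsLocallyNoetherian U ∧ Pi1.IsNormalScheme U) X)
    (i : D ⟶ X) (hD : AlgSp.IsEffCartierSub i) :
    EtaleLocally (fun V => IsLocallyNoetherian V ∧ ∀ v : ↥V,
        min ((1 : ℕ) : WithBot ℕ∞) (ringKrullDim ↥(V.presheaf.stalk v)) ≤
          ((LocCoh.depth ↥(V.presheaf.stalk v) ↥(V.presheaf.stalk v) : ℕ∞) : WithBot ℕ∞)) D := by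
  obtain ⟨U, p, hpe, hps, hn, hnorm⟩ := hX
  refine S10798_main 2 ⟨U, p, hpe, hps, hn, fun x => ?_⟩ i hD
  haveI := hn
  haveI := (hnorm x).1
  haveI := (hnorm x).2
  exact s2_of_normal _

end Groth.Agent.H7.SkCartier
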