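import Mathlib

/-!
# Helper7: RootCov1 — adjoining a root of a monic polynomial with invertible derivative is a
surjective étale extension
-/

set_option autoImplicit false

open Polynomial

namespace Groth.Agent.H7.RootCov

universe u

variable {A : Type u} [CommRing A]

/-- the standard étale pair `(f, 1)` -/
noncomputable def pairOf (f : A[X]) (hf : f.Monic) (p₁ p₂ : A[X])
    (h : derivative f * p₁ + f * p₂ = 1) : StandardEtalePair A where
  f := f
  monic_f := hf
  g := 1
  cond := ⟨p₁, p₂, 1, by rw [h]; simp⟩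

theorem comap_surjective (P : StandardEtalePair A) (hg : P.g = 1) (hd : 0 < P.f.natDegree) :
    Function.Surjective (PrimeSpectrum.comap (algebraMap A P.Ring)) := by
  intro 𝔭
  let K := AlgebraicClosure 𝔭.asIdeal.ResidueField
  let ψ : A →+* K := (algebraMap 𝔭.asIdeal.ResidueField K).comp
    (algebraMap A 𝔭.asIdeal.ResidueField)
  letI : Algebra A K := ψ.toAlgebra
  have hdeg : (P.f.map ψ).degree ≠ 0 := by
    have hm : (P.f.map ψ).Monic := P.monic_f.map ψ
    rw [Polynomial.degree_eq_natDegree hm.ne_zero, P.monic_f.natDegree_map]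
    exact_mod_cast hd.ne'
  obtain ⟨x, hx⟩ := IsAlgClosed.exists_root (P.f.map ψ) hdeg
  have hmap : P.HasMap x := by
    refine ⟨?_, ?_⟩
    · rw [Polynomial.aeval_def]
      rw [Polynomial.IsRoot.def, Polynomial.eval_map] at hx
      exact hx
    · rw [hg]; simp
  let φ := P.lift x hmap
  refine ⟨⟨RingHom.ker φ.toRingHom, RingHom.ker_isPrime _⟩, ?_⟩
  ext a
  change φ.toRingHom (algebraMap A P.Ring a) = 0 ↔ a ∈ 𝔭.asIdeal
  have h1 : φ.toRingHom (algebraMap A P.Ring a) = ψ a := φ.commutes a
  rw [h1]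
  change (algebraMap 𝔭.asIdeal.ResidueField K) (algebraMap A 𝔭.asIdeal.ResidueField a) = 0 ↔ _
  rw [map_eq_zero_iff _ (algebraMap 𝔭.asIdeal.ResidueField K).injective,
    Ideal.algebraMap_residueField_eq_zero]

end Groth.Agent.H7.RootCov
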