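import Mathlib
import Groth.Agent.Lib.Helper7.RootCov1

/-!
# Helper7: RootCov2 — étale surjective covers of affine schemes adjoining a root
-/

set_option autoImplicit false

open Polynomial CategoryTheory AlgebraicGeometry

namespace Groth.Agent.H7.RootCov

universe u

theorem isoSpec_inv_appTop (Y : Scheme.{u}) [IsAffine Y] :
    Y.isoSpec.inv.appTop = (Scheme.ΓSpecIso Γ(Y, ⊤)).inv := by
  have h1 : Y.isoSpec.hom.appTop = (Scheme.ΓSpecIso Γ(Y, ⊤)).hom := Scheme.toSpecΓ_appTop Y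
  have h2 : Y.isoSpec.inv.appTop ≫ Y.isoSpec.hom.appTop = 𝟙 _ := by
    rw [← Scheme.Hom.comp_appTop, Iso.hom_inv_id]; rfl
  rw [h1] at h2
  exact (Iso.comp_hom_eq_id _).1 h2

theorem exists_etale_surjective_root (Y : Scheme.{u}) [IsAffine Y] (f : Γ(Y, ⊤)[X])
    (hf : f.Monic) (hd : 0 < f.natDegree) (p₁ p₂ : Γ(Y, ⊤)[X])
    (h : derivative f * p₁ + f * p₂ = 1) :
    ∃ (W : Scheme.{u}) (g : W ⟶ Y), Etale g ∧ Surjective g ∧
      ∃ b : Γ(W, ⊤), Polynomial.eval₂ g.appTop.hom b f = 0 := by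
  let P := pairOf f hf p₁ p₂ h
  let φ : Γ(Y, ⊤) ⟶ CommRingCat.of P.Ring := CommRingCat.ofHom (algebraMap Γ(Y, ⊤) P.Ring)
  have hφ : φ.hom.Etale := RingHom.etale_algebraMap.mpr (inferInstance : Algebra.Etale _ P.Ring)
  haveI : Etale (Spec.map φ) := (HasRingHomProperty.Spec_iff (P := @Etale)).mpr hφ
  haveI : Surjective (Spec.map φ) := by
    refine ⟨fun y => ?_⟩
    obtain ⟨x, hx⟩ := comap_surjective P rfl hd y
    exact ⟨x, hx⟩
  refine ⟨Spec (CommRingCat.of P.Ring), Spec.map φ ≫ Y.isoSpec.inv, inferInstance, inferInstance,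
    (Scheme.ΓSpecIso (CommRingCat.of P.Ring)).inv.hom P.X, ?_⟩
  have happ : (Spec.map φ ≫ Y.isoSpec.inv).appTop =
      φ ≫ (Scheme.ΓSpecIso (CommRingCat.of P.Ring)).inv := by
    rw [Scheme.Hom.comp_appTop, isoSpec_inv_appTop, Scheme.ΓSpecIso_inv_naturality]
  rw [happ]
  change Polynomial.eval₂ ((Scheme.ΓSpecIso (CommRingCat.of P.Ring)).inv.hom.comp φ.hom) _ f = 0
  rw [← Polynomial.hom_eval₂]
  have : Polynomial.eval₂ φ.hom P.X f = 0 := P.hasMap_X.1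
  rw [this, map_zero]

end Groth.Agent.H7.RootCov
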