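import Mathlib
import Groth.Prelude.Def_EtBase
import Groth.Prelude.Def_EtGm
import Groth.Prelude.Def_W4c5etcohweilstudentAS
import Groth.Agent.Lib.Helper7.RootCov2
import Groth.Agent.Lib.Helper7.ES12

/-!
# Helper7: Kum1 — Kummer and Artin–Schreier sequences are right exact on the small étale site
-/

set_option autoImplicit false

open CategoryTheory Limits AlgebraicGeometry Opposite

namespace Groth.Agent.H7.Kum

universe u

variable {X : Scheme.{u}}

/-- criterion for an epimorphism of abelian sheaves on the small étale site -/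
theorem epi_of_forall_exists {F G : EtCoh.Ab X} (φ : F ⟶ G)
    (h : ∀ (U : X.Etale) (s : G.obj.obj (op U)) (x : U.left),
      ∃ (V : X.Etale) (p : V ⟶ U) (v : V.left) (t : F.obj.obj (op V)),
        p.left.base v = x ∧ φ.hom.app (op V) t = G.obj.map p.op s) : Epi φ := by
  rw [← Sheaf.isLocallySurjective_iff_epi' (φ := φ)]
  refine ⟨fun {U} s => ?_⟩
  refine ES.sieve_mem_of_jointly_surjective _ (fun x => ?_)
  obtain ⟨V, p, v, t, hv, ht⟩ := h U s x
  exact ⟨V, p, v, ⟨t, ht⟩, hv⟩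

/-- sections of `G_m` from units -/
def toGm (U : X.Etale) (a : Γ(U.left, ⊤)ˣ) : (EtCoh.Gm X).obj.obj (op U) :=
  ULift.up (Additive.ofMul a)

def ofGm (U : X.Etale) (s : (EtCoh.Gm X).obj.obj (op U)) : Γ(U.left, ⊤)ˣ :=
  Additive.toMul s.down

theorem toGm_ofGm (U : X.Etale) (s : (EtCoh.Gm X).obj.obj (op U)) : toGm U (ofGm U s) = s := rfl

theorem Gm_map_toGm {U V : X.Etale} (p : V ⟶ U) (a : Γ(U.left, ⊤)ˣ) :
    (EtCoh.Gm X).obj.map p.op (toGm U a) = toGm V (Units.map p.left.appTop.hom.toMonoidHom a) := rfl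

theorem powMap_toGm (n : ℕ) (U : X.Etale) (a : Γ(U.left, ⊤)ˣ) :
    (EtCoh.powMap X n).hom.app (op U) (toGm U a) = toGm U (a ^ n) := by
  have h1 : (EtCoh.powMap X n).hom = n • (𝟙 (EtCoh.Gm X).obj) := by
    unfold EtCoh.powMap
    induction n with
    | zero => simp
    | succ k ih => rw [succ_nsmul, succ_nsmul, ← ih]; rfl
  rw [h1, NatTrans.app_nsmul]
  change (n • (𝟙 ((EtCoh.Gm X).obj.obj (op U)))).hom (toGm U a) = _
  rw [AddCommGrpCat.hom_nsmul]
  change n • toGm U a = _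
  rfl

theorem isEmpty_of_subsingleton_Γ (S : Scheme.{u}) [Subsingleton Γ(S, ⊤)] : IsEmpty S := by
  refine ⟨fun x => ?_⟩
  have h : (1 : Γ(S, ⊤)) = 0 := Subsingleton.elim _ _
  have h2 := congrArg (S.presheaf.Γgerm x).hom h
  rw [map_one, map_zero] at h2
  exact one_ne_zero h2

open Polynomial in
/-- the key local statement: over an affine scheme, a unit becomes an `n`-th power on an étale
surjective cover, for `n` invertible -/
theorem exists_root_unit (Y : Scheme.{u}) [IsAffine Y] [Nonempty Y] (n : ℕ) (hn : IsUnit (n : Γ(Y, ⊤)))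
    (a : Γ(Y, ⊤)ˣ) :
    ∃ (W : Scheme.{u}) (g : W ⟶ Y), Etale g ∧ Surjective g ∧
      ∃ b : Γ(W, ⊤)ˣ, b ^ n = Units.map g.appTop.hom.toMonoidHom a := by
  haveI : Nontrivial Γ(Y, ⊤) := by
    by_contra hnt
    rw [not_nontrivial_iff_subsingleton] at hnt
    exact (isEmpty_of_subsingleton_Γ Y).false (Classical.arbitrary Y)
  have hn0 : n ≠ 0 := by
    rintro rfl
    simp at hn
  obtain ⟨m, hm⟩ := hn.exists_left_inv
  let f : Γ(Y, ⊤)[X] := X ^ n - C (a : Γ(Y, ⊤))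
  have hf : f.Monic := monic_X_pow_sub_C _ hn0
  have hd : 0 < f.natDegree := by
    rw [natDegree_X_pow_sub_C]; exact Nat.pos_of_ne_zero hn0
  have hcond : derivative f * (C (m * (a⁻¹ : Γ(Y, ⊤)ˣ)) * X) + f * (- C ((a⁻¹ : Γ(Y, ⊤)ˣ) : Γ(Y, ⊤))) = 1 := by
    have hder : derivative f = C (n : Γ(Y, ⊤)) * X ^ (n - 1) := by
      simp [f, derivative_X_pow]
    rw [hder]
    have e1 : C (n : Γ(Y, ⊤)) * X ^ (n - 1) * (C (m * ((a⁻¹ : Γ(Y, ⊤)ˣ) : Γ(Y, ⊤))) * X) =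
        C (((a⁻¹ : Γ(Y, ⊤)ˣ) : Γ(Y, ⊤))) * X ^ n := by
      have hx : (X : Γ(Y, ⊤)[X]) ^ (n - 1) * X = X ^ n := by
        rw [← pow_succ, Nat.sub_add_cancel (Nat.pos_of_ne_zero hn0)]
      calc C (n : Γ(Y, ⊤)) * X ^ (n - 1) * (C (m * ((a⁻¹ : Γ(Y, ⊤)ˣ) : Γ(Y, ⊤))) * X)
          = C ((n : Γ(Y, ⊤)) * (m * ((a⁻¹ : Γ(Y, ⊤)ˣ) : Γ(Y, ⊤)))) * (X ^ (n - 1) * X) := by
            simp only [C_mul]; ring
        _ = _ := by
            rw [hx, ← mul_assoc, mul_comm (n : Γ(Y, ⊤)) m, hm, one_mul]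
    rw [e1]
    have e2 : f * (- C ((a⁻¹ : Γ(Y, ⊤)ˣ) : Γ(Y, ⊤))) =
        - (C (((a⁻¹ : Γ(Y, ⊤)ˣ) : Γ(Y, ⊤))) * X ^ n) + 1 := by
      have : C (a : Γ(Y, ⊤)) * C ((a⁻¹ : Γ(Y, ⊤)ˣ) : Γ(Y, ⊤)) = 1 := by
        rw [← C_mul, Units.mul_inv, C_1]
      simp only [f]
      linear_combination this
    rw [e2]; ring
  obtain ⟨W, g, hg1, hg2, b, hb⟩ := RootCov.exists_etale_surjective_root Y f hf hd _ _ hcond
  refine ⟨W, g, hg1, hg2, ?_⟩
  have hbn : b ^ n = g.appTop.hom (a : Γ(Y, ⊤)) := by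
    simp only [f, eval₂_sub, eval₂_pow, eval₂_X, eval₂_C] at hb
    exact sub_eq_zero.1 hb
  have hbu : IsUnit b := by
    have : IsUnit (b ^ n) := by rw [hbn]; exact a.isUnit.map g.appTop.hom
    exact (isUnit_pow_iff hn0).1 this
  refine ⟨hbu.unit, ?_⟩
  apply Units.ext
  simpa using hbn

theorem S108_main (S : Scheme.{u}) (n : ℕ) (hn : IsUnit (n : Γ(S, ⊤))) :
    Epi (EtCoh.powMap S n) := by
  apply epi_of_forall_exists
  intro U s x
  obtain ⟨i, y, hy⟩ := U.left.affineCover.exists_eq x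
  let Y := U.left.affineCover.X i
  let ι : Y ⟶ U.left := U.left.affineCover.f i
  haveI : Nonempty Y := ⟨y⟩
  have hnY : IsUnit (n : Γ(Y, ⊤)) := by
    have := hn.map (ι ≫ U.hom).appTop.hom
    rwa [map_natCast] at this
  obtain ⟨W, g, hg1, hg2, b, hb⟩ := exists_root_unit Y n hnY
    (Units.map ι.appTop.hom.toMonoidHom (ofGm U s))
  haveI : Etale U.hom := U.prop
  let V : S.Etale := Scheme.Etale.mk (g ≫ ι ≫ U.hom)
  let p : V ⟶ U := MorphismProperty.Over.homMk (g ≫ ι) (Category.assoc _ _ _)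
  obtain ⟨w, hw⟩ := g.surjective y
  refine ⟨V, p, w, toGm V b, ?_, ?_⟩
  · change (g ≫ ι).base w = x
    rw [Scheme.Hom.comp_apply, hw]; exact hy
  · rw [powMap_toGm, ← toGm_ofGm U s, Gm_map_toGm]
    refine congrArg (toGm V) (hb.trans ?_)
    apply Units.ext
    change g.appTop.hom (ι.appTop.hom _) = (g ≫ ι).appTop.hom _
    rw [Scheme.Hom.comp_appTop]
    rfl

/-- sections of `G_a` -/
def toGa (U : X.Etale) (a : Γ(U.left, ⊤)) : (EtCoh.Ga X).obj.obj (op U) := ULift.up a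

def ofGa (U : X.Etale) (s : (EtCoh.Ga X).obj.obj (op U)) : Γ(U.left, ⊤) := s.down

theorem toGa_ofGa (U : X.Etale) (s : (EtCoh.Ga X).obj.obj (op U)) : toGa U (ofGa U s) = s := rfl

theorem Ga_map_toGa {U V : X.Etale} (p : V ⟶ U) (a : Γ(U.left, ⊤)) :
    (EtCoh.Ga X).obj.map p.op (toGa U a) = toGa V (p.left.appTop.hom a) := rfl

theorem as_toGa (p : ℕ) (hp : p.Prime) (h0 : (p : Γ(X, ⊤)) = 0) (U : X.Etale) (a : Γ(U.left, ⊤)) :
    (W4c5etcohweilstudent.artinSchreierEndo X p hp h0).hom.app (op U) (toGa U a) =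
      toGa U (a ^ p - a) := rfl

open Polynomial in
theorem exists_root_as (Y : Scheme.{u}) [IsAffine Y] [Nonempty Y] (p : ℕ) (hp : p.Prime)
    (h0 : (p : Γ(Y, ⊤)) = 0) (a : Γ(Y, ⊤)) :
    ∃ (W : Scheme.{u}) (g : W ⟶ Y), Etale g ∧ Surjective g ∧
      ∃ b : Γ(W, ⊤), b ^ p - b = g.appTop.hom a := by
  haveI : Nontrivial Γ(Y, ⊤) := by
    by_contra hnt
    rw [not_nontrivial_iff_subsingleton] at hnt
    exact (isEmpty_of_subsingleton_Γ Y).false (Classical.arbitrary Y)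
  let f : Γ(Y, ⊤)[X] := X ^ p - (X + C a)
  have hdeg : (X + C a : Γ(Y, ⊤)[X]).degree < ((p : ℕ) : WithBot ℕ) := by
    rw [degree_X_add_C]
    exact_mod_cast hp.one_lt
  have hf : f.Monic := monic_X_pow_sub hdeg
  have hd : 0 < f.natDegree := by
    have hlt : (X + C a : Γ(Y, ⊤)[X]).natDegree < (X ^ p : Γ(Y, ⊤)[X]).natDegree := by
      rw [natDegree_X_add_C, natDegree_X_pow]; exact hp.one_lt
    rw [natDegree_sub_eq_left_of_natDegree_lt hlt, natDegree_X_pow]; exact hp.pos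
  have hcond : derivative f * (-1) + f * 0 = 1 := by
    have hder : derivative f = -1 := by
      simp only [f, derivative_sub, derivative_X_pow, derivative_add, derivative_X, derivative_C,
        add_zero]
      rw [show (C ((p : ℕ) : Γ(Y, ⊤)) : Γ(Y, ⊤)[X]) = 0 by rw [h0, C_0]]
      simp
    rw [hder]; simp
  obtain ⟨W, g, hg1, hg2, b, hb⟩ := RootCov.exists_etale_surjective_root Y f hf hd _ _ hcond
  refine ⟨W, g, hg1, hg2, b, ?_⟩
  simp only [f, eval₂_sub, eval₂_pow, eval₂_X, eval₂_C, eval₂_add] at hb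
  linear_combination hb

theorem S18415_main (p : ℕ) (hp : p.Prime) (h0 : (p : Γ(X, ⊤)) = 0) :
    Epi (W4c5etcohweilstudent.artinSchreierEndo X p hp h0) := by
  apply epi_of_forall_exists
  intro U s x
  obtain ⟨i, y, hy⟩ := U.left.affineCover.exists_eq x
  let Y := U.left.affineCover.X i
  let ι : Y ⟶ U.left := U.left.affineCover.f i
  haveI : Nonempty Y := ⟨y⟩
  have h0Y : (p : Γ(Y, ⊤)) = 0 := by
    have := congrArg (ι ≫ U.hom).appTop.hom h0
    rwa [map_natCast, map_zero] at this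
  obtain ⟨W, g, hg1, hg2, b, hb⟩ := exists_root_as Y p hp h0Y (ι.appTop.hom (ofGa U s))
  haveI : Etale U.hom := U.prop
  let V : X.Etale := Scheme.Etale.mk (g ≫ ι ≫ U.hom)
  let q : V ⟶ U := MorphismProperty.Over.homMk (g ≫ ι) (Category.assoc _ _ _)
  obtain ⟨w, hw⟩ := g.surjective y
  refine ⟨V, q, w, toGa V b, ?_, ?_⟩
  · change (g ≫ ι).base w = x
    rw [Scheme.Hom.comp_apply, hw]; exact hy
  · rw [as_toGa, ← toGa_ofGa U s, Ga_map_toGa]
    refine congrArg (toGa V) (hb.trans ?_)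
    change g.appTop.hom (ι.appTop.hom _) = (g ≫ ι).appTop.hom _
    rw [Scheme.Hom.comp_appTop]
    rfl

end Groth.Agent.H7.Kum
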