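import Mathlib
import Groth.Prelude.Def_EtBase
import Groth.Prelude.Def_EtGm
import Groth.Prelude.Def_Dix
import Groth.Agent.Lib.Helper7.Kum1

/-!
# Helper7: Kum2 — Kummer theory at finite level
-/

set_option autoImplicit false

open CategoryTheory Limits AlgebraicGeometry Opposite

namespace Groth.Agent.H7.Kum

universe u

theorem isUnit_of_invertibleOn (X : Scheme.{u}) (n : ℕ) (hX : Dix.InvertibleOn X n) :
    IsUnit (n : Γ(X, ⊤)) := by
  apply X.toRingedSpace.isUnit_of_isUnit_germ ⊤
  intro x hx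
  have h1 : x ∈ X.basicOpen (n : Γ(X, ⊤)) := by
    rw [← X.evaluation_ne_zero_iff_mem_basicOpen (U := ⊤) x trivial]
    have := hX x
    rwa [map_natCast]
  exact (X.mem_basicOpen_top _ x).1 h1

/-- the Kummer short exact sequence -/
theorem kummer_shortExact (X : Scheme.{u}) (n : ℕ) (hn : IsUnit (n : Γ(X, ⊤))) :
    (ShortComplex.mk (EtCoh.muι X n) (EtCoh.powMap X n) (kernel.condition _)).ShortExact := by
  haveI : Epi (EtCoh.powMap X n) := S108_main X n hn
  haveI : Mono (EtCoh.muι X n) := inferInstanceAs (Mono (kernel.ι _))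
  refine ShortComplex.ShortExact.mk' ?_ inferInstance inferInstance
  exact ShortComplex.exact_of_f_is_kernel _ (kernelIsKernel _)

theorem S3244_main (X : Scheme.{u}) (n : ℕ) (_hn : 0 < n) (hX : Dix.InvertibleOn X n) (i : ℕ)
    (_hi : 1 ≤ i) :
    Set.range ⇑((EtCoh.HF X i).map (EtCoh.muι X n)) =
      {ξ : (EtCoh.HF X i).obj (EtCoh.Gm X) | n • ξ = 0} := by
  have hS := kummer_shortExact X n (isUnit_of_invertibleOn X n hX)
  haveI : (EtCoh.HF X i).Additive := by unfold EtCoh.HF; infer_instance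
  have hpow : ∀ ξ : (EtCoh.HF X i).obj (EtCoh.Gm X),
      ((EtCoh.HF X i).map (EtCoh.powMap X n)) ξ = n • ξ := by
    intro ξ
    have : (EtCoh.HF X i).map (EtCoh.powMap X n) = n • 𝟙 _ := by
      unfold EtCoh.powMap
      rw [Functor.map_nsmul, CategoryTheory.Functor.map_id]
    rw [this]
    rfl
  ext ξ
  constructor
  · rintro ⟨η, rfl⟩
    change n • _ = 0
    rw [← hpow]
    have : (EtCoh.HF X i).map (EtCoh.muι X n) ≫ (EtCoh.HF X i).map (EtCoh.powMap X n) = 0 := by
      rw [← Functor.map_comp]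
      have : EtCoh.muι X n ≫ EtCoh.powMap X n = 0 := kernel.condition _
      rw [this, Functor.map_zero]
    exact ConcreteCategory.congr_hom this η
  · intro hξ
    change n • ξ = 0 at hξ
    rw [← hpow] at hξ
    obtain ⟨η, hη⟩ := Abelian.Ext.covariant_sequence_exact₂ _ hS ξ hξ
    exact ⟨η, hη⟩

end Groth.Agent.H7.Kum
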