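import Mathlib
import Groth.Prelude.Def_AlgSp4
import Groth.Prelude.Def_AlgSpDec
import Groth.Prelude.Def_AlgSpSub
import Groth.Agent.Lib.Helper5.AlgSp.Coprod
import Groth.Agent.Lib.Helper5.AlgSp.MonoDesc
import Groth.Agent.Lib.Helper5.AlgSp.RedInduced
import Groth.Agent.Lib.Helper5.AlgSp.Points
import Groth.Agent.Lib.Helper3.AlgSpMor.Unramified
import Groth.Agent.Lib.Helper3.Decent.ClosedPoint

set_option autoImplicit false
universe u
open CategoryTheory CategoryTheory.Limits AlgebraicGeometry Opposite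

namespace Groth.Agent.H7.EDSq

open _root_.AlgSp Groth.Agent.H5.AlgSp

variable {S : Scheme.{u}}

/-- Descent of a morphism along an epimorphism of sheaves. -/
theorem exists_desc_of_epi {E W Z : Sp S} (e : E ⟶ W) [Epi e] (g : E ⟶ Z)
    (h : ∀ (T : Over S) (x y : (yon S).obj T ⟶ E), x ≫ e = y ≫ e → x ≫ g = y ≫ g) :
    ∃ c : W ⟶ Z, e ≫ c = g := by
  haveI : IsRegularEpi e := IsRegularEpiCategory.regularEpiOfEpi e
  have hk : IsRegularEpi.left e ≫ g = IsRegularEpi.right e ≫ g := by
    apply hom_ext_yon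
    intro T ξ
    rw [← Category.assoc, ← Category.assoc]
    apply h
    rw [Category.assoc, Category.assoc, IsRegularEpi.w]
  exact ⟨IsRegularEpi.desc e g hk, Cofork.IsColimit.π_desc' (IsRegularEpi.isColimit e) g hk⟩

/-- A sieve containing a jointly surjective family of flat morphisms locally of finite
presentation is covering. -/
lemma mem_J_of_family {T : Over S} {ι : Type*} (A : ι → Over S) (a : ∀ i, A i ⟶ T)
    (hfl : ∀ i, Flat (a i).left) (hlfp : ∀ i, LocallyOfFinitePresentation (a i).left)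
    (hsurj : ∀ t : ↥T.left, ∃ i, t ∈ Set.range (a i).left) (R : Sieve T) (hR : ∀ i, R (a i)) :
    R ∈ J S T := by
  rw [mem_J_iff]
  refine ⟨Presieve.ofArrows A a, ?_, ?_⟩
  · rw [Presieve.map_ofArrows]
    exact (Scheme.ofArrows_mem_precoverage_iff (P := @Flat ⊓ @LocallyOfFinitePresentation)
      (X := fun i => (A i).left) (f := fun i => (a i).left)).2
      ⟨hsurj, fun i => ⟨hfl i, hlfp i⟩⟩
  · rintro _ _ ⟨i⟩
    exact hR i

/-- The two-member version. -/
lemma mem_J_of_pair {T A₁ A₂ : Over S} (a₁ : A₁ ⟶ T) (a₂ : A₂ ⟶ T)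
    (h₁ : Flat a₁.left) (h₁' : LocallyOfFinitePresentation a₁.left)
    (h₂ : Flat a₂.left) (h₂' : LocallyOfFinitePresentation a₂.left)
    (hsurj : ∀ t : ↥T.left, t ∈ Set.range a₁.left ∨ t ∈ Set.range a₂.left)
    (R : Sieve T) (hR₁ : R a₁) (hR₂ : R a₂) : R ∈ J S T := by
  refine mem_J_of_family (ι := Bool) (fun b => Bool.rec A₂ A₁ b)
    (fun b => Bool.rec (motive := fun b => (Bool.rec A₂ A₁ b : Over S) ⟶ T) a₂ a₁ b)
    ?_ ?_ ?_ R ?_
  · intro b; cases b
    · exact h₂
    · exact h₁
  · intro b; cases b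
    · exact h₂'
    · exact h₁'
  · intro t
    rcases hsurj t with h | h
    · exact ⟨true, h⟩
    · exact ⟨false, h⟩
  · intro b; cases b
    · exact hR₂
    · exact hR₁

section Square

variable {U V W P : Sp S} (j : U ⟶ W) (f : V ⟶ W)

/-- The sieve of maps over which a point of `W` lifts to `U` or to `V`. -/
def pairSieve {T : Over S} (ξ : (yon S).obj T ⟶ W) : Sieve T where
  arrows T' g := (∃ τ : (yon S).obj T' ⟶ U, τ ≫ j = (yon S).map g ≫ ξ) ∨
    (∃ τ : (yon S).obj T' ⟶ V, τ ≫ f = (yon S).map g ≫ ξ)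
  downward_closed := by
    rintro T' T'' g (⟨τ, hτ⟩ | ⟨τ, hτ⟩) k
    · exact Or.inl ⟨(yon S).map k ≫ τ, by
        rw [Category.assoc, hτ, Functor.map_comp, Category.assoc]⟩
    · exact Or.inr ⟨(yon S).map k ≫ τ, by
        rw [Category.assoc, hτ, Functor.map_comp, Category.assoc]⟩

variable {j f}

/-- The members of an elementary distinguished square are jointly surjective on points. -/
lemma joint_surjective (hsq : IsElemDistSq j f) (w : Points W) :
    w ∈ Set.range (Points.map j) ∨ w ∈ Set.range (Points.map f) := by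
  obtain ⟨-, -, Tsp, Psp, i, p₁, p₂, hred, hpb, hiso⟩ := hsq
  by_cases hw : w ∈ Set.range (Points.map j)
  · exact Or.inl hw
  · right
    have h1 : w ∈ Set.range (Points.map i) := by rw [hred.2.1]; exact hw
    obtain ⟨t, rfl⟩ := h1
    refine ⟨Points.map p₂ (Points.map (inv p₁) t), ?_⟩
    rw [← Points.map_comp, ← hpb.w, Points.map_comp, ← Points.map_comp (inv p₁) p₁,
      IsIso.inv_hom_id, Points.map_id]

lemma pairSieve_mem (hsq : IsElemDistSq j f) (hV : IsAlgSpace V) {T : Over S}
    (ξ : (yon S).obj T ⟶ W) : pairSieve j f ξ ∈ J S T := by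
  have hjs := joint_surjective hsq
  obtain ⟨hj, hf, -⟩ := hsq
  obtain ⟨V', ν, hνe, hνs⟩ := hV.atlas
  have hfν : RepWith @Etale (ν ≫ f) := hf ν hνe
  have sq₁ := hj.rep.isPullback ξ
  have sq₂ := hfν.rep.isPullback ξ
  have ho : IsOpenImmersion (hj.rep.snd ξ).left := hj.property_snd ξ
  have he : Etale (hfν.rep.snd ξ).left := hfν.property_snd ξ
  refine mem_J_of_pair (hj.rep.snd ξ) (hfν.rep.snd ξ) inferInstance inferInstance inferInstance
    inferInstance ?_ _ (Or.inl ⟨hj.rep.fst ξ, sq₁.w⟩)
    (Or.inr ⟨hfν.rep.fst ξ ≫ ν, by rw [Category.assoc]; exact sq₂.w⟩)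
  intro t
  rcases hjs (Points.ofPt ξ t) with ⟨x, hx⟩ | ⟨x, hx⟩
  · obtain ⟨v, hv, -⟩ := exists_point_of_isPullback sq₁ x t hx
    exact Or.inl ⟨v, hv⟩
  · obtain ⟨x', rfl⟩ := points_map_surjective_of_repWith hνs x
    obtain ⟨v, hv, -⟩ := exists_point_of_isPullback sq₂ x' t (by
      rw [Points.map_comp]; exact hx)
    exact Or.inr ⟨v, hv⟩

/-- The members of an elementary distinguished square are jointly epimorphic. -/
theorem joint_epi (hsq : IsElemDistSq j f) (hV : IsAlgSpace V) {Z : Sp S} (c c' : W ⟶ Z)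
    (h₁ : j ≫ c = j ≫ c') (h₂ : f ≫ c = f ≫ c') : c = c' := by
  apply hom_ext_yon
  intro T ξ
  apply yon_hom_ext_of_mem_J (pairSieve_mem hsq hV ξ)
  rintro T' g (⟨τ, hτ⟩ | ⟨τ, hτ⟩)
  · rw [← Category.assoc, ← Category.assoc, ← hτ, Category.assoc, Category.assoc, h₁]
  · rw [← Category.assoc, ← Category.assoc, ← hτ, Category.assoc, Category.assoc, h₂]

/-- Two points of `V` over the same point of `W` have the same image under a morphism compatible
with the square. -/
theorem eq_of_comp_eq (hsq : IsElemDistSq j f) (hV : IsAlgSpace V) (hW : IsAlgSpace W)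
    {p : P ⟶ U} {q : P ⟶ V} (hP : IsPullback p q j f) {Z : Sp S} (a : U ⟶ Z) (b : V ⟶ Z)
    (hab : p ≫ a = q ≫ b) {T : Over S} (x y : (yon S).obj T ⟶ V) (hxy : x ≫ f = y ≫ f) :
    x ≫ b = y ≫ b := by
  have hjs := joint_surjective hsq
  obtain ⟨hj, hf, Tsp, Psp, i, p₁, p₂, hred, hpb, hiso⟩ := hsq
  have hΔ : RepWith @IsOpenImmersion (pullback.diagonal f) :=
    Groth.Agent.H3.AlgSpProp.repWith_isOpenImmersion_diagonal_of_unramified hV hW f
      (locP_mono Groth.Agent.H3.AlgSpProp.etale_le_unramified (locP_etale_of_isEtaleMor hf))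
  obtain ⟨xy, hxy1, hxy2⟩ : ∃ xy : (yon S).obj T ⟶ pullback f f,
      xy ≫ pullback.fst f f = x ∧ xy ≫ pullback.snd f f = y :=
    ⟨pullback.lift x y hxy, pullback.lift_fst _ _ _, pullback.lift_snd _ _ _⟩
  have sq₁ := hΔ.rep.isPullback xy
  have sq₂ := hj.rep.isPullback (x ≫ f)
  have ho₁ : IsOpenImmersion (hΔ.rep.snd xy).left := hΔ.property_snd xy
  have ho₂ : IsOpenImmersion (hj.rep.snd (x ≫ f)).left := hj.property_snd _
  -- the sieve where the two composites agree
  let R : Sieve T :=
    { arrows := fun T' g => (yon S).map g ≫ x ≫ b = (yon S).map g ≫ y ≫ b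
      downward_closed := by
        intro T' T'' g hg k
        rw [Functor.map_comp, Category.assoc, Category.assoc, hg] }
  have hR : R ∈ J S T := by
    refine mem_J_of_pair (hΔ.rep.snd xy) (hj.rep.snd (x ≫ f)) inferInstance inferInstance
      inferInstance inferInstance ?_ R ?_ ?_
    · intro t
      rcases hjs (Points.ofPt (x ≫ f) t) with ⟨u, hu⟩ | ⟨-, -⟩
      · obtain ⟨v, hv, -⟩ := exists_point_of_isPullback sq₂ u t hu
        exact Or.inr ⟨v, hv⟩
      · by_cases hw : Points.ofPt (x ≫ f) t ∈ Set.range (Points.map j)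
        · obtain ⟨u, hu⟩ := hw
          obtain ⟨v, hv, -⟩ := exists_point_of_isPullback sq₂ u t hu
          exact Or.inr ⟨v, hv⟩
        · left
          -- the residue field point at `t`
          obtain ⟨ιt, hιt⟩ : ∃ ιt : Over.mk (T.left.fromSpecResidueField t ≫ T.hom) ⟶ T,
              ιt = Over.homMk (T.left.fromSpecResidueField t) rfl := ⟨_, rfl⟩
          have hιt' : ∀ s, ιt.left s = t := by
            intro s
            rw [hιt]
            change (T.left.fromSpecResidueField t) s = t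
            have hsub : Subsingleton ↥(Spec (T.left.residueField t)) := inferInstance
            have : s = IsLocalRing.closedPoint (T.left.residueField t) := hsub.elim _ _
            rw [this, Scheme.fromSpecResidueField_apply]
          have hred0 : AlgebraicGeometry.IsReduced (Spec (T.left.residueField t)) := inferInstance
          have hred' : IsReducedSp ((yon S).obj (Over.mk (T.left.fromSpecResidueField t ≫ T.hom))) :=
            @Groth.Agent.H3.Decent.isReducedSp_yon _ (Over.mk (T.left.fromSpecResidueField t ≫ T.hom)) hred0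
          have hrange : Set.range (Points.map ((yon S).map ιt ≫ x ≫ f)) ⊆
              Set.range (Points.map i) := by
            rintro _ ⟨z, rfl⟩
            obtain ⟨s, rfl⟩ := ofScheme_surjective _ z
            rw [← Points.ofPt_eq_map_ofScheme, ofPt_yon_map_comp, hιt', hred.2.1]
            exact hw
          obtain ⟨w', hw'⟩ := exists_lift_closed_of_isReducedSp i hred.1 hred' _ hrange
          have hmono : Mono p₁ := inferInstance
          have hxt : (yon S).map ιt ≫ x = (yon S).map ιt ≫ y := by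
            have e1 : hpb.lift w' ((yon S).map ιt ≫ x) (by rw [hw', Category.assoc]) =
                hpb.lift w' ((yon S).map ιt ≫ y) (by rw [hw', Category.assoc, hxy]) := by
              rw [← cancel_mono p₁, hpb.lift_fst, hpb.lift_fst]
            have e2 := congrArg (fun m => m ≫ p₂) e1
            simp only [hpb.lift_snd] at e2
            exact e2
          have hpt : Points.map (pullback.diagonal f) (Points.ofPt x t) = Points.ofPt xy t := by
            rw [Points.map_ofPt]
            have h1 : Points.ofPt (x ≫ pullback.diagonal f) t =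
                Points.ofPt ((yon S).map ιt ≫ x ≫ pullback.diagonal f)
                  (IsLocalRing.closedPoint _) := by
              rw [ofPt_yon_map_comp, hιt']
            have h2 : Points.ofPt xy t =
                Points.ofPt ((yon S).map ιt ≫ xy) (IsLocalRing.closedPoint _) := by
              rw [ofPt_yon_map_comp, hιt']
            rw [h1, h2]
            congr 1
            apply pullback.hom_ext
            · rw [Category.assoc, Category.assoc, Category.assoc, pullback.diagonal_fst,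
                Category.comp_id, hxy1]
            · rw [Category.assoc, Category.assoc, Category.assoc, pullback.diagonal_snd,
                Category.comp_id, hxy2, hxt]
          obtain ⟨v, hv, -⟩ := exists_point_of_isPullback sq₁ (Points.ofPt x t) t hpt
          exact ⟨v, hv⟩
    · -- on the diagonal locus
      change (yon S).map (hΔ.rep.snd xy) ≫ x ≫ b = (yon S).map (hΔ.rep.snd xy) ≫ y ≫ b
      have e1 : (yon S).map (hΔ.rep.snd xy) ≫ x = hΔ.rep.fst xy := by
        rw [← hxy1, ← Category.assoc, ← sq₁.w, Category.assoc, pullback.diagonal_fst,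
          Category.comp_id]
      have e2 : (yon S).map (hΔ.rep.snd xy) ≫ y = hΔ.rep.fst xy := by
        rw [← hxy2, ← Category.assoc, ← sq₁.w, Category.assoc, pullback.diagonal_snd,
          Category.comp_id]
      rw [← Category.assoc, ← Category.assoc, e1, e2]
    · -- on the locus over `U`
      change (yon S).map (hj.rep.snd (x ≫ f)) ≫ x ≫ b = (yon S).map (hj.rep.snd (x ≫ f)) ≫ y ≫ b
      have w1 : hj.rep.fst (x ≫ f) ≫ j = ((yon S).map (hj.rep.snd (x ≫ f)) ≫ x) ≫ f := by
        rw [Category.assoc]; exact sq₂.w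
      have w2 : hj.rep.fst (x ≫ f) ≫ j = ((yon S).map (hj.rep.snd (x ≫ f)) ≫ y) ≫ f := by
        rw [Category.assoc, ← hxy]; exact sq₂.w
      have e1 : hj.rep.fst (x ≫ f) ≫ a = ((yon S).map (hj.rep.snd (x ≫ f)) ≫ x) ≫ b := by
        rw [← hP.lift_fst _ _ w1, Category.assoc, hab, ← Category.assoc, hP.lift_snd]
      have e2 : hj.rep.fst (x ≫ f) ≫ a = ((yon S).map (hj.rep.snd (x ≫ f)) ≫ y) ≫ b := by
        rw [← hP.lift_fst _ _ w2, Category.assoc, hab, ← Category.assoc, hP.lift_snd]
      rw [← Category.assoc, ← Category.assoc, ← e1, ← e2]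
  apply yon_hom_ext_of_mem_J hR
  intro T' g hg
  exact hg

/-- A pair of sheaves as a family indexed by `Bool`. -/
def pairFam (U V : Sp S) : Bool → Sp S := fun b => Bool.rec V U b

/-- A pair of morphisms as a family indexed by `Bool`. -/
def pairHom {U V W : Sp S} (j : U ⟶ W) (f : V ⟶ W) : ∀ b, pairFam U V b ⟶ W :=
  fun b => Bool.rec (motive := fun b => pairFam U V b ⟶ W) f j b

lemma case_UV {p : P ⟶ U} {q : P ⟶ V} (hP : IsPullback p q j f) {Z : Sp S} (a : U ⟶ Z)
    (b : V ⟶ Z) (hab : p ≫ a = q ≫ b) {T : Over S} (τu : (yon S).obj T ⟶ U)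
    (τv : (yon S).obj T ⟶ V) (h : τu ≫ j = τv ≫ f) : τu ≫ a = τv ≫ b := by
  rw [← hP.lift_fst τu τv h, Category.assoc, hab, ← Category.assoc, hP.lift_snd]

lemma case_UU (j : U ⟶ W) [Mono j] {Z : Sp S} (a : U ⟶ Z) {T : Over S}
    (τ τ' : (yon S).obj T ⟶ U) (h : τ ≫ j = τ' ≫ j) : τ ≫ a = τ' ≫ a := by
  rw [(cancel_mono j).1 h]

/-- The universal property of an elementary distinguished square among sheaves. -/
theorem exists_desc (hsq : IsElemDistSq j f) (hV : IsAlgSpace V) (hW : IsAlgSpace W)
    {p : P ⟶ U} {q : P ⟶ V} (hP : IsPullback p q j f) {Z : Sp S} (a : U ⟶ Z) (b : V ⟶ Z)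
    (hab : p ≫ a = q ≫ b) : ∃ c : W ⟶ Z, j ≫ c = a ∧ f ≫ c = b := by
  have hj : Mono j := mono_of_repWith LocalRep.isOpenImmersion_le_mono hsq.1
  obtain ⟨e, het, hef⟩ : ∃ e : ∀ b, pairFam U V b ⟶ W, e true = j ∧ e false = f :=
    ⟨pairHom j f, rfl, rfl⟩
  obtain ⟨g, hgt, hgf⟩ : ∃ g : ∀ b, pairFam U V b ⟶ Z, g true = a ∧ g false = b :=
    ⟨pairHom a b, rfl, rfl⟩
  let F : Bool → Sp S := pairFam U V
  have hepi : Epi (Sigma.desc e) := by
    refine ⟨fun {Z'} c c' h => ?_⟩
    apply joint_epi hsq hV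
    · have := Sigma.ι F true ≫= h
      rw [Sigma.ι_desc_assoc, Sigma.ι_desc_assoc, het] at this
      exact this
    · have := Sigma.ι F false ≫= h
      rw [Sigma.ι_desc_assoc, Sigma.ι_desc_assoc, hef] at this
      exact this
  obtain ⟨c, hc⟩ := exists_desc_of_epi (Sigma.desc e) (Sigma.desc g) (by
    intro T x y hxy
    let cf : Cofan F := Cofan.mk (∐ F) (Sigma.ι F)
    have hcf : IsColimit cf := coproductIsCoproduct F
    apply yon_hom_ext_of_mem_J ((J S).intersection_covering (cofanSieve_mem hcf x)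
      (cofanSieve_mem hcf y))
    rintro T' k ⟨⟨i, τ, hτ⟩, ⟨i', τ', hτ'⟩⟩
    change τ ≫ Sigma.ι F i = _ at hτ
    change τ' ≫ Sigma.ι F i' = _ at hτ'
    rw [← Category.assoc, ← Category.assoc, ← hτ, ← hτ', Category.assoc, Category.assoc,
      Sigma.ι_desc, Sigma.ι_desc]
    have h1 : τ ≫ e i = τ' ≫ e i' := by
      have := congrArg (fun m => (yon S).map k ≫ m) hxy
      simp only [← Category.assoc, ← hτ, ← hτ'] at this
      simp only [Category.assoc, Sigma.ι_desc] at this
      exact this
    cases i <;> cases i'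
    · -- both in `V`
      rw [hgf]
      rw [hef] at h1
      exact eq_of_comp_eq hsq hV hW hP a b hab τ τ' h1
    · -- `V` and `U`
      rw [hgf, hgt]
      rw [hef, het] at h1
      exact (case_UV hP a b hab τ' τ h1.symm).symm
    · rw [hgf, hgt]
      rw [hef, het] at h1
      exact case_UV hP a b hab τ τ' h1
    · rw [hgt]
      rw [het] at h1
      exact case_UU j a τ τ' h1)
  refine ⟨c, ?_, ?_⟩
  · have := Sigma.ι F true ≫= hc
    rw [Sigma.ι_desc_assoc, Sigma.ι_desc, het, hgt] at this
    exact this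
  · have := Sigma.ι F false ≫= hc
    rw [Sigma.ι_desc_assoc, Sigma.ι_desc, hef, hgf] at this
    exact this

end Square

theorem S10695_main {U V W P : AlgSp.Space S} (j : U ⟶ W) (f : V ⟶ W)
    (hsq : AlgSp.IsElemDistSq j.hom f.hom) (p : P ⟶ U) (q : P ⟶ V)
    (hP : IsPullback p.hom q.hom j.hom f.hom) : IsPushout p q j f := by
  have hw : p ≫ j = q ≫ f := ObjectProperty.hom_ext _ hP.w
  have key : ∀ s : PushoutCocone p q, ∃ c : W.obj ⟶ s.pt.obj,
      j.hom ≫ c = s.inl.hom ∧ f.hom ≫ c = s.inr.hom := fun s =>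
    exists_desc hsq V.property W.property hP s.inl.hom s.inr.hom
      (congrArg (fun m => m.hom) s.condition)
  refine ⟨⟨hw⟩, ⟨PushoutCocone.IsColimit.mk hw (fun s => ObjectProperty.homMk (key s).choose)
    ?_ ?_ ?_⟩⟩
  · intro s
    exact ObjectProperty.hom_ext _ (key s).choose_spec.1
  · intro s
    exact ObjectProperty.hom_ext _ (key s).choose_spec.2
  · intro s m h1 h2
    apply ObjectProperty.hom_ext
    apply joint_epi hsq V.property
    · change j.hom ≫ m.hom = j.hom ≫ (key s).choose
      rw [(key s).choose_spec.1]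
      exact congrArg (fun m => m.hom) h1
    · change f.hom ≫ m.hom = f.hom ≫ (key s).choose
      rw [(key s).choose_spec.2]
      exact congrArg (fun m => m.hom) h2

end Groth.Agent.H7.EDSq
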