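import Groth.Prelude.Def_AlgSpSub
import Groth.Agent.Lib.Helper3.SchDenseLfp
import Groth.Agent.Lib.Helper5.AlgSp.SchDenseQC
import Groth.Agent.Lib.Helper5.AlgSp.Coprod
import Groth.Agent.Lib.Helper5.AlgSp.Mono
import Groth.Agent.Lib.Helper5.AlgSp.LocalRep
import Mathlib

/-!
# Scheme theoretic density for open subspaces of algebraic spaces: independence of the chart
-/

set_option autoImplicit false

universe u

open CategoryTheory CategoryTheory.Limits AlgebraicGeometry Opposite Topology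

namespace Groth.Agent.H7.SchDenseSp

open _root_.AlgSp Groth.Agent.H5.AlgSp Groth.Agent.H2.SchDense

section Scheme

lemma res_res {X : Scheme.{u}} {A B C : X.Opens} (h1 : B ≤ A) (h2 : C ≤ B) (x : Γ(X, A)) :
    X.presheaf.map (homOfLE h2).op (X.presheaf.map (homOfLE h1).op x) =
      X.presheaf.map (homOfLE (h2.trans h1)).op x := by
  rw [← CommRingCat.comp_apply, ← Functor.map_comp]; rfl

/-- Sections inject along a flat surjective morphism. -/
theorem app_injective_of_flat_of_surjective {X Y : Scheme.{u}} (f : X ⟶ Y) [Flat f]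
    [Surjective f] (U : Y.Opens) : Function.Injective (f.app U) := by
  rw [injective_iff_map_eq_zero]
  intro a ha
  apply TopCat.Presheaf.section_ext Y.sheaf U a 0
  intro y hy
  obtain ⟨x, rfl⟩ := ‹Surjective f›.surj y
  have hinj : Function.Injective (f.stalkMap x) := by
    algebraize [(f.stalkMap x).hom]
    have : Module.FaithfullyFlat (Y.presheaf.stalk (f x)) (X.presheaf.stalk x) :=
      @Module.FaithfullyFlat.of_flat_of_isLocalHom _ _ _ _ _ _ _
        (Flat.stalkMap f x) (f.toLRSHom.prop x)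
    exact ‹RingHom.FaithfullyFlat _›.injective
  apply hinj
  have h1 : f.stalkMap x (Y.presheaf.germ U (f x) hy a) = 0 := by
    rw [Scheme.Hom.germ_stalkMap_apply, ha, map_zero]
  have h2 : f.stalkMap x (Y.presheaf.germ U (f x) hy 0) = 0 := by
    rw [map_zero, map_zero]
  exact h1.trans h2.symm

/-- Schematic density descends along flat surjective morphisms. -/
theorem schDense_of_preimage {P V : Scheme.{u}} (f : P ⟶ V) [Flat f] [Surjective f]
    (W : V.Opens) (h : CInt.IsSchematicallyDense (f ⁻¹ᵁ W)) : CInt.IsSchematicallyDense W := by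
  apply of_forall_eq_zero
  intro V' a ha
  apply app_injective_of_flat_of_surjective f V'
  rw [map_zero]
  apply apply_eq_zero h
  have hn := f.naturality (homOfLE (inf_le_left : V' ⊓ W ≤ V')).op
  have h1 := congrArg (fun m => m.hom a) hn
  simp only [CommRingCat.comp_apply] at h1
  rw [ha, map_zero] at h1
  exact h1.symm

/-- The intersection of two schematically dense opens is schematically dense. -/
theorem schDense_inf {X : Scheme.{u}} {W₁ W₂ : X.Opens} (h₁ : CInt.IsSchematicallyDense W₁)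
    (h₂ : CInt.IsSchematicallyDense W₂) : CInt.IsSchematicallyDense (W₁ ⊓ W₂) := by
  apply of_forall_eq_zero
  intro V a ha
  apply apply_eq_zero h₁
  apply apply_eq_zero h₂
  have hle : (V ⊓ W₁) ⊓ W₂ ≤ V ⊓ (W₁ ⊓ W₂) := by
    rw [inf_assoc]
  rw [res_res]
  have := congrArg (X.presheaf.map (homOfLE hle).op) ha
  rw [res_res, map_zero] at this
  exact this

end Scheme

section Sp

variable {S : Scheme.{u}}

/-- Membership criterion for the open subscheme representing the pullback of a monomorphism. -/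
lemma forall_mem_iff_exists_lift {U X : Sp S} {j : U ⟶ X} {V : Over S}
    {φ : (yon S).obj V ⟶ X} {W : V.left.Opens} {fst : (yon S).obj (overOpen V W) ⟶ U}
    (sq : IsPullback fst ((yon S).map (overOpenι V W)) j φ) {T : Over S} (y : T ⟶ V) :
    (∀ t : ↥T.left, y.left t ∈ W) ↔ ∃ x : (yon S).obj T ⟶ U, x ≫ j = (yon S).map y ≫ φ := by
  constructor
  · intro h
    obtain ⟨z, hz⟩ := exists_overOpen_lift W y h
    refine ⟨(yon S).map z ≫ fst, ?_⟩
    rw [Category.assoc, sq.w, ← Category.assoc, ← Functor.map_comp, hz]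
  · rintro ⟨x, hx⟩ t
    obtain ⟨z, hz⟩ := (yon S).map_surjective (sq.lift x ((yon S).map y) hx)
    have h1 : z ≫ overOpenι V W = y := by
      apply (yon S).map_injective
      rw [Functor.map_comp, hz]
      exact sq.lift_snd _ _ _
    have h2 : (z.left ≫ W.ι) t = y.left t := by
      have := congrArg (fun m => m.left) h1
      exact congrArg (fun m : T.left ⟶ V.left => m t) this
    rw [← h2, Scheme.Hom.comp_apply]
    exact (z.left t).2

/-- Schematic density of the inverse image on one surjective etale chart gives it on every etale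
chart. -/
theorem schDense_of_isSchDense {U X : Sp S} {j : U ⟶ X} (hj : IsSchDense j) (V : Over S)
    (φ : (yon S).obj V ⟶ X) (hφ : RepWith @Etale φ) (W : V.left.Opens)
    (fst : (yon S).obj (overOpen V W) ⟶ U)
    (sq : IsPullback fst ((yon S).map (overOpenι V W)) j φ) : CInt.IsSchematicallyDense W := by
  obtain ⟨hjo, V₁, φ₁, W₁, fst₁, hφ₁e, hφ₁s, sq₁, hW₁⟩ := hj
  have hr := hφ₁e.rep
  obtain ⟨p₁, hp₁⟩ := (yon S).map_surjective (hr.fst φ)
  have sqP : IsPullback ((yon S).map p₁) ((yon S).map (hr.snd φ)) φ₁ φ := by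
    rw [hp₁]; exact hr.isPullback φ
  set p₂ := hr.snd φ with hp₂
  have he₂ : Etale p₂.left := hφ₁e.property _ _ _ sqP
  have hs₂ : Surjective p₂.left := hφ₁s.property _ _ _ sqP
  have he₁ : Etale p₁.left := hφ.property _ _ _ sqP.flip
  have hfl₁ : Flat p₁.left := inferInstance
  have hfp₁ : LocallyOfFinitePresentation p₁.left := inferInstance
  have hfl₂ : Flat p₂.left := inferInstance
  -- the two inverse images agree
  have heq : p₁.left ⁻¹ᵁ W₁ = p₂.left ⁻¹ᵁ W := by
    apply le_antisymm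
    · intro t ht
      have h1 : ∀ t' : ↥(overOpen _ (p₁.left ⁻¹ᵁ W₁)).left,
          (overOpenι _ (p₁.left ⁻¹ᵁ W₁) ≫ p₁).left t' ∈ W₁ := fun t' => t'.2
      obtain ⟨x, hx⟩ := (forall_mem_iff_exists_lift sq₁ _).1 h1
      have hx' : x ≫ j = (yon S).map (overOpenι _ (p₁.left ⁻¹ᵁ W₁) ≫ p₂) ≫ φ := by
        rw [hx, Functor.map_comp, Functor.map_comp, Category.assoc, Category.assoc, sqP.w]
      exact (forall_mem_iff_exists_lift sq _).2 ⟨x, hx'⟩ ⟨t, ht⟩
    · intro t ht
      have h1 : ∀ t' : ↥(overOpen _ (p₂.left ⁻¹ᵁ W)).left,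
          (overOpenι _ (p₂.left ⁻¹ᵁ W) ≫ p₂).left t' ∈ W := fun t' => t'.2
      obtain ⟨x, hx⟩ := (forall_mem_iff_exists_lift sq _).1 h1
      have hx' : x ≫ j = (yon S).map (overOpenι _ (p₂.left ⁻¹ᵁ W) ≫ p₁) ≫ φ₁ := by
        rw [hx, Functor.map_comp, Functor.map_comp, Category.assoc, Category.assoc, sqP.w]
      exact (forall_mem_iff_exists_lift sq₁ _).2 ⟨x, hx'⟩ ⟨t, ht⟩
  have hd : CInt.IsSchematicallyDense (p₁.left ⁻¹ᵁ W₁) :=
    Groth.Agent.H3.SchDenseLfp.main p₁.left W₁ hW₁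
  rw [heq] at hd
  exact schDense_of_preimage p₂.left W hd

theorem S9968_main {U X : AlgSp.Space S} (j : U ⟶ X)
    (hj : AlgSp.IsSchDense j.hom) (V : Over S) (φ : (AlgSp.yon S).obj V ⟶ X.obj)
    (hφ : AlgSp.RepWith @Etale φ)
    (W : V.left.Opens) (fst : (AlgSp.yon S).obj (Over.mk (W.ι ≫ V.hom)) ⟶ U.obj)
    (sq : IsPullback fst ((AlgSp.yon S).map (Over.homMk W.ι rfl : Over.mk (W.ι ≫ V.hom) ⟶ V))
      j.hom φ) :
    CInt.IsSchematicallyDense W :=
  schDense_of_isSchDense hj V φ hφ W fst sq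

/-- The intersection of two scheme theoretically dense open subspaces is scheme theoretically
dense. -/
theorem isSchDense_inter {U V X P : Sp S} {jU : U ⟶ X} {jV : V ⟶ X}
    (hU : IsSchDense jU) (hV : IsSchDense jV) {fst : P ⟶ U} {snd : P ⟶ V}
    (sq : IsPullback fst snd jU jV) : IsSchDense (fst ≫ jU) := by
  have hUo := hU.1
  have hVo := hV.1
  obtain ⟨-, V₁, φ₁, W₁, fst₁, hφ₁e, hφ₁s, sq₁, hW₁⟩ := hU
  have hfsto : RepWith @IsOpenImmersion fst :=
    (RepWith @IsOpenImmersion).of_isPullback sq.flip hVo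
  have hcomp : RepWith @IsOpenImmersion (fst ≫ jU) :=
    (RepWith @IsOpenImmersion).comp_mem _ _ hfsto hUo
  haveI hmono : Mono (fst ≫ jU) := mono_of_repWith LocalRep.isOpenImmersion_le_mono hcomp
  -- the inverse image of V in the chart
  have hrV := hVo.rep
  have hoi : IsOpenImmersion (hrV.snd φ₁).left := hVo.property _ _ _ (hrV.isPullback φ₁)
  obtain ⟨W₂, fst₂, sq₂, -⟩ := exists_isPullback_overOpen (hrV.isPullback φ₁)
  have hW₂ : CInt.IsSchematicallyDense W₂ :=
    schDense_of_isSchDense hV V₁ φ₁ hφ₁e W₂ fst₂ sq₂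
  -- the lift to P
  have hle₁ : ∀ t : ↥(overOpen V₁ (W₁ ⊓ W₂)).left,
      (overOpenι V₁ (W₁ ⊓ W₂)).left t ∈ W₁ := fun t => t.2.1
  have hle₂ : ∀ t : ↥(overOpen V₁ (W₁ ⊓ W₂)).left,
      (overOpenι V₁ (W₁ ⊓ W₂)).left t ∈ W₂ := fun t => t.2.2
  obtain ⟨x₁, hx₁⟩ := (forall_mem_iff_exists_lift sq₁ _).1 hle₁
  obtain ⟨x₂, hx₂⟩ := (forall_mem_iff_exists_lift sq₂ _).1 hle₂
  let τ := sq.lift x₁ x₂ (by rw [hx₁, hx₂])
  have hτ : τ ≫ (fst ≫ jU) = (yon S).map (overOpenι V₁ (W₁ ⊓ W₂)) ≫ φ₁ := by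
    rw [← Category.assoc, sq.lift_fst, hx₁]
  refine ⟨hcomp, V₁, φ₁, W₁ ⊓ W₂, τ, hφ₁e, hφ₁s, ?_, schDense_inf hW₁ hW₂⟩
  apply isPullback_of_mono_of_forall_mem (fst ≫ jU) φ₁ (W₁ ⊓ W₂) τ hτ
  intro T'' y x hxy t''
  refine ⟨?_, ?_⟩
  · exact (forall_mem_iff_exists_lift sq₁ y).2 ⟨x ≫ fst, by rw [Category.assoc, hxy]⟩ t''
  · exact (forall_mem_iff_exists_lift sq₂ y).2
      ⟨x ≫ snd, by rw [Category.assoc, ← sq.w, hxy]⟩ t''

theorem S9970_main {U V X P : AlgSp.Space S} (jU : U ⟶ X) (jV : V ⟶ X)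
    (hU : AlgSp.IsSchDense jU.hom) (hV : AlgSp.IsSchDense jV.hom) (fst : P ⟶ U) (snd : P ⟶ V)
    (sq : IsPullback fst.hom snd.hom jU.hom jV.hom) : AlgSp.IsSchDense (fst ≫ jU).hom :=
  isSchDense_inter hU hV sq

end Sp

end Groth.Agent.H7.SchDenseSp
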