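import Mathlib

/-! Depth-zero local rings: injective maps of finite free modules split. -/

namespace Groth.Agent.H7.FFR

open IsLocalRing TensorProduct

section Local

variable {S : Type*} [CommRing S] [IsLocalRing S]

theorem one_tmul_eq_zero_iff {M : Type*} [AddCommGroup M] [Module S M] (v : M) :
    ((1 : ResidueField S) ⊗ₜ[S] v = 0) ↔ v ∈ (maximalIdeal S • ⊤ : Submodule S M) := by
  have e := TensorProduct.quotTensorEquivQuotSMul M (maximalIdeal S)
  have h1 : TensorProduct.quotTensorEquivQuotSMul M (maximalIdeal S)
      ((1 : S ⧸ maximalIdeal S) ⊗ₜ[S] v) = Submodule.Quotient.mk v :=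
    TensorProduct.quotTensorEquivQuotSMul_mk_one_tmul _ v
  constructor
  · intro h
    have h2 : ((1 : S ⧸ maximalIdeal S) ⊗ₜ[S] v) = 0 := h
    rw [h2, map_zero] at h1
    exact (Submodule.Quotient.mk_eq_zero _).mp h1.symm
  · intro h
    have h2 : (Submodule.Quotient.mk v : M ⧸ (maximalIdeal S • ⊤ : Submodule S M)) = 0 :=
      (Submodule.Quotient.mk_eq_zero _).mpr h
    rw [h2] at h1
    exact (LinearEquiv.map_eq_zero_iff _).mp h1

/-- depth-zero local ring: injective maps out of finite free modules stay injective mod `𝔪`. -/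
theorem lTensor_residueField_injective_of_depth_zero
    {x : S} (hx0 : x ≠ 0) (hx : ∀ m ∈ maximalIdeal S, m * x = 0)
    {M N : Type*} [AddCommGroup M] [Module S M] [AddCommGroup N] [Module S N]
    [Module.Free S M] [Module.Finite S M]
    (l : M →ₗ[S] N) (hl : Function.Injective l) :
    Function.Injective (l.lTensor (ResidueField S)) := by
  rw [injective_iff_map_eq_zero]
  intro z hz
  obtain ⟨v, rfl⟩ : ∃ v : M, (1 : ResidueField S) ⊗ₜ[S] v = z :=
    TensorProduct.mk_surjective S M (ResidueField S) Ideal.Quotient.mk_surjective z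
  rw [LinearMap.lTensor_tmul, one_tmul_eq_zero_iff] at hz
  rw [one_tmul_eq_zero_iff]
  have h2 : x • l v = 0 := by
    refine Submodule.smul_induction_on hz ?_ ?_
    · intro m hm n _
      rw [smul_smul, mul_comm, hx m hm, zero_smul]
    · intro a b ha hb
      rw [smul_add, ha, hb, add_zero]
  have h3 : x • v = 0 := hl (by rw [map_smul, h2, map_zero])
  let b := Module.Free.chooseBasis S M
  have h4 : ∀ i, b.repr v i ∈ maximalIdeal S := by
    intro i
    by_contra hni
    have hu : IsUnit (b.repr v i) := by
      rwa [mem_maximalIdeal, mem_nonunits_iff, not_not] at hni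
    have h5 : x * b.repr v i = 0 := by
      have := congrArg (fun w => b.repr w i) h3
      simpa using this
    exact hx0 (hu.mul_left_eq_zero.mp h5)
  rw [← b.sum_repr v]
  exact Submodule.sum_mem _ fun i _ => Submodule.smul_mem_smul (h4 i) Submodule.mem_top

/-- depth-zero local ring: cokernel of an injective map of finite free modules is free,
and ranks are additive. -/
theorem free_quotient_range_of_depth_zero
    {x : S} (hx0 : x ≠ 0) (hx : ∀ m ∈ maximalIdeal S, m * x = 0)
    {M N : Type*} [AddCommGroup M] [Module S M] [AddCommGroup N] [Module S N]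
    [Module.Free S M] [Module.Finite S M] [Module.Free S N] [Module.Finite S N]
    (l : M →ₗ[S] N) (hl : Function.Injective l) :
    Module.Free S (N ⧸ LinearMap.range l) ∧
      Module.finrank S N = Module.finrank S M + Module.finrank S (N ⧸ LinearMap.range l) := by
  have hinj := lTensor_residueField_injective_of_depth_zero hx0 hx l hl
  have hfree : Module.Free S (N ⧸ LinearMap.range l) :=
    Module.free_of_lTensor_residueField_injective l (LinearMap.range l).mkQ
      (Submodule.mkQ_surjective _) l.exact_map_mkQ_range hinj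
  refine ⟨hfree, ?_⟩
  obtain ⟨l', hl'⟩ := (IsLocalRing.split_injective_iff_lTensor_residueField_injective l).mpr hinj
  -- N ≃ M × (N ⧸ range l)
  have hl'' : ∀ m, l' (l m) = m := fun m => LinearMap.congr_fun hl' m
  let φ : N →ₗ[S] M × (N ⧸ LinearMap.range l) := LinearMap.prod l' (LinearMap.range l).mkQ
  have hφinj : Function.Injective φ := by
    rw [injective_iff_map_eq_zero]
    intro n hn
    have h1 : l' n = 0 := congrArg Prod.fst hn
    have h2 : (LinearMap.range l).mkQ n = 0 := congrArg Prod.snd hn
    rw [Submodule.mkQ_apply, Submodule.Quotient.mk_eq_zero] at h2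
    obtain ⟨m, rfl⟩ := h2
    rw [hl''] at h1
    rw [h1, map_zero]
  have hφsurj : Function.Surjective φ := by
    rintro ⟨m, q⟩
    obtain ⟨n, rfl⟩ := Submodule.mkQ_surjective _ q
    refine ⟨n + l (m - l' n), ?_⟩
    refine Prod.ext ?_ ?_
    · show l' (n + l (m - l' n)) = m
      rw [map_add, hl'']; abel
    · show (LinearMap.range l).mkQ (n + l (m - l' n)) = (LinearMap.range l).mkQ n
      rw [map_add]
      have : (LinearMap.range l).mkQ (l (m - l' n)) = 0 := by
        rw [Submodule.mkQ_apply, Submodule.Quotient.mk_eq_zero]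
        exact ⟨_, rfl⟩
      rw [this, add_zero]
  let eφ := LinearEquiv.ofBijective φ ⟨hφinj, hφsurj⟩
  haveI : Module.Finite S (N ⧸ LinearMap.range l) := inferInstance
  rw [eφ.finrank_eq, Module.finrank_prod]

end Local

end Groth.Agent.H7.FFR
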