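import Mathlib
import Groth.Agent.Lib.Helper7.FFR1

/-! Depth-zero local rings: finite free resolutions have free cokernel of rank the Euler
characteristic. -/

namespace Groth.Agent.H7.FFR

open IsLocalRing

variable {S : Type*} [CommRing S] [IsLocalRing S]

/-- variant with the range named. -/
theorem free_quotient_of_depth_zero
    {x : S} (hx0 : x ≠ 0) (hx : ∀ m ∈ maximalIdeal S, m * x = 0)
    {M N : Type*} [AddCommGroup M] [Module S M] [AddCommGroup N] [Module S N]
    [Module.Free S M] [Module.Finite S M] [Module.Free S N] [Module.Finite S N]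
    (l : M →ₗ[S] N) (hl : Function.Injective l) (p : Submodule S N)
    (hp : LinearMap.range l = p) :
    Module.Free S (N ⧸ p) ∧
      Module.finrank S N = Module.finrank S M + Module.finrank S (N ⧸ p) := by
  subst hp
  exact free_quotient_range_of_depth_zero hx0 hx l hl

theorem free_coker_of_exact_chain {x : S} (hx0 : x ≠ 0) (hx : ∀ m ∈ maximalIdeal S, m * x = 0)
    (e : ℕ) : ∀ (n : ℕ → ℕ) (B : (i : ℕ) → Matrix (Fin (n i)) (Fin (n (i + 1))) S)
    (_hB : ∀ i, i + 2 ≤ e + 1 →
      LinearMap.ker (B i).mulVecLin = LinearMap.range (B (i + 1)).mulVecLin)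
    (_hlast : LinearMap.ker (B e).mulVecLin = ⊥),
    Module.Free S ((Fin (n 0) → S) ⧸ LinearMap.range (B 0).mulVecLin) ∧
    (Module.finrank S ((Fin (n 0) → S) ⧸ LinearMap.range (B 0).mulVecLin) : ℤ) =
      ∑ i ∈ Finset.range (e + 2), (-1) ^ i * (n i : ℤ) := by
  induction e with
  | zero =>
    intro n B _ hlast
    obtain ⟨h1, h2⟩ := free_quotient_of_depth_zero hx0 hx (B 0).mulVecLin
      (LinearMap.ker_eq_bot.mp hlast) _ rfl
    refine ⟨h1, ?_⟩
    rw [Module.finrank_fin_fun, Module.finrank_fin_fun] at h2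
    simp only [zero_add] at h2
    simp only [zero_add, Finset.sum_range_succ, Finset.range_one, Finset.sum_singleton, pow_zero,
      one_mul, pow_one, neg_mul]
    omega
  | succ e ih =>
    intro n B hB hlast
    obtain ⟨h1, h2⟩ := ih (fun i => n (i + 1)) (fun i => B (i + 1))
      (fun i hi => hB (i + 1) (by omega)) hlast
    have hker : LinearMap.ker (B 0).mulVecLin = LinearMap.range (B 1).mulVecLin :=
      hB 0 (by omega)
    -- the map from the cokernel of `B 1` to `F_0`
    let l : ((Fin (n 1) → S) ⧸ LinearMap.range (B (0 + 1)).mulVecLin) →ₗ[S] (Fin (n 0) → S) :=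
      (LinearMap.range (B (0 + 1)).mulVecLin).liftQ (B 0).mulVecLin (le_of_eq hker.symm)
    have hl : Function.Injective l := by
      rw [← LinearMap.ker_eq_bot]
      exact Submodule.ker_liftQ_eq_bot _ _ _ (le_of_eq hker)
    have hr : LinearMap.range l = LinearMap.range (B 0).mulVecLin :=
      Submodule.range_liftQ _ _ _
    haveI := h1
    obtain ⟨h3, h4⟩ := free_quotient_of_depth_zero hx0 hx l hl _ hr
    refine ⟨h3, ?_⟩
    rw [Module.finrank_fin_fun] at h4
    have h5 : (n 0 : ℤ) = (Module.finrank S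
        ((Fin (n 1) → S) ⧸ LinearMap.range (B (0 + 1)).mulVecLin) : ℤ) +
        (Module.finrank S ((Fin (n 0) → S) ⧸ LinearMap.range (B 0).mulVecLin) : ℤ) := by
      exact_mod_cast h4
    rw [h2] at h5
    rw [Finset.sum_range_succ' _ (e + 1 + 1)]
    have h6 : ∑ i ∈ Finset.range (e + 1 + 1), (-1 : ℤ) ^ (i + 1) * (n (i + 1) : ℤ) =
        - ∑ i ∈ Finset.range (e + 2), (-1 : ℤ) ^ i * (n (i + 1) : ℤ) := by
      rw [← Finset.sum_neg_distrib]
      refine Finset.sum_congr rfl fun i _ => ?_
      rw [pow_succ]; ring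
    rw [h6]
    simp only [pow_zero, one_mul]
    linarith

end Groth.Agent.H7.FFR
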