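import Mathlib

/-! Localization of matrices: exactness and injectivity. -/

namespace Groth.Agent.H7.FFR

variable {R : Type*} [CommRing R] (M : Submonoid R) (S : Type*) [CommRing S] [Algebra R S]

/-- the localization map on `Fin n → R`. -/
noncomputable def locPi (n : ℕ) : (Fin n → R) →ₗ[R] (Fin n → S) :=
  LinearMap.pi fun i => (Algebra.linearMap R S) ∘ₗ LinearMap.proj i

@[simp] theorem locPi_apply (n : ℕ) (w : Fin n → R) (i : Fin n) :
    locPi S n w i = algebraMap R S (w i) := rfl

theorem locPi_eq_comp (n : ℕ) (w : Fin n → R) : locPi S n w = (algebraMap R S) ∘ w := rfl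

instance [IsLocalization M S] (n : ℕ) : IsLocalizedModule M (locPi (R := R) S n) := by
  unfold locPi
  exact IsLocalizedModule.pi M (fun _ : Fin n => Algebra.linearMap R S)

theorem mulVecLin_map_comp {a b : ℕ} (A : Matrix (Fin a) (Fin b) R) :
    ((A.map (algebraMap R S)).mulVecLin.restrictScalars R) ∘ₗ locPi S b =
      locPi S a ∘ₗ A.mulVecLin := by
  ext w i
  simp only [LinearMap.coe_comp, Function.comp_apply, LinearMap.coe_restrictScalars,
    Matrix.mulVecLin_apply, locPi_apply, LinearMap.coe_single]
  rw [RingHom.map_mulVec]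
  rfl

theorem map_mulVecLin [IsLocalization M S] {a b : ℕ} (A : Matrix (Fin a) (Fin b) R) :
    IsLocalizedModule.map M (locPi S b) (locPi S a) A.mulVecLin =
      (A.map (algebraMap R S)).mulVecLin.restrictScalars R := by
  apply IsLocalizedModule.linearMap_ext M (locPi S b) (locPi S a)
  rw [IsLocalizedModule.map_comp, mulVecLin_map_comp]

theorem ker_eq_range_map [IsLocalization M S] {a b c : ℕ} (A : Matrix (Fin a) (Fin b) R)
    (A' : Matrix (Fin b) (Fin c) R)
    (h : LinearMap.ker A.mulVecLin = LinearMap.range A'.mulVecLin) :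
    LinearMap.ker (A.map (algebraMap R S)).mulVecLin =
      LinearMap.range (A'.map (algebraMap R S)).mulVecLin := by
  have hex : Function.Exact A'.mulVecLin A.mulVecLin := LinearMap.exact_iff.mpr h
  have := IsLocalizedModule.map_exact M (locPi S c) (locPi S b) (locPi S a) _ _ hex
  rw [map_mulVecLin, map_mulVecLin] at this
  ext v
  rw [LinearMap.mem_ker, LinearMap.mem_range]
  exact this v

theorem ker_eq_bot_map [IsLocalization M S] {a b : ℕ} (A : Matrix (Fin a) (Fin b) R)
    (h : LinearMap.ker A.mulVecLin = ⊥) :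
    LinearMap.ker (A.map (algebraMap R S)).mulVecLin = ⊥ := by
  have := IsLocalizedModule.map_injective M (locPi S b) (locPi S a) A.mulVecLin
    (LinearMap.ker_eq_bot.mp h)
  rw [map_mulVecLin] at this
  rw [LinearMap.ker_eq_bot]
  exact this

/-- if the localized matrix is surjective, every vector is in the range up to a multiple. -/
theorem exists_smul_mem_range [IsLocalization M S] {a b : ℕ} (A : Matrix (Fin a) (Fin b) R)
    (h : LinearMap.range (A.map (algebraMap R S)).mulVecLin = ⊤) (v : Fin a → R) :
    ∃ t ∈ M, t • v ∈ LinearMap.range A.mulVecLin := by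
  have hv : locPi S a v ∈ LinearMap.range (A.map (algebraMap R S)).mulVecLin := by
    rw [h]; exact Submodule.mem_top
  obtain ⟨w, hw⟩ := hv
  obtain ⟨⟨w', s⟩, hs⟩ := IsLocalizedModule.surj M (locPi S b) w
  have hs' : (s : R) • w = locPi S b w' := by
    rw [← hs]; rfl
  have h1 : locPi S a ((s : R) • v) = locPi S a (A.mulVecLin w') := by
    have h2 := LinearMap.congr_fun (mulVecLin_map_comp S A) w'
    simp only [LinearMap.coe_comp, Function.comp_apply, LinearMap.coe_restrictScalars] at h2
    rw [← h2, ← hs', map_smul (locPi S a), ← hw]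
    exact (LinearMap.map_smul_of_tower _ _ _).symm
  obtain ⟨c, hc⟩ := (IsLocalizedModule.eq_iff_exists M (locPi S a)).mp h1
  rw [Submonoid.smul_def, Submonoid.smul_def] at hc
  refine ⟨c * s, (c * s).2, ?_⟩
  refine ⟨(c : R) • w', ?_⟩
  rw [map_smul, ← hc, mul_smul]

end Groth.Agent.H7.FFR
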