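import Mathlib
import Groth.Agent.Lib.Helper7.FFR2
import Groth.Agent.Lib.Helper7.FFR3

/-! An ideal with a finite free resolution contains a nonzerodivisor (Noetherian case). -/

namespace Groth.Agent.H7.FFR

open IsLocalRing

universe u

section DepthZero

variable {R : Type u} [CommRing R]

/-- at an associated prime `P = ann x`, the localization has depth zero. -/
theorem depth_zero_atPrime (P : Ideal R) [P.IsPrime] (x : R)
    (hP : P = (⊥ : Submodule R R).colon {x}) :
    algebraMap R (Localization.AtPrime P) x ≠ 0 ∧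
      ∀ m ∈ maximalIdeal (Localization.AtPrime P),
        m * algebraMap R (Localization.AtPrime P) x = 0 := by
  have hmem : ∀ r : R, r ∈ P ↔ r * x = 0 := by
    intro r
    have : r ∈ P ↔ r ∈ (⊥ : Submodule R R).colon {x} := by rw [← hP]
    rw [this, Submodule.mem_colon_singleton]
    simp
  constructor
  · intro h
    obtain ⟨m, hm⟩ := (IsLocalization.map_eq_zero_iff P.primeCompl _ x).mp h
    exact m.2 ((hmem _).mpr hm)
  · intro m hm
    obtain ⟨p, s, rfl⟩ := IsLocalization.exists_mk'_eq P.primeCompl m
    rw [IsLocalization.AtPrime.mk'_mem_maximal_iff (Localization.AtPrime P) P] at hm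
    have hpx : p * x = 0 := (hmem _).mp hm
    have hu : IsUnit (algebraMap R (Localization.AtPrime P) s) := IsLocalization.map_units _ s
    apply hu.mul_left_cancel
    rw [mul_zero, ← mul_assoc, mul_comm (algebraMap R (Localization.AtPrime P) s),
      IsLocalization.mk'_spec, ← map_mul, hpx, map_zero]

theorem finrank_eq_zero_of_smul_eq_zero {S Q : Type*} [CommRing S] [Nontrivial S]
    [AddCommGroup Q] [Module S Q]
    [Module.Free S Q] [Module.Finite S Q] (y : S) (hy : y ≠ 0) (h : ∀ q : Q, y • q = 0) :
    Module.finrank S Q = 0 := by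
  rw [Module.finrank_eq_zero_iff_of_free]
  by_contra hns
  rw [not_subsingleton_iff_nontrivial] at hns
  let b := Module.Free.chooseBasis S Q
  haveI : Nonempty (Module.Free.ChooseBasisIndex S Q) := b.index_nonempty
  obtain ⟨i⟩ := this
  have h1 := congrArg (fun q => b.repr q i) (h (b i))
  simp at h1
  exact hy h1

end DepthZero

section Main

variable {R : Type u} [CommRing R] [IsNoetherianRing R]

theorem coker_free_at (e : ℕ) (n : ℕ → ℕ)
    (A : (i : ℕ) → Matrix (Fin (n i)) (Fin (n (i + 1))) R)
    (hA : ∀ i, i + 2 ≤ e + 1 →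
      LinearMap.ker (A i).mulVecLin = LinearMap.range (A (i + 1)).mulVecLin)
    (hlast : LinearMap.ker (A e).mulVecLin = ⊥)
    (Q : Ideal R) [Q.IsPrime] (x : R) (hQ : Q = (⊥ : Submodule R R).colon {x}) :
    Module.Free (Localization.AtPrime Q) ((Fin (n 0) → Localization.AtPrime Q) ⧸
      LinearMap.range ((A 0).map (algebraMap R (Localization.AtPrime Q))).mulVecLin) ∧
    (Module.finrank (Localization.AtPrime Q) ((Fin (n 0) → Localization.AtPrime Q) ⧸
      LinearMap.range ((A 0).map (algebraMap R (Localization.AtPrime Q))).mulVecLin) : ℤ) =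
      ∑ i ∈ Finset.range (e + 2), (-1) ^ i * (n i : ℤ) := by
  obtain ⟨h1, h2⟩ := depth_zero_atPrime Q x hQ
  exact free_coker_of_exact_chain h1 h2 e n
    (fun i => (A i).map (algebraMap R (Localization.AtPrime Q)))
    (fun i hi => ker_eq_range_map Q.primeCompl _ _ _ (hA i hi))
    (ker_eq_bot_map Q.primeCompl _ _ hlast)

theorem main
    (e : ℕ) (he : 1 ≤ e) (n : ℕ → ℕ) (A : (i : ℕ) → Matrix (Fin (n i)) (Fin (n (i + 1))) R)
    (π : (Fin (n 0) → R) →ₗ[R] R) (hI : LinearMap.range π ≠ ⊥)
    (h0 : LinearMap.ker π = LinearMap.range (A 0).mulVecLin)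
    (hA : ∀ i, i + 2 ≤ e → LinearMap.ker (A i).mulVecLin = LinearMap.range (A (i + 1)).mulVecLin)
    (hlast : LinearMap.ker (A (e - 1)).mulVecLin = ⊥) :
    ∃ x : R, x ∈ LinearMap.range π ∧ x ∈ nonZeroDivisors R := by
  obtain ⟨e, rfl⟩ : ∃ e', e = e' + 1 := ⟨e - 1, by omega⟩
  replace hlast : LinearMap.ker (A e).mulVecLin = ⊥ := hlast
  by_contra hcon
  -- the ideal `I`
  set I : Ideal R := LinearMap.range π with hIdef
  have hdisj : Disjoint (I : Set R) (nonZeroDivisors R) := by
    rw [Set.disjoint_left]
    intro y hy hy'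
    exact hcon ⟨y, hy, hy'⟩
  obtain ⟨P, hPass, hP⟩ : ∃ P ∈ associatedPrimes R R, I ≤ P :=
    (I.subset_union_prime_finite (associatedPrimes.finite ..) (f := id) 0 0
      fun _ h _ _ ↦ h.1).1 <|
    biUnion_associatedPrimes_eq_compl_nonZeroDivisors R ▸ hdisj.subset_compl_right
  rw [AssociatedPrimes.mem_iff, isAssociatedPrime_iff] at hPass
  obtain ⟨hPprime, x, hPx⟩ := hPass
  -- the Euler characteristic vanishes
  obtain ⟨hfree, hrank⟩ := coker_free_at e n A hA hlast P x hPx
  obtain ⟨hx1, hx2⟩ := depth_zero_atPrime P x hPx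
  have hkill : ∀ q : ((Fin (n 0) → Localization.AtPrime P) ⧸
      LinearMap.range ((A 0).map (algebraMap R (Localization.AtPrime P))).mulVecLin),
      algebraMap R (Localization.AtPrime P) x • q = 0 := by
    intro q
    obtain ⟨v, rfl⟩ := Submodule.Quotient.mk_surjective _ q
    rw [← Submodule.Quotient.mk_smul, Submodule.Quotient.mk_eq_zero]
    obtain ⟨⟨w, s⟩, hs⟩ := IsLocalizedModule.surj P.primeCompl
      (locPi (Localization.AtPrime P) (n 0)) v
    have hs' : (s : R) • v = locPi (Localization.AtPrime P) (n 0) w := by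
      rw [← hs]; rfl
    -- `x • w ∈ ker π`
    have hxw : x • w ∈ LinearMap.ker π := by
      rw [LinearMap.mem_ker, map_smul]
      have : π w ∈ P := hP ⟨w, rfl⟩
      rw [hPx, Submodule.mem_colon_singleton] at this
      rw [smul_eq_mul, mul_comm]
      simpa using this
    rw [h0] at hxw
    obtain ⟨u, hu⟩ := hxw
    have hu' : IsUnit (algebraMap R (Localization.AtPrime P) s) := IsLocalization.map_units _ s
    obtain ⟨c, hc⟩ := hu'
    have h2 := LinearMap.congr_fun (mulVecLin_map_comp (Localization.AtPrime P) (A 0)) u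
    simp only [LinearMap.coe_comp, Function.comp_apply, LinearMap.coe_restrictScalars] at h2
    have h5 : algebraMap R (Localization.AtPrime P) s •
        (algebraMap R (Localization.AtPrime P) x • v) =
        ((A 0).map (algebraMap R (Localization.AtPrime P))).mulVecLin
          (locPi (Localization.AtPrime P) (n 1) u) :=
      calc algebraMap R (Localization.AtPrime P) s •
            (algebraMap R (Localization.AtPrime P) x • v)
          = algebraMap R (Localization.AtPrime P) x •
            (algebraMap R (Localization.AtPrime P) s • v) := smul_comm _ _ _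
        _ = algebraMap R (Localization.AtPrime P) x • ((s : R) • v) := by
            rw [algebraMap_smul (Localization.AtPrime P) (s : R) v]
        _ = algebraMap R (Localization.AtPrime P) x •
            locPi (Localization.AtPrime P) (n 0) w := by rw [hs']
        _ = x • locPi (Localization.AtPrime P) (n 0) w := algebraMap_smul _ _ _
        _ = locPi (Localization.AtPrime P) (n 0) (x • w) := (map_smul _ _ _).symm
        _ = locPi (Localization.AtPrime P) (n 0) ((A 0).mulVecLin u) := by rw [hu]
        _ = _ := h2.symm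
    have h3 : algebraMap R (Localization.AtPrime P) s •
        (algebraMap R (Localization.AtPrime P) x • v)
        ∈ LinearMap.range ((A 0).map (algebraMap R (Localization.AtPrime P))).mulVecLin := by
      rw [h5]
      exact ⟨_, rfl⟩
    rw [← hc] at h3
    have h4 := Submodule.smul_mem _ (↑c⁻¹ : Localization.AtPrime P) h3
    rwa [smul_smul, Units.inv_mul, one_smul] at h4
  haveI := hfree
  have hχ := finrank_eq_zero_of_smul_eq_zero _ hx1 hkill
  rw [hχ] at hrank
  -- so the cokernel vanishes at every associated prime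
  have hπ : ∀ j, π (Pi.single j 1) = 0 := by
    intro j
    by_contra hne
    obtain ⟨Q, hQass, hQ⟩ := exists_le_isAssociatedPrime_of_isNoetherianRing R _ hne
    rw [isAssociatedPrime_iff] at hQass
    obtain ⟨hQprime, z, hQz⟩ := hQass
    obtain ⟨hfreeQ, hrankQ⟩ := coker_free_at e n A hA hlast Q z hQz
    rw [← hrank] at hrankQ
    haveI := hfreeQ
    have hsub := (Module.finrank_eq_zero_iff_of_free _ _).mp (by exact_mod_cast hrankQ)
    rw [Submodule.Quotient.subsingleton_iff] at hsub
    obtain ⟨t, ht, htm⟩ := exists_smul_mem_range Q.primeCompl (Localization.AtPrime Q) (A 0) hsub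
      (Pi.single j 1)
    rw [← h0, LinearMap.mem_ker, map_smul] at htm
    have : t ∈ (⊥ : Submodule R R).colon {π (Pi.single j 1)} := by
      rw [Submodule.mem_colon_singleton]
      simpa using htm
    exact ht (hQ this)
  apply hI
  rw [LinearMap.range_eq_bot]
  exact LinearMap.pi_ext' fun j => LinearMap.ext_ring (by simpa using hπ j)

end Main

end Groth.Agent.H7.FFR
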