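import Mathlib

/-! # Units of localisations of a factorial domain inside its fraction field (helper7)

Pure algebra behind the triviality of the Picard group of open subschemes of the spectrum of a
factorial domain. -/

set_option autoImplicit false

namespace Groth.Agent.H7.UfdPic

variable {R : Type*} [CommRing R] [IsDomain R]
  {K : Type*} [Field K] [Algebra R K] [IsFractionRing R K]

/-- `c ∈ K` is a unit at the prime `p` of `R`. -/
def UnitAt (p : R) (c : K) : Prop :=
  ∃ s t : R, ¬ p ∣ s ∧ ¬ p ∣ t ∧ c * algebraMap R K t = algebraMap R K s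

/-- `c ∈ R[1/g] ⊆ K`. -/
def InAway (g : R) (c : K) : Prop :=
  ∃ (r : R) (k : ℕ), c * algebraMap R K g ^ k = algebraMap R K r

/-- `c ∈ R[1/g]ˣ ⊆ K`. -/
def UnitAway (g : R) (c : K) : Prop :=
  ∃ d : K, c * d = 1 ∧ InAway g c ∧ InAway g d

omit [IsDomain R] in
lemma algebraMap_ne_zero {a : R} (ha : a ≠ 0) : algebraMap R K a ≠ 0 :=
  (map_ne_zero_iff _ (IsFractionRing.injective R K)).mpr ha

omit [IsDomain R] in
lemma UnitAt.ne_zero {p : R} {c : K} (h : UnitAt p c) : c ≠ 0 := by
  obtain ⟨s, t, hs, -, hst⟩ := h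
  rintro rfl
  rw [zero_mul] at hst
  have : s = 0 := by
    apply IsFractionRing.injective R K
    rw [← hst, map_zero]
  exact hs (this ▸ dvd_zero p)

omit [IsDomain R] in
lemma UnitAt.mul {p : R} (hp : Prime p) {c c' : K} (h : UnitAt p c) (h' : UnitAt p c') :
    UnitAt p (c * c') := by
  obtain ⟨s, t, hs, ht, hst⟩ := h
  obtain ⟨s', t', hs', ht', hst'⟩ := h'
  refine ⟨s * s', t * t', fun hd => ?_, fun hd => ?_, ?_⟩
  · exact (hp.dvd_or_dvd hd).elim hs hs'
  · exact (hp.dvd_or_dvd hd).elim ht ht'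
  · rw [map_mul, map_mul]
    linear_combination (c' * algebraMap R K t') * hst + algebraMap R K s * hst'

omit [IsDomain R] in
lemma UnitAt.inv {p : R} {c : K} (h : UnitAt p c) : UnitAt p c⁻¹ := by
  have hc := h.ne_zero
  obtain ⟨s, t, hs, ht, hst⟩ := h
  refine ⟨t, s, ht, hs, ?_⟩
  rw [← hst, inv_mul_cancel_left₀ hc]

omit [IsDomain R] in
lemma UnitAt.div {p : R} (hp : Prime p) {c c' : K} (h : UnitAt p c) (h' : UnitAt p c') :
    UnitAt p (c / c') := by
  rw [div_eq_mul_inv]
  exact h.mul hp h'.inv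

omit [IsDomain R] [IsFractionRing R K] in
lemma unitAt_algebraMap {p a : R} (hp : ¬ IsUnit p) (ha : ¬ p ∣ a) :
    UnitAt p (algebraMap R K a) :=
  ⟨a, 1, ha, fun h => hp (isUnit_of_dvd_one h), by rw [map_one, mul_one]⟩

omit [IsDomain R] [IsFractionRing R K] in
lemma unitAt_one {p : R} (hp : ¬ IsUnit p) : UnitAt p (1 : K) := by
  have := unitAt_algebraMap (K := K) hp (fun h => hp (isUnit_of_dvd_one h))
  rwa [map_one] at this

omit [IsDomain R] [IsFractionRing R K] in
lemma UnitAt.congr_associated {p q : R} (h : Associated p q) {c : K} (hc : UnitAt p c) :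
    UnitAt q c := by
  obtain ⟨s, t, hs, ht, hst⟩ := hc
  exact ⟨s, t, fun hd => hs (h.dvd_iff_dvd_left.mpr hd), fun hd => ht (h.dvd_iff_dvd_left.mpr hd), hst⟩

lemma unitAt_pow_div_pow {p q : R} (hq : Prime q) (hp : Prime p) (h : ¬ Associated q p)
    (m n : ℕ) : UnitAt q ((algebraMap R K p) ^ m / (algebraMap R K p) ^ n) := by
  have hqp : ¬ q ∣ p := fun hd => h (hq.associated_of_dvd hp hd)
  have h1 : ∀ k : ℕ, UnitAt q ((algebraMap R K p) ^ k) := by
    intro k
    rw [← map_pow]
    exact unitAt_algebraMap hq.not_unit (fun hd => hqp (hq.dvd_of_dvd_pow hd))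
  exact (h1 m).div hq (h1 n)

omit [IsDomain R] in
lemma UnitAway.ne_zero {g : R} {c : K} (h : UnitAway g c) : c ≠ 0 := by
  obtain ⟨d, hcd, -, -⟩ := h
  rintro rfl
  rw [zero_mul] at hcd
  exact zero_ne_one hcd

lemma UnitAway.unitAt {p g : R} (hp : Prime p) (hpg : ¬ p ∣ g) {c : K} (h : UnitAway g c) :
    UnitAt p c := by
  obtain ⟨d, hcd, ⟨r, k, hr⟩, ⟨r', l, hr'⟩⟩ := h
  have h1 : r * r' = g ^ (k + l) := by
    apply IsFractionRing.injective R K
    rw [map_mul, map_pow, ← hr, ← hr', pow_add]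
    linear_combination (algebraMap R K g ^ k * algebraMap R K g ^ l) * hcd
  have h2 : ¬ p ∣ r := by
    intro hd
    exact hpg (hp.dvd_of_dvd_pow (h1 ▸ hd.mul_right r'))
  refine ⟨r, g ^ k, h2, fun hd => hpg (hp.dvd_of_dvd_pow hd), ?_⟩
  rw [map_pow, hr]

/-- **(A1)** after multiplying by a power of `p`, a nonzero element becomes a unit at `p`. -/
lemma exists_unitAt_mul_pow [UniqueFactorizationMonoid R] {p : R} (hp : Prime p) {c : K}
    (hc : c ≠ 0) :
    ∃ m n : ℕ, UnitAt p (c * ((algebraMap R K p) ^ m / (algebraMap R K p) ^ n)) := by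
  obtain ⟨a, b, hb, hab⟩ := IsFractionRing.div_surjective (A := R) c
  have hb0 : b ≠ 0 := nonZeroDivisors.ne_zero hb
  have ha0 : a ≠ 0 := by
    rintro rfl
    rw [map_zero, zero_div] at hab
    exact hc hab.symm
  obtain ⟨n₁, a', ha', haa'⟩ := WfDvdMonoid.max_power_factor ha0 hp.irreducible
  obtain ⟨n₂, b', hb', hbb'⟩ := WfDvdMonoid.max_power_factor hb0 hp.irreducible
  have hp0 : algebraMap R K p ≠ 0 := algebraMap_ne_zero hp.ne_zero
  have hb'0 : algebraMap R K b' ≠ 0 := by
    apply algebraMap_ne_zero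
    rintro rfl
    exact hb' (dvd_zero p)
  refine ⟨n₂, n₁, a', b', ha', hb', ?_⟩
  rw [← hab, haa', hbb']
  simp only [map_mul, map_pow]
  field_simp

/-- if every prime factor of `b` divides `g`, then `b` divides a power of `g`. -/
lemma exists_dvd_pow [UniqueFactorizationMonoid R] (g b : R) (hb : b ≠ 0)
    (h : ∀ q, Prime q → q ∣ b → q ∣ g) : ∃ k : ℕ, b ∣ g ^ k := by
  induction b using UniqueFactorizationMonoid.induction_on_prime with
  | h₁ => exact absurd rfl hb
  | h₂ x hx => exact ⟨0, hx.dvd⟩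
  | h₃ a p ha hp ih =>
    obtain ⟨k, hk⟩ := ih ha (fun q hq hqa => h q hq (hqa.mul_left p))
    refine ⟨k + 1, ?_⟩
    rw [pow_succ']
    exact mul_dvd_mul (h p hp (dvd_mul_right p a)) hk

/-- **(A2)** an element which is a unit at all primes not dividing `g` is a unit of `R[1/g]`. -/
lemma unitAway_of_forall_unitAt [UniqueFactorizationMonoid R] {g : R} {c : K}
    (hc : c ≠ 0) (h : ∀ p, Prime p → ¬ p ∣ g → UnitAt p c) : UnitAway g c := by
  obtain ⟨a, b, hrel, hab⟩ := IsFractionRing.exists_reduced_fraction (A := R) c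
  have hb0 : (b : R) ≠ 0 := nonZeroDivisors.ne_zero b.2
  have hψb : algebraMap R K b ≠ 0 := algebraMap_ne_zero hb0
  rw [IsFractionRing.mk'_eq_div] at hab
  have ha0 : a ≠ 0 := by
    rintro rfl
    rw [map_zero, zero_div] at hab
    exact hc hab.symm
  have hψa : algebraMap R K a ≠ 0 := algebraMap_ne_zero ha0
  have key : ∀ q, Prime q → ¬ q ∣ g → ∃ s t : R, ¬ q ∣ s ∧ ¬ q ∣ t ∧ a * t = s * b := by
    intro q hq hqg
    obtain ⟨s, t, hs, ht, hst⟩ := h q hq hqg
    refine ⟨s, t, hs, ht, ?_⟩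
    apply IsFractionRing.injective R K
    rw [map_mul, map_mul, ← hst, ← hab]
    field_simp
  have hbg : ∀ q, Prime q → q ∣ (b : R) → q ∣ g := by
    intro q hq hqb
    by_contra hqg
    obtain ⟨s, t, hs, ht, hst⟩ := key q hq hqg
    have h1 : q ∣ a * t := hst ▸ hqb.mul_left s
    rcases hq.dvd_or_dvd h1 with h2 | h2
    · exact hq.not_unit (hrel h2 hqb)
    · exact ht h2
  have hag : ∀ q, Prime q → q ∣ a → q ∣ g := by
    intro q hq hqa
    by_contra hqg
    obtain ⟨s, t, hs, ht, hst⟩ := key q hq hqg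
    have h1 : q ∣ s * b := hst ▸ hqa.mul_right t
    rcases hq.dvd_or_dvd h1 with h2 | h2
    · exact hs h2
    · exact hq.not_unit (hrel hqa h2)
  obtain ⟨k, b', hk⟩ := exists_dvd_pow g (b : R) hb0 hbg
  obtain ⟨l, a', hl⟩ := exists_dvd_pow g a ha0 hag
  refine ⟨c⁻¹, mul_inv_cancel₀ hc, ⟨a * b', k, ?_⟩, ⟨b * a', l, ?_⟩⟩
  · rw [← map_pow, hk, ← hab, map_mul, map_mul]
    field_simp
  · rw [← map_pow, hl, ← hab, map_mul, map_mul]
    field_simp

/-- adjusting by powers of finitely many pairwise non-associated primes. -/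
theorem exists_adjust [UniqueFactorizationMonoid R] (P : Finset R) (hP : ∀ p ∈ P, Prime p)
    (hPP : ∀ p ∈ P, ∀ q ∈ P, Associated p q → p = q) (d : R → K) (hd : ∀ p ∈ P, d p ≠ 0) :
    ∃ F : K, F ≠ 0 ∧ (∀ p ∈ P, UnitAt p (F * d p)) ∧
      ∀ q, Prime q → (∀ p ∈ P, ¬ Associated q p) → UnitAt q F := by
  classical
  induction P using Finset.induction_on with
  | empty =>
    exact ⟨1, one_ne_zero, fun p hp => absurd hp (Finset.notMem_empty p),
      fun q hq _ => unitAt_one hq.not_unit⟩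
  | insert p P' hpP' ih =>
    obtain ⟨F', hF'0, hF'1, hF'2⟩ := ih (fun q hq => hP q (Finset.mem_insert_of_mem hq))
      (fun q hq q' hq' => hPP q (Finset.mem_insert_of_mem hq) q' (Finset.mem_insert_of_mem hq'))
      (fun q hq => hd q (Finset.mem_insert_of_mem hq))
    have hpp : Prime p := hP p (Finset.mem_insert_self p P')
    obtain ⟨m, n, hmn⟩ := exists_unitAt_mul_pow hpp
      (mul_ne_zero hF'0 (hd p (Finset.mem_insert_self p P')))
    have hp0 : algebraMap R K p ≠ 0 := algebraMap_ne_zero hpp.ne_zero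
    refine ⟨F' * ((algebraMap R K p) ^ m / (algebraMap R K p) ^ n),
      mul_ne_zero hF'0 (div_ne_zero (pow_ne_zero _ hp0) (pow_ne_zero _ hp0)), ?_, ?_⟩
    · intro q hq
      rcases Finset.mem_insert.mp hq with rfl | hq'
      · convert hmn using 1
        ring
      · have hqp : ¬ Associated q p := by
          intro hass
          have := hPP q hq p (Finset.mem_insert_self p P') hass
          exact hpP' (this ▸ hq')
        have h1 := (hF'1 q hq').mul (hP q hq) (unitAt_pow_div_pow (hP q hq) hpp hqp m n)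
        convert h1 using 1
        ring
    · intro q hq hqP
      exact (hF'2 q hq (fun p' hp' => hqP p' (Finset.mem_insert_of_mem hp'))).mul hq
        (unitAt_pow_div_pow hq hpp (hqP p (Finset.mem_insert_self p P')) m n)

/-- **the core**: a unit cocycle on the localisations `R[1/γ i]` of a factorial domain is a
coboundary. -/
theorem exists_coboundary [UniqueFactorizationMonoid R] {ι : Type*} (γ : ι → R)
    (hγ : ∀ i, γ i ≠ 0) (i₀ : ι) (c : ι → K)
    (h1 : ∀ i, UnitAway (γ i₀ * γ i) (c i))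
    (h2 : ∀ i j, UnitAway (γ i * γ j) (c j / c i)) :
    ∃ F : K, F ≠ 0 ∧ ∀ i, UnitAway (γ i) (F / c i) := by
  classical
  letI : StrongNormalizationMonoid R := UniqueFactorizationMonoid.normalizationMonoid
  have hc0 : ∀ i, c i ≠ 0 := fun i => (h1 i).ne_zero
  obtain ⟨P, hPdef⟩ : ∃ P : Finset R,
    P = (UniqueFactorizationMonoid.normalizedFactors (γ i₀)).toFinset := ⟨_, rfl⟩
  have hmem : ∀ p, p ∈ P ↔ p ∈ UniqueFactorizationMonoid.normalizedFactors (γ i₀) := by
    intro p
    rw [hPdef, Multiset.mem_toFinset]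
  have hP : ∀ p ∈ P, Prime p := fun p hp =>
    UniqueFactorizationMonoid.prime_of_normalized_factor p ((hmem p).mp hp)
  have hPP : ∀ p ∈ P, ∀ q ∈ P, Associated p q → p = q := by
    intro p hp q hq hass
    have e1 := UniqueFactorizationMonoid.normalize_normalized_factor p ((hmem p).mp hp)
    have e2 := UniqueFactorizationMonoid.normalize_normalized_factor q ((hmem q).mp hq)
    rw [← e1, ← e2]
    exact normalize_eq_normalize_iff.mpr ⟨hass.dvd, hass.symm.dvd⟩
  -- the function `d`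
  obtain ⟨d, hddef⟩ : ∃ d : R → K, d = fun p =>
    if h : ∃ i, ¬ p ∣ γ i then (c h.choose)⁻¹ else 1 := ⟨_, rfl⟩
  have hd0 : ∀ p ∈ P, d p ≠ 0 := by
    intro p _
    rw [hddef]
    dsimp only
    split_ifs with h
    · exact inv_ne_zero (hc0 _)
    · exact one_ne_zero
  obtain ⟨F, hF0, hF1, hF2⟩ := exists_adjust P hP hPP d hd0
  refine ⟨F, hF0, fun i => ?_⟩
  apply unitAway_of_forall_unitAt (div_ne_zero hF0 (hc0 i))
  intro p hp hpi
  by_cases hp0 : p ∣ γ i₀
  · obtain ⟨q, hq, hpq⟩ := UniqueFactorizationMonoid.exists_mem_normalizedFactors_of_dvd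
      (hγ i₀) hp.irreducible hp0
    have hqP : q ∈ P := (hmem q).mpr hq
    have hqprime := hP q hqP
    have hex : ∃ j, ¬ q ∣ γ j := ⟨i, fun hd => hpi (hpq.dvd_iff_dvd_left.mpr hd)⟩
    have hdq : d q = (c hex.choose)⁻¹ := by
      rw [hddef]
      dsimp only
      rw [dif_pos hex]
    have hj := hex.choose_spec
    obtain ⟨j, hjdef⟩ : ∃ j, j = hex.choose := ⟨_, rfl⟩
    rw [← hjdef] at hdq hj
    have e1 : UnitAt q (F * d q) := hF1 q hqP
    have e2 : UnitAt q (c j / c i) := by
      apply (h2 i j).unitAt hqprime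
      intro hd
      exact (hqprime.dvd_or_dvd hd).elim (fun h => hpi (hpq.dvd_iff_dvd_left.mpr h)) hj
    have e3 : UnitAt q (F / c i) := by
      have := e1.mul hqprime e2
      convert this using 1
      rw [hdq]
      have := hc0 j
      have := hc0 i
      field_simp
    exact e3.congr_associated hpq.symm
  · have e1 : UnitAt p F := by
      apply hF2 p hp
      intro q hq hass
      exact hp0 (hass.dvd.trans
        (UniqueFactorizationMonoid.dvd_of_mem_normalizedFactors ((hmem q).mp hq)))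
    have e2 : UnitAt p (c i) := by
      apply (h1 i).unitAt hp
      intro hd
      exact (hp.dvd_or_dvd hd).elim hp0 hpi
    exact e1.div hp e2

end Groth.Agent.H7.UfdPic
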