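import Mathlib
import Groth.Agent.Lib.Helper7.GorSp

/-!
# Gorenstein morphisms of algebraic spaces: composition and base change (S10687, S10688)
-/

set_option autoImplicit false
universe u

open AlgebraicGeometry CategoryTheory Limits

namespace Groth.Agent.H7.GorSp2

open _root_.AlgSp Groth.Agent.H5.AlgSp Groth.Agent.H5.EtSrc Groth.Agent.H7.FlatLocSp
  Groth.Agent.H7.GorSp

variable {S : Scheme.{u}}

theorem fibNoeth_baseChange {X Y X' Y' : Sp S} {f : X ⟶ Y} {g : Y' ⟶ Y} {g' : X' ⟶ X}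
    {f' : X' ⟶ Y'} (hsq : IsPullback g' f' f g) (hf : FibNoeth f) : FibNoeth f' := by
  intro k Xk a b sq
  refine hf (k.map g) Xk (a ≫ g') b ?_
  rw [FieldPt.toHom_map]
  exact sq.paste_horiz hsq

theorem S10687_main {X Y Z : Sp S} (hX : IsAlgSpace X) (hY : IsAlgSpace Y) (hZ : IsAlgSpace Z)
    (f : X ⟶ Y) (g : Y ⟶ Z) (hf : FibNoeth f) (hg : FibNoeth g) (hfg : FibNoeth (f ≫ g))
    (x : Points X) :
    (LocPAt (fun h u => Dual3.IsGorensteinAt h u) f x →
      LocPAt (fun h u => Dual3.IsGorensteinAt h u) g (Points.map f x) →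
        LocPAt (fun h u => Dual3.IsGorensteinAt h u) (f ≫ g) x) ∧
      (LocPAt (fun h u => Dual3.IsGorensteinAt h u) (f ≫ g) x → IsFlatAtMor f x →
        LocPAt (fun h u => Dual3.IsGorensteinAt h u) f x ∧
          LocPAt (fun h u => Dual3.IsGorensteinAt h u) g (Points.map f x)) := by
  obtain ⟨W, c, hce, hcs⟩ := hZ.atlas
  obtain ⟨V, b, gV, hbe, hbs, comm₁⟩ := exists_chart_diagram_surj hY g hce hcs
  obtain ⟨U, a, h, hae, has, comm₂⟩ := exists_chart_diagram_surj hX f hbe hbs
  obtain ⟨u, rfl⟩ := ofPt_surjective_of_repWith has x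
  have comm₃ : a ≫ f ≫ g = (yon S).map (h ≫ gV) ≫ c := by
    rw [← Category.assoc, comm₂, Category.assoc, comm₁, Functor.map_comp, Category.assoc]
  have hfx : Points.map f (Points.ofPt a u) = Points.ofPt b (h.left u) := by
    rw [Points.map_ofPt, comm₂, ofPt_yon_map_comp]
  rw [hfx, locPAt_gor_iff hf a b h hae hbe comm₂ u,
    locPAt_gor_iff hg b c gV hbe hce comm₁ (h.left u),
    locPAt_gor_iff hfg a c (h ≫ gV) hae hce comm₃ u]
  have key := Groth.Agent.H7.GorFib.S3627_main h.left gV.left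
    (chart_fibre_noeth hf a b h hae hbe comm₂) (chart_fibre_noeth hg b c gV hbe hce comm₁)
    (chart_fibre_noeth hfg a c (h ≫ gV) hae hce comm₃) u
  exact ⟨key.1, fun h1 h2 => key.2 h1 (h2 a b h u hae hbe comm₂ rfl)⟩

theorem S10688_main {X Y X' Y' : Sp S} (hX : IsAlgSpace X) (hY : IsAlgSpace Y)
    (hY' : IsAlgSpace Y') (f : X ⟶ Y) (g : Y' ⟶ Y) (g' : X' ⟶ X)
    (f' : X' ⟶ Y') (hsq : IsPullback g' f' f g) (hf : FibNoeth f)
    (hg : LocP @LocallyOfFiniteType g) (x' : Points X') :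
    (LocPAt (fun h u => Dual3.IsGorensteinAt h u) f (Points.map g' x') →
        LocPAt (fun h u => Dual3.IsGorensteinAt h u) f' x') ∧
      (IsFlatAtMor f (Points.map g' x') →
        LocPAt (fun h u => Dual3.IsGorensteinAt h u) f' x' →
        LocPAt (fun h u => Dual3.IsGorensteinAt h u) f (Points.map g' x')) ∧
      (IsFlatAtMor g (Points.map f' x') →
        LocPAt (fun h u => Dual3.IsGorensteinAt h u) f' x' →
        LocPAt (fun h u => Dual3.IsGorensteinAt h u) f (Points.map g' x')) := by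
  obtain ⟨V, b, hbe, hbs⟩ := hY.atlas
  obtain ⟨V', b', gV, hb'e, hb's, comm_g⟩ := exists_chart_diagram_surj hY' g hbe hbs
  obtain ⟨U, a, h, c, hae, comm_f, hce, hcs, hca, hch⟩ := exists_chart_diagram hX f hbe
  obtain ⟨U', rU, h', hU, hUl⟩ := exists_over_pullback h gV
  obtain ⟨a', c', e1, e2, hc'e, hc's, hc'a, hc'h⟩ :=
    exists_chart_baseChange hsq h c hce hcs hch b' gV comm_g rU h' hU
  have ha'e : RepWith @Etale a' := by
    rw [← hc'a]
    exact (RepWith @Etale).comp_mem _ _ hc'e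
      (MorphismProperty.of_isPullback (P := RepWith @Etale)
        (IsPullback.of_hasPullback f' b').flip hb'e)
  have ha's : RepWith @Surjective a' := by
    rw [← hc'a]
    exact (RepWith @Surjective).comp_mem _ _ hc's
      (MorphismProperty.of_isPullback (P := RepWith @Surjective)
        (IsPullback.of_hasPullback f' b').flip hb's)
  obtain ⟨u', rfl⟩ := ofPt_surjective_of_repWith ha's x'
  have hf' : FibNoeth f' := fibNoeth_baseChange hsq hf
  have e2' : a' ≫ g' = (yon S).map rU ≫ a := by rw [e2, hca]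
  have hgx : Points.map g' (Points.ofPt a' u') = Points.ofPt a (rU.left u') := by
    rw [Points.map_ofPt, e2', ofPt_yon_map_comp]
  have hfx : Points.map f' (Points.ofPt a' u') = Points.ofPt b' (h'.left u') := by
    rw [Points.map_ofPt, e1, ofPt_yon_map_comp]
  rw [hgx, hfx, locPAt_gor_iff hf a b h hae hbe comm_f, locPAt_gor_iff hf' a' b' h' ha'e hb'e e1 u']
  haveI : LocallyOfFiniteType gV.left := hg b' b gV hb'e hbe comm_g
  have key := Groth.Agent.H7.GorBC.S3625_main h.left
    (chart_fibre_noeth hf a b h hae hbe comm_f) h'.left rU.left gV.left hUl u'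
  exact ⟨key.1, fun h1 => key.2.1 (h1 a b h _ hae hbe comm_f rfl),
    fun h1 => key.2.2 (h1 b' b gV _ hb'e hbe comm_g rfl)⟩

end Groth.Agent.H7.GorSp2
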