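import Groth.Agent.Lib.Helper7.TrdegBC2
import Groth.Agent.Lib.Helper7.GorSp2
import Groth.Agent.Lib.Helper1.AlgSpDim
import Groth.Agent.Lib.Helper1.DimFormula
import Groth.Agent.Lib.Helper1.FibDimBC
import Groth.Agent.Lib.Helper1.DimIneqF
import Groth.Agent.Lib.Helper2.IdlN
import Groth.Agent.Lib.Helper5.AlgSp.LocPCalc
import Groth.Agent.Lib.Helper5.AlgSp.Proper
import Mathlib

/-!
# S10335: fibre local ring dimension and residue transcendence degree under base change,
for algebraic spaces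
-/

set_option autoImplicit false
universe u
open CategoryTheory CategoryTheory.Limits AlgebraicGeometry Cardinal

namespace Groth.Agent.H7.TrdegBC

open _root_.AlgSp Groth.Agent.H5.AlgSp Groth.Agent.H5.EtSrc Groth.Agent.H7.FlatLocSp
  Groth.Agent.H1.AlgSpDim

section Scheme

variable {X S X' S' : Scheme.{u}}

/-- the dimension of the local ring of the fibre through `x`. -/
noncomputable abbrev fibStalkDim {U V : Scheme.{u}} (h : U ⟶ V) (u : U) : WithBot ℕ∞ :=
  ringKrullDim ↥((h.fiber (h u)).presheaf.stalk (h.asFiber u))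

theorem fibStalkDim_congr {U V : Scheme.{u}} (h : U ⟶ V) {u u' : U} (e : u = u') :
    fibStalkDim h u = fibStalkDim h u' := by subst e; rfl

theorem resTrdeg_of_iso_comp {A B C : Scheme.{u}} (e : A ⟶ B) [IsIso e] (k : B ⟶ C) (a : A) :
    Dual3.resTrdeg (e ≫ k) a = Dual3.resTrdeg k (e a) := by
  rw [resTrdeg_comp, resTrdeg_eq_zero_of_etale e a, add_zero]

theorem resTrdeg_eq_snd (f : X ⟶ S) (g : S' ⟶ S) (g' : X' ⟶ X) (f' : X' ⟶ S')
    (hsq : IsPullback g' f' f g) (y : X') :
    Dual3.resTrdeg f' y = Dual3.resTrdeg (pullback.snd f g) (hsq.isoPullback.hom y) := by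
  rw [← resTrdeg_of_iso_comp hsq.isoPullback.hom (pullback.snd f g) y]
  exact Groth.Agent.H2.Idl.resTrdeg_congr hsq.isoPullback_hom_snd.symm y

/-- (C) for a general cartesian square. -/
theorem resTrdeg_le_of_isPullback (f : X ⟶ S) (g : S' ⟶ S) (g' : X' ⟶ X) (f' : X' ⟶ S')
    (hsq : IsPullback g' f' f g) (x' : X') :
    Dual3.resTrdeg f' x' ≤ Dual3.resTrdeg f (g' x') := by
  have h1 := resTrdeg_eq_snd f g g' f' hsq x'
  have h2 : pullback.fst f g (hsq.isoPullback.hom x') = g' x' := by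
    rw [← Scheme.Hom.comp_apply, hsq.isoPullback_hom_fst]
  rw [h1, ← Groth.Agent.H2.Idl.resTrdeg_congr_pt f _ _ h2]
  exact resTrdeg_snd_le f g _

/-- (D) for a general cartesian square. -/
theorem exists_resTrdeg_ge_of_isPullback (f : X ⟶ S) (g : S' ⟶ S) (g' : X' ⟶ X) (f' : X' ⟶ S')
    (hsq : IsPullback g' f' f g) (x : X) (s' : S') (h : f x = g s') :
    ∃ x' : X', g' x' = x ∧ f' x' = s' ∧ Dual3.resTrdeg f x ≤ Dual3.resTrdeg f' x' := by
  obtain ⟨t, ht1, ht2, hle⟩ := exists_resTrdeg_ge f g x s' h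
  refine ⟨hsq.isoPullback.inv t, ?_, ?_, ?_⟩
  · rw [← Scheme.Hom.comp_apply, hsq.isoPullback_inv_fst]; exact ht1
  · rw [← Scheme.Hom.comp_apply, hsq.isoPullback_inv_snd]; exact ht2
  · have h1 := resTrdeg_eq_snd f g g' f' hsq (hsq.isoPullback.inv t)
    have h2 : hsq.isoPullback.hom (hsq.isoPullback.inv t) = t := by
      have h3 : (hsq.isoPullback.inv ≫ hsq.isoPullback.hom) t = (𝟙 (pullback f g) : _ ⟶ _) t := by
        rw [Iso.inv_hom_id]
      simpa using h3
    rw [h1, Groth.Agent.H2.Idl.resTrdeg_congr_pt _ _ _ h2]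
    exact hle

theorem withBot_le_of_add_natCast_le {a b : WithBot ℕ∞} {t : ℕ}
    (h : a + (t : WithBot ℕ∞) ≤ b + (t : WithBot ℕ∞)) : a ≤ b := by
  induction a with
  | bot => exact bot_le
  | coe a =>
    induction b with
    | bot =>
      exfalso
      rw [WithBot.bot_add] at h
      have : ((a + (t : ℕ∞) : ℕ∞) : WithBot ℕ∞) ≤ ⊥ := by exact_mod_cast h
      simp at this
    | coe b =>
      have h' : ((a + (t : ℕ∞) : ℕ∞) : WithBot ℕ∞) ≤ ((b + (t : ℕ∞) : ℕ∞) : WithBot ℕ∞) := by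
        exact_mod_cast h
      rw [WithBot.coe_le_coe] at h'
      rw [WithBot.coe_le_coe]
      exact (ENat.add_le_add_iff_right (ENat.natCast_ne_top t)).mp h'

/-- the numerical data at a point of a cartesian square. -/
theorem exists_nat_data (f : X ⟶ S) [LocallyOfFiniteType f] (g : S' ⟶ S) (g' : X' ⟶ X)
    (f' : X' ⟶ S') (hsq : IsPullback g' f' f g) (x' : X') :
    ∃ t t' : ℕ, Dual3.resTrdeg f (g' x') = (t : Cardinal.{u}) ∧
      Dual3.resTrdeg f' x' = (t' : Cardinal.{u}) ∧ t' ≤ t ∧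
      fibStalkDim f' x' + (t' : WithBot ℕ∞) = fibStalkDim f (g' x') + (t : WithBot ℕ∞) := by
  haveI : LocallyOfFiniteType f' := MorphismProperty.of_isPullback hsq inferInstance
  obtain ⟨t, ht, hfd⟩ := Groth.Agent.H1.DimFormula.exists_fibreDimAt_eq_stalk_add_trdeg f (g' x')
  obtain ⟨t', ht', hfd'⟩ := Groth.Agent.H1.DimFormula.exists_fibreDimAt_eq_stalk_add_trdeg f' x'
  have hbc := Groth.Agent.H1.FibDimBC.fibreDimAt_eq_of_isPullback f g g' f' hsq x'
  have hle := resTrdeg_le_of_isPullback f g g' f' hsq x'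
  have ht1 : Dual3.resTrdeg f (g' x') = (t : Cardinal.{u}) := ht
  have ht1' : Dual3.resTrdeg f' x' = (t' : Cardinal.{u}) := ht'
  rw [ht1, ht1'] at hle
  refine ⟨t, t', ht1, ht1', by exact_mod_cast hle, ?_⟩
  rw [← hfd, ← hfd', hbc]

/-- **Scheme-level statement, first half.** -/
theorem scheme_main1 (f : X ⟶ S) [LocallyOfFiniteType f] (g : S' ⟶ S) (g' : X' ⟶ X)
    (f' : X' ⟶ S') (hsq : IsPullback g' f' f g) (x' : X') :
    fibStalkDim f' x' + ((Cardinal.toENat (Dual3.resTrdeg f' x') : ℕ∞) : WithBot ℕ∞) =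
        fibStalkDim f (g' x') + ((Cardinal.toENat (Dual3.resTrdeg f (g' x')) : ℕ∞) : WithBot ℕ∞) ∧
      fibStalkDim f (g' x') ≤ fibStalkDim f' x' := by
  obtain ⟨t, t', ht, ht', hle, heq⟩ := exists_nat_data f g g' f' hsq x'
  rw [ht, ht']
  simp only [map_natCast]
  refine ⟨heq, ?_⟩
  have h1 : fibStalkDim f (g' x') + (t : WithBot ℕ∞) ≤ fibStalkDim f' x' + (t : WithBot ℕ∞) := by
    rw [← heq]
    have : (t' : WithBot ℕ∞) ≤ (t : WithBot ℕ∞) := by exact_mod_cast hle
    exact add_le_add_right this _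
  exact withBot_le_of_add_natCast_le h1

/-- **Scheme-level statement, second half.** -/
theorem scheme_main2 (f : X ⟶ S) [LocallyOfFiniteType f] (g : S' ⟶ S) (g' : X' ⟶ X)
    (f' : X' ⟶ S') (hsq : IsPullback g' f' f g) (x : X) (s' : S') (h : f x = g s') :
    ∃ x' : X', g' x' = x ∧ f' x' = s' ∧ fibStalkDim f' x' = fibStalkDim f x := by
  obtain ⟨x', hx1, hx2, hge⟩ := exists_resTrdeg_ge_of_isPullback f g g' f' hsq x s' h
  refine ⟨x', hx1, hx2, ?_⟩
  obtain ⟨t, t', ht, ht', hle, heq⟩ := exists_nat_data f g g' f' hsq x'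
  rw [← Groth.Agent.H2.Idl.resTrdeg_congr_pt f _ _ hx1, ht, ht'] at hge
  have hge' : t ≤ t' := by exact_mod_cast hge
  have htt : t' = t := le_antisymm hle hge'
  rw [htt] at heq
  rw [← fibStalkDim_congr f hx1]
  exact withBot_add_natCast_cancel heq

end Scheme

section Sp

variable {S : Scheme.{u}}

theorem S10335_main {X Y Y' X' : Sp S} (hX : IsAlgSpace X) (hY : IsAlgSpace Y)
    (hY' : IsAlgSpace Y') (f : X ⟶ Y) (g : Y' ⟶ Y) (g' : X' ⟶ X) (f' : X' ⟶ Y')
    (sq : IsPullback g' f' f g) (hf : LocP @LocallyOfFiniteType f) :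
    (∀ (x' : Points X') (e e' : WithBot ℕ∞) (r r' : Cardinal.{u}),
      HasAtMor (fun _ _ h u => ringKrullDim ↥((h.fiber (h u)).presheaf.stalk (h.asFiber u)) = e) f
          (Points.map g' x') →
      HasAtMor (fun _ _ h u => Dual3.resTrdeg h u = r) f (Points.map g' x') →
      HasAtMor (fun _ _ h u => ringKrullDim ↥((h.fiber (h u)).presheaf.stalk (h.asFiber u)) = e') f' x' →
      HasAtMor (fun _ _ h u => Dual3.resTrdeg h u = r') f' x' →
        e' + ((Cardinal.toENat r' : ℕ∞) : WithBot ℕ∞) = e + ((Cardinal.toENat r : ℕ∞) : WithBot ℕ∞) ∧ e ≤ e') ∧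
    (∀ (x : Points X) (y' : Points Y') (e : WithBot ℕ∞),
      Points.map f x = Points.map g y' →
      HasAtMor (fun _ _ h u => ringKrullDim ↥((h.fiber (h u)).presheaf.stalk (h.asFiber u)) = e) f x →
        ∃ x' : Points X', Points.map g' x' = x ∧ Points.map f' x' = y' ∧
          HasAtMor (fun _ _ h u => ringKrullDim ↥((h.fiber (h u)).presheaf.stalk (h.asFiber u)) = e)
            f' x') := by
  obtain ⟨V, b, hbe, hbs⟩ := hY.atlas
  obtain ⟨V', b', gV, hb'e, hb's, comm_g⟩ := exists_chart_diagram_surj hY' g hbe hbs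
  obtain ⟨U, a, h, c, hae, comm_f, hce, hcs, hca, hch⟩ := exists_chart_diagram hX f hbe
  obtain ⟨U', rU, h', hU, hUl⟩ := exists_over_pullback h gV
  obtain ⟨a', c', e1, e2, hc'e, hc's, hc'a, hc'h⟩ :=
    exists_chart_baseChange sq h c hce hcs hch b' gV comm_g rU h' hU
  have ha'e : RepWith @Etale a' := by
    rw [← hc'a]
    exact (RepWith @Etale).comp_mem _ _ hc'e
      (MorphismProperty.of_isPullback (P := RepWith @Etale)
        (IsPullback.of_hasPullback f' b').flip hb'e)
  have ha's : RepWith @Surjective a' := by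
    rw [← hc'a]
    exact (RepWith @Surjective).comp_mem _ _ hc's
      (MorphismProperty.of_isPullback (P := RepWith @Surjective)
        (IsPullback.of_hasPullback f' b').flip hb's)
  have hf' : LocP @LocallyOfFiniteType f' :=
    locP_of_isPullback Groth.Agent.H5.AlgSp.etale_le_lft sq hX hY hY' hf
  haveI : LocallyOfFiniteType h.left := hf a b h hae hbe comm_f
  have e2' : a' ≫ g' = (yon S).map rU ≫ a := by rw [e2, hca]
  have hgx : ∀ u' : U'.left, Points.map g' (Points.ofPt a' u') = Points.ofPt a (rU.left u') := by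
    intro u'
    rw [Points.map_ofPt, e2', ofPt_yon_map_comp]
  have hfx : ∀ u' : U'.left, Points.map f' (Points.ofPt a' u') = Points.ofPt b' (h'.left u') := by
    intro u'
    rw [Points.map_ofPt, e1, ofPt_yon_map_comp]
  refine ⟨?_, ?_⟩
  · intro x' e e' r r' H1 H2 H3 H4
    obtain ⟨u', rfl⟩ := ofPt_surjective_of_repWith ha's x'
    rw [hgx] at H1 H2
    have k1 := hasAtMor_chart (etLocal_dim_fiber_stalk_eq e) hf a b h hae hbe comm_f (rU.left u') H1
    have k2 := hasAtMor_chart (etLocal_resTrdeg_eq r) hf a b h hae hbe comm_f (rU.left u') H2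
    have k3 := hasAtMor_chart (etLocal_dim_fiber_stalk_eq e') hf' a' b' h' ha'e hb'e e1 u' H3
    have k4 := hasAtMor_chart (etLocal_resTrdeg_eq r') hf' a' b' h' ha'e hb'e e1 u' H4
    have key := scheme_main1 h.left gV.left rU.left h'.left hUl u'
    rw [← k1, ← k2, ← k3, ← k4]
    exact key
  · intro x y' e hxy H
    obtain ⟨v', rfl⟩ := ofPt_surjective_of_repWith hb's y'
    have hgy : Points.map g (Points.ofPt b' v') = Points.ofPt b (gV.left v') := by
      rw [Points.map_ofPt, comm_g, ofPt_yon_map_comp]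
    obtain ⟨z, hz1, hz2⟩ := points_pullback_surjective (IsPullback.of_hasPullback f b) x
      (Points.schemeHomeo V (gV.left v'))
      (by rw [hxy, hgy]; exact Points.ofPt_eq_map_ofScheme b (gV.left v'))
    obtain ⟨u, rfl⟩ := ofPt_surjective_of_repWith hcs z
    rw [Points.map_ofPt, hca] at hz1
    rw [Points.map_ofPt, hch] at hz2
    have hhu : h.left u = gV.left v' := by
      have h1 : Points.ofPt ((yon S).map h) u = Points.schemeHomeo V (h.left u) := by
        have := ofPt_yon_map_comp h (𝟙 _) u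
        rw [Category.comp_id] at this
        rw [this]
        rfl
      rw [h1] at hz2
      exact (Points.schemeHomeo V).injective hz2
    subst hz1
    have k1 := hasAtMor_chart (etLocal_dim_fiber_stalk_eq e) hf a b h hae hbe comm_f u H
    obtain ⟨u', hu1, hu2, hdim⟩ := scheme_main2 h.left gV.left rU.left h'.left hUl u v' hhu
    refine ⟨Points.ofPt a' u', ?_, ?_, ?_⟩
    · rw [hgx, hu1]
    · rw [hfx, hu2]
    · exact ⟨U', V', a', b', h', u', ha'e, hb'e, e1, rfl, hdim.trans k1⟩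

end Sp

end Groth.Agent.H7.TrdegBC
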