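import Mathlib
open CategoryTheory Limits AlgebraicGeometry
universe u

namespace Groth.Agent.H7.QcqsDescent

theorem main {X Y Z : Scheme.{u}} (f : X ⟶ Y) (g : Y ⟶ Z)
    [Surjective f] [QuasiCompact f]
    [QuasiCompact (f ≫ g)] [QuasiSeparated (f ≫ g)] :
    QuasiCompact g ∧ QuasiSeparated g := by
  have hsurj : Function.Surjective f := Surjective.surj
  -- general principle
  have key : ∀ {W : Scheme.{u}} (q : Y ⟶ W), QuasiCompact (f ≫ q) → QuasiCompact q := by
    intro W q hq
    refine ⟨fun U hU hUc => ?_⟩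
    have h1 : IsCompact ((f ≫ q) ⁻¹' U) := hq.isCompact_preimage U hU hUc
    have h2 : q ⁻¹' U = f '' ((f ≫ q) ⁻¹' U) := by
      ext y
      constructor
      · intro hy
        obtain ⟨x, rfl⟩ := hsurj y
        exact ⟨x, by simpa using hy, rfl⟩
      · rintro ⟨x, hx, rfl⟩
        simpa using hx
    rw [h2]
    exact h1.image f.continuous
  refine ⟨key g inferInstance, ⟨key (pullback.diagonal g) ?_⟩⟩
  -- f ≫ Δ_g = Δ_{f≫g} ≫ (f × f)
  have hF : QuasiCompact (pullback.map (f ≫ g) (f ≫ g) g g f f (𝟙 Z) (by simp) (by simp)) :=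
    MorphismProperty.pullbackMap (P := @QuasiCompact) inferInstance inferInstance rfl rfl
  have hcomp : f ≫ pullback.diagonal g =
      pullback.diagonal (f ≫ g) ≫ pullback.map (f ≫ g) (f ≫ g) g g f f (𝟙 Z) (by simp) (by simp) := by
    apply pullback.hom_ext
    · simp only [Category.assoc, pullback.diagonal_fst, Category.comp_id]
      rw [pullback.lift_fst, ← Category.assoc, pullback.diagonal_fst, Category.id_comp]
    · simp only [Category.assoc, pullback.diagonal_snd, Category.comp_id]
      rw [pullback.lift_snd, ← Category.assoc, pullback.diagonal_snd, Category.id_comp]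
  rw [hcomp]
  infer_instance

end Groth.Agent.H7.QcqsDescent
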