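import Groth.Agent.Lib.Helper7.RelCartC
import Groth.Agent.Lib.Lead.QC.RelCartier
import Mathlib

/-!
# Containment of relative effective Cartier divisors can be checked on fibres (S17814)
-/

set_option autoImplicit false
universe u

open CategoryTheory Limits AlgebraicGeometry TensorProduct

namespace Groth.Agent.H7.RelCart

/-- a flat module over a reduced Noetherian ring injects into the product of its "fibres" at the
minimal primes: an element vanishing in `M ⊗ K_P` for algebras `K_P` with `ker (R → K_P) = P`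
(`P` minimal) vanishes. -/
theorem eq_zero_of_tmul_eq_zero_of_flat {R : Type u} [CommRing R] [IsNoetherianRing R]
    [IsReduced R] {M : Type*} [AddCommGroup M] [Module R M] [Module.Flat R M] (x : M)
    (h : ∀ P ∈ minimalPrimes R, ∃ (K : Type u) (_ : CommRing K) (_ : Algebra R K),
      RingHom.ker (algebraMap R K) = P ∧ x ⊗ₜ[R] (1 : K) = 0) : x = 0 := by
  classical
  have hfin : (minimalPrimes R).Finite := minimalPrimes.finite_of_isNoetherianRing R
  haveI : Fintype (minimalPrimes R) := hfin.fintype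
  choose K hK1 hK2 hker hx using h
  let Kf : minimalPrimes R → Type u := fun P => K P.1 P.2
  letI : ∀ P : minimalPrimes R, CommRing (Kf P) := fun P => hK1 P.1 P.2
  letI : ∀ P : minimalPrimes R, Algebra R (Kf P) := fun P => hK2 P.1 P.2
  let ψ : R →ₗ[R] (∀ P : minimalPrimes R, Kf P) :=
    LinearMap.pi (fun P => Algebra.linearMap R (Kf P))
  have hψ : Function.Injective ψ := by
    rw [injective_iff_map_eq_zero]
    intro r hr
    have h1 : ∀ P ∈ minimalPrimes R, r ∈ P := by
      intro P hP
      have : algebraMap R (Kf ⟨P, hP⟩) r = 0 := congr_fun hr ⟨P, hP⟩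
      rw [← hker P hP]
      exact this
    have h2 : r ∈ sInf (minimalPrimes R) := by
      rw [Submodule.mem_sInf]; exact h1
    have h3 : sInf (minimalPrimes R) = (⊥ : Ideal R).radical := Ideal.sInf_minimalPrimes
    rw [h3] at h2
    have h4 : (⊥ : Ideal R).radical = ⊥ := by
      have := nilradical_eq_zero R
      exact this
    rw [h4] at h2
    exact h2
  have hinj : Function.Injective (ψ.lTensor M) :=
    Module.Flat.lTensor_preserves_injective_linearMap ψ hψ
  have h0 : (x ⊗ₜ[R] (1 : R) : M ⊗[R] R) = 0 := by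
    apply hinj
    rw [map_zero, LinearMap.lTensor_tmul]
    apply (TensorProduct.piRight R R M Kf).injective
    rw [map_zero, TensorProduct.piRight_apply, TensorProduct.piRightHom_tmul]
    funext P
    have h5 : ψ 1 P = (1 : Kf P) := map_one (algebraMap R (Kf P))
    rw [h5]
    exact hx P.1 P.2
  have := congrArg (TensorProduct.rid R M) h0
  rw [TensorProduct.rid_tmul, one_smul, map_zero] at this
  exact this

/-- ring-level form of S17814: if `B/(a')` is flat over the reduced Noetherian ring `R` and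
`a ∈ (a')` on all "fibres" at the minimal primes, then `a ∈ (a')`. -/
theorem mem_span_of_forall_fibre {R : Type u} [CommRing R] [IsNoetherianRing R] [IsReduced R]
    {B : Type u} [CommRing B] [Algebra R B] (a a' : B) [Module.Flat R (B ⧸ Ideal.span {a'})]
    (h : ∀ P ∈ minimalPrimes R, ∃ (K : Type u) (_ : CommRing K) (_ : Algebra R K),
      RingHom.ker (algebraMap R K) = P ∧
        (a ⊗ₜ[R] (1 : K) : B ⊗[R] K) ∈ Ideal.span {(a' ⊗ₜ[R] (1 : K) : B ⊗[R] K)}) :
    a ∈ Ideal.span {a'} := by
  rw [← Ideal.Quotient.eq_zero_iff_mem]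
  refine eq_zero_of_tmul_eq_zero_of_flat (R := R) (M := B ⧸ Ideal.span {a'}) _ ?_
  intro P hP
  obtain ⟨K, i1, i2, hker, hmem⟩ := h P hP
  refine ⟨K, i1, i2, hker, ?_⟩
  obtain ⟨c, hc⟩ := Ideal.mem_span_singleton'.mp hmem
  let θ : B ⊗[R] K →ₐ[R] (B ⧸ Ideal.span {a'}) ⊗[R] K :=
    Algebra.TensorProduct.map (Ideal.Quotient.mkₐ R (Ideal.span {a'})) (AlgHom.id R K)
  have h1 : θ (a ⊗ₜ[R] (1 : K)) = (Ideal.Quotient.mk (Ideal.span {a'}) a) ⊗ₜ[R] (1 : K) := by
    simp [θ]
  have h2 : θ (a' ⊗ₜ[R] (1 : K)) = 0 := by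
    have : Ideal.Quotient.mk (Ideal.span {a'}) a' = 0 :=
      Ideal.Quotient.eq_zero_iff_mem.mpr (Ideal.mem_span_singleton_self a')
    simp [θ, this]
  rw [← h1, ← hc, map_mul, h2, mul_zero]

section Scheme

variable {𝒞 T : Scheme.{u}}

/-- the kernel of evaluation at a point `t` of an affine open `W`, in the form of the map on
sections induced by `Spec κ(t) ⟶ T`. -/
theorem ker_appLE_fromSpecResidueField {W : T.Opens} (hW : IsAffineOpen W) (t : T) (ht : t ∈ W)
    (e : (⊤ : (Spec (T.residueField t)).Opens) ≤ (T.fromSpecResidueField t) ⁻¹ᵁ W) :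
    RingHom.ker ((T.fromSpecResidueField t).appLE W ⊤ e).hom =
      (hW.primeIdealOf ⟨t, ht⟩).asIdeal := by
  have hx : (IsLocalRing.closedPoint (T.residueField t) : Spec (T.residueField t)) ∈
      (⊤ : (Spec (T.residueField t)).Opens) := trivial
  have h1 := IsAffineOpen.comap_primeIdealOf_appLE (f := T.fromSpecResidueField t)
    (x := IsLocalRing.closedPoint (T.residueField t)) W hW ⊤ (isAffineOpen_top _) e hx
  have h2 : (hW.primeIdealOf ⟨(T.fromSpecResidueField t) (IsLocalRing.closedPoint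
      (T.residueField t)), e hx⟩) = hW.primeIdealOf ⟨t, ht⟩ := by
    congr 1
    exact Subtype.ext (T.fromSpecResidueField_apply t _)
  rw [h2] at h1
  rw [← h1]
  change _ = Ideal.comap _ _
  rw [RingHom.ker_eq_comap_bot]
  congr 1
  -- a prime ideal of (a ring isomorphic to) a field is zero
  symm
  have hF : IsField Γ(Spec (T.residueField t), ⊤) :=
    (Scheme.ΓSpecIso (T.residueField t)).commRingCatIsoToRingEquiv.toMulEquiv.isField
      (Field.toIsField (T.residueField t))
  letI := hF.toField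
  have hp : ((isAffineOpen_top (Spec (T.residueField t))).primeIdealOf
      ⟨IsLocalRing.closedPoint (T.residueField t), hx⟩).asIdeal ≠ ⊤ :=
    ((isAffineOpen_top (Spec (T.residueField t))).primeIdealOf
      ⟨IsLocalRing.closedPoint (T.residueField t), hx⟩).isPrime.ne_top
  exact (Ideal.eq_bot_or_top _).resolve_right hp

open Groth.Agent.LD.QC in
set_option maxHeartbeats 1600000 in
/-- chart-level form: on an affine open `U` over an affine open `W` of the reduced locally
Noetherian base, where `D'` is principal (and `V(D')` is flat over the base), the containment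
`D ≤ D'` follows from the containments on the fibres. -/
theorem ideal_le_of_forall_fibre (π : 𝒞 ⟶ T) [IsLocallyNoetherian T]
    [AlgebraicGeometry.IsReduced T] (D D' : 𝒞.IdealSheafData) [Flat (D'.subschemeι ≫ π)]
    (hfib : ∀ t : ↥T, D.comap (pullback.fst π (T.fromSpecResidueField t)) ≤
      D'.comap (pullback.fst π (T.fromSpecResidueField t)))
    (W : T.affineOpens) (U : 𝒞.affineOpens) (e : U.1 ≤ π ⁻¹ᵁ W.1) (a' : Γ(𝒞, U.1))
    (hI' : D'.ideal U = Ideal.span {a'}) : D.ideal U ≤ D'.ideal U := by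
  intro b hb
  rw [hI']
  letI aRB : Algebra Γ(T, W.1) Γ(𝒞, U.1) := (π.appLE W.1 U.1 e).hom.toAlgebra
  haveI : IsNoetherianRing Γ(T, W.1) := IsLocallyNoetherian.component_noetherian W
  haveI : _root_.IsReduced Γ(T, W.1) := inferInstance
  haveI hflat : Module.Flat Γ(T, W.1) (Γ(𝒞, U.1) ⧸ Ideal.span {a'}) := by
    have hq := flat_quotient_of_flat_subscheme_comp π D' W U e
    rw [ringHom_flat_mk_comp_iff, hI'] at hq
    exact hq
  refine mem_span_of_forall_fibre (R := Γ(T, W.1)) (B := Γ(𝒞, U.1)) b a' ?_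
  intro P hP
  haveI hPp : P.IsPrime := hP.1.1
  -- the point of `W` with prime `P`
  have hW : IsAffineOpen W.1 := W.2
  obtain ⟨t, ht_def⟩ : ∃ t : T, t = hW.fromSpec ⟨P, hPp⟩ := ⟨_, rfl⟩
  have htW : t ∈ W.1 := by
    have h0 : t ∈ Set.range hW.fromSpec := ⟨_, ht_def.symm⟩
    rw [hW.range_fromSpec] at h0
    exact h0
  have hprime : hW.primeIdealOf ⟨t, htW⟩ = ⟨P, hPp⟩ := by
    have h1 := hW.fromSpec_primeIdealOf ⟨t, htW⟩
    have hinj : Function.Injective hW.fromSpec := hW.fromSpec.isOpenEmbedding.injective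
    exact hinj (h1.trans ht_def)
  have eW' : (⊤ : (Spec (T.residueField t)).Opens) ≤ (T.fromSpecResidueField t) ⁻¹ᵁ W.1 := by
    intro z _
    change (T.fromSpecResidueField t) z ∈ W.1
    rw [T.fromSpecResidueField_apply t z]
    exact htW
  letI aRK : Algebra Γ(T, W.1) Γ(Spec (T.residueField t), ⊤) :=
    ((T.fromSpecResidueField t).appLE W.1 ⊤ eW').hom.toAlgebra
  refine ⟨Γ(Spec (T.residueField t), ⊤), inferInstance, aRK, ?_, ?_⟩
  · have := ker_appLE_fromSpecResidueField hW t htW eW'
    rw [hprime] at this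
    exact this
  · -- the affine chart of the fibre
    have hc : IsPullback (pullback.fst π (T.fromSpecResidueField t))
        (pullback.snd π (T.fromSpecResidueField t)) π (T.fromSpecResidueField t) :=
      IsPullback.of_hasPullback _ _
    obtain ⟨UY, hUYdef⟩ : ∃ UY : (pullback π (T.fromSpecResidueField t)).Opens,
        UY = (pullback.fst π (T.fromSpecResidueField t)) ⁻¹ᵁ U.1 ⊓
          (pullback.snd π (T.fromSpecResidueField t)) ⁻¹ᵁ ⊤ := ⟨_, rfl⟩
    have e1 : UY ≤ (pullback.fst π (T.fromSpecResidueField t)) ⁻¹ᵁ U.1 := by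
      rw [hUYdef]; exact inf_le_left
    have e2 : UY ≤ (pullback.snd π (T.fromSpecResidueField t)) ⁻¹ᵁ ⊤ := by
      rw [hUYdef]; exact inf_le_right
    have hUY : IsAffineOpen UY := by
      haveI : IsAffine (W.1 : Scheme.{u}) := W.2
      haveI : IsAffine ((⊤ : (Spec (T.residueField t)).Opens) : Scheme.{u}) :=
        isAffineOpen_top _
      haveI : IsAffine (U.1 : Scheme.{u}) := U.2
      exact .of_isIso (Scheme.Hom.isPullback_resLE hc eW' e hUYdef).isoPullback.hom
    have hpo := (isIso_pushoutSection_iff hc eW' e hUYdef).mp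
      (isIso_pushoutSection_of_isAffineOpen hc eW' e hUYdef W.2 (isAffineOpen_top _) U.2)
    letI aBB' : Algebra Γ(𝒞, U.1) Γ(pullback π (T.fromSpecResidueField t), UY) :=
      ((pullback.fst π (T.fromSpecResidueField t)).appLE U.1 UY e1).hom.toAlgebra
    letI aKB' : Algebra Γ(Spec (T.residueField t), ⊤)
        Γ(pullback π (T.fromSpecResidueField t), UY) :=
      ((pullback.snd π (T.fromSpecResidueField t)).appLE ⊤ UY e2).hom.toAlgebra
    letI aRB' : Algebra Γ(T, W.1) Γ(pullback π (T.fromSpecResidueField t), UY) :=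
      (((pullback.fst π (T.fromSpecResidueField t)).appLE U.1 UY e1).hom.comp
        (π.appLE W.1 U.1 e).hom).toAlgebra
    haveI t1 : IsScalarTower Γ(T, W.1) Γ(𝒞, U.1) Γ(pullback π (T.fromSpecResidueField t), UY) :=
      IsScalarTower.of_algebraMap_eq fun _ => rfl
    haveI t2 : IsScalarTower Γ(T, W.1) Γ(Spec (T.residueField t), ⊤)
        Γ(pullback π (T.fromSpecResidueField t), UY) :=
      IsScalarTower.of_algebraMap_eq fun r => by
        have := congr($(hpo.w) r)
        exact this
    haveI hPO : Algebra.IsPushout Γ(T, W.1) Γ(𝒞, U.1) Γ(Spec (T.residueField t), ⊤)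
        Γ(pullback π (T.fromSpecResidueField t), UY) :=
      CommRingCat.isPushout_iff_isPushout.mp hpo
    let ε := Algebra.IsPushout.equiv Γ(T, W.1) Γ(𝒞, U.1) Γ(Spec (T.residueField t), ⊤)
      Γ(pullback π (T.fromSpecResidueField t), UY)
    have hε : ∀ c : Γ(𝒞, U.1), ε (c ⊗ₜ 1) =
        ((pullback.fst π (T.fromSpecResidueField t)).appLE U.1 UY e1).hom c := by
      intro c
      rw [Algebra.IsPushout.equiv_tmul, map_one, mul_one]
      rfl
    -- the containment on the fibre
    have h1 : ((pullback.fst π (T.fromSpecResidueField t)).appLE U.1 UY e1).hom b ∈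
        (D.comap (pullback.fst π (T.fromSpecResidueField t))).ideal ⟨UY, hUY⟩ := by
      rw [ideal_comap_of_le D _ U ⟨UY, hUY⟩ e1]
      exact Ideal.mem_map_of_mem _ hb
    have h2 := hfib t ⟨UY, hUY⟩ h1
    rw [ideal_comap_of_le D' _ U ⟨UY, hUY⟩ e1, hI', Ideal.map_span, Set.image_singleton] at h2
    obtain ⟨c, hc'⟩ := Ideal.mem_span_singleton'.mp h2
    rw [Ideal.mem_span_singleton']
    refine ⟨ε.symm c, ?_⟩
    apply ε.injective
    rw [map_mul, ε.apply_symm_apply, hε, hε]
    exact hc'

open Groth.Agent.LD.QC in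
/-- **S17814** (in greater generality: no properness or smoothness, `D` arbitrary): over a reduced
locally Noetherian base, `D ≤ D'` can be checked on the fibres when `D'` is a relative effective
Cartier divisor. -/
theorem S17814_main (π : 𝒞 ⟶ T) [IsLocallyNoetherian T]
    [AlgebraicGeometry.IsReduced T] (D D' : 𝒞.IdealSheafData)
    (hD' : BlowUp.IsEffCartierIdeal D') [Flat (D'.subschemeι ≫ π)]
    (hfib : ∀ t : ↥T, D.comap (pullback.fst π (T.fromSpecResidueField t)) ≤
      D'.comap (pullback.fst π (T.fromSpecResidueField t))) : D ≤ D' := by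
  intro U₀
  rw [U₀.2.ideal_le_iff]
  intro x hx
  obtain ⟨W, hW, hxW, -⟩ := exists_isAffineOpen_mem_and_subset (x := π x) (U := ⊤) trivial
  obtain ⟨U, hxU, hUle, a', -, hI'⟩ :=
    exists_affine_principal_le D' hD' x (U₀.1 ⊓ π ⁻¹ᵁ W) ⟨hx, hxW⟩
  have hU₀ : U.1 ≤ U₀.1 := hUle.trans inf_le_left
  have e : U.1 ≤ π ⁻¹ᵁ W := hUle.trans inf_le_right
  have key := ideal_le_of_forall_fibre π D D' hfib ⟨W, hW⟩ U e a' hI'
  have hgerm : ∀ 𝓙 : 𝒞.IdealSheafData,
      (𝓙.ideal U₀).map (𝒞.presheaf.germ U₀.1 x hx).hom =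
        (𝓙.ideal U).map (𝒞.presheaf.germ U.1 x hxU).hom := by
    intro 𝓙
    rw [← 𝓙.map_ideal (U := U) (V := U₀) hU₀, Ideal.map_map]
    congr 1
    ext s
    exact (TopCat.Presheaf.germ_res_apply 𝒞.presheaf (homOfLE hU₀) x hxU s).symm
  rw [hgerm D, hgerm D']
  exact Ideal.map_mono key

end Scheme

end Groth.Agent.H7.RelCart
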