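import Mathlib

set_option autoImplicit false

namespace Groth.Agent.H7.Desc
universe u v w x
open scoped TensorProduct

/-- A semilinear action of `Gal(K/k)` on a `K`-vector space `V`. -/
structure SemiAct (k : Type u) (K : Type v) [Field k] [Field K] [Algebra k K]
    (V : Type w) [AddCommGroup V] [Module K V] where
  ρ : (K ≃ₐ[k] K) → V →+ V
  smul' : ∀ (σ : K ≃ₐ[k] K) (c : K) (x : V), ρ σ (c • x) = σ c • ρ σ x
  one' : ∀ x : V, ρ 1 x = x
  mul' : ∀ (σ τ : K ≃ₐ[k] K) (x : V), ρ (σ * τ) x = ρ σ (ρ τ x)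

namespace SemiAct

variable {k : Type u} {K : Type v} [Field k] [Field K] [Algebra k K]
  {V : Type w} [AddCommGroup V] [Module K V] [Module k V] [IsScalarTower k K V]

/-- fixed vectors, a `k`-submodule -/
def fixed (S : SemiAct k K V) : Submodule k V where
  carrier := {x | ∀ σ, S.ρ σ x = x}
  zero_mem' σ := map_zero _
  add_mem' hx hy σ := by rw [map_add, hx σ, hy σ]
  smul_mem' r x hx σ := by
    rw [← algebraMap_smul K r x, S.smul', hx σ, AlgEquiv.commutes]

theorem mem_fixed (S : SemiAct k K V) (x : V) : x ∈ S.fixed ↔ ∀ σ, S.ρ σ x = x := Iff.rfl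

theorem sum_mem_fixed [FiniteDimensional k K] (S : SemiAct k K V) (x : V) :
    ∑ σ : K ≃ₐ[k] K, S.ρ σ x ∈ S.fixed := by
  intro τ
  rw [map_sum]
  simp_rw [← S.mul']
  exact Fintype.sum_equiv (Equiv.mulLeft τ) _ _ (fun σ => rfl)

theorem span_fixed [FiniteDimensional k K] (S : SemiAct k K V) :
    Submodule.span K (S.fixed : Set V) = ⊤ := by
  by_contra h
  obtain ⟨f, hf0, hf⟩ := Submodule.exists_le_ker_of_lt_top _ (lt_top_iff_ne_top.mpr h)
  apply hf0
  ext v
  have key : ∀ c : K, ∑ σ : K ≃ₐ[k] K, f (S.ρ σ v) * σ c = 0 := by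
    intro c
    have := hf (Submodule.subset_span (S.sum_mem_fixed (c • v)))
    rw [LinearMap.mem_ker, map_sum] at this
    simp_rw [S.smul', map_smul, smul_eq_mul] at this
    rw [← this]; exact Finset.sum_congr rfl (fun σ _ => mul_comm _ _)
  have li : LinearIndependent K (fun σ : K ≃ₐ[k] K => (σ : K → K)) :=
    (linearIndependent_monoidHom K K).comp
      (fun σ : K ≃ₐ[k] K => ((σ : K →+* K) : K →* K)) (by
      intro σ τ h; ext c; exact DFunLike.congr_fun h c)
  have := Fintype.linearIndependent_iff.mp li (fun σ => f (S.ρ σ v)) (by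
    ext c; simpa [smul_eq_mul] using key c) 1
  simpa [S.one'] using this

theorem injective_lift [FiniteDimensional k K] [IsGalois k K] (S : SemiAct k K V)
    {W : Type x} [AddCommGroup W] [Module k W] (ι : W →ₗ[k] V) (hι : Function.Injective ι)
    (hW : ∀ w : W, ι w ∈ S.fixed) :
    Function.Injective (ι.liftBaseChange K) := by
  rw [injective_iff_map_eq_zero]
  intro t ht
  let b := Module.Free.chooseBasis k W
  let B := Algebra.TensorProduct.basis K b
  set c := B.repr t with hc
  set s := c.support with hs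
  have ht' : ∑ i ∈ s, c i • ι (b i) = 0 := by
    have h1 := B.linearCombination_repr t
    rw [← h1, Finsupp.linearCombination_apply, Finsupp.sum, map_sum] at ht
    rw [← ht]
    refine Finset.sum_congr rfl fun i _ => ?_
    rw [map_smul, Algebra.TensorProduct.basis_apply, LinearMap.liftBaseChange_tmul, one_smul]
  have h2 : ∀ μ : K, ∑ i ∈ s, Algebra.trace k K (μ * c i) • b i = 0 := by
    intro μ
    apply hι
    rw [map_sum, map_zero]
    have e1 : ∀ i ∈ s, ι (Algebra.trace k K (μ * c i) • b i) =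
        ∑ σ : K ≃ₐ[k] K, σ (μ * c i) • ι (b i) := by
      intro i _
      rw [map_smul, ← algebraMap_smul K, trace_eq_sum_automorphisms, Finset.sum_smul]
    rw [Finset.sum_congr rfl e1, Finset.sum_comm]
    apply Finset.sum_eq_zero; intro σ _
    have : S.ρ σ (μ • ∑ i ∈ s, c i • ι (b i)) = ∑ i ∈ s, σ (μ * c i) • ι (b i) := by
      rw [Finset.smul_sum, map_sum]; refine Finset.sum_congr rfl fun i _ => ?_
      rw [smul_smul, S.smul', hW (b i) σ]
    rw [← this, ht', smul_zero, map_zero]
  have h3 : ∀ i ∈ s, c i = 0 := by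
    intro i hi
    have h4 : ∀ μ, Algebra.trace k K (μ * c i) = 0 := fun μ =>
      (linearIndependent_iff'.mp b.linearIndependent) s _ (h2 μ) i hi
    exact (traceForm_nondegenerate k K).2 (c i) (fun μ => by
      rw [Algebra.traceForm_apply]; exact h4 μ)
  have h5 : c = 0 := by
    ext i
    by_cases hi : i ∈ s
    · exact h3 i hi
    · simpa [hs] using hi
  exact B.repr.map_eq_zero_iff.mp h5

theorem surjective_lift [FiniteDimensional k K] (S : SemiAct k K V)
    {W : Type x} [AddCommGroup W] [Module k W] (ι : W →ₗ[k] V)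
    (hW : ∀ x : V, x ∈ S.fixed → x ∈ LinearMap.range ι) :
    Function.Surjective (ι.liftBaseChange K) := by
  rw [← LinearMap.range_eq_top, LinearMap.range_liftBaseChange, eq_top_iff, ← S.span_fixed]
  exact Submodule.span_mono (fun x hx => hW x hx)

/-- **Speiser's lemma / Galois descent for vector spaces.** -/
theorem bijective_lift [FiniteDimensional k K] [IsGalois k K] (S : SemiAct k K V)
    {W : Type x} [AddCommGroup W] [Module k W] (ι : W →ₗ[k] V) (hι : Function.Injective ι)
    (hW : ∀ x : V, x ∈ LinearMap.range ι ↔ x ∈ S.fixed) :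
    Function.Bijective (ι.liftBaseChange K) :=
  ⟨S.injective_lift ι hι (fun w => (hW _).mp ⟨w, rfl⟩), S.surjective_lift ι (fun x hx => (hW x).mpr hx)⟩

/-- The descent isomorphism `K ⊗ W ≃ V`. -/
noncomputable def liftEquiv [FiniteDimensional k K] [IsGalois k K] (S : SemiAct k K V)
    {W : Type x} [AddCommGroup W] [Module k W] (ι : W →ₗ[k] V) (hι : Function.Injective ι)
    (hW : ∀ x : V, x ∈ LinearMap.range ι ↔ x ∈ S.fixed) : K ⊗[k] W ≃ₗ[K] V :=
  LinearEquiv.ofBijective (ι.liftBaseChange K) (S.bijective_lift ι hι hW)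

theorem liftEquiv_tmul [FiniteDimensional k K] [IsGalois k K] (S : SemiAct k K V)
    {W : Type x} [AddCommGroup W] [Module k W] (ι : W →ₗ[k] V) (hι : Function.Injective ι)
    (hW : ∀ x : V, x ∈ LinearMap.range ι ↔ x ∈ S.fixed) (c : K) (w : W) :
    S.liftEquiv ι hι hW (c ⊗ₜ w) = c • ι w := rfl

/-- Special case: `W = fixed`. -/
noncomputable def fixedEquiv [FiniteDimensional k K] [IsGalois k K] (S : SemiAct k K V) :
    K ⊗[k] S.fixed ≃ₗ[K] V :=
  S.liftEquiv S.fixed.subtype S.fixed.injective_subtype (fun x => by simp)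

theorem finrank_fixed [FiniteDimensional k K] [IsGalois k K] (S : SemiAct k K V) :
    Module.finrank k S.fixed = Module.finrank K V := by
  rw [← S.fixedEquiv.finrank_eq, Module.finrank_baseChange]

end SemiAct

end Groth.Agent.H7.Desc
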