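import Mathlib
import Groth.Prelude.Def_GalDesc
import Groth.Agent.Lib.Helper7.Desc1

set_option autoImplicit false

namespace Groth.Agent.H7.Desc
universe u v w x y
open scoped TensorProduct

section Tensor
variable {k : Type u} {K : Type v} [Field k] [Field K] [Algebra k K]
  {W : Type x} [AddCommGroup W] [Module k W] {W' : Type y} [AddCommGroup W'] [Module k W']

theorem smul_tmul_eq (σ : K ≃ₐ[k] K) (c : K) (w : W) :
    σ • (c ⊗ₜ[k] w) = (σ c) ⊗ₜ[k] w := by
  rw [TensorProduct.smul_tmul', AlgEquiv.smul_def]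

theorem baseChange_smul_comm (f : W →ₗ[k] W') (σ : K ≃ₐ[k] K) (t : K ⊗[k] W) :
    f.baseChange K (σ • t) = σ • f.baseChange K t := by
  induction t using TensorProduct.induction_on with
  | zero => simp
  | tmul c w => rw [smul_tmul_eq, LinearMap.baseChange_tmul, LinearMap.baseChange_tmul, smul_tmul_eq]
  | add x y hx hy => rw [smul_add, map_add, hx, hy, map_add, smul_add]

theorem repr_smul (b : Module.Basis (Module.Free.ChooseBasisIndex k W) k W)
    (σ : K ≃ₐ[k] K) (t : K ⊗[k] W) (i : Module.Free.ChooseBasisIndex k W) :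
    (Algebra.TensorProduct.basis K b).repr (σ • t) i =
      σ ((Algebra.TensorProduct.basis K b).repr t i) := by
  induction t using TensorProduct.induction_on with
  | zero => simp
  | tmul c w =>
    rw [smul_tmul_eq, Algebra.TensorProduct.basis_repr_tmul, Algebra.TensorProduct.basis_repr_tmul]
    simp
  | add x y hx hy =>
    rw [smul_add, map_add, map_add, Finsupp.add_apply, Finsupp.add_apply, hx, hy, map_add]

/-- Galois-fixed elements of `K ⊗ W` come from `W`. -/
theorem fixed_tensor [FiniteDimensional k K] [IsGalois k K] (t : K ⊗[k] W)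
    (ht : ∀ σ : K ≃ₐ[k] K, σ • t = t) : ∃ w : W, t = 1 ⊗ₜ[k] w := by
  classical
  let b := Module.Free.chooseBasis k W
  let B := Algebra.TensorProduct.basis K b
  have h1 : ∀ i, ∃ r : k, algebraMap k K r = B.repr t i := by
    intro i
    have : B.repr t i ∈ Set.range (algebraMap k K) := by
      rw [IsGalois.mem_range_algebraMap_iff_fixed]
      intro σ
      rw [← repr_smul b σ t i, ht σ]
    exact this
  choose r hr using h1
  refine ⟨∑ i ∈ (B.repr t).support, r i • b i, ?_⟩
  rw [TensorProduct.tmul_sum]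
  conv_lhs => rw [← B.linearCombination_repr t, Finsupp.linearCombination_apply, Finsupp.sum]
  refine Finset.sum_congr rfl fun i _ => ?_
  rw [Algebra.TensorProduct.basis_apply, ← hr i, TensorProduct.tmul_smul, algebraMap_smul]

theorem one_tmul_injective : Function.Injective (fun w : W => (1 : K) ⊗ₜ[k] w) :=
  Module.Flat.tensorProduct_mk_injective (R := k) (S := K) (M := W)

/-- A Galois-equivariant `K`-linear isomorphism `K ⊗ W ≃ K ⊗ W'` descends to `W ≃ W'`. -/
theorem exists_descend_equiv [FiniteDimensional k K] [IsGalois k K]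
    (h : K ⊗[k] W ≃ₗ[K] K ⊗[k] W')
    (hh : ∀ (σ : K ≃ₐ[k] K) (t : K ⊗[k] W), h (σ • t) = σ • h t) :
    ∃ e : W ≃ₗ[k] W', ∀ w, h (1 ⊗ₜ[k] w) = 1 ⊗ₜ[k] e w := by
  have hh' : ∀ (σ : K ≃ₐ[k] K) (t : K ⊗[k] W'), h.symm (σ • t) = σ • h.symm t := by
    intro σ t
    apply h.injective
    rw [hh, h.apply_symm_apply, h.apply_symm_apply]
  have h1 : ∀ w : W, ∃ w' : W', h (1 ⊗ₜ[k] w) = 1 ⊗ₜ[k] w' := by
    intro w
    apply fixed_tensor
    intro σ
    rw [← hh, smul_tmul_eq, map_one]
  have h2 : ∀ w' : W', ∃ w : W, h.symm (1 ⊗ₜ[k] w') = 1 ⊗ₜ[k] w := by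
    intro w'
    apply fixed_tensor
    intro σ
    rw [← hh', smul_tmul_eq, map_one]
  choose f hf using h1
  choose f' hf' using h2
  refine ⟨
    { toFun := f
      invFun := f'
      map_add' := fun a b => by
        apply one_tmul_injective (k := k) (K := K)
        show (1 : K) ⊗ₜ[k] f (a + b) = 1 ⊗ₜ[k] (f a + f b)
        rw [TensorProduct.tmul_add, ← hf, ← hf, ← hf, TensorProduct.tmul_add, map_add]
      map_smul' := fun r a => by
        apply one_tmul_injective (k := k) (K := K)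
        show (1 : K) ⊗ₜ[k] f (r • a) = 1 ⊗ₜ[k] ((RingHom.id k) r • f a)
        rw [RingHom.id_apply, TensorProduct.tmul_smul, ← hf, ← hf, TensorProduct.tmul_smul,
          ← algebraMap_smul K r ((1 : K) ⊗ₜ[k] a), map_smul, algebraMap_smul]
      left_inv := fun a => by
        apply one_tmul_injective (k := k) (K := K)
        show (1 : K) ⊗ₜ[k] f' (f a) = 1 ⊗ₜ[k] a
        rw [← hf', ← hf, h.symm_apply_apply]
      right_inv := fun a => by
        apply one_tmul_injective (k := k) (K := K)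
        show (1 : K) ⊗ₜ[k] f (f' a) = 1 ⊗ₜ[k] a
        rw [← hf, ← hf', h.apply_symm_apply] }, fun w => hf w⟩

end Tensor

section Twist
variable {k : Type u} {K : Type v} [Field k] [Field K] [Algebra k K]
  {M : Type w} [AddCommGroup M] [Module K M] [Module k M] [IsScalarTower k K M]
  [DistribMulAction (K ≃ₐ[k] K) M] [SMulDistribClass (K ≃ₐ[k] K) K M]

/-- A semilinear action twisted by a family of `K`-linear maps satisfying the cocycle identity. -/
def SemiAct.ofTwist (f : (K ≃ₐ[k] K) → M →ₗ[K] M) (hone : ∀ x, f 1 x = x)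
    (hmul : ∀ (σ τ : K ≃ₐ[k] K) (x : M), f (σ * τ) x = f σ (σ • f τ (σ⁻¹ • x))) :
    SemiAct k K M where
  ρ σ :=
    { toFun := fun x => f σ (σ • x)
      map_zero' := by rw [smul_zero, map_zero]
      map_add' := fun x y => by rw [smul_add, map_add] }
  smul' σ c x := by
    show f σ (σ • c • x) = σ c • f σ (σ • x)
    rw [smul_distrib_smul, map_smul, AlgEquiv.smul_def]
  one' x := by
    show f 1 ((1 : K ≃ₐ[k] K) • x) = x
    rw [one_smul, hone]
  mul' σ τ x := by
    show f (σ * τ) ((σ * τ) • x) = f σ (σ • f τ (τ • x))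
    rw [hmul, mul_smul, inv_smul_smul]

theorem SemiAct.ofTwist_apply (f : (K ≃ₐ[k] K) → M →ₗ[K] M) (hone : ∀ x, f 1 x = x)
    (hmul : ∀ (σ τ : K ≃ₐ[k] K) (x : M), f (σ * τ) x = f σ (σ • f τ (σ⁻¹ • x)))
    (σ : K ≃ₐ[k] K) (x : M) : (SemiAct.ofTwist f hone hmul).ρ σ x = f σ (σ • x) := rfl

theorem linCocycle_one (a : GpH1.OneCocycle (K ≃ₐ[k] K) (M ≃ₗ[K] M)) : a 1 = 1 := by
  have h := a.2 1 1
  rw [one_smul, mul_one] at h
  exact (mul_eq_left (a := a 1)).mp h.symm

/-- The twisted semilinear action attached to a cocycle in `M ≃ₗ[K] M`. -/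
def twistLin (a : GpH1.OneCocycle (K ≃ₐ[k] K) (M ≃ₗ[K] M)) : SemiAct k K M :=
  SemiAct.ofTwist (fun σ => (a σ : M →ₗ[K] M)) (fun x => by
      show a 1 x = x
      rw [linCocycle_one a]; rfl)
    (fun σ τ x => by
      show a (σ * τ) x = a σ (σ • a τ (σ⁻¹ • x))
      rw [a.2 σ τ]; rfl)

theorem twistLin_apply (a : GpH1.OneCocycle (K ≃ₐ[k] K) (M ≃ₗ[K] M)) (σ : K ≃ₐ[k] K) (x : M) :
    (twistLin a).ρ σ x = a σ (σ • x) := rfl

theorem mem_twistLin_fixed (a : GpH1.OneCocycle (K ≃ₐ[k] K) (M ≃ₗ[K] M)) (x : M) :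
    x ∈ (twistLin a).fixed ↔ x ∈ GalDesc.fixedSub a := Iff.rfl

end Twist

section LiftSmul
variable {k : Type u} {K : Type v} [Field k] [Field K] [Algebra k K]
  {M : Type w} [AddCommGroup M] [Module K M] [Module k M] [IsScalarTower k K M]
  {W : Type x} [AddCommGroup W] [Module k W]

theorem SemiAct.liftEquiv_smul [FiniteDimensional k K] [IsGalois k K] (S : SemiAct k K M)
    (ι : W →ₗ[k] M) (hι : Function.Injective ι)
    (hW : ∀ x : M, x ∈ LinearMap.range ι ↔ x ∈ S.fixed) (σ : K ≃ₐ[k] K) (t : K ⊗[k] W) :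
    S.liftEquiv ι hι hW (σ • t) = S.ρ σ (S.liftEquiv ι hι hW t) := by
  induction t using TensorProduct.induction_on with
  | zero => simp
  | tmul c w =>
    rw [smul_tmul_eq, S.liftEquiv_tmul, S.liftEquiv_tmul, S.smul', (hW (ι w)).mp ⟨w, rfl⟩ σ]
  | add x y hx hy => rw [smul_add, map_add, hx, hy, map_add, map_add]

end LiftSmul

end Groth.Agent.H7.Desc
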