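import Mathlib
universe u v w

namespace Groth.Agent.H7.CSA

open TensorProduct

section Coord
variable {k : Type u} [Field k] {A : Type v} [Ring A] [Algebra k A] {B : Type w} [Ring B]
  [Algebra k B] {ι : Type*} (𝒜 : Module.Basis ι k A)

/-- the `i`-th coordinate of `x ∈ A ⊗ B` with respect to a basis of `A`. -/
noncomputable def coord (i : ι) : A ⊗[k] B →ₗ[k] B :=
  (TensorProduct.lid k B).toLinearMap ∘ₗ (𝒜.coord i).rTensor B

theorem coord_tmul (i : ι) (a : A) (b : B) : coord 𝒜 i (a ⊗ₜ b) = 𝒜.repr a i • b := by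
  simp [coord]

theorem coord_mul_right (i : ι) (x : A ⊗[k] B) (b : B) :
    coord 𝒜 i (x * (1 ⊗ₜ b)) = coord 𝒜 i x * b := by
  induction x using TensorProduct.induction_on with
  | zero => simp
  | tmul a b' =>
    rw [Algebra.TensorProduct.tmul_mul_tmul, mul_one, coord_tmul, coord_tmul, smul_mul_assoc]
  | add x y hx hy => rw [add_mul, map_add, map_add, hx, hy, add_mul]

theorem coord_mul_left (i : ι) (x : A ⊗[k] B) (b : B) :
    coord 𝒜 i ((1 ⊗ₜ b) * x) = b * coord 𝒜 i x := by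
  induction x using TensorProduct.induction_on with
  | zero => simp
  | tmul a b' =>
    rw [Algebra.TensorProduct.tmul_mul_tmul, one_mul, coord_tmul, coord_tmul, mul_smul_comm]
  | add x y hx hy => rw [mul_add, map_add, map_add, hx, hy, mul_add]

theorem coord_eq [DecidableEq ι] (i : ι) (x : A ⊗[k] B) :
    coord 𝒜 i x = TensorProduct.equivFinsuppOfBasisLeft 𝒜 x i := by
  rw [TensorProduct.equivFinsuppOfBasisLeft_apply]
  rfl

theorem eq_zero_of_coord (x : A ⊗[k] B) (h : ∀ i, coord 𝒜 i x = 0) : x = 0 := by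
  classical
  apply (TensorProduct.equivFinsuppOfBasisLeft 𝒜).injective
  rw [map_zero]
  ext i
  rw [← coord_eq, h, Finsupp.zero_apply]

/-- the (finite) support of `x`. -/
noncomputable def supp (x : A ⊗[k] B) : Finset ι := by
  classical exact (TensorProduct.equivFinsuppOfBasisLeft 𝒜 x).support

theorem mem_supp (x : A ⊗[k] B) (i : ι) : i ∈ supp 𝒜 x ↔ coord 𝒜 i x ≠ 0 := by
  classical
  rw [supp, Finsupp.mem_support_iff, coord_eq]

theorem eq_sum_supp (x : A ⊗[k] B) : x = ∑ i ∈ supp 𝒜 x, 𝒜 i ⊗ₜ[k] coord 𝒜 i x := by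
  classical
  have h := (TensorProduct.equivFinsuppOfBasisLeft 𝒜).symm_apply_apply x
  rw [TensorProduct.equivFinsuppOfBasisLeft_symm_apply, Finsupp.sum] at h
  have hs : supp 𝒜 x = (TensorProduct.equivFinsuppOfBasisLeft 𝒜 x).support := by
    rw [supp]
  rw [hs]
  refine h.symm.trans (Finset.sum_congr rfl fun i _ => ?_)
  rw [coord_eq]

end Coord

section Main
variable {k : Type u} [Field k] {A : Type v} [Ring A] [Algebra k A] {B : Type w} [Ring B]
  [Algebra k B] [Algebra.IsCentral k B] [IsSimpleRing B] {ι : Type*} (𝒜 : Module.Basis ι k A)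

/-- Key lemma: a nonzero element of a two-sided ideal `I` of `A ⊗ B` (with `B` central simple)
whose support lies in `T` yields a nonzero `a ⊗ 1 ∈ I` with `a` in the span of the basis vectors
indexed by `T`. -/
theorem exists_tmul_one_mem (I : TwoSidedIdeal (A ⊗[k] B)) (T : Set ι)
    (y : A ⊗[k] B) (hy : y ∈ I) (hy0 : y ≠ 0) (hsupp : ∀ i ∈ supp 𝒜 y, i ∈ T) :
    ∃ a : A, a ≠ 0 ∧ a ⊗ₜ[k] (1 : B) ∈ I ∧ a ∈ Submodule.span k (𝒜 '' T) := by
  classical
  -- choose a counterexample-minimal element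
  have hex : ∃ n : ℕ, ∃ y ∈ I, y ≠ 0 ∧ (∀ i ∈ supp 𝒜 y, i ∈ T) ∧ (supp 𝒜 y).card = n :=
    ⟨_, y, hy, hy0, hsupp, rfl⟩
  obtain ⟨y, hy, hy0, hsupp, hn⟩ := Nat.find_spec hex
  have hmin : ∀ z ∈ I, z ≠ 0 → (∀ i ∈ supp 𝒜 z, i ∈ T) → (supp 𝒜 y).card ≤ (supp 𝒜 z).card := by
    intro z hz hz0 hzs
    rw [hn]
    exact Nat.find_min' hex ⟨z, hz, hz0, hzs, rfl⟩
  -- a coordinate in the support
  obtain ⟨j₀, hj₀⟩ : (supp 𝒜 y).Nonempty := by
    rw [Finset.nonempty_iff_ne_empty]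
    intro hempty
    apply hy0
    apply eq_zero_of_coord 𝒜
    intro i
    by_contra hi
    have := (mem_supp 𝒜 y i).mpr hi
    rw [hempty] at this
    exact absurd this (Finset.notMem_empty i)
  -- the ideal of `j₀`-coordinates
  let L : TwoSidedIdeal B := TwoSidedIdeal.mk'
    {b | ∃ z ∈ I, supp 𝒜 z ⊆ supp 𝒜 y ∧ coord 𝒜 j₀ z = b}
    ⟨0, I.zero_mem, by
      intro i hi; rw [mem_supp, map_zero] at hi; exact absurd rfl hi, map_zero _⟩
    (by
      rintro b₁ b₂ ⟨z₁, hz₁, hs₁, rfl⟩ ⟨z₂, hz₂, hs₂, rfl⟩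
      refine ⟨z₁ + z₂, I.add_mem hz₁ hz₂, ?_, map_add _ _ _⟩
      intro i hi
      rw [mem_supp, map_add] at hi
      by_cases h1 : coord 𝒜 i z₁ = 0
      · rw [h1, zero_add] at hi
        exact hs₂ ((mem_supp 𝒜 z₂ i).mpr hi)
      · exact hs₁ ((mem_supp 𝒜 z₁ i).mpr h1))
    (by
      rintro b ⟨z, hz, hs, rfl⟩
      refine ⟨-z, I.neg_mem hz, ?_, map_neg _ _⟩
      intro i hi
      rw [mem_supp, map_neg, neg_ne_zero] at hi
      exact hs ((mem_supp 𝒜 z i).mpr hi))
    (by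
      rintro b' b ⟨z, hz, hs, rfl⟩
      refine ⟨(1 ⊗ₜ b') * z, I.mul_mem_left _ _ hz, ?_, coord_mul_left 𝒜 _ _ _⟩
      intro i hi
      rw [mem_supp, coord_mul_left] at hi
      apply hs
      rw [mem_supp]
      intro h0
      rw [h0, mul_zero] at hi
      exact hi rfl)
    (by
      rintro b b' ⟨z, hz, hs, rfl⟩
      refine ⟨z * (1 ⊗ₜ b'), I.mul_mem_right _ _ hz, ?_, coord_mul_right 𝒜 _ _ _⟩
      intro i hi
      rw [mem_supp, coord_mul_right] at hi
      apply hs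
      rw [mem_supp]
      intro h0
      rw [h0, zero_mul] at hi
      exact hi rfl)
  have hL : coord 𝒜 j₀ y ∈ L := by
    rw [TwoSidedIdeal.mem_mk']
    exact ⟨y, hy, subset_rfl, rfl⟩
  have h1L : (1 : B) ∈ L :=
    IsSimpleRing.one_mem_of_ne_zero_mem L ((mem_supp 𝒜 y j₀).mp hj₀) hL
  rw [TwoSidedIdeal.mem_mk'] at h1L
  obtain ⟨z, hz, hzs, hz1⟩ := h1L
  have hz0 : z ≠ 0 := by
    intro h
    rw [h, map_zero] at hz1
    exact zero_ne_one hz1
  have hzT : ∀ i ∈ supp 𝒜 z, i ∈ T := fun i hi => hsupp i (hzs hi)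
  have hzy : supp 𝒜 z = supp 𝒜 y := Finset.eq_of_subset_of_card_le hzs (hmin z hz hz0 hzT)
  -- all coordinates of `z` are central
  have hcomm : ∀ (b : B) (i : ι), b * coord 𝒜 i z = coord 𝒜 i z * b := by
    intro b i
    set w := (1 ⊗ₜ b) * z - z * (1 ⊗ₜ b) with hw
    have hwI : w ∈ I := I.sub_mem (I.mul_mem_left _ _ hz) (I.mul_mem_right _ _ hz)
    have hwc : ∀ i, coord 𝒜 i w = b * coord 𝒜 i z - coord 𝒜 i z * b := by
      intro i
      rw [hw, map_sub, coord_mul_left, coord_mul_right]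
    have hws : supp 𝒜 w ⊆ (supp 𝒜 z).erase j₀ := by
      intro i hi
      rw [mem_supp, hwc] at hi
      rw [Finset.mem_erase]
      constructor
      · rintro rfl
        rw [hz1, mul_one, one_mul, sub_self] at hi
        exact hi rfl
      · rw [mem_supp]
        intro h0
        rw [h0, mul_zero, zero_mul, sub_self] at hi
        exact hi rfl
    have hw0 : w = 0 := by
      by_contra hne
      have h1 := hmin w hwI hne (fun i hi => hzT i (Finset.mem_of_mem_erase (hws hi)))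
      have h2 := Finset.card_le_card hws
      have hj₀z : j₀ ∈ supp 𝒜 z := hzy ▸ hj₀
      rw [Finset.card_erase_of_mem hj₀z] at h2
      have h3 : 0 < (supp 𝒜 z).card := Finset.card_pos.mpr ⟨j₀, hj₀z⟩
      rw [hzy] at h2 h3
      omega
    have := hwc i
    rw [hw0, map_zero] at this
    exact sub_eq_zero.mp this.symm
  have hcen : ∀ i, ∃ c : k, coord 𝒜 i z = algebraMap k B c := by
    intro i
    apply (Algebra.IsCentral.mem_center_iff k).mp
    rw [Subalgebra.mem_center_iff]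
    intro b
    exact hcomm b i
  choose c hc using hcen
  refine ⟨∑ i ∈ supp 𝒜 z, c i • 𝒜 i, ?_, ?_, ?_⟩
  · intro h0
    apply hz0
    rw [eq_sum_supp 𝒜 z]
    have : ∑ i ∈ supp 𝒜 z, 𝒜 i ⊗ₜ[k] coord 𝒜 i z =
        (∑ i ∈ supp 𝒜 z, c i • 𝒜 i) ⊗ₜ[k] (1 : B) := by
      rw [TensorProduct.sum_tmul]
      refine Finset.sum_congr rfl fun i _ => ?_
      rw [hc i, Algebra.algebraMap_eq_smul_one, TensorProduct.tmul_smul, TensorProduct.smul_tmul']
    rw [this, h0, TensorProduct.zero_tmul]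
  · have : ∑ i ∈ supp 𝒜 z, 𝒜 i ⊗ₜ[k] coord 𝒜 i z =
        (∑ i ∈ supp 𝒜 z, c i • 𝒜 i) ⊗ₜ[k] (1 : B) := by
      rw [TensorProduct.sum_tmul]
      refine Finset.sum_congr rfl fun i _ => ?_
      rw [hc i, Algebra.algebraMap_eq_smul_one, TensorProduct.tmul_smul, TensorProduct.smul_tmul']
    rw [← this, ← eq_sum_supp 𝒜 z]
    exact hz
  · refine Submodule.sum_mem _ fun i hi => ?_
    exact Submodule.smul_mem _ _ (Submodule.subset_span ⟨i, hzT i hi, rfl⟩)

end Main

section Simple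
variable (k : Type u) [Field k] (A : Type v) [Ring A] [Algebra k A] (B : Type w) [Ring B]
  [Algebra k B] [Algebra.IsCentral k B] [IsSimpleRing B]

/-- a nonzero two-sided ideal of `A ⊗ B` (`B` central simple) contains a nonzero `a ⊗ 1`. -/
theorem exists_tmul_one_mem_of_ne_bot (I : TwoSidedIdeal (A ⊗[k] B)) (hI : I ≠ ⊥) :
    ∃ a : A, a ≠ 0 ∧ a ⊗ₜ[k] (1 : B) ∈ I := by
  obtain ⟨y, hy, hy0⟩ := SetLike.exists_of_lt (bot_lt_iff_ne_bot.mpr hI)
  have hy0' : y ≠ 0 := fun h => hy0 (by rw [h]; exact TwoSidedIdeal.zero_mem _)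
  obtain ⟨a, ha0, haI, -⟩ := exists_tmul_one_mem (Module.Free.chooseBasis k A) I Set.univ y hy hy0'
    (fun _ _ => trivial)
  exact ⟨a, ha0, haI⟩

/-- S0190 (without finiteness): simple ⊗ central simple is simple. -/
theorem isSimpleRing_tensor [IsSimpleRing A] : IsSimpleRing (A ⊗[k] B) := by
  have : Nontrivial (A ⊗[k] B) :=
    Algebra.TensorProduct.nontrivial_of_algebraMap_injective_of_flat_left k A B
      (FaithfulSMul.algebraMap_injective k B)
  refine IsSimpleRing.of_eq_bot_or_eq_top fun I => ?_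
  by_cases hI : I = ⊥
  · exact Or.inl hI
  · right
    obtain ⟨a, ha0, haI⟩ := exists_tmul_one_mem_of_ne_bot k A B I hI
    have h1 : (1 : A) ∈ I.comap (Algebra.TensorProduct.includeLeft : A →ₐ[k] A ⊗[k] B) := by
      refine IsSimpleRing.one_mem_of_ne_zero_mem _ ha0 ?_
      rw [TwoSidedIdeal.mem_comap]
      exact haI
    rw [TwoSidedIdeal.mem_comap, map_one] at h1
    exact (TwoSidedIdeal.one_mem_iff I).mp h1

end Simple

end Groth.Agent.H7.CSA
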