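import Mathlib
import Groth.Agent.Lib.Helper7.CSA1
universe u v w

namespace Groth.Agent.H7.CSA

open TensorProduct

section Adapted
variable {k : Type u} [Field k] {A : Type v} [AddCommGroup A] [Module k A]

theorem exists_adapted_basis (J : Submodule k A) :
    ∃ (ι₁ ι₂ : Type v) (𝒜 : Module.Basis (ι₁ ⊕ ι₂) k A) (W : Submodule k A),
      (∀ i, 𝒜 (Sum.inl i) ∈ J) ∧ (∀ i, 𝒜 (Sum.inr i) ∈ W) ∧ J ⊓ W = ⊥ := by
  obtain ⟨W, hW⟩ := Submodule.exists_isCompl J
  refine ⟨_, _, ((Module.Basis.ofVectorSpace k J).prod (Module.Basis.ofVectorSpace k W)).map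
    (Submodule.prodEquivOfIsCompl J W hW), W, ?_, ?_, hW.inf_eq_bot⟩
  · intro i
    rw [Module.Basis.map_apply, Submodule.coe_prodEquivOfIsCompl']
    simp
  · intro i
    rw [Module.Basis.map_apply, Submodule.coe_prodEquivOfIsCompl']
    simp

end Adapted

section Coord2
variable {k : Type u} [Field k] {A : Type v} [Ring A] [Algebra k A] {B : Type w} [Ring B]
  [Algebra k B] {ι : Type*} (𝒜 : Module.Basis ι k A)

theorem coord_sum_tmul [DecidableEq ι] (S : Finset ι) (c : ι → B) (j : ι) :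
    coord 𝒜 j (∑ i ∈ S, 𝒜 i ⊗ₜ[k] c i) = if j ∈ S then c j else 0 := by
  rw [map_sum]
  have : ∀ i ∈ S, coord 𝒜 j (𝒜 i ⊗ₜ[k] c i) = if i = j then c i else 0 := by
    intro i _
    rw [coord_tmul, Module.Basis.repr_self, Finsupp.single_apply]
    split_ifs <;> simp
  rw [Finset.sum_congr rfl this, Finset.sum_ite_eq' S j c]

end Coord2

section Ideal
variable (k : Type u) [Field k] (A : Type v) [Ring A] [Algebra k A] (B : Type w) [Ring B]
  [Algebra k B] [Algebra.IsCentral k B] [IsSimpleRing B]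

/-- S0191 (for `B` central simple): every two-sided ideal of `A ⊗ B` is generated by the
elements `a ⊗ 1` it contains. -/
theorem ideal_eq_span (I : TwoSidedIdeal (A ⊗[k] B)) :
    I = TwoSidedIdeal.span ((fun a : A => a ⊗ₜ[k] (1 : B)) '' {a : A | a ⊗ₜ[k] (1 : B) ∈ I}) := by
  classical
  set I' := TwoSidedIdeal.span
    ((fun a : A => a ⊗ₜ[k] (1 : B)) '' {a : A | a ⊗ₜ[k] (1 : B) ∈ I}) with hI'
  have hle : I' ≤ I := TwoSidedIdeal.span_le.mpr (by rintro _ ⟨a, ha, rfl⟩; exact ha)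
  refine le_antisymm ?_ hle
  intro x hx
  let J : Submodule k A :=
    { carrier := {a | a ⊗ₜ[k] (1 : B) ∈ I}
      add_mem' := by
        intro a b ha hb
        rw [Set.mem_setOf_eq, TensorProduct.add_tmul]
        exact I.add_mem ha hb
      zero_mem' := by
        rw [Set.mem_setOf_eq, TensorProduct.zero_tmul]
        exact I.zero_mem
      smul_mem' := by
        intro c a ha
        rw [Set.mem_setOf_eq, ← TensorProduct.smul_tmul', Algebra.smul_def]
        exact I.mul_mem_left _ _ ha }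
  obtain ⟨ι₁, ι₂, 𝒜, W, hJ, hW, hJW⟩ := exists_adapted_basis J
  have hxs := eq_sum_supp 𝒜 x
  set S := supp 𝒜 x with hS
  set c : ι₁ ⊕ ι₂ → B := fun i => coord 𝒜 i x with hc
  set x₁ := ∑ i ∈ S.filter (fun i => i.isLeft = true), 𝒜 i ⊗ₜ[k] c i with hx₁
  set x₂ := ∑ i ∈ S.filter (fun i => ¬ i.isLeft = true), 𝒜 i ⊗ₜ[k] c i with hx₂
  have hsum : x₁ + x₂ = x := by
    rw [hx₁, hx₂, Finset.sum_filter_add_sum_filter_not]
    exact hxs.symm
  have hx₁I' : x₁ ∈ I' := by
    rw [hx₁]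
    refine Finset.sum_induction _ (· ∈ I') (fun a b ha hb => I'.add_mem ha hb) I'.zero_mem ?_
    intro i hi
    rw [Finset.mem_filter] at hi
    obtain ⟨i', rfl⟩ : ∃ i', i = Sum.inl i' := by
      cases i with
      | inl i' => exact ⟨i', rfl⟩
      | inr i' => simp at hi
    have : 𝒜 (Sum.inl i') ⊗ₜ[k] c (Sum.inl i') =
        (𝒜 (Sum.inl i') ⊗ₜ[k] (1 : B)) * ((1 : A) ⊗ₜ[k] c (Sum.inl i')) := by
      rw [Algebra.TensorProduct.tmul_mul_tmul, mul_one, one_mul]
    rw [this]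
    refine I'.mul_mem_right _ _ (TwoSidedIdeal.subset_span ⟨𝒜 (Sum.inl i'), ?_, rfl⟩)
    exact hJ i'
  have hx₂I : x₂ ∈ I := by
    have : x₂ = x - x₁ := by rw [← hsum]; abel
    rw [this]
    exact I.sub_mem hx (hle hx₁I')
  by_cases hx₂0 : x₂ = 0
  · rw [← hsum, hx₂0, add_zero]
    exact hx₁I'
  · exfalso
    obtain ⟨a, ha0, haI, haT⟩ := exists_tmul_one_mem 𝒜 I {i | ¬ i.isLeft = true} x₂ hx₂I hx₂0 (by
      intro i hi
      rw [mem_supp, hx₂, coord_sum_tmul] at hi
      split_ifs at hi with h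
      · exact (Finset.mem_filter.mp h).2
      · exact absurd rfl hi)
    have haW : a ∈ W := by
      refine (Submodule.span_le.mpr ?_) haT
      rintro _ ⟨i, hi, rfl⟩
      cases i with
      | inl i' => simp at hi
      | inr i' => exact hW i'
    have haJ : a ∈ J := haI
    have : a ∈ J ⊓ W := ⟨haJ, haW⟩
    rw [hJW] at this
    exact ha0 this

end Ideal

end Groth.Agent.H7.CSA
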