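import Mathlib
import Groth.Agent.Lib.Helper7.CSA2
universe u v w

namespace Groth.Agent.H7.CSA

open TensorProduct MulOpposite

section Env
variable (k : Type u) [Field k] (A : Type v) [Ring A] [Algebra k A] [Algebra.IsCentral k A]
  [IsSimpleRing A] [FiniteDimensional k A]

/-- S7722: for a finite central simple algebra, `A ⊗ Aᵒᵖ → End_k(A)` is bijective. -/
theorem mulLeftRight_bijective : Function.Bijective (AlgHom.mulLeftRight k A) := by
  have hs : IsSimpleRing (A ⊗[k] Aᵐᵒᵖ) := isSimpleRing_tensor k A Aᵐᵒᵖ
  have hinj : Function.Injective (AlgHom.mulLeftRight k A) :=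
    (AlgHom.mulLeftRight k A).toRingHom.injective
  have hfin : Module.finrank k (A ⊗[k] Aᵐᵒᵖ) = Module.finrank k (Module.End k A) := by
    rw [Module.finrank_tensorProduct, Module.finrank_linearMap,
      (MulOpposite.opLinearEquiv k : A ≃ₗ[k] Aᵐᵒᵖ).finrank_eq]
  have hinj' : Function.Injective (AlgHom.mulLeftRight k A).toLinearMap := hinj
  exact ⟨hinj, (LinearMap.injective_iff_surjective_of_finrank_eq_finrank hfin).mp hinj'⟩

theorem isAzumaya_of_csa : IsAzumaya k A :=
  { toProjective := inferInstance
    toFaithfulSMul := inferInstance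
    toFinite := inferInstance
    bij := mulLeftRight_bijective k A }

end Env

section Center
variable (k : Type u) [Field k] (A : Type v) [Ring A] [Algebra k A] (B : Type w) [Ring B]
  [Algebra k B]

/-- if `B` is central, an element of `A ⊗ B` commuting with `1 ⊗ B` has the form `a ⊗ 1`. -/
theorem exists_eq_tmul_one [Algebra.IsCentral k B] (z : A ⊗[k] B)
    (hz : ∀ b : B, (1 ⊗ₜ b) * z = z * (1 ⊗ₜ b)) : ∃ a : A, z = a ⊗ₜ[k] (1 : B) := by
  set 𝒜 := Module.Free.chooseBasis k A
  have hcen : ∀ i, ∃ c : k, coord 𝒜 i z = algebraMap k B c := by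
    intro i
    apply (Algebra.IsCentral.mem_center_iff k).mp
    rw [Subalgebra.mem_center_iff]
    intro b
    rw [← coord_mul_left, ← coord_mul_right, hz]
  choose c hc using hcen
  refine ⟨∑ i ∈ supp 𝒜 z, c i • 𝒜 i, ?_⟩
  conv_lhs => rw [eq_sum_supp 𝒜 z]
  rw [TensorProduct.sum_tmul]
  refine Finset.sum_congr rfl fun i _ => ?_
  rw [hc i, Algebra.algebraMap_eq_smul_one, TensorProduct.tmul_smul, TensorProduct.smul_tmul']

/-- base change of a central algebra is central. -/
theorem isCentral_baseChange (K : Type v) [CommRing K] [Algebra k K] [Algebra.IsCentral k B] :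
    Algebra.IsCentral K (K ⊗[k] B) := by
  constructor
  intro z hz
  rw [Subalgebra.mem_center_iff] at hz
  obtain ⟨l, rfl⟩ := exists_eq_tmul_one k K B z (fun b => hz _)
  exact ⟨l, rfl⟩

/-- the tensor product of central algebras is central. -/
theorem isCentral_tensor [Algebra.IsCentral k A] [Algebra.IsCentral k B] :
    Algebra.IsCentral k (A ⊗[k] B) := by
  constructor
  intro z hz
  rw [Subalgebra.mem_center_iff] at hz
  rcases subsingleton_or_nontrivial B with hB | hB
  · have : Subsingleton (A ⊗[k] B) := by
      refine ⟨fun x y => ?_⟩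
      have h0 : ∀ w : A ⊗[k] B, w = 0 := by
        intro w
        induction w using TensorProduct.induction_on with
        | zero => rfl
        | tmul a b => rw [Subsingleton.elim b 0, TensorProduct.tmul_zero]
        | add x y hx hy => rw [hx, hy, add_zero]
      rw [h0 x, h0 y]
    rw [Subsingleton.elim z 0]
    exact Subalgebra.zero_mem _
  · obtain ⟨a, rfl⟩ := exists_eq_tmul_one k A B z (fun b => hz _)
    have hinj : Function.Injective (Algebra.TensorProduct.includeLeft : A →ₐ[k] A ⊗[k] B) :=
      Algebra.TensorProduct.includeLeft_injective (FaithfulSMul.algebraMap_injective k B)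
    have ha : a ∈ Subalgebra.center k A := by
      rw [Subalgebra.mem_center_iff]
      intro a'
      apply hinj
      have := hz (a' ⊗ₜ 1)
      rw [Algebra.TensorProduct.tmul_mul_tmul, Algebra.TensorProduct.tmul_mul_tmul] at this
      simpa using this
    obtain ⟨c, rfl⟩ := (Algebra.IsCentral.mem_center_iff k).mp ha
    refine ⟨c, ?_⟩
    show algebraMap k (A ⊗[k] B) c = _
    rw [Algebra.TensorProduct.algebraMap_apply]

/-- descent of centrality along a field extension. -/
theorem isCentral_of_baseChange (K : Type v) [Field K] [Algebra k K]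
    [Algebra.IsCentral K (K ⊗[k] B)] : Algebra.IsCentral k B := by
  constructor
  intro b hb
  have h1 : (1 : K) ⊗ₜ[k] b ∈ Subalgebra.center K (K ⊗[k] B) := by
    rw [Subalgebra.mem_center_iff]
    have := Algebra.TensorProduct.includeRight_map_center_le k K B
      ⟨b, hb, rfl⟩
    rw [Subalgebra.mem_center_iff] at this
    exact this
  obtain ⟨l, hl⟩ := (Algebra.IsCentral.mem_center_iff K).mp h1
  rw [Algebra.TensorProduct.algebraMap_apply] at hl
  obtain ⟨φ, hφ⟩ := LinearMap.exists_leftInverse_of_injective (Algebra.linearMap k K)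
    (LinearMap.ker_eq_bot.mpr (FaithfulSMul.algebraMap_injective k K))
  have hφ1 : φ 1 = 1 := by
    have := LinearMap.congr_fun hφ 1
    simpa using this
  have h2 := congrArg (fun w => TensorProduct.lid k B (φ.rTensor B w)) hl
  simp only [LinearMap.rTensor_tmul, TensorProduct.lid_tmul, hφ1, one_smul] at h2
  refine ⟨φ l, ?_⟩
  have h3 : b = φ l • (1 : B) := by simpa using h2
  rw [h3]
  exact Algebra.algebraMap_eq_smul_one _

/-- descent of simplicity along a field extension. -/
theorem isSimpleRing_of_baseChange (K : Type v) [Field K] [Algebra k K]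
    [IsSimpleRing (K ⊗[k] B)] : IsSimpleRing B := by
  have hinj : Function.Injective (Algebra.TensorProduct.includeRight : B →ₐ[k] K ⊗[k] B) :=
    Algebra.TensorProduct.includeRight_injective (FaithfulSMul.algebraMap_injective k K)
  have : Nontrivial B :=
    (Algebra.TensorProduct.includeRight : B →ₐ[k] K ⊗[k] B).toRingHom.domain_nontrivial
  refine IsSimpleRing.of_eq_bot_or_eq_top fun I => ?_
  by_cases hI : I = ⊤
  · exact Or.inr hI
  · left
    have hnt : Nontrivial I.ringCon.Quotient := by
      refine ⟨⟨I.ringCon.mk' 1, I.ringCon.mk' 0, ?_⟩⟩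
      intro h
      apply hI
      rw [← TwoSidedIdeal.one_mem_iff, ← TwoSidedIdeal.ker_ringCon_mk' I, TwoSidedIdeal.mem_ker,
        h, map_zero]
    have : Nontrivial (K ⊗[k] I.ringCon.Quotient) :=
      Algebra.TensorProduct.nontrivial_of_algebraMap_injective_of_flat_left k K _
        (FaithfulSMul.algebraMap_injective k I.ringCon.Quotient)
    set F : K ⊗[k] B →ₐ[k] K ⊗[k] I.ringCon.Quotient :=
      Algebra.TensorProduct.map (AlgHom.id k K) (I.ringCon.mkₐ (α := k)) with hF
    have hFinj : Function.Injective F := F.toRingHom.injective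
    rw [eq_bot_iff]
    intro a ha
    have h0 : F (1 ⊗ₜ a) = 0 := by
      rw [hF, Algebra.TensorProduct.map_tmul]
      have : I.ringCon.mkₐ (α := k) a = 0 := by
        have h := (TwoSidedIdeal.mem_ker (f := I.ringCon.mk')).mp
          (by rw [TwoSidedIdeal.ker_ringCon_mk']; exact ha)
        exact h
      rw [this, TensorProduct.tmul_zero]
    have h1 : (1 : K) ⊗ₜ[k] a = 0 := hFinj (h0.trans (map_zero F).symm)
    have h2 : a = 0 := hinj (h1.trans (map_zero _).symm)
    rw [h2]
    exact TwoSidedIdeal.zero_mem _

end Center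

end Groth.Agent.H7.CSA
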