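import Mathlib
import Groth.Agent.Lib.Helper7.CSA3
universe u v w

namespace Groth.Agent.H7.CSA

open TensorProduct MulOpposite

section Split
variable (k : Type u) [Field k] (A : Type v) [Ring A] [Algebra k A]

/-- a finite central simple algebra is split by any algebraically closed extension. -/
theorem exists_algEquiv_matrix_of_isAlgClosed [Algebra.IsCentral k A] [IsSimpleRing A]
    [FiniteDimensional k A] (K : Type w) [Field K] [Algebra k K] [IsAlgClosed K] :
    ∃ (n : ℕ) (_ : NeZero n), Nonempty (K ⊗[k] A ≃ₐ[K] Matrix (Fin n) (Fin n) K) := by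
  have : IsSimpleRing (K ⊗[k] A) := isSimpleRing_tensor k K A
  exact IsSimpleRing.exists_algEquiv_matrix_of_isAlgClosed K (K ⊗[k] A)

/-- S0192: the dimension of a finite central simple algebra is a square. -/
theorem isSquare_finrank [Algebra.IsCentral k A] [IsSimpleRing A] [FiniteDimensional k A] :
    IsSquare (Module.finrank k A) := by
  obtain ⟨n, _, ⟨e⟩⟩ := exists_algEquiv_matrix_of_isAlgClosed k A (AlgebraicClosure k)
  refine ⟨n, ?_⟩
  rw [← Module.finrank_baseChange (R := AlgebraicClosure k), e.toLinearEquiv.finrank_eq,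
    Module.finrank_matrix]
  simp

/-- an algebra split by some field extension is finite central simple. -/
theorem csa_of_split (K : Type w) [Field K] [Algebra k K] (n : ℕ) (hn : n ≠ 0)
    (e : K ⊗[k] A ≃ₐ[K] Matrix (Fin n) (Fin n) K) :
    Algebra.IsCentral k A ∧ IsSimpleRing A ∧ FiniteDimensional k A := by
  have : NeZero n := ⟨hn⟩
  have h1 : Algebra.IsCentral K (K ⊗[k] A) := by
    constructor
    intro z hz
    have hz' : e z ∈ Subalgebra.center K (Matrix (Fin n) (Fin n) K) := by
      rw [Subalgebra.mem_center_iff] at hz ⊢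
      intro m
      obtain ⟨m', rfl⟩ := e.surjective m
      rw [← map_mul, ← map_mul, hz]
    obtain ⟨c, hc⟩ := (Algebra.IsCentral.mem_center_iff K).mp hz'
    refine ⟨c, ?_⟩
    apply e.injective
    rw [hc]
    exact e.commutes c
  have h2 : IsSimpleRing (K ⊗[k] A) :=
    IsSimpleRing.of_ringEquiv e.symm.toRingEquiv inferInstance
  have h3 : Module.Finite K (K ⊗[k] A) := Module.Finite.equiv e.symm.toLinearEquiv
  refine ⟨isCentral_of_baseChange k A K, isSimpleRing_of_baseChange k A K, ?_⟩
  exact Module.Finite.of_finite_tensorProduct_of_faithfullyFlat K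

end Split

end Groth.Agent.H7.CSA
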