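import Mathlib
import Groth.Agent.Lib.Helper7.CSA4
universe u v w

namespace Groth.Agent.H7.CSA

open TensorProduct MulOpposite

section Mod

theorem exists_simple_left_ideal (k : Type u) [Field k] (R : Type v) [Ring R] [Algebra k R]
    [IsSimpleRing R] [FiniteDimensional k R] : ∃ S₀ : Submodule R R, IsSimpleModule R S₀ := by
  have : IsArtinianRing R := IsArtinianRing.of_finite k R
  obtain ⟨S, hS⟩ := IsAtomic.exists_atom (Submodule R R)
  exact ⟨S, isSimpleModule_iff_isAtom.mpr hS⟩

/-- every finite module over a finite simple algebra is a power of the simple module. -/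
theorem exists_linearEquiv_fun (k : Type u) [Field k] (R : Type v) [Ring R] [Algebra k R]
    [IsSimpleRing R] [FiniteDimensional k R] (S₀ : Submodule R R) [IsSimpleModule R S₀]
    (M : Type w) [AddCommGroup M] [Module k M] [Module R M] [IsScalarTower k R M]
    [FiniteDimensional k M] : ∃ m : ℕ, Nonempty (M ≃ₗ[R] (Fin m → S₀)) := by
  have : IsArtinianRing R := IsArtinianRing.of_finite k R
  have : Module.Finite R M := Module.Finite.of_restrictScalars_finite k R M
  rcases subsingleton_or_nontrivial M with h | h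
  · exact ⟨0, ⟨LinearEquiv.ofSubsingleton M (Fin 0 → S₀)⟩⟩
  · obtain ⟨m, _, S, hS, ⟨e⟩⟩ := (IsSimpleRing.isIsotypic R M).linearEquiv_fun
    have hiso : Nonempty (S ≃ₗ[R] S₀) := by
      let S₁ := S.map (LinearMap.inl R M R)
      let S₂ := S₀.map (LinearMap.inr R M R)
      let e₁ : S ≃ₗ[R] S₁ := Submodule.equivMapOfInjective _ LinearMap.inl_injective S
      let e₂ : S₀ ≃ₗ[R] S₂ := Submodule.equivMapOfInjective _ LinearMap.inr_injective S₀
      have h1 : IsSimpleModule R S₁ := IsSimpleModule.congr e₁.symm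
      have h2 : IsSimpleModule R S₂ := IsSimpleModule.congr e₂.symm
      obtain ⟨e₃⟩ := (IsSimpleRing.isIsotypic R (M × R)) S₂ S₁
      exact ⟨e₁.trans (e₃.trans e₂.symm)⟩
    obtain ⟨e'⟩ := hiso
    exact ⟨m, ⟨e.trans (LinearEquiv.piCongrRight fun _ => e')⟩⟩

theorem finrank_eq_of_linearEquiv_fun (k : Type u) [Field k] (R : Type v) [Ring R] [Algebra k R]
    [FiniteDimensional k R] (S₀ : Submodule R R)
    (M : Type w) [AddCommGroup M] [Module k M] [Module R M] [IsScalarTower k R M]
    (m : ℕ) (e : M ≃ₗ[R] (Fin m → S₀)) :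
    Module.finrank k M = m * Module.finrank k S₀ := by
  have : Module.Finite k S₀ := Module.Finite.of_injective (S₀.subtype.restrictScalars k)
    S₀.subtype_injective
  rw [(e.restrictScalars k).finrank_eq, Module.finrank_pi_fintype]
  simp

theorem finrank_end_eq_of_linearEquiv_fun (k : Type u) [Field k] (R : Type v) [Ring R]
    [Algebra k R] (S₀ : Submodule R R)
    (M : Type w) [AddCommGroup M] [Module k M] [Module R M] [IsScalarTower k R M]
    (m : ℕ) (e : M ≃ₗ[R] (Fin m → S₀)) :
    Module.finrank k (Module.End R M) = m * m * Module.finrank k (Module.End R S₀) := by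
  rw [(LinearEquiv.conjAlgEquiv k e).toLinearEquiv.finrank_eq,
    (endVecAlgEquivMatrixEnd (Fin m) k R S₀).toLinearEquiv.finrank_eq, Module.finrank_matrix]
  simp

theorem isSimpleRing_end (k : Type u) [Field k] (R : Type v) [Ring R] [Algebra k R]
    [IsSimpleRing R] [FiniteDimensional k R]
    (M : Type w) [AddCommGroup M] [Module k M] [Module R M] [IsScalarTower k R M]
    [FiniteDimensional k M] [Nontrivial M] : IsSimpleRing (Module.End R M) := by
  classical
  obtain ⟨S₀, hS₀⟩ := exists_simple_left_ideal k R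
  obtain ⟨m, ⟨e⟩⟩ := exists_linearEquiv_fun k R S₀ M
  have hm : NeZero m := by
    constructor
    rintro rfl
    exact not_subsingleton M e.toEquiv.subsingleton
  have : Nonempty (Fin m) := ⟨⟨0, Nat.pos_of_ne_zero hm.ne⟩⟩
  exact IsSimpleRing.of_ringEquiv
    ((LinearEquiv.conjRingEquiv e).trans (endVecRingEquivMatrixEnd (Fin m) R S₀)).symm
    inferInstance

/-- the key dimension formula `dim End_R(M) · dim R = (dim M)²`. -/
theorem finrank_end_mul_finrank (k : Type u) [Field k] (R : Type v) [Ring R] [Algebra k R]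
    [IsSimpleRing R] [FiniteDimensional k R]
    (M : Type w) [AddCommGroup M] [Module k M] [Module R M] [IsScalarTower k R M]
    [FiniteDimensional k M] :
    Module.finrank k (Module.End R M) * Module.finrank k R = Module.finrank k M ^ 2 := by
  obtain ⟨S₀, hS₀⟩ := exists_simple_left_ideal k R
  obtain ⟨m, ⟨e⟩⟩ := exists_linearEquiv_fun k R S₀ M
  obtain ⟨r, ⟨eR⟩⟩ := exists_linearEquiv_fun k R S₀ R
  have h1 := finrank_eq_of_linearEquiv_fun k R S₀ M m e
  have h2 := finrank_end_eq_of_linearEquiv_fun k R S₀ M m e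
  have h3 := finrank_eq_of_linearEquiv_fun k R S₀ R r eR
  have h4 := finrank_end_eq_of_linearEquiv_fun k R S₀ R r eR
  have h5 : Module.finrank k (Module.End R R) = Module.finrank k R := by
    rw [← (AlgEquiv.moduleEndSelf k (A := R)).toLinearEquiv.finrank_eq,
      ← (MulOpposite.opLinearEquiv k : R ≃ₗ[k] Rᵐᵒᵖ).finrank_eq]
  have hpos : 0 < Module.finrank k R := Module.finrank_pos
  have hr : 0 < r := by
    rcases Nat.eq_zero_or_pos r with h | h
    · rw [h, zero_mul] at h3; omega
    · exact h
  set s := Module.finrank k S₀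
  set e₀ := Module.finrank k (Module.End R S₀)
  have h6 : s = r * e₀ := by
    have : r * s = r * (r * e₀) := by rw [← h3, ← h5, h4]; ring
    exact Nat.eq_of_mul_eq_mul_left hr this
  rw [h2, h1, h3, h6]
  ring

/-- two finite modules of the same dimension over a finite simple algebra are isomorphic. -/
theorem nonempty_linearEquiv_of_finrank_eq (k : Type u) [Field k] (R : Type v) [Ring R]
    [Algebra k R] [IsSimpleRing R] [FiniteDimensional k R]
    (M : Type w) [AddCommGroup M] [Module k M] [Module R M] [IsScalarTower k R M]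
    [FiniteDimensional k M]
    (N : Type w) [AddCommGroup N] [Module k N] [Module R N] [IsScalarTower k R N]
    [FiniteDimensional k N] (h : Module.finrank k M = Module.finrank k N) :
    Nonempty (M ≃ₗ[R] N) := by
  obtain ⟨S₀, hS₀⟩ := exists_simple_left_ideal k R
  obtain ⟨m, ⟨e⟩⟩ := exists_linearEquiv_fun k R S₀ M
  obtain ⟨n, ⟨e'⟩⟩ := exists_linearEquiv_fun k R S₀ N
  have h1 := finrank_eq_of_linearEquiv_fun k R S₀ M m e
  have h2 := finrank_eq_of_linearEquiv_fun k R S₀ N n e'
  have : Module.Finite k S₀ := Module.Finite.of_injective (S₀.subtype.restrictScalars k)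
    S₀.subtype_injective
  have : Nontrivial S₀ := IsSimpleModule.nontrivial R S₀
  have hs : 0 < Module.finrank k S₀ := Module.finrank_pos
  have hmn : m = n := by
    rw [h1, h2] at h
    exact Nat.eq_of_mul_eq_mul_right hs h
  subst hmn
  exact ⟨e.trans e'.symm⟩

end Mod

section Twist
variable {k : Type u} [Field k] {R : Type v} [Ring R] [Algebra k R] {V : Type w}
  [AddCommGroup V] [Module k V]

/-- `V` regarded as an `R`-module through an algebra map `R → End_k V`. -/
def Tw (_φ : R →ₐ[k] Module.End k V) : Type w := V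

namespace Tw
variable (φ : R →ₐ[k] Module.End k V)

instance : AddCommGroup (Tw φ) := inferInstanceAs (AddCommGroup V)
instance : Module k (Tw φ) := inferInstanceAs (Module k V)
instance : Module R (Tw φ) := Module.compHom V φ.toRingHom

theorem smul_def (r : R) (v : V) : (r • (show Tw φ from v) : Tw φ) = φ r v := rfl

instance : IsScalarTower k R (Tw φ) :=
  ⟨fun c r v => by
    show φ (c • r) (show V from v) = c • φ r (show V from v)
    rw [map_smul]; rfl⟩

instance [FiniteDimensional k V] : FiniteDimensional k (Tw φ) :=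
  inferInstanceAs (FiniteDimensional k V)

end Tw

/-- any two representations of a finite simple algebra on the same finite-dimensional space are
conjugate. -/
theorem exists_conj [IsSimpleRing R] [FiniteDimensional k R] [FiniteDimensional k V]
    (φ ψ : R →ₐ[k] Module.End k V) :
    ∃ T : V ≃ₗ[k] V, ∀ (r : R) (v : V), T (φ r v) = ψ r (T v) := by
  have hfr : Module.finrank k (Tw φ) = Module.finrank k (Tw ψ) := rfl
  obtain ⟨e⟩ := nonempty_linearEquiv_of_finrank_eq k R (Tw φ) (Tw ψ) hfr
  refine ⟨(e.restrictScalars k : Tw φ ≃ₗ[k] Tw ψ), fun r v => ?_⟩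
  exact e.map_smul r (show Tw φ from v)

end Twist

section SN
variable (k : Type u) [Field k] (A : Type v) [Ring A] [Algebra k A] [Algebra.IsCentral k A]
  [IsSimpleRing A] [FiniteDimensional k A] (B : Type w) [Ring B] [Algebra k B] [IsSimpleRing B]

/-- S0186: the Skolem–Noether theorem. -/
theorem skolem_noether (f g : B →ₐ[k] A) :
    ∃ x : Aˣ, ∀ b : B, f b = (x : A) * g b * (x⁻¹ : Aˣ) := by
  have hB : FiniteDimensional k B :=
    FiniteDimensional.of_injective f.toLinearMap f.toRingHom.injective
  have hR : IsSimpleRing (B ⊗[k] Aᵐᵒᵖ) := isSimpleRing_tensor k B Aᵐᵒᵖ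
  set φf : B ⊗[k] Aᵐᵒᵖ →ₐ[k] Module.End k A :=
    (AlgHom.mulLeftRight k A).comp (Algebra.TensorProduct.map f (AlgHom.id k Aᵐᵒᵖ)) with hφf
  set φg : B ⊗[k] Aᵐᵒᵖ →ₐ[k] Module.End k A :=
    (AlgHom.mulLeftRight k A).comp (Algebra.TensorProduct.map g (AlgHom.id k Aᵐᵒᵖ)) with hφg
  have hf : ∀ (b : B) (a x : A), φf (b ⊗ₜ op a) x = f b * x * a := by
    intro b a x
    rw [hφf, AlgHom.comp_apply, Algebra.TensorProduct.map_tmul, AlgHom.mulLeftRight_apply]
    rfl
  have hg : ∀ (b : B) (a x : A), φg (b ⊗ₜ op a) x = g b * x * a := by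
    intro b a x
    rw [hφg, AlgHom.comp_apply, Algebra.TensorProduct.map_tmul, AlgHom.mulLeftRight_apply]
    rfl
  obtain ⟨T, hT⟩ := exists_conj φg φf
  have hT' : ∀ (r : B ⊗[k] Aᵐᵒᵖ) (w : A), T.symm (φf r w) = φg r (T.symm w) := by
    intro r w
    apply T.injective
    rw [hT, T.apply_symm_apply, T.apply_symm_apply]
  set u := T 1 with hu
  set u' := T.symm 1 with hu'
  have h1 : ∀ a : A, T a = u * a := by
    intro a
    have := hT (1 ⊗ₜ op a) 1
    rw [hg, hf, map_one, map_one, one_mul, one_mul, one_mul] at this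
    exact this
  have h2 : ∀ a : A, T.symm a = u' * a := by
    intro a
    have := hT' (1 ⊗ₜ op a) 1
    rw [hg, hf, map_one, map_one, one_mul, one_mul, one_mul] at this
    exact this
  have h3 : u * u' = 1 := by rw [← h1, hu', T.apply_symm_apply]
  have h4 : u' * u = 1 := by rw [← h2, hu, T.symm_apply_apply]
  have h5 : ∀ b : B, u * g b = f b * u := by
    intro b
    have := hT (b ⊗ₜ op 1) 1
    rw [hg, hf, mul_one, mul_one, mul_one, h1] at this
    exact this
  refine ⟨⟨u, u', h3, h4⟩, fun b => ?_⟩
  show f b = u * g b * u'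
  rw [h5, mul_assoc, h3, mul_one]

end SN

end Groth.Agent.H7.CSA
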