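import Mathlib
import Groth.Agent.Lib.Helper7.CSA5
universe u v w

namespace Groth.Agent.H7.CSA

open TensorProduct MulOpposite

section Centralizer
variable (k : Type u) [Field k] (A : Type v) [Ring A] [Algebra k A]

/-- the representation of `B ⊗ Aᵒᵖ` on `A` by `(b ⊗ a) x = b x a`. -/
noncomputable def bimodRep (B : Subalgebra k A) : B ⊗[k] Aᵐᵒᵖ →ₐ[k] Module.End k A :=
  (AlgHom.mulLeftRight k A).comp (Algebra.TensorProduct.map B.val (AlgHom.id k Aᵐᵒᵖ))

theorem bimodRep_tmul (B : Subalgebra k A) (b : B) (a x : A) :
    bimodRep k A B (b ⊗ₜ op a) x = (b : A) * x * a := by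
  rw [bimodRep, AlgHom.comp_apply, Algebra.TensorProduct.map_tmul, AlgHom.mulLeftRight_apply]
  rfl

/-- left multiplication by an element of the centralizer commutes with the bimodule action. -/
theorem mulLeft_comm_bimodRep (B : Subalgebra k A) (c : Subalgebra.centralizer k (B : Set A))
    (r : B ⊗[k] Aᵐᵒᵖ) (x : A) :
    LinearMap.mulLeft k (c : A) (bimodRep k A B r x) =
      bimodRep k A B r (LinearMap.mulLeft k (c : A) x) := by
  induction r using TensorProduct.induction_on with
  | zero => simp
  | tmul b a =>
    obtain ⟨a, rfl⟩ := MulOpposite.op_surjective a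
    rw [bimodRep_tmul, bimodRep_tmul, LinearMap.mulLeft_apply, LinearMap.mulLeft_apply]
    have hc : (b : A) * (c : A) = (c : A) * (b : A) := c.2 b b.2
    rw [← mul_assoc, ← mul_assoc, ← mul_assoc, hc]
  | add r₁ r₂ h₁ h₂ =>
    rw [map_add, LinearMap.add_apply, LinearMap.add_apply, map_add, h₁, h₂]

/-- left multiplication by an element of the centralizer, as an endomorphism of the bimodule. -/
noncomputable def centralizerToEnd (B : Subalgebra k A) :
    Subalgebra.centralizer k (B : Set A) →ₐ[k]
      Module.End (B ⊗[k] Aᵐᵒᵖ) (Tw (bimodRep k A B)) where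
  toFun c :=
    { toFun := LinearMap.mulLeft k (c : A)
      map_add' := (LinearMap.mulLeft k (c : A)).map_add
      map_smul' := fun r x => mulLeft_comm_bimodRep k A B c r x }
  map_one' := LinearMap.ext fun x => one_mul (M := A) x
  map_mul' c c' := LinearMap.ext fun x => mul_assoc (G := A) (c : A) (c' : A) x
  map_zero' := LinearMap.ext fun x => zero_mul (M₀ := A) x
  map_add' c c' := LinearMap.ext fun x => add_mul (R := A) (c : A) (c' : A) x
  commutes' r := LinearMap.ext fun x => (Algebra.smul_def (A := A) r x).symm

theorem centralizerToEnd_apply (B : Subalgebra k A) (c : Subalgebra.centralizer k (B : Set A))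
    (x : A) : centralizerToEnd k A B c (show Tw (bimodRep k A B) from x) = ((c : A) * x : A) :=
  rfl

theorem centralizerToEnd_bijective (B : Subalgebra k A) :
    Function.Bijective (centralizerToEnd k A B) := by
  constructor
  · rw [injective_iff_map_eq_zero]
    intro c hc
    have := LinearMap.congr_fun hc (show Tw (bimodRep k A B) from (1 : A))
    rw [centralizerToEnd_apply, mul_one] at this
    exact Subtype.ext this
  · intro T
    set c : A := T (show Tw (bimodRep k A B) from (1 : A)) with hc
    have hT : ∀ (r : B ⊗[k] Aᵐᵒᵖ) (x : A), (T (show Tw (bimodRep k A B) from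
        (bimodRep k A B r x)) : A) = bimodRep k A B r (T (show Tw (bimodRep k A B) from x)) :=
      fun r x => T.map_smul r (show Tw (bimodRep k A B) from x)
    have h1 : ∀ x : A, (T (show Tw (bimodRep k A B) from x) : A) = c * x := by
      intro x
      have := hT (1 ⊗ₜ op x) 1
      rw [bimodRep_tmul, bimodRep_tmul] at this
      simpa using this
    have hcmem : c ∈ Subalgebra.centralizer k (B : Set A) := by
      rw [Subalgebra.mem_centralizer_iff]
      intro b hb
      have := hT ((⟨b, hb⟩ : B) ⊗ₜ op 1) 1
      rw [bimodRep_tmul, bimodRep_tmul] at this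
      simp only [mul_one] at this
      rw [h1] at this
      exact this.symm
    refine ⟨⟨c, hcmem⟩, ?_⟩
    apply LinearMap.ext
    intro x
    exact (h1 x).symm

variable [Algebra.IsCentral k A] [IsSimpleRing A] [FiniteDimensional k A]

/-- S0187: the centralizer of a simple subalgebra is simple. -/
theorem isSimpleRing_centralizer (B : Subalgebra k A) [IsSimpleRing B] :
    IsSimpleRing (Subalgebra.centralizer k (B : Set A)) := by
  have hR : IsSimpleRing (B ⊗[k] Aᵐᵒᵖ) := isSimpleRing_tensor k B Aᵐᵒᵖ
  have hnt : Nontrivial (Tw (bimodRep k A B)) := inferInstanceAs (Nontrivial A)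
  have := isSimpleRing_end k (B ⊗[k] Aᵐᵒᵖ) (Tw (bimodRep k A B))
  exact IsSimpleRing.of_ringEquiv
    (AlgEquiv.ofBijective (centralizerToEnd k A B)
      (centralizerToEnd_bijective k A B)).symm.toRingEquiv this

/-- S0188: `dim A = dim B · dim C_A(B)`. -/
theorem finrank_centralizer (B : Subalgebra k A) [IsSimpleRing B] :
    Module.finrank k A =
      Module.finrank k B * Module.finrank k (Subalgebra.centralizer k (B : Set A)) := by
  have hR : IsSimpleRing (B ⊗[k] Aᵐᵒᵖ) := isSimpleRing_tensor k B Aᵐᵒᵖ
  have h1 := finrank_end_mul_finrank k (B ⊗[k] Aᵐᵒᵖ) (Tw (bimodRep k A B))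
  have h2 : Module.finrank k (Module.End (B ⊗[k] Aᵐᵒᵖ) (Tw (bimodRep k A B))) =
      Module.finrank k (Subalgebra.centralizer k (B : Set A)) :=
    ((AlgEquiv.ofBijective (centralizerToEnd k A B)
      (centralizerToEnd_bijective k A B)).toLinearEquiv.finrank_eq).symm
  have h3 : Module.finrank k (B ⊗[k] Aᵐᵒᵖ) = Module.finrank k B * Module.finrank k A := by
    rw [Module.finrank_tensorProduct, ← (MulOpposite.opLinearEquiv k : A ≃ₗ[k] Aᵐᵒᵖ).finrank_eq]
  have h4 : Module.finrank k (Tw (bimodRep k A B)) = Module.finrank k A := rfl
  rw [h2, h3, h4] at h1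
  have hpos : 0 < Module.finrank k A := Module.finrank_pos
  have : Module.finrank k A * (Module.finrank k B *
      Module.finrank k (Subalgebra.centralizer k (B : Set A))) =
      Module.finrank k A * Module.finrank k A := by
    rw [← pow_two, ← h1]; ring
  exact (Nat.eq_of_mul_eq_mul_left hpos this).symm

/-- S0189: the double centralizer theorem. -/
theorem centralizer_centralizer (B : Subalgebra k A) [IsSimpleRing B] :
    Subalgebra.centralizer k (Subalgebra.centralizer k (B : Set A) : Set A) = B := by
  have hC : IsSimpleRing (Subalgebra.centralizer k (B : Set A)) := isSimpleRing_centralizer k A B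
  have h1 := finrank_centralizer k A B
  have h2 := finrank_centralizer k A (Subalgebra.centralizer k (B : Set A))
  have hle : B ≤ Subalgebra.centralizer k (Subalgebra.centralizer k (B : Set A) : Set A) :=
    Subalgebra.le_centralizer_centralizer k
  have hpos : 0 < Module.finrank k (Subalgebra.centralizer k (B : Set A)) := Module.finrank_pos
  have h3 : Module.finrank k B = Module.finrank k
      (Subalgebra.centralizer k (Subalgebra.centralizer k (B : Set A) : Set A)) := by
    rw [h1, mul_comm] at h2
    exact Nat.eq_of_mul_eq_mul_left hpos h2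
  symm
  apply Subalgebra.toSubmodule_injective
  exact Submodule.eq_of_le_of_finrank_eq hle h3

/-- S0194: `B ⊗ C_A(B) ≅ A` for a central simple subalgebra `B`. -/
theorem lift_centralizer_bijective (B : Subalgebra k A) [IsSimpleRing B]
    [Algebra.IsCentral k B] :
    Function.Bijective (Algebra.TensorProduct.lift B.val
      (Subalgebra.centralizer k (B : Set A)).val (fun x y => y.2 x.1 x.2)) := by
  have hC : IsSimpleRing (Subalgebra.centralizer k (B : Set A)) := isSimpleRing_centralizer k A B
  have hCB : IsSimpleRing ((Subalgebra.centralizer k (B : Set A)) ⊗[k] B) :=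
    isSimpleRing_tensor k _ B
  have hBC : IsSimpleRing (B ⊗[k] (Subalgebra.centralizer k (B : Set A))) :=
    IsSimpleRing.of_ringEquiv
      (Algebra.TensorProduct.comm k (Subalgebra.centralizer k (B : Set A)) B).toRingEquiv hCB
  set ν := Algebra.TensorProduct.lift B.val
      (Subalgebra.centralizer k (B : Set A)).val (fun x y => y.2 x.1 x.2) with hν
  have hinj : Function.Injective ν := ν.toRingHom.injective
  have hfin : Module.finrank k (B ⊗[k] (Subalgebra.centralizer k (B : Set A))) =
      Module.finrank k A := by
    rw [Module.finrank_tensorProduct, ← finrank_centralizer k A B]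
  have hinj' : Function.Injective ν.toLinearMap := hinj
  exact ⟨hinj, (LinearMap.injective_iff_surjective_of_finrank_eq_finrank hfin).mp hinj'⟩

end Centralizer

end Groth.Agent.H7.CSA
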