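import Mathlib
import Groth.Agent.Lib.Helper7.CSA6
universe u v w

namespace Groth.Agent.H7.CSA

open TensorProduct MulOpposite

section MaxComm

/-- a subalgebra of a finite-dimensional algebra without zero divisors is a simple ring. -/
theorem isSimpleRing_subalgebra (k : Type u) [Field k] (D : Type v) [Ring D] [Algebra k D]
    [NoZeroDivisors D] [Nontrivial D] [FiniteDimensional k D] (L : Subalgebra k D) :
    IsSimpleRing L := by
  refine IsSimpleRing.of_eq_bot_or_eq_top fun I => ?_
  by_cases hI : I = ⊥
  · exact Or.inl hI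
  · right
    obtain ⟨x, hx, hx0⟩ := SetLike.exists_of_lt (bot_lt_iff_ne_bot.mpr hI)
    have hx0' : x ≠ 0 := fun h => hx0 (by rw [h]; exact TwoSidedIdeal.zero_mem _)
    have hinj : Function.Injective (LinearMap.mulLeft k x) := by
      intro a b hab
      simp only [LinearMap.mulLeft_apply] at hab
      exact mul_left_cancel₀ hx0' hab
    obtain ⟨y, hy⟩ := (LinearMap.injective_iff_surjective.mp hinj) 1
    rw [LinearMap.mulLeft_apply] at hy
    have h1 : (1 : L) ∈ I := by rw [← hy]; exact I.mul_mem_right _ _ hx
    exact (TwoSidedIdeal.one_mem_iff I).mp h1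

/-- a maximal commutative subalgebra is its own centralizer. -/
theorem centralizer_eq_of_maximal_comm (k : Type u) [Field k] (A : Type v) [Ring A]
    [Algebra k A] (L : Subalgebra k A) (hcomm : ∀ x ∈ L, ∀ y ∈ L, x * y = y * x)
    (hmax : ∀ L' : Subalgebra k A, (∀ x ∈ L', ∀ y ∈ L', x * y = y * x) → L ≤ L' → L' = L) :
    Subalgebra.centralizer k (L : Set A) = L := by
  apply le_antisymm
  · intro x hx
    rw [Subalgebra.mem_centralizer_iff] at hx
    set s : Set A := (L : Set A) ∪ {x} with hs
    have hsc : ∀ a ∈ s, ∀ b ∈ s, Commute a b := by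
      rintro a (ha | ha) b (hb | hb)
      · exact hcomm a ha b hb
      · rw [Set.mem_singleton_iff] at hb; subst hb; exact hx a ha
      · rw [Set.mem_singleton_iff] at ha; subst ha; exact (hx b hb).symm
      · rw [Set.mem_singleton_iff] at ha hb; subst ha; subst hb; exact Commute.refl _
    have hL' : ∀ a ∈ Algebra.adjoin k s, ∀ b ∈ Algebra.adjoin k s, a * b = b * a := by
      intro a ha b hb
      refine Algebra.commute_of_mem_adjoin_of_forall_mem_commute hb fun b' hb' => ?_
      exact (Algebra.commute_of_mem_adjoin_of_forall_mem_commute ha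
        fun a' ha' => hsc b' hb' a' ha').symm
    have hle : L ≤ Algebra.adjoin k s := fun l hl =>
      Algebra.subset_adjoin (Or.inl hl)
    have := hmax _ hL' hle
    rw [← this]
    exact Algebra.subset_adjoin (Or.inr rfl)
  · intro x hx
    rw [Subalgebra.mem_centralizer_iff]
    intro g hg
    exact hcomm g hg x hx

/-- S0196 -/
theorem finrank_eq_sq_of_maximal_comm (k : Type u) [Field k]
    (D : Type v) [DivisionRing D] [Algebra k D] [Algebra.IsCentral k D] [FiniteDimensional k D]
    (L : Subalgebra k D) (hcomm : ∀ x ∈ L, ∀ y ∈ L, x * y = y * x)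
    (hmax : ∀ L' : Subalgebra k D, (∀ x ∈ L', ∀ y ∈ L', x * y = y * x) → L ≤ L' → L' = L) :
    Module.finrank k D = Module.finrank k L ^ 2 := by
  have hs : IsSimpleRing L := isSimpleRing_subalgebra k D L
  have h1 := finrank_centralizer k D L
  rw [centralizer_eq_of_maximal_comm k D L hcomm hmax] at h1
  rw [h1, pow_two]

end MaxComm

end Groth.Agent.H7.CSA
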