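import Mathlib
import Groth.Agent.Lib.Helper7.CSA7
universe u v w

namespace Groth.Agent.H7.CSA

open TensorProduct MulOpposite

section SepClosed

/-- if `M_n(D)` is central then so is `D`. -/
theorem isCentral_of_matrix (K : Type u) [Field K] (D : Type v) [Ring D] [Algebra K D] (n : ℕ)
    [NeZero n] [Algebra.IsCentral K (Matrix (Fin n) (Fin n) D)] : Algebra.IsCentral K D := by
  constructor
  intro d hd
  have h1 : Matrix.scalarAlgHom (Fin n) K d ∈
      Subalgebra.center K (Matrix (Fin n) (Fin n) D) := by
    rw [Matrix.subalgebraCenter_eq_scalarAlgHom_map]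
    exact ⟨d, hd, rfl⟩
  obtain ⟨c, hc⟩ := (Algebra.IsCentral.mem_center_iff K).mp h1
  refine ⟨c, ?_⟩
  have h2 := congrFun (congrFun hc 0) 0
  simp only [Matrix.scalarAlgHom_apply, Matrix.scalar_apply, Matrix.diagonal_apply_eq,
    Matrix.algebraMap_matrix_apply, if_true] at h2
  exact h2.symm

/-- a central division algebra, algebraic over a separably closed field, is trivial. -/
theorem bot_eq_top_of_isSepClosed (K : Type u) [Field K] [IsSepClosed K] (D : Type v)
    [DivisionRing D] [Algebra K D] [Algebra.IsCentral K D] [Algebra.IsAlgebraic K D] :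
    (⊥ : Subalgebra K D) = ⊤ := by
  by_contra hne
  obtain ⟨x, hx, hsep⟩ := JacobsonNoether.exists_separable_and_not_isCentral' hne
  apply hx
  have hint : IsIntegral K x := (Algebra.IsAlgebraic.isAlgebraic x).isIntegral
  have hdeg := IsSepClosed.degree_eq_one_of_irreducible K (minpoly.irreducible hint) hsep
  have := minpoly.mem_range_of_degree_eq_one K x hdeg
  rw [Algebra.mem_bot]
  exact this

/-- a finite central simple algebra is split by any separably closed extension. -/
theorem exists_algEquiv_matrix_of_isSepClosed (k : Type u) [Field k] (A : Type v) [Ring A]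
    [Algebra k A] [Algebra.IsCentral k A] [IsSimpleRing A] [FiniteDimensional k A]
    (K : Type w) [Field K] [Algebra k K] [IsSepClosed K] :
    ∃ (n : ℕ) (_ : NeZero n), Nonempty (K ⊗[k] A ≃ₐ[K] Matrix (Fin n) (Fin n) K) := by
  have h1 : IsSimpleRing (K ⊗[k] A) := isSimpleRing_tensor k K A
  have h2 : Algebra.IsCentral K (K ⊗[k] A) := isCentral_baseChange k A K
  have h3 : IsArtinianRing (K ⊗[k] A) := IsArtinianRing.of_finite K (K ⊗[k] A)
  obtain ⟨n, hn, D, hD, hKD, hfin, ⟨e⟩⟩ :=
    IsSimpleRing.exists_algEquiv_matrix_divisionRing_finite K (K ⊗[k] A)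
  have h4 : Algebra.IsCentral K (Matrix (Fin n) (Fin n) D) :=
    Algebra.IsCentral.of_algEquiv K _ _ e
  have h5 : Algebra.IsCentral K D := isCentral_of_matrix K D n
  have h6 := bot_eq_top_of_isSepClosed K D
  have eD : D ≃ₐ[K] K :=
    (Subalgebra.topEquiv (R := K) (A := D)).symm.trans
      ((Subalgebra.equivOfEq _ _ h6.symm).trans (Algebra.botEquiv K D))
  exact ⟨n, hn, ⟨e.trans eD.mapMatrix⟩⟩

end SepClosed

section FiniteSplit

/-- a `k`-algebra map from a finite central simple algebra of dimension `n²` to `M_n(k')`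
induces an isomorphism `k' ⊗ A ≅ M_n(k')`. -/
theorem split_of_algHom (k : Type u) [Field k] (A : Type v) [Ring A]
    [Algebra k A] [Algebra.IsCentral k A] [IsSimpleRing A] [FiniteDimensional k A]
    (k' : Type w) [Field k'] [Algebra k k'] (n : ℕ) [NeZero n]
    (hn : Module.finrank k A = n * n) (ψ : A →ₐ[k] Matrix (Fin n) (Fin n) k') :
    Nonempty (k' ⊗[k] A ≃ₐ[k'] Matrix (Fin n) (Fin n) k') := by
  have h1 : IsSimpleRing (k' ⊗[k] A) := isSimpleRing_tensor k k' A
  set Φ : k' ⊗[k] A →ₐ[k'] Matrix (Fin n) (Fin n) k' :=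
    Algebra.TensorProduct.lift (Algebra.ofId k' _) ψ
      (fun x y => Algebra.commute_algebraMap_left x (ψ y)) with hΦ
  have hinj : Function.Injective Φ := Φ.toRingHom.injective
  have hfin : Module.finrank k' (k' ⊗[k] A) =
      Module.finrank k' (Matrix (Fin n) (Fin n) k') := by
    rw [Module.finrank_baseChange, Module.finrank_matrix, hn]
    simp
  have hinj' : Function.Injective Φ.toLinearMap := hinj
  have hsurj := (LinearMap.injective_iff_surjective_of_finrank_eq_finrank hfin).mp hinj'
  exact ⟨AlgEquiv.ofBijective Φ ⟨hinj, hsurj⟩⟩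

/-- S0199: every finite central simple algebra is split by a finite separable extension. -/
theorem exists_finite_separable_split (k : Type u) [Field k] (A : Type v) [Ring A]
    [Algebra k A] [Algebra.IsCentral k A] [IsSimpleRing A] [FiniteDimensional k A] :
    ∃ (k' : Type u) (_ : Field k') (_ : Algebra k k'), FiniteDimensional k k' ∧
      Algebra.IsSeparable k k' ∧
      ∃ n : ℕ, n ≠ 0 ∧ Nonempty (k' ⊗[k] A ≃ₐ[k'] Matrix (Fin n) (Fin n) k') := by
  classical
  obtain ⟨n, hn, ⟨φ⟩⟩ := exists_algEquiv_matrix_of_isSepClosed k A (SeparableClosure k)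
  have hdim : Module.finrank k A = n * n := by
    rw [← Module.finrank_baseChange (R := SeparableClosure k), φ.toLinearEquiv.finrank_eq,
      Module.finrank_matrix]
    simp
  set K := SeparableClosure k with hK
  set ψ : A →ₐ[k] Matrix (Fin n) (Fin n) K :=
    (φ.toAlgHom.restrictScalars k).comp Algebra.TensorProduct.includeRight with hψ
  set b := Module.finBasis k A with hb
  set S : Set K := Set.range (fun t : Fin (Module.finrank k A) × Fin n × Fin n =>
    ψ (b t.1) t.2.1 t.2.2) with hS
  have hSfin : Finite S := Set.finite_range _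
  set k' := IntermediateField.adjoin k S with hk'
  have hfd : FiniteDimensional k k' :=
    IntermediateField.finiteDimensional_adjoin
      (fun x _ => (Algebra.IsSeparable.isIntegral k x))
  have hsep : Algebra.IsSeparable k k' := Algebra.isSeparable_tower_bot_of_isSeparable k k' K
  -- all entries of `ψ a` lie in `k'`
  have hmem : ∀ (a : A) (p q : Fin n), ψ a p q ∈ k' := by
    intro a p q
    rw [← b.sum_repr a, map_sum, Matrix.sum_apply]
    refine sum_mem fun i _ => ?_
    rw [map_smul, Matrix.smul_apply]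
    refine IntermediateField.smul_mem _ ?_
    exact IntermediateField.subset_adjoin k S ⟨(i, p, q), rfl⟩
  set ι : Matrix (Fin n) (Fin n) k' →ₐ[k] Matrix (Fin n) (Fin n) K := k'.val.mapMatrix with hι
  have hιinj : Function.Injective ι := by
    intro M N hMN
    apply Matrix.ext
    intro p q
    have := congrFun (congrFun hMN p) q
    exact Subtype.ext this
  have hrange : ∀ a : A, ψ a ∈ ι.range := by
    intro a
    refine ⟨Matrix.of fun p q => ⟨ψ a p q, hmem a p q⟩, ?_⟩
    ext p q
    rfl
  set ψ' : A →ₐ[k] Matrix (Fin n) (Fin n) k' :=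
    (AlgEquiv.ofInjective ι hιinj).symm.toAlgHom.comp (ψ.codRestrict ι.range hrange) with hψ'
  exact ⟨k', inferInstance, inferInstance, hfd, hsep, n, hn.ne,
    split_of_algHom k A k' n hdim ψ'⟩

end FiniteSplit

end Groth.Agent.H7.CSA
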