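import Mathlib
import Groth.Agent.Lib.Helper7.CSA8
universe u v w

namespace Groth.Agent.H7.CSA

open TensorProduct MulOpposite

section GaloisSplit

/-- descent of a splitting over the separable closure to a finite subextension. -/
theorem exists_algHom_matrix_intermediate (k : Type u) [Field k] (A : Type v) [Ring A]
    [Algebra k A] [Algebra.IsCentral k A] [IsSimpleRing A] [FiniteDimensional k A] :
    ∃ (n : ℕ) (_ : NeZero n) (k' : IntermediateField k (SeparableClosure k)),
      Module.finrank k A = n * n ∧ FiniteDimensional k k' ∧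
      Nonempty (A →ₐ[k] Matrix (Fin n) (Fin n) k') := by
  classical
  obtain ⟨n, hn, ⟨φ⟩⟩ := exists_algEquiv_matrix_of_isSepClosed k A (SeparableClosure k)
  have hdim : Module.finrank k A = n * n := by
    rw [← Module.finrank_baseChange (R := SeparableClosure k), φ.toLinearEquiv.finrank_eq,
      Module.finrank_matrix]
    simp
  set K := SeparableClosure k with hK
  set ψ : A →ₐ[k] Matrix (Fin n) (Fin n) K :=
    (φ.toAlgHom.restrictScalars k).comp Algebra.TensorProduct.includeRight with hψ
  set b := Module.finBasis k A with hb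
  set S : Set K := Set.range (fun t : Fin (Module.finrank k A) × Fin n × Fin n =>
    ψ (b t.1) t.2.1 t.2.2) with hS
  have hSfin : Finite S := Set.finite_range _
  set k' := IntermediateField.adjoin k S with hk'
  have hfd : FiniteDimensional k k' :=
    IntermediateField.finiteDimensional_adjoin
      (fun x _ => (Algebra.IsSeparable.isIntegral k x))
  have hmem : ∀ (a : A) (p q : Fin n), ψ a p q ∈ k' := by
    intro a p q
    rw [← b.sum_repr a, map_sum, Matrix.sum_apply]
    refine sum_mem fun i _ => ?_
    rw [map_smul, Matrix.smul_apply]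
    refine IntermediateField.smul_mem _ ?_
    exact IntermediateField.subset_adjoin k S ⟨(i, p, q), rfl⟩
  set ι : Matrix (Fin n) (Fin n) k' →ₐ[k] Matrix (Fin n) (Fin n) K := k'.val.mapMatrix with hι
  have hιinj : Function.Injective ι := by
    intro M N hMN
    apply Matrix.ext
    intro p q
    have := congrFun (congrFun hMN p) q
    exact Subtype.ext this
  have hrange : ∀ a : A, ψ a ∈ ι.range := by
    intro a
    refine ⟨Matrix.of fun p q => ⟨ψ a p q, hmem a p q⟩, ?_⟩
    ext p q
    rfl
  exact ⟨n, hn, k', hdim, hfd,
    ⟨(AlgEquiv.ofInjective ι hιinj).symm.toAlgHom.comp (ψ.codRestrict ι.range hrange)⟩⟩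

/-- S0201: every finite central simple algebra is split by a finite Galois extension. -/
theorem exists_finite_galois_split (k : Type u) [Field k] (A : Type v) [Ring A]
    [Algebra k A] [Algebra.IsCentral k A] [IsSimpleRing A] [FiniteDimensional k A] :
    ∃ (k' : Type u) (_ : Field k') (_ : Algebra k k'), FiniteDimensional k k' ∧
      IsGalois k k' ∧
      ∃ n : ℕ, n ≠ 0 ∧ Nonempty (k' ⊗[k] A ≃ₐ[k'] Matrix (Fin n) (Fin n) k') := by
  obtain ⟨n, hn, k', hdim, hfd, ⟨ψ⟩⟩ := exists_algHom_matrix_intermediate k A
  set k'' := IntermediateField.normalClosure k k' (SeparableClosure k) with hk''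
  have hle : k' ≤ k'' := IntermediateField.le_normalClosure k'
  have hsep : Algebra.IsSeparable k k'' :=
    Algebra.isSeparable_tower_bot_of_isSeparable k k'' (SeparableClosure k)
  have hnorm : Normal k k'' := inferInstance
  have hgal : IsGalois k k'' := ⟨⟩
  have hfd'' : FiniteDimensional k k'' := inferInstance
  set ψ'' : A →ₐ[k] Matrix (Fin n) (Fin n) k'' :=
    (IntermediateField.inclusion hle).mapMatrix.comp ψ with hψ''
  exact ⟨k'', inferInstance, inferInstance, hfd'', hgal, n, hn.ne,
    split_of_algHom k A k'' n hdim ψ''⟩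

end GaloisSplit

section SplitDegree

/-- S0197: the degree of a finite splitting field of a central division algebra of dimension
`d²` is divisible by `d`. -/
theorem dvd_finrank_of_split (k : Type u) [Field k]
    (D : Type v) [DivisionRing D] [Algebra k D] [FiniteDimensional k D]
    (d : ℕ) (hd : Module.finrank k D = d ^ 2)
    (k' : Type w) [Field k'] [Algebra k k'] [FiniteDimensional k k'] (n : ℕ) (hn : n ≠ 0)
    (e : k' ⊗[k] D ≃ₐ[k'] Matrix (Fin n) (Fin n) k') :
    d ∣ Module.finrank k k' := by
  have hnd : n = d := by
    have h1 : Module.finrank k' (k' ⊗[k] D) = Module.finrank k' (Matrix (Fin n) (Fin n) k') :=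
      e.toLinearEquiv.finrank_eq
    rw [Module.finrank_baseChange, Module.finrank_matrix, hd] at h1
    simp only [Fintype.card_fin, Module.finrank_self, mul_one] at h1
    rw [pow_two] at h1
    exact (Nat.mul_self_inj.mp h1).symm
  subst hnd
  set f : D →ₐ[k] Matrix (Fin n) (Fin n) k' :=
    (e.toAlgHom.restrictScalars k).comp Algebra.TensorProduct.includeRight with hf
  let _ : Module D (Fin n → k') := Module.compHom (Fin n → k') f.toRingHom
  have hsmul : ∀ (x : D) (v : Fin n → k'), x • v = (f x).mulVec v := fun x v => rfl
  have : IsScalarTower k D (Fin n → k') := ⟨fun c x v => by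
    rw [hsmul, hsmul, map_smul, Matrix.smul_mulVec]⟩
  have h2 := Module.finrank_mul_finrank k D (Fin n → k')
  rw [hd, Module.finrank_pi_fintype] at h2
  simp only [Finset.sum_const, Finset.card_univ, Fintype.card_fin, smul_eq_mul] at h2
  have hn0 : 0 < n := Nat.pos_of_ne_zero hn
  refine ⟨Module.finrank D (Fin n → k'), ?_⟩
  have : n * (n * Module.finrank D (Fin n → k')) = n * Module.finrank k k' := by
    rw [← h2]; ring
  exact (Nat.eq_of_mul_eq_mul_left hn0 this).symm

end SplitDegree

end Groth.Agent.H7.CSA
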