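import Mathlib
import Groth.Agent.Lib.Helper7.CSA9
universe u v w

namespace Groth.Agent.H7.CSA

open TensorProduct MulOpposite

section TensorSplit

theorem finrank_eq_of_split (k : Type u) [Field k] (A : Type v) [Ring A] [Algebra k A]
    (K : Type w) [Field K] [Algebra k K] (n : ℕ)
    (e : K ⊗[k] A ≃ₐ[K] Matrix (Fin n) (Fin n) K) : Module.finrank k A = n * n := by
  rw [← Module.finrank_baseChange (R := K), e.toLinearEquiv.finrank_eq, Module.finrank_matrix]
  simp

/-- S7737: if `K` splits `A` and `B` then it splits `A ⊗ B`. -/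
theorem split_tensor (k : Type u) [Field k] (K : Type v) [Field K] [Algebra k K]
    (A : Type w) [Ring A] [Algebra k A] [Algebra.IsCentral k A] [IsSimpleRing A]
    [FiniteDimensional k A]
    (B : Type w) [Ring B] [Algebra k B] [Algebra.IsCentral k B] [IsSimpleRing B]
    [FiniteDimensional k B] (n m : ℕ) (hn : n ≠ 0) (hm : m ≠ 0)
    (eA : K ⊗[k] A ≃ₐ[K] Matrix (Fin n) (Fin n) K)
    (eB : K ⊗[k] B ≃ₐ[K] Matrix (Fin m) (Fin m) K) :
    Nonempty (K ⊗[k] (A ⊗[k] B) ≃ₐ[K] Matrix (Fin (n * m)) (Fin (n * m)) K) := by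
  have : NeZero (n * m) := ⟨Nat.mul_ne_zero hn hm⟩
  have h1 : IsSimpleRing (A ⊗[k] B) := isSimpleRing_tensor k A B
  have h2 : Algebra.IsCentral k (A ⊗[k] B) := isCentral_tensor k A B
  have hdim : Module.finrank k (A ⊗[k] B) = (n * m) * (n * m) := by
    rw [Module.finrank_tensorProduct, finrank_eq_of_split k A K n eA,
      finrank_eq_of_split k B K m eB]
    ring
  set ψA : A →ₐ[k] Matrix (Fin n) (Fin n) K :=
    (eA.toAlgHom.restrictScalars k).comp Algebra.TensorProduct.includeRight with hψA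
  set ψB : B →ₐ[k] Matrix (Fin m) (Fin m) K :=
    (eB.toAlgHom.restrictScalars k).comp Algebra.TensorProduct.includeRight with hψB
  set κ := Matrix.kroneckerAlgEquiv (Fin n) (Fin m) K with hκ
  set f : A →ₐ[k] Matrix (Fin n × Fin m) (Fin n × Fin m) K :=
    ((κ.toAlgHom.comp Algebra.TensorProduct.includeLeft).restrictScalars k).comp ψA with hf
  set g : B →ₐ[k] Matrix (Fin n × Fin m) (Fin n × Fin m) K :=
    ((κ.toAlgHom.comp Algebra.TensorProduct.includeRight).restrictScalars k).comp ψB with hg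
  have hcomm : ∀ (a : A) (b : B), Commute (f a) (g b) := by
    intro a b
    show κ (ψA a ⊗ₜ 1) * κ (1 ⊗ₜ ψB b) = κ (1 ⊗ₜ ψB b) * κ (ψA a ⊗ₜ 1)
    rw [← map_mul, ← map_mul, Algebra.TensorProduct.tmul_mul_tmul,
      Algebra.TensorProduct.tmul_mul_tmul, mul_one, one_mul, mul_one, one_mul]
  set ψ : A ⊗[k] B →ₐ[k] Matrix (Fin (n * m)) (Fin (n * m)) K :=
    (Matrix.reindexAlgEquiv k K finProdFinEquiv).toAlgHom.comp
      (Algebra.TensorProduct.lift f g hcomm) with hψ
  exact split_of_algHom k (A ⊗[k] B) K (n * m) hdim ψ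

end TensorSplit

end Groth.Agent.H7.CSA
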