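import Mathlib
import Groth.Agent.Lib.Helper7.CSA10
universe u v w

namespace Groth.Agent.H7.CSA

open TensorProduct MulOpposite

section MatNorm
variable (K : Type u) [Field K] (n : ℕ)

theorem stdBasis_repr_apply (X : Matrix (Fin n) (Fin n) K) (a b : Fin n) :
    (Matrix.stdBasis K (Fin n) (Fin n)).repr X (a, b) = X a b := by
  have h : (Matrix.stdBasis K (Fin n) (Fin n)).coord (a, b) = Matrix.entryLinearMap K K a b := by
    apply (Matrix.stdBasis K (Fin n) (Fin n)).ext
    rintro ⟨c, d⟩
    rw [Module.Basis.coord_apply, Module.Basis.repr_self, Matrix.stdBasis_eq_single,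
      Matrix.entryLinearMap_apply, Finsupp.single_apply, Matrix.single_apply]
    simp only [Prod.mk.injEq]
  exact LinearMap.congr_fun h X

theorem toMatrix_mulLeft (M : Matrix (Fin n) (Fin n) K) :
    LinearMap.toMatrix (Matrix.stdBasis K (Fin n) (Fin n)) (Matrix.stdBasis K (Fin n) (Fin n))
      (LinearMap.mulLeft K M) = Matrix.kroneckerMap (fun x1 x2 => x1 * x2) M 1 := by
  ext ⟨a, b⟩ ⟨c, d⟩
  rw [LinearMap.toMatrix_apply, Matrix.kroneckerMap_apply, LinearMap.mulLeft_apply,
    Matrix.stdBasis_eq_single, stdBasis_repr_apply, Matrix.mul_apply]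
  simp only [Matrix.single_apply, Matrix.one_apply]
  by_cases hbd : b = d
  · subst hbd; simp
  · simp [hbd, Ne.symm hbd]

theorem det_mulLeft_matrix (M : Matrix (Fin n) (Fin n) K) :
    LinearMap.det (LinearMap.mulLeft K M) = M.det ^ n := by
  rw [← LinearMap.det_toMatrix (Matrix.stdBasis K (Fin n) (Fin n)), toMatrix_mulLeft,
    Matrix.det_kronecker]
  simp

theorem trace_mulLeft_matrix (M : Matrix (Fin n) (Fin n) K) :
    LinearMap.trace K _ (LinearMap.mulLeft K M) = n • M.trace := by
  rw [LinearMap.trace_eq_matrix_trace K (Matrix.stdBasis K (Fin n) (Fin n)), toMatrix_mulLeft,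
    Matrix.trace_kronecker]
  simp [mul_comm]

end MatNorm

section RedNorm
variable (k : Type u) [Field k] (A : Type v) [Ring A] [Algebra k A]
  (K : Type w) [Field K] [Algebra k K] (n : ℕ)
  (φ : K ⊗[k] A ≃ₐ[K] Matrix (Fin n) (Fin n) K)

theorem baseChange_mulLeft (a : A) :
    (LinearMap.mulLeft k a).baseChange K = LinearMap.mulLeft K ((1 : K) ⊗ₜ[k] a) := by
  apply LinearMap.ext
  intro z
  induction z using TensorProduct.induction_on with
  | zero => simp
  | tmul s x =>
    rw [LinearMap.baseChange_tmul, LinearMap.mulLeft_apply, LinearMap.mulLeft_apply,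
      Algebra.TensorProduct.tmul_mul_tmul, one_mul]
  | add x y hx hy => rw [map_add, map_add, hx, hy]

theorem conj_mulLeft (z : K ⊗[k] A) :
    φ.toLinearEquiv.conj (LinearMap.mulLeft K z) = LinearMap.mulLeft K (φ z) := by
  apply LinearMap.ext
  intro M
  rw [LinearEquiv.conj_apply_apply, LinearMap.mulLeft_apply, LinearMap.mulLeft_apply]
  show φ (z * φ.symm M) = φ z * M
  rw [map_mul, AlgEquiv.apply_symm_apply]

/-- the algebra norm is the `n`-th power of the reduced norm. -/
theorem algebraMap_norm_eq [FiniteDimensional k A] (a : A) :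
    algebraMap k K (Algebra.norm k a) = (φ (1 ⊗ₜ[k] a)).det ^ n := by
  rw [Algebra.norm_apply, ← LinearMap.det_baseChange]
  have : (Algebra.lmul k A) a = LinearMap.mulLeft k a := rfl
  rw [this, baseChange_mulLeft, ← det_mulLeft_matrix, ← conj_mulLeft]
  exact (LinearMap.det_conj _ φ.toLinearEquiv).symm

theorem algebraMap_trace_eq [FiniteDimensional k A] (a : A) :
    algebraMap k K (LinearMap.trace k A (LinearMap.mulLeft k a)) =
      n • (φ (1 ⊗ₜ[k] a)).trace := by
  rw [← LinearMap.trace_baseChange, baseChange_mulLeft, ← trace_mulLeft_matrix, ← conj_mulLeft,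
    LinearMap.trace_conj']

/-- unit criterion via the reduced norm. -/
theorem isUnit_of_det_ne_zero [FiniteDimensional k A] (a : A) (h : (φ (1 ⊗ₜ[k] a)).det ≠ 0) : IsUnit a := by
  have h1 : IsUnit (φ (1 ⊗ₜ[k] a)) := (Matrix.isUnit_iff_isUnit_det _).mpr (isUnit_iff_ne_zero.mpr h)
  have h2 : IsUnit ((1 : K) ⊗ₜ[k] a) := by
    have := h1.map φ.symm
    rwa [AlgEquiv.symm_apply_apply] at this
  have hinc : Function.Injective (Algebra.TensorProduct.includeRight : A →ₐ[k] K ⊗[k] A) :=
    Algebra.TensorProduct.includeRight_injective (FaithfulSMul.algebraMap_injective k K)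
  have hinj : Function.Injective (LinearMap.mulLeft k a) := by
    rw [injective_iff_map_eq_zero]
    intro x hx
    rw [LinearMap.mulLeft_apply] at hx
    apply hinc
    rw [map_zero]
    have h3 : ((1 : K) ⊗ₜ[k] a) * ((1 : K) ⊗ₜ[k] x) = 0 := by
      rw [Algebra.TensorProduct.tmul_mul_tmul, hx, TensorProduct.tmul_zero]
    exact (h2.mul_right_eq_zero).mp h3
  obtain ⟨b, hb⟩ := (LinearMap.injective_iff_surjective.mp hinj) 1
  rw [LinearMap.mulLeft_apply] at hb
  have hb' : b * a = 1 := by
    apply hinj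
    rw [LinearMap.mulLeft_apply, LinearMap.mulLeft_apply, ← mul_assoc, hb, one_mul, mul_one]
  exact ⟨⟨a, b, hb, hb'⟩, rfl⟩

end RedNorm

end Groth.Agent.H7.CSA
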