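import Mathlib
import Groth.Agent.Lib.Helper7.CSA11
universe u v w w'

namespace Groth.Agent.H7.CSA

open TensorProduct MulOpposite

section MatMod
variable {k : Type u} [Field k] {R : Type v} [Ring R] [Algebra k R] {D : Type w} [Ring D]
  [Algebra k D] {n : ℕ}

/-- column vectors `Dⁿ` as an `R`-module through an isomorphism `R ≅ M_n(D)`. -/
def MatMod (_e : R ≃ₐ[k] Matrix (Fin n) (Fin n) D) : Type w := Fin n → D

namespace MatMod
variable (e : R ≃ₐ[k] Matrix (Fin n) (Fin n) D)

instance : AddCommGroup (MatMod e) := inferInstanceAs (AddCommGroup (Fin n → D))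
instance : Module k (MatMod e) := inferInstanceAs (Module k (Fin n → D))
instance : Module R (MatMod e) := Module.compHom (Fin n → D) e.toAlgHom.toRingHom

theorem smul_def (r : R) (v : Fin n → D) :
    (r • (show MatMod e from v) : MatMod e) = (e r).mulVec v := rfl

instance : IsScalarTower k R (MatMod e) :=
  ⟨fun c r v => by
    show (e (c • r)).mulVec (show Fin n → D from v) = c • (e r).mulVec (show Fin n → D from v)
    rw [map_smul, Matrix.smul_mulVec]⟩

instance [FiniteDimensional k D] : FiniteDimensional k (MatMod e) :=
  inferInstanceAs (FiniteDimensional k (Fin n → D))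

end MatMod

/-- right multiplication by a scalar, as an `R`-endomorphism of `Dⁿ`. -/
noncomputable def mulRightEnd (e : R ≃ₐ[k] Matrix (Fin n) (Fin n) D) :
    Dᵐᵒᵖ →ₐ[k] Module.End R (MatMod e) where
  toFun d :=
    { toFun := fun v => (fun i => (show Fin n → D from v) i * d.unop : Fin n → D)
      map_add' := fun v w => by
        funext i
        exact add_mul _ _ _
      map_smul' := fun r v => by
        funext i
        show ((e r).mulVec (show Fin n → D from v)) i * d.unop =
          ((e r).mulVec (fun j => (show Fin n → D from v) j * d.unop)) i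
        simp only [Matrix.mulVec, dotProduct, Finset.sum_mul, mul_assoc] }
  map_one' := by
    apply LinearMap.ext
    intro v
    funext i
    exact mul_one _
  map_mul' d d' := by
    apply LinearMap.ext
    intro v
    funext i
    show (show Fin n → D from v) i * (d'.unop * d.unop) = (show Fin n → D from v) i * d'.unop * d.unop
    rw [mul_assoc]
  map_zero' := by
    apply LinearMap.ext
    intro v
    funext i
    exact mul_zero _
  map_add' d d' := by
    apply LinearMap.ext
    intro v
    funext i
    exact mul_add _ _ _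
  commutes' c := by
    apply LinearMap.ext
    intro v
    funext i
    show (show Fin n → D from v) i * (algebraMap k D c) = c • (show Fin n → D from v) i
    rw [Algebra.smul_def, Algebra.commutes]

end MatMod

section MatMod2
variable {k : Type u} [Field k] {R : Type v} [Ring R] [Algebra k R] {D : Type w} [Ring D]
  [Algebra k D] {n : ℕ}

theorem mulRightEnd_apply (e : R ≃ₐ[k] Matrix (Fin n) (Fin n) D) (d : Dᵐᵒᵖ) (v : Fin n → D)
    (i : Fin n) : (mulRightEnd e d (show MatMod e from v) : Fin n → D) i = v i * d.unop := rfl

theorem mulRightEnd_bijective [NeZero n] (e : R ≃ₐ[k] Matrix (Fin n) (Fin n) D) :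
    Function.Bijective (mulRightEnd e) := by
  classical
  constructor
  · rw [injective_iff_map_eq_zero]
    intro d hd
    have := congrFun (LinearMap.congr_fun hd (show MatMod e from (Pi.single 0 1 : Fin n → D))) 0
    rw [mulRightEnd_apply] at this
    simp only [Pi.single_eq_same, one_mul] at this
    exact MulOpposite.unop_injective this
  · intro T
    -- the image of the first basis vector
    set e₀ : Fin n → D := Pi.single 0 1 with he₀
    set u : Fin n → D := T (show MatMod e from e₀) with hu
    have hT : ∀ (M : Matrix (Fin n) (Fin n) D) (v : Fin n → D),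
        (T (show MatMod e from M.mulVec v) : Fin n → D) = M.mulVec (T (show MatMod e from v)) := by
      intro M v
      have := T.map_smul (e.symm M) (show MatMod e from v)
      rw [MatMod.smul_def, MatMod.smul_def, AlgEquiv.apply_symm_apply] at this
      exact this
    refine ⟨op (u 0), ?_⟩
    apply LinearMap.ext
    intro v
    funext i
    set Mv : Matrix (Fin n) (Fin n) D := Matrix.of fun a b => if b = 0 then
      (show Fin n → D from v) a else 0 with hMv
    have h1 : Mv.mulVec e₀ = (show Fin n → D from v) := by
      funext a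
      simp [Matrix.mulVec, dotProduct, hMv, he₀, Pi.single_apply]
    have h2 := hT Mv e₀
    rw [h1] at h2
    rw [mulRightEnd_apply]
    have h3 : (T v : Fin n → D) i = (Mv.mulVec u) i := congrFun h2 i
    rw [h3]
    simp [Matrix.mulVec, dotProduct, hMv]

/-- `Dⁿ` is a simple `M_n(D)`-module for a division ring `D`. -/
theorem isSimpleModule_matMod {D : Type w} [DivisionRing D] [Algebra k D] [NeZero n]
    (e : R ≃ₐ[k] Matrix (Fin n) (Fin n) D) : IsSimpleModule R (MatMod e) := by
  classical
  rw [isSimpleModule_iff_toSpanSingleton_surjective]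
  refine ⟨inferInstanceAs (Nontrivial (Fin n → D)), fun x hx w => ?_⟩
  obtain ⟨j, hj⟩ : ∃ j, (show Fin n → D from x) j ≠ 0 := by
    by_contra hcon
    apply hx
    funext i
    by_contra hi
    exact hcon ⟨i, hi⟩
  set A : Matrix (Fin n) (Fin n) D := Matrix.of fun a b => if b = j then
    (show Fin n → D from w) a * ((show Fin n → D from x) j)⁻¹ else 0 with hA
  refine ⟨e.symm A, ?_⟩
  rw [LinearMap.toSpanSingleton_apply]
  show (e (e.symm A)).mulVec (show Fin n → D from x) = (show Fin n → D from w)
  rw [AlgEquiv.apply_symm_apply]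
  funext a
  simp [Matrix.mulVec, dotProduct, hA, hj]

end MatMod2

section Unique

/-- S0193 (general form): two matrix presentations of the same finite simple algebra have
isomorphic division algebras. -/
theorem divisionRing_unique (k : Type u) [Field k] (R : Type v) [Ring R] [Algebra k R]
    [IsSimpleRing R] [FiniteDimensional k R]
    (D : Type w) [DivisionRing D] [Algebra k D] (D' : Type w') [DivisionRing D'] [Algebra k D']
    (n m : ℕ) [NeZero n] [NeZero m]
    (e : R ≃ₐ[k] Matrix (Fin n) (Fin n) D) (e' : R ≃ₐ[k] Matrix (Fin m) (Fin m) D') :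
    Nonempty (D ≃ₐ[k] D') := by
  have : IsArtinianRing R := IsArtinianRing.of_finite k R
  have h1 : IsSimpleModule R (MatMod e) := isSimpleModule_matMod e
  have h2 : IsSimpleModule R (MatMod e') := isSimpleModule_matMod e'
  -- the two simple modules are isomorphic
  obtain ⟨f⟩ : Nonempty (MatMod e ≃ₗ[R] MatMod e') := by
    let S₁ := (⊤ : Submodule R (MatMod e)).map (LinearMap.inl R (MatMod e) (MatMod e'))
    let S₂ := (⊤ : Submodule R (MatMod e')).map (LinearMap.inr R (MatMod e) (MatMod e'))
    let e₁ : MatMod e ≃ₗ[R] S₁ := Submodule.topEquiv.symm.trans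
      (Submodule.equivMapOfInjective _ LinearMap.inl_injective ⊤)
    let e₂ : MatMod e' ≃ₗ[R] S₂ := Submodule.topEquiv.symm.trans
      (Submodule.equivMapOfInjective _ LinearMap.inr_injective ⊤)
    have hs1 : IsSimpleModule R S₁ := IsSimpleModule.congr e₁.symm
    have hs2 : IsSimpleModule R S₂ := IsSimpleModule.congr e₂.symm
    obtain ⟨e₃⟩ := (IsSimpleRing.isIsotypic R (MatMod e × MatMod e')) S₂ S₁
    exact ⟨e₁.trans (e₃.trans e₂.symm)⟩
  have g1 : Dᵐᵒᵖ ≃ₐ[k] Module.End R (MatMod e) :=
    AlgEquiv.ofBijective (mulRightEnd e) (mulRightEnd_bijective e)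
  have g2 : D'ᵐᵒᵖ ≃ₐ[k] Module.End R (MatMod e') :=
    AlgEquiv.ofBijective (mulRightEnd e') (mulRightEnd_bijective e')
  have g3 : Module.End R (MatMod e) ≃ₐ[k] Module.End R (MatMod e') := LinearEquiv.conjAlgEquiv k f
  exact ⟨AlgEquiv.op.symm (g1.trans (g3.trans g2.symm))⟩

end Unique

end Groth.Agent.H7.CSA
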