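import Mathlib
import Groth.Agent.Lib.Helper7.CSA12

set_option autoImplicit false

namespace Groth.Agent.H7.CSA
universe u v w

open Module

/-- `M_n(M_r(D)) ≃ M_{n*r}(D)` -/
noncomputable def matMatEquiv (k : Type u) [Field k] (D : Type v) [Ring D] [Algebra k D] (n r : ℕ) :
    Matrix (Fin n) (Fin n) (Matrix (Fin r) (Fin r) D) ≃ₐ[k] Matrix (Fin (n*r)) (Fin (n*r)) D :=
  (Matrix.compAlgEquiv (Fin n) (Fin r) D k).trans (Matrix.reindexAlgEquiv k D finProdFinEquiv)

theorem cancel_matrix (k : Type u) [Field k]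
    (A : Type v) [Ring A] [Algebra k A] [IsSimpleRing A] [FiniteDimensional k A]
    (A' : Type w) [Ring A'] [Algebra k A'] [IsSimpleRing A'] [FiniteDimensional k A']
    (n : ℕ) (hn : n ≠ 0) (e : Matrix (Fin n) (Fin n) A ≃ₐ[k] Matrix (Fin n) (Fin n) A') :
    Nonempty (A ≃ₐ[k] A') := by
  have : NeZero n := ⟨hn⟩
  have : IsArtinianRing A := IsArtinianRing.of_finite k A
  have : IsArtinianRing A' := IsArtinianRing.of_finite k A'
  obtain ⟨r, hr, D, _, _, _, ⟨eA⟩⟩ := IsSimpleRing.exists_algEquiv_matrix_divisionRing_finite k A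
  obtain ⟨s, hs, D', _, _, _, ⟨eA'⟩⟩ := IsSimpleRing.exists_algEquiv_matrix_divisionRing_finite k A'
  let f₁ : Matrix (Fin n) (Fin n) A ≃ₐ[k] Matrix (Fin (n*r)) (Fin (n*r)) D :=
    (eA.mapMatrix).trans (matMatEquiv k D n r)
  let f₂ : Matrix (Fin n) (Fin n) A' ≃ₐ[k] Matrix (Fin (n*s)) (Fin (n*s)) D' :=
    (eA'.mapMatrix).trans (matMatEquiv k D' n s)
  have : NeZero (n*r) := ⟨Nat.mul_ne_zero hn hr.ne⟩
  have : NeZero (n*s) := ⟨Nat.mul_ne_zero hn hs.ne⟩
  obtain ⟨g⟩ := divisionRing_unique k (Matrix (Fin n) (Fin n) A) D D' (n*r) (n*s) f₁ (e.trans f₂)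
  have h1 : finrank k (Matrix (Fin n) (Fin n) A) = finrank k (Matrix (Fin n) (Fin n) A') :=
    e.toLinearEquiv.finrank_eq
  have hA : finrank k A = r * r * finrank k D := by
    rw [eA.toLinearEquiv.finrank_eq, Module.finrank_matrix]; simp
  have hA' : finrank k A' = s * s * finrank k D' := by
    rw [eA'.toLinearEquiv.finrank_eq, Module.finrank_matrix]; simp
  have hD : finrank k D = finrank k D' := g.toLinearEquiv.finrank_eq
  have hDpos : 0 < finrank k D := Module.finrank_pos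
  rw [Module.finrank_matrix, Module.finrank_matrix, hA, hA', ← hD] at h1
  simp only [Fintype.card_fin] at h1
  have hnn : 0 < n * n := Nat.mul_pos (Nat.pos_of_ne_zero hn) (Nat.pos_of_ne_zero hn)
  have h2 : r * r = s * s := by
    have := Nat.eq_of_mul_eq_mul_left hnn h1
    exact Nat.eq_of_mul_eq_mul_right hDpos this
  have hrs : r = s := by
    exact Nat.mul_self_inj.mp h2
  subst hrs
  exact ⟨eA.trans ((g.mapMatrix).trans eA'.symm)⟩

end Groth.Agent.H7.CSA
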