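import Mathlib
import Groth.Agent.Lib.Helper7.CSA8

set_option autoImplicit false

namespace Groth.Agent.H7.CSA
universe u v w
open Module TensorProduct

section SubfieldSplit
variable (k : Type u) [Field k] (A : Type v) [Ring A] [Algebra k A]
  (K : Type w) [Field K] [Algebra k K]

/-- right multiplication by a commutative subalgebra, as an algebra map into `End_k A`. -/
def mulRightHom (ι : K →ₐ[k] A) : K →ₐ[k] Module.End k A :=
  AlgHom.ofLinearMap
    { toFun := fun x => LinearMap.mulRight k (ι x)
      map_add' := fun x y => by ext a; simp [mul_add]
      map_smul' := fun r x => by ext a; simp }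
    (by ext a; simp)
    (fun x y => by
      ext a
      show a * ι (x * y) = (a * ι y) * ι x
      rw [mul_comm x y, map_mul, mul_assoc])

theorem mulRightHom_apply (ι : K →ₐ[k] A) (x : K) (a : A) : mulRightHom k A K ι x a = a * ι x := rfl

/-- left multiplication, `K`-linear for the right module structure. -/
def leftReg (ι : K →ₐ[k] A) : A →ₐ[k] Module.End K (Tw (mulRightHom k A K ι)) :=
  AlgHom.ofLinearMap
    { toFun := fun a =>
        { toFun := fun v => (show Tw (mulRightHom k A K ι) from a * (show A from v))
          map_add' := fun v w => mul_add a (show A from v) (show A from w)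
          map_smul' := fun x v => by
            show a * ((show A from v) * ι x) = (a * (show A from v)) * ι x
            rw [mul_assoc] }
      map_add' := fun a a' => by
        ext v; exact add_mul a a' (show A from v)
      map_smul' := fun r a => by
        ext v; exact smul_mul_assoc r a (show A from v) }
    (by ext v; exact one_mul (show A from v))
    (fun a a' => by ext v; exact mul_assoc a a' (show A from v))

/-- a subfield of degree `n` of a central simple algebra of degree `n` splits it. -/
theorem split_by_subfield [Algebra.IsCentral k A] [IsSimpleRing A] [FiniteDimensional k A]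
    (n : ℕ) [NeZero n] (hA : finrank k A = n * n) (hK : finrank k K = n) (ι : K →ₐ[k] A) :
    Nonempty (K ⊗[k] A ≃ₐ[K] Matrix (Fin n) (Fin n) K) := by
  have hKfin : FiniteDimensional k K := Module.finite_of_finrank_pos (by rw [hK]; exact NeZero.pos n)
  let V := Tw (mulRightHom k A K ι)
  have hVfin : Module.Finite K V := Module.Finite.of_restrictScalars_finite k K V
  have h1 : finrank k K * finrank K V = finrank k V := Module.finrank_mul_finrank k K V
  have h2 : finrank k V = n * n := hA
  have h3 : finrank K V = n := by
    rw [hK, h2] at h1
    exact Nat.eq_of_mul_eq_mul_left (NeZero.pos n) h1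
  let bas : Module.Basis (Fin n) K V := Module.finBasisOfFinrankEq K V h3
  let ψ : A →ₐ[k] Matrix (Fin n) (Fin n) K :=
    ((LinearMap.toMatrixAlgEquiv bas).restrictScalars k : Module.End K V →ₐ[k] _).comp
      (leftReg k A K ι)
  exact split_of_algHom k A K n hA ψ

end SubfieldSplit

end Groth.Agent.H7.CSA
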