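import Mathlib
import Groth.Agent.Lib.Helper7.CSA13
import Groth.Agent.Lib.Helper7.CSA14
import Groth.Agent.Lib.Helper7.CSA10

set_option autoImplicit false

namespace Groth.Agent.H7.CSA
universe u v w x
open Module TensorProduct

section General

/-- a `k`-algebra map from a finite central simple algebra `X` to a `K`-algebra `Y` of the same
dimension induces `K ⊗ X ≅ Y`. -/
theorem baseChange_equiv_of_algHom (k : Type u) [Field k] (X : Type v) [Ring X]
    [Algebra k X] [Algebra.IsCentral k X] [IsSimpleRing X] [FiniteDimensional k X]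
    (K : Type w) [Field K] [Algebra k K] (Y : Type x) [Ring Y] [Algebra K Y] [Algebra k Y]
    [IsScalarTower k K Y] [Nontrivial Y] [FiniteDimensional K Y]
    (hn : finrank k X = finrank K Y) (ψ : X →ₐ[k] Y) :
    Nonempty (K ⊗[k] X ≃ₐ[K] Y) := by
  have h1 : IsSimpleRing (K ⊗[k] X) := isSimpleRing_tensor k K X
  set Φ : K ⊗[k] X →ₐ[K] Y :=
    Algebra.TensorProduct.lift (Algebra.ofId K Y) ψ
      (fun x y => Algebra.commute_algebraMap_left x (ψ y)) with hΦ
  have hinj : Function.Injective Φ := Φ.toRingHom.injective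
  have hfin : finrank K (K ⊗[k] X) = finrank K Y := by
    rw [Module.finrank_baseChange, hn]
  have hinj' : Function.Injective Φ.toLinearMap := hinj
  have hsurj := (LinearMap.injective_iff_surjective_of_finrank_eq_finrank hfin).mp hinj'
  exact ⟨AlgEquiv.ofBijective Φ ⟨hinj, hsurj⟩⟩

variable (k : Type u) [Field k] (A : Type v) [Ring A] [Algebra k A] [Algebra.IsCentral k A]
  [IsSimpleRing A] [FiniteDimensional k A] (K : Type w) [Field K] [Algebra k K]

/-- if `K` splits `A` it splits `M_n(A)`. -/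
theorem splits_matrix_of_splits (n d : ℕ) (hn : n ≠ 0) (hd : d ≠ 0)
    (e : K ⊗[k] A ≃ₐ[K] Matrix (Fin d) (Fin d) K) :
    Nonempty (K ⊗[k] Matrix (Fin n) (Fin n) A ≃ₐ[K] Matrix (Fin (n * d)) (Fin (n * d)) K) := by
  have : NeZero n := ⟨hn⟩
  have : NeZero (n * d) := ⟨Nat.mul_ne_zero hn hd⟩
  let ψA : A →ₐ[k] Matrix (Fin d) (Fin d) K :=
    (e.toAlgHom.restrictScalars k).comp Algebra.TensorProduct.includeRight
  let ψ : Matrix (Fin n) (Fin n) A →ₐ[k] Matrix (Fin (n * d)) (Fin (n * d)) K :=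
    (matMatEquiv k K n d : _ →ₐ[k] _).comp ψA.mapMatrix
  refine split_of_algHom k (Matrix (Fin n) (Fin n) A) K (n * d) ?_ ψ
  rw [Module.finrank_matrix, finrank_eq_of_split k A K d e]
  simp only [Fintype.card_fin]
  ring

/-- if `K` splits `M_n(A)` it splits `A`. -/
theorem splits_of_splits_matrix (n N : ℕ) (hn : n ≠ 0) (hN : N ≠ 0)
    (e : K ⊗[k] Matrix (Fin n) (Fin n) A ≃ₐ[K] Matrix (Fin N) (Fin N) K) :
    ∃ d : ℕ, d ≠ 0 ∧ Nonempty (K ⊗[k] A ≃ₐ[K] Matrix (Fin d) (Fin d) K) := by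
  have : NeZero n := ⟨hn⟩
  have : NeZero N := ⟨hN⟩
  have h1 : IsSimpleRing (K ⊗[k] A) := isSimpleRing_tensor k K A
  have h2 : Algebra.IsCentral K (K ⊗[k] A) := isCentral_baseChange k A K
  have : IsArtinianRing (K ⊗[k] A) := IsArtinianRing.of_finite K _
  obtain ⟨s, hs, D', _, _, _, ⟨eW⟩⟩ :=
    IsSimpleRing.exists_algEquiv_matrix_divisionRing_finite K (K ⊗[k] A)
  letI : Algebra k D' := Algebra.compHom D' (algebraMap k K)
  haveI : IsScalarTower k K D' := IsScalarTower.of_algebraMap_eq (fun _ => rfl)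
  have : NeZero (n * s) := ⟨Nat.mul_ne_zero hn hs.ne⟩
  let ψA : A →ₐ[k] Matrix (Fin s) (Fin s) D' :=
    (eW.toAlgHom.restrictScalars k).comp Algebra.TensorProduct.includeRight
  let ψ : Matrix (Fin n) (Fin n) A →ₐ[k] Matrix (Fin (n * s)) (Fin (n * s)) D' :=
    ((matMatEquiv K D' n s).restrictScalars k : _ →ₐ[k] _).comp ψA.mapMatrix
  have hdim : finrank k (Matrix (Fin n) (Fin n) A) =
      finrank K (Matrix (Fin (n * s)) (Fin (n * s)) D') := by
    have hA : finrank k A = s * s * finrank K D' := by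
      rw [← Module.finrank_baseChange (R := K), eW.toLinearEquiv.finrank_eq, Module.finrank_matrix]
      simp
    rw [Module.finrank_matrix, Module.finrank_matrix, hA]
    simp only [Fintype.card_fin]
    ring
  obtain ⟨e1⟩ := baseChange_equiv_of_algHom k (Matrix (Fin n) (Fin n) A) K
    (Matrix (Fin (n * s)) (Fin (n * s)) D') hdim ψ
  have h3 : IsSimpleRing (K ⊗[k] Matrix (Fin n) (Fin n) A) := isSimpleRing_tensor k K _
  obtain ⟨g⟩ := divisionRing_unique K (K ⊗[k] Matrix (Fin n) (Fin n) A) D' K (n * s) N e1 e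
  exact ⟨s, hs.ne, ⟨eW.trans g.mapMatrix⟩⟩

end General

section Brauer
variable (k : Type u) [Field k] (A : Type v) [Ring A] [Algebra k A] [Algebra.IsCentral k A]
  [IsSimpleRing A] [FiniteDimensional k A]
  (B : Type x) [Ring B] [Algebra k B] [Algebra.IsCentral k B]
  [IsSimpleRing B] [FiniteDimensional k B] (K : Type w) [Field K] [Algebra k K]

/-- splitting is invariant under Brauer equivalence -/
theorem splits_of_brauer (n m d : ℕ) (hn : n ≠ 0) (hm : m ≠ 0) (hd : d ≠ 0)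
    (e : Matrix (Fin n) (Fin n) A ≃ₐ[k] Matrix (Fin m) (Fin m) B)
    (eB : K ⊗[k] B ≃ₐ[K] Matrix (Fin d) (Fin d) K) :
    ∃ d' : ℕ, d' ≠ 0 ∧ Nonempty (K ⊗[k] A ≃ₐ[K] Matrix (Fin d') (Fin d') K) := by
  obtain ⟨e1⟩ := splits_matrix_of_splits k B K m d hm hd eB
  let e2 : K ⊗[k] Matrix (Fin n) (Fin n) A ≃ₐ[K] K ⊗[k] Matrix (Fin m) (Fin m) B :=
    Algebra.TensorProduct.congr (AlgEquiv.refl : K ≃ₐ[K] K) e
  exact splits_of_splits_matrix k A K n (m * d) hn (Nat.mul_ne_zero hm hd) (e2.trans e1)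

end Brauer

end Groth.Agent.H7.CSA
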