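import Mathlib
import Groth.Agent.Lib.Helper7.CSA15

set_option autoImplicit false

namespace Groth.Agent.H7.CSA
universe u v w x
open Module TensorProduct

section Subfield
variable (k : Type u) [Field k] (A : Type v) [Ring A] [Algebra k A] [Algebra.IsCentral k A]
  [IsSimpleRing A] [FiniteDimensional k A] (K : Type w) [Field K] [Algebra k K]
  [FiniteDimensional k K]

/-- the representation of `A` on `Kᵐ` coming from a splitting. -/
noncomputable def splitRep (m : ℕ) (φ : K ⊗[k] A ≃ₐ[K] Matrix (Fin m) (Fin m) K) :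
    A →ₐ[k] Module.End k (Fin m → K) :=
  AlgHom.ofLinearMap
    { toFun := fun a => (Matrix.toLin' (φ (1 ⊗ₜ a))).restrictScalars k
      map_add' := fun a b => by
        refine LinearMap.ext fun v => ?_
        simp [TensorProduct.tmul_add, map_add]
      map_smul' := fun r a => by
        refine LinearMap.ext fun v => ?_
        simp only [LinearMap.coe_restrictScalars, RingHom.id_apply, LinearMap.smul_apply]
        rw [TensorProduct.tmul_smul, ← algebraMap_smul K r ((1 : K) ⊗ₜ[k] a), map_smul, map_smul,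
          LinearMap.smul_apply, algebraMap_smul] }
    (by
      refine LinearMap.ext fun v => ?_
      simp only [LinearMap.coe_mk, AddHom.coe_mk, LinearMap.coe_restrictScalars]
      rw [← Algebra.TensorProduct.one_def, map_one]
      simp)
    (fun a b => by
      refine LinearMap.ext fun v => ?_
      simp only [LinearMap.coe_mk, AddHom.coe_mk, LinearMap.coe_restrictScalars,
        Module.End.mul_apply]
      have : (1 : K) ⊗ₜ[k] (a * b) = ((1 : K) ⊗ₜ[k] a) * ((1 : K) ⊗ₜ[k] b) := by
        rw [Algebra.TensorProduct.tmul_mul_tmul, one_mul]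
      rw [this, map_mul, Matrix.toLin'_mul]
      rfl)

theorem splitRep_apply (m : ℕ) (φ : K ⊗[k] A ≃ₐ[K] Matrix (Fin m) (Fin m) K) (a : A)
    (v : Fin m → K) : splitRep k A K m φ a v = (φ (1 ⊗ₜ a)).mulVec v := rfl

/-- scalar multiplication by `K` as `A`-linear endomorphisms of `Kᵐ`. -/
noncomputable def scalHom (m : ℕ) (φ : K ⊗[k] A ≃ₐ[K] Matrix (Fin m) (Fin m) K) :
    K →ₐ[k] Module.End A (Tw (splitRep k A K m φ)) :=
  AlgHom.ofLinearMap
    { toFun := fun x =>
        { toFun := fun v => (show Tw (splitRep k A K m φ) from x • (show Fin m → K from v))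
          map_add' := fun v w => smul_add x (show Fin m → K from v) (show Fin m → K from w)
          map_smul' := fun a v => by
            show x • ((φ (1 ⊗ₜ a)).mulVec (show Fin m → K from v)) =
              (φ (1 ⊗ₜ a)).mulVec (x • (show Fin m → K from v))
            rw [Matrix.mulVec_smul] }
      map_add' := fun x y => by
        ext v : 1; exact add_smul x y (show Fin m → K from v)
      map_smul' := fun r x => by
        ext v : 1; exact smul_assoc r x (show Fin m → K from v) }
    (by ext v : 1; exact one_smul K (show Fin m → K from v))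
    (fun x y => by ext v : 1; exact mul_smul x y (show Fin m → K from v))

theorem scalHom_commute (m : ℕ) (φ : K ⊗[k] A ≃ₐ[K] Matrix (Fin m) (Fin m) K) (x y : K) :
    Commute (scalHom k A K m φ x) (scalHom k A K m φ y) := by
  show scalHom k A K m φ x * scalHom k A K m φ y = scalHom k A K m φ y * scalHom k A K m φ x
  rw [← map_mul, ← map_mul, mul_comm]

/-- if `K` splits `A`, then `A ≅ M_s(D)` and `K` embeds in some `M_r(D)` of dimension `[K:k]²`. -/
theorem exists_matrix_with_subfield (m : ℕ) (hm : m ≠ 0)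
    (φ : K ⊗[k] A ≃ₐ[K] Matrix (Fin m) (Fin m) K) :
    ∃ (r s : ℕ) (_ : NeZero r) (_ : NeZero s) (D : Type v) (_ : DivisionRing D) (_ : Algebra k D),
      Nonempty (A ≃ₐ[k] Matrix (Fin s) (Fin s) D) ∧
      Nonempty (K →ₐ[k] Matrix (Fin r) (Fin r) D) ∧
      finrank k (Matrix (Fin r) (Fin r) D) = finrank k K ^ 2 := by
  classical
  have : NeZero m := ⟨hm⟩
  have : IsArtinianRing A := IsArtinianRing.of_finite k A
  obtain ⟨s, hs, I, hI, ⟨eA⟩⟩ := IsSimpleRing.exists_algEquiv_matrix_end_mulOpposite k A
  let V := Tw (splitRep k A K m φ)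
  have hVfin : FiniteDimensional k V :=
    inferInstanceAs (FiniteDimensional k (Fin m → K))
  have : Module.Finite k (Fin m → K) := hVfin
  have hVnt : Nontrivial V := inferInstanceAs (Nontrivial (Fin m → K))
  obtain ⟨r, ⟨eV⟩⟩ := exists_linearEquiv_fun k A I V
  have hr : NeZero r := by
    constructor
    rintro rfl
    exact not_subsingleton V eV.toEquiv.subsingleton
  let c1 : Module.End A V ≃ₐ[k] Module.End A (Fin r → I) := eV.conjAlgEquiv k
  let c2 : Module.End A (Fin r → I) ≃ₐ[k] Matrix (Fin r) (Fin r) (Module.End A I) :=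
    endVecAlgEquivMatrixEnd (Fin r) k A I
  let f : K →ₐ[k] Matrix (Fin r) (Fin r) (Module.End A I) :=
    ((c1.trans c2 : Module.End A V ≃ₐ[k] _) : Module.End A V →ₐ[k] _).comp (scalHom k A K m φ)
  have hf : ∀ x y, Commute (f x) (f y) := by
    intro x y
    have h0 := congrArg (c1.trans c2) (scalHom_commute k A K m φ x y).eq
    rw [map_mul, map_mul] at h0
    exact h0
  let ι : K →ₐ[k] Matrix (Fin r) (Fin r) (Module.End A I)ᵐᵒᵖ :=
    ((AlgEquiv.mopMatrix (R := k) (m := Fin r) (α := Module.End A I)).symm : _ →ₐ[k] _).comp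
      (f.toOpposite hf)
  refine ⟨r, s, hr, hs, (Module.End A I)ᵐᵒᵖ, inferInstance, inferInstance, ⟨eA⟩, ⟨ι⟩, ?_⟩
  -- dimension count
  have h1 := finrank_end_mul_finrank k A V
  have h2 : finrank k V = m * finrank k K := by
    show finrank k (Fin m → K) = _
    rw [Module.finrank_pi_fintype]; simp
  have h3 : finrank k A = m * m := finrank_eq_of_split k A K m φ
  have h4 : finrank k (Module.End A V) = r * r * finrank k (Module.End A I) :=
    finrank_end_eq_of_linearEquiv_fun k A I V r eV
  have h5 : finrank k (Module.End A I)ᵐᵒᵖ = finrank k (Module.End A I) :=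
    ((MulOpposite.opLinearEquiv k : Module.End A I ≃ₗ[k] (Module.End A I)ᵐᵒᵖ).finrank_eq).symm
  rw [Module.finrank_matrix, h5]
  simp only [Fintype.card_fin]
  rw [← h4]
  rw [h2, h3] at h1
  have hmm : 0 < m * m := Nat.mul_pos (Nat.pos_of_ne_zero hm) (Nat.pos_of_ne_zero hm)
  apply Nat.eq_of_mul_eq_mul_right hmm
  rw [h1]; ring

end Subfield

end Groth.Agent.H7.CSA
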