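import Mathlib
import Groth.Prelude.Def_Curves
import Groth.Agent.Lib.Helper7.CSA16

set_option autoImplicit false

namespace Groth.Agent.H7.CSA
universe u v w x
open Module TensorProduct

/-- `M_r(M_s(D)) ≅ M_s(M_r(D))` -/
noncomputable def matSwap (k : Type u) [Field k] (D : Type v) [Ring D] [Algebra k D] (r s : ℕ) :
    Matrix (Fin r) (Fin r) (Matrix (Fin s) (Fin s) D) ≃ₐ[k]
      Matrix (Fin s) (Fin s) (Matrix (Fin r) (Fin r) D) :=
  (matMatEquiv k D r s).trans
    ((Matrix.reindexAlgEquiv k D (finCongr (Nat.mul_comm r s))).trans (matMatEquiv k D s r).symm)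

/-- packaged version of `exists_matrix_with_subfield`: a central simple `B` in the universe of `A`,
Brauer equivalent to `A`, containing `K`, of dimension `[K:k]²`. -/
theorem exists_brauer_equiv_with_subfield (k : Type u) [Field k] (A : Type v) [Ring A] [Algebra k A]
    [Algebra.IsCentral k A] [IsSimpleRing A] [FiniteDimensional k A] (K : Type w) [Field K]
    [Algebra k K] [FiniteDimensional k K] (m : ℕ) (hm : m ≠ 0)
    (φ : K ⊗[k] A ≃ₐ[K] Matrix (Fin m) (Fin m) K) :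
    ∃ (B : Type v) (_ : Ring B) (_ : Algebra k B), Algebra.IsCentral k B ∧ IsSimpleRing B ∧
      FiniteDimensional k B ∧ Nonempty (K →ₐ[k] B) ∧ finrank k B = finrank k K ^ 2 ∧
      ∃ r s : ℕ, r ≠ 0 ∧ s ≠ 0 ∧
        Nonempty (Matrix (Fin r) (Fin r) A ≃ₐ[k] Matrix (Fin s) (Fin s) B) := by
  obtain ⟨r, s, hr, hs, D, _, _, ⟨eA⟩, ⟨ι⟩, hdim⟩ := exists_matrix_with_subfield k A K m hm φ
  have h1 : Algebra.IsCentral k (Matrix (Fin s) (Fin s) D) := Algebra.IsCentral.of_algEquiv k A _ eA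
  have h2 : Algebra.IsCentral k D := isCentral_of_matrix k D s
  have hpos : 0 < finrank k (Matrix (Fin r) (Fin r) D) := by
    rw [hdim]; exact pow_pos Module.finrank_pos 2
  have h3 : FiniteDimensional k (Matrix (Fin r) (Fin r) D) := Module.finite_of_finrank_pos hpos
  refine ⟨Matrix (Fin r) (Fin r) D, inferInstance, inferInstance, inferInstance, inferInstance,
    h3, ⟨ι⟩, hdim, r, s, hr.ne, hs.ne, ⟨?_⟩⟩
  exact (eA.mapMatrix).trans (matSwap k D r s)

/-- S0195 -/
theorem splits_iff_exists_brauer (k : Type u) [Field k] (A : CSA.{u, u} k)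
    (k' : Type u) [Field k'] [Algebra k k'] [FiniteDimensional k k'] :
    Curves.Splits k A k' ↔ ∃ (B : CSA.{u, u} k) (_ : k' →ₐ[k] B), IsBrauerEquivalent A B ∧
      Module.finrank k B = Module.finrank k k' ^ 2 := by
  constructor
  · rintro ⟨m, hm, ⟨φ⟩⟩
    obtain ⟨B, _, _, h1, h2, h3, ⟨ι⟩, hdim, r, s, hr, hs, ⟨e⟩⟩ :=
      exists_brauer_equiv_with_subfield k A k' m hm φ
    exact ⟨⟨AlgCat.of k B⟩, ι, ⟨r, s, hr, hs, ⟨e⟩⟩, hdim⟩
  · rintro ⟨B, ι, ⟨n, m, hn, hm, ⟨e⟩⟩, hdim⟩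
    have hd : NeZero (finrank k k') := ⟨(Module.finrank_pos).ne'⟩
    obtain ⟨eB⟩ := split_by_subfield k B k' (finrank k k') (by rw [hdim, pow_two]) rfl ι
    exact splits_of_brauer k A B k' n m (finrank k k') hn hm hd.ne e eB

end Groth.Agent.H7.CSA
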