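import Mathlib
import Groth.Prelude.Def_GSzCSA
import Groth.Agent.Lib.Helper7.CSA11

set_option autoImplicit false

namespace Groth.Agent.H7.RN
universe u v w
open scoped TensorProduct
open Module Polynomial

section Charpoly

theorem charpoly_blockDiagonal {R : Type*} [CommRing R] {m o : Type*} [Fintype m] [DecidableEq m]
    [Fintype o] [DecidableEq o] (M : o → Matrix m m R) :
    (Matrix.blockDiagonal M).charpoly = ∏ k, (M k).charpoly := by
  unfold Matrix.charpoly
  have : Matrix.charmatrix (Matrix.blockDiagonal M) =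
      Matrix.blockDiagonal (fun k => Matrix.charmatrix (M k)) := by
    ext ⟨i, k⟩ ⟨j, k'⟩
    by_cases hk : k = k'
    · subst hk
      by_cases hij : i = j
      · subst hij
        simp [Matrix.charmatrix_apply, Matrix.blockDiagonal_apply]
      · simp [Matrix.charmatrix_apply, Matrix.blockDiagonal_apply, hij]
    · simp [Matrix.charmatrix_apply, Matrix.blockDiagonal_apply, hk]
  rw [this, Matrix.det_blockDiagonal]

theorem charpoly_pi {R : Type*} [CommRing R] [Nontrivial R] {M : Type*} [AddCommGroup M]
    [Module R M]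
    [Module.Free R M] [Module.Finite R M] {ι : Type*} [Fintype ι] [DecidableEq ι]
    (f : ι → M →ₗ[R] M) :
    (LinearMap.pi (fun i ↦ (f i).comp (LinearMap.proj i))).charpoly = ∏ i, (f i).charpoly := by
  classical
  let b := Module.Free.chooseBasis R M
  let B := (Pi.basis (fun _ : ι ↦ b)).reindex <|
    (Equiv.sigmaEquivProd _ _).trans (Equiv.prodComm _ _)
  simp_rw [← LinearMap.charpoly_toMatrix _ B, ← LinearMap.charpoly_toMatrix _ b]
  have : ((LinearMap.toMatrix B B) (LinearMap.pi fun i ↦ f i ∘ₗ LinearMap.proj i)) =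
      Matrix.blockDiagonal (fun i ↦ LinearMap.toMatrix b b (f i)) := by
    ext ⟨i₁, i₂⟩ ⟨j₁, j₂⟩
    unfold B
    simp_rw [LinearMap.toMatrix_apply', Matrix.blockDiagonal_apply, Basis.coe_reindex,
      Function.comp_apply, Basis.repr_reindex_apply, Equiv.symm_trans_apply, Equiv.prodComm_symm,
      Equiv.prodComm_apply, Equiv.sigmaEquivProd_symm_apply, Prod.swap_prod_mk, Pi.basis_apply,
      Pi.basis_repr, LinearMap.pi_apply, LinearMap.coe_comp, Function.comp_apply,
      LinearMap.toMatrix_apply', LinearMap.coe_proj, Function.eval, Pi.single_apply]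
    split_ifs with h
    · rw [h]
    · simp only [map_zero, Finsupp.coe_zero, Pi.zero_apply]
  rw [this, charpoly_blockDiagonal]

theorem charpoly_mulLeft_matrix (K : Type u) [Field K] (n : ℕ) (M : Matrix (Fin n) (Fin n) K) :
    (LinearMap.mulLeft K M).charpoly = M.charpoly ^ n := by
  rw [← LinearMap.charpoly_toMatrix _ (Matrix.stdBasis K (Fin n) (Fin n)), CSA.toMatrix_mulLeft]
  unfold Matrix.charpoly
  have : Matrix.charmatrix (Matrix.kroneckerMap (fun x1 x2 => x1 * x2) M
      (1 : Matrix (Fin n) (Fin n) K)) =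
      Matrix.kroneckerMap (fun x1 x2 => x1 * x2) (Matrix.charmatrix M)
        (1 : Matrix (Fin n) (Fin n) K[X]) := by
    ext ⟨a, b⟩ ⟨c, d⟩
    by_cases hbd : b = d
    · subst hbd
      by_cases hac : a = c
      · subst hac
        simp [Matrix.charmatrix_apply, Matrix.kroneckerMap_apply]
      · simp [Matrix.charmatrix_apply, Matrix.kroneckerMap_apply, hac]
    · simp [Matrix.charmatrix_apply, Matrix.kroneckerMap_apply, hbd]
  rw [this, Matrix.det_kronecker]
  simp

/-- monic polynomials over a field with equal `n`-th powers are equal. -/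
theorem monic_pow_inj {K : Type u} [Field K] {P Q : K[X]} (hP : P.Monic) (hQ : Q.Monic) (n : ℕ)
    (hn : n ≠ 0) (h : P ^ n = Q ^ n) : P = Q := by
  have h1 : P ∣ Q := (IsIntegrallyClosed.pow_dvd_pow_iff hn).mp (h ▸ dvd_rfl)
  have h2 : Q ∣ P := (IsIntegrallyClosed.pow_dvd_pow_iff hn).mp (h ▸ dvd_rfl)
  exact Polynomial.eq_of_monic_of_associated hP hQ (associated_of_dvd_dvd h1 h2)

end Charpoly

section RedCharpoly
variable (k : Type u) [Field k] (A : Type v) [Ring A] [Algebra k A]
  (K : Type w) [Field K] [Algebra k K] (n : ℕ)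
  (φ : K ⊗[k] A ≃ₐ[K] Matrix (Fin n) (Fin n) K)

/-- the characteristic polynomial of left multiplication is the `n`-th power of the reduced
characteristic polynomial. -/
theorem map_charpoly_mulLeft [FiniteDimensional k A] (a : A) :
    (LinearMap.mulLeft k a).charpoly.map (algebraMap k K) = (φ (1 ⊗ₜ[k] a)).charpoly ^ n := by
  rw [← LinearMap.charpoly_baseChange, CSA.baseChange_mulLeft, ← charpoly_mulLeft_matrix,
    ← CSA.conj_mulLeft k A K n φ]
  exact (LinearEquiv.charpoly_conj φ.toLinearEquiv _).symm

end RedCharpoly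

section Subfield
variable (k : Type u) [Field k] (A : Type v) [Ring A] [Algebra k A] [FiniteDimensional k A]
  (K : Type w) [Field K] [Algebra k K] [FiniteDimensional k K] (ι : K →ₐ[k] A)

/-- the characteristic polynomial of left multiplication by an element of a subfield. -/
theorem charpoly_mulLeft_subfield [Nontrivial A] (m : ℕ)
    (hm : finrank k A = m * finrank k K) (x : K) :
    (LinearMap.mulLeft k (ι x)).charpoly = (LinearMap.mulLeft k x).charpoly ^ m := by
  classical
  letI : Module K A := Module.compHom A ι.toRingHom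
  have hsmul : ∀ (c : K) (a : A), c • a = ι c * a := fun c a => rfl
  haveI : IsScalarTower k K A := ⟨fun r c a => by
    rw [hsmul, hsmul, map_smul, smul_mul_assoc]⟩
  haveI : Module.Finite K A := Module.Finite.of_restrictScalars_finite k K A
  have hm' : finrank K A = m := by
    have h1 := Module.finrank_mul_finrank k K A
    rw [hm, mul_comm] at h1
    exact Nat.eq_of_mul_eq_mul_right Module.finrank_pos h1
  let b : Basis (Fin m) K A := (Module.finBasis K A).reindex (finCongr hm')
  let e : A ≃ₗ[k] (Fin m → K) := b.equivFun.restrictScalars k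
  have hconj : e.conj (LinearMap.mulLeft k (ι x)) =
      LinearMap.pi (fun i ↦ (LinearMap.mulLeft k x).comp (LinearMap.proj i)) := by
    apply LinearMap.ext
    intro v
    rw [LinearEquiv.conj_apply_apply, LinearMap.mulLeft_apply]
    have h1 : ι x * e.symm v = x • e.symm v := rfl
    rw [h1]
    have h2 : e (x • e.symm v) = x • e (e.symm v) := b.equivFun.map_smul x (e.symm v)
    rw [h2, LinearEquiv.apply_symm_apply]
    ext i
    simp
  rw [← LinearEquiv.charpoly_conj e, hconj, charpoly_pi]
  simp

end Subfield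

section Main
variable (k : Type u) [Field k] (A : Type v) [Ring A] [Algebra k A]
  [Algebra.IsCentral k A] [IsSimpleRing A] [FiniteDimensional k A]

/-- the reduced characteristic polynomial of an element of a subfield of maximal degree is the
characteristic polynomial of the field extension. -/
theorem redCharpoly_subfield (n : ℕ) (hn : finrank k A = n ^ 2)
    (K : Type w) [Field K] [Algebra k K] [FiniteDimensional k K] (hK : finrank k K = n)
    (ι : K →ₐ[k] A) (x : K)
    (K' : Type*) [Field K'] [Algebra k K'] (n' : ℕ)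
    (φ : K' ⊗[k] A ≃ₐ[K'] Matrix (Fin n') (Fin n') K') :
    n' = n ∧
    (φ (1 ⊗ₜ[k] ι x)).charpoly = ((LinearMap.mulLeft k x).charpoly).map (algebraMap k K') := by
  have hnn : n' = n := by
    have h1 := CSA.finrank_eq_of_split k A K' n' φ
    rw [hn, pow_two] at h1
    exact (Nat.mul_self_inj.mp h1).symm
  subst hnn
  refine ⟨rfl, ?_⟩
  have hn0 : n' ≠ 0 := by
    rintro rfl
    have := Module.finrank_pos (R := k) (M := A)
    omega
  have h1 := map_charpoly_mulLeft k A K' n' φ (ι x)
  have h2 := charpoly_mulLeft_subfield k A K ι n' (by rw [hn, hK, pow_two]) x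
  rw [h2, Polynomial.map_pow] at h1
  exact (monic_pow_inj ((LinearMap.charpoly_monic _).map _) (Matrix.charpoly_monic _) n' hn0
    h1).symm

theorem linearMap_trace_eq_neg_charpoly_coeff {R : Type*} [Field R] {M : Type*} [AddCommGroup M]
    [Module R M] [FiniteDimensional R M] [Nontrivial M] (f : M →ₗ[R] M) :
    LinearMap.trace R M f = -f.charpoly.coeff (finrank R M - 1) := by
  classical
  let b := Module.Free.chooseBasis R M
  haveI : Nonempty (Module.Free.ChooseBasisIndex R M) := b.index_nonempty
  rw [LinearMap.trace_eq_matrix_trace R b, Matrix.trace_eq_neg_charpoly_coeff,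
    LinearMap.charpoly_toMatrix, Module.finrank_eq_card_chooseBasisIndex]

theorem redNorm_redTrace_subfield (n : ℕ) (hn : finrank k A = n ^ 2)
    (N : A →* k) (hN : CSAGal.IsRedNorm k A N) (T : A →+ k) (hT : CSAGal.IsRedTrace k A T)
    (K : Type w) [Field K] [Algebra k K] (hK : finrank k K = n) (ι : K →ₐ[k] A) (x : K) :
    N (ι x) = Algebra.norm k x ∧ T (ι x) = Algebra.trace k K x := by
  have hn0 : 0 < n := by
    rcases Nat.eq_zero_or_pos n with rfl | h
    · have := Module.finrank_pos (R := k) (M := A)
      omega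
    · exact h
  haveI : FiniteDimensional k K := Module.finite_of_finrank_pos (by rw [hK]; exact hn0)
  have hlm : (Algebra.lmul k K) x = LinearMap.mulLeft k x := rfl
  constructor
  · obtain ⟨K₁, _, _, _, n₁, φ₁, h₁⟩ := hN
    obtain ⟨hnn, hcp⟩ := redCharpoly_subfield k A n hn K hK ι x K₁ n₁ φ₁
    subst hnn
    apply (algebraMap k K₁).injective
    rw [h₁, Matrix.det_eq_sign_charpoly_coeff, hcp, Polynomial.coeff_map, Algebra.norm_apply,
      LinearMap.det_eq_sign_charpoly_coeff, hlm, hK, Fintype.card_fin]
    simp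
  · obtain ⟨K₁, _, _, _, n₁, φ₁, h₁⟩ := hT
    obtain ⟨hnn, hcp⟩ := redCharpoly_subfield k A n hn K hK ι x K₁ n₁ φ₁
    subst hnn
    haveI : Nonempty (Fin n₁) := ⟨⟨0, hn0⟩⟩
    apply (algebraMap k K₁).injective
    rw [h₁, Matrix.trace_eq_neg_charpoly_coeff, hcp, Polynomial.coeff_map, Algebra.trace_apply,
      linearMap_trace_eq_neg_charpoly_coeff, hlm, hK, Fintype.card_fin]
    simp

end Main

end Groth.Agent.H7.RN
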