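import Mathlib

set_option autoImplicit false

namespace Groth.Agent.H7.RN
universe u v w
open Matrix

section Whitehead
variable {D : Type u} [DivisionRing D] {Ω : Type v} [Field Ω]

/-- the diagonal matrix with `d` at `i` and `1` elsewhere. -/
def dg {ι : Type w} [DecidableEq ι] (i : ι) (d : D) : Matrix ι ι D :=
  Matrix.diagonal (Function.update 1 i d)

theorem dg_mul_dg {ι : Type w} [Fintype ι] [DecidableEq ι] (i : ι) (d d' : D) :
    dg i d * dg i d' = dg i (d * d') := by
  unfold dg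
  rw [Matrix.diagonal_mul_diagonal]
  congr 1
  funext j
  by_cases h : j = i
  · subst h; simp
  · simp [Function.update_of_ne h]

theorem isUnit_one_add_of_sq_zero {R : Type*} [Ring R] (N : R) (hN : N * N = 0) :
    IsUnit (1 + N) := by
  refine ⟨⟨1 + N, 1 - N, ?_, ?_⟩, rfl⟩
  · have : (1 + N) * (1 - N) = 1 - N * N := by noncomm_ring
    rw [this, hN, sub_zero]
  · have : (1 - N) * (1 + N) = 1 - N * N := by noncomm_ring
    rw [this, hN, sub_zero]

variable {ι : Type w} [Fintype ι] [DecidableEq ι]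

theorem nu_perm (ν : Matrix ι ι D →* Ω) (i j : ι) (d : D) : ν (dg i d) = ν (dg j d) := by
  classical
  set σ : Equiv.Perm ι := Equiv.swap i j with hσ
  set P : Matrix ι ι D := σ.toPEquiv.toMatrix with hP
  set Q : Matrix ι ι D := σ.symm.toPEquiv.toMatrix with hQ
  have hPQ : P * Q = 1 := by
    rw [hP, PEquiv.toMatrix_toPEquiv_mul, hQ, PEquiv.toMatrix_toPEquiv_eq]
    ext a b
    simp [Matrix.one_apply]
  have hconj : P * dg i d * Q = dg j d := by
    rw [hP, PEquiv.toMatrix_toPEquiv_mul, hQ, PEquiv.mul_toMatrix_toPEquiv]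
    unfold dg
    rw [Matrix.submatrix_submatrix]
    show (Matrix.diagonal (Function.update (1 : ι → D) i d)).submatrix σ σ = _
    rw [Matrix.submatrix_diagonal_equiv]
    congr 1
    funext a
    simp only [Function.comp_apply]
    by_cases ha : a = j
    · subst ha
      simp [hσ]
    · rw [Function.update_of_ne ha]
      by_cases hai : a = i
      · subst hai
        by_cases hij : a = j
        · exact absurd hij ha
        · rw [hσ, Equiv.swap_apply_left, Function.update_of_ne (Ne.symm hij)]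
          rfl
      · rw [hσ, Equiv.swap_apply_of_ne_of_ne hai ha, Function.update_of_ne hai]
  have h1 : ν P * ν Q = 1 := by rw [← map_mul, hPQ, map_one]
  calc ν (dg i d) = ν (dg i d) * (ν P * ν Q) := by rw [h1, mul_one]
    _ = ν (P * dg i d * Q) := by rw [map_mul, map_mul]; ring
    _ = ν (dg j d) := by rw [hconj]

section Blocks
variable {ι' : Type w} [Fintype ι'] [DecidableEq ι']

/-- the restriction of `ν` to the lower right block. -/
def nuLower (ν : Matrix (Unit ⊕ ι') (Unit ⊕ ι') D →* Ω) : Matrix ι' ι' D →* Ω where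
  toFun X := ν (Matrix.fromBlocks 1 0 0 X)
  map_one' := by rw [Matrix.fromBlocks_one, map_one]
  map_mul' X Y := by
    rw [← map_mul, Matrix.fromBlocks_multiply]
    simp

theorem nuLower_apply (ν : Matrix (Unit ⊕ ι') (Unit ⊕ ι') D →* Ω) (X : Matrix ι' ι' D) :
    nuLower ν X = ν (Matrix.fromBlocks 1 0 0 X) := rfl

theorem nuLower_sq_zero (ν : Matrix (Unit ⊕ ι') (Unit ⊕ ι') D →* Ω)
    (hν : ∀ N, N * N = 0 → ν (1 + N) = 1) (N : Matrix ι' ι' D) (hN : N * N = 0) :
    nuLower ν (1 + N) = 1 := by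
  rw [nuLower_apply]
  have h1 : Matrix.fromBlocks (1 : Matrix Unit Unit D) 0 0 (1 + N) =
      1 + Matrix.fromBlocks 0 0 0 N := by
    rw [← Matrix.fromBlocks_one, Matrix.fromBlocks_add]
    simp
  rw [h1]
  apply hν
  rw [Matrix.fromBlocks_multiply]
  simp [hN]

theorem fromBlocks_eq_dg_inl (a : D) :
    Matrix.fromBlocks (fun _ _ => a : Matrix Unit Unit D) 0 0 (1 : Matrix ι' ι' D) =
      dg (Sum.inl ()) a := by
  unfold dg
  have h1 : (fun _ _ => a : Matrix Unit Unit D) = Matrix.diagonal (fun _ => a) := by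
    ext i j
    simp
  rw [h1, ← Matrix.diagonal_one, Matrix.fromBlocks_diagonal]
  congr 1
  funext i
  rcases i with ⟨⟩ | i
  · simp
  · simp

theorem fromBlocks_eq_dg_inr (j : ι') (a : D) :
    Matrix.fromBlocks (1 : Matrix Unit Unit D) 0 0 (dg j a) = dg (Sum.inr j) a := by
  unfold dg
  rw [← Matrix.diagonal_one, Matrix.fromBlocks_diagonal]
  congr 1
  funext i
  rcases i with ⟨⟩ | i
  · simp
  · by_cases h : i = j
    · subst h; simp
    · have : (Sum.inr i : Unit ⊕ ι') ≠ Sum.inr j := fun h' => h (Sum.inr_injective h')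
      simp [Function.update_of_ne h, Function.update_of_ne this]

theorem whitehead_pivot (ν : Matrix (Unit ⊕ ι') (Unit ⊕ ι') D →* Ω)
    (hν : ∀ N, N * N = 0 → ν (1 + N) = 1)
    (IH : ∀ (ν' : Matrix ι' ι' D →* Ω), (∀ N, N * N = 0 → ν' (1 + N) = 1) → ∀ (j₀ : ι')
      (g' : Matrix ι' ι' D), IsUnit g' → ∃ d : D, d ≠ 0 ∧ ν' g' = ν' (dg j₀ d))
    (g : Matrix (Unit ⊕ ι') (Unit ⊕ ι') D) (hg : IsUnit g)
    (ha : g (Sum.inl ()) (Sum.inl ()) ≠ 0) :
    ∃ d : D, d ≠ 0 ∧ ν g = ν (dg (Sum.inl ()) d) := by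
  classical
  set a := g (Sum.inl ()) (Sum.inl ()) with ha_def
  set A : Matrix Unit Unit D := g.toBlocks₁₁ with hA
  set B := g.toBlocks₁₂ with hB
  set C := g.toBlocks₂₁ with hC
  set E := g.toBlocks₂₂ with hE
  have hgb : g = Matrix.fromBlocks A B C E := (Matrix.fromBlocks_toBlocks g).symm
  have hAa : A = fun _ _ => a := by
    ext i j
    rfl
  set Ai : Matrix Unit Unit D := fun _ _ => a⁻¹ with hAi
  have hAAi : A * Ai = 1 := by
    ext i j
    simp [hAa, hAi, Matrix.mul_apply, mul_inv_cancel₀ ha]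
  have hAiA : Ai * A = 1 := by
    ext i j
    simp [hAa, hAi, Matrix.mul_apply, inv_mul_cancel₀ ha]
  set E' := E - C * Ai * B with hE'
  set NL : Matrix (Unit ⊕ ι') (Unit ⊕ ι') D := Matrix.fromBlocks 0 0 (C * Ai) 0 with hNL
  set NU : Matrix (Unit ⊕ ι') (Unit ⊕ ι') D := Matrix.fromBlocks 0 (Ai * B) 0 0 with hNU
  set Δ : Matrix (Unit ⊕ ι') (Unit ⊕ ι') D := Matrix.fromBlocks A 0 0 E' with hΔ
  have hNL2 : NL * NL = 0 := by
    rw [hNL, Matrix.fromBlocks_multiply]
    simp
  have hNU2 : NU * NU = 0 := by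
    rw [hNU, Matrix.fromBlocks_multiply]
    simp
  have hL : 1 + NL = Matrix.fromBlocks 1 0 (C * Ai) 1 := by
    rw [hNL, ← Matrix.fromBlocks_one, Matrix.fromBlocks_add]
    simp
  have hU : 1 + NU = Matrix.fromBlocks 1 (Ai * B) 0 1 := by
    rw [hNU, ← Matrix.fromBlocks_one, Matrix.fromBlocks_add]
    simp
  have hdecomp : g = (1 + NL) * Δ * (1 + NU) := by
    rw [hL, hU, hΔ, Matrix.fromBlocks_multiply, Matrix.fromBlocks_multiply, hgb]
    congr 1
    · simp
    · simp [Matrix.mul_assoc, ← Matrix.mul_assoc A Ai B, hAAi]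
    · simp [Matrix.mul_assoc, hAiA]
    · simp only [Matrix.zero_mul, Matrix.mul_zero, add_zero, zero_add, Matrix.one_mul,
        Matrix.mul_one]
      rw [hE', Matrix.mul_assoc C Ai A, hAiA, Matrix.mul_one, Matrix.mul_assoc]
      abel
  have hνg : ν g = ν Δ := by
    rw [hdecomp, map_mul, map_mul, hν NL hNL2, hν NU hNU2, one_mul, mul_one]
  -- `Δ` is a unit
  have hΔu : IsUnit Δ := by
    obtain ⟨uL, huL⟩ := isUnit_one_add_of_sq_zero NL hNL2
    obtain ⟨uU, huU⟩ := isUnit_one_add_of_sq_zero NU hNU2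
    have : Δ = (↑uL⁻¹ : Matrix _ _ D) * g * (↑uU⁻¹ : Matrix _ _ D) := by
      rw [hdecomp, ← huL, ← huU]
      simp [Matrix.mul_assoc]
    rw [this]
    exact ((uL⁻¹).isUnit.mul hg).mul (uU⁻¹).isUnit
  have hE'u : IsUnit E' := by
    obtain ⟨u, hu⟩ := hΔu
    set X : Matrix (Unit ⊕ ι') (Unit ⊕ ι') D := ↑u⁻¹ with hX
    have h1 : Δ * X = 1 := by rw [← hu, hX]; exact u.mul_inv
    have h2 : X * Δ = 1 := by rw [← hu, hX]; exact u.inv_mul
    rw [← Matrix.fromBlocks_toBlocks X, hΔ, Matrix.fromBlocks_multiply,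
      ← Matrix.fromBlocks_one] at h1 h2
    have h1' := congrArg Matrix.toBlocks₂₂ h1
    have h2' := congrArg Matrix.toBlocks₂₂ h2
    simp only [Matrix.toBlocks_fromBlocks₂₂, Matrix.zero_mul, Matrix.mul_zero, zero_add] at h1' h2'
    exact ⟨⟨E', X.toBlocks₂₂, h1', h2'⟩, rfl⟩
  have hΔsplit : Δ = Matrix.fromBlocks A 0 0 1 * Matrix.fromBlocks 1 0 0 E' := by
    rw [hΔ, Matrix.fromBlocks_multiply]
    simp
  have hA1 : Matrix.fromBlocks A 0 0 (1 : Matrix ι' ι' D) = dg (Sum.inl ()) a := by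
    rw [hAa]; exact fromBlocks_eq_dg_inl a
  rw [hνg, hΔsplit, map_mul, hA1]
  rcases isEmpty_or_nonempty ι' with hι | hι
  · have : E' = 1 := Subsingleton.elim _ _
    rw [this, Matrix.fromBlocks_one, map_one, mul_one]
    exact ⟨a, ha, rfl⟩
  · obtain ⟨j₀⟩ := hι
    obtain ⟨d', hd', hd'eq⟩ := IH (nuLower ν) (nuLower_sq_zero ν hν) j₀ E' hE'u
    rw [nuLower_apply, nuLower_apply, fromBlocks_eq_dg_inr, nu_perm ν (Sum.inr j₀) (Sum.inl ())]
      at hd'eq
    rw [hd'eq, ← map_mul, dg_mul_dg]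
    exact ⟨a * d', mul_ne_zero ha hd', rfl⟩

theorem whitehead_blocks (ν : Matrix (Unit ⊕ ι') (Unit ⊕ ι') D →* Ω)
    (hν : ∀ N, N * N = 0 → ν (1 + N) = 1)
    (IH : ∀ (ν' : Matrix ι' ι' D →* Ω), (∀ N, N * N = 0 → ν' (1 + N) = 1) → ∀ (j₀ : ι')
      (g' : Matrix ι' ι' D), IsUnit g' → ∃ d : D, d ≠ 0 ∧ ν' g' = ν' (dg j₀ d))
    (g : Matrix (Unit ⊕ ι') (Unit ⊕ ι') D) (hg : IsUnit g) :
    ∃ d : D, d ≠ 0 ∧ ν g = ν (dg (Sum.inl ()) d) := by
  classical
  by_cases ha : g (Sum.inl ()) (Sum.inl ()) ≠ 0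
  · exact whitehead_pivot ν hν IH g hg ha
  · push_neg at ha
    -- some entry of the first column is nonzero
    have hex : ∃ i : ι', g (Sum.inr i) (Sum.inl ()) ≠ 0 := by
      by_contra hcon
      push_neg at hcon
      have h1 : g * dg (Sum.inl ()) (0 : D) = g := by
        ext r c
        unfold dg
        rw [Matrix.mul_diagonal]
        rcases c with ⟨⟩ | c
        · rcases r with ⟨⟩ | r
          · simp [ha]
          · simp [hcon r]
        · simp
      obtain ⟨u, hu⟩ := hg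
      have h2 : dg (Sum.inl ()) (0 : D) = (1 : Matrix (Unit ⊕ ι') (Unit ⊕ ι') D) := by
        have := congrArg (fun M => (↑u⁻¹ : Matrix (Unit ⊕ ι') (Unit ⊕ ι') D) * M) h1
        simp only [← Matrix.mul_assoc] at this
        rw [← hu, Units.inv_mul, Matrix.one_mul] at this
        exact this
      have h3 := congrFun (congrFun h2 (Sum.inl ())) (Sum.inl ())
      simp [dg] at h3
    obtain ⟨i, hi⟩ := hex
    set NT : Matrix (Unit ⊕ ι') (Unit ⊕ ι') D := Matrix.single (Sum.inl ()) (Sum.inr i) 1 with hNT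
    have hNT2 : NT * NT = 0 := by
      rw [hNT]
      exact Matrix.single_mul_single_of_ne _ _ _ _ (by simp) _
    have hTg : ((1 + NT) * g) (Sum.inl ()) (Sum.inl ()) ≠ 0 := by
      rw [add_mul, one_mul, Matrix.add_apply, ha, zero_add, hNT, Matrix.single_mul_apply_same,
        one_mul]
      exact hi
    have hTu : IsUnit ((1 + NT) * g) := (isUnit_one_add_of_sq_zero NT hNT2).mul hg
    obtain ⟨d, hd, hdeq⟩ := whitehead_pivot ν hν IH _ hTu hTg
    refine ⟨d, hd, ?_⟩
    rw [← hdeq, map_mul, hν NT hNT2, one_mul]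

end Blocks

section General

theorem whitehead_aux : ∀ (n : ℕ) (ι : Type w) [Fintype ι] [DecidableEq ι],
    Fintype.card ι = n → ∀ (ν : Matrix ι ι D →* Ω), (∀ N, N * N = 0 → ν (1 + N) = 1) →
    ∀ (i₀ : ι) (g : Matrix ι ι D), IsUnit g → ∃ d : D, d ≠ 0 ∧ ν g = ν (dg i₀ d) := by
  intro n
  induction n with
  | zero =>
    intro ι _ _ hcard ν hν i₀
    exact absurd (Fintype.card_pos_iff.mpr ⟨i₀⟩) (by omega)
  | succ n ih =>
    intro ι _ _ hcard ν hν i₀ g hg
    classical
    -- split off `i₀`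
    let e : ι ≃ Unit ⊕ {j : ι // j ≠ i₀} :=
      { toFun := fun j => if h : j = i₀ then Sum.inl () else Sum.inr ⟨j, h⟩
        invFun := fun s => Sum.elim (fun _ => i₀) (fun j => j.1) s
        left_inv := fun j => by
          by_cases h : j = i₀
          · simp [h]
          · simp [h]
        right_inv := fun s => by
          rcases s with ⟨⟩ | ⟨j, hj⟩
          · simp
          · simp [hj] }
    have he0 : e i₀ = Sum.inl () := by simp [e]
    have hcard' : Fintype.card {j : ι // j ≠ i₀} = n := by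
      rw [Fintype.card_subtype_compl, Fintype.card_subtype_eq, hcard]
      omega
    let r : Matrix ι ι D ≃ₐ[ℤ] Matrix (Unit ⊕ {j : ι // j ≠ i₀}) (Unit ⊕ {j : ι // j ≠ i₀}) D :=
      Matrix.reindexAlgEquiv ℤ D e
    let ν₁ : Matrix (Unit ⊕ {j : ι // j ≠ i₀}) (Unit ⊕ {j : ι // j ≠ i₀}) D →* Ω :=
      ν.comp (r.symm : _ →* _)
    have hν₁ : ∀ N, N * N = 0 → ν₁ (1 + N) = 1 := by
      intro N hN
      show ν (r.symm (1 + N)) = 1
      rw [map_add, map_one]
      apply hν
      rw [← map_mul, hN, map_zero]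
    obtain ⟨d, hd, hdeq⟩ := whitehead_blocks ν₁ hν₁
      (fun ν' hν' j₀ g' hg' => ih _ hcard' ν' hν' j₀ g' hg') (r g) (hg.map r)
    refine ⟨d, hd, ?_⟩
    have h1 : ν₁ (r g) = ν g := by
      show ν (r.symm (r g)) = ν g
      rw [AlgEquiv.symm_apply_apply]
    have h2 : r.symm (dg (Sum.inl ()) d) = dg i₀ d := by
      show Matrix.reindex e.symm e.symm (dg (Sum.inl ()) d) = dg i₀ d
      unfold dg
      rw [Matrix.reindex_apply, Equiv.symm_symm, Matrix.submatrix_diagonal_equiv]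
      congr 1
      funext j
      simp only [Function.comp_apply]
      by_cases hj : j = i₀
      · subst hj
        rw [he0]
        simp
      · rw [Function.update_of_ne hj]
        have : e j ≠ Sum.inl () := by
          rw [← he0]
          exact fun h => hj (e.injective h)
        rw [Function.update_of_ne this]
        rfl
    rw [← h1, hdeq]
    show ν (r.symm _) = _
    rw [h2]

/-- Dieudonné/Whitehead: a multiplicative function on matrices over a division ring which is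
trivial on `1 + N` with `N² = 0` takes on invertible matrices only values of diagonal matrices
`diag(d, 1, …, 1)`. -/
theorem whitehead {ι : Type w} [Fintype ι] [DecidableEq ι] (ν : Matrix ι ι D →* Ω)
    (hν : ∀ N, N * N = 0 → ν (1 + N) = 1) (i₀ : ι) (g : Matrix ι ι D) (hg : IsUnit g) :
    ∃ d : D, d ≠ 0 ∧ ν g = ν (dg i₀ d) :=
  whitehead_aux _ ι rfl ν hν i₀ g hg

end General

end Whitehead

end Groth.Agent.H7.RN
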