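import Mathlib
import Groth.Prelude.Def_GSzCSA
import Groth.Agent.Lib.Helper7.RN1
import Groth.Agent.Lib.Helper7.RN2
import Groth.Agent.Lib.Helper7.CSA17

set_option autoImplicit false

namespace Groth.Agent.H7.RN
universe u v w w'
open scoped TensorProduct
open Module Polynomial

section DetNilp

theorem det_one_add_of_sq_zero {K : Type*} [Field K] {ι : Type*} [Fintype ι] [DecidableEq ι]
    (M : Matrix ι ι K) (hM : M * M = 0) : (1 + M).det = 1 := by
  have hnil : IsNilpotent M := ⟨2, by rw [pow_two, hM]⟩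
  have h1 : M.charpoly = X ^ Fintype.card ι :=
    sub_eq_zero.mp (IsNilpotent.eq_zero (Matrix.isNilpotent_charpoly_sub_pow_of_isNilpotent hnil))
  have h2 := Matrix.eval_charpoly M (-1)
  rw [h1, eval_pow, eval_X] at h2
  have h3 : Matrix.scalar ι (-1 : K) - M = -(1 + M) := by
    rw [map_neg, map_one]
    abel
  rw [h3, Matrix.det_neg] at h2
  have h4 : ((-1 : K)) ^ Fintype.card ι ≠ 0 := pow_ne_zero _ (by norm_num)
  have h5 : (-1 : K) ^ Fintype.card ι * 1 = (-1 : K) ^ Fintype.card ι * (1 + M).det := by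
    rw [mul_one]; exact h2
  exact (mul_left_cancel₀ h4 h5).symm

end DetNilp

section Independence
variable (k : Type u) [Field k] (X : Type v) [Ring X] [Algebra k X] [Algebra.IsCentral k X]
  [IsSimpleRing X] (Ω : Type w) [Field Ω] [Algebra k Ω]

theorem det_eq_of_algHom (n : ℕ) [NeZero n]
    (ρ ρ' : X →ₐ[k] Matrix (Fin n) (Fin n) Ω) (x : X) : (ρ x).det = (ρ' x).det := by
  have h1 : IsSimpleRing (Ω ⊗[k] X) := CSA.isSimpleRing_tensor k Ω X
  set Φ : Ω ⊗[k] X →ₐ[Ω] Matrix (Fin n) (Fin n) Ω :=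
    Algebra.TensorProduct.lift (Algebra.ofId Ω _) ρ
      (fun a y => Algebra.commute_algebraMap_left a (ρ y)) with hΦ
  set Φ' : Ω ⊗[k] X →ₐ[Ω] Matrix (Fin n) (Fin n) Ω :=
    Algebra.TensorProduct.lift (Algebra.ofId Ω _) ρ'
      (fun a y => Algebra.commute_algebraMap_left a (ρ' y)) with hΦ'
  obtain ⟨u, hu⟩ := CSA.skolem_noether Ω (Matrix (Fin n) (Fin n) Ω) (Ω ⊗[k] X) Φ Φ'
  have h2 := hu (1 ⊗ₜ[k] x)
  rw [hΦ, hΦ', Algebra.TensorProduct.lift_tmul, Algebra.TensorProduct.lift_tmul, map_one, one_mul,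
    one_mul] at h2
  rw [h2]
  exact Matrix.det_units_conj u (ρ' x)

theorem det_eq_of_algHom' {ι ι' : Type*} [Fintype ι] [DecidableEq ι] [Fintype ι'] [DecidableEq ι']
    [Nonempty ι] (hcard : Fintype.card ι = Fintype.card ι')
    (ρ : X →ₐ[k] Matrix ι ι Ω) (ρ' : X →ₐ[k] Matrix ι' ι' Ω) (x : X) :
    (ρ x).det = (ρ' x).det := by
  haveI : NeZero (Fintype.card ι) := ⟨Fintype.card_ne_zero⟩
  let e : ι ≃ Fin (Fintype.card ι) := Fintype.equivFin ι
  let e' : ι' ≃ Fin (Fintype.card ι) := Fintype.equivFinOfCardEq hcard.symm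
  have := det_eq_of_algHom k X Ω (Fintype.card ι)
    (((Matrix.reindexAlgEquiv k Ω e) : _ →ₐ[k] _).comp ρ)
    (((Matrix.reindexAlgEquiv k Ω e') : _ →ₐ[k] _).comp ρ') x
  simpa [Matrix.det_reindexAlgEquiv] using this

end Independence

section BlockRep
variable (k : Type u) [Field k] (D : Type v) [DivisionRing D] [Algebra k D]
  (Ω : Type w) [Field Ω] [Algebra k Ω] (q : ℕ) (ρ : D →ₐ[k] Matrix (Fin q) (Fin q) Ω)

/-- the block representation of `M_s(D)`. -/
noncomputable def blockRep (s : ℕ) :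
    Matrix (Fin s) (Fin s) D →ₐ[k] Matrix (Fin s × Fin q) (Fin s × Fin q) Ω :=
  ((Matrix.compAlgEquiv (Fin s) (Fin q) Ω k) : _ →ₐ[k] _).comp ρ.mapMatrix

theorem blockRep_apply (s : ℕ) (M : Matrix (Fin s) (Fin s) D) (i j : Fin s) (a b : Fin q) :
    blockRep k D Ω q ρ s M (i, a) (j, b) = ρ (M i j) a b := rfl

/-- the multiplicative function `det ∘ blockRep`. -/
noncomputable def nuS (s : ℕ) : Matrix (Fin s) (Fin s) D →* Ω where
  toFun M := (blockRep k D Ω q ρ s M).det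
  map_one' := by rw [map_one, Matrix.det_one]
  map_mul' M N := by rw [map_mul, Matrix.det_mul]

theorem nuS_apply (s : ℕ) (M : Matrix (Fin s) (Fin s) D) :
    nuS k D Ω q ρ s M = (blockRep k D Ω q ρ s M).det := rfl

theorem nuS_sq_zero (s : ℕ) (N : Matrix (Fin s) (Fin s) D) (hN : N * N = 0) :
    nuS k D Ω q ρ s (1 + N) = 1 := by
  rw [nuS_apply, map_add, map_one]
  apply det_one_add_of_sq_zero
  rw [← map_mul, hN, map_zero]

theorem nuS_dg (s : ℕ) (i₀ : Fin s) (d : D) : nuS k D Ω q ρ s (dg i₀ d) = (ρ d).det := by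
  classical
  rw [nuS_apply]
  have h1 : blockRep k D Ω q ρ s (dg i₀ d) =
      (Matrix.blockDiagonal (fun i : Fin s => ρ (Function.update (1 : Fin s → D) i₀ d i))).submatrix
        (Equiv.prodComm (Fin s) (Fin q)) (Equiv.prodComm (Fin s) (Fin q)) := by
    ext ⟨i, a⟩ ⟨j, b⟩
    rw [blockRep_apply]
    simp only [dg, Matrix.submatrix_apply, Equiv.prodComm_apply, Prod.swap_prod_mk,
      Matrix.blockDiagonal_apply]
    by_cases hij : i = j
    · subst hij
      simp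
    · simp [hij]
  rw [h1, Matrix.det_submatrix_equiv_self, Matrix.det_blockDiagonal]
  rw [Fintype.prod_eq_single i₀]
  · simp
  · intro j hj
    rw [Function.update_of_ne hj]
    simp

end BlockRep

section Characterization
variable (k : Type u) [Field k] (A : Type v) [Ring A] [Algebra k A]
  [Algebra.IsCentral k A] [IsSimpleRing A] [FiniteDimensional k A]

theorem dg_one {D : Type*} [DivisionRing D] {ι : Type*} [DecidableEq ι] (i : ι) :
    dg i (1 : D) = (1 : Matrix ι ι D) := by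
  unfold dg
  rw [← Matrix.diagonal_one]
  congr 1
  funext j
  by_cases h : j = i
  · subst h; simp
  · simp [Function.update_of_ne h]

theorem isUnit_dg {D : Type*} [DivisionRing D] {ι : Type*} [Fintype ι] [DecidableEq ι] (i : ι)
    (d : D) (hd : d ≠ 0) : IsUnit (dg i d : Matrix ι ι D) := by
  refine ⟨⟨dg i d, dg i d⁻¹, ?_, ?_⟩, rfl⟩
  · rw [dg_mul_dg, mul_inv_cancel₀ hd, dg_one]
  · rw [dg_mul_dg, inv_mul_cancel₀ hd, dg_one]

/-- the reduced norm, computed through any matrix presentation and any splitting of the division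
algebra. -/
theorem algebraMap_redNorm_eq (N : A →* k) (hN : CSAGal.IsRedNorm k A N)
    (D : Type w') [DivisionRing D] [Algebra k D] (r : ℕ) [NeZero r]
    (eA : A ≃ₐ[k] Matrix (Fin r) (Fin r) D)
    (Ω : Type w) [Field Ω] [Algebra k Ω] [IsAlgClosed Ω] (q : ℕ) [NeZero q]
    (hq : finrank k D = q * q)
    (ρ : D →ₐ[k] Matrix (Fin q) (Fin q) Ω) (a : A) :
    algebraMap k Ω (N a) = nuS k D Ω q ρ r (eA a) := by
  obtain ⟨K₁, _, _, _, n₁, φ₁, h₁⟩ := hN
  let j : K₁ →ₐ[k] Ω := IsAlgClosed.lift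
  let ρ₁ : A →ₐ[k] Matrix (Fin n₁) (Fin n₁) Ω :=
    (j.mapMatrix).comp (((φ₁ : K₁ ⊗[k] A →ₐ[K₁] _).restrictScalars k).comp
      Algebra.TensorProduct.includeRight)
  let ρ₂ : A →ₐ[k] Matrix (Fin r × Fin q) (Fin r × Fin q) Ω :=
    (blockRep k D Ω q ρ r).comp (eA : A →ₐ[k] _)
  have hdim : n₁ = r * q := by
    have h2 := CSA.finrank_eq_of_split k A K₁ n₁ φ₁
    have h3 : finrank k A = r * r * finrank k D := by
      rw [eA.toLinearEquiv.finrank_eq, Module.finrank_matrix]; simp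
    rw [h3, hq] at h2
    have : (r * q) * (r * q) = n₁ * n₁ := by rw [← h2]; ring
    exact (Nat.mul_self_inj.mp this).symm
  have hn₁ : n₁ ≠ 0 := by
    rw [hdim]; exact Nat.mul_ne_zero (NeZero.ne r) (NeZero.ne q)
  haveI : Nonempty (Fin n₁) := ⟨⟨0, Nat.pos_of_ne_zero hn₁⟩⟩
  have hind := det_eq_of_algHom' k A Ω (ι := Fin n₁) (ι' := Fin r × Fin q)
    (by simp [hdim]) ρ₁ ρ₂ a
  have h4 : (ρ₁ a).det = algebraMap k Ω (N a) := by
    show (j.mapMatrix (φ₁ (1 ⊗ₜ[k] a))).det = _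
    rw [← AlgHom.map_det, ← h₁, AlgHom.commutes]
  rw [← h4, hind]
  rfl

theorem redNorm_units_iff (N : A →* k) (hN : CSAGal.IsRedNorm k A N)
    (D : Type w') [DivisionRing D] [Algebra k D] (r : ℕ) [NeZero r]
    (eA : A ≃ₐ[k] Matrix (Fin r) (Fin r) D)
    (Ω : Type w) [Field Ω] [Algebra k Ω] [IsAlgClosed Ω] (q : ℕ) [NeZero q]
    (hq : finrank k D = q * q)
    (ρ : D →ₐ[k] Matrix (Fin q) (Fin q) Ω) (c : k) :
    (∃ a : A, IsUnit a ∧ N a = c) ↔ ∃ d : D, d ≠ 0 ∧ algebraMap k Ω c = (ρ d).det := by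
  have hi₀ : 0 < r := NeZero.pos r
  constructor
  · rintro ⟨a, ha, rfl⟩
    obtain ⟨d, hd, hdeq⟩ := whitehead (nuS k D Ω q ρ r) (nuS_sq_zero k D Ω q ρ r) ⟨0, hi₀⟩ (eA a)
      (ha.map eA)
    refine ⟨d, hd, ?_⟩
    rw [algebraMap_redNorm_eq k A N hN D r eA Ω q hq ρ a, hdeq, nuS_dg]
  · rintro ⟨d, hd, hdeq⟩
    refine ⟨eA.symm (dg ⟨0, hi₀⟩ d), (isUnit_dg _ d hd).map eA.symm, ?_⟩
    apply (algebraMap k Ω).injective
    rw [algebraMap_redNorm_eq k A N hN D r eA Ω q hq ρ, AlgEquiv.apply_symm_apply, nuS_dg, hdeq]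

end Characterization

section Brauer

/-- S13259: Brauer equivalent central simple algebras have the same reduced norm groups. -/
theorem range_redNorm_eq (k : Type u) [Field k] (A : Type v) [Ring A] [Algebra k A]
    [Algebra.IsCentral k A] [IsSimpleRing A] [FiniteDimensional k A]
    (B : Type w) [Ring B] [Algebra k B] [Algebra.IsCentral k B] [IsSimpleRing B]
    [FiniteDimensional k B]
    (n m : ℕ) (hn : n ≠ 0) (hm : m ≠ 0)
    (e : Matrix (Fin n) (Fin n) A ≃ₐ[k] Matrix (Fin m) (Fin m) B)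
    (NA : A →* k) (hNA : CSAGal.IsRedNorm k A NA) (NB : B →* k) (hNB : CSAGal.IsRedNorm k B NB) :
    (Units.map NA).range = (Units.map NB).range := by
  haveI : NeZero n := ⟨hn⟩
  haveI : NeZero m := ⟨hm⟩
  haveI : IsArtinianRing A := IsArtinianRing.of_finite k A
  haveI : IsArtinianRing B := IsArtinianRing.of_finite k B
  obtain ⟨r, hr, D, _, _, _, ⟨eA⟩⟩ := IsSimpleRing.exists_algEquiv_matrix_divisionRing_finite k A
  obtain ⟨t, ht, D', _, _, _, ⟨eB⟩⟩ := IsSimpleRing.exists_algEquiv_matrix_divisionRing_finite k B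
  let f₁ : Matrix (Fin n) (Fin n) A ≃ₐ[k] Matrix (Fin (n*r)) (Fin (n*r)) D :=
    (eA.mapMatrix).trans (CSA.matMatEquiv k D n r)
  let f₂ : Matrix (Fin m) (Fin m) B ≃ₐ[k] Matrix (Fin (m*t)) (Fin (m*t)) D' :=
    (eB.mapMatrix).trans (CSA.matMatEquiv k D' m t)
  haveI : NeZero (n*r) := ⟨Nat.mul_ne_zero hn hr.ne⟩
  haveI : NeZero (m*t) := ⟨Nat.mul_ne_zero hm ht.ne⟩
  obtain ⟨g⟩ := CSA.divisionRing_unique k (Matrix (Fin n) (Fin n) A) D D' (n*r) (m*t) f₁
    (e.trans f₂)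
  haveI : Algebra.IsCentral k (Matrix (Fin r) (Fin r) D) := Algebra.IsCentral.of_algEquiv k A _ eA
  haveI : Algebra.IsCentral k D := CSA.isCentral_of_matrix k D r
  obtain ⟨q, hq, ⟨φ⟩⟩ := CSA.exists_algEquiv_matrix_of_isAlgClosed k D (AlgebraicClosure k)
  have hqd : finrank k D = q * q := CSA.finrank_eq_of_split k D (AlgebraicClosure k) q φ
  let ρ : D →ₐ[k] Matrix (Fin q) (Fin q) (AlgebraicClosure k) :=
    ((φ : AlgebraicClosure k ⊗[k] D →ₐ[AlgebraicClosure k] _).restrictScalars k).comp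
      Algebra.TensorProduct.includeRight
  let ρ' : D' →ₐ[k] Matrix (Fin q) (Fin q) (AlgebraicClosure k) := ρ.comp (g.symm : D' →ₐ[k] D)
  have hqd' : finrank k D' = q * q := by rw [← g.toLinearEquiv.finrank_eq, hqd]
  have key : ∀ c : k, (∃ a : A, IsUnit a ∧ NA a = c) ↔ ∃ b : B, IsUnit b ∧ NB b = c := by
    intro c
    rw [redNorm_units_iff k A NA hNA D r eA (AlgebraicClosure k) q hqd ρ c,
      redNorm_units_iff k B NB hNB D' t eB (AlgebraicClosure k) q hqd' ρ' c]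
    constructor
    · rintro ⟨d, hd, hdeq⟩
      refine ⟨g d, by simpa using hd, ?_⟩
      rw [hdeq]
      show _ = (ρ (g.symm (g d))).det
      rw [AlgEquiv.symm_apply_apply]
    · rintro ⟨d', hd', hdeq⟩
      exact ⟨g.symm d', by simpa using hd', hdeq⟩
  ext c
  constructor
  · rintro ⟨u, rfl⟩
    obtain ⟨b, hb, hbeq⟩ := (key (NA u)).mp ⟨u, u.isUnit, rfl⟩
    exact ⟨hb.unit, Units.ext (by simpa using hbeq)⟩
  · rintro ⟨u, rfl⟩
    obtain ⟨a, ha, haeq⟩ := (key (NB u)).mpr ⟨u, u.isUnit, rfl⟩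
    exact ⟨ha.unit, Units.ext (by simpa using haeq)⟩

end Brauer

end Groth.Agent.H7.RN
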