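import Groth.Agent.Lib.Helper7.QFin6
import Groth.Agent.Lib.Helper5.AlgSp.LQFFibre
import Groth.Agent.Lib.Helper5.AlgSp.SepMor
import Mathlib

/-!
# Characterizations of finite morphisms of algebraic spaces (S10649)
-/

set_option autoImplicit false
universe u

open AlgebraicGeometry CategoryTheory Limits

namespace Groth.Agent.H7.QFinSp

open _root_.AlgSp Groth.Agent.H5.AlgSp Groth.Agent.H5.EtSrc Groth.Agent.H5.Descent

variable {S : Scheme.{u}}

theorem finite_le_isSeparated : (@IsFinite : MorphismProperty Scheme.{u}) ≤ @IsSeparated :=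
  fun _ _ g (hg : IsFinite g) => (inferInstance : IsSeparated g)

theorem finite_le_lft : (@IsFinite : MorphismProperty Scheme.{u}) ≤ @LocallyOfFiniteType :=
  fun _ _ g (hg : IsFinite g) => (inferInstance : LocallyOfFiniteType g)

/-- finite morphisms of algebraic spaces are proper and locally quasi-finite. -/
theorem isProperMor_and_lqf_of_isFiniteMor {X Y : Sp S} {f : X ⟶ Y} (h : IsFiniteMor f) :
    IsProperMor f ∧ LocP (@LocallyQuasiFinite ⊓ @LocallyOfFiniteType) f := by
  have hfin : RepWith @IsFinite f := isFiniteMor_iff_repWith.1 h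
  refine ⟨⟨(isSeparatedMor_iff_repWith hfin.rep).2 (repWith_mono finite_le_isSeparated hfin),
    ⟨locP_of_repWith etale_le_lft (repWith_mono finite_le_lft hfin),
      isQuasiCompactMor_of_repWith (repWith_mono finite_le_quasiCompact hfin)⟩,
    (repWith_universallyClosed_iff hfin.rep).1 (repWith_mono finite_le_univClosed hfin)⟩,
    locP_of_repWith etale_le_lqf_lft (repWith_mono finite_le_lqf_lft hfin)⟩

theorem S10649_main {X Y : AlgSp.Space S} (f : X ⟶ Y) :
    [AlgSp.IsFiniteMor f.hom,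
      AlgSp.IsProperMor f.hom ∧ AlgSp.LocP (@LocallyQuasiFinite ⊓ @LocallyOfFiniteType) f.hom,
      AlgSp.IsProperMor f.hom ∧
        ∀ (k : AlgSp.FieldPt Y.obj) (Xk : AlgSp.Sp S) (fst : Xk ⟶ X.obj)
          (snd : Xk ⟶ (AlgSp.yon S).obj k.pt),
          IsPullback fst snd f.hom k.toHom → DiscreteTopology (AlgSp.Points Xk),
      AlgSp.IsUnivClosedMor f.hom ∧ AlgSp.IsSeparatedMor f.hom ∧
        AlgSp.LocP @LocallyOfFiniteType f.hom ∧
        ∀ (k : AlgSp.FieldPt Y.obj) (Xk : AlgSp.Sp S) (fst : Xk ⟶ X.obj)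
          (snd : Xk ⟶ (AlgSp.yon S).obj k.pt),
          IsPullback fst snd f.hom k.toHom → DiscreteTopology (AlgSp.Points Xk)].TFAE := by
  have hdisc : LocP (@LocallyQuasiFinite ⊓ @LocallyOfFiniteType) f.hom →
      ∀ (k : AlgSp.FieldPt Y.obj) (Xk : AlgSp.Sp S) (fst : Xk ⟶ X.obj)
        (snd : Xk ⟶ (AlgSp.yon S).obj k.pt),
        IsPullback fst snd f.hom k.toHom → DiscreteTopology (AlgSp.Points Xk) := by
    intro hl k Xk fst snd sq
    have hXk : IsAlgSpace Xk :=
      isAlgSpace_pullback Y.property.diag X.property (IsAlgSpace.yon_obj _) sq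
    exact discreteTopology_points_of_locP_lqf hXk k.str snd
      (locP_of_isPullback etale_le_lqf_lft sq X.property Y.property (IsAlgSpace.yon_obj _) hl)
  tfae_have 1 → 2 := isProperMor_and_lqf_of_isFiniteMor
  tfae_have 2 → 1 := fun ⟨hp, hl⟩ =>
    isFiniteMor_of_isProperMor_of_lqf X.property Y.property f.hom hp hl
  tfae_have 2 → 3 := fun ⟨hp, hl⟩ => ⟨hp, hdisc hl⟩
  tfae_have 3 → 4 := fun ⟨⟨hs, ⟨hl, _⟩, hc⟩, hd⟩ => ⟨hc, hs, hl, hd⟩
  tfae_have 4 → 2 := fun ⟨hc, hs, hl, hd⟩ =>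
    ⟨⟨hs, ⟨hl, isQuasiCompactMor_of_isUnivClosedMor X.property Y.property hc⟩, hc⟩,
      locP_lqf_of_discrete_fibres X.property Y.property hl
        (fun k _ str y P fst snd sq => hd (fpOfHom str y) P fst snd
          (by rw [toHom_fpOfHom]; exact sq))⟩
  tfae_finish

end Groth.Agent.H7.QFinSp
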