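import Mathlib
import Groth.Prelude.Def_AlgSp4
import Groth.Prelude.Def_W4stk3spdivLocPr
import Groth.Agent.Lib.Helper5.AlgSp.AffineMor
import Groth.Agent.Lib.Helper5.AlgSp.ImmersionTop
import Groth.Agent.Lib.Helper5.Descent.AffineMorDescent

set_option autoImplicit false
universe u
open CategoryTheory CategoryTheory.Limits AlgebraicGeometry Opposite

namespace Groth.Agent.H7.LocPrAff

open _root_.AlgSp Groth.Agent.H5.AlgSp

/-- The complement of a locally principal closed subscheme is affine over the ambient scheme. -/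
theorem isAffineHom_of_range_eq_compl_support {W V : Scheme.{u}} (g : W ⟶ V) [IsOpenImmersion g]
    (I : V.IdealSheafData) (hI : Curv2.IsLocPrincipal I)
    (hr : Set.range g = (I.support : Set V)ᶜ) : IsAffineHom g := by
  apply isAffineHom_of_forall_exists_isAffineOpen
  intro x
  by_cases hx : x ∈ I.support
  · obtain ⟨U, hxU, f, hf⟩ := hI x hx
    refine ⟨U.1, hxU, U.2, ?_⟩
    rw [← g.isAffineOpen_iff_of_isOpenImmersion, g.image_preimage_eq_opensRange_inf]
    have : g.opensRange ⊓ U.1 = V.basicOpen f := by
      ext y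
      constructor
      · rintro ⟨hy1, hy2⟩
        have hy1' : y ∈ Set.range g := hy1
        rw [hr] at hy1'
        have h3 : y ∉ I.support := hy1'
        rw [Scheme.IdealSheafData.mem_support_iff_of_mem hy2, hf, Scheme.zeroLocus_span,
          Scheme.zeroLocus_singleton] at h3
        simpa using h3
      · intro hy
        have hy2 : y ∈ U.1 := V.basicOpen_le f hy
        refine ⟨?_, hy2⟩
        change y ∈ Set.range g
        rw [hr]
        change y ∉ I.support
        rw [Scheme.IdealSheafData.mem_support_iff_of_mem hy2, hf, Scheme.zeroLocus_span,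
          Scheme.zeroLocus_singleton]
        simpa using hy
    rw [this]
    exact U.2.basicOpen f
  · have hx' : x ∈ g.opensRange := by
      change x ∈ Set.range g
      rw [hr]; exact hx
    obtain ⟨_, ⟨U, hU, rfl⟩, hxU, hUle⟩ :=
      V.isBasis_affineOpens.exists_subset_of_mem_open hx' g.opensRange.2
    exact ⟨U, hxU, hU, hU.preimage_of_isOpenImmersion g hUle⟩

end Groth.Agent.H7.LocPrAff

namespace Groth.Agent.H7.LocPrAff

open _root_.AlgSp Groth.Agent.H5.AlgSp

variable {S : Scheme.{u}}

theorem S10806_sp {X Z U : Sp S}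
    (i : Z ⟶ X) (hZ : AlgSp.IsLocPrincipalSub i) (j : U ⟶ X)
    (hj : AlgSp.RepWith @IsOpenImmersion j)
    (hU : Set.range (AlgSp.Points.map j) = (Set.range (AlgSp.Points.map i))ᶜ) :
    AlgSp.IsAffineMor j := by
  obtain ⟨-, V, φ, I, fst, hφe, hφs, sqZ, hI⟩ := hZ
  have sq := hj.rep.isPullback φ
  have ho : IsOpenImmersion (hj.rep.snd φ).left := hj.property_snd φ
  have h1 := preimage_range_points_map j sq
  have h2 := preimage_range_points_map i sqZ
  have hr : Set.range (hj.rep.snd φ).left = (I.support : Set V.left)ᶜ := by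
    rw [← h1, hU, Set.preimage_compl, h2]
    congr 1
    change Set.range I.subschemeι = _
    exact I.range_subschemeι
  have haff : IsAffineHom (hj.rep.snd φ).left :=
    isAffineHom_of_range_eq_compl_support _ I hI hr
  have h3 : RepWith @IsAffineHom ((yon S).map (hj.rep.snd φ)) :=
    (repWith_yon_map_iff @IsAffineHom _).2 haff
  exact Groth.Agent.H5.Descent.isAffineMor_of_baseChange_etale hφe hφs sq (isAffineMor_of_repWith h3)

theorem S10806_main (X Z U : AlgSp.Space S)
    (i : Z ⟶ X) (hZ : AlgSp.IsLocPrincipalSub i.hom) (j : U ⟶ X) (hj : AlgSp.RepWith @IsOpenImmersion j.hom)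
    (hU : Set.range (AlgSp.Points.map j.hom) = (Set.range (AlgSp.Points.map i.hom))ᶜ) :
    AlgSp.IsAffineMor j.hom :=
  S10806_sp i.hom hZ j.hom hj hU

end Groth.Agent.H7.LocPrAff
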