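import Mathlib
import Groth.Prelude.Def_AlgSp4
import Groth.Agent.Lib.Helper3.AlgSpCov.YonCoprod

set_option autoImplicit false
universe u
open CategoryTheory CategoryTheory.Limits AlgebraicGeometry Opposite

namespace Groth.Agent.H7.FinCoprod

open _root_.AlgSp Groth.Agent.H5.AlgSp Groth.Agent.H3.AlgSpCov

/-- A finite disjoint union of affine schemes finite over an affine scheme is finite over it. -/
lemma isFinite_sigmaDesc {ι : Type u} [Finite ι] (W : ι → Scheme.{u}) [∀ i, IsAffine (W i)]
    {Z : Scheme.{u}} [IsAffine Z] (c : ∀ i, W i ⟶ Z) (h : ∀ i, IsFinite (c i)) :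
    IsFinite (Sigma.desc c) := by
  let R : ι → CommRingCat.{u} := fun i => Γ(W i, ⊤)
  let φ : Γ(Z, ⊤) →+* (∀ i, R i) := RingHom.pi fun i => (c i).appTop.hom
  have hφ : φ.Finite := by
    letI : ∀ i, Algebra Γ(Z, ⊤) (R i) := fun i => (c i).appTop.hom.toAlgebra
    have hfin : ∀ i, Module.Finite Γ(Z, ⊤) (R i) := fun i => (c i).finite_appTop
    have h2 : Module.Finite Γ(Z, ⊤) (∀ i, R i) := by
      haveI := Fintype.ofFinite ι
      exact Module.Finite.pi
    exact h2
  have key : Sigma.desc c ≫ Z.isoSpec.hom =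
      (Sigma.mapIso fun i => (W i).isoSpec).hom ≫ sigmaSpec R ≫
        Spec.map (CommRingCat.ofHom φ) := by
    apply Sigma.hom_ext
    intro i
    have e1 : Sigma.ι W i ≫ (Sigma.mapIso fun i => (W i).isoSpec).hom =
        (W i).isoSpec.hom ≫ Sigma.ι (fun i => Spec (R i)) i := by simp [R]
    rw [Sigma.ι_desc_assoc, ← Category.assoc (Sigma.ι W i), e1, Category.assoc,
      ι_sigmaSpec_assoc, ← Scheme.isoSpec_hom_naturality, ← Spec.map_comp]
    rfl
  have h1 : IsFinite (Spec.map (CommRingCat.ofHom φ)) := (IsFinite.SpecMap_iff _).2 hφ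
  have h3 : Sigma.desc c = ((Sigma.mapIso fun i => (W i).isoSpec).hom ≫ sigmaSpec R ≫
        Spec.map (CommRingCat.ofHom φ)) ≫ Z.isoSpec.inv := by
    rw [← key, Category.assoc, Iso.hom_inv_id, Category.comp_id]
  rw [h3]
  infer_instance

variable {S : Scheme.{u}}

/-- the cofan of representables on a disjoint union of schemes, indexed by `Fin n` -/
noncomputable def yonCofan {n : ℕ} (W : Fin n → Over S) :
    Cofan fun i => (yon S).obj (W i) :=
  Cofan.mk ((yon S).obj (sigmaOver fun i : ULift.{u} (Fin n) => W i.down))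
    fun i => (yon S).map (sigmaOverι (fun i : ULift.{u} (Fin n) => W i.down) ⟨i⟩)

noncomputable def yonCofan_isColimit {n : ℕ} (W : Fin n → Over S) : IsColimit (yonCofan W) :=
  Cofan.IsColimit.mk _
    (fun s => (existsUnique_yon_sigmaOver_desc (fun i : ULift.{u} (Fin n) => W i.down) s.pt
      (fun i => s.inj i.down)).exists.choose)
    (fun s i => (existsUnique_yon_sigmaOver_desc (fun i : ULift.{u} (Fin n) => W i.down) s.pt
      (fun i => s.inj i.down)).exists.choose_spec ⟨i⟩)
    (fun s m hm => (existsUnique_yon_sigmaOver_desc (fun i : ULift.{u} (Fin n) => W i.down) s.pt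
      (fun i => s.inj i.down)).unique (fun i => hm i.down)
      ((existsUnique_yon_sigmaOver_desc (fun i : ULift.{u} (Fin n) => W i.down) s.pt
      (fun i => s.inj i.down)).exists.choose_spec))

theorem S10325_main {n : ℕ} (X : Fin n → AlgSp.Space S) (Y : AlgSp.Space S)
    (g : ∀ i, X i ⟶ Y) (hg : ∀ i, AlgSp.IsFiniteMor (g i).hom) (c : Cofan fun i => (X i).obj)
    (hc : IsColimit c)
    (d : c.pt ⟶ Y.obj) (hd : ∀ i, c.inj i ≫ d = (g i).hom) : AlgSp.IsFiniteMor d := by
  intro Z hZ ξ
  choose W k fst hsq hWa hkf using fun i => hg i hZ ξ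
  have hau : IsUniversalColimit c :=
    (FinitaryExtensive.isVanKampen_finiteCoproducts hc).isUniversal
  have hd' := yonCofan_isColimit W
  have sq := hau.isPullback_of_isColimit_right (fun i => (g i).hom) d ξ fst
    (fun i => (yon S).map (k i)) hsq hd' hd
  let Wtot : Over S := sigmaOver fun i : ULift.{u} (Fin n) => W i.down
  let ktot : Wtot ⟶ Z := sigmaOverDesc (fun i : ULift.{u} (Fin n) => W i.down) (fun i => k i.down)
  have hk : Cofan.IsColimit.desc hd' (fun i => (yon S).map (k i)) = (yon S).map ktot := by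
    apply Cofan.IsColimit.hom_ext hd'
    intro i
    rw [Cofan.IsColimit.fac]
    change _ = (yon S).map (sigmaOverι (fun i : ULift.{u} (Fin n) => W i.down) ⟨i⟩) ≫ _
    rw [← Functor.map_comp, sigmaOverι_desc]
  rw [hk] at sq
  refine ⟨Wtot, ktot, _, sq, ?_, ?_⟩
  · change IsAffine (∐ fun i : ULift.{u} (Fin n) => (W i.down).left)
    haveI : ∀ i : ULift.{u} (Fin n), IsAffine ((W i.down).left) := fun i => hWa i.down
    infer_instance
  · change IsFinite (Sigma.desc fun i : ULift.{u} (Fin n) => (k i.down).left)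
    haveI : ∀ i : ULift.{u} (Fin n), IsAffine ((W i.down).left) := fun i => hWa i.down
    haveI : IsAffine Z.left := hZ
    exact isFinite_sigmaDesc (fun i : ULift.{u} (Fin n) => (W i.down).left)
      (fun i => (k i.down).left) (fun i => hkf i.down)

end Groth.Agent.H7.FinCoprod
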