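import Groth.Agent.Lib.Helper7.RelCartC
import Groth.Agent.Lib.Helper1.CritFib1
import Mathlib

/-!
# Relative effective Cartier divisors from the fibres, flat case (S8847)
-/

set_option autoImplicit false
universe u

open CategoryTheory Limits AlgebraicGeometry TensorProduct

namespace Groth.Agent.H7.RelCart

open Groth.Agent.H1.CritFib Groth.Agent.H1.FibInj in
/-- if `C/I` is flat over the local ring `R`, then `I ∩ 𝔪C = 𝔪I`; in the form: an element of `I`
lying in `𝔪C` lies in `𝔪_C • I`. -/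
theorem mem_smul_of_flat_quot {R C : Type*} [CommRing R] [CommRing C] [IsLocalRing R]
    [IsLocalRing C] [Algebra R C] [IsLocalHom (algebraMap R C)] (I : Ideal C)
    [Module.Flat R (C ⧸ I)] (b : C) (hbI : b ∈ I)
    (hb : b ∈ (IsLocalRing.maximalIdeal R).map (algebraMap R C)) :
    b ∈ IsLocalRing.maximalIdeal C • I := by
  let ι : I →ₗ[R] C := (I.subtype).restrictScalars R
  let π : C →ₗ[R] C ⧸ I := (I.mkQ).restrictScalars R
  have hι : Function.Injective ι := Subtype.val_injective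
  have hπ : Function.Surjective π := Submodule.mkQ_surjective I
  have hex : Function.Exact ι π := by
    intro y
    change I.mkQ y = 0 ↔ _
    rw [Submodule.mkQ_apply, Submodule.Quotient.mk_eq_zero]
    constructor
    · intro hy; exact ⟨⟨y, hy⟩, rfl⟩
    · rintro ⟨z, rfl⟩; exact z.2
  have h : Function.Injective ((IsLocalRing.maximalIdeal R).subtype.rTensor (C ⧸ I)) :=
    Module.Flat.rTensor_preserves_injective_linearMap _ Subtype.val_injective
  have hb' : ι ⟨b, hbI⟩ ∈ (IsLocalRing.maximalIdeal R) • (⊤ : Submodule R C) := by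
    have := (mem_map_smul_top_iff (A := R) (B := C) (F := C) (IsLocalRing.maximalIdeal R) b).mp
      (by rw [smul_eq_mul, ← Ideal.one_eq_top, mul_one]; exact hb)
    exact this
  have h1 := mem_smul_top_of_rTensor_injective (IsLocalRing.maximalIdeal R) ι π hι hex hπ h
    ⟨b, hbI⟩ hb'
  -- transfer to `𝔪_C • I`
  have h2 : ∀ z : I, z ∈ (IsLocalRing.maximalIdeal R) • (⊤ : Submodule R I) →
      (z : C) ∈ IsLocalRing.maximalIdeal C • I := by
    intro z hz
    refine Submodule.smul_induction_on hz ?_ ?_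
    · intro r hr i _
      have e : ((r • i : I) : C) = algebraMap R C r * (i : C) := by
        rw [Submodule.coe_smul_of_tower, Algebra.smul_def]
      rw [e, ← smul_eq_mul]
      refine Submodule.smul_mem_smul ?_ i.2
      rw [IsLocalRing.mem_maximalIdeal, mem_nonunits_iff] at hr ⊢
      exact fun hu => hr (isUnit_of_map_unit (algebraMap R C) r hu)
    · intro y y' hy hy'
      rw [Submodule.coe_add]
      exact Submodule.add_mem _ hy hy'
  exact h2 _ h1

/-- **local principality from the fibre**: `R → C` a local homomorphism of local rings, `I` a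
finitely generated ideal with `C/I` flat over `R`, and the image of `I` in `C/𝔪C` principal. Then `I`
is principal. -/
theorem exists_span_eq_of_flat_quot {R C F : Type*} [CommRing R] [CommRing C] [CommRing F]
    [IsLocalRing R] [IsLocalRing C] [Algebra R C] [IsLocalHom (algebraMap R C)] (I : Ideal C)
    (hI : I.FG) [Module.Flat R (C ⧸ I)] (π : C →+* F) (hπ : Function.Surjective π)
    (hker : RingHom.ker π = (IsLocalRing.maximalIdeal R).map (algebraMap R C))
    (γ : F) (hγ : I.map π = Ideal.span {γ}) : ∃ a ∈ I, I = Ideal.span {a} := by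
  have hγI : γ ∈ I.map π := hγ ▸ Ideal.mem_span_singleton_self γ
  obtain ⟨a, haI, haγ⟩ := (Ideal.mem_map_iff_of_surjective π hπ).mp hγI
  refine ⟨a, haI, le_antisymm ?_ ((Ideal.span_singleton_le_iff_mem _).mpr haI)⟩
  refine Submodule.le_of_le_smul_of_le_jacobson_bot hI
    (IsLocalRing.maximalIdeal_le_jacobson ⊥) ?_
  intro b hb
  have hb' : π b ∈ Ideal.span {γ} := hγ ▸ Ideal.mem_map_of_mem π hb
  obtain ⟨c', hc'⟩ := Ideal.mem_span_singleton'.mp hb'
  obtain ⟨c, rfl⟩ := hπ c'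
  have h1 : b - c * a ∈ RingHom.ker π := by
    rw [RingHom.mem_ker, map_sub, map_mul, haγ, hc', sub_self]
  rw [hker] at h1
  have h2 : b - c * a ∈ I := I.sub_mem hb (I.mul_mem_left c haI)
  have h3 := mem_smul_of_flat_quot I (b - c * a) h2 h1
  have : b = c * a + (b - c * a) := by ring
  rw [this]
  refine Submodule.add_mem_sup ?_ h3
  exact Ideal.mem_span_singleton'.mpr ⟨c, rfl⟩

open Groth.Agent.H1.CartierKit in
/-- spreading out a principal generator of a finitely generated ideal from the localization at a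
prime to a basic open neighbourhood. -/
theorem exists_mul_mem_span_of_map_eq_span {B : Type*} [CommRing B] (q : Ideal B) [q.IsPrime]
    (C : Type*) [CommRing C] [Algebra B C] [IsLocalization.AtPrime C q] (J : Ideal B) (hJ : J.FG)
    (α : C) (hα : J.map (algebraMap B C) = Ideal.span {α}) :
    ∃ g, g ∉ q ∧ ∃ a ∈ J, ∀ b ∈ J, g * b ∈ Ideal.span {a} := by
  have hαJ : α ∈ J.map (algebraMap B C) := hα ▸ Ideal.mem_span_singleton_self α
  obtain ⟨⟨⟨a, haJ⟩, s⟩, has⟩ :=
    (IsLocalization.mem_map_algebraMap_iff q.primeCompl C).mp hαJ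
  -- has : α * algebraMap s = algebraMap a
  have hsu : IsUnit (algebraMap B C s) := IsLocalization.map_units C s
  have hspan : J.map (algebraMap B C) = Ideal.span {algebraMap B C a} := by
    rw [hα]
    apply le_antisymm
    · rw [Ideal.span_singleton_le_iff_mem, Ideal.mem_span_singleton']
      obtain ⟨t, ht⟩ := hsu.exists_right_inv
      refine ⟨t, ?_⟩
      change α * algebraMap B C s = algebraMap B C a at has
      rw [← has, mul_comm t, mul_assoc, ht, mul_one]
    · rw [Ideal.span_singleton_le_iff_mem, Ideal.mem_span_singleton']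
      exact ⟨algebraMap B C s, by rw [mul_comm]; exact has⟩
  obtain ⟨g, hg, hgJ⟩ := exists_common_mul q J hJ (fun g t => g * t ∈ Ideal.span {a})
    (fun g g' t h => by rw [mul_assoc]; exact Ideal.mul_mem_left _ _ h)
    (fun g t t' h h' => by rw [mul_add]; exact Ideal.add_mem _ h h')
    (fun g c t h => by rw [mul_left_comm]; exact Ideal.mul_mem_left _ _ h)
    (fun g => by rw [mul_zero]; exact Ideal.zero_mem _)
    (fun t ht => by
      have h1 : algebraMap B C t ∈ Ideal.span {algebraMap B C a} :=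
        hspan ▸ Ideal.mem_map_of_mem _ ht
      obtain ⟨c', hc'⟩ := Ideal.mem_span_singleton'.mp h1
      obtain ⟨⟨c, u⟩, rfl⟩ := IsLocalization.mk'_surjective q.primeCompl c'
      -- mk' c u * algebraMap a = algebraMap t
      have h2 : algebraMap B C (c * a) = algebraMap B C ((u : B) * t) := by
        rw [map_mul, map_mul, ← hc', ← mul_assoc, mul_comm (algebraMap B C (u : B)),
          IsLocalization.mk'_spec]
      obtain ⟨v, hv⟩ := (IsLocalization.eq_iff_exists q.primeCompl C).mp h2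
      refine ⟨(v : B) * (u : B), ?_, ?_⟩
      · exact fun h => (q.primeCompl.mul_mem v.2 u.2) h
      · rw [mul_assoc, ← hv, Ideal.mem_span_singleton']
        exact ⟨(v : B) * c, by ring⟩)
  exact ⟨g, hg, a, haJ, hgJ⟩

section Scheme

variable {X S : Scheme.{u}}

open Groth.Agent.H1.CritFib in
/-- the ideal of a closed subscheme which is locally of finite presentation over the base is
finitely generated on affine opens. -/
theorem ideal_fg_of_lfp (φ : X ⟶ S) [LocallyOfFinitePresentation φ] (𝓘 : X.IdealSheafData)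
    [LocallyOfFinitePresentation (𝓘.subschemeι ≫ φ)] (U : X.affineOpens) : (𝓘.ideal U).FG := by
  haveI : LocallyOfFinitePresentation 𝓘.subschemeι :=
    locallyOfFinitePresentation_of_comp 𝓘.subschemeι φ
  have hU' : IsAffineOpen (𝓘.subschemeι ⁻¹ᵁ U.1) := U.2.preimage 𝓘.subschemeι
  have hfp : (𝓘.subschemeι.appLE U.1 (𝓘.subschemeι ⁻¹ᵁ U.1) le_rfl).hom.FinitePresentation :=
    𝓘.subschemeι.finitePresentation_appLE U.2 hU' le_rfl
  rw [Scheme.Hom.appLE_eq_app] at hfp
  rw [← 𝓘.ker_subschemeι_app U]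
  letI := (𝓘.subschemeι.app U.1).hom.toAlgebra
  haveI : Algebra.FinitePresentation Γ(X, U.1) Γ(𝓘.subscheme, 𝓘.subschemeι ⁻¹ᵁ U.1) := hfp
  exact Algebra.FinitePresentation.ker_fG_of_surjective
    (Algebra.ofId Γ(X, U.1) Γ(𝓘.subscheme, 𝓘.subschemeι ⁻¹ᵁ U.1)) (𝓘.subschemeι_app_surjective U)

open Groth.Agent.H1.FibreStalk in
/-- the image of the stalk of `𝓘` in the local ring of the fibre is principal when the inverse
image of `𝓘` on the fibre is effective Cartier. -/
theorem exists_map_toFiberStalk_eq_span (φ : X ⟶ S) (𝓘 : X.IdealSheafData) (x : X)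
    (U : X.affineOpens) (hxU : x ∈ U.1)
    (hfib : BlowUp.IsEffCartierIdeal (𝓘.comap (φ.fiberι (φ x)))) :
    ∃ γ, (((𝓘.ideal U).map (X.presheaf.germ U.1 x hxU).hom).map (toFiberStalk φ x)) =
      Ideal.span {γ} := by
  obtain ⟨V₀, hxV₀, g₀, -, hI₀⟩ := hfib (φ.asFiber x)
  have hx' : φ.asFiber x ∈ (φ.fiberι (φ x)) ⁻¹ᵁ U.1 := by
    change (φ.fiberι (φ x)) (φ.asFiber x) ∈ U.1
    rw [φ.fiberι_asFiber x]; exact hxU
  obtain ⟨V, hV, hxV, eV⟩ := exists_isAffineOpen_mem_and_subset (x := φ.asFiber x)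
    (U := V₀.1 ⊓ (φ.fiberι (φ x)) ⁻¹ᵁ U.1) ⟨hxV₀, hx'⟩
  have eV₀ : V ≤ V₀.1 := eV.trans inf_le_left
  have eVU : V ≤ (φ.fiberι (φ x)) ⁻¹ᵁ U.1 := eV.trans inf_le_right
  obtain ⟨g, hg_def⟩ : ∃ g : Γ(φ.fiber (φ x), V),
      g = (φ.fiber (φ x)).presheaf.map (homOfLE eV₀).op g₀ := ⟨_, rfl⟩
  have hIg : (𝓘.comap (φ.fiberι (φ x))).ideal ⟨V, hV⟩ = Ideal.span {g} := by
    rw [← (𝓘.comap (φ.fiberι (φ x))).map_ideal (U := ⟨V, hV⟩) (V := V₀) eV₀, hI₀, Ideal.map_span,
      Set.image_singleton, hg_def]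
    rfl
  have hIa' : (𝓘.comap (φ.fiberι (φ x))).ideal ⟨V, hV⟩ =
      (𝓘.ideal U).map ((φ.fiberι (φ x)).appLE U.1 V eVU).hom :=
    Groth.Agent.LD.QC.ideal_comap_of_le 𝓘 (φ.fiberι (φ x)) U ⟨V, hV⟩ eVU
  refine ⟨(φ.fiber (φ x)).presheaf.germ V (φ.asFiber x) hxV g, ?_⟩
  have hcomp : (toFiberStalk φ x).comp (X.presheaf.germ U.1 x hxU).hom =
      ((φ.fiber (φ x)).presheaf.germ V (φ.asFiber x) hxV).hom.comp
        ((φ.fiberι (φ x)).appLE U.1 V eVU).hom := by
    ext a
    exact toFiberStalk_germ φ x U.1 hxU V hxV eVU a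
  rw [Ideal.map_map, hcomp, ← Ideal.map_map, ← hIa', hIg, Ideal.map_span, Set.image_singleton]

open Groth.Agent.H1.FibreStalk Groth.Agent.H1.CartierKit in
/-- **local principality**: if the closed subscheme of `𝓘` is flat and locally of finite
presentation over `S` and the fibres of `𝓘` are effective Cartier, then `𝓘` is locally principal. -/
theorem isLocPrincipal_of_flat_of_fibres (φ : X ⟶ S) [Flat φ] [LocallyOfFinitePresentation φ]
    (𝓘 : X.IdealSheafData) [Flat (𝓘.subschemeι ≫ φ)]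
    [LocallyOfFinitePresentation (𝓘.subschemeι ≫ φ)]
    (hfib : ∀ s : ↥S, BlowUp.IsEffCartierIdeal (𝓘.comap (φ.fiberι s))) :
    Curv2.IsLocPrincipal 𝓘 := by
  intro x hx
  obtain ⟨z, rfl⟩ : ∃ z, 𝓘.subschemeι z = x := by
    rw [← SetLike.mem_coe, ← 𝓘.range_subschemeι] at hx; exact hx
  obtain ⟨U, hU, hxU, -⟩ :=
    exists_isAffineOpen_mem_and_subset (x := 𝓘.subschemeι z) (U := ⊤) trivial
  letI alg : Algebra (S.presheaf.stalk (φ (𝓘.subschemeι z)))
      (X.presheaf.stalk (𝓘.subschemeι z)) := (φ.stalkMap (𝓘.subschemeι z)).hom.toAlgebra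
  haveI loc : IsLocalHom (algebraMap (S.presheaf.stalk (φ (𝓘.subschemeι z)))
      (X.presheaf.stalk (𝓘.subschemeι z))) :=
    show IsLocalHom (φ.stalkMap (𝓘.subschemeι z)).hom from inferInstance
  obtain ⟨I, hIdef⟩ : ∃ I : Ideal (X.presheaf.stalk (𝓘.subschemeι z)),
      I = (𝓘.ideal ⟨U, hU⟩).map (X.presheaf.germ U (𝓘.subschemeι z) hxU).hom := ⟨_, rfl⟩
  have hfgU : (𝓘.ideal ⟨U, hU⟩).FG := ideal_fg_of_lfp φ 𝓘 ⟨U, hU⟩
  have hIfg : I.FG := hIdef ▸ hfgU.map _
  have hker : RingHom.ker (𝓘.subschemeι.stalkMap z).hom = I := by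
    rw [hIdef]; exact ker_stalkMap_subschemeι 𝓘 ⟨U, hU⟩ z hxU
  have hsurj : Function.Surjective (𝓘.subschemeι.stalkMap z).hom :=
    𝓘.subschemeι.stalkMap_surjective z
  haveI hflat : Module.Flat (S.presheaf.stalk (φ (𝓘.subschemeι z)))
      (X.presheaf.stalk (𝓘.subschemeι z) ⧸ I) := by
    have h := Flat.stalkMap (𝓘.subschemeι ≫ φ) z
    rw [Scheme.Hom.stalkMap_comp] at h
    letI alg2 : Algebra (S.presheaf.stalk (φ (𝓘.subschemeι z)))
        (𝓘.subscheme.presheaf.stalk z) :=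
      ((𝓘.subschemeι.stalkMap z).hom.comp (φ.stalkMap (𝓘.subschemeι z)).hom).toAlgebra
    haveI h' : Module.Flat (S.presheaf.stalk (φ (𝓘.subschemeι z)))
        (𝓘.subscheme.presheaf.stalk z) := h
    let ψ : X.presheaf.stalk (𝓘.subschemeι z) →ₐ[S.presheaf.stalk (φ (𝓘.subschemeι z))]
        𝓘.subscheme.presheaf.stalk z :=
      { (𝓘.subschemeι.stalkMap z).hom with commutes' := fun r => rfl }
    have hψs : Function.Surjective ψ := hsurj
    have hψk : RingHom.ker ψ = I := hker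
    have h7 : Module.Flat (S.presheaf.stalk (φ (𝓘.subschemeι z)))
        (X.presheaf.stalk (𝓘.subschemeι z) ⧸ RingHom.ker ψ) :=
      Module.Flat.of_linearEquiv (Ideal.quotientKerAlgEquivOfSurjective hψs).toLinearEquiv
    rw [hψk] at h7
    exact h7
  obtain ⟨γ, hγ⟩ := exists_map_toFiberStalk_eq_span φ 𝓘 (𝓘.subschemeι z) ⟨U, hU⟩ hxU
    (hfib (φ (𝓘.subschemeι z)))
  rw [← hIdef] at hγ
  obtain ⟨α, -, hα⟩ := exists_span_eq_of_flat_quot I hIfg (toFiberStalk φ (𝓘.subschemeι z))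
    (toFiberStalk_surjective φ (𝓘.subschemeι z)) (ker_toFiberStalk φ (𝓘.subschemeι z)) γ hγ
  -- spread out
  letI algB : Algebra Γ(X, U) (X.presheaf.stalk (𝓘.subschemeι z)) :=
    (X.presheaf.germ U (𝓘.subschemeι z) hxU).hom.toAlgebra
  haveI := hU.isLocalization_stalk ⟨𝓘.subschemeι z, hxU⟩
  obtain ⟨g, hg, a, haJ, hgJ⟩ := exists_mul_mem_span_of_map_eq_span
    (hU.primeIdealOf ⟨𝓘.subschemeι z, hxU⟩).asIdeal (X.presheaf.stalk (𝓘.subschemeι z))
    (𝓘.ideal ⟨U, hU⟩) hfgU α (by rw [← hα, hIdef]; rfl)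
  have hzg : 𝓘.subschemeι z ∈ X.basicOpen g := by
    by_contra hcon
    exact hg ((mem_primeIdealOf_iff hU _ hxU g).mpr hcon)
  refine ⟨⟨X.basicOpen g, hU.basicOpen g⟩, hzg,
    X.presheaf.map (homOfLE (X.basicOpen_le g)).op a, ?_⟩
  rw [← 𝓘.map_ideal (U := ⟨X.basicOpen g, hU.basicOpen g⟩) (V := ⟨U, hU⟩) (X.basicOpen_le g)]
  apply le_antisymm
  · rw [Ideal.map_le_iff_le_comap]
    intro b hb
    rw [Ideal.mem_comap]
    have h1 := hgJ b hb
    obtain ⟨c, hc⟩ := Ideal.mem_span_singleton'.mp h1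
    have hgu : IsUnit ((X.presheaf.map (homOfLE (X.basicOpen_le g)).op).hom g) :=
      X.toRingedSpace.isUnit_res_basicOpen g
    obtain ⟨t, ht⟩ := hgu.exists_left_inv
    rw [Ideal.mem_span_singleton']
    refine ⟨t * (X.presheaf.map (homOfLE (X.basicOpen_le g)).op).hom c, ?_⟩
    rw [mul_assoc, ← map_mul, hc, map_mul, ← mul_assoc, ht, one_mul]
    rfl
  · rw [Ideal.span_singleton_le_iff_mem]
    exact Ideal.mem_map_of_mem _ haJ

/-- **S8847**. -/
theorem S8847_main (φ : X ⟶ S) [Flat φ] [LocallyOfFinitePresentation φ]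
    (𝓘 : X.IdealSheafData) [Flat (𝓘.subschemeι ≫ φ)]
    [LocallyOfFinitePresentation (𝓘.subschemeι ≫ φ)]
    (hfib : ∀ s : ↥S, BlowUp.IsEffCartierIdeal (𝓘.comap (φ.fiberι s))) :
    BlowUp.IsEffCartierIdeal 𝓘 :=
  (S8848_main φ 𝓘 (isLocPrincipal_of_flat_of_fibres φ 𝓘 hfib) hfib).1

end Scheme

end Groth.Agent.H7.RelCart
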