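import Mathlib
import Groth.Agent.Lib.Helper7.RelCartD
import Groth.Agent.Lib.Helper7.Reg1
import Groth.Agent.Lib.Helper1.SmoothDim
import Groth.Agent.Lib.Helper1.SmoothDepth
import Groth.Agent.Lib.Helper1.DimFormula
import Groth.Agent.Lib.Helper1.AlgSpDim3
import Groth.Agent.Lib.Helper1.CartierKit
import Groth.Agent.Lib.Helper1.FibreStalk
import Groth.Agent.Lib.Helper3.AssFlatDim1
import Groth.Agent.H4.FittMor7

/-! helper7: closed subschemes of relative curves which are flat, locally quasi-finite and locally of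
finite presentation over the base are relative effective Cartier divisors (S1184, S15990). -/

set_option autoImplicit false

universe u

open CategoryTheory Limits AlgebraicGeometry TopologicalSpace Opposite

namespace Groth.Agent.H7.RelCurve

open Groth.Agent.H1.FibreStalk Groth.Agent.H1.CartierKit

variable {X S : Scheme.{u}}

/-- the local rings of the spectrum of a field are fields. -/
theorem isField_stalk_spec_field (K : Type u) [Field K] (y : Spec (CommRingCat.of K)) :
    IsField ((Spec (CommRingCat.of K)).presheaf.stalk y) := by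
  let e : K ≃ₐ[K] (Spec.structureSheaf K).presheaf.stalk y :=
    IsLocalization.atUnits _ y.asIdeal.primeCompl
      (fun a ha ↦ by aesop (add simp IsUnit.mem_submonoid_iff))
  exact MulEquiv.isField (Field.toIsField K) e.symm.toMulEquiv

/-- the local rings of a scheme smooth of relative dimension one over a field have dimension at
most one. -/
theorem ringKrullDim_stalk_le_one (K : Type u) [Field K] {Y : Scheme.{u}}
    (q : Y ⟶ Spec (CommRingCat.of K)) [SmoothOfRelativeDimension 1 q] (y : Y) :
    ringKrullDim (Y.presheaf.stalk y) ≤ 1 := by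
  haveI : Smooth q := SmoothOfRelativeDimension.smooth 1 q
  haveI : LocallyOfFiniteType q := inferInstance
  obtain ⟨t, -, ht⟩ := Groth.Agent.H1.DimFormula.exists_fibreDimAt_eq_stalk_add_trdeg q y
  rw [Groth.Agent.H1.SmoothDim.fibreDimAt_of_smoothOfRelativeDimension 1 q y] at ht
  have hbij : Function.Bijective (toFiberStalk q y) := by
    refine ⟨?_, toFiberStalk_surjective q y⟩
    rw [injective_iff_map_eq_zero]
    intro a ha
    have h1 : a ∈ RingHom.ker (toFiberStalk q y) := ha
    rw [ker_toFiberStalk q y] at h1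
    have h2 : IsLocalRing.maximalIdeal ((Spec (CommRingCat.of K)).presheaf.stalk (q y)) = ⊥ :=
      IsLocalRing.isField_iff_maximalIdeal_eq.mp (isField_stalk_spec_field K (q y))
    rw [h2, Ideal.map_bot] at h1
    exact h1
  rw [ringKrullDim_eq_of_ringEquiv (RingEquiv.ofBijective (toFiberStalk q y) hbij)]
  calc ringKrullDim ((q.fiber (q y)).presheaf.stalk (q.asFiber y))
      ≤ ringKrullDim ((q.fiber (q y)).presheaf.stalk (q.asFiber y)) + (t : WithBot ℕ∞) := by
        exact le_add_of_nonneg_right (by exact_mod_cast Nat.zero_le t)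
    _ = ((1 : ℕ) : WithBot ℕ∞) := ht.symm
    _ = 1 := rfl

/-- **closed subschemes of a smooth curve over a field which are locally quasi-finite over the
field are effective Cartier divisors.** -/
theorem isEffCartierIdeal_of_lqf (K : Type u) [Field K] {Y : Scheme.{u}}
    (q : Y ⟶ Spec (CommRingCat.of K)) [SmoothOfRelativeDimension 1 q] (𝓙 : Y.IdealSheafData)
    [LocallyQuasiFinite (𝓙.subschemeι ≫ q)] : BlowUp.IsEffCartierIdeal 𝓙 := by
  haveI : Smooth q := SmoothOfRelativeDimension.smooth 1 q
  haveI : LocallyOfFiniteType q := inferInstance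
  haveI : IsLocallyNoetherian Y := LocallyOfFiniteType.isLocallyNoetherian q
  intro y
  by_cases hy : y ∈ 𝓙.support
  · obtain ⟨z, rfl⟩ : ∃ z, 𝓙.subschemeι z = y := by
      rw [← SetLike.mem_coe, ← 𝓙.range_subschemeι] at hy; exact hy
    obtain ⟨U, hU, hxU, -⟩ :=
      exists_isAffineOpen_mem_and_subset (x := 𝓙.subschemeι z) (U := ⊤) trivial
    haveI hreg := Groth.Agent.H1.SmoothDepth.isRegularLocalRing_stalk_of_smooth K q (𝓙.subschemeι z)
    haveI hdom := Groth.Agent.H7.Reg.isDomain (Y.presheaf.stalk (𝓙.subschemeι z))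
    have hdim := ringKrullDim_stalk_le_one K q (𝓙.subschemeι z)
    haveI := Groth.Agent.H3.AssFlatDim1.isBezout_of_regular _ hdim
    haveI : IsNoetherianRing Γ(Y, U) := IsLocallyNoetherian.component_noetherian ⟨U, hU⟩
    have hfg : (𝓙.ideal ⟨U, hU⟩).FG := IsNoetherian.noetherian _
    obtain ⟨π, hπ⟩ : ∃ π, (𝓙.ideal ⟨U, hU⟩).map (Y.presheaf.germ U (𝓙.subschemeι z) hxU).hom =
        Ideal.span {π} := by
      have := IsBezout.isPrincipal_of_FG _ (hfg.map (Y.presheaf.germ U (𝓙.subschemeι z) hxU).hom)
      exact ⟨_, this.span_singleton_generator.symm⟩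
    have hπ0 : π ≠ 0 := by
      rintro rfl
      have hker : RingHom.ker (𝓙.subschemeι.stalkMap z).hom = ⊥ := by
        rw [ker_stalkMap_subschemeι 𝓙 ⟨U, hU⟩ z hxU, hπ]
        simp
      have hinj : Function.Injective (𝓙.subschemeι.stalkMap z).hom :=
        (RingHom.injective_iff_ker_eq_bot _).mpr hker
      have hsurj : Function.Surjective (𝓙.subschemeι.stalkMap z).hom :=
        𝓙.subschemeι.stalkMap_surjective z
      haveI : IsIso (𝓙.subschemeι.stalkMap z) :=
        (ConcreteCategory.isIso_iff_bijective _).mpr ⟨hinj, hsurj⟩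
      have h' := Scheme.Hom.quasiFiniteAt (𝓙.subschemeι ≫ q) z
      rw [Scheme.Hom.QuasiFiniteAt, Scheme.Hom.stalkMap_comp] at h'
      have h : q.QuasiFiniteAt (𝓙.subschemeι z) :=
        (RingHom.QuasiFinite.respectsIso.cancel_right_isIso _ _).mp h'
      have h0 := (Groth.Agent.H1.QFDim.fibreDimAt_eq_zero_iff q (𝓙.subschemeι z)).mpr h
      rw [Groth.Agent.H1.SmoothDim.fibreDimAt_of_smoothOfRelativeDimension 1 q] at h0
      exact absurd h0 (by norm_num)
    exact cartier_of_stalk 𝓙 _ ⟨U, hU⟩ hxU π (mem_nonZeroDivisors_of_ne_zero hπ0) hπ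
  · exact cartier_of_not_mem_support 𝓙 y hy

open Groth.Agent.H4.FittMor7 in
/-- **the core of S1184**: a closed subscheme of a relative smooth curve which is flat, locally
quasi-finite and locally of finite presentation over the base is an effective Cartier divisor. -/
theorem isEffCartierIdeal_of_flat_lqf (f : X ⟶ S) [SmoothOfRelativeDimension 1 f]
    (𝓘 : X.IdealSheafData) [Flat (𝓘.subschemeι ≫ f)]
    [LocallyOfFinitePresentation (𝓘.subschemeι ≫ f)] [LocallyQuasiFinite (𝓘.subschemeι ≫ f)] :
    BlowUp.IsEffCartierIdeal 𝓘 := by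
  haveI : Smooth f := SmoothOfRelativeDimension.smooth 1 f
  haveI : Flat f := inferInstance
  haveI : LocallyOfFinitePresentation f := inferInstance
  refine Groth.Agent.H7.RelCart.S8847_main f 𝓘 (fun s => ?_)
  haveI := smoothOfRelativeDimension_isStableUnderBaseChange 1
  haveI : SmoothOfRelativeDimension 1 (f.fiberToSpecResidueField s) :=
    MorphismProperty.pullback_snd (P := @SmoothOfRelativeDimension 1) f
      (S.fromSpecResidueField s) inferInstance
  have hpb1 : IsPullback (𝓘.comap (f.fiberι s)).subschemeι (gmap (f.fiberι s) 𝓘) (f.fiberι s)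
      𝓘.subschemeι := isPullback_gmap (f.fiberι s) 𝓘
  have hpb2 : IsPullback (f.fiberι s) (f.fiberToSpecResidueField s) f (S.fromSpecResidueField s) :=
    IsPullback.of_hasPullback _ _
  have hpb := hpb1.flip.paste_vert hpb2
  haveI : LocallyQuasiFinite ((𝓘.comap (f.fiberι s)).subschemeι ≫ f.fiberToSpecResidueField s) :=
    MorphismProperty.of_isPullback hpb inferInstance
  exact isEffCartierIdeal_of_lqf (S.residueField s) (f.fiberToSpecResidueField s)
    (𝓘.comap (f.fiberι s))

/-- **S15990**: a section of a separated smooth relative curve is a relative effective Cartier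
divisor. -/
theorem S15990_main {X Y : Scheme.{u}} (f : X ⟶ Y) [IsSeparated f] [SmoothOfRelativeDimension 1 f]
    (σ : Y ⟶ X) (hσ : σ ≫ f = 𝟙 Y) :
    BlowUp.IsEffCartierIdeal σ.ker ∧ Flat (σ.ker.subschemeι ≫ f) := by
  haveI : IsClosedImmersion (σ ≫ f) := by rw [hσ]; infer_instance
  haveI : IsClosedImmersion σ := IsClosedImmersion.of_comp σ f
  haveI : IsIso σ.toImage := inferInstance
  have h0 : σ.toImage ≫ σ.ker.subschemeι = σ := σ.toImage_imageι
  have h1 : σ.ker.subschemeι ≫ f = inv σ.toImage := by
    rw [← cancel_epi σ.toImage, ← Category.assoc, h0, hσ, IsIso.hom_inv_id]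
  haveI : IsIso (σ.ker.subschemeι ≫ f) := by rw [h1]; infer_instance
  haveI : Flat (σ.ker.subschemeι ≫ f) := inferInstance
  haveI : LocallyOfFinitePresentation (σ.ker.subschemeι ≫ f) := inferInstance
  haveI : LocallyQuasiFinite (σ.ker.subschemeι ≫ f) := inferInstance
  exact ⟨isEffCartierIdeal_of_flat_lqf f σ.ker, inferInstance⟩

end Groth.Agent.H7.RelCurve
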