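import Mathlib
import Groth.Prelude.Def_CechEdge
import Groth.Agent.Lib.Lead.Cech.SiteH0
import Groth.Agent.Lib.Helper8.LC.Delta

/-! # CechEdge: the Čech δ-functor on presheaves -/

universe u
open CategoryTheory Limits Opposite

namespace Groth.Agent.H7.CE

open Groth.Agent.LD.CH Groth.Agent.H8.LC

variable {C : Type u} [SmallCategory C]

instance enoughInjectives_presheaf : EnoughInjectives (Cᵒᵖ ⥤ AddCommGrpCat.{u}) := by
  haveI : IsGrothendieckAbelian.{u} (Sheaf (⊥ : GrothendieckTopology C) AddCommGrpCat.{u}) :=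
    Sheaf.isGrothendieckAbelian_of_essentiallySmall _ _
  haveI : EnoughInjectives (Sheaf (⊥ : GrothendieckTopology C) AddCommGrpCat.{u}) := inferInstance
  exact ((sheafBotEquivalence AddCommGrpCat.{u}).enoughInjectives_iff).1 inferInstance

section Sectionwise

variable {S : ShortComplex (Cᵒᵖ ⥤ AddCommGrpCat.{u})} (hS : S.ShortExact)
include hS

lemma app_shortExact (W : Cᵒᵖ) :
    (S.map ((evaluation Cᵒᵖ AddCommGrpCat.{u}).obj W)).ShortExact := hS.map_of_exact _

lemma app_injective (W : Cᵒᵖ) : Function.Injective (S.f.app W) := by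
  have := (app_shortExact hS W).mono_f
  exact (AddCommGrpCat.mono_iff_injective _).1 this

lemma app_surjective (W : Cᵒᵖ) : Function.Surjective (S.g.app W) := by
  have := (app_shortExact hS W).epi_g
  exact (AddCommGrpCat.epi_iff_surjective _).1 this

lemma app_exact (W : Cᵒᵖ) (y : S.X₂.obj W) (hy : S.g.app W y = 0) :
    ∃ x : S.X₁.obj W, S.f.app W x = y := by
  have := (app_shortExact hS W).exact
  rw [ShortComplex.ab_exact_iff] at this
  exact this y hy

end Sectionwise

variable [HasPullbacks C] {U : C} {ι : Type u} (Y : ι → Over U)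

lemma coch_cxMap {P Q : Cᵒᵖ ⥤ AddCommGrpCat.{u}} (f : P ⟶ Q) (n : ℕ)
    (x : (CechEdge.cx P Y).X n) (a : Fin (n+1) → ι) :
    coch Y (resOver U Q) n (((CechEdge.cxFunctor Y).map f).f n x) a =
      f.app (op (∏ᶜ (Y ∘ a)).left) (coch Y (resOver U P) n x a) :=
  coch_map Y ((resOverF U).map f) n x a

theorem cx_shortExact {S : ShortComplex (Cᵒᵖ ⥤ AddCommGrpCat.{u})} (hS : S.ShortExact) :
    (S.map (CechEdge.cxFunctor Y)).ShortExact := by
  apply HomologicalComplex.shortExact_of_degreewise_shortExact
  intro n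
  refine ShortComplex.ShortExact.mk' ?_ ?_ ?_
  · rw [ShortComplex.ab_exact_iff]
    intro y hy
    have h1 : ∀ a, ∃ x : S.X₁.obj (op (∏ᶜ (Y ∘ a)).left),
        S.f.app _ x = coch Y (resOver U S.X₂) n y a := by
      intro a
      apply app_exact hS
      have := coch_cxMap Y S.g n y a
      rw [← this]
      have hy' : ((CechEdge.cxFunctor Y).map S.g).f n y = 0 := hy
      rw [hy', map_zero]
      rfl
    choose x hx using h1
    refine ⟨(coch Y (resOver U S.X₁) n).symm x, ?_⟩
    apply coch_ext
    intro a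
    have := coch_cxMap Y S.f n ((coch Y (resOver U S.X₁) n).symm x) a
    rw [AddEquiv.apply_symm_apply] at this
    exact this.trans (hx a)
  · rw [AddCommGrpCat.mono_iff_injective]
    intro x x' h
    apply coch_ext
    intro a
    apply app_injective hS
    have h1 := coch_cxMap Y S.f n x a
    have h2 := coch_cxMap Y S.f n x' a
    exact h1.symm.trans ((congrArg (fun z => coch Y (resOver U S.X₂) n z a) h).trans h2)
  · rw [AddCommGrpCat.epi_iff_surjective]
    intro z
    have h1 : ∀ a, ∃ y : S.X₂.obj (op (∏ᶜ (Y ∘ a)).left),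
        S.g.app _ y = coch Y (resOver U S.X₃) n z a := fun a => app_surjective hS _ _
    choose y hy using h1
    refine ⟨(coch Y (resOver U S.X₂) n).symm y, ?_⟩
    apply coch_ext
    intro a
    have := coch_cxMap Y S.g n ((coch Y (resOver U S.X₂) n).symm y) a
    rw [AddEquiv.apply_symm_apply] at this
    exact this.trans (hy a)

/-- The Čech δ-functor. -/
noncomputable def cechDelta : DeltaFunctor (Cᵒᵖ ⥤ AddCommGrpCat.{u}) AddCommGrpCat.{u} where
  F n := CechEdge.cxFunctor Y ⋙ HomologicalComplex.homologyFunctor _ _ n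
  δ hS n := (cx_shortExact Y hS).δ n (n+1) rfl
  δ_naturality hS hS' φ n :=
    HomologicalComplex.HomologySequence.δ_naturality
      ((CechEdge.cxFunctor Y).mapShortComplex.map φ) (cx_shortExact Y hS) (cx_shortExact Y hS') n (n+1) rfl
  map_comp_map {S} hS n := by
    change HomologicalComplex.homologyMap ((CechEdge.cxFunctor Y).map S.f) n ≫
      HomologicalComplex.homologyMap ((CechEdge.cxFunctor Y).map S.g) n = 0
    rw [← HomologicalComplex.homologyMap_comp, ← Functor.map_comp, S.zero, Functor.map_zero,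
      HomologicalComplex.homologyMap_zero]
  map_comp_δ hS n := (cx_shortExact Y hS).comp_δ n (n+1) rfl
  δ_comp_map hS n := (cx_shortExact Y hS).δ_comp n (n+1) rfl
  mono₀ {S} hS := by
    have : Mono (((CechEdge.cxFunctor Y).map S.f).f 0) := by
      have := (cx_shortExact Y hS).mono_f
      exact inferInstanceAs (Mono ((HomologicalComplex.eval _ _ 0).map (S.map (CechEdge.cxFunctor Y)).f))
    exact HomologicalComplex.mono_homologyMap_of_mono_of_not_rel _ 0 (by simp)
  exact₂ hS n := (cx_shortExact Y hS).homology_exact₂ n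
  exact₃ hS n := (cx_shortExact Y hS).homology_exact₃ n (n+1) rfl
  exact₁ hS n := (cx_shortExact Y hS).homology_exact₁ n (n+1) rfl

lemma cechDelta_effaceable : (cechDelta Y).Effaceable := by
  intro I _ n
  exact isZero_homology_over_of_injective Y I n

end Groth.Agent.H7.CE
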