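import Mathlib
import Groth.Prelude.Def_CohCx

open CategoryTheory CategoryTheory.Limits Pretriangulated

universe u' v'

namespace Groth.Agent.H7.Milnor

variable {T : Type u'} [Category.{v'} T] [Preadditive T] [HasZeroObject T] [HasShift T ℤ]
  [∀ n : ℤ, (shiftFunctor T n).Additive] [Pretriangulated T]
  (K : ℕ → T) (t : ∀ n, K (n + 1) ⟶ K n) [HasProduct K]

/-- shifted product is a product -/
noncomputable def isLimitShift (m : ℤ) :
    IsLimit (Fan.mk ((∏ᶜ K)⟦m⟧) (fun n => (Pi.π K n)⟦m⟧') : Fan fun n => (K n)⟦m⟧) :=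
  isLimitFanMkObjOfIsLimit (shiftFunctor T m) _ _ (productIsProduct K)

/-- the "identity minus shift" endomorphism -/
noncomputable abbrev φ : ∏ᶜ K ⟶ ∏ᶜ K := Pi.lift fun n => Pi.π K n - Pi.π K (n + 1) ≫ t n

theorem lift_π (m : ℤ) {X : T} (w : ∀ n, X ⟶ (K n)⟦m⟧) (n : ℕ) :
    Fan.IsLimit.lift (isLimitShift K m) w ≫ (Pi.π K n)⟦m⟧' = w n :=
  Fan.IsLimit.fac (isLimitShift K m) w n

theorem shift_hom_ext (m : ℤ) {X : T} (f g : X ⟶ (∏ᶜ K)⟦m⟧)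
    (h : ∀ n, f ≫ (Pi.π K n)⟦m⟧' = g ≫ (Pi.π K n)⟦m⟧') : f = g :=
  Fan.IsLimit.hom_ext (isLimitShift K m) f g h

theorem lift_φ (m : ℤ) {X : T} (w : ∀ n, X ⟶ (K n)⟦m⟧) (n : ℕ) :
    (Fan.IsLimit.lift (isLimitShift K m) w ≫ (φ K t)⟦m⟧') ≫ (Pi.π K n)⟦m⟧' =
      w n - w (n + 1) ≫ (t n)⟦m⟧' := by
  rw [Category.assoc, ← Functor.map_comp, Pi.lift_π, Functor.map_sub, Preadditive.comp_sub,
    Functor.map_comp, lift_π, reassoc_of% (lift_π K m w (n + 1))]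

variable {K t} {L : T} {a : ∀ n, L ⟶ K n} (hL : CohCx.IsRlimVia K t L a)

include hL in
theorem part1 {X : T} (m : ℤ) (x : ∀ n, X ⟶ (K n)⟦m⟧)
    (hx : ∀ n, x (n + 1) ≫ (t n)⟦m⟧' = x n) :
    ∃ y : X ⟶ L⟦m⟧, ∀ n, y ≫ (a n)⟦m⟧' = x n := by
  obtain ⟨c, hc⟩ := hL
  have hs := Triangle.shift_distinguished _ hc m
  change (Triangle.shiftFunctor T m).obj _ ∈ _ at hs
  have h0 : Fan.IsLimit.lift (isLimitShift K m) x ≫ (φ K t)⟦m⟧' = 0 := by
    apply shift_hom_ext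
    intro n
    rw [lift_φ K t m x n, hx, sub_self, zero_comp]
  have h0' : Fan.IsLimit.lift (isLimitShift K m) x ≫ (m.negOnePow • (φ K t)⟦m⟧') = 0 := by
    rw [Linear.comp_units_smul, h0, smul_zero]
  obtain ⟨g, hg⟩ : ∃ g : X ⟶ L⟦m⟧, Fan.IsLimit.lift (isLimitShift K m) x =
      g ≫ (m.negOnePow • (Pi.lift a)⟦m⟧') :=
    Triangle.coyoneda_exact₂ _ hs (Fan.IsLimit.lift (isLimitShift K m) x) h0'
  refine ⟨m.negOnePow • g, fun n => ?_⟩
  rw [← lift_π K m x n, hg, Linear.comp_units_smul, Linear.units_smul_comp, Linear.units_smul_comp,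
    Category.assoc, ← Functor.map_comp, Pi.lift_π]


include hL in
theorem part2 {X : T} (m : ℤ)
    (hlim : Function.Surjective (fun (w : ∀ n, X ⟶ (K n)⟦m - 1⟧) (n : ℕ) =>
      w n - w (n + 1) ≫ (t n)⟦m - 1⟧'))
    (y : X ⟶ L⟦m⟧) (hy : ∀ n, y ≫ (a n)⟦m⟧' = 0) : y = 0 := by
  obtain ⟨c, hc⟩ := hL
  have hs := Triangle.shift_distinguished _ hc (m - 1)
  change (Triangle.shiftFunctor T (m - 1)).obj _ ∈ _ at hs
  have h1 : y ≫ (Pi.lift a)⟦m⟧' = 0 := by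
    apply shift_hom_ext
    intro n
    rw [Category.assoc, ← Functor.map_comp, Pi.lift_π, hy, zero_comp]
  have h2' : (y ≫ (shiftFunctorAdd' T (m - 1) 1 m (by omega)).hom.app L) ≫
      ((Pi.lift a)⟦m - 1⟧')⟦(1 : ℤ)⟧' = 0 := by
    rw [Category.assoc]
    have nat := (shiftFunctorAdd' T (m - 1) 1 m (by omega)).hom.naturality (Pi.lift a)
    have nat' : (shiftFunctorAdd' T (m - 1) 1 m (by omega)).hom.app L ≫
        ((Pi.lift a)⟦m - 1⟧')⟦(1 : ℤ)⟧' = (Pi.lift a)⟦m⟧' ≫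
        (shiftFunctorAdd' T (m - 1) 1 m (by omega)).hom.app (∏ᶜ K) := nat.symm
    rw [nat', reassoc_of% h1, zero_comp]
  have h2 : (y ≫ (shiftFunctorAdd' T (m - 1) 1 m (by omega)).hom.app L) ≫
      (((m - 1).negOnePow • (Pi.lift a)⟦m - 1⟧'))⟦(1 : ℤ)⟧' = 0 := by
    rw [Functor.map_units_smul, Linear.comp_units_smul, h2', smul_zero]
  obtain ⟨g, hg⟩ : ∃ g : X ⟶ (∏ᶜ K)⟦m - 1⟧,
      y ≫ (shiftFunctorAdd' T (m - 1) 1 m (by omega)).hom.app L =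
        g ≫ ((m - 1).negOnePow • c⟦m - 1⟧' ≫ (shiftFunctorComm T 1 (m - 1)).hom.app L) :=
    Triangle.coyoneda_exact₁ _ hs _ h2
  obtain ⟨w, hw⟩ := hlim (fun n => g ≫ (Pi.π K n)⟦m - 1⟧')
  have hg2 : g = Fan.IsLimit.lift (isLimitShift K (m - 1)) w ≫ (φ K t)⟦m - 1⟧' := by
    apply shift_hom_ext
    intro n
    rw [lift_φ]
    exact (congrFun hw n).symm
  have h3 : ((m - 1).negOnePow • (φ K t)⟦m - 1⟧') ≫
      ((m - 1).negOnePow • c⟦m - 1⟧' ≫ (shiftFunctorComm T 1 (m - 1)).hom.app L) = 0 :=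
    comp_distTriang_mor_zero₂₃ _ hs
  have h4 : (φ K t)⟦m - 1⟧' ≫
      ((m - 1).negOnePow • c⟦m - 1⟧' ≫ (shiftFunctorComm T 1 (m - 1)).hom.app L) = 0 := by
    rw [Linear.units_smul_comp] at h3
    have := congrArg (fun z => (m - 1).negOnePow • z) h3
    simpa [smul_smul] using this
  have hf : y ≫ (shiftFunctorAdd' T (m - 1) 1 m (by omega)).hom.app L = 0 := by
    rw [hg, hg2, Category.assoc, h4, comp_zero]
  have : y = (y ≫ (shiftFunctorAdd' T (m - 1) 1 m (by omega)).hom.app L) ≫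
      (shiftFunctorAdd' T (m - 1) 1 m (by omega)).inv.app L := by
    rw [Category.assoc, Iso.hom_inv_id_app, Category.comp_id]
  rw [this, hf, zero_comp]

end Groth.Agent.H7.Milnor
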