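import Mathlib
import Groth.Agent.Lib.Helper7.WayOut1

/-!
# Helper7: WayOut2 — unit and counit of an adjunction `Φ_D ⊣ R` between derived categories,
`Φ` exact: way-out dévissage
-/

set_option autoImplicit false

open CategoryTheory Limits Pretriangulated DerivedCategory

namespace Groth.Agent.H7.WayOut

universe w₁ w₂ v₁ v₂ u₁ u₂

variable {A : Type u₁} [Category.{v₁} A] [Abelian A] [HasDerivedCategory.{w₁} A]
  {B : Type u₂} [Category.{v₂} B] [Abelian B] [HasDerivedCategory.{w₂} B]

section Exact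

variable (Φ : B ⥤ A) [Φ.Additive] [PreservesFiniteLimits Φ] [PreservesFiniteColimits Φ]

lemma isGE_mapDerivedCategory (Y : DerivedCategory B) (n : ℤ) (h : Y.IsGE n) :
    (Φ.mapDerivedCategory.obj Y).IsGE n := by
  obtain ⟨K, hK, ⟨e⟩⟩ := Y.exists_iso_Q_obj_of_isGE n
  have e' : Φ.mapDerivedCategory.obj Y ≅
      Q.obj ((Φ.mapHomologicalComplex (ComplexShape.up ℤ)).obj K) :=
    Φ.mapDerivedCategory.mapIso e ≪≫ Φ.mapDerivedCategoryFactors.app K
  haveI : CochainComplex.IsStrictlyGE ((Φ.mapHomologicalComplex (ComplexShape.up ℤ)).obj K) n :=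
    inferInstance
  exact TStructure.t.isGE_of_iso e'.symm n

lemma isLE_mapDerivedCategory (Y : DerivedCategory B) (n : ℤ) (h : Y.IsLE n) :
    (Φ.mapDerivedCategory.obj Y).IsLE n := by
  obtain ⟨K, hK, ⟨e⟩⟩ := Y.exists_iso_Q_obj_of_isLE n
  have e' : Φ.mapDerivedCategory.obj Y ≅
      Q.obj ((Φ.mapHomologicalComplex (ComplexShape.up ℤ)).obj K) :=
    Φ.mapDerivedCategory.mapIso e ≪≫ Φ.mapDerivedCategoryFactors.app K
  haveI : CochainComplex.IsStrictlyLE ((Φ.mapHomologicalComplex (ComplexShape.up ℤ)).obj K) n :=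
    inferInstance
  exact TStructure.t.isLE_of_iso e'.symm n

end Exact

section Adj

variable {L : DerivedCategory B ⥤ DerivedCategory A} {R : DerivedCategory A ⥤ DerivedCategory B}
  [L.CommShift ℤ] [L.IsTriangulated] (adj : L ⊣ R)
  (hLE : ∀ (Y : DerivedCategory B) (n : ℤ), Y.IsLE n → (L.obj Y).IsLE n)
  (hGE : ∀ (Y : DerivedCategory B) (n : ℤ), Y.IsGE n → (L.obj Y).IsGE n)

include adj hLE in
/-- the right adjoint of a right t-exact functor is left t-exact -/
lemma isGE_rightAdjoint (X : DerivedCategory A) (n : ℤ) (h : X.IsGE n) : (R.obj X).IsGE n := by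
  refine (TStructure.t.isGE_iff_orthogonal (n - 1) n (by omega) (R.obj X)).2 ?_
  intro Y f hY
  have h1 : (L.obj Y).IsLE (n - 1) := hLE Y (n - 1) hY
  have h2 : (adj.homEquiv Y X).symm f = 0 :=
    TStructure.t.zero ((adj.homEquiv Y X).symm f) (n - 1) n (by omega)
  have h3 := congrArg (adj.homEquiv Y X) h2
  rw [Equiv.apply_symm_apply] at h3
  haveI : R.Additive := adj.right_adjoint_additive
  rw [h3, Adjunction.homEquiv_unit, R.map_zero, comp_zero]

/-- the canonical shift structure on the right adjoint -/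
noncomputable def rCommShift : R.CommShift ℤ := adj.rightAdjointCommShift ℤ

include hLE hGE in
theorem isIso_counit_app (X : DerivedCategory A) (n₀ : ℤ) (hX : X.IsGE n₀)
    (h : ∀ q : ℤ, IsIso (adj.counit.app ((singleFunctor A 0).obj ((homologyFunctor A q).obj X)))) :
    IsIso (adj.counit.app X) := by
  letI : R.CommShift ℤ := rCommShift adj
  haveI : adj.CommShift ℤ := adj.commShift_of_leftAdjoint ℤ
  haveI : R.IsTriangulated := adj.isTriangulated_rightAdjoint
  haveI : NatTrans.CommShift adj.counit ℤ := Adjunction.CommShift.commShift_counit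
  exact isIso_app_of_isGE (F := R ⋙ L) (G := 𝟭 _) adj.counit
    (fun Z n hZ => hGE _ n (isGE_rightAdjoint adj hLE Z n hZ))
    (fun Z n hZ => hZ) X n₀ hX h

include hLE hGE in
theorem isIso_unit_app (Y : DerivedCategory B) (n₀ : ℤ) (hY : Y.IsGE n₀)
    (h : ∀ q : ℤ, IsIso (adj.unit.app ((singleFunctor B 0).obj ((homologyFunctor B q).obj Y)))) :
    IsIso (adj.unit.app Y) := by
  letI : R.CommShift ℤ := rCommShift adj
  haveI : adj.CommShift ℤ := adj.commShift_of_leftAdjoint ℤ
  haveI : R.IsTriangulated := adj.isTriangulated_rightAdjoint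
  haveI : NatTrans.CommShift adj.unit ℤ := Adjunction.CommShift.commShift_unit
  exact isIso_app_of_isGE (F := 𝟭 _) (G := L ⋙ R) adj.unit
    (fun Z n hZ => hZ)
    (fun Z n hZ => isGE_rightAdjoint adj hLE _ n (hGE Z n hZ)) Y n₀ hY h

end Adj

end Groth.Agent.H7.WayOut
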