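import Mathlib
import Groth.Prelude.Def_WeakSerre
import Groth.Agent.Lib.Helper7.WayOut2

/-!
# Helper7: WayOut3 — weak Serre subcategories and dévissage in derived categories
-/

set_option autoImplicit false

open CategoryTheory Limits Pretriangulated DerivedCategory

namespace Groth.Agent.H7.WayOut

universe w₁ w₂ v₁ v₂ u₁ u₂

section Five

variable {C : Type u₁} [Category.{v₁} C] [Abelian C] (P : ObjectProperty C) [WSerre.IsWeakSerre P]

/-- the five-term characterisation of weak Serre subcategories -/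
lemma prop_of_five {X₁ X₂ X₃ X₄ X₅ : C} (f : X₁ ⟶ X₂) (g : X₂ ⟶ X₃) (h : X₃ ⟶ X₄) (k : X₄ ⟶ X₅)
    (fg : f ≫ g = 0) (gh : g ≫ h = 0) (hk : h ≫ k = 0)
    (e₂ : (ShortComplex.mk f g fg).Exact) (e₃ : (ShortComplex.mk g h gh).Exact)
    (e₄ : (ShortComplex.mk h k hk).Exact)
    (p₁ : P X₁) (p₂ : P X₂) (p₄ : P X₄) (p₅ : P X₅) : P X₃ := by
  have pC : P (cokernel f) := P.prop_cokernel f p₁ p₂
  have pK : P (kernel k) := P.prop_kernel k p₄ p₅
  let g' : cokernel f ⟶ X₃ := cokernel.desc f g fg
  let h' : X₃ ⟶ kernel k := kernel.lift k h hk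
  haveI : Mono g' := e₂.mono_cokernelDesc
  haveI : Epi h' := e₄.epi_kernelLift
  have w : g' ≫ h' = 0 := by
    rw [← cancel_epi (cokernel.π f), ← cancel_mono (kernel.ι k)]
    simp [g', h', gh]
  have w' : g' ≫ h = 0 := by
    rw [← cancel_epi (cokernel.π f)]
    simp [g', gh]
  -- exactness of the middle
  let φ₁ : ShortComplex.mk g h gh ⟶ ShortComplex.mk g' h w' :=
    { τ₁ := cokernel.π f
      τ₂ := 𝟙 _
      τ₃ := 𝟙 _
      comm₁₂ := by simp [g']
      comm₂₃ := by simp }
  let φ₂ : ShortComplex.mk g' h' w ⟶ ShortComplex.mk g' h w' :=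
    { τ₁ := 𝟙 _
      τ₂ := 𝟙 _
      τ₃ := kernel.ι k
      comm₁₂ := by simp
      comm₂₃ := by simp [h'] }
  haveI : Epi φ₁.τ₁ := inferInstanceAs (Epi (cokernel.π f))
  haveI : IsIso φ₁.τ₂ := inferInstanceAs (IsIso (𝟙 _))
  haveI : Mono φ₁.τ₃ := inferInstanceAs (Mono (𝟙 _))
  haveI : Epi φ₂.τ₁ := inferInstanceAs (Epi (𝟙 _))
  haveI : IsIso φ₂.τ₂ := inferInstanceAs (IsIso (𝟙 _))
  haveI : Mono φ₂.τ₃ := inferInstanceAs (Mono (kernel.ι k))
  have ex1 : (ShortComplex.mk g' h w').Exact :=
    (ShortComplex.exact_iff_of_epi_of_isIso_of_mono φ₁).1 e₃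
  have ex2 : (ShortComplex.mk g' h' w).Exact :=
    (ShortComplex.exact_iff_of_epi_of_isIso_of_mono φ₂).2 ex1
  have hS : (ShortComplex.mk g' h' w).ShortExact := ShortComplex.ShortExact.mk' ex2 ‹_› ‹_›
  exact P.prop_X₂_of_shortExact hS pC pK

end Five

variable {A : Type u₁} [Category.{v₁} A] [Abelian A] [HasDerivedCategory.{w₁} A]
  {B : Type u₂} [Category.{v₂} B] [Abelian B] [HasDerivedCategory.{w₂} B]

section Coh

variable (P : ObjectProperty A) [WSerre.IsWeakSerre P]

/-- `D_P` is closed under cones -/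
lemma cohIn_obj₂ (T : Triangle (DerivedCategory A)) (hT : T ∈ distTriang _)
    (h₁ : WSerre.cohIn P T.obj₁) (h₃ : WSerre.cohIn P T.obj₃) : WSerre.cohIn P T.obj₂ := by
  intro i
  exact prop_of_five P (HomologySequence.δ T (i - 1) i (by omega))
    ((homologyFunctor A i).map T.mor₁) ((homologyFunctor A i).map T.mor₂)
    (HomologySequence.δ T i (i + 1) rfl) _ _ _
    (HomologySequence.exact₁ T hT (i - 1) i (by omega)) (HomologySequence.exact₂ T hT i)
    (HomologySequence.exact₃ T hT i (i + 1) rfl) (h₃ (i - 1)) (h₁ i) (h₃ i) (h₁ (i + 1))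

lemma cohIn_of_iso {X Y : DerivedCategory A} (e : X ≅ Y) (h : WSerre.cohIn P Y) :
    WSerre.cohIn P X :=
  fun i => P.prop_of_iso ((homologyFunctor A i).mapIso e).symm (h i)

lemma cohIn_single (M : A) (hM : P M) (a : ℤ) : WSerre.cohIn P ((singleFunctor A a).obj M) := by
  intro i
  by_cases hi : i = a
  · subst hi
    exact P.prop_of_iso ((singleFunctorCompHomologyFunctorIso A i).app M).symm hM
  · apply P.prop_of_isZero
    rcases lt_or_gt_of_ne hi with h | h
    · exact ((singleFunctor A a).obj M).isZero_of_isGE a i h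
    · exact ((singleFunctor A a).obj M).isZero_of_isLE a i h

end Coh

section Dev

/-- dévissage for bounded objects -/
theorem devissage_bounded (S : ObjectProperty (DerivedCategory A)) [S.IsClosedUnderIsomorphisms]
    (h23 : ∀ T ∈ distTriang (DerivedCategory A), S T.obj₁ → S T.obj₃ → S T.obj₂)
    (G : ObjectProperty A) [G.IsClosedUnderIsomorphisms] (h0 : ∀ M : A, IsZero M → G M)
    (hbase : ∀ (M : A) (a : ℤ), G M → S ((singleFunctor A a).obj M)) (N : ℕ) :
    ∀ (X : DerivedCategory A) (a : ℤ), X.IsGE a → X.IsLE (a + N) →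
      (∀ q, G ((homologyFunctor A q).obj X)) → S X := by
  have single : ∀ (X : DerivedCategory A) (a : ℤ), X.IsGE a → X.IsLE a →
      G ((homologyFunctor A a).obj X) → S X := by
    intro X a h₁ h₂ h
    obtain ⟨Y, ⟨e⟩⟩ := exists_iso_singleFunctor_obj_of_isGE_of_isLE X a
    have e1 : (homologyFunctor A a).obj X ≅ Y :=
      (homologyFunctor A a).mapIso e ≪≫ (singleFunctorCompHomologyFunctorIso A a).app Y
    exact S.prop_of_iso e.symm (hbase Y a (G.prop_of_iso e1 h))
  induction N with
  | zero =>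
    intro X a h₁ h₂ h
    have h₂' : X.IsLE a := by simpa using h₂
    exact single X a h₁ h₂' (h a)
  | succ N ih =>
    intro X a h₁ h₂ h
    let c : ℤ := a + N + 1
    have hT := tA.triangleLTGE_distinguished c X
    haveI := h₁
    have h2' : X.IsLE c := by
      have : a + ((N + 1 : ℕ) : ℤ) = c := by push_cast; ring
      rwa [this] at h₂
    haveI := h2'
    have g1 : ∀ q, G ((homologyFunctor A q).obj ((tA.truncLT c).obj X)) := by
      intro q
      by_cases hq : q < c
      · haveI := isIso_homology_truncLTι X c q hq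
        exact G.prop_of_iso
          (asIso ((homologyFunctor A q).map ((tA.truncLTι c).app X))).symm (h q)
      · apply h0
        haveI : ((tA.truncLT c).obj X).IsLE (c - 1) := inferInstance
        exact ((tA.truncLT c).obj X).isZero_of_isLE (c - 1) q (by omega)
    have g3 : G ((homologyFunctor A c).obj ((tA.truncGE c).obj X)) := by
      haveI := isIso_homology_truncGEπ X c c le_rfl
      exact G.prop_of_iso (asIso ((homologyFunctor A c).map ((tA.truncGEπ c).app X))) (h c)
    have i1 : S ((tA.truncLT c).obj X) := by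
      refine ih _ a inferInstance ?_ g1
      exact tA.isLE_truncLT_obj X c (a + N) (by omega)
    have i3 : S ((tA.truncGE c).obj X) := single _ c inferInstance inferInstance g3
    exact h23 ((tA.triangleLTGE c).obj X) hT i1 i3

end Dev

section Homology

variable (Φ : B ⥤ A) [Φ.Additive] [PreservesFiniteLimits Φ] [PreservesFiniteColimits Φ]

/-- an exact functor commutes with cohomology objects -/
lemma nonempty_homology_mapDerivedCategory_iso (Y : DerivedCategory B) (i : ℤ) :
    Nonempty ((homologyFunctor A i).obj (Φ.mapDerivedCategory.obj Y) ≅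
      Φ.obj ((homologyFunctor B i).obj Y)) := by
  let K := Q.objPreimage Y
  let e : Q.obj K ≅ Y := Q.objObjPreimageIso Y
  let ΦK := (Φ.mapHomologicalComplex (ComplexShape.up ℤ)).obj K
  have e1 : (homologyFunctor A i).obj (Φ.mapDerivedCategory.obj Y) ≅ ΦK.homology i :=
    (homologyFunctor A i).mapIso (Φ.mapDerivedCategory.mapIso e.symm ≪≫
      Φ.mapDerivedCategoryFactors.app K) ≪≫ (homologyFunctorFactors A i).app ΦK
  have e2 : ΦK.homology i ≅ Φ.obj (K.homology i) := (K.sc i).mapHomologyIso Φ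
  have e3 : K.homology i ≅ (homologyFunctor B i).obj Y :=
    ((homologyFunctorFactors B i).app K).symm ≪≫ (homologyFunctor B i).mapIso e
  exact ⟨e1 ≪≫ e2 ≪≫ Φ.mapIso e3⟩

end Homology

end Groth.Agent.H7.WayOut
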