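import Groth.Agent.Lib.Helper7.LR3
import Groth.Agent.Lib.Lead.QCGroth

/-!
# Schemes: `Rf_*` commutes with derived limits, `Lf^*` commutes with coproducts, `HasRpush`
-/

set_option autoImplicit false
universe u

open CategoryTheory CategoryTheory.Limits AlgebraicGeometry
attribute [local instance] HasDerivedCategory.standard

namespace Groth.Agent.Helper7.LR4

open Groth.Agent.H4 Groth.Agent.H6

variable {X Y : Scheme.{u}}

/-- the total right derived functor `Rf_*` exists. -/
theorem hasRpush (f : X ⟶ Y) : DCoh.HasRpush f := by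
  haveI := KInjDS.hasPointwiseRightDerivedFunctor (DCoh.pushKh f)
  infer_instance

/-- `Rf_*` commutes with derived limits. -/
theorem rpush_isRlim (f : X ⟶ Y) [DCoh.HasRpush f]
    (K : ℕ → DCoh.D X) (t : ∀ n, K (n + 1) ⟶ K n) [HasProduct K]
    [HasProduct fun n => (DCoh.Rpush f).obj (K n)]
    (L : DCoh.D X) (hL : DCoh.IsRlim K t L) :
    DCoh.IsRlim (fun n => (DCoh.Rpush f).obj (K n)) (fun n => (DCoh.Rpush f).map (t n))
      ((DCoh.Rpush f).obj L) := by
  haveI := LDS14.hasLpull f
  haveI : IsGrothendieckAbelian.{u} X.Modules :=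
    Groth.Agent.LD.QCGroth.isGrothendieckAbelian_modules X
  haveI : PreservesLimitsOfSize.{0, 0} (DCoh.Rpush f) :=
    (LR2.lpullRpushAdj f).rightAdjoint_preservesLimits
  haveI : PreservesLimitsOfSize.{0, 0} (Scheme.Modules.pushforward f) :=
    (Scheme.Modules.pullbackPushforwardAdjunction f).rightAdjoint_preservesLimits
  exact LR3.main' (Scheme.Modules.pushforward f) K t L hL

/-- `Lf^*` commutes with coproducts. -/
theorem lpull_sigma (f : X ⟶ Y) [DCoh.HasLpull f] {ι : Type u} (C : ι → DCoh.D Y)
    [HasCoproduct C] [HasCoproduct (fun i => (DCoh.Lpull f).obj (C i))] :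
    IsIso (Sigma.desc (fun i => (DCoh.Lpull f).map (Sigma.ι C i))) := by
  haveI := hasRpush f
  haveI : PreservesColimitsOfSize.{u, u} (DCoh.Lpull f) :=
    (LR2.lpullRpushAdj f).leftAdjoint_preservesColimits
  exact (inferInstance : IsIso (sigmaComparison (DCoh.Lpull f) C))

end Groth.Agent.Helper7.LR4
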