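import Groth.Agent.Lib.Helper7.LR4
import Groth.Agent.Lib.Helper2.Resol3

/-!
# `Rf_*` is left t-exact: it preserves `D^{≥ n}`
-/

set_option autoImplicit false
universe u

open CategoryTheory CategoryTheory.Limits AlgebraicGeometry
attribute [local instance] HasDerivedCategory.standard

namespace Groth.Agent.Helper7.LR5

open Groth.Agent.H4 Groth.Agent.H6 Groth.Agent.H2 DerivedCategory

variable {X Y : Scheme.{u}}

theorem rpush_isGE (f : X ⟶ Y) [DCoh.HasRpush f] (F : DCoh.D X) (n : ℤ) [F.IsGE n] :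
    ((DCoh.Rpush f).obj F).IsGE n := by
  haveI : IsGrothendieckAbelian.{u} X.Modules :=
    Groth.Agent.LD.QCGroth.isGrothendieckAbelian_modules X
  haveI : EnoughInjectives X.Modules := inferInstance
  obtain ⟨M, hM, ⟨e⟩⟩ := F.exists_iso_Q_obj_of_isGE n
  obtain ⟨Z, hZ⟩ := HasZeroObject.zero (C := X.Modules)
  have hZinj : Injective Z := ⟨fun {X Y} g f _ => ⟨0, hZ.eq_of_tgt _ _⟩⟩
  obtain ⟨L, α, hL, hLI, -, hα⟩ := Resol.exists_resolution (fun Y : X.Modules => Injective Y)
    (fun Y => ⟨Injective.under Y, Injective.ι Y, inferInstance, inferInstance⟩) M n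
    ⟨Z, hZ, hZinj⟩
  haveI : ∀ i, Injective (L.X i) := hLI
  haveI : IsIso (Q.map α) := (isIso_Q_map_iff_quasiIso _ α).2 hα
  haveI : L.IsKInjective := CochainComplex.isKInjective_of_injective L n
  have h1 := KInjDS.isIso_app_of_isKInjective (DCoh.pushKh f) Qh
    ((DCoh.pushKh f).totalRightDerivedUnit Qh
      (HomotopyCategory.quasiIso X.Modules (ComplexShape.up ℤ))) L
  -- the complex `f_* L` is strictly `≥ n`
  haveI : CochainComplex.IsStrictlyGE
      (((Scheme.Modules.pushforward f).mapHomologicalComplex (ComplexShape.up ℤ)).obj L) n := by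
    rw [CochainComplex.isStrictlyGE_iff]
    intro i hi
    exact (Scheme.Modules.pushforward f).map_isZero (L.isZero_of_isStrictlyGE n i hi)
  have e2 : (DCoh.Rpush f).obj F ≅
      Q.obj (((Scheme.Modules.pushforward f).mapHomologicalComplex (ComplexShape.up ℤ)).obj L) :=
    (DCoh.Rpush f).mapIso (e ≪≫ asIso (Q.map α) ≪≫ ((quotientCompQhIso X.Modules).app L).symm) ≪≫
      (asIso (((DCoh.pushKh f).totalRightDerivedUnit Qh
        (HomotopyCategory.quasiIso X.Modules (ComplexShape.up ℤ))).app
          ((HomotopyCategory.quotient X.Modules (ComplexShape.up ℤ)).obj L))).symm ≪≫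
      Qh.mapIso (((Scheme.Modules.pushforward f).mapHomotopyCategoryFactors
        (ComplexShape.up ℤ)).app L) ≪≫ (quotientCompQhIso Y.Modules).app _
  exact TStructure.t.isGE_of_iso e2.symm n

end Groth.Agent.Helper7.LR5
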