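import Mathlib

/-!
# Helper7: SplitCx1 — complexes of injectives that are exact in low degrees split there
-/

set_option autoImplicit false

open CategoryTheory Limits HomologicalComplex

namespace Groth.Agent.H7.SplitCx

universe v u v' u'

section Abs

variable {B : Type u} [Category.{v} B] [Preadditive B]

/-- an absolute (split) cokernel -/
noncomputable def isColimitOfSplit {X Z H : B} {f : X ⟶ Z} {g : Z ⟶ H} (w : f ≫ g = 0)
    (σ : H ⟶ Z) (t : Z ⟶ X) (hσ : σ ≫ g = 𝟙 _) (ht : t ≫ f + g ≫ σ = 𝟙 _) :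
    IsColimit (CokernelCofork.ofπ g w) :=
  haveI : Epi g := (SplitEpi.mk σ hσ).epi
  CokernelCofork.IsColimit.ofπ _ _ (fun {W} h _ => σ ≫ h)
    (fun {W} h hh => by
      have h1 : (t ≫ f + g ≫ σ) ≫ h = h := by rw [ht, Category.id_comp]
      rw [Preadditive.add_comp, Category.assoc, hh, comp_zero, zero_add, Category.assoc] at h1
      exact h1)
    (fun {W} h hh m hm => by
      rw [← cancel_epi g, hm]
      have h1 : (t ≫ f + g ≫ σ) ≫ h = h := by rw [ht, Category.id_comp]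
      rw [Preadditive.add_comp, Category.assoc, hh, comp_zero, zero_add, Category.assoc] at h1
      exact h1.symm)

end Abs

variable {B : Type u} [Category.{v} B] [Abelian B] (K : CochainComplex B ℕ)

/-- `Q^q = coker(d^{q-1})` is injective and `K^q → Q^q` admits a section -/
def T (q : ℕ) : Prop :=
  Injective (K.opcycles q) ∧ ∃ τ : K.opcycles q ⟶ K.X q, τ ≫ K.pOpcycles q = 𝟙 _

lemma T_zero [Injective (K.X 0)] : T K 0 :=
  ⟨Injective.of_iso (asIso (K.pOpcycles 0)) inferInstance, inv (K.pOpcycles 0), by simp⟩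

lemma mono_fromOpcycles (q : ℕ) (hq : K.ExactAt q) : Mono (K.fromOpcycles q (q + 1)) := by
  rw [exactAt_iff_isZero_homology] at hq
  apply Preadditive.mono_of_cancel_zero
  intro P g hg
  have := (K.homologyIsKernel q (q + 1) (by simp))
  obtain ⟨l, hl⟩ := KernelFork.IsLimit.lift' this g hg
  have hl' : l ≫ K.homologyι q = g := hl
  rw [← hl', hq.eq_of_tgt l 0, zero_comp]

/-- the short complex `Q^q → K^{q+1} → Q^{q+1}` -/
noncomputable abbrev sc (q : ℕ) : ShortComplex B :=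
  ShortComplex.mk (K.fromOpcycles q (q + 1)) (K.pOpcycles (q + 1)) (by
    rw [← cancel_epi (K.pOpcycles q), p_fromOpcycles_assoc, d_pOpcycles, comp_zero])

lemma sc_exact (q : ℕ) : (sc K q).Exact := by
  let S' := ShortComplex.mk (K.d q (q + 1)) (K.pOpcycles (q + 1)) (by simp)
  let π : S' ⟶ sc K q :=
    { τ₁ := K.pOpcycles q
      τ₂ := 𝟙 _
      τ₃ := 𝟙 _ }
  rw [← ShortComplex.exact_iff_of_epi_of_isIso_of_mono π]
  exact S'.exact_of_g_is_cokernel (K.opcyclesIsCokernel q (q + 1) (by simp))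

lemma split_at (q : ℕ) [Injective (K.X (q + 1))] (hT : T K q) (hq : K.ExactAt q) :
    ∃ (ρ : K.X (q + 1) ⟶ K.opcycles q) (τ' : K.opcycles (q + 1) ⟶ K.X (q + 1)),
      K.fromOpcycles q (q + 1) ≫ ρ = 𝟙 _ ∧ τ' ≫ K.pOpcycles (q + 1) = 𝟙 _ ∧
      ρ ≫ K.fromOpcycles q (q + 1) + K.pOpcycles (q + 1) ≫ τ' = 𝟙 _ ∧
      Injective (K.opcycles (q + 1)) := by
  haveI := hT.1
  haveI := mono_fromOpcycles K q hq
  let ρ : K.X (q + 1) ⟶ K.opcycles q := Injective.factorThru (𝟙 _) (K.fromOpcycles q (q + 1))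
  have hρ : K.fromOpcycles q (q + 1) ≫ ρ = 𝟙 _ := Injective.comp_factorThru _ _
  let sp : (sc K q).Splitting :=
    ShortComplex.Splitting.ofExactOfRetraction (sc K q) (sc_exact K q) ρ hρ
      (inferInstanceAs (Epi (K.pOpcycles (q + 1))))
  have hr : sp.r = ρ := rfl
  refine ⟨ρ, sp.s, hρ, sp.s_g, ?_, ?_⟩
  · have := sp.id
    rw [hr] at this
    exact this
  · exact (Retract.mk sp.s (K.pOpcycles (q + 1)) sp.s_g).injective

lemma T_succ (q : ℕ) [Injective (K.X (q + 1))] (hT : T K q) (hq : K.ExactAt q) : T K (q + 1) := by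
  obtain ⟨ρ, τ', _, h2, _, h4⟩ := split_at K q hT hq
  exact ⟨h4, τ', h2⟩

lemma T_of_exact [∀ i, Injective (K.X i)] (n : ℕ) (h : ∀ p, p < n → K.ExactAt p) :
    ∀ q, q ≤ n → T K q := by
  intro q
  induction q with
  | zero => intro _; exact T_zero K
  | succ q ih =>
    intro hq
    exact T_succ K q (ih (by omega)) (h q (by omega))

lemma contract_zero [∀ i, Injective (K.X i)] (h0 : K.ExactAt 0) :
    ∃ s : K.X 1 ⟶ K.X 0, K.d 0 1 ≫ s = 𝟙 _ := by
  obtain ⟨ρ, τ', h1, _, _, _⟩ := split_at K 0 (T_zero K) h0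
  refine ⟨ρ ≫ inv (K.pOpcycles 0), ?_⟩
  rw [← K.p_fromOpcycles 0 1, Category.assoc, reassoc_of% h1, IsIso.hom_inv_id]

lemma contract_succ [∀ i, Injective (K.X i)] (p : ℕ) (hT : T K p) (hp : K.ExactAt p)
    (hp1 : K.ExactAt (p + 1)) :
    ∃ (r : K.X (p + 1) ⟶ K.X p) (s : K.X (p + 2) ⟶ K.X (p + 1)),
      r ≫ K.d p (p + 1) + K.d (p + 1) (p + 2) ≫ s = 𝟙 _ := by
  obtain ⟨τ, hτ⟩ := hT.2
  obtain ⟨ρ, τ', h1, h2, h3, h4⟩ := split_at K p hT hp
  obtain ⟨ρ', _, h1', _, _, _⟩ := split_at K (p + 1) ⟨h4, τ', h2⟩ hp1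
  refine ⟨ρ ≫ τ, ρ' ≫ τ', ?_⟩
  rw [← K.p_fromOpcycles p (p + 1), ← K.p_fromOpcycles (p + 1) (p + 2)]
  simp only [Category.assoc]
  rw [reassoc_of% hτ, reassoc_of% h1']
  exact h3

variable {C : Type u'} [Category.{v'} C] [Abelian C] (Ψ : B ⥤ C) [Ψ.Additive]

/-- Claim A: any additive functor keeps `K` exact in the degrees `< n` -/
theorem exactAt_map [∀ i, Injective (K.X i)] (n : ℕ) (h : ∀ p, p < n → K.ExactAt p) (p : ℕ)
    (hp : p < n) : ((Ψ.mapHomologicalComplex _).obj K).ExactAt p := by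
  cases p with
  | zero =>
    obtain ⟨s, hs⟩ := contract_zero K (h 0 hp)
    rw [exactAt_iff' _ 0 0 1 (by simp) (by simp), ShortComplex.exact_iff_exact_up_to_refinements]
    intro A x₂ hx
    refine ⟨A, 𝟙 _, inferInstance, 0, ?_⟩
    let y : A ⟶ Ψ.obj (K.X 0) := x₂
    have hy : y ≫ Ψ.map (K.d 0 1) = 0 := hx
    have h1 : y ≫ Ψ.map (K.d 0 1 ≫ s) = y := by
      rw [hs, Ψ.map_id, Category.comp_id]
    rw [Ψ.map_comp, reassoc_of% hy, zero_comp] at h1
    rw [Category.id_comp, zero_comp]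
    exact h1.symm
  | succ p =>
    obtain ⟨r, s, hrs⟩ := contract_succ K p (T_of_exact K n h p (by omega)) (h p (by omega))
      (h (p + 1) hp)
    rw [exactAt_iff' _ p (p + 1) (p + 2) (by simp) (by simp),
      ShortComplex.exact_iff_exact_up_to_refinements]
    intro A x₂ hx
    let y : A ⟶ Ψ.obj (K.X (p + 1)) := x₂
    have hy : y ≫ Ψ.map (K.d (p + 1) (p + 2)) = 0 := hx
    have h1 : y ≫ Ψ.map (r ≫ K.d p (p + 1) + K.d (p + 1) (p + 2) ≫ s) = y := by
      rw [hrs, Ψ.map_id, Category.comp_id]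
    rw [Ψ.map_add, Preadditive.comp_add, Ψ.map_comp, Ψ.map_comp, reassoc_of% hy, zero_comp,
      add_zero] at h1
    refine ⟨A, 𝟙 _, inferInstance, y ≫ Ψ.map r, ?_⟩
    rw [Category.id_comp]
    exact h1.symm.trans (Category.assoc _ _ _).symm

end Groth.Agent.H7.SplitCx
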