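import Mathlib
import Groth.Prelude.Def_RDer
import Groth.Agent.Lib.Helper7.SplitCx1

/-!
# Helper7: SplitCx2 — the comparison `H^n(Ψ K) → Ψ(H^n K)` for a complex of injectives exact below `n`
-/

set_option autoImplicit false

open CategoryTheory Limits HomologicalComplex

namespace Groth.Agent.H7.SplitCx

universe v u v' u'

variable {B : Type u} [Category.{v} B] [Abelian B] {C : Type u'} [Category.{v'} C] [Abelian C]
  (Ψ : B ⥤ C) [Ψ.Additive] [PreservesFiniteLimits Ψ]

set_option backward.isDefEq.respectTransparency false in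
instance isIso_cyclesComparison {ι' : Type*} {c : ComplexShape ι'} (K : HomologicalComplex B c)
    (i : ι') : IsIso (RDer.cyclesComparison Ψ K i) := by
  have : RDer.cyclesComparison Ψ K i =
      (IsLimit.conePointUniqueUpToIso
        (((Ψ.mapHomologicalComplex c).obj K).cyclesIsKernel i (c.next i) rfl)
        (KernelFork.mapIsLimit _ (K.cyclesIsKernel i (c.next i) rfl) Ψ)).hom := rfl
  rw [this]
  infer_instance

lemma toCycles_eq_zero {ι' : Type*} {c : ComplexShape ι'} (K : HomologicalComplex B c)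
    (i j : ι') (h : ¬ c.Rel i j) : K.toCycles i j = 0 := by
  rw [← cancel_mono (K.iCycles j), toCycles_i, zero_comp, K.shape _ _ h]

lemma exists_split_homologyπ (K : CochainComplex B ℕ) [∀ i, Injective (K.X i)] (n : ℕ)
    (h : ∀ p, p < n → K.ExactAt p) (i : ℕ) (hi : (ComplexShape.up ℕ).prev n = i) :
    ∃ (σ : K.homology n ⟶ K.cycles n) (t : K.cycles n ⟶ K.X i),
      σ ≫ K.homologyπ n = 𝟙 _ ∧ t ≫ K.toCycles i n + K.homologyπ n ≫ σ = 𝟙 _ := by
  cases n with
  | zero =>
    obtain rfl : i = 0 := by simpa using hi.symm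
    refine ⟨inv (K.homologyπ 0), 0, by simp, ?_⟩
    rw [zero_comp, zero_add, IsIso.hom_inv_id]
  | succ m =>
    obtain rfl : m = i := by simpa using hi
    have hT := T_of_exact K (m + 1) h m (by omega)
    obtain ⟨τ, hτ⟩ := hT.2
    haveI := hT.1
    haveI := mono_fromOpcycles K m (h m (by omega))
    haveI : Mono (K.opcyclesToCycles m (m + 1) ≫ K.iCycles (m + 1)) := by
      rw [opcyclesToCycles_iCycles]; infer_instance
    haveI : Mono (K.opcyclesToCycles m (m + 1)) := mono_of_mono _ (K.iCycles (m + 1))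
    let ρ : K.cycles (m + 1) ⟶ K.opcycles m :=
      Injective.factorThru (𝟙 _) (K.opcyclesToCycles m (m + 1))
    have hρ : K.opcyclesToCycles m (m + 1) ≫ ρ = 𝟙 _ := Injective.comp_factorThru _ _
    let S := ShortComplex.mk (K.opcyclesToCycles m (m + 1)) (K.homologyπ (m + 1)) (by simp)
    let S' := ShortComplex.mk (K.toCycles m (m + 1)) (K.homologyπ (m + 1)) (by simp)
    let π : S' ⟶ S :=
      { τ₁ := K.pOpcycles m
        τ₂ := 𝟙 _
        τ₃ := 𝟙 _ }
    have hS : S.Exact := by
      rw [← ShortComplex.exact_iff_of_epi_of_isIso_of_mono π]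
      exact S'.exact_of_g_is_cokernel (K.homologyIsCokernel m (m + 1) (by simp))
    let sp : S.Splitting :=
      ShortComplex.Splitting.ofExactOfRetraction S hS ρ hρ
        (inferInstanceAs (Epi (K.homologyπ (m + 1))))
    have hr : sp.r = ρ := rfl
    refine ⟨sp.s, ρ ≫ τ, sp.s_g, ?_⟩
    have h3 := sp.id
    rw [hr] at h3
    rw [← K.pOpcycles_opcyclesToCycles m (m + 1), Category.assoc, reassoc_of% hτ]
    exact h3

set_option backward.isDefEq.respectTransparency false in
/-- Claim B -/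
theorem isIso_homologyComparison (K : CochainComplex B ℕ) [∀ i, Injective (K.X i)] (n : ℕ)
    (h : ∀ p, p < n → K.ExactAt p) : IsIso (RDer.homologyComparison Ψ K n) := by
  obtain ⟨σ, t, hσ, ht⟩ := exists_split_homologyπ K n h _ rfl
  let c := RDer.cyclesComparison Ψ K n
  let L := (Ψ.mapHomologicalComplex (ComplexShape.up ℕ)).obj K
  have hf : L.toCycles ((ComplexShape.up ℕ).prev n) n =
      Ψ.map (K.toCycles ((ComplexShape.up ℕ).prev n) n) ≫ inv c := by
    rw [← RDer.toCycles_cyclesComparison, Category.assoc, IsIso.hom_inv_id, Category.comp_id]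
  have w : L.toCycles ((ComplexShape.up ℕ).prev n) n ≫ (c ≫ Ψ.map (K.homologyπ n)) = 0 := by
    rw [hf, Category.assoc, IsIso.inv_hom_id_assoc, ← Ψ.map_comp, toCycles_comp_homologyπ,
      Ψ.map_zero]
  have h1 : (Ψ.map σ ≫ inv c) ≫ (c ≫ Ψ.map (K.homologyπ n)) = 𝟙 _ := by
    rw [Category.assoc, IsIso.inv_hom_id_assoc, ← Ψ.map_comp, hσ, Ψ.map_id]
  have h2 : (c ≫ Ψ.map t) ≫ L.toCycles ((ComplexShape.up ℕ).prev n) n +
      (c ≫ Ψ.map (K.homologyπ n)) ≫ (Ψ.map σ ≫ inv c) = 𝟙 _ := by
    rw [hf]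
    have : c ≫ Ψ.map (t ≫ K.toCycles ((ComplexShape.up ℕ).prev n) n + K.homologyπ n ≫ σ) ≫ inv c
        = 𝟙 _ := by
      rw [ht, Ψ.map_id, Category.id_comp, IsIso.hom_inv_id]
    rw [Ψ.map_add, Preadditive.add_comp, Preadditive.comp_add, Ψ.map_comp, Ψ.map_comp] at this
    simpa only [Category.assoc] using this
  let hc := isColimitOfSplit w (Ψ.map σ ≫ inv c) (c ≫ Ψ.map t) h1 h2
  have : RDer.homologyComparison Ψ K n =
      (IsColimit.coconePointUniqueUpToIso
        (L.homologyIsCokernel ((ComplexShape.up ℕ).prev n) n rfl) hc).hom := rfl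
  rw [this]
  infer_instance

end Groth.Agent.H7.SplitCx
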