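import Mathlib
import Groth.Agent.Lib.Lead.DAdj.MapHC

/-!
# Helper7: DRec1 — derived version of a fully faithful exact right adjoint
-/

set_option autoImplicit false

open CategoryTheory Limits Pretriangulated ZeroObject

namespace Groth.Agent.H7.DRec

universe w w' w'' v v' v'' u u' u''

section Homology

variable {A : Type u} [Category.{v} A] [Abelian A] {B : Type u'} [Category.{v'} B] [Abelian B]
  [HasDerivedCategory.{w} A] [HasDerivedCategory.{w'} B]
  (F : A ⥤ B) [F.Additive] [PreservesFiniteLimits F] [PreservesFiniteColimits F]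

/-- exact functors commute with homology of objects of the derived category -/
noncomputable def homologyMapDerivedIso (K : DerivedCategory A) (n : ℤ) :
    (DerivedCategory.homologyFunctor B n).obj (F.mapDerivedCategory.obj K) ≅
      F.obj ((DerivedCategory.homologyFunctor A n).obj K) :=
  (DerivedCategory.homologyFunctor B n).mapIso
      (F.mapDerivedCategory.mapIso (DerivedCategory.Q.objObjPreimageIso K).symm) ≪≫
    (DerivedCategory.homologyFunctor B n).mapIso
      (F.mapDerivedCategoryFactors.app (DerivedCategory.Q.objPreimage K)) ≪≫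
    (DerivedCategory.homologyFunctorFactors B n).app _ ≪≫
    ((DerivedCategory.Q.objPreimage K).sc n).mapHomologyIso F ≪≫
    F.mapIso ((DerivedCategory.homologyFunctorFactors A n).app _).symm ≪≫
    F.mapIso ((DerivedCategory.homologyFunctor A n).mapIso
      (DerivedCategory.Q.objObjPreimageIso K))

end Homology

theorem isZero_of_forall_isZero_homology {A : Type u} [Category.{v} A] [Abelian A]
    [HasDerivedCategory.{w} A] (M : DerivedCategory A)
    (h : ∀ n, IsZero ((DerivedCategory.homologyFunctor A n).obj M)) : IsZero M := by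
  have : IsIso (0 : M ⟶ 0) := by
    rw [DerivedCategory.isIso_iff]
    intro n
    exact ⟨⟨0, (h n).eq_of_src _ _,
      (Functor.map_isZero _ (isZero_zero _)).eq_of_src _ _⟩⟩
  exact IsZero.of_iso (isZero_zero _) (asIso (0 : M ⟶ 0))

section Adj

variable {A : Type u} [Category.{v} A] [Abelian A] {B : Type u'} [Category.{v'} B] [Abelian B]
  [HasDerivedCategory.{w} A] [HasDerivedCategory.{w'} B]
  {L : B ⥤ A} {R : A ⥤ B} (adj : L ⊣ R) [L.Additive] [R.Additive]
  [PreservesFiniteLimits L] [PreservesFiniteColimits L]
  [PreservesFiniteLimits R] [PreservesFiniteColimits R]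

open Groth.Agent.LD.DAdj

theorem isIso_counit_derived (h : ∀ M, IsIso (adj.counit.app M)) (K : DerivedCategory A) :
    IsIso ((mapDerivedCategoryAdj adj).counit.app K) := by
  have e := DerivedCategory.Q.objObjPreimageIso K
  rw [← NatTrans.isIso_app_iff_of_iso (mapDerivedCategoryAdj adj).counit e]
  unfold mapDerivedCategoryAdj
  rw [Adjunction.localization_counit_app]
  haveI : IsIso ((mapHCAdj adj (ComplexShape.up ℤ)).counit.app (DerivedCategory.Q.objPreimage K)) := by
    haveI : ∀ n, IsIso (((mapHCAdj adj (ComplexShape.up ℤ)).counit.app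
        (DerivedCategory.Q.objPreimage K)).f n) := fun n =>
      (inferInstanceAs (IsIso (adj.counit.app ((DerivedCategory.Q.objPreimage K).X n))))
    exact HomologicalComplex.Hom.isIso_of_components _
  infer_instance

include adj in
theorem full_faithful_derived (h : ∀ M, IsIso (adj.counit.app M)) :
    R.mapDerivedCategory.Full ∧ R.mapDerivedCategory.Faithful := by
  haveI : IsIso (mapDerivedCategoryAdj adj).counit := by
    haveI := isIso_counit_derived adj h
    exact NatIso.isIso_of_isIso_app _
  exact ⟨(mapDerivedCategoryAdj adj).fullyFaithfulROfIsIsoCounit.full,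
    (mapDerivedCategoryAdj adj).fullyFaithfulROfIsIsoCounit.faithful⟩

include adj in
theorem essImage_derived_iff (h : ∀ M, IsIso (adj.counit.app M))
    {E : Type u''} [Category.{v''} E] [Abelian E] (J : B ⥤ E) [J.Additive]
    [PreservesFiniteLimits J] [PreservesFiniteColimits J]
    (hJR : ∀ M : A, IsZero (J.obj (R.obj M)))
    (hdet : ∀ M : B, IsZero (L.obj M) → IsZero (J.obj M) → IsZero M)
    (K : DerivedCategory B) :
    R.mapDerivedCategory.essImage K ↔
      ∀ n : ℤ, IsZero (J.obj ((DerivedCategory.homologyFunctor B n).obj K)) := by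
  constructor
  · rintro ⟨M, ⟨e⟩⟩ n
    exact (hJR _).of_iso (J.mapIso ((DerivedCategory.homologyFunctor B n).mapIso e.symm ≪≫
      homologyMapDerivedIso R M n))
  · intro hK
    let adj' := mapDerivedCategoryAdj adj
    haveI : IsIso adj'.counit := by
      haveI := isIso_counit_derived adj h
      exact NatIso.isIso_of_isIso_app _
    suffices IsIso (adj'.unit.app K) from
      ⟨L.mapDerivedCategory.obj K, ⟨(asIso (adj'.unit.app K)).symm⟩⟩
    obtain ⟨C, g, k, hT⟩ := distinguished_cocone_triangle (adj'.unit.app K)
    refine (Triangle.isZero₃_iff_isIso₁ _ hT).1 ?_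
    -- `L' C = 0`
    have hLu : IsIso (L.mapDerivedCategory.map (adj'.unit.app K)) := by
      have := adj'.left_triangle_components K
      haveI : IsIso (L.mapDerivedCategory.map (adj'.unit.app K) ≫
          adj'.counit.app (L.mapDerivedCategory.obj K)) := by rw [this]; exact IsIso.id _
      exact IsIso.of_isIso_comp_right _ (adj'.counit.app (L.mapDerivedCategory.obj K))
    have hLC : IsZero (L.mapDerivedCategory.obj C) :=
      (Triangle.isZero₃_iff_isIso₁ _ (L.mapDerivedCategory.map_distinguished _ hT)).2 hLu
    apply isZero_of_forall_isZero_homology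
    intro n
    apply hdet
    · exact (Functor.map_isZero (DerivedCategory.homologyFunctor A n) hLC).of_iso
        (homologyMapDerivedIso L C n).symm
    · have hex := (DerivedCategory.HomologySequence.exact₃ _ hT n (n + 1) rfl).map J
      refine hex.isZero_X₂ ?_ ?_
      · refine IsZero.eq_of_src ?_ _ _
        exact (hJR _).of_iso (J.mapIso (homologyMapDerivedIso R _ n))
      · exact IsZero.eq_of_tgt (hK (n + 1)) _ _

end Adj

end Groth.Agent.H7.DRec
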