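import Mathlib
import Groth.Prelude.Def_DCoh4
import Groth.Agent.Lib.Helper6.LerayBB3
import Groth.Agent.Lib.Helper6.DerAdj1

/-! # Leray acyclicity for global sections on an affine scheme `Spec R`, unbounded complexes of
quasi-coherent modules (the `Γ`-analogue of helper6's `LerayBB3`) -/

set_option autoImplicit false
universe u
open CategoryTheory Limits Opposite Pretriangulated AlgebraicGeometry TopologicalSpace

namespace Groth.Agent.Helper7.QB1

open DerivedCategory Groth.Agent.H6.KI Groth.Agent.H6.MD Groth.Agent.H6.MVTri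
open Groth.Agent.LD.SC Groth.Agent.H6.RFTri Groth.Agent.H6.QcVan Groth.Agent.H6.DerSt
open Groth.Agent.H6.LerayBB Groth.Agent.H6.MDw Groth.Agent.H6

attribute [local instance] HasDerivedCategory.standard

variable (R : CommRingCat.{u})

/-- the affine scheme -/
noncomputable abbrev X₀ : Scheme.{u} := Spec (CommRingCat.of R)

/-- global sections -/
noncomputable abbrev Gam : (X₀ R).Modules ⥤ ModuleCat.{u} R := moduleSpecΓFunctor (R := R)

instance : (Gam R).Additive := (tilde.adjunction (R := R)).right_adjoint_additive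

instance : PreservesFiniteLimits (Gam R) := by
  haveI := (tilde.adjunction (R := R)).rightAdjoint_preservesLimits
  infer_instance

instance : KInjDS.HasKInjRes (X₀ R).Modules := Groth.Agent.H6.RpRes.hasKInjRes_modules (X₀ R)

instance instGA : IsGrothendieckAbelian.{u} (X₀ R).Modules :=
  Groth.Agent.LD.QCGroth.isGrothendieckAbelian_modules (X₀ R)

instance instEI : EnoughInjectives (X₀ R).Modules := inferInstance

instance : ((Gam R).mapHomotopyCategory (ComplexShape.up ℤ) ⋙ Qh).HasRightDerivedFunctor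
    (HomotopyCategory.quasiIso (X₀ R).Modules (ComplexShape.up ℤ)) := by
  haveI := KInjDS.hasPointwiseRightDerivedFunctor
    ((Gam R).mapHomotopyCategory (ComplexShape.up ℤ) ⋙ Qh)
  infer_instance

/-- cocycles are coboundaries in `Γ(X, I)` when `Hom(O_X[0], I[m]) = 0`. -/
theorem exactAt_Gam_of_hom_eq_zero (I : CochainComplex (X₀ R).Modules ℤ) [I.IsKInjective] (m : ℤ)
    (h0 : ∀ ψ : DZ (J := Opens.grothendieckTopology (X₀ R)) (X₀ R).sheaf ⊤ ⟶ (Q.obj I)⟦m⟧, ψ = 0) :
    (((Gam R).mapHomologicalComplex (ComplexShape.up ℤ)).obj I).ExactAt m := by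
  rw [HomologicalComplex.exactAt_iff' _ (m - 1) m (m + 1) (by simp) (by simp),
    ShortComplex.moduleCat_exact_iff]
  intro t ht
  obtain ⟨s, hs⟩ := exists_section_of_forall_hom_eq_zero (X₀ R) I ⊤ m h0 t ht
  exact ⟨s, hs⟩


/-- `RΓ` does not raise the cohomological amplitude of objects of `D_QCoh(Spec R)`. -/
theorem vanishing_Gam (E : DCoh.D (X₀ R)) (hE : DCoh.IsQCohD E) (b : ℤ)
    (hb : ∀ q : ℤ, b < q → IsZero (DCoh.HD E q)) (m : ℤ) (hm : b < m) :
    IsZero ((homologyFunctor (ModuleCat.{u} R) m).obj ((RF (Gam R)).obj E)) := by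
  let E' : DerivedCategory (ModSite.Mod (J := Opens.grothendieckTopology (X₀ R)) (X₀ R).sheaf) := E
  haveI : IsGrothendieckAbelian.{u}
      (ModSite.Mod (J := Opens.grothendieckTopology (X₀ R)) (X₀ R).sheaf) :=
    Groth.Agent.H1.sheafOfModules_isGrothendieckAbelian _ _
  haveI : HasProduct (CohCx.truncTower E') :=
    Groth.Agent.H2.DProd.hasProduct_of_isGE _ (fun n => ⟨-(n : ℤ), inferInstance⟩)
  have hL := Groth.Agent.H6.MDw.main1007 (X₀ R) E' hE
  let A : ObjectProperty (ModSite.Mod (J := Opens.grothendieckTopology (X₀ R)) (X₀ R).sheaf) :=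
    fun F => Coh.IsQCoh (X := X₀ R) F
  haveI : A.IsClosedUnderIsomorphisms :=
    ⟨fun e h => Groth.Agent.LD.QC.qc_of_iso (X := X₀ R) e h⟩
  have h0 : ∀ φ : DZ (J := Opens.grothendieckTopology (X₀ R)) (X₀ R).sheaf ⊤ ⟶ E⟦m⟧, φ = 0 := by
    intro φ
    refine hom_eq_zero_of_isRlimVia (O := (X₀ R).sheaf) E' hL A hE ⊤ 0 ?_ b hb m
      (by simpa using hm) φ
    intro F hF k hk
    obtain ⟨p, rfl⟩ : ∃ p, k = p + 1 := ⟨k - 1, by omega⟩
    haveI : SheafOfModules.IsQuasicoherent (R := (X₀ R).ringCatSheaf) F := hF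
    exact subsingleton_ext_of_isAffineOpen (X := X₀ R) F p ⊤ (isAffineOpen_top (X₀ R))
  obtain ⟨I, hI, ⟨e⟩⟩ := Groth.Agent.H6.RFTri.exists_kinj E
  haveI := hI
  refine IsZero.of_iso ?_ ((homologyFunctor _ m).mapIso ((RF (Gam R)).mapIso e))
  refine (isZero_homology_RF_iff (Gam R) I m).2 ?_
  apply exactAt_Gam_of_hom_eq_zero
  intro ψ
  let e' := (shiftFunctor (DerivedCategory (X₀ R).Modules) m).mapIso e
  exact eq_zero_of_comp_iso_inv e' ψ (h0 _)

lemma isQCohD_of_iso {X : Scheme.{u}} {E F : DCoh.D X} (e : E ≅ F) (h : DCoh.IsQCohD E) :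
    DCoh.IsQCohD F := fun j =>
  Groth.Agent.LD.QC.qc_of_iso ((homologyFunctor X.Modules j).mapIso e) (h j)

lemma isQCohD_single {X : Scheme.{u}} (M : X.Modules) (hM : Coh.IsQCoh M) :
    DCoh.IsQCohD ((singleFunctor X.Modules 0).obj M) := by
  refine isQCohD_of_iso ((singleFunctorIsoCompQ X.Modules 0).app M).symm ?_
  apply isQCohD_Q_obj
  intro n
  by_cases hn : n = 0
  · subst hn
    exact Groth.Agent.LD.QC.qc_of_iso
      (HomologicalComplex.singleObjXSelf (ComplexShape.up ℤ) 0 M).symm hM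
  · exact Groth.Agent.LD.QC.qc_of_iso
      ((isZero_zero _).iso (HomologicalComplex.isZero_single_obj_X (ComplexShape.up ℤ) 0 M n hn))
      (Groth.Agent.LD.SC.qc_zero X)

/-- quasi-coherent modules on `Spec R` are `Γ`-acyclic. -/
theorem acycP_Gam (M : (X₀ R).Modules) (hM : Coh.IsQCoh M) : acycP (Gam R) M := by
  intro i hi
  obtain ⟨e⟩ := nonempty_homology_RF_single_iso (Gam R) M 0 i (i : ℤ) (by simp)
  refine IsZero.of_iso ?_ e.symm
  apply vanishing_Gam R _ (isQCohD_single M hM) 0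
  · intro q hq
    exact DerivedCategory.isZero_of_isLE _ 0 q hq
  · exact_mod_cast hi

/-- Leray acyclicity: `Γ(X, K) ⟶ RΓ(X, K)` is an isomorphism for a complex of quasi-coherent
modules on `Spec R`. -/
theorem isIso_theta_Gam (K : CochainComplex (X₀ R).Modules ℤ) (hq : ∀ n : ℤ, Coh.IsQCoh (K.X n)) :
    IsIso (theta (Gam R) K) := by
  haveI : WSerre.IsWeakSerre (fun M : (X₀ R).Modules => M.IsQuasicoherent) := wserre_isQCoh (X₀ R)
  apply isIso_theta_of_truncGE
  · intro a n
    exact acycP_Gam R _ (qc_truncGE_X K hq a n)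
  · intro m
    refine ⟨m - 2, by omega, fun Z g δ hT => ?_⟩
    have hZ : DCoh.IsQCohD Z :=
      Groth.Agent.H6.MDw.cohIn_obj₁ (fun M : (X₀ R).Modules => M.IsQuasicoherent) _ hT
        (isQCohD_Q_obj K hq) (isQCohD_Q_obj (K.truncGE (m - 2)) (qc_truncGE_X K hq (m - 2)))
    have hZv : ∀ q : ℤ, m - 3 < q → IsZero (DCoh.HD Z q) := by
      intro q hq'
      refine Groth.Agent.H6.MDw.isZero_homology_obj₁ _ hT (q - 1) q (by omega) ?_ ?_
      · exact epi_homologyMap_πTruncGE K (m - 2) (q - 1)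
      · haveI := isIso_homologyMap_πTruncGE K (m - 2) q (by omega)
        change Mono ((homologyFunctor (X₀ R).Modules q).map (Q.map (K.πTruncGE (m - 2))))
        infer_instance
    exact ⟨vanishing_Gam R Z hZ (m - 3) hZv m (by omega),
      vanishing_Gam R Z hZ (m - 3) hZv (m + 1) (by omega)⟩

end Groth.Agent.Helper7.QB1
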