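import Mathlib
import Groth.Prelude.Def_DCoh4
import Groth.Agent.Lib.Helper7.QB1
import Groth.Agent.Lib.Helper7.DRec1

/-! # `D(R) ≃ D_QCoh(Spec R)`: the derived adjunction `tildeD ⊣ RΓ`, full faithfulness and the
essential image -/

set_option autoImplicit false
universe u
open CategoryTheory Limits Opposite Pretriangulated AlgebraicGeometry TopologicalSpace

namespace Groth.Agent.Helper7.QB2

open DerivedCategory Groth.Agent.H6.KI Groth.Agent.H6.MD Groth.Agent.H6.MVTri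
open Groth.Agent.LD.SC Groth.Agent.H6.RFTri Groth.Agent.H6.QcVan Groth.Agent.H6.DerSt
open Groth.Agent.H6.LerayBB Groth.Agent.H6.MDw Groth.Agent.H6 Groth.Agent.H6.QcCons
open Groth.Agent.H6.DerAdj Groth.Agent.Helper7.QB1 Groth.Agent.LD.HDSh

attribute [local instance] HasDerivedCategory.standard

variable (R : CommRingCat.{u})

/-- `RΓ : D(O_{Spec R}) ⥤ D(R)`. -/
noncomputable abbrev RG : DerivedCategory (X₀ R).Modules ⥤ DerivedCategory (ModuleCat.{u} R) :=
  RF (Gam R)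

/-- the homotopy-level unit of `RΓ`. -/
noncomputable abbrev uG : Gh (Gam R) ⟶ Qh ⋙ RG R :=
  (Gh (Gam R)).totalRightDerivedUnit Qh
    (HomotopyCategory.quasiIso (X₀ R).Modules (ComplexShape.up ℤ))

/-- the complex-level unit of `RΓ`. -/
noncomputable def αG : (Gam R).mapHomologicalComplex (ComplexShape.up ℤ) ⋙ Q ⟶ Q ⋙ RG R :=
  (eG (Gam R)).hom ≫ unitCx (Gh (Gam R)) (RG R) (uG R)

instance : (RG R).IsRightDerivedFunctor (αG R)
    (HomologicalComplex.quasiIso (X₀ R).Modules (ComplexShape.up ℤ)) :=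
  isRightDerivedFunctor_cx_of_h (Gh (Gam R)) (RG R) _ (eG (Gam R)) (uG R)

lemma isIso_αG_app (K : CochainComplex (X₀ R).Modules ℤ) (hq : ∀ n : ℤ, Coh.IsQCoh (K.X n)) :
    IsIso ((αG R).app K) := by
  have h := isIso_theta_Gam R K hq
  have h1 : (αG R).app K = (eG (Gam R)).hom.app K ≫
      ((uG R).app ((quo (X₀ R).Modules).obj K) ≫
        (RG R).map ((quotientCompQhIso (X₀ R).Modules).hom.app K)) := by
    simp [αG, unitCx_app]
  unfold theta at h
  haveI := h
  haveI h2 := IsIso.of_isIso_comp_left ((quotientCompQhIso (ModuleCat.{u} R)).inv.app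
    (((Gam R).mapHomologicalComplex (ComplexShape.up ℤ)).obj K))
    (Qh.map (((Gam R).mapHomotopyCategoryFactors (ComplexShape.up ℤ)).inv.app K) ≫
    (((Gam R).mapHomotopyCategory (ComplexShape.up ℤ) ⋙ Qh).totalRightDerivedUnit Qh
      (HomotopyCategory.quasiIso (X₀ R).Modules (ComplexShape.up ℤ))).app
        ((HomotopyCategory.quotient (X₀ R).Modules (ComplexShape.up ℤ)).obj K) ≫
    (RF (Gam R)).map ((quotientCompQhIso (X₀ R).Modules).hom.app K))
  haveI h3 := IsIso.of_isIso_comp_left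
    (Qh.map (((Gam R).mapHomotopyCategoryFactors (ComplexShape.up ℤ)).inv.app K))
    ((((Gam R).mapHomotopyCategory (ComplexShape.up ℤ) ⋙ Qh).totalRightDerivedUnit Qh
      (HomotopyCategory.quasiIso (X₀ R).Modules (ComplexShape.up ℤ))).app
        ((HomotopyCategory.quotient (X₀ R).Modules (ComplexShape.up ℤ)).obj K) ≫
    (RF (Gam R)).map ((quotientCompQhIso (X₀ R).Modules).hom.app K))
  rw [h1]
  exact IsIso.comp_isIso' inferInstance h3

variable [PreservesFiniteLimits (tilde.functor R)]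

/-- the derived adjunction `tildeD ⊣ RΓ`. -/
noncomputable def adjD : DCoh.tildeD R ⊣ RG R :=
  derivedAdj (tilde.adjunction (R := R)) (RG R) (αG R)

lemma isIso_counit_Q (K : CochainComplex (X₀ R).Modules ℤ) (hq : ∀ n : ℤ, Coh.IsQCoh (K.X n)) :
    IsIso ((adjD R).counit.app (Q.obj K)) := by
  haveI := isIso_αG_app R K hq
  have hfac := derivedAdj_counit_fac (tilde.adjunction (R := R)) (RG R) (αG R) K
  haveI : IsIso ((Groth.Agent.LD.DAdj.mapHCAdj (tilde.adjunction (R := R))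
      (ComplexShape.up ℤ)).counit.app K) := by
    haveI : ∀ i, IsIso (((Groth.Agent.LD.DAdj.mapHCAdj (tilde.adjunction (R := R))
        (ComplexShape.up ℤ)).counit.app K).f i) := fun i => by
      haveI : (K.X i).IsQuasicoherent := hq i
      change IsIso ((K.X i).fromTildeΓ)
      infer_instance
    exact HomologicalComplex.Hom.isIso_of_components _
  haveI : IsIso ((DCoh.tildeD R).map ((αG R).app K)) := inferInstance
  exact IsIso.of_isIso_fac_left hfac

/-- `tildeD` reflects isomorphisms. -/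
lemma isIso_of_isIso_tildeD_map {M N : DerivedCategory (ModuleCat.{u} R)} (f : M ⟶ N)
    (h : IsIso ((DCoh.tildeD R).map f)) : IsIso f := by
  obtain ⟨C, g, δ, hT⟩ := distinguished_cocone_triangle f
  have hT' := (DCoh.tildeD R).map_distinguished _ hT
  have hz : IsZero ((DCoh.tildeD R).obj C) :=
    (Triangle.isZero₃_iff_isIso₁ _ hT').2 h
  have hC : IsZero C := by
    apply Groth.Agent.H7.DRec.isZero_of_forall_isZero_homology
    intro n
    have e := Groth.Agent.H7.DRec.homologyMapDerivedIso (tilde.functor R) C n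
    have h1 : IsZero ((tilde.functor R).obj ((homologyFunctor (ModuleCat.{u} R) n).obj C)) :=
      ((homologyFunctor _ n).map_isZero hz).of_iso e.symm
    rw [IsZero.iff_id_eq_zero] at h1 ⊢
    apply (tilde.functor R).map_injective
    rw [CategoryTheory.Functor.map_id, h1, CategoryTheory.Functor.map_zero]
  exact (Triangle.isZero₃_iff_isIso₁ _ hT).1 hC

lemma isIso_unit_app (M : DerivedCategory (ModuleCat.{u} R)) : IsIso ((adjD R).unit.app M) := by
  let N := (Q (C := ModuleCat.{u} R)).objPreimage M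
  let e : Q.obj N ≅ M := (Q (C := ModuleCat.{u} R)).objObjPreimageIso M
  suffices IsIso ((adjD R).unit.app (Q.obj N)) from
    (NatTrans.isIso_app_iff_of_iso _ e).1 this
  apply isIso_of_isIso_tildeD_map
  have h := (adjD R).left_triangle_components (Q.obj N)
  haveI : IsIso ((adjD R).counit.app ((DCoh.tildeD R).obj (Q.obj N))) := by
    let K := ((tilde.functor R).mapHomologicalComplex (ComplexShape.up ℤ)).obj N
    have e' : (DCoh.tildeD R).obj (Q.obj N) ≅ Q.obj K :=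
      (tilde.functor R).mapDerivedCategoryFactors.app N
    exact (NatTrans.isIso_app_iff_of_iso _ e').2
      (isIso_counit_Q R K (fun n => inferInstanceAs ((tilde.functor R).obj (N.X n)).IsQuasicoherent))
  haveI : IsIso ((DCoh.tildeD R).map ((adjD R).unit.app (Q.obj N)) ≫
      (adjD R).counit.app ((DCoh.tildeD R).obj (Q.obj N))) := by
    rw [h]
    exact IsIso.id _
  exact IsIso.of_isIso_comp_right _ ((adjD R).counit.app ((DCoh.tildeD R).obj (Q.obj N)))

instance : IsIso (adjD R).unit :=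
  haveI : ∀ M, IsIso ((adjD R).unit.app M) := isIso_unit_app R
  NatIso.isIso_of_isIso_app _

/-- `tildeD` has quasi-coherent cohomology sheaves. -/
lemma isQCohD_tildeD (M : DerivedCategory (ModuleCat.{u} R)) :
    DCoh.IsQCohD ((DCoh.tildeD R).obj M) := fun j =>
  Groth.Agent.LD.QC.qc_of_iso
    (Groth.Agent.H7.DRec.homologyMapDerivedIso (tilde.functor R) M j).symm
    (inferInstanceAs ((tilde.functor R).obj _).IsQuasicoherent)


omit [PreservesFiniteLimits (tilde.functor R)] in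
/-- if `Γ(X, I)` is exact in degree `0` then every class `O_X[0] ⟶ I` vanishes. -/
theorem hom_eq_zero_of_exactAt_Gam (I : CochainComplex (X₀ R).Modules ℤ) [I.IsKInjective]
    (hex : (((Gam R).mapHomologicalComplex (ComplexShape.up ℤ)).obj I).ExactAt 0)
    (y : Q.obj (S₀ (FOX (X₀ R) ⊤)) ⟶ Q.obj I) : y = 0 := by
  obtain ⟨ψ, rfl⟩ := exists_Q_map_eq_of_isKInjective (A := (X₀ R).Modules) _ I y
  obtain ⟨ζ, hζdef⟩ : ∃ ζ : FOX (X₀ R) ⊤ ⟶ I.X 0,
      ζ = (HomologicalComplex.singleObjXSelf (ComplexShape.up ℤ) 0 _).inv ≫ ψ.f 0 := ⟨_, rfl⟩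
  have hζ : ζ ≫ I.d 0 1 = 0 := by
    rw [hζdef]
    exact comp_d_eq_zero_of_hom (𝒞 := (X₀ R).Modules) ψ
  have hψ : fromMap (𝒞 := (X₀ R).Modules) ζ hζ = ψ := by
    subst hζdef
    exact fromMap_eq_self (𝒞 := (X₀ R).Modules) ψ hζ
  obtain ⟨t, htdef⟩ : ∃ t : Γ(I.X 0, (⊤ : (X₀ R).Opens)),
      t = hE (O := (X₀ R).sheaf) (⊤ : (X₀ R).Opens) (I.X 0) ζ := ⟨_, rfl⟩
  have ht : (I.d 0 1).app (⊤ : (X₀ R).Opens) t = 0 := by
    have h1 := hE_comp (O := (X₀ R).sheaf) (⊤ : (X₀ R).Opens) ζ (I.d 0 1)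
    have h1' : hE (O := (X₀ R).sheaf) (⊤ : (X₀ R).Opens) (I.X 1) (ζ ≫ I.d 0 1) = 0 :=
      (congrArg (hE (O := (X₀ R).sheaf) (⊤ : (X₀ R).Opens) (I.X 1)) hζ).trans
        (hE_zero (O := (X₀ R).sheaf) _ _)
    rw [htdef]
    exact h1.symm.trans h1'
  rw [HomologicalComplex.exactAt_iff' _ (-1) 0 1 (by simp) (by simp),
    ShortComplex.moduleCat_exact_iff] at hex
  obtain ⟨s, hs⟩ := hex t ht
  obtain ⟨η, hηdef⟩ : ∃ η : FOX (X₀ R) ⊤ ⟶ I.X (-1),
      η = (hE (O := (X₀ R).sheaf) (⊤ : (X₀ R).Opens) (I.X (-1))).symm s := ⟨_, rfl⟩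
  have h2 : ζ = η ≫ I.d (-1) 0 := by
    apply (hE (O := (X₀ R).sheaf) (⊤ : (X₀ R).Opens) (I.X 0)).injective
    have e2 := hE_comp (O := (X₀ R).sheaf) (⊤ : (X₀ R).Opens) η (I.d (-1) 0)
    have e3 : hE (O := (X₀ R).sheaf) (⊤ : (X₀ R).Opens) (I.X (-1)) η = s := by
      rw [hηdef]
      exact Equiv.apply_symm_apply _ _
    rw [e3] at e2
    rw [← htdef]
    exact hs.symm.trans e2.symm
  have h31 : ψ = fromMap (𝒞 := (X₀ R).Modules) (η ≫ I.d (-1) 0)
      (by rw [Category.assoc, I.d_comp_d, comp_zero]) := by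
    rw [← hψ]
    exact fromMap_congr (𝒞 := (X₀ R).Modules) h2 _ _
  rw [h31]
  exact Q_map_fromMap_boundary (𝒞 := (X₀ R).Modules) _ _

omit [PreservesFiniteLimits (tilde.functor R)] in
theorem isZero_homology_of_exactAt_Gam (I : CochainComplex (X₀ R).Modules ℤ) [I.IsKInjective]
    (hq : ∀ j : ℤ, Coh.IsQCoh ((homologyFunctor (X₀ R).Modules j).obj (Q.obj I))) (m : ℤ)
    (hex : (((Gam R).mapHomologicalComplex (ComplexShape.up ℤ)).obj I).ExactAt m) :
    IsZero ((homologyFunctor (X₀ R).Modules m).obj (Q.obj I)) := by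
  have hex' : (((Gam R).mapHomologicalComplex (ComplexShape.up ℤ)).obj (I⟦m⟧)).ExactAt 0 := by
    have e0 := ((Gam R).mapCochainComplexShiftIso m).app I
    have h1 : ((((Gam R).mapHomologicalComplex (ComplexShape.up ℤ)).obj I)⟦m⟧).ExactAt 0 :=
      (exactAt_shift_iff _ m 0 m (add_zero m)).2 hex
    rw [HomologicalComplex.exactAt_iff_isZero_homology] at h1 ⊢
    exact h1.of_iso ((HomologicalComplex.homologyFunctor _ _ 0).mapIso e0)
  let e' : (Q.obj I)⟦m⟧ ≅ Q.obj (I⟦m⟧) := ((Q.commShiftIso m).app I).symm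
  let eH : (homologyFunctor (X₀ R).Modules 0).obj ((Q.obj I)⟦m⟧) ≅
      (homologyFunctor (X₀ R).Modules m).obj (Q.obj I) :=
    ((homologyFunctor (X₀ R).Modules 0).shiftIso m 0 m (add_zero m)).app (Q.obj I)
  refine IsZero.of_iso ?_ eH.symm
  haveI : ((homologyFunctor (X₀ R).Modules 0).obj ((Q.obj I)⟦m⟧)).IsQuasicoherent :=
    Groth.Agent.LD.QC.qc_of_iso eH.symm (hq m)
  apply Groth.Agent.LD.QC.isZero_of_affine_cover
  intro x
  refine ⟨⊤, isAffineOpen_top (X₀ R), trivial, fun s => ?_⟩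
  let E' : DerivedCategory (ModSite.Mod (J := Opens.grothendieckTopology (X₀ R)) (X₀ R).sheaf) :=
    Q.obj I
  haveI : IsGrothendieckAbelian.{u}
      (ModSite.Mod (J := Opens.grothendieckTopology (X₀ R)) (X₀ R).sheaf) :=
    Groth.Agent.H1.sheafOfModules_isGrothendieckAbelian _ _
  haveI : HasProduct (CohCx.truncTower E') :=
    Groth.Agent.H2.DProd.hasProduct_of_isGE _ (fun n => ⟨-(n : ℤ), inferInstance⟩)
  have hL := Groth.Agent.H6.MDw.main1007 (X₀ R) E' hq
  have hvan : ∀ (q : ℤ) (k : ℕ), 0 < k → Subsingleton (ModSite.HU (X₀ R).sheaf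
      ((homologyFunctor (ModSite.Mod (J := Opens.grothendieckTopology (X₀ R)) (X₀ R).sheaf) q).obj
        E') k (⊤ : (X₀ R).Opens)) := by
    intro q k hk
    obtain ⟨p, rfl⟩ : ∃ p, k = p + 1 := ⟨k - 1, by omega⟩
    haveI : SheafOfModules.IsQuasicoherent (R := (X₀ R).ringCatSheaf)
      ((homologyFunctor (ModSite.Mod (J := Opens.grothendieckTopology (X₀ R)) (X₀ R).sheaf) q).obj
        E') := hq q
    exact Groth.Agent.LD.SC.subsingleton_ext_of_isAffineOpen (X := X₀ R) _ p ⊤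
      (isAffineOpen_top (X₀ R))
  obtain ⟨y, hy⟩ := beta_surjective_of_isRlimVia (O := (X₀ R).sheaf) E' hL
    (⊤ : (X₀ R).Opens) hvan m s
  have h0 : y ≫ e'.hom = 0 := hom_eq_zero_of_exactAt_Gam R (I⟦m⟧) hex' (y ≫ e'.hom)
  have h1 := MDw.beta_comp (O := (X₀ R).sheaf) (⊤ : (X₀ R).Opens) y e'.hom
  have h2 : ((τ (X₀ R).sheaf).map ((MDw.H0 (O := (X₀ R).sheaf)).map e'.hom)).hom.app
      (op (⊤ : (X₀ R).Opens)) s = 0 := by
    rw [h0, MDw.beta_zero, hy] at h1
    exact h1.symm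
  haveI : IsIso ((MDw.H0 (O := (X₀ R).sheaf)).map e'.hom) := inferInstance
  apply MDw.modHom_injective_of_isIso (O := (X₀ R).sheaf)
    ((MDw.H0 (O := (X₀ R).sheaf)).map e'.hom) (⊤ : (X₀ R).Opens)
  exact h2.trans (map_zero _).symm

omit [PreservesFiniteLimits (tilde.functor R)] in
/-- `RΓ` detects vanishing on `D_QCoh(Spec R)`. -/
theorem isZero_of_isZero_RG (C : DCoh.D (X₀ R)) (hC : DCoh.IsQCohD C)
    (h : IsZero ((RG R).obj C)) : IsZero C := by
  obtain ⟨I, hI, ⟨e⟩⟩ := exists_kinj C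
  haveI := hI
  have hq : ∀ j : ℤ, Coh.IsQCoh ((homologyFunctor (X₀ R).Modules j).obj (Q.obj I)) := fun j =>
    Groth.Agent.LD.QC.qc_of_iso ((homologyFunctor (X₀ R).Modules j).mapIso e) (hC j)
  have hz : ∀ m, IsZero ((homologyFunctor (X₀ R).Modules m).obj (Q.obj I)) := by
    intro m
    apply isZero_homology_of_exactAt_Gam R I hq m
    refine (isZero_homology_RF_iff (Gam R) I m).1 ?_
    apply Functor.map_isZero
    exact h.of_iso ((RF (Gam R)).mapIso e.symm)
  have hQI : IsZero (Q.obj I) := Groth.Agent.H7.DRec.isZero_of_forall_isZero_homology _ hz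
  exact hQI.of_iso e

/-- the counit `tildeD (RΓ K) ⟶ K` is an isomorphism for `K ∈ D_QCoh(Spec R)`. -/
theorem isIso_counit_of_isQCohD (K : DCoh.D (X₀ R)) (hK : DCoh.IsQCohD K) :
    IsIso ((adjD R).counit.app K) := by
  obtain ⟨C, g, h, hT⟩ := distinguished_cocone_triangle ((adjD R).counit.app K)
  haveI : WSerre.IsWeakSerre (fun M : (X₀ R).Modules => M.IsQuasicoherent) :=
    Groth.Agent.H6.QcVan.wserre_isQCoh (X₀ R)
  have hC : DCoh.IsQCohD C := fun i =>
    prop_homology_obj₃ (fun M : (X₀ R).Modules => M.IsQuasicoherent)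
      (Triangle.mk ((adjD R).counit.app K) g h) hT (isQCohD_tildeD R _) hK i
  have hRc : IsIso ((RG R).map ((adjD R).counit.app K)) := by
    have ht := (adjD R).right_triangle_components K
    haveI : IsIso ((adjD R).unit.app ((RG R).obj K)) := isIso_unit_app R _
    haveI : IsIso ((adjD R).unit.app ((RG R).obj K) ≫ (RG R).map ((adjD R).counit.app K)) := by
      rw [ht]
      exact IsIso.id _
    exact IsIso.of_isIso_comp_left ((adjD R).unit.app ((RG R).obj K)) _
  have hRC : IsZero ((RG R).obj C) :=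
    isZero_RF_obj₃_of_isIso (Gam R) (Triangle.mk ((adjD R).counit.app K) g h) hT hRc
  have hCz : IsZero C := isZero_of_isZero_RG R C hC hRC
  exact (Triangle.isZero₃_iff_isIso₁ (Triangle.mk ((adjD R).counit.app K) g h) hT).1 hCz

/-- **`D(R) ≃ D_QCoh(O_{Spec R})`**. -/
theorem s0997 : (DCoh.tildeD R).Full ∧ (DCoh.tildeD R).Faithful ∧
    ∀ K : DCoh.D (Spec (CommRingCat.of R)),
      DCoh.IsQCohD K ↔ ∃ M, Nonempty ((DCoh.tildeD R).obj M ≅ K) := by
  refine ⟨(adjD R).fullyFaithfulLOfIsIsoUnit.full, (adjD R).fullyFaithfulLOfIsIsoUnit.faithful,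
    fun K => ⟨fun hK => ?_, ?_⟩⟩
  · haveI := isIso_counit_of_isQCohD R K hK
    exact ⟨(RG R).obj K, ⟨asIso ((adjD R).counit.app K)⟩⟩
  · rintro ⟨M, ⟨e⟩⟩
    exact isQCohD_of_iso e (isQCohD_tildeD R M)

end Groth.Agent.Helper7.QB2
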