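import Groth.Agent.Lib.Helper7.LR1
import Groth.Agent.H4.LDS14
import Groth.Agent.H4.LDS15
import Groth.Agent.Lib.Helper6.RpRes1
import Groth.Prelude.Def_DDual2
import Groth.Prelude.Def_DCoh2

/-!
# `Lf^* ⊣ Rf_*` on the unbounded derived categories of modules on schemes, and `Rg_* Rf_* ≅ R(gf)_*`
-/

set_option autoImplicit false
universe u

open CategoryTheory CategoryTheory.Limits AlgebraicGeometry
attribute [local instance] HasDerivedCategory.standard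

namespace Groth.Agent.Helper7.LR2

open Groth.Agent.H4 Groth.Agent.H6

variable {X Y Z : Scheme.{u}}

/-- the derived adjunction `Lf^* ⊣ Rf_*`. -/
noncomputable def lpullRpushAdj (f : X ⟶ Y) [DCoh.HasLpull f] [DCoh.HasRpush f] :
    DCoh.Lpull f ⊣ DCoh.Rpush f :=
  LR1.derivedAdj (Scheme.Modules.pullbackPushforwardAdjunction f) LDS14.adm_skf
    LDS14.hasResCx_skf (fun E hE hac => LDS14.acyclic_pullback f E hE hac)
    (DCoh.Lpull f)
    ((DCoh.pullKh f).totalLeftDerivedCounit DerivedCategory.Qh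
      (HomotopyCategory.quasiIso Y.Modules (ComplexShape.up ℤ)))
    (DCoh.Rpush f)
    ((DCoh.pushKh f).totalRightDerivedUnit DerivedCategory.Qh
      (HomotopyCategory.quasiIso X.Modules (ComplexShape.up ℤ)))

/-- `Rg_* ∘ Rf_* ≅ R(g ∘ f)_*`. -/
theorem rpush_comp (f : X ⟶ Y) (g : Y ⟶ Z)
    [DCoh.HasRpush f] [DCoh.HasRpush g] [DCoh.HasRpush (f ≫ g)] :
    Nonempty (DCoh.Rpush f ⋙ DCoh.Rpush g ≅ DCoh.Rpush (f ≫ g)) := by
  haveI := LDS14.hasLpull f
  haveI := LDS14.hasLpull g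
  haveI := LDS14.hasLpull (f ≫ g)
  obtain ⟨e⟩ := LDS15.main f g
  let adj1 : DCoh.Lpull g ⋙ DCoh.Lpull f ⊣ DCoh.Rpush f ⋙ DCoh.Rpush g :=
    (lpullRpushAdj g).comp (lpullRpushAdj f)
  let adj2 : DCoh.Lpull g ⋙ DCoh.Lpull f ⊣ DCoh.Rpush (f ≫ g) :=
    (lpullRpushAdj (f ≫ g)).ofNatIsoLeft e.symm
  exact ⟨adj1.rightAdjointUniq adj2⟩

end Groth.Agent.Helper7.LR2
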