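import Mathlib
import Groth.Agent.H4.LDS3
import Groth.Agent.Lib.Helper6.KInjDS

/-!
# A criterion for a complex to be acyclic for a corepresentable functor `Φ ≅ Hom(T₀, -)`

If `Hom_K(T₀[-n], N) → Hom_D(T₀[-n], N)` is bijective for all `n`, then the unit
`Φ N → RΦ N` is an isomorphism.
-/

set_option autoImplicit false

namespace Groth.Agent.Helper7.LR10

open CategoryTheory Limits Pretriangulated DerivedCategory Groth.Agent.H6

universe w

variable {A : Type*} [Category A] [Abelian A] [HasDerivedCategory A]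

section G1

theorem postcomp_bijective {N J : CochainComplex A ℤ} (a : N ⟶ J) [QuasiIso a] [J.IsKInjective]
    (S : HomotopyCategory A (ComplexShape.up ℤ))
    (hS : Function.Bijective (Qh.map :
      (S ⟶ (HomotopyCategory.quotient A (ComplexShape.up ℤ)).obj N) → _)) :
    Function.Bijective (fun u : S ⟶ (HomotopyCategory.quotient A (ComplexShape.up ℤ)).obj N =>
      u ≫ (HomotopyCategory.quotient A (ComplexShape.up ℤ)).map a) := by
  haveI : IsIso (Qh.map ((HomotopyCategory.quotient A (ComplexShape.up ℤ)).map a)) :=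
    Localization.inverts Qh (HomotopyCategory.quasiIso A (ComplexShape.up ℤ)) _
      ((HomotopyCategory.quotient_map_mem_quasiIso_iff a).2 ‹QuasiIso a›)
  have hJ := CochainComplex.IsKInjective.Qh_map_bijective S J
  rw [← Function.Bijective.of_comp_iff' hJ]
  have hc : ((Qh.map : (S ⟶ (HomotopyCategory.quotient A (ComplexShape.up ℤ)).obj J) → _) ∘
      fun u : S ⟶ (HomotopyCategory.quotient A (ComplexShape.up ℤ)).obj N =>
        u ≫ (HomotopyCategory.quotient A (ComplexShape.up ℤ)).map a) =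
      (fun v => v ≫ Qh.map ((HomotopyCategory.quotient A (ComplexShape.up ℤ)).map a)) ∘
        (Qh.map : (S ⟶ (HomotopyCategory.quotient A (ComplexShape.up ℤ)).obj N) → _) := by
    funext u
    simp
  rw [hc]
  refine Function.Bijective.comp ?_ hS
  constructor
  · intro v w hvw
    exact (cancel_mono _).1 hvw
  · intro v
    exact ⟨v ≫ inv (Qh.map ((HomotopyCategory.quotient A (ComplexShape.up ℤ)).map a)), by simp⟩

end G1

section G2

theorem eq_zero_of_distTriang {C : Type*} [Category C] [Preadditive C] [HasZeroObject C]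
    [HasShift C ℤ] [∀ n : ℤ, (shiftFunctor C n).Additive] [Pretriangulated C]
    (T : Triangle C) (hT : T ∈ distTriang C)
    (S : ℤ → C) (θ : ∀ n, (S (n + 1))⟦(1 : ℤ)⟧ ≅ S n)
    (hS : ∀ n, Function.Bijective (fun u : S n ⟶ T.obj₁ => u ≫ T.mor₁))
    (n : ℤ) (g : S n ⟶ T.obj₃) : g = 0 := by
  have hu : g ≫ T.mor₃ = 0 := by
    obtain ⟨v, hv⟩ := (shiftFunctor C (1 : ℤ)).map_surjective ((θ n).hom ≫ g ≫ T.mor₃)
    have h2 : (shiftFunctor C (1 : ℤ)).map (v ≫ T.mor₁) = 0 := by
      rw [Functor.map_comp, hv, Category.assoc, Category.assoc,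
        comp_distTriang_mor_zero₃₁ _ hT, comp_zero, comp_zero]
    have h3 : v ≫ T.mor₁ = 0 :=
      (shiftFunctor C (1 : ℤ)).map_injective (by rw [h2, Functor.map_zero])
    have h4 : v = 0 := (hS (n + 1)).1 (by
      change v ≫ T.mor₁ = 0 ≫ T.mor₁
      rw [h3, zero_comp])
    rw [h4, Functor.map_zero] at hv
    exact (cancel_epi (θ n).hom).1 (by rw [← hv, comp_zero])
  obtain ⟨g', hg'⟩ := Triangle.coyoneda_exact₃ _ hT g hu
  obtain ⟨g'', hg''⟩ := (hS n).2 g'
  have hg3 : g'' ≫ T.mor₁ = g' := hg''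
  rw [hg', ← hg3, Category.assoc, comp_distTriang_mor_zero₁₂ _ hT, comp_zero]

theorem eq_zero_of_cone {N J : CochainComplex A ℤ} (a : N ⟶ J)
    (S : ℤ → HomotopyCategory A (ComplexShape.up ℤ))
    (θ : ∀ n, (S (n + 1))⟦(1 : ℤ)⟧ ≅ S n)
    (hS : ∀ n, Function.Bijective
      (fun u : S n ⟶ (HomotopyCategory.quotient A (ComplexShape.up ℤ)).obj N =>
        u ≫ (HomotopyCategory.quotient A (ComplexShape.up ℤ)).map a))
    (n : ℤ) (g : S n ⟶ (HomotopyCategory.quotient A (ComplexShape.up ℤ)).obj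
      (CochainComplex.mappingCone a)) : g = 0 :=
  eq_zero_of_distTriang (CochainComplex.mappingCone.triangleh a)
    (HomotopyCategory.mappingCone_triangleh_distinguished a) S θ hS n g

end G2

section G3

variable (Φ : A ⥤ AddCommGrpCat.{w}) [Φ.Additive] (T₀ : A)
  (ez : ∀ M : A, (T₀ ⟶ M) ≃ (Φ.obj M))
  (hez : ∀ {M M' : A} (ψ : T₀ ⟶ M) (g : M ⟶ M'), ez M' (ψ ≫ g) = (Φ.map g).hom (ez M ψ))

include hez in
lemma ez_zero (M : A) : ez M 0 = 0 := by
  have := hez (0 : T₀ ⟶ M) (0 : M ⟶ M)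
  rw [comp_zero, Φ.map_zero] at this
  rw [this]
  rfl

include hez in
theorem acyclic_of_forall_eq_zero (C : CochainComplex A ℤ)
    (hC : ∀ (n : ℤ) (φ : (HomologicalComplex.single A (ComplexShape.up ℤ) n).obj T₀ ⟶ C),
      (HomotopyCategory.quotient A (ComplexShape.up ℤ)).map φ = 0) :
    ((Φ.mapHomologicalComplex (ComplexShape.up ℤ)).obj C).Acyclic := by
  intro n
  rw [HomologicalComplex.exactAt_iff' _ (n - 1) n (n + 1) (by simp) (by simp),
    ShortComplex.ab_exact_iff]
  intro x hx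
  change (Φ.map (C.d n (n + 1))).hom x = 0 at hx
  let ψ : T₀ ⟶ C.X n := (ez (C.X n)).symm x
  have hψx : ez (C.X n) ψ = x := (ez (C.X n)).apply_symm_apply x
  have hψ : ψ ≫ C.d n (n + 1) = 0 := by
    apply (ez _).injective
    rw [hez, hψx, hx, ez_zero Φ T₀ ez hez]
  let φ : (HomologicalComplex.single A (ComplexShape.up ℤ) n).obj T₀ ⟶ C :=
    HomologicalComplex.mkHomFromSingle ψ (fun k hk => by
      obtain rfl : n + 1 = k := hk
      exact hψ)
  have H : Homotopy φ 0 := HomotopyCategory.homotopyOfEq _ _ (by rw [hC n φ, Functor.map_zero])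
  have e0 := H.comm n
  rw [dNext_eq H.hom (show (ComplexShape.up ℤ).Rel n (n + 1) by simp),
    prevD_eq H.hom (show (ComplexShape.up ℤ).Rel (n - 1) n by simp),
    HomologicalComplex.single_obj_d, zero_comp, zero_add, HomologicalComplex.zero_f, add_zero,
    HomologicalComplex.mkHomFromSingle_f] at e0
  let g₀ : T₀ ⟶ C.X (n - 1) :=
    (HomologicalComplex.singleObjXSelf (ComplexShape.up ℤ) n T₀).inv ≫ H.hom n (n - 1)
  have e1 : ψ = g₀ ≫ C.d (n - 1) n := by
    simp only [g₀, Category.assoc, ← e0, Iso.inv_hom_id_assoc]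
  refine ⟨ez _ g₀, ?_⟩
  change (Φ.map (C.d (n - 1) n)).hom (ez _ g₀) = x
  rw [← hez, ← e1, hψx]

end G3

section Main

variable [KInjDS.HasKInjRes A] [HasDerivedCategory AddCommGrpCat.{w}]
  (Φ : A ⥤ AddCommGrpCat.{w}) [Φ.Additive] (T₀ : A)
  (ez : ∀ M : A, (T₀ ⟶ M) ≃ (Φ.obj M))
  (hez : ∀ {M M' : A} (ψ : T₀ ⟶ M) (g : M ⟶ M'), ez M' (ψ ≫ g) = (Φ.map g).hom (ez M ψ))
  (RΦ : DerivedCategory A ⥤ DerivedCategory AddCommGrpCat.{w})
  (η : Φ.mapHomotopyCategory (ComplexShape.up ℤ) ⋙ Qh ⟶ Qh ⋙ RΦ)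
  [RΦ.IsRightDerivedFunctor η (HomotopyCategory.quasiIso A (ComplexShape.up ℤ))]

include ez hez in
/-- if morphisms from the shifted corepresenting object to `N` are computed in the homotopy
category, then `N` is acyclic for `Φ`: the unit `Φ(N) ⟶ RΦ(N)` is an isomorphism. -/
theorem isIso_unit_app (N : CochainComplex A ℤ)
    (hN : ∀ n : ℤ, Function.Bijective (Qh.map :
      ((HomotopyCategory.quotient A (ComplexShape.up ℤ)).obj
        ((HomologicalComplex.single A (ComplexShape.up ℤ) n).obj T₀) ⟶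
        (HomotopyCategory.quotient A (ComplexShape.up ℤ)).obj N) → _)) :
    IsIso (η.app ((HomotopyCategory.quotient A (ComplexShape.up ℤ)).obj N)) := by
  obtain ⟨J, a, hJ, ha⟩ := KInjDS.HasKInjRes.exists_res N
  haveI := hJ
  haveI := ha
  have hS := fun n => postcomp_bijective a _ (hN n)
  have hz := eq_zero_of_cone a
    (fun n => (HomotopyCategory.singleFunctor A n).obj T₀)
    (fun n => ((HomotopyCategory.singleFunctors A).shiftIso 1 n (n + 1) (by omega)).app T₀) hS
  have hac := acyclic_of_forall_eq_zero Φ T₀ ez hez (CochainComplex.mappingCone a)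
    (fun n φ => hz n _)
  -- the image of the triangle
  have hT := HomotopyCategory.mappingCone_triangleh_distinguished a
  have hT' := (Φ.mapHomotopyCategory (ComplexShape.up ℤ) ⋙ Qh).map_distinguished _ hT
  have hzero : IsZero ((Φ.mapHomotopyCategory (ComplexShape.up ℤ) ⋙ Qh).obj
      ((HomotopyCategory.quotient A (ComplexShape.up ℤ)).obj (CochainComplex.mappingCone a))) := by
    refine IsZero.of_iso (Groth.Agent.H4.LDS3.isZero_Q_obj_of_acyclic _ hac)
      (Qh.mapIso ((Φ.mapHomotopyCategoryFactors (ComplexShape.up ℤ)).app _) ≪≫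
        (quotientCompQhIso _).app _)
  haveI h1 : IsIso ((Φ.mapHomotopyCategory (ComplexShape.up ℤ) ⋙ Qh).map
      ((HomotopyCategory.quotient A (ComplexShape.up ℤ)).map a)) :=
    (Triangle.isZero₃_iff_isIso₁ _ hT').1 hzero
  haveI h2 : IsIso (η.app ((HomotopyCategory.quotient A (ComplexShape.up ℤ)).obj J)) :=
    KInjDS.isIso_app_of_isKInjective _ Qh η J
  haveI h3 : IsIso (Qh.map ((HomotopyCategory.quotient A (ComplexShape.up ℤ)).map a)) :=
    Localization.inverts Qh (HomotopyCategory.quasiIso A (ComplexShape.up ℤ)) _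
      ((HomotopyCategory.quotient_map_mem_quasiIso_iff a).2 ‹QuasiIso a›)
  have hnat := η.naturality ((HomotopyCategory.quotient A (ComplexShape.up ℤ)).map a)
  have h4 : IsIso (η.app ((HomotopyCategory.quotient A (ComplexShape.up ℤ)).obj N) ≫
      (Qh ⋙ RΦ).map ((HomotopyCategory.quotient A (ComplexShape.up ℤ)).map a)) := by
    rw [← hnat]
    infer_instance
  haveI : IsIso ((Qh ⋙ RΦ).map ((HomotopyCategory.quotient A (ComplexShape.up ℤ)).map a)) := by
    change IsIso (RΦ.map (Qh.map _))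
    infer_instance
  exact IsIso.of_isIso_comp_right _
    ((Qh ⋙ RΦ).map ((HomotopyCategory.quotient A (ComplexShape.up ℤ)).map a))

end Main

end Groth.Agent.Helper7.LR10
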