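import Groth.Agent.Lib.Helper7.LR9
import Groth.Agent.Lib.Helper7.LR10

/-!
# `RΓ(Y, Rf_* E) ≅ RΓ(X, E)`
-/

set_option autoImplicit false
universe u

open CategoryTheory CategoryTheory.Limits AlgebraicGeometry
attribute [local instance] HasDerivedCategory.standard

namespace Groth.Agent.Helper7.LR11

open Groth.Agent.H4 Groth.Agent.H6 DerivedCategory

section Comp

variable {A B : Type*} [Category A] [Category B] [Abelian A] [Abelian B]
  [HasDerivedCategory A] [HasDerivedCategory B] [KInjDS.HasKInjRes A] [KInjDS.HasKInjRes B]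
  (G : B ⥤ A) [G.Additive]
  (RG : DerivedCategory B ⥤ DerivedCategory A)
  (β : G.mapHomotopyCategory (ComplexShape.up ℤ) ⋙ Qh ⟶ Qh ⋙ RG)
  [RG.IsRightDerivedFunctor β (HomotopyCategory.quasiIso B (ComplexShape.up ℤ))]
  {H : Type*} [Category H] (F' : HomotopyCategory A (ComplexShape.up ℤ) ⥤ H)
  (RF : DerivedCategory A ⥤ H) (η : F' ⟶ Qh ⋙ RF)
  [RF.IsRightDerivedFunctor η (HomotopyCategory.quasiIso A (ComplexShape.up ℤ))]

/-- the unit of the composition of derived functors -/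
noncomputable def compUnit :
    G.mapHomotopyCategory (ComplexShape.up ℤ) ⋙ F' ⟶ Qh ⋙ RG ⋙ RF :=
  Functor.whiskerLeft (G.mapHomotopyCategory (ComplexShape.up ℤ)) η ≫
    (Functor.associator _ _ _).inv ≫ Functor.whiskerRight β RF ≫ (Functor.associator _ _ _).hom

theorem isRightDerivedFunctor_comp
    (hG : ∀ I : CochainComplex B ℤ, I.IsKInjective →
      IsIso (η.app ((G.mapHomotopyCategory (ComplexShape.up ℤ)).obj
        ((HomotopyCategory.quotient B (ComplexShape.up ℤ)).obj I)))) :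
    (RG ⋙ RF).IsRightDerivedFunctor (compUnit G RG β F' RF η)
      (HomotopyCategory.quasiIso B (ComplexShape.up ℤ)) := by
  refine KInjDS.isRightDerivedFunctor_of_isIso _ Qh _ (fun I hI => ?_)
  haveI := hI
  haveI := hG I hI
  haveI := KInjDS.isIso_app_of_isKInjective (G.mapHomotopyCategory (ComplexShape.up ℤ) ⋙ Qh)
    Qh β I
  simp only [compUnit, NatTrans.comp_app, Functor.whiskerLeft_app, Functor.associator_inv_app,
    Functor.whiskerRight_app, Functor.associator_hom_app, Category.comp_id, Category.id_comp]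
  infer_instance

end Comp

variable {X Y : Scheme.{u}}

theorem isIso_unit_gamma_push (f : X ⟶ Y) [DCoh.HasRΓ Y] (I : CochainComplex X.Modules ℤ)
    [I.IsKInjective] :
    IsIso (((DCoh.gammaKh Y).totalRightDerivedUnit Qh
      (HomotopyCategory.quasiIso Y.Modules (ComplexShape.up ℤ))).app
        (((Scheme.Modules.pushforward f).mapHomotopyCategory (ComplexShape.up ℤ)).obj
          ((HomotopyCategory.quotient X.Modules (ComplexShape.up ℤ)).obj I))) := by
  exact LR10.isIso_unit_app (DCoh.gammaAb Y) (LR9.TT Y)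
    (fun M => Groth.Agent.LD.FQ.ezEquiv (⊤ : Y.Opens) M)
    (fun ψ g => Groth.Agent.LD.FQ.ezEquiv_comp (⊤ : Y.Opens) ψ g)
    (DCoh.RΓ Y) _
    (((Scheme.Modules.pushforward f).mapHomologicalComplex (ComplexShape.up ℤ)).obj I)
    (fun n => LR9.qh_map_bijective f n I)

/-- `Γ(Y, f_* -) = Γ(X, -)` -/
noncomputable def gammaPushIso (f : X ⟶ Y) :
    Scheme.Modules.pushforward f ⋙ DCoh.gammaAb Y ≅ DCoh.gammaAb X :=
  NatIso.ofComponents (fun M => Iso.refl _) (fun g => by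
    simp only [Iso.refl_hom, Category.comp_id, Category.id_comp]
    rfl)

theorem rpush_rgamma (f : X ⟶ Y) [DCoh.HasRpush f] [DCoh.HasRΓ X] [DCoh.HasRΓ Y] :
    Nonempty (DCoh.Rpush f ⋙ DCoh.RΓ Y ≅ DCoh.RΓ X) := by
  haveI := isRightDerivedFunctor_comp (Scheme.Modules.pushforward f) (DCoh.Rpush f)
    ((DCoh.pushKh f).totalRightDerivedUnit Qh
      (HomotopyCategory.quasiIso X.Modules (ComplexShape.up ℤ)))
    (DCoh.gammaKh Y) (DCoh.RΓ Y)
    ((DCoh.gammaKh Y).totalRightDerivedUnit Qh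
      (HomotopyCategory.quasiIso Y.Modules (ComplexShape.up ℤ)))
    (fun I hI => by
      haveI := hI
      exact isIso_unit_gamma_push f I)
  let e : (Scheme.Modules.pushforward f).mapHomotopyCategory (ComplexShape.up ℤ) ⋙
      DCoh.gammaKh Y ≅ DCoh.gammaKh X :=
    (Functor.associator _ _ _).symm ≪≫
      Functor.isoWhiskerRight (Functor.mapHomotopyCategoryCompIso (gammaPushIso f) _) Qh
  exact ⟨Functor.rightDerivedNatIso (DCoh.Rpush f ⋙ DCoh.RΓ Y) (DCoh.RΓ X)
    (compUnit (Scheme.Modules.pushforward f) (DCoh.Rpush f)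
      ((DCoh.pushKh f).totalRightDerivedUnit Qh
        (HomotopyCategory.quasiIso X.Modules (ComplexShape.up ℤ)))
      (DCoh.gammaKh Y) (DCoh.RΓ Y)
      ((DCoh.gammaKh Y).totalRightDerivedUnit Qh
        (HomotopyCategory.quasiIso Y.Modules (ComplexShape.up ℤ))))
    ((DCoh.gammaKh X).totalRightDerivedUnit Qh
      (HomotopyCategory.quasiIso X.Modules (ComplexShape.up ℤ)))
    (HomotopyCategory.quasiIso X.Modules (ComplexShape.up ℤ)) e⟩

end Groth.Agent.Helper7.LR11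

namespace Groth.Agent.Helper7.LR11

open Groth.Agent.H4 Groth.Agent.H6 DerivedCategory

variable {X Y : Scheme.{u}}

/-- **S6509** -/
theorem s6509 (f : X ⟶ Y) (V : Y.Opens)
    [DCoh.HasRpush f] [DCoh.HasRΓ X] [DCoh.HasRΓ Y]
    [DCoh.HasRΓ (V : Scheme.{u})] [DCoh.HasRΓ (f ⁻¹ᵁ V : Scheme.{u})]
    [PreservesFiniteLimits (Scheme.Modules.restrictFunctor V.ι)]
    [PreservesFiniteLimits (Scheme.Modules.restrictFunctor (f ⁻¹ᵁ V).ι)] :
    Nonempty (DCoh.Rpush f ⋙ DCoh.RΓ Y ≅ DCoh.RΓ X) ∧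
    Nonempty (DCoh.restrictD (f ⁻¹ᵁ V).ι ⋙ DCoh.RΓ (f ⁻¹ᵁ V : Scheme.{u}) ≅
      DCoh.Rpush f ⋙ DCoh.restrictD V.ι ⋙ DCoh.RΓ (V : Scheme.{u})) := by
  refine ⟨rpush_rgamma f, ?_⟩
  haveI : DCoh.HasRpush (f ∣_ V) := LR4.hasRpush _
  obtain ⟨e1⟩ := RpRes.main f V
  obtain ⟨e2⟩ := rpush_rgamma (f ∣_ V)
  exact ⟨(Functor.isoWhiskerLeft (DCoh.restrictD (f ⁻¹ᵁ V).ι) e2).symm ≪≫
    (Functor.associator _ _ _).symm ≪≫ (Functor.isoWhiskerRight e1 (DCoh.RΓ (V : Scheme.{u}))).symm ≪≫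
    Functor.associator _ _ _⟩

end Groth.Agent.Helper7.LR11
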