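import Mathlib
import Groth.Prelude.Def_DCoh4
import Groth.Agent.Lib.Helper7.QB2
import Groth.Agent.H4.LDS22
import Groth.Agent.H4.LDS17
import Groth.Agent.H4.KProj5
import Groth.Agent.Lib.Helper5.AG.TildeExact

/-! # `Lf^*` preserves `D_QCoh` -/

set_option autoImplicit false
universe u
open CategoryTheory Limits Opposite Pretriangulated AlgebraicGeometry TopologicalSpace

namespace Groth.Agent.Helper7.QB3

open DerivedCategory Groth.Agent.Helper7.QB1 Groth.Agent.Helper7.QB2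
open Groth.Agent.H4.LDS14 Groth.Agent.H4.LDS17 Groth.Agent.H4.PSch2 Groth.Agent.LD.QC

attribute [local instance] HasDerivedCategory.standard

/-- restriction to an open preserves `D_QCoh`. -/
lemma isQCohD_RD {U X : Scheme.{u}} (j : U ⟶ X) [IsOpenImmersion j] (K : DCoh.D X)
    (hK : DCoh.IsQCohD K) : DCoh.IsQCohD ((RD j).obj K) := fun m => by
  haveI : (DCoh.HD K m).IsQuasicoherent := hK m
  exact qc_of_iso
    (Groth.Agent.H7.DRec.homologyMapDerivedIso (Scheme.Modules.restrictFunctor j) K m).symm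
    (inferInstanceAs ((Scheme.Modules.restrictFunctor j).obj (DCoh.HD K m)).IsQuasicoherent)

/-- the affine case: `Lf^*` of an object of `D_QCoh(Spec A)` along `Spec B ⟶ Spec A`. -/
lemma isQCohD_lpull_spec {A B : Type u} [CommRing A] [CommRing B] (φ : A →+* B)
    [DCoh.HasLpull (Spec.map (CommRingCat.ofHom φ))]
    (K : DCoh.D (Spec (CommRingCat.of A))) (hK : DCoh.IsQCohD K) :
    DCoh.IsQCohD ((DCoh.Lpull (Spec.map (CommRingCat.ofHom φ))).obj K) := by
  haveI : PreservesFiniteLimits (tilde.functor (CommRingCat.of A)) :=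
    Groth.Agent.H5.AG.tilde_preservesFiniteLimits _
  haveI : PreservesFiniteLimits (tilde.functor (CommRingCat.of B)) :=
    Groth.Agent.H5.AG.tilde_preservesFiniteLimits _
  haveI : DRing.HasLBaseChange φ := Groth.Agent.H4.KProj.hasLBaseChange φ
  obtain ⟨M, ⟨eM⟩⟩ := ((s0997 (CommRingCat.of A)).2.2 K).1 hK
  obtain ⟨e⟩ := Groth.Agent.H4.LDS22.S1055 φ
  have e3 : (DCoh.tildeD (CommRingCat.of B)).obj ((DRing.LBaseChange φ).obj M) ≅
      (DCoh.Lpull (Spec.map (CommRingCat.ofHom φ))).obj K :=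
    e.app M ≪≫ (DCoh.Lpull (Spec.map (CommRingCat.ofHom φ))).mapIso eM
  exact isQCohD_of_iso e3 (isQCohD_tildeD (CommRingCat.of B) _)

theorem s1054 {Y X : Scheme.{u}} (f : Y ⟶ X) [DCoh.HasLpull f] (K : DCoh.D X)
    (hK : DCoh.IsQCohD K) : DCoh.IsQCohD ((DCoh.Lpull f).obj K) := by
  intro n
  have key : ∀ y : Y, ∃ (U : X.Opens) (W : Y.Opens), IsAffineOpen U ∧ IsAffineOpen W ∧ y ∈ W ∧
      W ≤ f ⁻¹ᵁ U := by
    intro y
    obtain ⟨U, hU, hyU, -⟩ :=
      exists_isAffineOpen_mem_and_subset (x := f.base y) (U := (⊤ : X.Opens)) trivial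
    obtain ⟨W, hW, hyW, hWU⟩ :=
      exists_isAffineOpen_mem_and_subset (x := y) (U := f ⁻¹ᵁ U) hyU
    exact ⟨U, W, hU, hW, hyW, hWU⟩
  choose U W hU hW hyW hWU using key
  let 𝒰 : Scheme.OpenCover.{u} Y :=
    Scheme.Cover.mkOfCovers Y (fun y => Spec Γ(Y, W y)) (fun y => (hW y).fromSpec)
      (fun y => by
        have hy : y ∈ Set.range (hW y).fromSpec := by
          rw [(hW y).range_fromSpec]
          exact hyW y
        obtain ⟨y', hy'⟩ := hy
        exact ⟨y, y', hy'⟩)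
  apply qc_of_openCover _ 𝒰
  intro y
  change ((DCoh.HD ((DCoh.Lpull f).obj K) n).restrict (hW y).fromSpec).IsQuasicoherent
  let φ : Γ(X, U y) →+* Γ(Y, W y) := (f.appLE (U y) (W y) (hWU y)).hom
  have sq : (hW y).fromSpec ≫ f = Spec.map (CommRingCat.ofHom φ) ≫ (hU y).fromSpec :=
    (IsAffineOpen.SpecMap_appLE_fromSpec f (hU y) (hW y) (hWU y)).symm
  haveI : DCoh.HasLpull (Spec.map (CommRingCat.ofHom φ)) := hasLpull _
  have e2 := (lpullRestrictIso f (hW y).fromSpec (hU y).fromSpec (Spec.map (CommRingCat.ofHom φ))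
    sq).app K
  have hKU := isQCohD_RD (hU y).fromSpec K hK
  have h3 := isQCohD_lpull_spec φ ((RD (hU y).fromSpec).obj K) hKU
  have h4 : DCoh.IsQCohD ((RD (hW y).fromSpec).obj ((DCoh.Lpull f).obj K)) :=
    isQCohD_of_iso e2.symm h3
  exact qc_of_iso
    (Groth.Agent.H7.DRec.homologyMapDerivedIso (Scheme.Modules.restrictFunctor (hW y).fromSpec)
      ((DCoh.Lpull f).obj K) n) (h4 n)

end Groth.Agent.Helper7.QB3
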