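import Groth.Agent.Lib.Helper7.QFin16
import Mathlib

/-!
# Quasi-finite over a point without generizations ⇒ finite over an étale neighbourhood
-/

set_option autoImplicit false
universe u

open AlgebraicGeometry CategoryTheory Limits

namespace Groth.Agent.H7.QFin

/-- A point of an affine scheme without proper generizations, missed by a quasi-compact morphism,
has an open neighbourhood missed by the morphism. -/
theorem exists_open_disjoint_range_affine {B V : Scheme.{u}} [IsAffine V] (g : B ⟶ V)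
    [QuasiCompact g] (v : V) (hv : ∀ z : V, z ⤳ v → z = v) (hvg : v ∉ Set.range g) :
    ∃ U : V.Opens, v ∈ U ∧ ∀ b : B, g b ∉ U := by
  haveI : CompactSpace B := QuasiCompact.compactSpace_of_compactSpace g
  obtain ⟨R, f, hf⟩ := compactSpace_iff_exists.1 (inferInstance : CompactSpace B)
  let g₁ : Spec R ⟶ Spec Γ(V, ⊤) := f ≫ g ≫ V.isoSpec.hom
  obtain ⟨φ, hφ⟩ : ∃ φ : Γ(V, ⊤) ⟶ R, Spec.map φ = g₁ := ⟨Spec.preimage g₁, Spec.map_preimage g₁⟩
  let p : PrimeSpectrum Γ(V, ⊤) := V.isoSpec.hom v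
  have hinv' : ∀ z : V, V.isoSpec.inv (V.isoSpec.hom z) = z := by
    intro z
    rw [← Scheme.Hom.comp_apply, Iso.hom_inv_id]
    rfl
  have hinv : V.isoSpec.inv p = v := hinv' v
  have hp : ∀ q : PrimeSpectrum Γ(V, ⊤), q ⤳ p → q = p := by
    intro q hq
    have h1 : V.isoSpec.inv q ⤳ V.isoSpec.inv p := hq.map V.isoSpec.inv.continuous
    rw [hinv] at h1
    have h2 := hv _ h1
    have h3 : V.isoSpec.hom (V.isoSpec.inv q) = q := by
      rw [← Scheme.Hom.comp_apply, Iso.inv_hom_id]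
      rfl
    rw [← h3, h2]
  have hg₁ : ∀ r : Spec R, g₁ r = PrimeSpectrum.comap φ.hom r := by
    intro r
    rw [← hφ]
    rfl
  by_cases hker : RingHom.ker φ.hom ≤ p.asIdeal
  · exfalso
    have hmin : p.asIdeal ∈ (Ideal.comap φ.hom ⊥).minimalPrimes := by
      refine ⟨⟨p.isPrime, hker⟩, ?_⟩
      rintro q ⟨hq, -⟩ hqp
      have : (⟨q, hq⟩ : PrimeSpectrum Γ(V, ⊤)) = p :=
        hp _ ((PrimeSpectrum.le_iff_specializes _ _).1 hqp)
      rw [← this]
    obtain ⟨p', hp', -, hpp'⟩ := Ideal.exists_comap_eq_of_mem_minimalPrimes φ.hom p.asIdeal hmin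
    apply hvg
    refine ⟨f ⟨p', hp'⟩, ?_⟩
    have h1 : g₁ ⟨p', hp'⟩ = p := by
      rw [hg₁]
      exact PrimeSpectrum.ext hpp'
    have h2 : V.isoSpec.hom (g (f ⟨p', hp'⟩)) = V.isoSpec.hom v := h1
    have := congrArg V.isoSpec.inv h2
    rwa [hinv', hinv'] at this
  · obtain ⟨s, hsker, hsp⟩ := SetLike.not_le_iff_exists.1 hker
    refine ⟨V.isoSpec.hom ⁻¹ᵁ PrimeSpectrum.basicOpen s, hsp, ?_⟩
    intro b hb
    obtain ⟨r, rfl⟩ := hf b
    have h1 : g₁ r ∈ PrimeSpectrum.basicOpen s := hb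
    rw [hg₁] at h1
    apply h1
    change φ.hom s ∈ r.asIdeal
    rw [(RingHom.mem_ker).1 hsker]
    exact r.asIdeal.zero_mem

/-- A point of a scheme without proper generizations, missed by a quasi-compact morphism, has an
open neighbourhood missed by the morphism. -/
theorem exists_open_disjoint_range {B V : Scheme.{u}} (g : B ⟶ V) [QuasiCompact g] (v : V)
    (hv : ∀ z : V, z ⤳ v → z = v) (hvg : v ∉ Set.range g) :
    ∃ U : V.Opens, v ∈ U ∧ ∀ b : B, g b ∉ U := by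
  obtain ⟨_, ⟨U₀ : V.Opens, hU₀, rfl⟩, hvU₀, -⟩ :=
    V.isBasis_affineOpens.exists_subset_of_mem_open (Set.mem_univ v) isOpen_univ
  haveI : IsAffine U₀.toScheme := hU₀
  have hv' : ∀ z : U₀.toScheme, z ⤳ (⟨v, hvU₀⟩ : U₀.toScheme) → z = ⟨v, hvU₀⟩ := by
    intro z hz
    have h1 : U₀.ι z ⤳ U₀.ι ⟨v, hvU₀⟩ := hz.map U₀.ι.continuous
    exact U₀.ι.isOpenEmbedding.injective (hv _ h1)
  have hvg' : (⟨v, hvU₀⟩ : U₀.toScheme) ∉ Set.range (g ∣_ U₀) := by
    rintro ⟨b, hb⟩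
    apply hvg
    refine ⟨(g ⁻¹ᵁ U₀).ι b, ?_⟩
    have h1 : U₀.ι ((g ∣_ U₀) b) = U₀.ι ⟨v, hvU₀⟩ := by rw [hb]
    rw [← Scheme.Hom.comp_apply, morphismRestrict_ι, Scheme.Hom.comp_apply] at h1
    exact h1
  obtain ⟨U', hvU', hU'⟩ := exists_open_disjoint_range_affine (g ∣_ U₀) ⟨v, hvU₀⟩ hv' hvg'
  refine ⟨U₀.ι ''ᵁ U', ⟨⟨v, hvU₀⟩, hvU', rfl⟩, ?_⟩
  rintro b ⟨z, hzU', hz⟩
  have hz' : U₀.ι z = g b := hz
  have hbU₀ : b ∈ g ⁻¹ᵁ U₀ := by
    change g b ∈ U₀
    rw [← hz']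
    exact z.2
  apply hU' ⟨b, hbU₀⟩
  have h1 : U₀.ι ((g ∣_ U₀) ⟨b, hbU₀⟩) = U₀.ι z := by
    rw [← Scheme.Hom.comp_apply, morphismRestrict_ι, Scheme.Hom.comp_apply, hz']
    rfl
  rw [U₀.ι.isOpenEmbedding.injective h1]
  exact hzU'

/-- Points without proper generizations lift along locally quasi-finite morphisms. -/
theorem no_generization_of_lqf {V' V : Scheme.{u}} (j : V' ⟶ V) [LocallyQuasiFinite j] (v' : V')
    (hv : ∀ z : V, z ⤳ j v' → z = j v') : ∀ z : V', z ⤳ v' → z = v' := by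
  intro z hz
  have h1 : j z = j v' := hv _ (hz.map j.continuous)
  exact (j.isDiscrete_preimage_singleton (j v')).eq_of_specializes hz h1 rfl

theorem exists_preimage_of_isPullback' {P X Y Z : Scheme.{u}} {fst : P ⟶ X} {snd : P ⟶ Y}
    {f : X ⟶ Z} {g : Y ⟶ Z} (sq : IsPullback fst snd f g) (x : X) (y : Y) (h : f x = g y) :
    ∃ p : P, fst p = x ∧ snd p = y := by
  obtain ⟨p, hp1, hp2⟩ := Scheme.Pullback.exists_preimage_pullback (f := f) (g := g) x y h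
  refine ⟨sq.isoPullback.inv p, ?_, ?_⟩
  · rw [← Scheme.Hom.comp_apply, sq.isoPullback_inv_fst, hp1]
  · rw [← Scheme.Hom.comp_apply, sq.isoPullback_inv_snd, hp2]

/-- If an open `A` of `P`, finite over `V'`, contains the preimage of the image of `i : V'' ⟶ V'`,
then the base change of `P ⟶ V'` along `i` is finite. -/
theorem isFinite_pullback_snd_of_open_finite {P V' V'' : Scheme.{u}} (snd : P ⟶ V') (A : P.Opens)
    [IsFinite (A.ι ≫ snd)] (i : V'' ⟶ V') (hA : ∀ ζ : P, snd ζ ∈ Set.range i → ζ ∈ A) :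
    IsFinite (pullback.snd snd i) := by
  let m : pullback (A.ι ≫ snd) i ⟶ pullback snd i :=
    pullback.lift (pullback.fst _ _ ≫ A.ι) (pullback.snd _ _)
      (by rw [Category.assoc, pullback.condition])
  have hm1 : m ≫ pullback.fst snd i = pullback.fst _ _ ≫ A.ι := pullback.lift_fst _ _ _
  have hm2 : m ≫ pullback.snd snd i = pullback.snd _ _ := pullback.lift_snd _ _ _
  have big : IsPullback (pullback.fst (A.ι ≫ snd) i) (m ≫ pullback.snd snd i) (A.ι ≫ snd) i := by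
    rw [hm2]
    exact IsPullback.of_hasPullback _ _
  have sqm : IsPullback (pullback.fst (A.ι ≫ snd) i) m A.ι (pullback.fst snd i) :=
    IsPullback.of_bot big hm1.symm (IsPullback.of_hasPullback snd i)
  haveI : IsOpenImmersion m :=
    MorphismProperty.of_isPullback (P := @IsOpenImmersion) sqm inferInstance
  haveI : Surjective m := by
    refine ⟨fun ξ => ?_⟩
    have h1 : snd (pullback.fst snd i ξ) = i (pullback.snd snd i ξ) := by
      rw [← Scheme.Hom.comp_apply, pullback.condition, Scheme.Hom.comp_apply]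
    have h2 : pullback.fst snd i ξ ∈ A := hA _ ⟨_, h1.symm⟩
    obtain ⟨ζ, -, hζ2⟩ := exists_preimage_of_isPullback' sqm
      (⟨pullback.fst snd i ξ, h2⟩ : A.toScheme) ξ rfl
    exact ⟨ζ, hζ2⟩
  haveI : IsIso m := (isIso_iff_isOpenImmersion_and_surjective m).2 ⟨inferInstance, inferInstance⟩
  have : pullback.snd snd i = inv m ≫ pullback.snd (A.ι ≫ snd) i := by
    rw [IsIso.eq_inv_comp, hm2]
  rw [this]
  infer_instance

/-- **Étale localization, whole fibre inside the quasi-finite locus**: if all points of the fibre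
of `h` over `v` lie in an open `Q` on which `h` is locally quasi-finite, then after an étale base
change an open, finite over the base, contains the whole fibre over the marked point. -/
theorem exists_split_whole_fibre {W V : Scheme.{u}} (h : W ⟶ V) [IsAffine V] [IsSeparated h]
    [LocallyOfFiniteType h] [QuasiCompact h] (v : V) (Q : W.Opens)
    [LocallyQuasiFinite (Q.ι ≫ h)] (hQ : ∀ w, h w = v → w ∈ Q) :
    ∃ (V' : Scheme.{u}) (j : V' ⟶ V) (v' : V'), Etale j ∧ j v' = v ∧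
      ∃ A : (pullback h j).Opens, IsFinite (A.ι ≫ pullback.snd h j) ∧
        ∀ ζ : ↥(pullback h j), pullback.snd h j ζ = v' → ζ ∈ A := by
  have hF : {w : W | w ∈ Q ∧ h w = v}.Finite := finite_fibre_inter_open h Q v
  have key : ∀ w : {w : W | w ∈ Q ∧ h w = v}, ∃ A : W.Opens, IsAffineOpen A ∧ (w : W) ∈ A ∧
      A ≤ Q := by
    intro w
    obtain ⟨_, ⟨A : W.Opens, hA, rfl⟩, hwA, hAQ⟩ :=
      W.isBasis_affineOpens.exists_subset_of_mem_open w.2.1 Q.2
    exact ⟨A, hA, hwA, hAQ⟩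
  choose A hA hwA hAQ using key
  haveI : Finite {w : W | w ∈ Q ∧ h w = v} := hF
  let Z' : W.Opens := ⨆ w, A w
  have hZ'c : IsCompact (Z' : Set W) := by
    rw [TopologicalSpace.Opens.coe_iSup]
    exact isCompact_iUnion fun w => (hA w).isCompact
  have hZ'Q : Z' ≤ Q := iSup_le hAQ
  have hFZ' : ∀ w : W, w ∈ Q → h w = v → w ∈ Z' := fun w h1 h2 =>
    TopologicalSpace.Opens.mem_iSup.2 ⟨⟨w, h1, h2⟩, hwA ⟨w, h1, h2⟩⟩
  haveI : CompactSpace Z'.toScheme := isCompact_iff_compactSpace.1 hZ'c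
  haveI : QuasiCompact (Z'.ι ≫ h) := (quasiCompact_iff_compactSpace _).2 inferInstance
  haveI : LocallyQuasiFinite (Z'.ι ≫ h) := by
    have : Z'.ι ≫ h = W.homOfLE hZ'Q ≫ Q.ι ≫ h := by
      rw [← Category.assoc, Scheme.homOfLE_ι]
    rw [this]
    infer_instance
  obtain ⟨V', j, v', hj, hjv, hgood⟩ := exists_good_nbhd (Z'.ι ≫ h) v
  have sq1 := isPullback_morphismRestrict (pullback.fst h j) Z'
  have sq := sq1.paste_vert (IsPullback.of_hasPullback h j)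
  obtain ⟨L, hL, hcov⟩ := hgood.of_isPullback sq
  haveI : LocallyQuasiFinite (((pullback.fst h j) ⁻¹ᵁ Z').ι ≫ pullback.snd h j) :=
    MorphismProperty.of_isPullback (P := @LocallyQuasiFinite) sq inferInstance
  refine ⟨V', j, v', hj, hjv, ((pullback.fst h j) ⁻¹ᵁ Z').ι ''ᵁ (L.foldr (· ⊔ ·) ⊥), ?_, ?_⟩
  · have h1 : IsFinite ((L.foldr (· ⊔ ·) ⊥).ι ≫ ((pullback.fst h j) ⁻¹ᵁ Z').ι ≫
        pullback.snd h j) := isFinite_list_sup _ L fun A hA => (hL A hA).2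
    have h2 : ((((pullback.fst h j) ⁻¹ᵁ Z').ι ''ᵁ (L.foldr (· ⊔ ·) ⊥)).ι ≫ pullback.snd h j) =
        (((pullback.fst h j) ⁻¹ᵁ Z').ι.isoImage (L.foldr (· ⊔ ·) ⊥)).inv ≫
          (L.foldr (· ⊔ ·) ⊥).ι ≫ ((pullback.fst h j) ⁻¹ᵁ Z').ι ≫ pullback.snd h j := by
      rw [Scheme.Hom.isoImage_inv_ι_assoc]
    rw [h2]
    infer_instance
  · intro ζ hζ
    have hkζ : h (pullback.fst h j ζ) = v := by
      rw [← Scheme.Hom.comp_apply, pullback.condition, Scheme.Hom.comp_apply, hζ, hjv]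
    have hζZ : ζ ∈ (pullback.fst h j) ⁻¹ᵁ Z' := hFZ' _ (hQ _ hkζ) hkζ
    obtain ⟨A', hA', hαA⟩ := hcov ⟨ζ, hζZ⟩ (by
      rw [Scheme.Hom.comp_apply]
      exact hζ)
    exact ⟨⟨ζ, hζZ⟩, (mem_list_sup L _).2 ⟨A', hA', hαA⟩, rfl⟩

theorem isFinite_pullback_snd_comp {W V V' V'' : Scheme.{u}} (h : W ⟶ V) (j : V' ⟶ V)
    (k : V'' ⟶ V') [IsFinite (pullback.snd h j)] : IsFinite (pullback.snd h (k ≫ j)) := by
  have : pullback.snd h (k ≫ j) =
      (pullbackLeftPullbackSndIso h j k).inv ≫ pullback.snd (pullback.snd h j) k := by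
    rw [Iso.eq_inv_comp, pullbackLeftPullbackSndIso_hom_snd]
  rw [this]
  infer_instance

/-- **Finite over an étale neighbourhood**: a separated quasi-compact morphism locally of finite
type to an affine scheme which is quasi-finite at all points over a point `v` without proper
generizations becomes finite after base change to an affine étale neighbourhood of `v`. -/
theorem exists_etale_nbhd_finite {W V : Scheme.{u}} (h : W ⟶ V) [IsAffine V] [IsSeparated h]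
    [LocallyOfFiniteType h] [QuasiCompact h] (v : V) (hv : ∀ z : V, z ⤳ v → z = v)
    (Q : W.Opens) [LocallyQuasiFinite (Q.ι ≫ h)] (hQ : ∀ w, h w = v → w ∈ Q) :
    ∃ (V' : Scheme.{u}) (j : V' ⟶ V) (v' : V'), IsAffine V' ∧ Etale j ∧ j v' = v ∧
      IsFinite (pullback.snd h j) := by
  obtain ⟨V₁, j₁, v₁, hj₁, hjv₁, A, hAfin, hA⟩ := exists_split_whole_fibre h v Q hQ
  haveI : LocallyQuasiFinite j₁ := locallyQuasiFinite_of_unramified' j₁
  have hv₁ : ∀ z : V₁, z ⤳ v₁ → z = v₁ :=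
    no_generization_of_lqf j₁ v₁ (by rw [hjv₁]; exact hv)
  -- `A` is closed
  haveI : IsProper (A.ι ≫ pullback.snd h j₁) := inferInstance
  haveI : IsProper A.ι := IsProper.of_comp A.ι (pullback.snd h j₁)
  have hAcl : IsClosed (A : Set ↥(pullback h j₁)) := by
    have := A.ι.isClosedMap.isClosed_range
    rwa [Scheme.Opens.range_ι] at this
  let B : (pullback h j₁).Opens := ⟨(A : Set ↥(pullback h j₁))ᶜ, hAcl.isOpen_compl⟩
  haveI : IsClosedImmersion B.ι :=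
    IsClosedImmersion.of_isPreimmersion _ (by
      rw [Scheme.Opens.range_ι]
      exact A.isOpen.isClosed_compl)
  have hvB : v₁ ∉ Set.range (B.ι ≫ pullback.snd h j₁) := by
    rintro ⟨b, hb⟩
    rw [Scheme.Hom.comp_apply] at hb
    exact b.2 (hA _ hb)
  obtain ⟨U, hvU, hU⟩ := exists_open_disjoint_range (B.ι ≫ pullback.snd h j₁) v₁ hv₁ hvB
  obtain ⟨_, ⟨V₂ : V₁.Opens, hV₂, rfl⟩, hvV₂, hV₂U⟩ :=
    V₁.isBasis_affineOpens.exists_subset_of_mem_open hvU U.2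
  have hA' : ∀ ζ : ↥(pullback h j₁), pullback.snd h j₁ ζ ∈ Set.range V₂.ι → ζ ∈ A := by
    intro ζ hζ
    rw [Scheme.Opens.range_ι] at hζ
    by_contra hcon
    apply hU (⟨ζ, hcon⟩ : B.toScheme)
    rw [Scheme.Hom.comp_apply]
    exact hV₂U hζ
  haveI : IsFinite (pullback.snd (pullback.snd h j₁) V₂.ι) :=
    isFinite_pullback_snd_of_open_finite (pullback.snd h j₁) A V₂.ι hA'
  refine ⟨V₂.toScheme, V₂.ι ≫ j₁, ⟨v₁, hvV₂⟩, hV₂, inferInstance, ?_, ?_⟩
  · rw [Scheme.Hom.comp_apply]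
    exact hjv₁
  · have : pullback.snd h (V₂.ι ≫ j₁) =
        (pullbackLeftPullbackSndIso h j₁ V₂.ι).inv ≫ pullback.snd (pullback.snd h j₁) V₂.ι := by
      rw [Iso.eq_inv_comp, pullbackLeftPullbackSndIso_hom_snd]
    rw [this]
    infer_instance

/-- Two morphisms at once. -/
theorem exists_etale_nbhd_finite₂ {W₁ W₂ V : Scheme.{u}} (h₁ : W₁ ⟶ V) (h₂ : W₂ ⟶ V) [IsAffine V]
    [IsSeparated h₁] [LocallyOfFiniteType h₁] [QuasiCompact h₁]
    [IsSeparated h₂] [LocallyOfFiniteType h₂] [QuasiCompact h₂]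
    (v : V) (hv : ∀ z : V, z ⤳ v → z = v)
    (Q₁ : W₁.Opens) [LocallyQuasiFinite (Q₁.ι ≫ h₁)] (hQ₁ : ∀ w, h₁ w = v → w ∈ Q₁)
    (Q₂ : W₂.Opens) [LocallyQuasiFinite (Q₂.ι ≫ h₂)] (hQ₂ : ∀ w, h₂ w = v → w ∈ Q₂) :
    ∃ (V' : Scheme.{u}) (j : V' ⟶ V) (v' : V'), IsAffine V' ∧ Etale j ∧ j v' = v ∧
      IsFinite (pullback.snd h₁ j) ∧ IsFinite (pullback.snd h₂ j) := by
  obtain ⟨V₁, j₁, v₁, -, hj₁, hjv₁, hfin₁⟩ := exists_etale_nbhd_finite h₁ v hv Q₁ hQ₁
  obtain ⟨V₂, j₂, v₂, -, hj₂, hjv₂, hfin₂⟩ := exists_etale_nbhd_finite h₂ v hv Q₂ hQ₂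
  obtain ⟨ξ, hξ1, hξ2⟩ := Scheme.Pullback.exists_preimage_pullback (f := j₁) (g := j₂) v₁ v₂
    (hjv₁.trans hjv₂.symm)
  obtain ⟨_, ⟨V₃ : (pullback j₁ j₂).Opens, hV₃, rfl⟩, hξV₃, -⟩ :=
    (pullback j₁ j₂).isBasis_affineOpens.exists_subset_of_mem_open (Set.mem_univ ξ) isOpen_univ
  refine ⟨V₃.toScheme, (V₃.ι ≫ pullback.fst j₁ j₂) ≫ j₁, ⟨ξ, hξV₃⟩, hV₃, inferInstance, ?_,
    isFinite_pullback_snd_comp h₁ j₁ _, ?_⟩
  · rw [Scheme.Hom.comp_apply, Scheme.Hom.comp_apply]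
    change j₁ (pullback.fst j₁ j₂ ξ) = v
    rw [hξ1, hjv₁]
  · have : (V₃.ι ≫ pullback.fst j₁ j₂) ≫ j₁ = (V₃.ι ≫ pullback.snd j₁ j₂) ≫ j₂ := by
      rw [Category.assoc, Category.assoc, pullback.condition]
    rw [this]
    exact isFinite_pullback_snd_comp h₂ j₂ _

end Groth.Agent.H7.QFin
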