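import Mathlib

set_option autoImplicit false

namespace Groth.Agent.H7.BF
universe u v
open Polynomial

section Poly
variable {K : Type u} [Field K]

theorem mem_range_of_pow_eq_one (hK : ∀ n : ℕ, 0 < n → (X ^ n - 1 : K[X]).Splits)
    {Ω : Type v} [Field Ω] [Algebra K Ω] (m : ℕ) (hm : 0 < m) (ζ : Ω) (hζ : ζ ^ m = 1) :
    ζ ∈ (algebraMap K Ω).range := by
  have hne : (X ^ m - 1 : K[X]) ≠ 0 := by
    have := X_pow_sub_C_ne_zero (R := K) hm 1
    rwa [map_one] at this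
  apply (hK m hm).mem_range_of_isRoot hne
  rw [IsRoot.def, Polynomial.map_sub, Polynomial.map_pow, map_X, Polynomial.map_one, eval_sub,
    eval_pow, eval_X, eval_one, hζ, sub_self]

theorem exists_prod_eq (Ω : Type v) [Field Ω] [Algebra K Ω] (z : Ω) (S : Multiset Ω)
    (h : ∀ w ∈ S, ∃ ζ : K, w = z * algebraMap K Ω ζ) :
    ∃ ζ' : K, S.prod = z ^ Multiset.card S * algebraMap K Ω ζ' := by
  induction S using Multiset.induction_on with
  | empty => exact ⟨1, by simp⟩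
  | cons w S ih =>
    obtain ⟨ζ', hζ'⟩ := ih (fun w' hw' => h w' (Multiset.mem_cons_of_mem hw'))
    obtain ⟨ζ, hζ⟩ := h w (Multiset.mem_cons_self w S)
    refine ⟨ζ * ζ', ?_⟩
    rw [Multiset.prod_cons, Multiset.card_cons, hζ', hζ, map_mul]
    ring

/-- over a field with all roots of unity, an irreducible factor of `X^m - c` is a binomial. -/
theorem eq_X_pow_sub_C (hK : ∀ n : ℕ, 0 < n → (X ^ n - 1 : K[X]).Splits) (m : ℕ) (hm : 0 < m)
    (c : K) (hc : c ≠ 0) (q : K[X]) (hq : Irreducible q) (hqm : q.Monic)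
    (hdvd : q ∣ X ^ m - C c) :
    ∃ a : K, q = X ^ q.natDegree - C a := by
  classical
  let Ω := AlgebraicClosure K
  obtain ⟨z, hz⟩ := IsAlgClosed.exists_aeval_eq_zero Ω q (degree_ne_of_natDegree_ne
    (Irreducible.natDegree_pos hq).ne')
  have hzm : z ^ m = algebraMap K Ω c := by
    obtain ⟨g, hg⟩ := hdvd
    have h1 : aeval z (X ^ m - C c : K[X]) = 0 := by rw [hg, map_mul, hz, zero_mul]
    rw [map_sub, map_pow, aeval_X, aeval_C, sub_eq_zero] at h1
    exact h1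
  have hcΩ : algebraMap K Ω c ≠ 0 := (map_ne_zero_iff _ (algebraMap K Ω).injective).mpr hc
  have hz0 : z ≠ 0 := by
    intro h0
    rw [h0, zero_pow hm.ne'] at hzm
    exact hcΩ hzm.symm
  set qΩ := q.map (algebraMap K Ω) with hqΩ
  have hsplit : qΩ.Splits := IsAlgClosed.splits qΩ
  have hmonic : qΩ.Monic := hqm.map _
  have hcard : Multiset.card qΩ.roots = q.natDegree := by
    rw [← hsplit.natDegree_eq_card_roots, hqΩ, natDegree_map]
  have hroot : ∀ w ∈ qΩ.roots, ∃ ζ : K, w = z * algebraMap K Ω ζ := by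
    intro w hw
    have hw' : aeval w q = 0 := by
      have := (mem_roots hmonic.ne_zero).mp hw
      rwa [IsRoot.def, hqΩ, eval_map_algebraMap] at this
    have hwm : w ^ m = algebraMap K Ω c := by
      obtain ⟨g, hg⟩ := hdvd
      have h1 : aeval w (X ^ m - C c : K[X]) = 0 := by rw [hg, map_mul, hw', zero_mul]
      rw [map_sub, map_pow, aeval_X, aeval_C, sub_eq_zero] at h1
      exact h1
    have h1 : (w / z) ^ m = 1 := by
      rw [div_pow, hwm, hzm, div_self hcΩ]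
    obtain ⟨ζ, hζ⟩ := mem_range_of_pow_eq_one hK m hm (w / z) h1
    refine ⟨ζ, ?_⟩
    rw [hζ, mul_div_cancel₀ _ hz0]
  obtain ⟨ζ', hζ'⟩ := exists_prod_eq Ω z qΩ.roots hroot
  have hcoeff := hsplit.coeff_zero_eq_prod_roots_of_monic hmonic
  rw [hζ', hcard, hqΩ, coeff_map, natDegree_map] at hcoeff
  have hq0 : q.coeff 0 ≠ 0 := by
    intro h0
    have h1 : X ∣ q := X_dvd_iff.mpr h0
    have h2 : X ∣ (X ^ m - C c : K[X]) := h1.trans hdvd
    have h3 := X_dvd_iff.mp h2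
    rw [coeff_sub, coeff_X_pow, coeff_C_zero, if_neg hm.ne, zero_sub, neg_eq_zero] at h3
    exact hc h3
  have hζ'0 : ζ' ≠ 0 := by
    intro h0
    rw [h0, map_zero, mul_zero, mul_zero] at hcoeff
    exact hq0 ((map_eq_zero_iff _ (algebraMap K Ω).injective).mp hcoeff)
  set r := q.natDegree with hr
  have hzr : z ^ r = algebraMap K Ω ((-1) ^ r * q.coeff 0 / ζ') := by
    rw [map_div₀, map_mul, map_pow, map_neg, map_one, hcoeff]
    have hζΩ : algebraMap K Ω ζ' ≠ 0 := (map_ne_zero_iff _ (algebraMap K Ω).injective).mpr hζ'0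
    have h2 : ((-1 : Ω) ^ r) * (-1) ^ r = 1 := by
      rw [← mul_pow, neg_one_mul, neg_neg, one_pow]
    rw [← mul_assoc, h2, one_mul, mul_div_assoc, div_self hζΩ, mul_one]
  set a := (-1) ^ r * q.coeff 0 / ζ' with ha
  refine ⟨a, ?_⟩
  have hr0 : 0 < r := Irreducible.natDegree_pos hq
  have hgm : (X ^ r - C a : K[X]).Monic := monic_X_pow_sub_C a hr0.ne'
  have hgd : (X ^ r - C a : K[X]).natDegree = r := natDegree_X_pow_sub_C
  have hgz : aeval z (X ^ r - C a : K[X]) = 0 := by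
    rw [map_sub, map_pow, aeval_X, aeval_C, hzr, sub_self]
  have hmin : q = minpoly K z := minpoly.eq_of_irreducible_of_monic hq hz hqm
  have hdvd2 : q ∣ X ^ r - C a := by rw [hmin]; exact minpoly.dvd K z hgz
  exact (eq_of_monic_of_dvd_of_natDegree_le hqm hgm hdvd2 (by rw [hgd])).symm

theorem natDegree_le_of_factors (hK : ∀ n : ℕ, 0 < n → (X ^ n - 1 : K[X]).Splits) (m : ℕ)
    (hm : 0 < m) (c : K) (hc : c ≠ 0) (q q' : K[X]) (hq : Irreducible q) (hqm : q.Monic)
    (hdvd : q ∣ X ^ m - C c) (hq' : Irreducible q') (hqm' : q'.Monic)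
    (hdvd' : q' ∣ X ^ m - C c) : q'.natDegree ≤ q.natDegree := by
  classical
  let Ω := AlgebraicClosure K
  obtain ⟨a, ha⟩ := eq_X_pow_sub_C hK m hm c hc q hq hqm hdvd
  set r := q.natDegree with hr
  have hr0 : 0 < r := Irreducible.natDegree_pos hq
  obtain ⟨z, hz⟩ := IsAlgClosed.exists_aeval_eq_zero Ω q (degree_ne_of_natDegree_ne hr0.ne')
  obtain ⟨z', hz'⟩ := IsAlgClosed.exists_aeval_eq_zero Ω q' (degree_ne_of_natDegree_ne
    (Irreducible.natDegree_pos hq').ne')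
  have hpow : ∀ (p : K[X]) (w : Ω), p ∣ X ^ m - C c → aeval w p = 0 →
      w ^ m = algebraMap K Ω c := by
    intro p w hp hw
    obtain ⟨g, hg⟩ := hp
    have h1 : aeval w (X ^ m - C c : K[X]) = 0 := by rw [hg, map_mul, hw, zero_mul]
    rw [map_sub, map_pow, aeval_X, aeval_C, sub_eq_zero] at h1
    exact h1
  have hzm := hpow q z hdvd hz
  have hzm' := hpow q' z' hdvd' hz'
  have hcΩ : algebraMap K Ω c ≠ 0 := (map_ne_zero_iff _ (algebraMap K Ω).injective).mpr hc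
  have hz0 : z ≠ 0 := by
    intro h0
    rw [h0, zero_pow hm.ne'] at hzm
    exact hcΩ hzm.symm
  have h1 : (z' / z) ^ m = 1 := by rw [div_pow, hzm', hzm, div_self hcΩ]
  obtain ⟨ζ, hζ⟩ := mem_range_of_pow_eq_one hK m hm (z' / z) h1
  have hz'eq : z' = z * algebraMap K Ω ζ := by rw [hζ, mul_div_cancel₀ _ hz0]
  have hzr : z ^ r = algebraMap K Ω a := by
    have h2 := hz
    rw [ha, map_sub, map_pow, aeval_X, aeval_C, sub_eq_zero] at h2
    exact h2
  have hgz : aeval z' (X ^ r - C (a * ζ ^ r) : K[X]) = 0 := by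
    rw [map_sub, map_pow, aeval_X, aeval_C, hz'eq, mul_pow, hzr, map_mul, map_pow, sub_self]
  have hmin : q' = minpoly K z' := minpoly.eq_of_irreducible_of_monic hq' hz' hqm'
  have hdvd2 : q' ∣ X ^ r - C (a * ζ ^ r) := by rw [hmin]; exact minpoly.dvd K z' hgz
  have := natDegree_le_of_dvd hdvd2 (X_pow_sub_C_ne_zero hr0 _)
  rwa [natDegree_X_pow_sub_C] at this

/-- all monic irreducible factors of `X^m - c` are binomials of one and the same degree. -/
theorem exists_degree (hK : ∀ n : ℕ, 0 < n → (X ^ n - 1 : K[X]).Splits) (m : ℕ)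
    (hm : 0 < m) (c : K) (hc : c ≠ 0) :
    ∃ r : ℕ, 0 < r ∧ ∀ q : K[X], Irreducible q → q.Monic → q ∣ X ^ m - C c →
      ∃ a : K, q = X ^ r - C a := by
  have hne : (X ^ m - C c : K[X]) ≠ 0 := X_pow_sub_C_ne_zero hm c
  have hnu : ¬ IsUnit (X ^ m - C c : K[X]) := by
    intro hu
    have := natDegree_eq_zero_of_isUnit hu
    rw [natDegree_X_pow_sub_C] at this
    omega
  obtain ⟨q₀, hq₀, hq₀d⟩ := WfDvdMonoid.exists_irreducible_factor hnu hne
  -- normalize to monic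
  let q₁ := q₀ * C q₀.leadingCoeff⁻¹
  have hq₁m : q₁.Monic := monic_mul_leadingCoeff_inv hq₀.ne_zero
  have hq₁i : Irreducible q₁ := by
    have hu : IsUnit (C q₀.leadingCoeff⁻¹ : K[X]) :=
      isUnit_C.mpr (isUnit_iff_ne_zero.mpr (inv_ne_zero (leadingCoeff_ne_zero.mpr hq₀.ne_zero)))
    exact (irreducible_mul_isUnit hu).mpr hq₀
  have hq₁d : q₁ ∣ X ^ m - C c := by
    have hu : IsUnit (C q₀.leadingCoeff⁻¹ : K[X]) :=
      isUnit_C.mpr (isUnit_iff_ne_zero.mpr (inv_ne_zero (leadingCoeff_ne_zero.mpr hq₀.ne_zero)))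
    exact (hu.mul_right_dvd).mpr hq₀d
  refine ⟨q₁.natDegree, Irreducible.natDegree_pos hq₁i, fun q hq hqm hqd => ?_⟩
  obtain ⟨a, ha⟩ := eq_X_pow_sub_C hK m hm c hc q hq hqm hqd
  have h1 := natDegree_le_of_factors hK m hm c hc q q₁ hq hqm hqd hq₁i hq₁m hq₁d
  have h2 := natDegree_le_of_factors hK m hm c hc q₁ q hq₁i hq₁m hq₁d hq hqm hqd
  have h3 : q.natDegree = q₁.natDegree := le_antisymm h2 h1
  exact ⟨a, by rw [← h3]; exact ha⟩

end Poly

end Groth.Agent.H7.BF
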