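import Mathlib
import Groth.Agent.Lib.Helper7.CSA15
import Groth.Agent.Lib.Helper7.CSA13
import Groth.Agent.Lib.Helper7.CSA12

set_option autoImplicit false

namespace Groth.Agent.H7.Idx
universe u v w x
open scoped TensorProduct
open Module

/-- the dimension of a division algebra divides the dimension of any module over an algebra
receiving it. -/
theorem finrank_dvd_of_module (k : Type u) [Field k] (D : Type v) [DivisionRing D] [Algebra k D]
    [FiniteDimensional k D] (R : Type w) [Ring R] [Algebra k R] (f : D →ₐ[k] R)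
    (V : Type x) [AddCommGroup V] [Module k V] [Module R V] [IsScalarTower k R V]
    [FiniteDimensional k V] : finrank k D ∣ finrank k V := by
  letI : Module D V := Module.compHom V f.toRingHom
  haveI : IsScalarTower k D V := ⟨fun c d v => by
    show f (c • d) • v = c • (f d • v)
    rw [map_smul, smul_assoc]⟩
  haveI : Module.Finite D V := Module.Finite.of_restrictScalars_finite k D V
  exact ⟨finrank D V, (Module.finrank_mul_finrank k D V).symm⟩


/-- S7748: behaviour of the index under a finite base change. -/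
theorem index_baseChange (k : Type u) [Field k] (K : Type u) [Field K] [Algebra k K]
    [FiniteDimensional k K]
    (A : Type v) [Ring A] [Algebra k A] [Algebra.IsCentral k A] [IsSimpleRing A]
    [FiniteDimensional k A]
    (D : Type v) [DivisionRing D] [Algebra k D] [Algebra.IsCentral k D] [FiniteDimensional k D]
    (m : ℕ) (iso : A ≃ₐ[k] Matrix (Fin m) (Fin m) D) (d : ℕ) (hd : finrank k D = d ^ 2)
    (D' : Type w) [DivisionRing D'] [Algebra K D'] [FiniteDimensional K D']
    (m' : ℕ) (iso' : (K ⊗[k] A) ≃ₐ[K] Matrix (Fin m') (Fin m') D') (d' : ℕ)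
    (hd' : finrank K D' = d' ^ 2) : d' ∣ d ∧ d ∣ finrank k K * d' := by
  classical
  -- m, m' nonzero
  have hm : m ≠ 0 := by
    rintro rfl
    have : Subsingleton A := iso.toEquiv.subsingleton
    exact not_subsingleton A this
  have hKA : IsSimpleRing (K ⊗[k] A) := CSA.isSimpleRing_tensor k K A
  have hm' : m' ≠ 0 := by
    rintro rfl
    have : Subsingleton (K ⊗[k] A) := iso'.toEquiv.subsingleton
    exact not_subsingleton (K ⊗[k] A) this
  haveI : NeZero m := ⟨hm⟩
  haveI : NeZero m' := ⟨hm'⟩
  -- Wedderburn for K ⊗ D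
  have hKD : IsSimpleRing (K ⊗[k] D) := CSA.isSimpleRing_tensor k K D
  haveI : IsArtinianRing (K ⊗[k] D) := IsArtinianRing.of_finite K _
  obtain ⟨r, hr, D'', _, _, hfin, ⟨e⟩⟩ :=
    IsSimpleRing.exists_algEquiv_matrix_divisionRing_finite K (K ⊗[k] D)
  letI : Algebra k D'' := Algebra.compHom D'' (algebraMap k K)
  haveI : IsScalarTower k K D'' := IsScalarTower.of_algebraMap_eq (fun _ => rfl)
  haveI : FiniteDimensional k D'' := Module.Finite.trans K D''
  -- K ⊗ A ≅ M_{mr}(D'')
  have hdim1 : finrank K (K ⊗[k] D) = r * r * finrank K D'' := by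
    rw [e.toLinearEquiv.finrank_eq, Module.finrank_matrix]
    simp
  have hdim2 : finrank K (K ⊗[k] D) = d ^ 2 := by
    rw [Module.finrank_baseChange, hd]
  let ψ : A →ₐ[k] Matrix (Fin (m * r)) (Fin (m * r)) D'' :=
    ((CSA.matMatEquiv k D'' m r : _ →ₐ[k] _).comp
      ((e.toAlgHom.restrictScalars k).comp
        (Algebra.TensorProduct.includeRight : D →ₐ[k] K ⊗[k] D)).mapMatrix).comp
      iso.toAlgHom
  haveI : NeZero (m * r) := ⟨Nat.mul_ne_zero hm hr.ne⟩
  have hdimA : finrank k A = finrank K (Matrix (Fin (m * r)) (Fin (m * r)) D'') := by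
    rw [iso.toLinearEquiv.finrank_eq, Module.finrank_matrix, Module.finrank_matrix, hd,
      ← hdim2, hdim1]
    simp only [Fintype.card_fin]
    ring
  obtain ⟨e1⟩ := CSA.baseChange_equiv_of_algHom k A K
    (Matrix (Fin (m * r)) (Fin (m * r)) D'') hdimA ψ
  obtain ⟨eD⟩ := CSA.divisionRing_unique K (K ⊗[k] A) D'' D' (m * r) m' e1 iso'
  have hD'' : finrank K D'' = d' ^ 2 := by
    rw [eD.toLinearEquiv.finrank_eq, hd']
  have hdr : d = r * d' := by
    have : d ^ 2 = (r * d') ^ 2 := by
      rw [← hdim2, hdim1, hD'']; ring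
    exact Nat.pow_left_injective (by norm_num : 2 ≠ 0) this
  refine ⟨⟨r, by rw [hdr, mul_comm]⟩, ?_⟩
  -- second part: module count
  let ek : (K ⊗[k] D) ≃ₐ[k] Matrix (Fin r) (Fin r) D'' := e.restrictScalars k
  have hdvd := finrank_dvd_of_module k D (K ⊗[k] D)
    (Algebra.TensorProduct.includeRight : D →ₐ[k] K ⊗[k] D) (CSA.MatMod ek)
  have hV : finrank k (CSA.MatMod ek) = r * (finrank k K * d' ^ 2) := by
    show finrank k (Fin r → D'') = _
    rw [Module.finrank_pi_fintype]
    simp only [Finset.sum_const, Finset.card_univ, Fintype.card_fin, smul_eq_mul]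
    rw [← Module.finrank_mul_finrank k K D'', hD'']
  rw [hd, hV, hdr] at hdvd
  have hr0 : 0 < r := Nat.pos_of_ne_zero hr.ne
  have hd'0 : 0 < d' := by
    rcases Nat.eq_zero_or_pos d' with h | h
    · exfalso
      rw [h] at hD''
      have : 0 < finrank K D'' := Module.finrank_pos
      omega
    · exact h
  -- (r d')^2 ∣ r * ([K:k] * d'^2)  ⇒ r ∣ [K:k]
  have h1 : r * d' ^ 2 * r ∣ r * d' ^ 2 * finrank k K := by
    have e1 : (r * d') ^ 2 = r * d' ^ 2 * r := by ring
    have e2 : r * (finrank k K * d' ^ 2) = r * d' ^ 2 * finrank k K := by ring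
    rw [e1, e2] at hdvd
    exact hdvd
  have h2 : r ∣ finrank k K :=
    (Nat.mul_dvd_mul_iff_left (by positivity)).mp h1
  rw [hdr]
  exact Nat.mul_dvd_mul_right h2 d'

end Groth.Agent.H7.Idx
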