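import Mathlib
import Groth.Agent.Lib.Helper7.BF1
import Groth.Agent.Lib.Helper7.CSA6
import Groth.Agent.Lib.Helper7.CSA7
import Groth.Agent.Lib.Helper7.Idx1
import Groth.Agent.Lib.Helper7.RN1

set_option autoImplicit false

namespace Groth.Agent.H7.BF
universe u v
open Polynomial Module

section Subfield
variable (K : Type u) [Field K] (A : Type v) [DivisionRing A] [Algebra K A]
  [FiniteDimensional K A]

/-- the subfield generated by an element of a division algebra, packaged abstractly. -/
theorem exists_subfield (x : A) :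
    ∃ (F : Type u) (_ : Field F) (_ : Algebra K F) (_ : FiniteDimensional K F)
      (ι : F →ₐ[K] A) (y : F), ι y = x ∧ finrank K F = (minpoly K x).natDegree ∧
        (LinearMap.mulLeft K y).charpoly = minpoly K x := by
  have hint : IsIntegral K x := Algebra.IsIntegral.isIntegral x
  have hirr : Irreducible (minpoly K x) := minpoly.irreducible hint
  have hmon : (minpoly K x).Monic := minpoly.monic hint
  haveI : Fact (Irreducible (minpoly K x)) := ⟨hirr⟩
  let pb := AdjoinRoot.powerBasis hmon.ne_zero
  have hgen : minpoly K pb.gen = minpoly K x := AdjoinRoot.minpoly_powerBasis_gen_of_monic hmon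
  have hx : aeval x (minpoly K pb.gen) = 0 := by rw [hgen]; exact minpoly.aeval K x
  haveI : FiniteDimensional K (AdjoinRoot (minpoly K x)) := pb.finite
  refine ⟨AdjoinRoot (minpoly K x), inferInstance, inferInstance, inferInstance,
    pb.lift x hx, pb.gen, pb.lift_gen x hx, ?_, ?_⟩
  · rw [pb.finrank]
    rfl
  · refine Eq.trans ?_ hgen
    rw [← charpoly_leftMulMatrix pb, ← LinearMap.charpoly_toMatrix _ pb.basis]
    rfl

variable [Algebra.IsCentral K A]

/-- the degree of any element of a central division algebra divides the degree of the algebra. -/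
theorem natDegree_minpoly_dvd (n : ℕ) (hn : finrank K A = n ^ 2) (x : A) :
    (minpoly K x).natDegree ∣ n := by
  obtain ⟨F, _, _, _, ι, y, hy, hF, -⟩ := exists_subfield K A x
  set r := (minpoly K x).natDegree with hr
  haveI : IsSimpleRing ι.range := CSA.isSimpleRing_subalgebra K A ι.range
  have h1 := CSA.finrank_centralizer K A ι.range
  have hrange : finrank K ι.range = r := by
    rw [← hF]
    exact (LinearEquiv.ofInjective ι.toLinearMap ι.toRingHom.injective).finrank_eq.symm
  have hmem : ∀ z : F, ι z ∈ Subalgebra.centralizer K (ι.range : Set A) := by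
    intro z
    rw [Subalgebra.mem_centralizer_iff]
    rintro _ ⟨w, rfl⟩
    show ι w * ι z = ι z * ι w
    rw [← map_mul, ← map_mul, mul_comm]
  let f' : F →ₐ[K] Subalgebra.centralizer K (ι.range : Set A) := ι.codRestrict _ hmem
  have hdvd := Idx.finrank_dvd_of_module K F (Subalgebra.centralizer K (ι.range : Set A)) f'
    (Subalgebra.centralizer K (ι.range : Set A))
  rw [hF] at hdvd
  rw [hrange, hn] at h1
  obtain ⟨c, hc⟩ := hdvd
  have h2 : r * r ∣ n * n := by
    refine ⟨c, ?_⟩
    rw [← pow_two, h1, hc]; ring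
  rw [← pow_two, ← pow_two] at h2
  exact (Nat.pow_dvd_pow_iff (by norm_num : 2 ≠ 0)).mp h2

/-- structure of torsion-mod-centre elements in a central division algebra over a field with
all roots of unity. -/
theorem exists_minpoly_binomial (hK : ∀ n : ℕ, 0 < n → (X ^ n - 1 : K[X]).Splits)
    (n : ℕ) (hn : finrank K A = n ^ 2) (x : A) (hx : x ≠ 0)
    (hxm : ∃ m : ℕ, 0 < m ∧ x ^ m ∈ (algebraMap K A).range) :
    ∃ (r : ℕ) (a : K), 0 < r ∧ r ∣ n ∧ a ≠ 0 ∧ minpoly K x = X ^ r - C a ∧
      x ^ r = algebraMap K A a := by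
  obtain ⟨m, hm, c, hc⟩ := hxm
  have hint : IsIntegral K x := Algebra.IsIntegral.isIntegral x
  have hirr : Irreducible (minpoly K x) := minpoly.irreducible hint
  have hmon : (minpoly K x).Monic := minpoly.monic hint
  have hc0 : c ≠ 0 := by
    intro h0
    rw [h0, map_zero] at hc
    exact hx (pow_eq_zero_iff hm.ne' |>.mp hc.symm)
  have hdvd : minpoly K x ∣ X ^ m - C c := by
    apply minpoly.dvd
    rw [map_sub, map_pow, aeval_X, aeval_C, hc, sub_self]
  obtain ⟨a, ha⟩ := eq_X_pow_sub_C hK m hm c hc0 (minpoly K x) hirr hmon hdvd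
  set r := (minpoly K x).natDegree with hr
  have hr0 : 0 < r := Irreducible.natDegree_pos hirr
  have hxr : x ^ r = algebraMap K A a := by
    have h1 := minpoly.aeval K x
    rw [ha, map_sub, map_pow, aeval_X, aeval_C, sub_eq_zero] at h1
    exact h1
  have ha0 : a ≠ 0 := by
    intro h0
    rw [h0, map_zero] at hxr
    exact hx (pow_eq_zero_iff hr0.ne' |>.mp hxr)
  exact ⟨r, a, hr0, natDegree_minpoly_dvd K A n hn x, ha0, ha, hxr⟩

/-- **S15168** -/
theorem pow_degree_mem (hK : ∀ n : ℕ, 0 < n → (X ^ n - 1 : K[X]).Splits)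
    (n : ℕ) (hn : finrank K A = n ^ 2) (x : A)
    (hxm : ∃ m : ℕ, 0 < m ∧ x ^ m ∈ (algebraMap K A).range) :
    x ^ n ∈ (algebraMap K A).range := by
  by_cases hx : x = 0
  · have hn0 : n ≠ 0 := by
      rintro rfl
      have : 0 < finrank K A := Module.finrank_pos
      omega
    exact ⟨0, by rw [hx, map_zero, zero_pow hn0]⟩
  · obtain ⟨r, a, hr0, ⟨t, ht⟩, ha0, -, hxr⟩ := exists_minpoly_binomial K A hK n hn x hx hxm
    exact ⟨a ^ t, by rw [map_pow, ← hxr, ← pow_mul, ← ht]⟩

end Subfield

end Groth.Agent.H7.BF
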