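import Mathlib
import Groth.Agent.Lib.Helper7.BF2
import Groth.Agent.Lib.Helper7.RN1

set_option autoImplicit false

/-! norms and zero loci for integral extensions of normal domains -/

namespace Groth.Agent.H7.ND
universe u
open Polynomial Module

section Norm
variable (K : Type u) [Field K] (L : Type u) [Field L] [Algebra K L] [FiniteDimensional K L]

/-- the norm is, up to sign, a positive power of the constant coefficient of the minimal
polynomial (no separability assumption). -/
theorem norm_eq_pow_coeff_zero (x : L) :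
    ∃ m : ℕ, 0 < m ∧ Algebra.norm K x = (-1) ^ finrank K L * ((minpoly K x).coeff 0) ^ m := by
  obtain ⟨F, _, _, _, ι, y, hy, hF, hcp⟩ := BF.exists_subfield K L x
  letI : Algebra F L := ι.toRingHom.toAlgebra
  haveI : IsScalarTower K F L := IsScalarTower.of_algebraMap_eq fun r => (ι.commutes r).symm
  haveI : FiniteDimensional F L := FiniteDimensional.right K F L
  have hmul := Module.finrank_mul_finrank K F L
  have hm0 : 0 < finrank F L := Module.finrank_pos
  refine ⟨finrank F L, hm0, ?_⟩
  have h2 := RN.charpoly_mulLeft_subfield K L F ι (finrank F L) (by rw [← hmul, mul_comm]) y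
  rw [hy, hcp] at h2
  have hlm : (Algebra.lmul K L) x = LinearMap.mulLeft K x := rfl
  rw [Algebra.norm_apply, LinearMap.det_eq_sign_charpoly_coeff, hlm, h2,
    Polynomial.coeff_zero_eq_eval_zero, eval_pow, ← Polynomial.coeff_zero_eq_eval_zero]

end Norm

section Dim
variable {R : Type u} [CommRing R]

/-- a closed subset of a spectrum has the dimension of the quotient ring. -/
theorem topologicalKrullDim_zeroLocus (I : Ideal R) :
    topologicalKrullDim ↥(PrimeSpectrum.zeroLocus (I : Set R)) = ringKrullDim (R ⧸ I) := by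
  have hsurj : Function.Surjective (Ideal.Quotient.mk I) := Ideal.Quotient.mk_surjective
  have hemb := PrimeSpectrum.isClosedEmbedding_comap_of_surjective (R ⧸ I) (Ideal.Quotient.mk I) hsurj
  have hrange : Set.range (PrimeSpectrum.comap (Ideal.Quotient.mk I)) =
      PrimeSpectrum.zeroLocus (I : Set R) := by
    rw [range_comap_of_surjective _ _ hsurj, Ideal.mk_ker]
  rw [← PrimeSpectrum.topologicalKrullDim_eq_ringKrullDim, ← hrange]
  exact (IsHomeomorph.topologicalKrullDim_eq _
    hemb.isEmbedding.toHomeomorph.isHomeomorph).symm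

theorem dim_eq_of_integral_injective (A B : Type u) [CommRing A] [CommRing B] [Algebra A B]
    [Algebra.IsIntegral A B] (hinj : Function.Injective (algebraMap A B)) :
    ringKrullDim B = ringKrullDim A := by
  have h1 : ringKrullDim B ≤ ringKrullDim A := by
    unfold ringKrullDim
    apply Order.krullDim_le_of_strictMono (PrimeSpectrum.comap (algebraMap A B))
    intro P Q hPQ
    rw [← PrimeSpectrum.asIdeal_lt_asIdeal] at hPQ ⊢
    exact Ideal.IsIntegral.comap_lt_comap hPQ
  refine le_antisymm h1 ?_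
  unfold ringKrullDim
  rw [Order.krullDim]
  apply iSup_le
  intro l
  obtain ⟨P, hP, hPl⟩ := Ideal.exists_ideal_over_prime_of_isIntegral (S := B) l.head.asIdeal
    (⊥ : Ideal B) (by rw [Ideal.comap_bot_of_injective _ hinj]; exact bot_le)
  have : P.LiesOver l.head.asIdeal := ⟨hPl.2.symm⟩
  have := hPl.1
  obtain ⟨L, hL, -, -⟩ := Ideal.exists_ltSeries_of_hasGoingUp l P
  rw [← hL]
  exact Order.LTSeries.length_le_krullDim L

end Dim

section Main
variable (A B K L : Type u) [CommRing A] [IsDomain A] [CommRing B] [IsDomain B] [Algebra A B]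
    [Field K] [Field L] [Algebra A K] [IsFractionRing A K] [Algebra B L] [IsFractionRing B L]
    [Algebra A L] [Algebra K L] [IsScalarTower A B L] [IsScalarTower A K L]
    [FiniteDimensional K L] [Algebra.IsIntegral A B] [IsIntegrallyClosed A]

theorem exists_eq_pow (b : B) (a : A)
    (ha : algebraMap A K a = Algebra.norm K (algebraMap B L b)) :
    ∃ m : ℕ, 0 < m ∧ a = (-1) ^ finrank K L * ((minpoly A b).coeff 0) ^ m := by
  have hb : IsIntegral A b := Algebra.IsIntegral.isIntegral b
  obtain ⟨m, hm, h⟩ := norm_eq_pow_coeff_zero K L (algebraMap B L b)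
  refine ⟨m, hm, ?_⟩
  apply IsFractionRing.injective A K
  rw [ha, h, minpoly.isIntegrallyClosed_eq_field_fractions K L hb, coeff_map]
  simp

omit [IsDomain A] [IsDomain B] [Algebra.IsIntegral A B] in
theorem dvd_coeff_zero (b : B) : b ∣ algebraMap A B ((minpoly A b).coeff 0) := by
  have h := minpoly.aeval A b
  have h2 := Polynomial.divX_mul_X_add (minpoly A b)
  have h3 : aeval b ((minpoly A b).divX * X + C ((minpoly A b).coeff 0)) = 0 := by
    rw [h2]; exact h
  rw [map_add, map_mul, aeval_X, aeval_C] at h3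
  refine ⟨- aeval b (minpoly A b).divX, ?_⟩
  linear_combination h3

theorem image_zeroLocus (hinj : Function.Injective (algebraMap A B)) (b : B) (a : A)
    (ha : algebraMap A K a = Algebra.norm K (algebraMap B L b)) :
    PrimeSpectrum.comap (algebraMap A B) '' PrimeSpectrum.zeroLocus ({b} : Set B) =
      PrimeSpectrum.zeroLocus ({a} : Set A) := by
  obtain ⟨m, hm, hpow⟩ := exists_eq_pow A B K L b a ha
  set c₀ := (minpoly A b).coeff 0 with hc₀def
  have hdvd : b ∣ algebraMap A B a := by
    rw [hpow, map_mul, map_pow, map_pow]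
    exact Dvd.dvd.mul_left (dvd_pow (dvd_coeff_zero A B b) hm.ne') _
  ext 𝔭
  constructor
  · rintro ⟨𝔮, h𝔮, rfl⟩
    rw [PrimeSpectrum.mem_zeroLocus, Set.singleton_subset_iff] at h𝔮 ⊢
    show algebraMap A B a ∈ 𝔮.asIdeal
    obtain ⟨c, hc⟩ := hdvd
    rw [hc]
    exact Ideal.mul_mem_right _ _ h𝔮
  · intro h𝔭
    rw [PrimeSpectrum.mem_zeroLocus, Set.singleton_subset_iff] at h𝔭
    have hc₀ : c₀ ∈ 𝔭.asIdeal := by
      have h1 : (-1 : A) ^ finrank K L * c₀ ^ m ∈ 𝔭.asIdeal := by rw [← hpow]; exact h𝔭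
      rcases 𝔭.isPrime.mem_or_mem h1 with h | h
      · exfalso
        exact 𝔭.isPrime.ne_top (Ideal.eq_top_of_isUnit_mem _ h (IsUnit.pow _ isUnit_one.neg))
      · exact 𝔭.isPrime.mem_of_pow_mem _ h
    have hb : IsIntegral A b := Algebra.IsIntegral.isIntegral b
    haveI : FaithfulSMul A B := (faithfulSMul_iff_algebraMap_injective A B).mpr hinj
    let e := minpoly.equivAdjoin hb
    let θ₀ : AdjoinRoot (minpoly A b) →+* A ⧸ 𝔭.asIdeal :=
      AdjoinRoot.lift (Ideal.Quotient.mk 𝔭.asIdeal) 0 (by
        rw [Polynomial.eval₂_at_zero, Ideal.Quotient.eq_zero_iff_mem]; exact hc₀)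
    let θ : Algebra.adjoin A ({b} : Set B) →+* A ⧸ 𝔭.asIdeal :=
      θ₀.comp (e.symm : Algebra.adjoin A ({b} : Set B) →+* AdjoinRoot (minpoly A b))
    let 𝔮₀ : Ideal (Algebra.adjoin A ({b} : Set B)) := RingHom.ker θ
    haveI : 𝔮₀.IsPrime := RingHom.ker_isPrime θ
    have hθA : ∀ r : A, θ (algebraMap A _ r) = Ideal.Quotient.mk _ r := by
      intro r
      show θ₀ (e.symm (algebraMap A _ r)) = _
      rw [AlgEquiv.commutes]
      exact AdjoinRoot.lift_of _
    let b' : Algebra.adjoin A ({b} : Set B) := ⟨b, Algebra.subset_adjoin (Set.mem_singleton b)⟩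
    have hθb : θ b' = 0 := by
      have h1 : e (AdjoinRoot.root _) = b' := by
        show AdjoinRoot.Minpoly.toAdjoin A b (AdjoinRoot.root _) = b'
        rw [AdjoinRoot.Minpoly.coe_toAdjoin, AdjoinRoot.liftAlgHom_root]
      show θ₀ (e.symm b') = 0
      rw [← h1, AlgEquiv.symm_apply_apply]
      exact AdjoinRoot.lift_root _
    have : Algebra.IsIntegral (Algebra.adjoin A ({b} : Set B)) B :=
      Algebra.IsIntegral.tower_top (R := A)
    obtain ⟨𝔮, h𝔮p, h𝔮c⟩ := Ideal.exists_ideal_over_prime_of_isIntegral_of_isDomain (S := B) 𝔮₀ (by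
      have : RingHom.ker (algebraMap (Algebra.adjoin A ({b} : Set B)) B) = ⊥ :=
        (RingHom.injective_iff_ker_eq_bot _).mp Subtype.val_injective
      rw [this]; exact bot_le)
    refine ⟨⟨𝔮, h𝔮p⟩, ?_, ?_⟩
    · rw [PrimeSpectrum.mem_zeroLocus, Set.singleton_subset_iff]
      have h1 : b' ∈ 𝔮.comap (algebraMap (Algebra.adjoin A ({b} : Set B)) B) := by
        rw [h𝔮c]; exact hθb
      exact h1
    · ext r
      show algebraMap A B r ∈ 𝔮 ↔ r ∈ 𝔭.asIdeal
      have h1 : algebraMap A B r = algebraMap (Algebra.adjoin A ({b} : Set B)) B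
          (algebraMap A (Algebra.adjoin A ({b} : Set B)) r) := rfl
      rw [h1, ← Ideal.mem_comap, h𝔮c, RingHom.mem_ker, hθA, Ideal.Quotient.eq_zero_iff_mem]

theorem dim_eq (hinj : Function.Injective (algebraMap A B)) (b : B) (a : A)
    (ha : algebraMap A K a = Algebra.norm K (algebraMap B L b)) :
    topologicalKrullDim ↥(PrimeSpectrum.zeroLocus ({b} : Set B)) =
      topologicalKrullDim ↥(PrimeSpectrum.zeroLocus ({a} : Set A)) := by
  have himg := image_zeroLocus A B K L hinj b a ha
  set I : Ideal A := (Ideal.span {b}).comap (algebraMap A B) with hI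
  have hV : PrimeSpectrum.zeroLocus (I : Set A) = PrimeSpectrum.zeroLocus ({a} : Set A) := by
    rw [← himg]
    ext 𝔭
    constructor
    · intro h
      rw [PrimeSpectrum.mem_zeroLocus] at h
      obtain ⟨𝔮, hle, hp, hc⟩ := Ideal.exists_ideal_over_prime_of_isIntegral (S := B) 𝔭.asIdeal
        (Ideal.span {b}) h
      refine ⟨⟨𝔮, hp⟩, ?_, PrimeSpectrum.ext hc⟩
      rw [PrimeSpectrum.mem_zeroLocus, Set.singleton_subset_iff]
      exact hle (Ideal.subset_span (Set.mem_singleton b))
    · rintro ⟨𝔮, h𝔮, rfl⟩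
      rw [PrimeSpectrum.mem_zeroLocus, Set.singleton_subset_iff] at h𝔮
      rw [PrimeSpectrum.mem_zeroLocus]
      intro r hr
      have h1 : algebraMap A B r ∈ Ideal.span {b} := hr
      show algebraMap A B r ∈ 𝔮.asIdeal
      exact (Ideal.span_singleton_le_iff_mem _ |>.mpr h𝔮) h1
  rw [← PrimeSpectrum.zeroLocus_span ({b} : Set B), ← hV, topologicalKrullDim_zeroLocus,
    topologicalKrullDim_zeroLocus]
  exact dim_eq_of_integral_injective (A ⧸ I) (B ⧸ Ideal.span {b})
    Ideal.algebraMap_quotient_injective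

end Main

end Groth.Agent.H7.ND
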