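import Groth.Agent.Lib.Helper7.LR4
import Groth.Agent.Lib.Helper7.LR2
import Groth.Agent.Lib.Helper7.DRec1
import Groth.Agent.Lib.Helper6.RpRes1
import Groth.Agent.Lib.Lead.QC.SpecHom
import Groth.Prelude.Def_CxOX

/-!
# Supports of cohomology sheaves, restriction to opens and `Rf_*`
-/

set_option autoImplicit false
universe u

open CategoryTheory CategoryTheory.Limits AlgebraicGeometry
attribute [local instance] HasDerivedCategory.standard

namespace Groth.Agent.Helper7.LR6

open Groth.Agent.H4 Groth.Agent.H6 DerivedCategory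

variable {X Y : Scheme.{u}}

/-- the restriction of `E ∈ D(O_X)` to an open `V` vanishes iff the supports of all cohomology
sheaves of `E` are disjoint from `V`. -/
theorem isZero_restrictD_iff (V : X.Opens) (E : DCoh.D X) :
    IsZero ((DCoh.restrictD V.ι).obj E) ↔
      ∀ i : ℤ, Disjoint (CohB1.support (DCoh.HD E i)) (V : Set X) := by
  constructor
  · intro h i
    rw [Set.disjoint_left]
    intro x hx hxV
    apply hx
    have h1 : IsZero ((DerivedCategory.homologyFunctor _ i).obj ((DCoh.restrictD V.ι).obj E)) :=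
      Functor.map_isZero _ h
    have h2 : IsZero ((Scheme.Modules.restrictFunctor V.ι).obj (DCoh.HD E i)) :=
      IsZero.of_iso h1 (Groth.Agent.H7.DRec.homologyMapDerivedIso
        (Scheme.Modules.restrictFunctor V.ι) E i).symm
    have h3 := (Groth.Agent.LD.QC.isZero_iff_subsingleton_stalks _).1 h2 ⟨x, hxV⟩
    exact (Groth.Agent.LD.QC.subsingleton_stalk_restrict_iff V.ι (DCoh.HD E i) ⟨x, hxV⟩).1 h3
  · intro h
    apply Groth.Agent.H7.DRec.isZero_of_forall_isZero_homology
    intro n
    refine IsZero.of_iso ?_ (Groth.Agent.H7.DRec.homologyMapDerivedIso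
        (Scheme.Modules.restrictFunctor V.ι) E n)
    rw [Groth.Agent.LD.QC.isZero_iff_subsingleton_stalks]
    intro y
    refine (Groth.Agent.LD.QC.subsingleton_stalk_restrict_iff V.ι (DCoh.HD E n) y).2 ?_
    by_contra hne
    exact Set.disjoint_left.1 (h n) hne y.2

/-- `Rf_*` carries zero objects to zero objects. -/
theorem isZero_rpush (f : X ⟶ Y) [DCoh.HasRpush f] (E : DCoh.D X) (hE : IsZero E) :
    IsZero ((DCoh.Rpush f).obj E) := by
  haveI := LDS14.hasLpull f
  haveI : (DCoh.Rpush f).IsRightAdjoint := (LR2.lpullRpushAdj f).isRightAdjoint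
  exact Functor.map_isZero _ hE

/-- **S19620** -/
theorem support_rpush (f : X ⟶ Y) [IsProper f] [DCoh.HasRpush f] (Z : Set ↥X) (hZ : IsClosed Z)
    (E : DCoh.D X) (hE : ∀ i : ℤ, CohB1.support (DCoh.HD E i) ⊆ Z) (i : ℤ) :
    CohB1.support (DCoh.HD ((DCoh.Rpush f).obj E) i) ⊆ f.base '' Z := by
  have hcl : IsClosed (f.base '' Z) := f.isClosedMap _ hZ
  let V : Y.Opens := ⟨(f.base '' Z)ᶜ, hcl.isOpen_compl⟩
  haveI : DCoh.HasRpush (f ∣_ V) := LR4.hasRpush _
  obtain ⟨e⟩ := RpRes.main f V
  have hz : IsZero ((DCoh.restrictD (f ⁻¹ᵁ V).ι).obj E) := by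
    rw [isZero_restrictD_iff]
    intro n
    rw [Set.disjoint_left]
    intro x hx hxV
    exact hxV ⟨x, hE n hx, rfl⟩
  have hz2 := isZero_rpush (f ∣_ V) _ hz
  have hz3 : IsZero ((DCoh.restrictD V.ι).obj ((DCoh.Rpush f).obj E)) :=
    IsZero.of_iso hz2 (e.app E)
  have hd := (isZero_restrictD_iff V _).1 hz3 i
  intro y hy
  by_contra hne
  exact Set.disjoint_left.1 hd hy hne

end Groth.Agent.Helper7.LR6
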