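import Groth.Prelude.Def_CInt
import Groth.Agent.Lib.Helper3.SchDenseLfp
import Mathlib

/-!
# Sections through the locus where a birational-type morphism is an open immersion
-/

set_option autoImplicit false

universe u

open CategoryTheory CategoryTheory.Limits AlgebraicGeometry Opposite Topology

namespace Groth.Agent.H7.SecOpen

lemma res_res {X : Scheme.{u}} {A B C : X.Opens} (h1 : B ≤ A) (h2 : C ≤ B) (x : Γ(X, A)) :
    X.presheaf.map (homOfLE h2).op (X.presheaf.map (homOfLE h1).op x) =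
      X.presheaf.map (homOfLE (h2.trans h1)).op x := by
  rw [← CommRingCat.comp_apply, ← Functor.map_comp]; rfl

/-- Two morphisms to an affine scheme that agree on a schematically dense open are equal. -/
theorem ext_of_schDense {X Y : Scheme.{u}} [IsAffine Y] (a b : X ⟶ Y) (D : X.Opens)
    (hD : CInt.IsSchematicallyDense D) (h : D.ι ≫ a = D.ι ≫ b) : a = b := by
  apply ext_of_isAffine
  ext t
  apply hD ⊤
  have h1 : (D.ι ≫ a).appTop t = (D.ι ≫ b).appTop t := by rw [h]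
  rw [Scheme.Hom.comp_appTop, Scheme.Hom.comp_appTop, Scheme.Opens.ι_appTop] at h1
  let xa : Γ(X, ⊤) := a.appTop t
  let xb : Γ(X, ⊤) := b.appTop t
  have h1' : X.presheaf.map (homOfLE (le_top : D.ι ''ᵁ ⊤ ≤ ⊤)).op xa =
      X.presheaf.map (homOfLE (le_top : D.ι ''ᵁ ⊤ ≤ ⊤)).op xb := h1
  have hle : (⊤ : X.Opens) ⊓ D ≤ D.ι ''ᵁ ⊤ := by
    rw [Scheme.Opens.ι_image_top]; exact inf_le_right
  have h2 := congrArg (X.presheaf.map (homOfLE hle).op) h1'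
  rw [res_res, res_res] at h2
  exact h2

theorem S17727_aux
    {E S : Scheme.{u}} (f : E ⟶ S) (U : S.Opens)
    (hiso : IsIso (morphismRestrict f U)) (hdense : CInt.IsSchematicallyDense (f ⁻¹ᵁ U))
    (σ : S ⟶ E) (hσ : σ ≫ f = 𝟙 S) (s : S) (W' : E.Opens) (hW' : IsAffineOpen W')
    (hsW' : σ.base s ∈ W') :
    ∃ W : E.Opens, σ.base s ∈ W ∧ IsOpenImmersion (W.ι ≫ f) := by
  haveI : IsAffine W'.toScheme := hW'
  have hσf : ∀ x : S, f.base (σ.base x) = x := fun x => by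
    have := congrArg (fun m => m.base x) hσ
    simpa using this
  let τ : E ⟶ E := f ≫ σ
  let W₀ : E.Opens := W' ⊓ τ ⁻¹ᵁ W'
  have hsW₀ : σ.base s ∈ W₀ := by
    refine ⟨hsW', ?_⟩
    change σ.base (f.base (σ.base s)) ∈ W'
    rw [hσf]; exact hsW'
  -- the two morphisms W₀ ⟶ W'
  let a : W₀.toScheme ⟶ W'.toScheme := E.homOfLE inf_le_left
  have hrange : Set.range (W₀.ι ≫ τ) ⊆ Set.range W'.ι := by
    rw [Scheme.Opens.range_ι]
    rintro _ ⟨x, rfl⟩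
    exact x.2.2
  let b : W₀.toScheme ⟶ W'.toScheme := IsOpenImmersion.lift W'.ι (W₀.ι ≫ τ) hrange
  have ha : a ≫ W'.ι = W₀.ι := E.homOfLE_ι _
  have hb : b ≫ W'.ι = W₀.ι ≫ τ := IsOpenImmersion.lift_fac _ _ _
  -- dense open
  have hD : CInt.IsSchematicallyDense (W₀.ι ⁻¹ᵁ (f ⁻¹ᵁ U)) :=
    Groth.Agent.H3.SchDenseLfp.main W₀.ι _ hdense
  -- τ is the identity on f⁻¹U
  have hmono : Mono ((f ⁻¹ᵁ U).ι ≫ f) := by
    rw [← morphismRestrict_ι]; infer_instance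
  have hτU : (f ⁻¹ᵁ U).ι ≫ τ = (f ⁻¹ᵁ U).ι := by
    have hr : Set.range ((f ⁻¹ᵁ U).ι ≫ τ) ⊆ Set.range (f ⁻¹ᵁ U).ι := by
      rw [Scheme.Opens.range_ι]
      rintro _ ⟨x, rfl⟩
      change f.base (σ.base (f.base x.1)) ∈ U
      rw [hσf]; exact x.2
    have e1 : IsOpenImmersion.lift (f ⁻¹ᵁ U).ι ((f ⁻¹ᵁ U).ι ≫ τ) hr = 𝟙 _ := by
      rw [← cancel_mono ((f ⁻¹ᵁ U).ι ≫ f), ← Category.assoc, IsOpenImmersion.lift_fac]
      simp only [τ, Category.assoc, Category.id_comp]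
      rw [hσ, Category.comp_id]
    have e2 := IsOpenImmersion.lift_fac (f ⁻¹ᵁ U).ι ((f ⁻¹ᵁ U).ι ≫ τ) hr
    rw [e1, Category.id_comp] at e2
    exact e2.symm
  have hab : a = b := by
    apply ext_of_schDense a b _ hD
    rw [← cancel_mono W'.ι, Category.assoc, Category.assoc, ha, hb]
    have hr : Set.range ((W₀.ι ⁻¹ᵁ (f ⁻¹ᵁ U)).ι ≫ W₀.ι) ⊆ Set.range (f ⁻¹ᵁ U).ι := by
      rw [Scheme.Opens.range_ι]
      rintro _ ⟨x, rfl⟩
      exact x.2
    have e2 := IsOpenImmersion.lift_fac (f ⁻¹ᵁ U).ι ((W₀.ι ⁻¹ᵁ (f ⁻¹ᵁ U)).ι ≫ W₀.ι) hr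
    rw [← Category.assoc, ← e2, Category.assoc, hτU]
  have hτ : W₀.ι ≫ f ≫ σ = W₀.ι := by
    have h0 : W₀.ι ≫ τ = W₀.ι := by rw [← hb, ← hab, ha]
    exact h0
  -- now build the isomorphism W₀ ≅ σ⁻¹ W₀
  refine ⟨W₀, hsW₀, ?_⟩
  let V₀ : S.Opens := σ ⁻¹ᵁ W₀
  have hrg : Set.range (W₀.ι ≫ f) ⊆ Set.range V₀.ι := by
    rw [Scheme.Opens.range_ι]
    rintro _ ⟨x, rfl⟩
    change σ.base (f.base x.1) ∈ W₀
    have := congrArg (fun m => m.base x) hτ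
    simp only [Scheme.Hom.comp_base, TopCat.comp_app] at this
    have h3 : σ.base (f.base (W₀.ι.base x)) ∈ W₀ := by rw [this]; exact x.2
    exact h3
  let g : W₀.toScheme ⟶ V₀.toScheme := IsOpenImmersion.lift V₀.ι (W₀.ι ≫ f) hrg
  have hg : g ≫ V₀.ι = W₀.ι ≫ f := IsOpenImmersion.lift_fac _ _ _
  let h : V₀.toScheme ⟶ W₀.toScheme := σ ∣_ W₀
  have hh : h ≫ W₀.ι = V₀.ι ≫ σ := morphismRestrict_ι σ W₀
  haveI : IsIso g := by
    refine ⟨h, ?_, ?_⟩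
    · rw [← cancel_mono W₀.ι, Category.assoc, hh, ← Category.assoc, hg, Category.assoc, hτ,
        Category.id_comp]
    · rw [← cancel_mono V₀.ι, Category.assoc, hg, ← Category.assoc, hh, Category.assoc, hσ,
        Category.comp_id, Category.id_comp]
  rw [← hg]
  infer_instance

theorem S17727_main
    {E S : Scheme.{u}} (f : E ⟶ S) (U : S.Opens)
    (hiso : IsIso (morphismRestrict f U)) (hdense : CInt.IsSchematicallyDense (f ⁻¹ᵁ U))
    (σ : S ⟶ E) (hσ : σ ≫ f = 𝟙 S) (s : S) :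
    ∃ W : E.Opens, σ.base s ∈ W ∧ IsOpenImmersion (W.ι ≫ f) := by
  obtain ⟨_, ⟨W', hW', rfl⟩, hsW', -⟩ := E.isBasis_affineOpens.exists_subset_of_mem_open
    (Set.mem_univ (σ.base s)) isOpen_univ
  exact S17727_aux f U hiso hdense σ hσ s W' hW' hsW'

end Groth.Agent.H7.SecOpen
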