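import Mathlib
import Groth.Prelude.Def_WeakSerre
import Groth.Agent.Lib.Helper7.WayOut3

/-!
# Helper7: WayOut4 — equivalence `D^+_{A'} ≃ D^+_A` for an exact pullback with derived right adjoint
-/

set_option autoImplicit false

open CategoryTheory Limits Pretriangulated DerivedCategory

namespace Groth.Agent.H7.WayOut

universe w₁ w₂ v₁ v₂ u₁ u₂

variable {A : Type u₁} [Category.{v₁} A] [Abelian A] [HasDerivedCategory.{w₁} A]
  {B : Type u₂} [Category.{v₂} B] [Abelian B] [HasDerivedCategory.{w₂} B]
  (Φ : B ⥤ A) [Φ.Additive] [PreservesFiniteLimits Φ] [PreservesFiniteColimits Φ]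
  {R : DerivedCategory A ⥤ DerivedCategory B} (adj : Φ.mapDerivedCategory ⊣ R)
  (P : ObjectProperty A) [WSerre.IsWeakSerre P] (P' : ObjectProperty B) [WSerre.IsWeakSerre P']
  (h2a : ∀ F' : B, P' F' → P (Φ.obj F'))
  (h2c : ∀ F : A, P F → ∃ F' : B, P' F' ∧ Nonempty (Φ.obj F' ≅ F))
  (h3 : ∀ F' : B, P' F' → IsIso (adj.unit.app ((singleFunctor B 0).obj F')))

include h2a h3 in
theorem part1 (Y : DerivedCategory B) (hY : WSerre.cohInPlus P' Y) :
    WSerre.cohInPlus P (Φ.mapDerivedCategory.obj Y) ∧ IsIso (adj.unit.app Y) := by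
  obtain ⟨hc, n₀, hn⟩ := hY
  refine ⟨⟨fun i => ?_, n₀, isGE_mapDerivedCategory Φ Y n₀ hn⟩, ?_⟩
  · obtain ⟨e⟩ := nonempty_homology_mapDerivedCategory_iso Φ Y i
    exact P.prop_of_iso e.symm (h2a _ (hc i))
  · exact isIso_unit_app adj (fun Z n hZ => isLE_mapDerivedCategory Φ Z n hZ)
      (fun Z n hZ => isGE_mapDerivedCategory Φ Z n hZ) Y n₀ hn (fun q => h3 _ (hc q))

include h3 in
/-- the unit at a module of `A'` placed in any degree -/
lemma isIso_unit_single (F' : B) (hF' : P' F') (a : ℤ) :
    IsIso (adj.unit.app ((singleFunctor B a).obj F')) := by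
  refine isIso_unit_app adj (fun Z n hZ => isLE_mapDerivedCategory Φ Z n hZ)
    (fun Z n hZ => isGE_mapDerivedCategory Φ Z n hZ) _ a inferInstance (fun q => ?_)
  have hq : P' ((homologyFunctor B q).obj ((singleFunctor B a).obj F')) :=
    cohIn_single P' F' hF' a q
  exact h3 _ hq

include h2c h3 in
/-- the counit at a module of `A` placed in any degree, and the cohomology of its image -/
lemma single_case (M : A) (hM : P M) (a : ℤ) :
    IsIso (adj.counit.app ((singleFunctor A a).obj M)) ∧
      WSerre.cohIn P' (R.obj ((singleFunctor A a).obj M)) := by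
  obtain ⟨F', hF', ⟨e⟩⟩ := h2c M hM
  let Z := (singleFunctor B a).obj F'
  have e1 : (singleFunctor A a).obj M ≅ Φ.mapDerivedCategory.obj Z :=
    (singleFunctor A a).mapIso e.symm ≪≫ (Φ.mapDerivedCategorySingleFunctor a).symm.app F'
  haveI hu : IsIso (adj.unit.app Z) := isIso_unit_single Φ adj P' h3 F' hF' a
  constructor
  · -- triangle identity
    have ht := adj.left_triangle_components Z
    haveI : IsIso (Φ.mapDerivedCategory.map (adj.unit.app Z)) := inferInstance
    have hc : IsIso (adj.counit.app (Φ.mapDerivedCategory.obj Z)) := by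
      have : adj.counit.app (Φ.mapDerivedCategory.obj Z) =
          inv (Φ.mapDerivedCategory.map (adj.unit.app Z)) := by
        rw [← cancel_epi (Φ.mapDerivedCategory.map (adj.unit.app Z)), ht, IsIso.hom_inv_id]
        rfl
      rw [this]; infer_instance
    have hn := adj.counit.naturality e1.hom
    have : adj.counit.app ((singleFunctor A a).obj M) =
        (R ⋙ Φ.mapDerivedCategory).map e1.hom ≫ adj.counit.app (Φ.mapDerivedCategory.obj Z) ≫
          e1.inv := by
      rw [← Category.assoc, hn, Category.assoc]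
      simp
    rw [this]
    infer_instance
  · have e2 : R.obj ((singleFunctor A a).obj M) ≅ Z :=
      R.mapIso e1 ≪≫ (asIso (adj.unit.app Z)).symm
    exact cohIn_of_iso P' e2 (cohIn_single P' F' hF' a)

include h2c h3 in
theorem part2 (X : DerivedCategory A) (hX : WSerre.cohInPlus P X) :
    WSerre.cohInPlus P' (R.obj X) ∧ IsIso (adj.counit.app X) := by
  obtain ⟨hc, n₀, hn⟩ := hX
  have hLE := fun (Z : DerivedCategory B) (n : ℤ) (hZ : Z.IsLE n) =>
    isLE_mapDerivedCategory Φ Z n hZ
  have hGE := fun (Z : DerivedCategory B) (n : ℤ) (hZ : Z.IsGE n) =>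
    isGE_mapDerivedCategory Φ Z n hZ
  have hRGE := fun (Z : DerivedCategory A) (n : ℤ) (hZ : Z.IsGE n) =>
    isGE_rightAdjoint adj hLE Z n hZ
  letI : R.CommShift ℤ := rCommShift adj
  haveI : adj.CommShift ℤ := adj.commShift_of_leftAdjoint ℤ
  haveI : R.IsTriangulated := adj.isTriangulated_rightAdjoint
  refine ⟨⟨?_, n₀, hRGE X n₀ hn⟩, ?_⟩
  · -- cohomology of `R X`
    -- bounded objects
    have hb : ∀ (N : ℕ) (X : DerivedCategory A) (a : ℤ), X.IsGE a → X.IsLE (a + N) →
        (∀ q, P ((homologyFunctor A q).obj X)) → WSerre.cohIn P' (R.obj X) := by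
      intro N
      haveI : ObjectProperty.IsClosedUnderIsomorphisms
          (fun X : DerivedCategory A => WSerre.cohIn P' (R.obj X)) :=
        ⟨fun {X Y} e h => cohIn_of_iso P' (R.mapIso e.symm) h⟩
      refine devissage_bounded (fun X : DerivedCategory A => WSerre.cohIn P' (R.obj X))
        (fun T hT h₁ h₃ => cohIn_obj₂ P' (R.mapTriangle.obj T) (R.map_distinguished T hT) h₁ h₃)
        P (fun M hM => P.prop_of_isZero hM)
        (fun M a hM => (single_case Φ adj P P' h2c h3 M hM a).2) N
    intro i
    let c : ℤ := i + 1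
    let X' := (tA.truncLT c).obj X
    have hT := tA.triangleLTGE_distinguished c X
    haveI := hn
    have hX' : WSerre.cohIn P' (R.obj X') := by
      let a : ℤ := min n₀ i
      have ha : X'.IsGE a := by
        haveI : X'.IsGE n₀ := inferInstance
        exact tA.isGE_of_ge X' a n₀ (min_le_left _ _)
      have hb' : X'.IsLE (a + ((i - a).toNat : ℕ)) := by
        have : a + ((i - a).toNat : ℤ) = i := by
          have : a ≤ i := min_le_right _ _
          omega
        rw [this]
        exact tA.isLE_truncLT_obj X c i (by omega)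
      refine hb _ X' a ha hb' (fun q => ?_)
      by_cases hq : q < c
      · haveI := isIso_homology_truncLTι X c q hq
        exact P.prop_of_iso
          (asIso ((homologyFunctor A q).map ((tA.truncLTι c).app X))).symm (hc q)
      · apply P.prop_of_isZero
        haveI : X'.IsLE (c - 1) := inferInstance
        exact X'.isZero_of_isLE (c - 1) q (by omega)
    haveI : IsIso ((homologyFunctor B i).map (R.map ((tA.truncLTι c).app X))) :=
      isIso_homology_mor₁ (R.mapTriangle.obj ((tA.triangleLTGE c).obj X))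
        (R.map_distinguished _ hT) c i (hRGE _ c inferInstance) (by omega)
    exact P'.prop_of_iso (asIso ((homologyFunctor B i).map (R.map ((tA.truncLTι c).app X))))
      (hX' i)
  · exact isIso_counit_app adj hLE hGE X n₀ hn
      (fun q => (single_case Φ adj P P' h2c h3 _ (hc q) 0).1)

end Groth.Agent.H7.WayOut
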