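import Mathlib
import Groth.Prelude.Def_W4c1liftfrobW2
import Groth.Agent.Lib.Helper6.W2Lib

/-! Descent of `W₂`-liftability (and of Frobenius liftings) along ring maps with a linear retraction. -/

set_option autoImplicit false
universe u v

namespace Groth.Agent.H7.W2D

open FrobAlg Groth.Agent.H6

section basics
variable (p : ℕ) [Fact p.Prime] (k : Type u) [Field k] [CharP k p] [PerfectRing k p]

theorem res_p : FrobAlg.res p k (p : W2 p k) = 0 := by
  rw [map_natCast]; exact CharP.cast_eq_zero k p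

theorem ker_res : RingHom.ker (FrobAlg.res p k) = Ideal.span {(p : W2 p k)} := by
  rcases W2L.ideal_cases p k (RingHom.ker (FrobAlg.res p k)) with h | h | h
  · exfalso
    have : (p : W2 p k) ∈ RingHom.ker (FrobAlg.res p k) := res_p p k
    rw [h] at this
    exact W2L.p_ne_zero p k ((Submodule.mem_bot _).mp this)
  · exfalso
    have : (1 : W2 p k) ∈ RingHom.ker (FrobAlg.res p k) := by rw [h]; trivial
    rw [RingHom.mem_ker, map_one] at this
    exact one_ne_zero this
  · exact h

theorem flat_iff_ringHom {S : Type v} [CommRing S] (f : W2 p k →+* S) :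
    f.Flat ↔ ∀ x : S, (p : S) * x = 0 → ∃ y : S, x = (p : S) * y := by
  unfold RingHom.Flat
  letI : Algebra (W2 p k) S := f.toAlgebra
  rw [W2L.flat_iff p k S]
  have key : ∀ x : S, ((p : TruncatedWittVector p 2 k)) • x = (p : S) * x := by
    intro x
    rw [Algebra.smul_def]
    show f (p : W2 p k) * x = _
    rw [map_natCast]
  constructor
  · intro h x hx
    obtain ⟨y, hy⟩ := h x (by rw [key]; exact hx)
    exact ⟨y, by rw [hy, key]⟩
  · intro h x hx
    obtain ⟨y, hy⟩ := h x (by rw [← key]; exact hx)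
    exact ⟨y, by rw [hy, key]⟩

variable {p k}
variable {A : Type v} [CommRing A] [Algebra k A] {B : Type v} [CommRing B]
  {ι : W2 p k →+* B} {π : B →+* A}

theorem ker_pi (h : IsLift p k A B ι π) : RingHom.ker π = Ideal.span {(p : B)} := by
  rw [h.ker_eq, ker_res, Ideal.map_span, Set.image_singleton, map_natCast]

theorem p_mul_p (h : IsLift p k A B ι π) : (p : B) * p = 0 := by
  have := congrArg ι (W2L.p_mul_p p k)
  rwa [map_mul, map_natCast, map_zero] at this

theorem pi_p (h : IsLift p k A B ι π) : π (p : B) = 0 := by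
  have : (p : B) ∈ RingHom.ker π := by rw [ker_pi h]; exact Ideal.subset_span rfl
  exact this

theorem mem_ker_iff (h : IsLift p k A B ι π) (x : B) : π x = 0 ↔ ∃ y, x = (p : B) * y := by
  rw [← RingHom.mem_ker, ker_pi h, Ideal.mem_span_singleton']
  constructor
  · rintro ⟨y, rfl⟩; exact ⟨y, mul_comm _ _⟩
  · rintro ⟨y, rfl⟩; exact ⟨y, mul_comm _ _⟩

theorem pi_eq_zero_of_p_mul (h : IsLift p k A B ι π) (x : B) (hx : (p : B) * x = 0) : π x = 0 := by
  rw [mem_ker_iff h]
  exact (flat_iff_ringHom p k ι).mp h.flat x hx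

theorem p_mul_eq_zero_of_pi (h : IsLift p k A B ι π) (x : B) (hx : π x = 0) : (p : B) * x = 0 := by
  obtain ⟨y, rfl⟩ := (mem_ker_iff h x).mp hx
  rw [← mul_assoc, p_mul_p h, zero_mul]

end basics


section retract
variable {p : ℕ} [Fact p.Prime] {k : Type u} [Field k] [CharP k p] [PerfectRing k p]
variable {A B : Type v} [CommRing A] [CommRing B] [Algebra k A] [Algebra k B] [Algebra A B]
  [IsScalarTower k A B]
variable (r : B →ₗ[A] A) (hr : ∀ a : A, r (algebraMap A B a) = a)
variable {B' : Type v} [CommRing B'] {ιB : W2 p k →+* B'} {πB : B' →+* B}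

/-- The preimage of `A` in `B'`. -/
def preA (πB : B' →+* B) (A : Type v) [CommRing A] [Algebra A B] : Subring B' :=
  (algebraMap A B).range.comap πB

theorem mem_preA (x : B') : x ∈ preA πB A ↔ ∃ a : A, algebraMap A B a = πB x := Iff.rfl

include hr in
theorem algebraMap_r_pi (x : preA πB A) : algebraMap A B (r (πB (x : B'))) = πB (x : B') := by
  obtain ⟨a, ha⟩ := x.2
  rw [← ha, hr]

/-- The ideal `p · ker r` of `preA`. -/
def J (hB : IsLift p k B B' ιB πB) : Ideal (preA πB A) where
  carrier := {x | ∃ y : B', (x : B') = (p : B') * y ∧ r (πB y) = 0}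
  add_mem' := by
    rintro x x' ⟨y, hy, hy0⟩ ⟨y', hy', hy0'⟩
    exact ⟨y + y', by rw [Subring.coe_add, hy, hy', mul_add], by rw [map_add, map_add, hy0, hy0', add_zero]⟩
  zero_mem' := ⟨0, by simp, by simp⟩
  smul_mem' := by
    rintro c x ⟨y, hy, hy0⟩
    refine ⟨(c : B') * y, ?_, ?_⟩
    · rw [smul_eq_mul, Subring.coe_mul, hy]; ring
    · rw [map_mul, ← algebraMap_r_pi r hr c, ← Algebra.smul_def, map_smul, hy0, smul_zero]

theorem mem_J (hB : IsLift p k B B' ιB πB) (x : preA πB A) :
    x ∈ J r hr hB ↔ ∃ y : B', (x : B') = (p : B') * y ∧ r (πB y) = 0 := Iff.rfl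

/-- the lifted algebra -/
abbrev A' (hB : IsLift p k B B' ιB πB) : Type v := preA πB A ⧸ J r hr hB

/-- the structure map `W₂(k) → preA` -/
noncomputable def ι₀ (hB : IsLift p k B B' ιB πB) : W2 p k →+* preA πB A :=
  ιB.codRestrict (preA πB A) (fun w => by
    rw [mem_preA]
    refine ⟨algebraMap k A (FrobAlg.res p k w), ?_⟩
    have := congrArg (fun f => f w) hB.comm
    simp only [RingHom.comp_apply] at this
    rw [this, ← IsScalarTower.algebraMap_apply])

/-- the reduction `preA → A` -/
def π₀ : preA πB A →+* A where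
  toFun x := r (πB (x : B'))
  map_one' := by
    show r (πB ((1 : preA πB A) : B')) = 1
    rw [Subring.coe_one, map_one, ← map_one (algebraMap A B), hr]
  map_mul' x y := by
    show r (πB ((x * y : preA πB A) : B')) = r (πB (x : B')) * r (πB (y : B'))
    rw [Subring.coe_mul, map_mul, ← algebraMap_r_pi r hr x, ← algebraMap_r_pi r hr y, ← map_mul, hr, hr, hr]
  map_zero' := by
    show r (πB ((0 : preA πB A) : B')) = 0
    rw [Subring.coe_zero, map_zero, map_zero]
  map_add' x y := by
    show r (πB ((x + y : preA πB A) : B')) = r (πB (x : B')) + r (πB (y : B'))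
    rw [Subring.coe_add, map_add, map_add]

theorem π₀_apply (x : preA πB A) : π₀ r hr x = r (πB (x : B')) := rfl

theorem J_le_ker (hB : IsLift p k B B' ιB πB) : ∀ x ∈ J r hr hB, π₀ r hr x = 0 := by
  rintro x ⟨y, hy, -⟩
  rw [π₀_apply, hy, map_mul, pi_p hB, zero_mul, map_zero]

/-- the structure map of the lifting -/
noncomputable def ιA (hB : IsLift p k B B' ιB πB) : W2 p k →+* A' r hr hB :=
  (Ideal.Quotient.mk (J r hr hB)).comp (ι₀ hB)

/-- the reduction map of the lifting -/
def πA (hB : IsLift p k B B' ιB πB) : A' r hr hB →+* A :=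
  Ideal.Quotient.lift (J r hr hB) (π₀ r hr) (J_le_ker r hr hB)

/-- Every element of `preA` killed by `π₀` is `p` times an element of `preA`, modulo `J`. -/
theorem exists_of_π₀_eq_zero (hB : IsLift p k B B' ιB πB) (x : preA πB A) (hx : π₀ r hr x = 0) :
    ∃ z : preA πB A, x - (p : preA πB A) * z ∈ J r hr hB := by
  have hx' : πB (x : B') = 0 := by
    rw [← algebraMap_r_pi r hr x, ← π₀_apply r hr, hx, map_zero]
  obtain ⟨y, hy⟩ := (mem_ker_iff hB _).mp hx'
  obtain ⟨z₀, hz₀⟩ := hB.surj (algebraMap A B (r (πB y)))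
  have hz₀' : z₀ ∈ preA πB A := ⟨_, hz₀.symm⟩
  refine ⟨⟨z₀, hz₀'⟩, y - z₀, ?_, ?_⟩
  · rw [AddSubgroupClass.coe_sub, Subring.coe_mul, Subring.coe_natCast, hy]
    show (p : B') * y - (p : B') * z₀ = (p : B') * (y - z₀)
    ring
  · rw [map_sub, map_sub, hz₀, hr, sub_self]

theorem isLift (hB : IsLift p k B B' ιB πB) :
    IsLift p k A (A' r hr hB) (ιA r hr hB) (πA r hr hB) := by
  have hιp : ιA r hr hB (p : W2 p k) = (p : A' r hr hB) := map_natCast _ _
  refine ⟨?_, ?_, ?_, ?_⟩
  · -- flatness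
    rw [flat_iff_ringHom]
    intro x hx
    obtain ⟨x, rfl⟩ := Ideal.Quotient.mk_surjective x
    have h1 : (p : preA πB A) * x ∈ J r hr hB := by
      rw [← Ideal.Quotient.eq_zero_iff_mem, map_mul, map_natCast]; exact hx
    obtain ⟨y, hy, hy0⟩ := h1
    rw [Subring.coe_mul, Subring.coe_natCast] at hy
    have h2 : πB ((x : B') - y) = 0 := by
      apply pi_eq_zero_of_p_mul hB
      rw [mul_sub, hy, sub_self]
    have h3 : π₀ r hr x = 0 := by
      rw [π₀_apply]
      rw [map_sub, sub_eq_zero] at h2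
      rw [h2, hy0]
    obtain ⟨z, hz⟩ := exists_of_π₀_eq_zero r hr hB x h3
    refine ⟨Ideal.Quotient.mk _ z, ?_⟩
    rw [← map_natCast (Ideal.Quotient.mk (J r hr hB)), ← map_mul]
    exact Ideal.Quotient.eq.mpr hz
  · -- surjectivity
    intro a
    obtain ⟨y, hy⟩ := hB.surj (algebraMap A B a)
    refine ⟨Ideal.Quotient.mk _ ⟨y, ⟨a, hy.symm⟩⟩, ?_⟩
    show π₀ r hr _ = a
    rw [π₀_apply]
    show r (πB y) = a
    rw [hy, hr]
  · -- kernel
    rw [ker_res, Ideal.map_span, Set.image_singleton, hιp]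
    apply le_antisymm
    · intro x hx
      obtain ⟨x, rfl⟩ := Ideal.Quotient.mk_surjective x
      have h3 : π₀ r hr x = 0 := hx
      obtain ⟨z, hz⟩ := exists_of_π₀_eq_zero r hr hB x h3
      rw [Ideal.mem_span_singleton']
      refine ⟨Ideal.Quotient.mk _ z, ?_⟩
      rw [← map_natCast (Ideal.Quotient.mk (J r hr hB)), ← map_mul, mul_comm]
      exact (Ideal.Quotient.eq.mpr hz).symm
    · rw [Ideal.span_le, Set.singleton_subset_iff]
      show πA r hr hB (p : A' r hr hB) = 0
      rw [map_natCast, ← map_natCast (algebraMap k A), CharP.cast_eq_zero, map_zero]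
  · -- compatibility
    ext w
    show π₀ r hr (ι₀ hB w) = algebraMap k A (FrobAlg.res p k w)
    rw [π₀_apply]
    show r (πB (ιB w)) = _
    have := congrArg (fun f => f w) hB.comm
    simp only [RingHom.comp_apply] at this
    rw [this, IsScalarTower.algebraMap_apply k A B, hr]

end retract

end Groth.Agent.H7.W2D
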