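import Mathlib

/-! Adjoining an `n`-th root of a uniformizer to a DVR gives a DVR. Abstract core. -/

namespace Groth.Agent.H7.DVRRoot

open IsLocalRing

variable {A : Type*} [CommRing A] [IsDomain A] [IsDiscreteValuationRing A]
  {B : Type*} [CommRing B] [IsDomain B] [Algebra A B] [Algebra.IsIntegral A B]

section

variable {π : A} (hπ : Irreducible π) {n : ℕ} (hn : 1 ≤ n) {x : B}
  (hx : x ^ n = algebraMap A B π)

include hπ hn hx

theorem mem_jacobson : x ∈ Ideal.jacobson (⊥ : Ideal B) := by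
  rw [Ideal.jacobson, Ideal.mem_sInf]
  rintro M ⟨-, hM⟩
  haveI := hM
  have h1 : (M.comap (algebraMap A B)).IsMaximal :=
    Ideal.isMaximal_comap_of_isIntegral_of_isMaximal M
  have h2 : M.comap (algebraMap A B) = maximalIdeal A := IsLocalRing.eq_maximalIdeal h1
  have h3 : π ∈ M.comap (algebraMap A B) := by
    rw [h2, mem_maximalIdeal, mem_nonunits_iff]
    exact hπ.not_isUnit
  rw [Ideal.mem_comap, ← hx] at h3
  exact hM.isPrime.mem_of_pow_mem n h3

theorem isUnit_add (u : Aˣ) (c : B) : IsUnit (algebraMap A B u + x * c) := by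
  have hu : IsUnit (algebraMap A B u) := (u.isUnit).map (algebraMap A B)
  obtain ⟨v, hv⟩ := hu
  have h1 := (Ideal.mem_jacobson_bot.mp (mem_jacobson hπ hn hx)) (↑v⁻¹ * c)
  have h2 : algebraMap A B u + x * c = ↑v * (x * (↑v⁻¹ * c) + 1) := by
    have hvv : (↑v : B) * ↑v⁻¹ = 1 := Units.mul_inv v
    calc algebraMap A B u + x * c = ↑v + x * ((↑v : B) * ↑v⁻¹) * c := by rw [hvv, mul_one, hv]
      _ = _ := by ring
  rw [h2]
  exact v.isUnit.mul h1

theorem x_ne_zero (hinj : Function.Injective (algebraMap A B)) : x ≠ 0 := by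
  intro h
  rw [h, zero_pow (by omega)] at hx
  exact hπ.ne_zero (hinj (by rw [← hx, map_zero]))

theorem not_isUnit_x : ¬ IsUnit x := by
  intro h
  have h1 := Ideal.eq_top_of_isUnit_mem _ (mem_jacobson hπ hn hx) h
  have h2 : (1 : B) ∈ Ideal.jacobson (⊥ : Ideal B) := by rw [h1]; exact Submodule.mem_top
  have h3 := Ideal.mem_jacobson_bot.mp h2 (-1)
  simp at h3

/-- the key factorization. -/
theorem exists_eq_pow_mul_unit (hinj : Function.Injective (algebraMap A B))
    (hspan : ∀ b : B, ∃ a : Fin n → A, b = ∑ i, algebraMap A B (a i) * x ^ (i : ℕ))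
    (b : B) (hb : b ≠ 0) : ∃ (m : ℕ) (w : Bˣ), b = x ^ m * w := by
  classical
  obtain ⟨a, ha⟩ := hspan b
  -- nonzero coefficients
  let s : Finset (Fin n) := Finset.univ.filter fun i => a i ≠ 0
  have hs : s.Nonempty := by
    by_contra hne
    rw [Finset.not_nonempty_iff_eq_empty] at hne
    apply hb
    rw [ha]
    refine Finset.sum_eq_zero fun i _ => ?_
    have : i ∉ s := by rw [hne]; exact Finset.notMem_empty i
    have h0 : a i = 0 := by
      by_contra h
      exact this (Finset.mem_filter.mpr ⟨Finset.mem_univ _, h⟩)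
    rw [h0, map_zero, zero_mul]
  have hex : ∀ i : Fin n, ∃ (e : ℕ) (u : Aˣ), a i ≠ 0 → a i = ↑u * π ^ e := by
    intro i
    by_cases h : a i = 0
    · exact ⟨0, 1, fun h' => absurd h h'⟩
    · obtain ⟨e, u, hu⟩ := IsDiscreteValuationRing.eq_unit_mul_pow_irreducible h hπ
      exact ⟨e, u, fun _ => hu⟩
  choose e u heu using hex
  let v : Fin n → ℕ := fun i => n * e i + i
  have hv_inj : ∀ i j : Fin n, v i = v j → i = j := by
    intro i j hij
    have h1 : (n * e i + (i : ℕ)) % n = (n * e j + (j : ℕ)) % n := congrArg (· % n) hij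
    rw [Nat.mul_add_mod, Nat.mul_add_mod, Nat.mod_eq_of_lt i.2, Nat.mod_eq_of_lt j.2] at h1
    exact Fin.ext h1
  obtain ⟨i0, hi0, hmin⟩ := Finset.exists_min_image s v hs
  have hterm : ∀ i ∈ s, algebraMap A B (a i) * x ^ (i : ℕ) = algebraMap A B (u i) * x ^ v i := by
    intro i hi
    have hai : a i ≠ 0 := (Finset.mem_filter.mp hi).2
    rw [heu i hai, map_mul, map_pow, ← hx, ← pow_mul, mul_assoc, ← pow_add]
  have hb2 : b = ∑ i ∈ s, algebraMap A B (u i) * x ^ v i := by
    rw [ha, ← Finset.sum_congr rfl hterm]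
    symm
    apply Finset.sum_subset (Finset.subset_univ _)
    intro i _ hi
    have h0 : a i = 0 := by
      by_contra h
      exact hi (Finset.mem_filter.mpr ⟨Finset.mem_univ _, h⟩)
    rw [h0, map_zero, zero_mul]
  -- split off the minimal term
  have hgt : ∀ i ∈ s.erase i0, v i0 + 1 ≤ v i := by
    intro i hi
    have h1 := hmin i (Finset.mem_of_mem_erase hi)
    have h2 : v i ≠ v i0 := fun h => (Finset.ne_of_mem_erase hi) (hv_inj _ _ h)
    omega
  let c : B := ∑ i ∈ s.erase i0, algebraMap A B (u i) * x ^ (v i - (v i0 + 1))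
  have hb3 : b = x ^ v i0 * (algebraMap A B (u i0) + x * c) := by
    rw [hb2, ← Finset.add_sum_erase s _ hi0, mul_add, mul_comm (x ^ v i0)]
    congr 1
    rw [Finset.mul_sum, Finset.mul_sum]
    refine Finset.sum_congr rfl fun i hi => ?_
    have h1 := hgt i hi
    have h2 : v i = v i0 + 1 + (v i - (v i0 + 1)) := by omega
    conv_lhs => rw [h2]
    rw [pow_add, pow_succ]
    ring
  obtain ⟨w, hw⟩ := isUnit_add hπ hn hx (u i0) c
  exact ⟨v i0, w, by rw [hw]; exact hb3⟩

theorem irreducible_x (hinj : Function.Injective (algebraMap A B))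
    (hspan : ∀ b : B, ∃ a : Fin n → A, b = ∑ i, algebraMap A B (a i) * x ^ (i : ℕ)) :
    Irreducible x := by
  have hx0 := x_ne_zero hπ hn hx hinj
  have hnu := not_isUnit_x hπ hn hx
  refine ⟨hnu, ?_⟩
  intro y z hyz
  have hy0 : y ≠ 0 := by rintro rfl; exact hx0 (by rw [hyz, zero_mul])
  have hz0 : z ≠ 0 := by rintro rfl; exact hx0 (by rw [hyz, mul_zero])
  obtain ⟨p, w, hy⟩ := exists_eq_pow_mul_unit hπ hn hx hinj hspan y hy0
  obtain ⟨q, w', hz⟩ := exists_eq_pow_mul_unit hπ hn hx hinj hspan z hz0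
  rcases Nat.eq_zero_or_pos p with hp | hp
  · left
    rw [hy, hp, pow_zero, one_mul]
    exact w.isUnit
  rcases Nat.eq_zero_or_pos q with hq | hq
  · right
    rw [hz, hq, pow_zero, one_mul]
    exact w'.isUnit
  exfalso
  apply hnu
  -- x = x^2 * (...)
  have h1 : x = x * (x * (x ^ (p - 1) * x ^ (q - 1) * (w * w'))) := by
    conv_lhs => rw [hyz, hy, hz]
    have hp' : p = (p - 1) + 1 := by omega
    have hq' : q = (q - 1) + 1 := by omega
    conv_lhs => rw [hp', hq']
    rw [pow_succ, pow_succ]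
    ring
  have h2 : x * (x ^ (p - 1) * x ^ (q - 1) * (w * w')) = 1 := by
    have h3 : x * 1 = x * (x * (x ^ (p - 1) * x ^ (q - 1) * (w * w'))) := by rw [mul_one]; exact h1
    exact (mul_left_cancel₀ hx0 h3).symm
  exact IsUnit.of_mul_eq_one _ h2

theorem hasUnitMulPowIrreducibleFactorization (hinj : Function.Injective (algebraMap A B))
    (hspan : ∀ b : B, ∃ a : Fin n → A, b = ∑ i, algebraMap A B (a i) * x ^ (i : ℕ)) :
    IsDiscreteValuationRing.HasUnitMulPowIrreducibleFactorization B := by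
  refine ⟨x, irreducible_x hπ hn hx hinj hspan, ?_⟩
  intro b hb
  obtain ⟨m, w, hw⟩ := exists_eq_pow_mul_unit hπ hn hx hinj hspan b hb
  exact ⟨m, w, hw.symm⟩

end

end Groth.Agent.H7.DVRRoot
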