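import Mathlib
import Groth.Agent.Lib.Helper7.DVRRoot1

/-! `A[X]/(X^n - π)` for a DVR `A` with uniformizer `π`. -/

namespace Groth.Agent.H7.DVRRoot

open IsLocalRing Polynomial

variable {A : Type*} [CommRing A] [IsDomain A] [IsDiscreteValuationRing A]
  {π : A} (hπ : Irreducible π) {n : ℕ} (hn : 1 ≤ n)

include hπ hn

theorem irreducible_X_pow_sub_C : Irreducible (X ^ n - C π : A[X]) := by
  have hmonic : (X ^ n - C π : A[X]).Monic := monic_X_pow_sub_C π (by omega)
  have hdeg : (X ^ n - C π : A[X]).natDegree = n := natDegree_X_pow_sub_C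
  have hP : (Ideal.span {π}).IsPrime :=
    (Ideal.span_singleton_prime hπ.ne_zero).mpr hπ.prime
  refine irreducible_of_eisenstein_criterion hP ?_ ?_ ?_ ?_ hmonic.isPrimitive
  · rw [hmonic.leadingCoeff]
    intro h
    exact hP.ne_top ((Ideal.eq_top_iff_one _).mpr h)
  · intro k hk
    rw [degree_eq_natDegree hmonic.ne_zero, hdeg] at hk
    have hk' : k < n := by exact_mod_cast hk
    rw [coeff_sub, coeff_X_pow, coeff_C, if_neg (by omega)]
    by_cases h0 : k = 0
    · rw [if_pos h0, zero_sub]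
      exact neg_mem (Ideal.mem_span_singleton_self π)
    · rw [if_neg h0, sub_zero]
      exact zero_mem _
  · rw [degree_eq_natDegree hmonic.ne_zero, hdeg]
    exact_mod_cast hn
  · rw [coeff_sub, coeff_X_pow, coeff_C_zero, if_neg (by omega), zero_sub, neg_mem_iff,
      Ideal.span_singleton_pow, Ideal.mem_span_singleton]
    intro h
    obtain ⟨c, hc⟩ := h
    have h1 : π * 1 = π * (π * c) := by rw [mul_one, ← mul_assoc, ← sq]; exact hc
    have h2 := mul_left_cancel₀ hπ.ne_zero h1
    exact hπ.not_isUnit (IsUnit.of_mul_eq_one _ h2.symm)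

theorem isDomain_adjoinRoot : IsDomain (AdjoinRoot (X ^ n - C π : A[X])) :=
  AdjoinRoot.isDomain_of_prime (irreducible_X_pow_sub_C hπ hn).prime

theorem root_pow :
    (AdjoinRoot.root (X ^ n - C π : A[X])) ^ n =
      algebraMap A (AdjoinRoot (X ^ n - C π : A[X])) π := by
  have h := AdjoinRoot.eval₂_root (X ^ n - C π : A[X])
  rw [eval₂_sub, eval₂_pow, eval₂_X, eval₂_C, sub_eq_zero] at h
  rw [h, AdjoinRoot.algebraMap_eq]

theorem algebraMap_injective :
    Function.Injective (algebraMap A (AdjoinRoot (X ^ n - C π : A[X]))) := by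
  rw [AdjoinRoot.algebraMap_eq]
  apply AdjoinRoot.of.injective_of_degree_ne_zero
  have hmonic : (X ^ n - C π : A[X]).Monic := monic_X_pow_sub_C π (by omega)
  rw [degree_eq_natDegree hmonic.ne_zero, natDegree_X_pow_sub_C]
  exact_mod_cast (by omega : n ≠ 0)

theorem span_root (b : AdjoinRoot (X ^ n - C π : A[X])) :
    ∃ a : Fin n → A, b = ∑ i, algebraMap A (AdjoinRoot (X ^ n - C π : A[X])) (a i) *
      (AdjoinRoot.root (X ^ n - C π : A[X])) ^ (i : ℕ) := by
  have hmonic : (X ^ n - C π : A[X]).Monic := monic_X_pow_sub_C π (by omega)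
  have hdeg : (X ^ n - C π : A[X]).natDegree = n := natDegree_X_pow_sub_C
  let pb := AdjoinRoot.powerBasis' hmonic
  have h1 := pb.basis.sum_repr b
  have hdim : pb.dim = n := hdeg
  refine ⟨fun i => pb.basis.repr b (Fin.cast hdim.symm i), ?_⟩
  refine h1.symm.trans ?_
  rw [← Equiv.sum_comp (finCongr hdim.symm)]
  refine Finset.sum_congr rfl fun i _ => ?_
  rw [Algebra.smul_def, PowerBasis.coe_basis, finCongr_apply]
  rfl

end Groth.Agent.H7.DVRRoot
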