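import Mathlib
import Groth.Prelude.Def_EtRam
import Groth.Agent.Lib.Helper7.DVRRoot2

/-! Totally ramified extension `A → A[x]/(x^n - π)`. Abstract version. -/

namespace Groth.Agent.H7.DVRRoot

open IsLocalRing

universe u

section Split

variable {A : Type*} [CommRing A] {B : Type*} [CommRing B] [Algebra A B]

theorem exists_eq_add_mul {n : ℕ} (hn : 1 ≤ n) {x : B}
    (hspan : ∀ b : B, ∃ a : Fin n → A, b = ∑ i, algebraMap A B (a i) * x ^ (i : ℕ)) (b : B) :
    ∃ (a₀ : A) (c : B), b = algebraMap A B a₀ + x * c := by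
  obtain ⟨m, rfl⟩ : ∃ m, n = m + 1 := ⟨n - 1, by omega⟩
  obtain ⟨a, ha⟩ := hspan b
  refine ⟨a 0, ∑ i : Fin m, algebraMap A B (a i.succ) * x ^ (i : ℕ), ?_⟩
  rw [ha, Fin.sum_univ_succ, Finset.mul_sum]
  congr 1
  · simp
  · refine Finset.sum_congr rfl fun i _ => ?_
    rw [Fin.val_succ, pow_succ]
    ring

end Split

section Val

variable {K : Type*} [Field K]

theorem valuation_lt_one_iff_inv_notMem (V : ValuationSubring K) {y : K} (hy : y ≠ 0) :
    V.valuation y < 1 ↔ y⁻¹ ∉ V := by
  rw [← V.valuation_le_one_iff, map_inv₀, not_le]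
  have h0 : V.valuation y ≠ 0 := (V.valuation.ne_zero_iff).mpr hy
  constructor
  · intro h
    exact (one_lt_inv₀ (zero_lt_iff.mpr h0)).mpr h
  · intro h
    exact (one_lt_inv₀ (zero_lt_iff.mpr h0)).mp h

end Val

section Main

variable {A : Type u} [CommRing A] [IsDomain A] [IsDiscreteValuationRing A]
  {B : Type u} [CommRing B] [IsDomain B] [IsDiscreteValuationRing B] [Algebra A B]
  {π : A} (hπ : Irreducible π) {n : ℕ} (hn : 1 ≤ n) {x : B} (hxirr : Irreducible x)
  (hx : x ^ n = algebraMap A B π) (hinj : Function.Injective (algebraMap A B))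
  (hspan : ∀ b : B, ∃ a : Fin n → A, b = ∑ i, algebraMap A B (a i) * x ^ (i : ℕ))
  (K₁ : Type u) [Field K₁] [Algebra B K₁] [IsFractionRing B K₁]

/-- the valuation subring of `K₁` attached to `B`. -/
noncomputable def VB : ValuationSubring K₁ := (ValuationRing.valuation B K₁).valuationSubring

theorem mem_VB (y : K₁) :
    y ∈ (VB (B := B) K₁) ↔ ∃ b : B, algebraMap B K₁ b = y := by
  rw [VB, Valuation.mem_valuationSubring_iff, ← ValuationRing.mem_integer_iff]
  rfl

include hπ hn hxirr hx hinj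

theorem dominates_VB :
    EtRam.Dominates A ((algebraMap B K₁).comp (algebraMap A B)) (VB (B := B) K₁) := by
  refine ⟨fun a => (mem_VB K₁ _).mpr ⟨algebraMap A B a, rfl⟩, ?_⟩
  intro a ha
  by_cases ha0 : a = 0
  · rw [ha0, map_zero, map_zero]
    exact zero_lt_one
  have hinjB : Function.Injective (algebraMap B K₁) := IsFractionRing.injective B K₁
  have hne : ((algebraMap B K₁).comp (algebraMap A B)) a ≠ 0 := by
    intro h
    rw [RingHom.comp_apply] at h
    exact ha0 (hinj (hinjB (by rw [h, map_zero, map_zero])))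
  rw [valuation_lt_one_iff_inv_notMem _ hne, mem_VB]
  rintro ⟨b, hb⟩
  rw [(Irreducible.maximalIdeal_eq hπ), Ideal.mem_span_singleton] at ha
  obtain ⟨a', rfl⟩ := ha
  have h1 : algebraMap B K₁ (algebraMap A B (π * a') * b) = 1 := by
    rw [map_mul, hb]
    exact mul_inv_cancel₀ hne
  have h2 : algebraMap A B (π * a') * b = 1 := hinjB (by rw [h1, map_one])
  rw [map_mul, ← hx] at h2
  have hn' : n = (n - 1) + 1 := by omega
  rw [hn', pow_succ] at h2
  have h3 : x * (x ^ (n - 1) * algebraMap A B a' * b) = 1 := by rw [← h2]; ring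
  exact hxirr.not_isUnit (IsUnit.of_mul_eq_one _ h3)

include hspan

theorem eq_VB_of_dominates (V : ValuationSubring K₁)
    (hV : EtRam.Dominates A ((algebraMap B K₁).comp (algebraMap A B)) V) :
    algebraMap B K₁ x ∈ V ∧ V.valuation (algebraMap B K₁ x) < 1 ∧ V = VB (B := B) K₁ := by
  have hπm : π ∈ maximalIdeal A := by
    rw [mem_maximalIdeal, mem_nonunits_iff]; exact hπ.not_isUnit
  have h1 : V.valuation (algebraMap B K₁ x) ^ n < 1 := by
    have := hV.2 π hπm
    rwa [RingHom.comp_apply, ← hx, map_pow, map_pow] at this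
  have hxlt : V.valuation (algebraMap B K₁ x) < 1 := by
    by_contra h
    rw [not_lt] at h
    exact absurd (one_le_pow₀ h (n := n)) (not_le.mpr h1)
  have hxV : algebraMap B K₁ x ∈ V := (V.valuation_le_one_iff _).mp hxlt.le
  have hBV : ∀ b : B, algebraMap B K₁ b ∈ V := by
    intro b
    obtain ⟨a, rfl⟩ := hspan b
    rw [map_sum]
    refine sum_mem fun i _ => ?_
    rw [map_mul, map_pow]
    exact mul_mem (hV.1 (a i)) (pow_mem hxV _)
  refine ⟨hxV, hxlt, ?_⟩
  apply le_antisymm
  · intro y hy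
    by_contra hy'
    rcases (VB (B := B) K₁).mem_or_inv_mem y with h | h
    · exact hy' h
    obtain ⟨b, hb⟩ := (mem_VB K₁ _).mp h
    have hy0 : y ≠ 0 := by
      rintro rfl
      exact hy' (zero_mem _)
    have hbnu : ¬ IsUnit b := by
      intro hu
      obtain ⟨u, rfl⟩ := hu
      apply hy'
      rw [mem_VB]
      refine ⟨↑u⁻¹, ?_⟩
      have h5 : algebraMap B K₁ (↑u⁻¹ : B) * y⁻¹ = 1 := by
        rw [← hb, ← map_mul, Units.inv_mul, map_one]
      exact (eq_inv_of_mul_eq_one_left h5).trans (inv_inv y)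
    have hbm : b ∈ maximalIdeal B := by rwa [mem_maximalIdeal, mem_nonunits_iff]
    rw [Irreducible.maximalIdeal_eq hxirr, Ideal.mem_span_singleton] at hbm
    obtain ⟨c, rfl⟩ := hbm
    have h6 : V.valuation y⁻¹ < 1 := by
      rw [← hb, map_mul, map_mul]
      calc V.valuation (algebraMap B K₁ x) * V.valuation (algebraMap B K₁ c)
          ≤ V.valuation (algebraMap B K₁ x) * 1 :=
            mul_le_mul_right ((V.valuation_le_one_iff _).mpr (hBV c)) _
        _ = V.valuation (algebraMap B K₁ x) := mul_one _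
        _ < 1 := hxlt
    rw [valuation_lt_one_iff_inv_notMem _ (inv_ne_zero hy0), inv_inv] at h6
    exact h6 hy
  · intro y hy
    obtain ⟨b, rfl⟩ := (mem_VB K₁ _).mp hy
    exact hBV b

theorem isTotallyRamified :
    EtRam.IsTotallyRamified A ((algebraMap B K₁).comp (algebraMap A B)) := by
  refine ⟨⟨_, dominates_VB hπ hn hxirr hx hinj K₁⟩, ?_, ?_⟩
  · intro V V' hV hV'
    rw [(eq_VB_of_dominates hπ hn hxirr hx hinj hspan K₁ V hV).2.2,
      (eq_VB_of_dominates hπ hn hxirr hx hinj hspan K₁ V' hV').2.2]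
  · intro V hV z
    obtain ⟨hxV, hxlt, hVB⟩ := eq_VB_of_dominates hπ hn hxirr hx hinj hspan K₁ V hV
    obtain ⟨y, rfl⟩ := IsLocalRing.residue_surjective z
    have hy : (y : K₁) ∈ VB (B := B) K₁ := by rw [← hVB]; exact y.2
    obtain ⟨b, hb⟩ := (mem_VB K₁ _).mp hy
    obtain ⟨a₀, c, hbc⟩ := exists_eq_add_mul hn hspan b
    refine ⟨a₀, ?_⟩
    show IsLocalRing.residue V _ = IsLocalRing.residue V y
    rw [← sub_eq_zero, ← map_sub, IsLocalRing.residue_eq_zero_iff, V.valuation_lt_one_iff]
    have hcV : algebraMap B K₁ c ∈ V := by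
      rw [hVB, mem_VB]; exact ⟨c, rfl⟩
    have h7 : ((RingHom.codRestrict ((algebraMap B K₁).comp (algebraMap A B)) V hV.1 a₀ - y : V) : K₁)
        = - (algebraMap B K₁ x * algebraMap B K₁ c) := by
      show ((algebraMap B K₁).comp (algebraMap A B)) a₀ - (y : K₁) = _
      rw [← hb, hbc, map_add, map_mul, RingHom.comp_apply]
      ring
    rw [h7, Valuation.map_neg, map_mul]
    calc V.valuation (algebraMap B K₁ x) * V.valuation (algebraMap B K₁ c)
        ≤ V.valuation (algebraMap B K₁ x) * 1 :=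
          mul_le_mul_right ((V.valuation_le_one_iff _).mpr hcV) _
      _ = V.valuation (algebraMap B K₁ x) := mul_one _
      _ < 1 := hxlt

end Main

end Groth.Agent.H7.DVRRoot
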