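import Mathlib
import Groth.Prelude.Def_EtRam
import Groth.Agent.Lib.Helper7.DVRRoot3

/-! Assembly: `A[X]/(X^n - π)`. -/

namespace Groth.Agent.H7.DVRRoot

open IsLocalRing Polynomial

universe u

theorem main (A : Type u) [CommRing A] [IsDomain A] [IsDiscreteValuationRing A] (π : A)
    (hπ : Irreducible π) (n : ℕ) (hn : 1 ≤ n) :
    Irreducible (X ^ n - C π : A[X]) ∧
    ∃ (_ : IsDomain (AdjoinRoot (X ^ n - C π : A[X])))
      (_ : IsDiscreteValuationRing (AdjoinRoot (X ^ n - C π : A[X]))),
      IsIntegrallyClosed (AdjoinRoot (X ^ n - C π : A[X])) ∧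
      (IsLocalRing.maximalIdeal A).map (algebraMap A (AdjoinRoot (X ^ n - C π : A[X]))) =
        IsLocalRing.maximalIdeal (AdjoinRoot (X ^ n - C π : A[X])) ^ n ∧
      ∀ (K₁ : Type u) [Field K₁] [Algebra (AdjoinRoot (X ^ n - C π : A[X])) K₁]
        [IsFractionRing (AdjoinRoot (X ^ n - C π : A[X])) K₁],
        EtRam.IsTotallyRamified A ((algebraMap (AdjoinRoot (X ^ n - C π : A[X])) K₁).comp
          (algebraMap A (AdjoinRoot (X ^ n - C π : A[X])))) := by
  have hdom : IsDomain (AdjoinRoot (X ^ n - C π : A[X])) := isDomain_adjoinRoot hπ hn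
  have hmonic : (X ^ n - C π : A[X]).Monic := monic_X_pow_sub_C π (by omega)
  haveI : Module.Finite A (AdjoinRoot (X ^ n - C π : A[X])) := hmonic.finite_adjoinRoot
  haveI : Algebra.IsIntegral A (AdjoinRoot (X ^ n - C π : A[X])) := Algebra.IsIntegral.of_finite _ _
  have hx := root_pow hπ hn
  have hinj := algebraMap_injective hπ hn
  have hspan := span_root hπ hn
  have hfac := hasUnitMulPowIrreducibleFactorization hπ hn hx hinj hspan
  have hdvr : IsDiscreteValuationRing (AdjoinRoot (X ^ n - C π : A[X])) :=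
    IsDiscreteValuationRing.ofHasUnitMulPowIrreducibleFactorization hfac
  have hirr := irreducible_x hπ hn hx hinj hspan
  refine ⟨irreducible_X_pow_sub_C hπ hn, hdom, hdvr, inferInstance, ?_, ?_⟩
  · rw [Irreducible.maximalIdeal_eq hπ, Irreducible.maximalIdeal_eq hirr, Ideal.map_span,
      Set.image_singleton, Ideal.span_singleton_pow, hx]
  · intro K₁ _ _ _
    exact isTotallyRamified hπ hn hirr hx hinj hspan K₁

end Groth.Agent.H7.DVRRoot
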