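import Mathlib
import Groth.Prelude.Def_BigSite
import Groth.Agent.Lib.Helper7.CI3

/-! # Base change along a closed immersion is almost cocontinuous on the big sites: core. -/

set_option autoImplicit false
set_option linter.style.haveILetI false
set_option linter.unusedVariables false
set_option linter.unusedSectionVars false
universe u
open CategoryTheory CategoryTheory.Limits AlgebraicGeometry Opposite

namespace Groth.Agent.H7.ACB

/-- the lifting property of a class of morphisms along closed immersions. -/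
def LiftProp (P : MorphismProperty Scheme.{u}) : Prop :=
  ∀ {W V U : Scheme.{u}} (c : W ⟶ V) [IsClosedImmersion c] (g : U ⟶ W), P g → ∀ x : U,
    ∃ (V' : Scheme.{u}) (q : V' ⟶ V) (_ : P q) (h : pullback q c ⟶ U),
      h ≫ g = pullback.snd q c ∧ x ∈ Set.range h

theorem liftProp_etale : LiftProp @Etale := by
  intro W V U c _ g hg x
  haveI : Etale g := hg
  obtain ⟨V', q, hq, h, h1, -, h3⟩ := Groth.Agent.H7.CI.exists_etale_lift c g x
  exact ⟨V', q, hq, h, h1, h3⟩

theorem core (P : MorphismProperty Scheme.{u}) [P.IsMultiplicative] [P.IsStableUnderBaseChange]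
    (hopen : ∀ {A B : Scheme.{u}} (j : A ⟶ B) [IsOpenImmersion j], P j)
    (hlift : LiftProp P)
    {W V : Scheme.{u}} (c : W ⟶ V) [IsClosedImmersion c] (R₀ : Sieve W)
    (hR₀ : R₀ ∈ (Scheme.precoverage P).toGrothendieck W) :
    ∃ R₀' : Sieve V, R₀' ∈ (Scheme.precoverage P).toGrothendieck V ∧
      ∀ ⦃V' : Scheme.{u}⦄ (g : V' ⟶ V), R₀' g → ∀ {Q : Scheme.{u}} (a : Q ⟶ V') (b : Q ⟶ W),
        IsPullback a b g c → IsEmpty Q ∨ R₀ b := by
  rw [Precoverage.mem_toGrothendieck_iff_of_isStableUnderComposition] at hR₀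
  obtain ⟨S₀, hS₀, hle⟩ := hR₀
  obtain ⟨ι, Wj, gj, rfl⟩ := S₀.exists_eq_ofArrows
  rw [Scheme.ofArrows_mem_precoverage_iff] at hS₀
  obtain ⟨hsurj, hP⟩ := hS₀
  choose jw hjw using hsurj
  choose wj hwj using hjw
  have hl := fun w : W => hlift c (gj (jw w)) (hP (jw w)) (wj w)
  choose V' q hq h hh hx using hl
  -- the open complement
  let V₀ : V.Opens := ⟨(Set.range c)ᶜ, c.isClosedEmbedding.isClosed_range.isOpen_compl⟩
  let T : Option W → Scheme.{u} := fun o => o.elim (V₀ : Scheme.{u}) V'
  let t : ∀ o, T o ⟶ V := fun o => match o with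
    | none => V₀.ι
    | some w => q w
  have hcov : Presieve.ofArrows T t ∈ Scheme.precoverage P V := by
    rw [Scheme.ofArrows_mem_precoverage_iff]
    refine ⟨fun v => ?_, fun o => ?_⟩
    · by_cases hv : v ∈ Set.range c
      · obtain ⟨w, rfl⟩ := hv
        obtain ⟨y, hy⟩ := hx w
        refine ⟨some w, (pullback.fst (q w) c) y, ?_⟩
        change (q w) ((pullback.fst (q w) c) y) = c w
        rw [← Scheme.Hom.comp_apply, pullback.condition, Scheme.Hom.comp_apply]
        congr 1
        have e1 : (pullback.snd (q w) c) y = (gj (jw w)) ((h w) y) := by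
          rw [← Scheme.Hom.comp_apply, hh w]
        rw [e1, hy]
        exact hwj w
      · refine ⟨none, ⟨v, hv⟩, rfl⟩
    · cases o with
      | none => exact hopen V₀.ι
      | some w => exact hq w
  refine ⟨Sieve.generate (Presieve.ofArrows T t), Precoverage.generate_mem_toGrothendieck hcov, ?_⟩
  intro V'' g hg Q a b sq
  obtain ⟨Z, e, m, hm, rfl⟩ := hg
  obtain ⟨o⟩ := hm
  cases o with
  | none =>
    left
    constructor
    intro z
    have h1 : (e ≫ V₀.ι) (a z) = c (b z) := by
      rw [← Scheme.Hom.comp_apply, ← Scheme.Hom.comp_apply, sq.w]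
    have h2 : (e ≫ V₀.ι) (a z) ∈ (V₀ : Set V) := by
      rw [Scheme.Hom.comp_apply, ← Scheme.Opens.range_ι V₀]
      exact ⟨_, rfl⟩
    exact h2 (h1 ▸ ⟨b z, rfl⟩)
  | some w =>
    right
    let e' : V'' ⟶ V' w := e
    have sq' : IsPullback a b (e' ≫ q w) c := sq
    have hb : b = pullback.lift (a ≫ e') b (by rw [Category.assoc]; exact sq'.w) ≫ h w ≫
        gj (jw w) := by
      rw [hh w, pullback.lift_snd]
    rw [hb]
    refine R₀.downward_closed ?_ _
    refine R₀.downward_closed ?_ _
    exact hle _ _ (Presieve.ofArrows.mk (jw w))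

theorem almostCocont_of_liftProp (P : MorphismProperty Scheme.{u}) [P.IsMultiplicative]
    [P.IsStableUnderBaseChange]
    (hopen : ∀ {A B : Scheme.{u}} (j : A ⟶ B) [IsOpenImmersion j], P j)
    (hlift : LiftProp P) {X Y : Scheme.{u}} (f : X ⟶ Y) [IsClosedImmersion f] :
    BigSite.IsAlmostCocontinuous (Over.pullback f) (QuotSh.J (Scheme.precoverage P) Y)
      (QuotSh.J (Scheme.precoverage P) X) := by
  intro V R hR
  let W : Scheme.{u} := ((Over.pullback f).obj V).left
  let c : W ⟶ V.left := pullback.fst V.hom f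
  haveI : IsClosedImmersion c := inferInstanceAs (IsClosedImmersion (pullback.fst V.hom f))
  have hR₀ : Sieve.overEquiv _ R ∈ (Scheme.precoverage P).toGrothendieck W :=
    (GrothendieckTopology.mem_over_iff _ _).1 hR
  obtain ⟨R₀', hR₀', hprop⟩ := core P hopen hlift c _ hR₀
  refine ⟨(Sieve.overEquiv V).symm R₀',
    GrothendieckTopology.overEquiv_symm_mem_over _ V R₀' hR₀', ?_⟩
  intro V' g hg
  have hg' : R₀' g.left := (Sieve.overEquiv_symm_iff _ _).1 hg
  let Q : Scheme.{u} := ((Over.pullback f).obj V').left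
  let a : Q ⟶ V'.left := pullback.fst V'.hom f
  let b : Q ⟶ W := ((Over.pullback f).map g).left
  have hb1 : b ≫ pullback.fst V.hom f = a ≫ g.left := pullback.lift_fst _ _ _
  have hb2 : b ≫ pullback.snd V.hom f = pullback.snd V'.hom f := pullback.lift_snd _ _ _
  have sq : IsPullback a b g.left c := by
    have big : IsPullback (pullback.snd V'.hom f) a f V'.hom :=
      (IsPullback.of_hasPullback V'.hom f).flip
    have right : IsPullback (pullback.snd V.hom f) c f V.hom :=
      (IsPullback.of_hasPullback V.hom f).flip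
    have big' : IsPullback (b ≫ pullback.snd V.hom f) a f (g.left ≫ V.hom) := by
      have e2 : g.left ≫ V.hom = V'.hom := Over.w g
      rw [hb2, e2]
      exact big
    exact (IsPullback.of_right big' hb1 right).flip
  rcases hprop g.left hg' a b sq with he | hb
  · left
    rw [GrothendieckTopology.mem_over_iff, map_bot]
    haveI : IsEmpty ↥((Over.pullback f).obj V').left := he
    have h0 := Precoverage.generate_mem_toGrothendieck
      (Scheme.bot_mem_precoverage P ((Over.pullback f).obj V').left)
    have h1 : Sieve.generate (⊥ : Presieve ((Over.pullback f).obj V').left) = ⊥ := by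
      apply le_antisymm _ bot_le
      rintro Z k ⟨Z', k1, k2, hk, -⟩
      exact hk.elim
    rwa [h1] at h0
  · right
    have h2 : ((Sieve.overEquiv _).symm (Sieve.overEquiv _ R)) ((Over.pullback f).map g) :=
      (Sieve.overEquiv_symm_iff _ _).2 hb
    rwa [OrderIso.symm_apply_apply] at h2

end Groth.Agent.H7.ACB
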