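import Mathlib
import Groth.Agent.Lib.Helper7.CI3

/-! # Smooth schemes over a closed subscheme lift locally. -/

set_option autoImplicit false
set_option linter.style.haveILetI false
set_option linter.unusedVariables false
set_option linter.unusedSectionVars false

open CategoryTheory Limits TensorProduct AlgebraicGeometry

namespace Groth.Agent.H7.ACB

universe u

open Groth.Agent.H7.CI

attribute [local instance] MvPolynomial.algebraMvPolynomial

/-- Affine-local lifting: for a smooth `A/I`-algebra `B` and a prime `Q` of `B` there are `g ∉ Q`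
and a smooth `A`-algebra `P` whose base change to `A/I` is `B[1/g]`. -/
theorem exists_isPushout_of_smooth {A : CommRingCat.{u}} (I : Ideal A) {B : CommRingCat.{u}}
    (ψ : CommRingCat.of (A ⧸ I) ⟶ B) (hψ : ψ.hom.Smooth) (Q : Ideal B) [Q.IsPrime] :
    ∃ (g : B) (P : CommRingCat.{u}) (α : A ⟶ P) (β : P ⟶ CommRingCat.of (Localization.Away g)),
      g ∉ Q ∧ α.hom.Smooth ∧
      IsPushout (CommRingCat.ofHom (Ideal.Quotient.mk I)) α
        (ψ ≫ CommRingCat.ofHom (algebraMap B (Localization.Away g))) β := by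
  letI : Algebra (A ⧸ I) B := ψ.hom.toAlgebra
  haveI hsm : Algebra.Smooth (A ⧸ I) B := hψ
  haveI : Algebra.FinitePresentation (A ⧸ I) B := Algebra.Smooth.finitePresentation
  haveI hB : Algebra.FormallySmooth (A ⧸ I) B := Algebra.Smooth.formallySmooth
  haveI : Algebra.FormallySmooth B (Localization.AtPrime Q) :=
    Algebra.FormallySmooth.of_isLocalization Q.primeCompl
  haveI hT : Algebra.FormallySmooth (A ⧸ I) (Localization.AtPrime Q) :=
    Algebra.FormallySmooth.comp (A ⧸ I) B (Localization.AtPrime Q)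
  haveI : Algebra.IsSmoothAt (A ⧸ I) Q := hT
  obtain ⟨g, hgQ, n, alg, htower, hstd⟩ :=
    Algebra.IsSmoothAt.exists_isStandardEtale_mvPolynomial (R := A ⧸ I) (S := B) (p := Q)
  letI := alg
  have hsurj : Function.Surjective
      (algebraMap (MvPolynomial (Fin n) A) (MvPolynomial (Fin n) (A ⧸ I))) :=
    MvPolynomial.map_surjective _ Ideal.Quotient.mk_surjective
  obtain ⟨P', ⟨e⟩⟩ := exists_lift_standardEtale (A := MvPolynomial (Fin n) A)
    (A₀ := MvPolynomial (Fin n) (A ⧸ I)) (B₀ := Localization.Away g) hsurj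
  have sq1 : IsPushout (CommRingCat.ofHom (algebraMap A (MvPolynomial (Fin n) A)))
      (CommRingCat.ofHom (algebraMap A (A ⧸ I)))
      (CommRingCat.ofHom (algebraMap (MvPolynomial (Fin n) A) (MvPolynomial (Fin n) (A ⧸ I))))
      (CommRingCat.ofHom (algebraMap (A ⧸ I) (MvPolynomial (Fin n) (A ⧸ I)))) :=
    CommRingCat.isPushout_of_isPushout A (MvPolynomial (Fin n) A) (A ⧸ I)
      (MvPolynomial (Fin n) (A ⧸ I))
  have h0 := CommRingCat.isPushout_tensorProduct (MvPolynomial (Fin n) A)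
    (MvPolynomial (Fin n) (A ⧸ I)) P'.Ring
  let β : CommRingCat.of P'.Ring ⟶ CommRingCat.of (Localization.Away g) :=
    CommRingCat.ofHom ((e.toAlgHom.toRingHom).comp
      (Algebra.TensorProduct.includeRight (R := MvPolynomial (Fin n) A)
        (A := MvPolynomial (Fin n) (A ⧸ I)) (B := P'.Ring)).toRingHom)
  have sq2 : IsPushout
      (CommRingCat.ofHom (algebraMap (MvPolynomial (Fin n) A) (MvPolynomial (Fin n) (A ⧸ I))))
      (CommRingCat.ofHom (algebraMap (MvPolynomial (Fin n) A) P'.Ring))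
      (CommRingCat.ofHom (algebraMap (MvPolynomial (Fin n) (A ⧸ I)) (Localization.Away g))) β := by
    refine h0.of_iso (Iso.refl _) (Iso.refl _) (Iso.refl _) e.toRingEquiv.toCommRingCatIso
      ?_ ?_ ?_ ?_
    · simp
    · simp
    · apply CommRingCat.hom_ext
      refine RingHom.ext fun x => ?_
      have h1 : e (x ⊗ₜ[MvPolynomial (Fin n) A] 1) =
          algebraMap (MvPolynomial (Fin n) (A ⧸ I)) (Localization.Away g) x := by
        rw [← e.commutes]; rfl
      exact h1
    · apply CommRingCat.hom_ext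
      refine RingHom.ext fun x => ?_
      rfl
  have sq := (sq1.paste_horiz sq2.flip).flip
  refine ⟨g, CommRingCat.of P'.Ring,
    CommRingCat.ofHom (algebraMap A (MvPolynomial (Fin n) A)) ≫
      CommRingCat.ofHom (algebraMap (MvPolynomial (Fin n) A) P'.Ring), β, hgQ, ?_, ?_⟩
  · have h1 : (algebraMap A (MvPolynomial (Fin n) A)).Smooth :=
      RingHom.smooth_algebraMap.mpr ⟨inferInstance, inferInstance⟩
    have h2 : (algebraMap (MvPolynomial (Fin n) A) P'.Ring).Smooth :=
      RingHom.smooth_algebraMap.mpr inferInstance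
    exact h1.comp h2
  · have e1 : CommRingCat.ofHom (algebraMap (↑A ⧸ I) (MvPolynomial (Fin n) (↑A ⧸ I))) ≫
        CommRingCat.ofHom (algebraMap (MvPolynomial (Fin n) (↑A ⧸ I)) (Localization.Away g)) =
        ψ ≫ CommRingCat.ofHom (algebraMap B (Localization.Away g)) := by
      apply CommRingCat.hom_ext
      refine RingHom.ext fun x => ?_
      change algebraMap (MvPolynomial (Fin n) (A ⧸ I)) (Localization.Away g)
        (algebraMap (A ⧸ I) (MvPolynomial (Fin n) (A ⧸ I)) x) =
        algebraMap B (Localization.Away g) (algebraMap (A ⧸ I) B x)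
      rw [← IsScalarTower.algebraMap_apply (A ⧸ I) (MvPolynomial (Fin n) (A ⧸ I))
        (Localization.Away g), ← IsScalarTower.algebraMap_apply (A ⧸ I) B (Localization.Away g)]
    rw [e1] at sq
    exact sq

theorem exists_lift_of_charts_smooth {X Y U : Scheme.{u}} (f : X ⟶ Y) (p : U ⟶ X)
    {A A₀ B' P : CommRingCat.{u}} (φ : A ⟶ A₀) (α : A ⟶ P) (ψ' : A₀ ⟶ B') (β : P ⟶ B')
    (hpo : IsPushout φ α ψ' β) (hα : α.hom.Smooth)
    (jY : Spec A ⟶ Y) [IsOpenImmersion jY] (jX : Spec A₀ ⟶ X)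
    (hX : IsPullback jX (Spec.map φ) f jY)
    (jU : Spec B' ⟶ U) [IsOpenImmersion jU] (hU : jU ≫ p = Spec.map ψ' ≫ jX) (x : U)
    (hu : x ∈ Set.range jU.base) :
    ∃ (V : Scheme.{u}) (q : V ⟶ Y) (_ : Smooth q) (h : pullback q f ⟶ U),
      h ≫ p = pullback.snd q f ∧ IsOpenImmersion h ∧ x ∈ Set.range h.base := by
  haveI : Smooth (Spec.map α) := (HasRingHomProperty.Spec_iff (P := @Smooth)).mpr hα
  have h1 : IsPullback (Spec.map ψ') (Spec.map β) (Spec.map φ) (Spec.map α) :=
    isPullback_SpecMap_of_isPushout φ α ψ' β hpo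
  have h2 : IsPullback (Spec.map β) (Spec.map ψ' ≫ jX) (Spec.map α ≫ jY) f :=
    (h1.paste_horiz hX).flip
  refine ⟨Spec P, Spec.map α ≫ jY, inferInstance, h2.isoPullback.inv ≫ jU, ?_, inferInstance, ?_⟩
  · rw [Category.assoc, hU, Iso.inv_comp_eq]
    simp
  · obtain ⟨w, rfl⟩ := hu
    refine ⟨h2.isoPullback.hom.base w, ?_⟩
    rw [← Scheme.Hom.comp_apply]
    simp

/-- Smooth schemes over a closed subscheme lift locally to smooth schemes over the ambient
scheme. -/
theorem exists_smooth_lift {X Y U : Scheme.{u}} (f : X ⟶ Y) [IsClosedImmersion f] (p : U ⟶ X)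
    [Smooth p] (x : U) :
    ∃ (V : Scheme.{u}) (q : V ⟶ Y) (_ : Smooth q) (h : pullback q f ⟶ U),
      h ≫ p = pullback.snd q f ∧ IsOpenImmersion h ∧ x ∈ Set.range h.base := by
  let 𝒰 := Y.affineOpenCover
  let y : Y := f.base (p.base x)
  obtain ⟨y', hy'⟩ := 𝒰.covers y
  let A : CommRingCat := 𝒰.X (𝒰.idx y)
  let jY : Spec A ⟶ Y := 𝒰.f (𝒰.idx y)
  obtain ⟨I, e, he⟩ := IsClosedImmersion.Spec_iff.mp
    (inferInstance : IsClosedImmersion (pullback.snd f jY))
  let jX : Spec (.of (A ⧸ I)) ⟶ X := e.inv ≫ pullback.fst f jY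
  have hX : IsPullback jX (Spec.map (CommRingCat.ofHom (Ideal.Quotient.mk I))) f jY := by
    refine IsPullback.of_iso (IsPullback.of_hasPullback f jY) e (Iso.refl _) (Iso.refl _)
      (Iso.refl _) ?_ ?_ ?_ ?_ <;> simp [jX, he]
  obtain ⟨x₀, hx₀, -⟩ := Scheme.Pullback.exists_preimage_pullback (f := f) (g := jY) (p.base x) y'
    hy'.symm
  have hx' : jX.base (e.hom.base x₀) = p.base x := by
    rw [← Scheme.Hom.comp_apply]
    simp [jX, hx₀]
  obtain ⟨u', hu', -⟩ := Scheme.Pullback.exists_preimage_pullback (f := p) (g := jX) x _ hx'.symm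
  let 𝒱 := (pullback p jX).affineOpenCover
  obtain ⟨u'', hu''⟩ := 𝒱.covers u'
  let B : CommRingCat := 𝒱.X (𝒱.idx u')
  let jB : Spec B ⟶ pullback p jX := 𝒱.f (𝒱.idx u')
  let r : Spec B ⟶ Spec (.of (A ⧸ I)) := jB ≫ pullback.snd p jX
  haveI : Smooth r := inferInstance
  let ψ : CommRingCat.of (A ⧸ I) ⟶ B := Spec.preimage r
  have hψr : Spec.map ψ = r := Spec.map_preimage r
  have hψ : ψ.hom.Smooth := (HasRingHomProperty.Spec_iff (P := @Smooth)).mp (hψr ▸ inferInstance)
  obtain ⟨g, P, α, β, hgQ, hα, hpo⟩ := exists_isPushout_of_smooth I ψ hψ u''.asIdeal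
  let jU : Spec (.of (Localization.Away g)) ⟶ U :=
    Spec.map (CommRingCat.ofHom (algebraMap B (Localization.Away g))) ≫ jB ≫ pullback.fst p jX
  refine exists_lift_of_charts_smooth f p _ α _ β hpo hα jY jX hX jU ?_ x ?_
  · simp only [jU, Category.assoc, pullback.condition, Spec.map_comp, hψr, r]
  · have hmem : u'' ∈ Set.range (Spec.map (CommRingCat.ofHom
        (algebraMap B (Localization.Away g)))).base := by
      have := PrimeSpectrum.localization_away_comap_range (Localization.Away g) g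
      change u'' ∈ Set.range (PrimeSpectrum.comap (algebraMap B (Localization.Away g)))
      rw [this]
      exact hgQ
    obtain ⟨w, hw⟩ := hmem
    refine ⟨w, ?_⟩
    simp only [jU, Scheme.Hom.comp_apply]
    rw [hw, hu'', hu']

end Groth.Agent.H7.ACB
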