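import Mathlib
import Groth.Agent.Lib.Helper7.ACB1
import Groth.Agent.Lib.Helper7.ACB2

/-! # Base change along a closed immersion is almost cocontinuous on the big étale and smooth
sites. -/

set_option autoImplicit false
set_option linter.style.haveILetI false
set_option linter.unusedVariables false
set_option linter.unusedSectionVars false
universe u
open CategoryTheory CategoryTheory.Limits AlgebraicGeometry Opposite

namespace Groth.Agent.H7.ACB

instance isMultiplicative_smooth : MorphismProperty.IsMultiplicative @Smooth.{u} where
  id_mem _ := inferInstance

theorem liftProp_smooth : LiftProp @Smooth := by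
  intro W V U c _ g hg x
  haveI : Smooth g := hg
  obtain ⟨V', q, hq, h, h1, -, h3⟩ := exists_smooth_lift c g x
  exact ⟨V', q, hq, h, h1, h3⟩

theorem S6635_main {X Y : Scheme.{u}} (f : X ⟶ Y) [IsClosedImmersion f]
    (K : Precoverage Scheme.{u})
    (hK : K = Scheme.etalePrecoverage ∨ K = Scheme.precoverage @Smooth) :
    BigSite.IsAlmostCocontinuous (Over.pullback f) (QuotSh.J K Y) (QuotSh.J K X) := by
  rcases hK with rfl | rfl
  · exact almostCocont_of_liftProp @Etale (fun j _ => inferInstance) liftProp_etale f
  · exact almostCocont_of_liftProp @Smooth (fun j _ => inferInstance) liftProp_smooth f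

end Groth.Agent.H7.ACB
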