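import Mathlib
import Groth.Prelude.Def_BigSite

/-! # Almost cocontinuous functors between large sites: pushforward of sheaves of (large) sets
preserves finite connected colimits. Universe-generalised copy of `AlmostCoc`/`AlmostCoc2`. -/

set_option autoImplicit false
open CategoryTheory CategoryTheory.Limits Opposite

universe u

namespace Groth.Agent.H7.ACB

variable {C D : Type (u + 1)} [Category.{u} C] [Category.{u} D]
  (J : GrothendieckTopology C) (K : GrothendieckTopology D) (F : C ⥤ D)

/-- a sheaf of sets has at most one section on an object covered by the empty sieve -/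
theorem subsingleton_of_bot {P : Dᵒᵖ ⥤ Type (u + 1)} (hP : Presieve.IsSheaf K P) (V : D)
    (hV : (⊥ : Sieve V) ∈ K V) : Subsingleton (P.obj (op V)) := by
  constructor
  intro a b
  apply (hP.isSeparated _ hV).ext
  intro W f hf
  exact hf.elim

include J in
theorem W_whisker (hu : BigSite.IsAlmostCocontinuous F J K) (G : Dᵒᵖ ⥤ Type (u + 1))
    (hG : ∀ V : D, (⊥ : Sieve V) ∈ K V → Nonempty (Unique (G.obj (op V)))) :
    J.W (Functor.whiskerLeft F.op (toSheafify K G)) := by
  rw [J.W_iff_isLocallyBijective]
  constructor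
  · constructor
    intro X x y h
    have hR := Presheaf.equalizerSieve_mem K (toSheafify K G) (X := F.op.obj X) x y h
    obtain ⟨R', hR', hh⟩ := hu X.unop _ hR
    refine J.superset_covering ?_ hR'
    intro V g hg
    rcases hh g hg with he | hr
    · obtain ⟨hU⟩ := hG _ he
      exact (hU.instSubsingleton).elim _ _
    · exact hr
  · constructor
    intro U s
    have hR := Presheaf.imageSieve_mem K (toSheafify K G) (U := op (F.obj U)) s
    obtain ⟨R', hR', hh⟩ := hu U _ hR
    refine J.superset_covering ?_ hR'
    intro V g hg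
    rcases hh g hg with he | hr
    · obtain ⟨hU⟩ := hG _ he
      refine ⟨hU.default, ?_⟩
      haveI := subsingleton_of_bot K
        ((isSheaf_iff_isSheaf_of_type _ _).mp
          ((presheafToSheaf K (Type (u + 1))).obj G).property) _ he
      exact Subsingleton.elim _ _
    · exact hr

theorem main [F.IsContinuous J K]
    (hu : BigSite.IsAlmostCocontinuous F J K) (G : Dᵒᵖ ⥤ Type (u + 1))
    (hG : ∀ V : D, (⊥ : Sieve V) ∈ K V → Nonempty (Unique (G.obj (op V)))) :
    IsIso (((sheafificationAdjunction J (Type (u + 1))).homEquiv (F.op ⋙ G)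
      ((F.sheafPushforwardContinuous (Type (u + 1)) J K).obj
        ((presheafToSheaf K (Type (u + 1))).obj G))).symm
        (Functor.whiskerLeft F.op (toSheafify K G))) := by
  rw [Adjunction.homEquiv_counit]
  have h1 : IsIso ((presheafToSheaf J (Type (u + 1))).map
      (Functor.whiskerLeft F.op (toSheafify K G))) :=
    (J.W_iff _).mp (W_whisker J K F hu G hG)
  exact @IsIso.comp_isIso _ _ _ _ _ _ _ h1 inferInstance

/-- a sheaf of sets has exactly one section on an object covered by the empty sieve -/
theorem unique_of_bot {P : Dᵒᵖ ⥤ Type (u + 1)} (hP : Presieve.IsSheaf K P) (V : D)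
    (hV : (⊥ : Sieve V) ∈ K V) : Nonempty (Unique (P.obj (op V))) := by
  haveI := subsingleton_of_bot K hP V hV
  obtain ⟨t, -, -⟩ := hP _ hV (fun W f hf => hf.elim) (fun _ _ _ _ _ _ _ hf => hf.elim)
  exact ⟨⟨⟨t⟩, fun _ => Subsingleton.elim _ _⟩⟩

/-- a connected colimit of singletons is a singleton -/
theorem unique_of_connected {I : Type} [SmallCategory I] [IsConnected I] {H : I ⥤ Type (u + 1)}
    (hH : ∀ i, Nonempty (Unique (H.obj i))) (c : Cocone H) (hc : IsColimit c) :
    Nonempty (Unique c.pt) := by
  have e : ∀ i, Unique (H.obj i) := fun i => (hH i).some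
  let φ : I → c.pt := fun i => c.ι.app i (e i).default
  have hφ : ∀ (i j : I) (_ : i ⟶ j), φ i = φ j := by
    intro i j f
    have h1 : c.ι.app i (e i).default = c.ι.app j (H.map f (e i).default) :=
      (ConcreteCategory.congr_hom (c.w f) (e i).default).symm
    have h2 : H.map f (e i).default = (e j).default := (e j).uniq _
    show c.ι.app i (e i).default = c.ι.app j (e j).default
    rw [h1, h2]
  have hconst := constant_of_preserves_morphisms φ hφ
  let i₀ : I := Classical.arbitrary I
  refine ⟨⟨⟨φ i₀⟩, fun x => ?_⟩⟩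
  obtain ⟨j, y, rfl⟩ := Types.jointly_surjective_of_isColimit hc x
  have : y = (e j).default := (e j).uniq y
  rw [this]
  exact hconst j i₀

variable [F.IsContinuous J K]

/-- the comparison map -/
noncomputable def θ (G : Dᵒᵖ ⥤ Type (u + 1)) :
    (presheafToSheaf J (Type (u + 1))).obj (F.op ⋙ G) ⟶
      (F.sheafPushforwardContinuous (Type (u + 1)) J K).obj
        ((presheafToSheaf K (Type (u + 1))).obj G) :=
  ((sheafificationAdjunction J (Type (u + 1))).homEquiv (F.op ⋙ G)
      ((F.sheafPushforwardContinuous (Type (u + 1)) J K).obj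
        ((presheafToSheaf K (Type (u + 1))).obj G))).symm
        (Functor.whiskerLeft F.op (toSheafify K G))

theorem toSheafify_θ (G : Dᵒᵖ ⥤ Type (u + 1)) :
    toSheafify J (F.op ⋙ G) ≫ (θ J K F G).hom = Functor.whiskerLeft F.op (toSheafify K G) := by
  have := ((sheafificationAdjunction J (Type (u + 1))).homEquiv (F.op ⋙ G)
      ((F.sheafPushforwardContinuous (Type (u + 1)) J K).obj
        ((presheafToSheaf K (Type (u + 1))).obj G))).apply_symm_apply
        (Functor.whiskerLeft F.op (toSheafify K G))
  rw [Adjunction.homEquiv_unit] at this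
  exact this

theorem main2 (hu : BigSite.IsAlmostCocontinuous F J K) (I : Type) [SmallCategory I]
    [FinCategory I] [IsConnected I] :
    PreservesColimitsOfShape I (F.sheafPushforwardContinuous (Type (u + 1)) J K) := by
  constructor
  intro T
  let E := colimit.cocone (T ⋙ sheafToPresheaf K (Type (u + 1)))
  have hE : IsColimit E := colimit.isColimit _
  have hc := Sheaf.isColimitSheafifyCocone E hE
  apply preservesColimit_of_preserves_colimit_cocone hc
  -- the presheaf-level image cocone
  let wl := (Functor.whiskeringLeft Cᵒᵖ Dᵒᵖ (Type (u + 1))).obj F.op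
  let E' : Cocone ((T ⋙ F.sheafPushforwardContinuous (Type (u + 1)) J K) ⋙
      sheafToPresheaf J (Type (u + 1))) :=
    wl.mapCocone E
  have hE' : IsColimit E' := isColimitOfPreserves wl hE
  have hc' := Sheaf.isColimitSheafifyCocone E' hE'
  -- E.pt is a singleton on sheaf theoretically empty objects
  have hG : ∀ V : D, (⊥ : Sieve V) ∈ K V → Nonempty (Unique (E.pt.obj (op V))) := by
    intro V hV
    have hev : IsColimit (((evaluation Dᵒᵖ (Type (u + 1))).obj (op V)).mapCocone E) :=
      isColimitOfPreserves _ hE
    refine unique_of_connected (fun i => ?_) _ hev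
    exact unique_of_bot K ((isSheaf_iff_isSheaf_of_type _ _).mp (T.obj i).property) V hV
  have hθ : IsIso (θ J K F E.pt) := main J K F hu E.pt hG
  refine IsColimit.ofIsoColimit hc' (Cocone.ext (@asIso _ _ _ _ (θ J K F E.pt) hθ) ?_)
  intro i
  apply Sheaf.hom_ext
  show ((Sheaf.sheafifyCocone E').ι.app i).hom ≫ (θ J K F E.pt).hom =
    Functor.whiskerLeft F.op ((Sheaf.sheafifyCocone E).ι.app i).hom
  rw [Sheaf.sheafifyCocone_ι_app_val, Sheaf.sheafifyCocone_ι_app_val]
  have h := toSheafify_θ J K F E.pt
  calc _ = Functor.whiskerLeft F.op (E.ι.app i) ≫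
        (toSheafify J (F.op ⋙ E.pt) ≫ (θ J K F E.pt).hom) := rfl
    _ = _ := by rw [h]; rfl

end Groth.Agent.H7.ACB
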