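import Mathlib
import Groth.Agent.Lib.Helper7.ACB3
import Groth.Agent.Lib.Helper7.ACB4

/-! # Big direct image along a closed immersion is exact (étale and smooth topologies). -/

set_option autoImplicit false
set_option linter.style.haveILetI false
set_option linter.unusedVariables false
set_option linter.unusedSectionVars false
universe u
open CategoryTheory CategoryTheory.Limits AlgebraicGeometry Opposite

namespace Groth.Agent.H7.ACB

section
variable {C D : Type (u + 1)} [Category.{u} C] [Category.{u} D]
  (J : GrothendieckTopology C) (K : GrothendieckTopology D) (F : C ⥤ D)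

theorem subsingleton_ab_of_bot (B : Sheaf K AddCommGrpCat.{u + 1}) (V : D)
    (hV : (⊥ : Sieve V) ∈ K V) : Subsingleton (B.obj.obj (op V)) := by
  have hP : Presieve.IsSheaf K (B.obj ⋙ forget AddCommGrpCat.{u + 1}) :=
    (isSheaf_iff_isSheaf_of_type _ _).mp
      ((sheafCompose K (forget AddCommGrpCat.{u + 1})).obj B).property
  exact subsingleton_of_bot K hP V hV

theorem epi_pushforward [F.IsContinuous J K] (hu : BigSite.IsAlmostCocontinuous F J K)
    {A B : Sheaf K AddCommGrpCat.{u + 1}} (φ : A ⟶ B) [Epi φ] :
    Epi ((F.sheafPushforwardContinuous AddCommGrpCat.{u + 1} J K).map φ) := by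
  rw [← Sheaf.isLocallySurjective_iff_epi' AddCommGrpCat.{u + 1}]
  have hφ : Sheaf.IsLocallySurjective φ := (Sheaf.isLocallySurjective_iff_epi' AddCommGrpCat.{u + 1} φ).mpr inferInstance
  constructor
  intro U s
  have hR := Presheaf.imageSieve_mem K φ.hom (U := op (F.obj U)) s
  obtain ⟨R', hR', hh⟩ := hu U _ hR
  refine J.superset_covering ?_ hR'
  intro V g hg
  rcases hh g hg with he | hr
  · exact ⟨0, (subsingleton_ab_of_bot K B _ he).elim _ _⟩
  · exact hr

end

theorem S6636_main {X Y : Scheme.{u}} (f : X ⟶ Y) [IsClosedImmersion f]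
    (K : Precoverage Scheme.{u})
    (hK : K = Scheme.etalePrecoverage ∨ K = Scheme.precoverage @Smooth) :
    PreservesColimitsOfShape WalkingParallelPair (BigSite.pushBig K f (Type (u + 1))) ∧
      PreservesColimitsOfShape WalkingSpan (BigSite.pushBig K f (Type (u + 1))) ∧
      PreservesFiniteColimits (BigSite.pushBig K f AddCommGrpCat.{u + 1}) := by
  have h := S6635_main f K hK
  refine ⟨main2 _ _ _ h WalkingParallelPair, main2 _ _ _ h WalkingSpan, ?_⟩
  rw [Functor.preservesFiniteColimits_iff_forall_exact_map_and_epi]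
  intro S hS
  have hl : PreservesFiniteLimits (BigSite.pushBig K f AddCommGrpCat.{u + 1}) := by
    haveI := (BigSite.bigAdj K f AddCommGrpCat.{u + 1}).rightAdjoint_preservesLimits
    infer_instance
  refine ⟨((Functor.preservesFiniteLimits_iff_forall_exact_map_and_mono _).mp hl S hS).1, ?_⟩
  haveI := hS.epi_g
  exact epi_pushforward _ _ _ h S.g

end Groth.Agent.H7.ACB
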