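import Mathlib
import Groth.Prelude.Def_AlgSpOX2

/-! # Base change of the small étale site along a representable morphism preserves finite
products and equalizers. -/

set_option autoImplicit false
set_option linter.style.haveILetI false
set_option linter.unusedVariables false
set_option linter.unusedSectionVars false
universe u
open CategoryTheory CategoryTheory.Limits AlgebraicGeometry Opposite

set_option backward.isDefEq.respectTransparency false

namespace Groth.Agent.H7.ACI

open AlgSp

variable {S : Scheme.{u}} {X Y : AlgSp.Sp S} {f : X ⟶ Y} (hf : Representable f)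

/-- the test morphism to the first factor. -/
lemma compat_left {U : EtOver Y} {T : EtOver X} (t : T ⟶ (EtOver.bc hf).obj U) :
    (yon S).map (t.hom.left ≫ hf.snd U.obj.hom) ≫ U.obj.hom = T.obj.hom ≫ f := by
  rw [Functor.map_comp, Category.assoc, ← hf.w, ← Category.assoc]
  congr 1
  exact EtOver.w t

variable (U U' : EtOver Y)

/-- the lift to the product, on underlying schemes over `S`. -/
noncomputable def prodLiftLeft {T : EtOver X} (t₁ : T ⟶ (EtOver.bc hf).obj U)
    (t₂ : T ⟶ (EtOver.bc hf).obj U') : T.obj.left ⟶ (EtOver.prodObj U U').obj.left :=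
  U'.property.1.lift' (t₂.hom.left ≫ hf.snd U'.obj.hom) (t₁.hom.left ≫ hf.snd U.obj.hom)
    (by rw [compat_left hf t₁, compat_left hf t₂])

lemma prodLiftLeft_fst {T : EtOver X} (t₁ : T ⟶ (EtOver.bc hf).obj U)
    (t₂ : T ⟶ (EtOver.bc hf).obj U') :
    prodLiftLeft hf U U' t₁ t₂ ≫ (EtOver.prodFst U U').hom.left =
      t₁.hom.left ≫ hf.snd U.obj.hom :=
  Functor.relativelyRepresentable.lift'_snd _ _ _ _

lemma prodLiftLeft_snd {T : EtOver X} (t₁ : T ⟶ (EtOver.bc hf).obj U)
    (t₂ : T ⟶ (EtOver.bc hf).obj U') :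
    prodLiftLeft hf U U' t₁ t₂ ≫ (EtOver.prodSnd U U').hom.left =
      t₂.hom.left ≫ hf.snd U'.obj.hom :=
  Functor.relativelyRepresentable.lift'_fst _ _ _ _

lemma prodLift_compat {T : EtOver X} (t₁ : T ⟶ (EtOver.bc hf).obj U)
    (t₂ : T ⟶ (EtOver.bc hf).obj U') :
    T.obj.hom ≫ f = (yon S).map (prodLiftLeft hf U U' t₁ t₂) ≫ (EtOver.prodObj U U').obj.hom := by
  have h : (EtOver.prodObj U U').obj.hom =
      (yon S).map (EtOver.prodFst U U').hom.left ≫ U.obj.hom := (EtOver.w (EtOver.prodFst U U')).symm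
  rw [h, ← Category.assoc, ← Functor.map_comp, prodLiftLeft_fst, compat_left hf t₁]

/-- the lift to the base change of the product. -/
noncomputable def prodLift {T : EtOver X} (t₁ : T ⟶ (EtOver.bc hf).obj U)
    (t₂ : T ⟶ (EtOver.bc hf).obj U') : T ⟶ (EtOver.bc hf).obj (EtOver.prodObj U U') :=
  EtOver.homMk (hf.lift T.obj.hom (prodLiftLeft hf U U' t₁ t₂) (prodLift_compat hf U U' t₁ t₂))
    (hf.lift_fst _ _ _)

lemma prodLift_left_snd {T : EtOver X} (t₁ : T ⟶ (EtOver.bc hf).obj U)
    (t₂ : T ⟶ (EtOver.bc hf).obj U') :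
    (prodLift hf U U' t₁ t₂).hom.left ≫ hf.snd (EtOver.prodObj U U').obj.hom =
      prodLiftLeft hf U U' t₁ t₂ :=
  hf.lift_snd _ _ _

/-- morphisms into a base change are determined by their projection. -/
lemma hom_ext_bc {E : EtOver Y} {T : EtOver X} (a b : T ⟶ (EtOver.bc hf).obj E)
    (h : a.hom.left ≫ hf.snd E.obj.hom = b.hom.left ≫ hf.snd E.obj.hom) : a = b := by
  apply EtOver.hom_ext
  refine hf.hom_ext ?_ h
  exact (EtOver.w a).trans (EtOver.w b).symm

lemma prodLift_fst {T : EtOver X} (t₁ : T ⟶ (EtOver.bc hf).obj U)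
    (t₂ : T ⟶ (EtOver.bc hf).obj U') :
    prodLift hf U U' t₁ t₂ ≫ (EtOver.bc hf).map (EtOver.prodFst U U') = t₁ := by
  apply hom_ext_bc
  change ((prodLift hf U U' t₁ t₂).hom.left ≫ (EtOver.bcMap hf (EtOver.prodFst U U')).hom.left) ≫
    hf.snd U.obj.hom = _
  rw [Category.assoc, EtOver.bcMap_snd, ← Category.assoc, prodLift_left_snd, prodLiftLeft_fst]

lemma prodLift_snd {T : EtOver X} (t₁ : T ⟶ (EtOver.bc hf).obj U)
    (t₂ : T ⟶ (EtOver.bc hf).obj U') :
    prodLift hf U U' t₁ t₂ ≫ (EtOver.bc hf).map (EtOver.prodSnd U U') = t₂ := by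
  apply hom_ext_bc
  change ((prodLift hf U U' t₁ t₂).hom.left ≫ (EtOver.bcMap hf (EtOver.prodSnd U U')).hom.left) ≫
    hf.snd U'.obj.hom = _
  rw [Category.assoc, EtOver.bcMap_snd, ← Category.assoc, prodLift_left_snd, prodLiftLeft_snd]

/-- base change preserves the explicit binary products. -/
noncomputable def isLimitBcProd : IsLimit (BinaryFan.mk ((EtOver.bc hf).map (EtOver.prodFst U U'))
    ((EtOver.bc hf).map (EtOver.prodSnd U U'))) :=
  BinaryFan.IsLimit.mk _ (fun {T} t₁ t₂ => prodLift hf U U' t₁ t₂)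
    (fun t₁ t₂ => prodLift_fst hf U U' t₁ t₂) (fun t₁ t₂ => prodLift_snd hf U U' t₁ t₂)
    (fun {T} t₁ t₂ m h₁ h₂ => by
      apply hom_ext_bc
      rw [prodLift_left_snd]
      refine Functor.relativelyRepresentable.hom_ext' U'.property.1 ?_ ?_
      · have e : (m.hom.left ≫ hf.snd (EtOver.prodObj U U').obj.hom) ≫
            (EtOver.prodSnd U U').hom.left = t₂.hom.left ≫ hf.snd U'.obj.hom := by
          rw [Category.assoc, ← EtOver.bcMap_snd, ← Category.assoc]
          exact congrArg (fun k => k.hom.left ≫ hf.snd U'.obj.hom) h₂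
        exact e.trans (prodLiftLeft_snd hf U U' t₁ t₂).symm
      · have e : (m.hom.left ≫ hf.snd (EtOver.prodObj U U').obj.hom) ≫
            (EtOver.prodFst U U').hom.left = t₁.hom.left ≫ hf.snd U.obj.hom := by
          rw [Category.assoc, ← EtOver.bcMap_snd, ← Category.assoc]
          exact congrArg (fun k => k.hom.left ≫ hf.snd U.obj.hom) h₁
        exact e.trans (prodLiftLeft_fst hf U U' t₁ t₂).symm)

instance preservesLimit_pair_bc : PreservesLimit (pair U U') (EtOver.bc hf) :=
  preservesLimit_of_preserves_limit_cone (EtOver.prodIsLimit U U')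
    ((isLimitMapConeBinaryFanEquiv _ _ _).symm (isLimitBcProd hf U U'))

instance preservesBinaryProducts_bc :
    PreservesLimitsOfShape (Discrete WalkingPair) (EtOver.bc hf) where
  preservesLimit {K} := preservesLimit_of_iso_diagram _ (diagramIsoPair K).symm

instance hasEqualizers_etOver (Z : AlgSp.Sp S) : HasEqualizers (EtOver Z) :=
  hasEqualizers_of_hasPullbacks_and_binary_products

instance preservesEqualizers_bc :
    PreservesLimitsOfShape WalkingParallelPair (EtOver.bc hf) :=
  preservesEqualizers_of_preservesPullbacks_and_binaryProducts _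

end Groth.Agent.H7.ACI
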