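import Mathlib
import Groth.Prelude.Def_AlgSpOX
import Groth.Agent.Lib.Helper5.AlgSp.DiagPres

/-! # Quasi-compact quasi-separated objects of the small étale site of an algebraic space. -/

set_option autoImplicit false
set_option linter.style.haveILetI false
set_option linter.unusedVariables false
set_option linter.unusedSectionVars false
universe u
open CategoryTheory CategoryTheory.Limits AlgebraicGeometry Opposite

set_option backward.isDefEq.respectTransparency false

namespace Groth.Agent.H7.ASm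

open AlgSp

variable {S : Scheme.{u}} {X : AlgSp.Sp S}

/-- covering sieves are jointly surjective. -/
lemma exists_mem_range_of_mem_etTop {E : EtOver X} (T : Sieve E) (hT : T ∈ etTop X E)
    (x : ↥E.obj.left.left) :
    ∃ (V : EtOver X) (v : V ⟶ E), T v ∧ x ∈ Set.range v.hom.left.left := by
  unfold etTop at hT
  rw [Precoverage.mem_toGrothendieck_iff_of_isStableUnderComposition] at hT
  obtain ⟨R₀, hR₀, hle⟩ := hT
  obtain ⟨ι, V, g, rfl⟩ := R₀.exists_eq_ofArrows
  obtain ⟨i, hi⟩ := (ofArrows_mem_etPre_iff V g).1 hR₀ x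
  exact ⟨V i, g i, hle _ _ (Presieve.ofArrows.mk i), hi⟩

/-- the object of the site given by an open subscheme. -/
noncomputable def openObj (V : EtOver X) (W : V.obj.left.left.Opens) : EtOver X :=
  EtOver.mk ((yon S).map (Over.homMk W.ι rfl : Over.mk (W.ι ≫ V.obj.left.hom) ⟶ V.obj.left) ≫
      V.obj.hom)
    ((repWith_isMultiplicative (S := S) @Etale).comp_mem _ _
      ((repWith_yon_map_iff _ _).2 (show Etale W.ι from inferInstance)) V.property)

/-- the inclusion of an open subscheme. -/
noncomputable def openIncl (V : EtOver X) (W : V.obj.left.left.Opens) : openObj V W ⟶ V :=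
  EtOver.homMk (Over.homMk W.ι rfl) rfl

lemma openIncl_left (V : EtOver X) (W : V.obj.left.left.Opens) :
    (openIncl V W).hom.left.left = W.ι := rfl

/-- Finite affine refinement of a covering sieve of a quasi-compact object. -/
lemma exists_finite_affine_refinement (E : EtOver X) [CompactSpace ↥E.obj.left.left]
    (T : Sieve E) (hT : T ∈ etTop X E) :
    ∃ (n : ℕ) (V : Fin n → EtOver X) (g : ∀ k, V k ⟶ E),
      (∀ k, IsAffine (V k).obj.left.left) ∧ (∀ k, T (g k)) ∧
        ∀ x : ↥E.obj.left.left, ∃ k, x ∈ Set.range (g k).hom.left.left := by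
  have h := exists_mem_range_of_mem_etTop T hT
  choose Y f hf hy using h
  choose y hy using hy
  have hW : ∀ x, ∃ W : (Y x).obj.left.left.Opens, IsAffineOpen W ∧ y x ∈ W := fun x => by
    obtain ⟨W, hW, hyW, -⟩ := exists_isAffineOpen_mem_and_subset (x := y x)
      (U := (⊤ : (Y x).obj.left.left.Opens)) trivial
    exact ⟨W, hW, hyW⟩
  choose W hWaff hyW using hW
  let V' : ↥E.obj.left.left → EtOver X := fun x => openObj (Y x) (W x)
  let g' : ∀ x, V' x ⟶ E := fun x => openIncl (Y x) (W x) ≫ f x
  have hopen : ∀ x, IsOpen (Set.range (g' x).hom.left.left) := fun x => by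
    haveI := EtOver.etale_left (g' x)
    exact (g' x).hom.left.left.isOpenMap.isOpen_range
  have hmem : ∀ x, x ∈ Set.range (g' x).hom.left.left := fun x => by
    refine ⟨(⟨y x, hyW x⟩ : ↥(W x)), ?_⟩
    have e : (g' x).hom.left.left = (W x).ι ≫ (f x).hom.left.left := rfl
    have e2 : (g' x).hom.left.left (⟨y x, hyW x⟩ : ↥(W x)) =
        (f x).hom.left.left ((W x).ι ⟨y x, hyW x⟩) :=
      (congrArg (fun m : (V' x).obj.left.left ⟶ E.obj.left.left => m (⟨y x, hyW x⟩ : ↥(W x))) e).trans
        (Scheme.Hom.comp_apply _ _ _)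
    exact e2.trans (hy x)
  obtain ⟨t, ht⟩ := isCompact_univ.elim_finite_subcover
    (fun x => Set.range (g' x).hom.left.left) hopen (fun x _ => Set.mem_iUnion.2 ⟨x, hmem x⟩)
  refine ⟨t.card, fun k => V' (t.equivFin.symm k).1, fun k => g' (t.equivFin.symm k).1,
    fun k => hWaff _, fun k => T.downward_closed (hf _) _, ?_⟩
  intro x
  have hx := ht (Set.mem_univ x)
  simp only [Set.mem_iUnion] at hx
  obtain ⟨i, hi, hz⟩ := hx
  refine ⟨t.equivFin ⟨i, hi⟩, ?_⟩
  have e : t.equivFin.symm (t.equivFin ⟨i, hi⟩) = ⟨i, hi⟩ := Equiv.symm_apply_apply _ _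
  change x ∈ Set.range (g' (t.equivFin.symm (t.equivFin ⟨i, hi⟩)).1).hom.left.left
  rw [e]
  exact hz

/-- quasi-compact and quasi-separated objects. -/
def QCQS (E : EtOver X) : Prop :=
  CompactSpace ↥E.obj.left.left ∧ QuasiSeparatedSpace ↥E.obj.left.left

lemma qcqs_of_isAffine (E : EtOver X) [IsAffine E.obj.left.left] : QCQS E :=
  ⟨inferInstance, inferInstance⟩

lemma qcqs_of_iso {E E' : EtOver X} (e : E ≅ E') (h : QCQS E) : QCQS E' := by
  haveI := h.1
  haveI := h.2
  let f : E'.obj.left.left ⟶ E.obj.left.left := (EtOver.toScheme X).map e.inv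
  haveI : IsIso f := inferInstanceAs (IsIso ((EtOver.toScheme X).map e.inv))
  exact ⟨QuasiCompact.compactSpace_of_compactSpace f, quasiSeparatedSpace_of_quasiSeparated f⟩

lemma qcqs_of_isPullback {P A B U : EtOver X} {fst : P ⟶ A} {snd : P ⟶ B} {f : A ⟶ U}
    {g : B ⟶ U} (h : IsPullback fst snd f g) (hA : QCQS A) (hB : QCQS B) (hU : QCQS U) :
    QCQS P := by
  have sq := h.map (EtOver.toScheme X)
  haveI : CompactSpace ↥((EtOver.toScheme X).obj A) := hA.1
  haveI : QuasiSeparatedSpace ↥((EtOver.toScheme X).obj A) := hA.2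
  haveI : CompactSpace ↥((EtOver.toScheme X).obj B) := hB.1
  haveI : QuasiSeparatedSpace ↥((EtOver.toScheme X).obj B) := hB.2
  haveI : QuasiSeparatedSpace ↥((EtOver.toScheme X).obj U) := hU.2
  have h1 : QuasiCompact ((EtOver.toScheme X).map fst) :=
    MorphismProperty.of_isPullback (P := @QuasiCompact) sq.flip inferInstance
  have h2 : QuasiSeparated ((EtOver.toScheme X).map fst) :=
    MorphismProperty.of_isPullback (P := @QuasiSeparated) sq.flip inferInstance
  exact ⟨QuasiCompact.compactSpace_of_compactSpace ((EtOver.toScheme X).map fst),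
    quasiSeparatedSpace_of_quasiSeparated ((EtOver.toScheme X).map fst)⟩

lemma qcqs_prod_left [QuasiSeparatedSpace ↥S] (U V : Over S) [CompactSpace ↥U.left]
    [CompactSpace ↥V.left] [QuasiSeparatedSpace ↥U.left] [QuasiSeparatedSpace ↥V.left] :
    CompactSpace ↥(U ⨯ V).left ∧ QuasiSeparatedSpace ↥(U ⨯ V).left := by
  have : QuasiCompact V.hom := inferInstance
  have : QuasiSeparated V.hom := inferInstance
  have h1 : CompactSpace ↥(pullback U.hom V.hom) := inferInstance
  have h2 : QuasiSeparatedSpace ↥(pullback U.hom V.hom) :=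
    quasiSeparatedSpace_of_quasiSeparated (pullback.fst U.hom V.hom)
  let f : (U ⨯ V).left ⟶ pullback U.hom V.hom := (Over.prodLeftIsoPullback U V).hom
  exact ⟨QuasiCompact.compactSpace_of_compactSpace f, quasiSeparatedSpace_of_quasiSeparated f⟩

/-- the product of quasi-compact quasi-separated objects over a quasi-separated space is
quasi-compact and quasi-separated. -/
lemma qcqs_prodObj [QuasiSeparatedSpace ↥S] (hqs : IsQuasiSeparatedSp X) (E₁ E₂ : EtOver X)
    (h₁ : QCQS E₁) (h₂ : QCQS E₂) : QCQS (EtOver.prodObj E₁ E₂) := by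
  haveI := h₁.1
  haveI := h₁.2
  haveI := h₂.1
  haveI := h₂.2
  have sq : IsPullback ((yon S).map (E₂.property.1.snd E₁.obj.hom))
      ((yon S).map (E₂.property.1.fst' E₁.obj.hom)) E₁.obj.hom E₂.obj.hom :=
    (E₂.property.1.isPullback' E₁.obj.hom).flip
  let q : E₂.property.1.pullback E₁.obj.hom ⟶ E₁.obj.left ⨯ E₂.obj.left :=
    prod.lift (E₂.property.1.snd E₁.obj.hom) (E₂.property.1.fst' E₁.obj.hom)
  have hq : QuasiCompact q.left := Groth.Agent.H5.AlgSp.prop_prodLift_of_repWith_diag hqs sq
  haveI : Mono q := by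
    refine ⟨fun {T} a b hab => ?_⟩
    refine Functor.relativelyRepresentable.hom_ext' E₂.property.1 ?_ ?_
    · have := congrArg (fun m => m ≫ (prod.snd : E₁.obj.left ⨯ E₂.obj.left ⟶ _)) hab
      simpa [q] using this
    · have := congrArg (fun m => m ≫ (prod.fst : E₁.obj.left ⨯ E₂.obj.left ⟶ _)) hab
      simpa [q] using this
  haveI : Mono q.left := inferInstance
  obtain ⟨c1, c2⟩ := qcqs_prod_left E₁.obj.left E₂.obj.left
  haveI := c1
  haveI := c2
  exact ⟨QuasiCompact.compactSpace_of_compactSpace q.left,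
    quasiSeparatedSpace_of_quasiSeparated q.left⟩

/-- a product of quasi-compact quasi-separated objects is quasi-compact quasi-separated. -/
lemma qcqs_of_isLimit_binaryFan [QuasiSeparatedSpace ↥S] (hqs : IsQuasiSeparatedSp X)
    {E₁ E₂ : EtOver X} (h₁ : QCQS E₁) (h₂ : QCQS E₂) (c : BinaryFan E₁ E₂) (hc : IsLimit c) :
    QCQS c.pt :=
  qcqs_of_iso ((EtOver.prodIsLimit E₁ E₂).conePointUniqueUpToIso hc) (qcqs_prodObj hqs E₁ E₂ h₁ h₂)

/-- the chart of a representably surjective étale atlas covers every object. -/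
lemma surjective_prodFst {U₀ : Over S} (p : (yon S).obj U₀ ⟶ X) (hp : RepWith @Etale p)
    (hs : RepWith @Surjective p) (U : EtOver X) :
    Function.Surjective (EtOver.prodFst U (EtOver.mk p hp)).hom.left.left := by
  have h := hs.2 U.obj.hom ((EtOver.mk p hp).property.1.fst U.obj.hom)
    ((EtOver.mk p hp).property.1.snd U.obj.hom) ((EtOver.mk p hp).property.1.isPullback U.obj.hom)
  exact h.surj

end Groth.Agent.H7.ASm
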