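import Mathlib
import Groth.Agent.Lib.Helper7.ACI1
import Groth.Agent.Lib.Helper7.ASm3

/-! # Base change of the small étale site along a closed immersion of algebraic spaces is locally
full and locally faithful. -/

set_option autoImplicit false
set_option linter.style.haveILetI false
set_option linter.unusedVariables false
set_option linter.unusedSectionVars false
universe u
open CategoryTheory CategoryTheory.Limits AlgebraicGeometry Opposite

set_option backward.isDefEq.respectTransparency false

namespace Groth.Agent.H7.ACI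

open AlgSp Groth.Agent.H7.ASm

variable {S : Scheme.{u}}

theorem functorPushforward_mem_of_isIso {C D : Type*} [Category C] [Category D] (G : C ⥤ D)
    (K : GrothendieckTopology D) {U : C} (T : Sieve U) {W : C} (g : W ⟶ U) (hg : T g)
    [IsIso (G.map g)] : T.functorPushforward G ∈ K (G.obj U) := by
  have : T.functorPushforward G = ⊤ := by
    rw [← Sieve.id_mem_iff_eq_top]
    exact ⟨W, g, inv (G.map g), hg, by simp⟩
  rw [this]; exact K.top_mem _

/-- a morphism of the small étale site which is an isomorphism on underlying schemes is an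
isomorphism. -/
lemma isIso_of_isIso_left {Z : AlgSp.Sp S} {E E' : EtOver Z} (g : E ⟶ E')
    [IsIso g.hom.left.left] : IsIso g := by
  let k : E'.obj.left ⟶ E.obj.left := Over.homMk (inv g.hom.left.left) (by
    rw [IsIso.inv_comp_eq]
    exact (Over.w g.hom.left).symm)
  have hk1 : k ≫ g.hom.left = 𝟙 _ := by
    ext
    exact IsIso.inv_hom_id g.hom.left.left
  have hk2 : g.hom.left ≫ k = 𝟙 _ := by
    ext
    exact IsIso.hom_inv_id g.hom.left.left
  let k' : E' ⟶ E := EtOver.homMk k (by
    have e1 : (yon S).map k ≫ E.obj.hom = (yon S).map k ≫ ((yon S).map g.hom.left ≫ E'.obj.hom) :=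
      congrArg (fun m => (yon S).map k ≫ m) (EtOver.w g).symm
    have e2 : (yon S).map k ≫ (yon S).map g.hom.left = 𝟙 _ :=
      ((yon S).map_comp k g.hom.left).symm.trans
        ((congrArg (fun m => (yon S).map m) hk1).trans (CategoryTheory.Functor.map_id _ _))
    exact e1.trans ((Category.assoc _ _ _).symm.trans
      ((congrArg (fun m => m ≫ E'.obj.hom) e2).trans (Category.id_comp _))))
  exact ⟨k', EtOver.hom_ext _ _ hk2, EtOver.hom_ext _ _ hk1⟩

lemma eq_preimage_compl_image_compl {α β : Type*} (c : α → β) (hc : Function.Injective c)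
    (O : Set α) : O = c ⁻¹' (c '' Oᶜ)ᶜ := by
  rw [Set.preimage_compl, Set.preimage_image_eq _ hc, compl_compl]

/-- a sieve whose members are jointly surjective is covering. -/
lemma sieve_mem_of_jointly_surjective {Z : AlgSp.Sp S} {V : EtOver Z} (T : Sieve V)
    (h : ∀ v : ↥V.obj.left.left, ∃ (W : EtOver Z) (w : W ⟶ V), T w ∧
      v ∈ Set.range w.hom.left.left) : T ∈ etTop Z V := by
  choose W w hT hv using h
  refine (etTop Z).superset_covering ?_ (ofArrows_mem_etTop W w (fun v => ⟨v, hv v⟩))
  intro A f hf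
  obtain ⟨v, a, rfl⟩ := (Sieve.mem_ofArrows_iff _ _ _).1 hf
  exact T.downward_closed (hT v) a

section Rep

variable {X Y : AlgSp.Sp S} {f : X ⟶ Y} (hf : Representable f)

instance isLocallyFaithful_bc : (EtOver.bc hf).IsLocallyFaithful (etTop X) where
  functorPushforward_equalizer_mem {U V} f₁ f₂ h := by
    have hl := isLimitForkMapOfIsLimit (EtOver.bc hf) (equalizer.condition f₁ f₂)
      (equalizerIsEqualizer f₁ f₂)
    haveI : IsIso ((EtOver.bc hf).map (equalizer.ι f₁ f₂)) :=
      isIso_limit_cone_parallelPair_of_eq h hl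
    exact functorPushforward_mem_of_isIso _ _ _ (equalizer.ι f₁ f₂) (equalizer.condition f₁ f₂)

end Rep

/-- Two open immersions in the small étale site with the same range are isomorphic. -/
theorem exists_iso_of_range_eq {Z : AlgSp.Sp S} {A B P : EtOver Z} (γ : A ⟶ P) (w : B ⟶ P)
    [IsOpenImmersion γ.hom.left.left] [IsOpenImmersion w.hom.left.left]
    (hr : Set.range γ.hom.left.left = Set.range w.hom.left.left) :
    ∃ θ : A ⟶ B, IsIso θ ∧ θ ≫ w = γ := by
  let θ0 := IsOpenImmersion.isoOfRangeEq γ.hom.left.left w.hom.left.left hr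
  have h0 : θ0.hom ≫ w.hom.left.left = γ.hom.left.left :=
    IsOpenImmersion.isoOfRangeEq_hom_fac _ _ hr
  let θ1 : A.obj.left ⟶ B.obj.left := Over.homMk θ0.hom (by
    rw [← Over.w w.hom.left, ← Category.assoc, h0]
    exact Over.w γ.hom.left)
  have h1 : θ1 ≫ w.hom.left = γ.hom.left := by
    ext
    exact h0
  let θ : A ⟶ B := EtOver.homMk θ1 (by
    rw [← EtOver.w w, ← Category.assoc, ← Functor.map_comp, h1]
    exact EtOver.w γ)
  refine ⟨θ, ?_, EtOver.hom_ext _ _ h1⟩
  haveI : IsIso θ.hom.left.left := inferInstanceAs (IsIso θ0.hom)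
  exact isIso_of_isIso_left θ

section Closed

variable {Z X : AlgSp.Sp S} {i : Z ⟶ X} (hi : AlgSp.RepWith @IsClosedImmersion i)

lemma isClosedImmersion_bcπ (P : EtOver X) : IsClosedImmersion (EtOver.bcπ hi.1 P).left :=
  hi.2 P.obj.hom _ _ (EtOver.isPullback_bcObj hi.1 P)

theorem exists_lift_hom (U U' : EtOver X)
    (h : (EtOver.bc hi.1).obj U ⟶ (EtOver.bc hi.1).obj U') :
    ∃ (W : EtOver X) (a : W ⟶ U) (b : W ⟶ U'), IsIso ((EtOver.bc hi.1).map a) ∧
      (EtOver.bc hi.1).map a ≫ h = (EtOver.bc hi.1).map b := by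
  let G := EtOver.bc hi.1
  let P : EtOver X := EtOver.prodObj U U'
  let γ : G.obj U ⟶ G.obj P := prodLift hi.1 U U' (𝟙 _) h
  have hγ1 : γ ≫ G.map (EtOver.prodFst U U') = 𝟙 _ := prodLift_fst hi.1 U U' (𝟙 _) h
  have hγ2 : γ ≫ G.map (EtOver.prodSnd U U') = h := prodLift_snd hi.1 U U' (𝟙 _) h
  haveI : Mono γ.hom.left.left := by
    have : γ.hom.left.left ≫ (G.map (EtOver.prodFst U U')).hom.left.left = 𝟙 _ :=
      congrArg (fun t => t.hom.left.left) hγ1
    exact mono_of_mono_fac this
  haveI : Etale γ.hom.left.left := EtOver.etale_left γ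
  haveI : IsOpenImmersion γ.hom.left.left := IsOpenImmersion.of_flat_of_mono γ.hom.left.left
  let c : (G.obj P).obj.left.left ⟶ P.obj.left.left := (EtOver.bcπ hi.1 P).left
  haveI : IsClosedImmersion c := isClosedImmersion_bcπ hi P
  let O : Set ↥(G.obj P).obj.left.left := Set.range γ.hom.left.left
  have hO : IsOpen O := IsOpenImmersion.isOpen_range γ.hom.left.left
  let W' : P.obj.left.left.Opens := ⟨(c '' Oᶜ)ᶜ,
    (c.isClosedEmbedding.isClosedMap _ hO.isClosed_compl).isOpen_compl⟩
  let W : EtOver X := openObj P W'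
  let w : W ⟶ P := openIncl P W'
  have hpb : IsPullback (G.map w).hom.left.left (EtOver.bcπ hi.1 W).left c W'.ι :=
    EtOver.isPullback_bcMap_left hi.1 w
  haveI : IsOpenImmersion (G.map w).hom.left.left :=
    MorphismProperty.of_isPullback (P := @IsOpenImmersion) hpb.flip
      (inferInstance : IsOpenImmersion W'.ι)
  have hr : Set.range γ.hom.left.left = Set.range (G.map w).hom.left.left := by
    have h1 := Scheme.image_preimage_eq_of_isPullback hpb.flip Set.univ
    rw [Set.preimage_univ, Set.image_univ, Set.image_univ] at h1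
    have h2 : Set.range W'.ι = (W' : Set ↥P.obj.left.left) := Scheme.Opens.range_ι W'
    have h3 : Set.range (G.map w).hom.left.left = c ⁻¹' (W' : Set ↥P.obj.left.left) :=
      h1.trans (congrArg (fun s => c ⁻¹' s) h2)
    refine Eq.trans ?_ h3.symm
    exact eq_preimage_compl_image_compl c c.isClosedEmbedding.injective O
  obtain ⟨θ, hθ, hθw⟩ := exists_iso_of_range_eq γ (G.map w) hr
  refine ⟨W, w ≫ EtOver.prodFst U U', w ≫ EtOver.prodSnd U U', ?_, ?_⟩
  · have : θ ≫ G.map (w ≫ EtOver.prodFst U U') = 𝟙 _ := by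
      rw [G.map_comp, ← Category.assoc, hθw, hγ1]
    have h2 : G.map (w ≫ EtOver.prodFst U U') = inv θ := by
      rw [← cancel_epi θ, this, IsIso.hom_inv_id]
    rw [h2]; infer_instance
  · rw [← cancel_epi θ, G.map_comp, G.map_comp, ← Category.assoc, ← Category.assoc,
      ← Category.assoc, hθw, hγ1, hγ2, Category.id_comp]

instance isLocallyFull_bc : (EtOver.bc hi.1).IsLocallyFull (etTop Z) where
  functorPushforward_imageSieve_mem {U V} f := by
    obtain ⟨W, a, b, ha, hab⟩ := exists_lift_hom hi U V f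
    exact functorPushforward_mem_of_isIso _ _ _ a ⟨b, hab.symm⟩

end Closed

end Groth.Agent.H7.ACI
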