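import Mathlib
import Groth.Agent.Lib.Helper7.ACI2
import Groth.Agent.Lib.Helper7.CI3

/-! # Base change of the small étale site along a closed immersion of algebraic spaces is
cover-dense. -/

set_option autoImplicit false
set_option linter.style.haveILetI false
set_option linter.unusedVariables false
set_option linter.unusedSectionVars false
universe u
open CategoryTheory CategoryTheory.Limits AlgebraicGeometry Opposite

set_option backward.isDefEq.respectTransparency false

namespace Groth.Agent.H7.ACI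

open AlgSp Groth.Agent.H7.ASm

variable {S : Scheme.{u}} {Z X : AlgSp.Sp S} {i : Z ⟶ X}
  (hi : AlgSp.RepWith @IsClosedImmersion i)

/-- the object of the small étale site given by an étale morphism to a chart. -/
noncomputable def etObj {U₀ : Over S} (p₀ : (yon S).obj U₀ ⟶ X) (hp₀ : RepWith @Etale p₀)
    {U₁ : Scheme.{u}} (q : U₁ ⟶ U₀.left) (hq : Etale q) : EtOver X :=
  EtOver.mk ((yon S).map (Over.homMk q rfl : Over.mk (q ≫ U₀.hom) ⟶ U₀) ≫ p₀)
    ((repWith_isMultiplicative (S := S) @Etale).comp_mem _ _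
      ((repWith_yon_map_iff _ _).2 hq) hp₀)

/-- its structure morphism to the chart. -/
noncomputable def etObjHom {U₀ : Over S} (p₀ : (yon S).obj U₀ ⟶ X) (hp₀ : RepWith @Etale p₀)
    {U₁ : Scheme.{u}} (q : U₁ ⟶ U₀.left) (hq : Etale q) :
    etObj p₀ hp₀ q hq ⟶ EtOver.mk p₀ hp₀ :=
  EtOver.homMk (Over.homMk q rfl) rfl

lemma etObjHom_left {U₀ : Over S} (p₀ : (yon S).obj U₀ ⟶ X) (hp₀ : RepWith @Etale p₀)
    {U₁ : Scheme.{u}} (q : U₁ ⟶ U₀.left) (hq : Etale q) :
    (etObjHom p₀ hp₀ q hq).hom.left.left = q := rfl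

/-- a morphism of the small étale site from a morphism of underlying schemes compatible with
morphisms to a third object. -/
lemma exists_hom_of_left {A B C : EtOver Z} (b : A ⟶ C) (π : B ⟶ C)
    (m₀ : A.obj.left.left ⟶ B.obj.left.left) (hm : m₀ ≫ π.hom.left.left = b.hom.left.left) :
    ∃ m : A ⟶ B, m.hom.left.left = m₀ ∧ m ≫ π = b := by
  let m₁ : A.obj.left ⟶ B.obj.left := Over.homMk m₀ (by
    have e1 : B.obj.left.hom = π.hom.left.left ≫ C.obj.left.hom := (Over.w π.hom.left).symm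
    have e2 : A.obj.left.hom = b.hom.left.left ≫ C.obj.left.hom := (Over.w b.hom.left).symm
    exact (congrArg (fun k => m₀ ≫ k) e1).trans ((Category.assoc _ _ _).symm.trans
      ((congrArg (fun k => k ≫ C.obj.left.hom) hm).trans e2.symm)))
  have h1 : m₁ ≫ π.hom.left = b.hom.left := by
    ext
    exact hm
  let m : A ⟶ B := EtOver.homMk m₁ (by
    have e1 : B.obj.hom = (yon S).map π.hom.left ≫ C.obj.hom := (EtOver.w π).symm
    have e2 : (yon S).map m₁ ≫ (yon S).map π.hom.left = (yon S).map b.hom.left :=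
      ((yon S).map_comp m₁ π.hom.left).symm.trans (congrArg (fun k => (yon S).map k) h1)
    exact (congrArg (fun k => (yon S).map m₁ ≫ k) e1).trans ((Category.assoc _ _ _).symm.trans
      ((congrArg (fun k => k ≫ C.obj.hom) e2).trans (EtOver.w b))))
  exact ⟨m, rfl, EtOver.hom_ext _ _ h1⟩

include hi in
theorem exists_cover_by_image (hX : IsAlgSpace X) (V : EtOver Z) (v : ↥V.obj.left.left) :
    ∃ (U : EtOver X) (m : (EtOver.bc hi.1).obj U ⟶ V), v ∈ Set.range m.hom.left.left := by
  obtain ⟨U₀, p₀, hp₀, hs₀⟩ := hX.atlas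
  let G := EtOver.bc hi.1
  let E₀ : EtOver X := EtOver.mk p₀ hp₀
  let Z₀ : EtOver Z := G.obj E₀
  have hsZ : RepWith @Surjective (hi.1.fst p₀) :=
    MorphismProperty.of_isPullback (hi.1.isPullback p₀).flip hs₀
  have hsurj : Function.Surjective (EtOver.prodFst V Z₀).hom.left.left :=
    surjective_prodFst (hi.1.fst p₀) Z₀.property hsZ V
  obtain ⟨v', hv'⟩ := hsurj v
  let π₁ := EtOver.prodFst V Z₀
  let π₂ := EtOver.prodSnd V Z₀
  let f₀ : Z₀.obj.left.left ⟶ U₀.left := (EtOver.bcπ hi.1 E₀).left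
  haveI : IsClosedImmersion f₀ := isClosedImmersion_bcπ hi E₀
  let p : (EtOver.prodObj V Z₀).obj.left.left ⟶ Z₀.obj.left.left := π₂.hom.left.left
  haveI : Etale p := EtOver.etale_left π₂
  obtain ⟨U₁, q, hq, h, h1, h2, y, hy⟩ := Groth.Agent.H7.CI.exists_etale_lift f₀ p v'
  let U : EtOver X := etObj p₀ hp₀ q hq
  let g : U ⟶ E₀ := etObjHom p₀ hp₀ q hq
  have hpb : IsPullback (G.map g).hom.left.left (EtOver.bcπ hi.1 U).left f₀ q :=
    EtOver.isPullback_bcMap_left hi.1 g
  let e := hpb.flip.isoPullback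
  have he : e.hom ≫ pullback.snd q f₀ = (G.map g).hom.left.left := hpb.flip.isoPullback_hom_snd
  let m₀ : (G.obj U).obj.left.left ⟶ (EtOver.prodObj V Z₀).obj.left.left := e.hom ≫ h
  have hm₀ : m₀ ≫ π₂.hom.left.left = (G.map g).hom.left.left := by
    change (e.hom ≫ h) ≫ p = _
    rw [Category.assoc, h1, he]
  obtain ⟨m, hm, -⟩ := exists_hom_of_left (G.map g) π₂ m₀ hm₀
  refine ⟨U, m ≫ π₁, e.inv y, ?_⟩
  have e1 : (m ≫ π₁).hom.left.left = (e.hom ≫ h) ≫ π₁.hom.left.left :=
    congrArg (fun k => k ≫ π₁.hom.left.left) hm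
  have e2 : (m ≫ π₁).hom.left.left (e.inv y) = π₁.hom.left.left (h (e.hom (e.inv y))) := by
    rw [e1]
    simp only [Scheme.Hom.comp_apply]
  rw [e2]
  have e3 : e.hom (e.inv y) = y := by
    rw [← Scheme.Hom.comp_apply, e.inv_hom_id]
    rfl
  rw [e3]
  exact (congrArg (fun t => π₁.hom.left.left t) hy).trans hv'

/-- base change along a closed immersion of algebraic spaces is cover-dense. -/
theorem isCoverDense_bc (hX : IsAlgSpace X) : (EtOver.bc hi.1).IsCoverDense (etTop Z) where
  is_cover V := by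
    refine sieve_mem_of_jointly_surjective _ (fun v => ?_)
    obtain ⟨U, m, hm⟩ := exists_cover_by_image hi hX V v
    exact ⟨(EtOver.bc hi.1).obj U, m, Presieve.in_coverByImage _ m, hm⟩

end Groth.Agent.H7.ACI
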