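import Mathlib
import Groth.Agent.Lib.Helper7.ACI3

/-! # Pushforward along a closed immersion of algebraic spaces is fully faithful on the small
étale sites. -/

set_option autoImplicit false
set_option linter.style.haveILetI false
set_option linter.unusedVariables false
set_option linter.unusedSectionVars false
universe u
open CategoryTheory CategoryTheory.Limits AlgebraicGeometry Opposite

set_option backward.isDefEq.respectTransparency false

namespace Groth.Agent.H7.ACI

open AlgSp

/-- pushforward along a continuous, cover-dense, locally full and locally faithful functor is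
fully faithful. -/
theorem full_faithful_of_dense {C D : Type*} [Category C] [Category D] (G : C ⥤ D)
    (J : GrothendieckTopology C) (K : GrothendieckTopology D) (A : Type*) [Category A]
    [G.IsContinuous J K] [G.IsCoverDense K] [G.IsLocallyFull K] [G.IsLocallyFaithful K]
    [∀ V, HasLimitsOfShape (StructuredArrow V G.op) A] :
    (G.sheafPushforwardContinuous A J K).Full ∧ (G.sheafPushforwardContinuous A J K).Faithful := by
  let J' : GrothendieckTopology C := G.inducedTopology K
  haveI : G.IsDenseSubsite J' K := inferInstance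
  let P : Sheaf K A ⥤ Sheaf J' A := G.sheafPushforwardContinuous A J' K
  haveI : P.IsEquivalence := inferInstance
  constructor
  · constructor
    intro F₁ F₂ φ
    let φ' : P.obj F₁ ⟶ P.obj F₂ := ⟨φ.hom⟩
    refine ⟨P.preimage φ', ?_⟩
    apply Sheaf.hom_ext
    exact congrArg (fun t => t.hom) (P.map_preimage φ')
  · constructor
    intro F₁ F₂ ψ₁ ψ₂ h
    apply P.map_injective
    apply Sheaf.hom_ext
    exact congrArg (fun t => t.hom) h

variable {S : Scheme.{u}} {Z X : AlgSp.Sp S} {i : Z ⟶ X}
  (hi : AlgSp.RepWith @IsClosedImmersion i)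

instance hasLimitsStructuredArrow_type (V : (EtOver Z)ᵒᵖ) :
    HasLimitsOfShape (StructuredArrow V (EtOver.bc hi.1).op) (Type (u + 1)) := by
  haveI : HasLimitsOfSize.{u, u + 1} (Type (u + 1)) :=
    hasLimitsOfSizeShrink.{u, u + 1, u + 1, u + 1} _
  infer_instance

instance hasLimitsStructuredArrow_ab (V : (EtOver Z)ᵒᵖ) :
    HasLimitsOfShape (StructuredArrow V (EtOver.bc hi.1).op) AddCommGrpCat.{u + 1} := by
  haveI : HasLimitsOfSize.{u, u + 1} AddCommGrpCat.{u + 1} :=
    hasLimitsOfSizeShrink.{u, u + 1, u + 1, u + 1} _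
  infer_instance

include hi in
theorem pushEt_full_faithful_type (hX : IsAlgSpace X) :
    (AlgSp.pushEt hi.1 (Type (u + 1))).Full ∧ (AlgSp.pushEt hi.1 (Type (u + 1))).Faithful := by
  haveI := isCoverDense_bc hi hX
  haveI := isLocallyFull_bc hi
  exact full_faithful_of_dense (EtOver.bc hi.1) (etTop X) (etTop Z) (Type (u + 1))

include hi in
theorem pushEt_full_faithful_ab (hX : IsAlgSpace X) :
    (AlgSp.pushEt hi.1 AddCommGrpCat.{u + 1}).Full ∧
      (AlgSp.pushEt hi.1 AddCommGrpCat.{u + 1}).Faithful := by
  haveI := isCoverDense_bc hi hX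
  haveI := isLocallyFull_bc hi
  exact full_faithful_of_dense (EtOver.bc hi.1) (etTop X) (etTop Z) AddCommGrpCat.{u + 1}

theorem S9983_main {Z X : AlgSp.Space S} (i : Z ⟶ X)
    (hi : AlgSp.RepWith @IsClosedImmersion i.hom) :
    ((AlgSp.pushEt hi.1 (Type (u + 1))).Full ∧ (AlgSp.pushEt hi.1 (Type (u + 1))).Faithful) ∧
    ((AlgSp.pushEt hi.1 AddCommGrpCat.{u + 1}).Full ∧
      (AlgSp.pushEt hi.1 AddCommGrpCat.{u + 1}).Faithful) ∧
    IsIso (AlgSp.pullPushAdjEt hi.1 (Type (u + 1))).counit := by
  have h1 := pushEt_full_faithful_type hi X.property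
  have h2 := pushEt_full_faithful_ab hi X.property
  refine ⟨h1, h2, ?_⟩
  haveI := h1.1
  haveI := h1.2
  infer_instance

end Groth.Agent.H7.ACI
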