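import Mathlib
import Groth.Agent.Lib.Helper7.ACI3
import Groth.Agent.Lib.Helper3.AlgSpProp.EtPoint
import Groth.Prelude.Def_AlgSpOX3

/-! # Stalks of the direct image along a closed immersion of algebraic spaces. -/

set_option autoImplicit false
set_option linter.style.haveILetI false
set_option linter.unusedVariables false
set_option linter.unusedSectionVars false
universe u
open CategoryTheory CategoryTheory.Limits AlgebraicGeometry Opposite

set_option backward.isDefEq.respectTransparency false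

namespace Groth.Agent.H7.ACI

open AlgSp Groth.Agent.H7.ASm

variable {S : Scheme.{u}} {Z X : AlgSp.Sp S} {i : Z ⟶ X}
  (hi : AlgSp.RepWith @IsClosedImmersion i)

/-- the lifted point of the base change of an étale neighbourhood. -/
noncomputable def liftPt (z : FieldPt Z) (N : EtNbhd (z.map i)) :
    (FieldPt.liftsTo z).obj ((EtOver.bc hi.1).obj N.1) :=
  ⟨hi.1.lift z.toHom N.2.1 ((N.2.2.trans (FieldPt.toHom_map i z)).symm), hi.1.lift_fst _ _ _⟩

lemma liftPt_snd (z : FieldPt Z) (N : EtNbhd (z.map i)) :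
    (liftPt hi z N).1 ≫ hi.1.snd N.1.obj.hom = N.2.1 := hi.1.lift_snd _ _ _

/-- a lift of `z` to a base change is determined by its projection. -/
lemma liftsTo_ext_bc (z : FieldPt Z) {U : EtOver X}
    (a b : (FieldPt.liftsTo z).obj ((EtOver.bc hi.1).obj U))
    (h : a.1 ≫ hi.1.snd U.obj.hom = b.1 ≫ hi.1.snd U.obj.hom) : a = b :=
  Subtype.ext (hi.1.hom_ext (a.2.trans b.2.symm) h)

/-- base change of étale neighbourhoods. -/
noncomputable def nbhdMap (z : FieldPt Z) : EtNbhd (z.map i) ⥤ EtNbhd z where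
  obj N := ⟨(EtOver.bc hi.1).obj N.1, liftPt hi z N⟩
  map {N N'} g := ⟨(EtOver.bc hi.1).map g.1, by
    apply liftsTo_ext_bc hi
    change ((liftPt hi z N).1 ≫ (EtOver.bcMap hi.1 g.1).hom.left) ≫ hi.1.snd N'.1.obj.hom = _
    rw [Category.assoc, EtOver.bcMap_snd, ← Category.assoc, liftPt_snd, liftPt_snd]
    exact congrArg Subtype.val g.2⟩
  map_id N := Subtype.ext ((EtOver.bc hi.1).map_id _)
  map_comp g g' := Subtype.ext ((EtOver.bc hi.1).map_comp _ _)

include hi in
theorem nbhdMap_exists (hX : IsAlgSpace X) (z : FieldPt Z) (hz : z.IsGeometric)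
    (d : EtNbhd z) : ∃ c, Nonempty ((nbhdMap hi z).obj c ⟶ d) := by
  obtain ⟨V, v⟩ := d
  obtain ⟨Y, f, hf, y, hy⟩ := Groth.Agent.H3.AlgSpProp.liftsTo_jointly_surjective z hz _
    ((isCoverDense_bc hi hX).is_cover V) v
  obtain ⟨⟨U, l, m, fac⟩⟩ := hf
  let w : (FieldPt.liftsTo z).obj ((EtOver.bc hi.1).obj U) := (FieldPt.liftsTo z).map l y
  have hw : (FieldPt.liftsTo z).map m w = v := by
    rw [← hy, ← fac, Functor.map_comp]
    rfl
  let u : (FieldPt.liftsTo (z.map i)).obj U := ⟨w.1 ≫ hi.1.snd U.obj.hom, by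
    rw [Functor.map_comp, Category.assoc, ← hi.1.w, ← Category.assoc, FieldPt.toHom_map]
    congr 1
    exact w.2⟩
  have e : liftPt hi z ⟨U, u⟩ = w := liftsTo_ext_bc hi z _ _ (liftPt_snd hi z ⟨U, u⟩)
  refine ⟨⟨U, u⟩, ⟨⟨m, ?_⟩⟩⟩
  change (FieldPt.liftsTo z).map m (liftPt hi z ⟨U, u⟩) = v
  rw [e]
  exact hw

include hi in
theorem nbhdMap_equalize (z : FieldPt Z) {d : EtNbhd z} {c : EtNbhd (z.map i)}
    (s s' : (nbhdMap hi z).obj c ⟶ d) :
    ∃ (c' : EtNbhd (z.map i)) (t : c' ⟶ c),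
      (nbhdMap hi z).map t ≫ s = (nbhdMap hi z).map t ≫ s' := by
  obtain ⟨V, v⟩ := d
  obtain ⟨U, u⟩ := c
  let G := EtOver.bc hi.1
  let P : EtOver Z := EtOver.prodObj V V
  let Δ : V ⟶ P := (EtOver.prodIsLimit V V).lift (BinaryFan.mk (𝟙 V) (𝟙 V))
  have hΔ1 : Δ ≫ EtOver.prodFst V V = 𝟙 V := (EtOver.prodIsLimit V V).fac _ ⟨WalkingPair.left⟩
  have hΔ2 : Δ ≫ EtOver.prodSnd V V = 𝟙 V := (EtOver.prodIsLimit V V).fac _ ⟨WalkingPair.right⟩
  let γ : G.obj U ⟶ P := (EtOver.prodIsLimit V V).lift (BinaryFan.mk s.1 s'.1)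
  have hγ1 : γ ≫ EtOver.prodFst V V = s.1 := (EtOver.prodIsLimit V V).fac _ ⟨WalkingPair.left⟩
  have hγ2 : γ ≫ EtOver.prodSnd V V = s'.1 := (EtOver.prodIsLimit V V).fac _ ⟨WalkingPair.right⟩
  have hΔ1' : Δ.hom.left.left ≫ (EtOver.prodFst V V).hom.left.left = 𝟙 _ :=
    congrArg (fun t => t.hom.left.left) hΔ1
  have hΔ2' : Δ.hom.left.left ≫ (EtOver.prodSnd V V).hom.left.left = 𝟙 _ :=
    congrArg (fun t => t.hom.left.left) hΔ2
  have hγ1' : γ.hom.left.left ≫ (EtOver.prodFst V V).hom.left.left = s.1.hom.left.left :=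
    congrArg (fun t => t.hom.left.left) hγ1
  have hγ2' : γ.hom.left.left ≫ (EtOver.prodSnd V V).hom.left.left = s'.1.hom.left.left :=
    congrArg (fun t => t.hom.left.left) hγ2
  haveI : Mono Δ.hom.left.left := mono_of_mono_fac hΔ1'
  haveI : Etale Δ.hom.left.left := EtOver.etale_left Δ
  haveI : IsOpenImmersion Δ.hom.left.left := IsOpenImmersion.of_flat_of_mono Δ.hom.left.left
  let cc : (G.obj U).obj.left.left ⟶ U.obj.left.left := (EtOver.bcπ hi.1 U).left
  haveI : IsClosedImmersion cc := isClosedImmersion_bcπ hi U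
  let O : Set ↥(G.obj U).obj.left.left := γ.hom.left.left ⁻¹' (Set.range Δ.hom.left.left)
  have hO : IsOpen O :=
    (IsOpenImmersion.isOpen_range Δ.hom.left.left).preimage γ.hom.left.left.continuous
  let W' : U.obj.left.left.Opens := ⟨(cc '' Oᶜ)ᶜ,
    (cc.isClosedEmbedding.isClosedMap _ hO.isClosed_compl).isOpen_compl⟩
  let U' : EtOver X := openObj U W'
  let t₀ : U' ⟶ U := openIncl U W'
  have hpb : IsPullback (G.map t₀).hom.left.left (EtOver.bcπ hi.1 U').left cc W'.ι :=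
    EtOver.isPullback_bcMap_left hi.1 t₀
  have hr : Set.range (G.map t₀).hom.left.left ⊆ O := by
    rintro _ ⟨a, rfl⟩
    by_contra hn
    have h1 : cc ((G.map t₀).hom.left.left a) ∈ cc '' Oᶜ := ⟨_, hn, rfl⟩
    have h2 : cc ((G.map t₀).hom.left.left a) = W'.ι ((EtOver.bcπ hi.1 U').left a) := by
      have e0 := congrArg (fun m : (G.obj U').obj.left.left ⟶ U.obj.left.left => m a) hpb.w
      exact (Scheme.Hom.comp_apply _ _ _).symm.trans (e0.trans (Scheme.Hom.comp_apply _ _ _))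
    rw [h2] at h1
    have h3 : W'.ι ((EtOver.bcπ hi.1 U').left a) ∈ (W' : Set ↥U.obj.left.left) := by
      rw [← Scheme.Opens.range_ι W']
      exact ⟨_, rfl⟩
    exact h3 h1
  have heq : G.map t₀ ≫ s.1 = G.map t₀ ≫ s'.1 := by
    let j := (G.map t₀).hom.left.left
    have hsub : Set.range (j ≫ γ.hom.left.left) ⊆ Set.range Δ.hom.left.left := by
      rintro _ ⟨a, rfl⟩
      rw [Scheme.Hom.comp_apply]
      exact hr ⟨a, rfl⟩
    let k := IsOpenImmersion.lift Δ.hom.left.left (j ≫ γ.hom.left.left) hsub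
    have hk : k ≫ Δ.hom.left.left = j ≫ γ.hom.left.left := IsOpenImmersion.lift_fac _ _ _
    have e1 : j ≫ s.1.hom.left.left = k := by
      rw [← hγ1', ← Category.assoc, ← hk, Category.assoc, hΔ1', Category.comp_id]
    have e2 : j ≫ s'.1.hom.left.left = k := by
      rw [← hγ2', ← Category.assoc, ← hk, Category.assoc, hΔ2', Category.comp_id]
    apply EtOver.hom_ext
    apply Over.OverMorphism.ext
    exact e1.trans e2.symm
  -- the point
  let l := (liftPt hi z ⟨U, u⟩).1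
  have hl1 : l ≫ s.1.hom.left = v.1 := congrArg Subtype.val s.2
  have hl2 : l ≫ s'.1.hom.left = v.1 := congrArg Subtype.val s'.2
  have hlc : l ≫ hi.1.snd U.obj.hom = u.1 := liftPt_snd hi z ⟨U, u⟩
  have hlγ : l ≫ γ.hom.left = v.1 ≫ Δ.hom.left := by
    refine Functor.relativelyRepresentable.hom_ext' V.property.1 ?_ ?_
    · have a1 : (l ≫ γ.hom.left) ≫ (EtOver.prodSnd V V).hom.left = v.1 := by
        rw [Category.assoc]
        exact (congrArg (fun t => l ≫ t.hom.left) hγ2).trans hl2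
      have a2 : (v.1 ≫ Δ.hom.left) ≫ (EtOver.prodSnd V V).hom.left = v.1 := by
        rw [Category.assoc]
        exact (congrArg (fun t => v.1 ≫ t.hom.left) hΔ2).trans (Category.comp_id _)
      exact a1.trans a2.symm
    · have a1 : (l ≫ γ.hom.left) ≫ (EtOver.prodFst V V).hom.left = v.1 := by
        rw [Category.assoc]
        exact (congrArg (fun t => l ≫ t.hom.left) hγ1).trans hl1
      have a2 : (v.1 ≫ Δ.hom.left) ≫ (EtOver.prodFst V V).hom.left = v.1 := by
        rw [Category.assoc]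
        exact (congrArg (fun t => v.1 ≫ t.hom.left) hΔ1).trans (Category.comp_id _)
      exact a1.trans a2.symm
  let pt : ↥(Spec (CommRingCat.of z.K)) := default
  have hx₀ : l.left pt ∈ O := by
    change γ.hom.left.left (l.left pt) ∈ Set.range Δ.hom.left.left
    refine ⟨v.1.left pt, ?_⟩
    rw [← Scheme.Hom.comp_apply, ← Scheme.Hom.comp_apply]
    exact congrArg (fun t : z.pt ⟶ P.obj.left => t.left pt) hlγ.symm
  have hcx₀ : cc (l.left pt) = u.1.left pt := by
    rw [← Scheme.Hom.comp_apply]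
    exact congrArg (fun t : z.pt ⟶ U.obj.left => t.left pt) hlc
  have hmem : u.1.left pt ∈ (W' : Set ↥U.obj.left.left) := by
    rintro ⟨y, hy, hy'⟩
    have : y = l.left pt := cc.isClosedEmbedding.injective (hy'.trans hcx₀.symm)
    exact hy (this ▸ hx₀)
  have hrange : Set.range u.1.left ⊆ Set.range W'.ι := by
    rintro _ ⟨a, rfl⟩
    have ha : a = pt := Subsingleton.elim (α := ↥(Spec (CommRingCat.of z.K))) _ _
    rw [ha, Scheme.Opens.range_ι W']
    exact hmem
  let u'₀ := IsOpenImmersion.lift W'.ι u.1.left hrange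
  have hu'₀ : u'₀ ≫ W'.ι = u.1.left := IsOpenImmersion.lift_fac _ _ _
  let u'₁ : z.pt ⟶ U'.obj.left := Over.homMk u'₀ (by
    change u'₀ ≫ W'.ι ≫ U.obj.left.hom = z.pt.hom
    rw [← Category.assoc, hu'₀]
    exact Over.w u.1)
  have hu'₁ : u'₁ ≫ t₀.hom.left = u.1 := by
    apply Over.OverMorphism.ext
    exact hu'₀
  have hu'₂ : (yon S).map u'₁ ≫ U'.obj.hom = (z.map i).toHom := by
    have e1 : U'.obj.hom = (yon S).map t₀.hom.left ≫ U.obj.hom := (EtOver.w t₀).symm
    rw [e1, ← Category.assoc, ← Functor.map_comp, hu'₁]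
    exact u.2
  refine ⟨⟨U', ⟨u'₁, hu'₂⟩⟩, ⟨t₀, Subtype.ext hu'₁⟩, ?_⟩
  exact Subtype.ext heq

include hi in
theorem initial_nbhdMap (hX : IsAlgSpace X) (z : FieldPt Z) (hz : z.IsGeometric) :
    (nbhdMap hi z).Initial := by
  haveI : IsCofiltered (EtNbhd (z.map i)) :=
    Groth.Agent.H3.AlgSpProp.isCofiltered_etNbhd hX (z.map i) hz
  exact Functor.initial_of_exists_of_isCofiltered _ (nbhdMap_exists hi hX z hz)
    (fun s s' => nbhdMap_equalize hi z s s')

/-- the stalk of the direct image along a closed immersion. -/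
noncomputable def stalkIso (hX : IsAlgSpace X) (z : FieldPt Z) (hz : z.IsGeometric)
    (F : AlgSp.EtSh Z (Type (u + 1))) :
    AlgSp.stalkEt (z.map i) ((AlgSp.pushEt hi.1 (Type (u + 1))).obj F) ≅ AlgSp.stalkEt z F :=
  haveI := initial_nbhdMap hi hX z hz
  (Iso.refl _ : colimit (stalkEtDiagram (z.map i) ((AlgSp.pushEt hi.1 (Type (u + 1))).obj F)) ≅
    colimit ((nbhdMap hi z).op ⋙ stalkEtDiagram z F)) ≪≫
    Functor.Final.colimitIso (nbhdMap hi z).op (stalkEtDiagram z F)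

theorem S9998_main (hX : IsAlgSpace X) (z : FieldPt Z) (hz : z.IsGeometric)
    (F : AlgSp.EtSh Z (Type (u + 1))) :
    ∃ φ : AlgSp.stalkEt (z.map i) ((AlgSp.pushEt hi.1 (Type (u + 1))).obj F) ≃ AlgSp.stalkEt z F,
      ∀ (N : AlgSp.EtNbhd (z.map i)) (s : F.obj.obj (op ((AlgSp.EtOver.bc hi.1).obj N.1))),
        φ (AlgSp.stalkEtι (z.map i) ((AlgSp.pushEt hi.1 (Type (u + 1))).obj F) N s) =
          AlgSp.stalkEtι z F ⟨(AlgSp.EtOver.bc hi.1).obj N.1,
            ⟨hi.1.lift z.toHom N.2.1 ((N.2.2.trans (AlgSp.FieldPt.toHom_map i z)).symm),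
              hi.1.lift_fst _ _ _⟩⟩ s := by
  haveI := initial_nbhdMap hi hX z hz
  refine ⟨(stalkIso hi hX z hz F).toEquiv, fun N s => ?_⟩
  have h := Functor.Final.ι_colimitIso_hom (nbhdMap hi z).op (stalkEtDiagram z F) (op N)
  exact ConcreteCategory.congr_hom h s

end Groth.Agent.H7.ACI
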