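import Groth.Prelude.Def_AlgSpOX2
import Groth.Prelude.Def_AlgSpSub
import Groth.Agent.Lib.Helper7.SchDenseSp1
import Mathlib

/-!
# Scheme theoretic density and injectivity of `O_X → j_* O_U` on the small etale site
-/

set_option autoImplicit false

universe u

open CategoryTheory CategoryTheory.Limits AlgebraicGeometry Opposite Topology

namespace Groth.Agent.H7.SchDenseSp

open _root_.AlgSp Groth.Agent.H5.AlgSp Groth.Agent.H2.SchDense

section Scheme

lemma presheaf_map_injective_congr' {X : Scheme.{u}} {A A' B B' : X.Opens} (hA : A = A')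
    (hB : B = B') (h : B ≤ A) (h' : B' ≤ A') :
    Function.Injective (X.presheaf.map (homOfLE h).op) ↔
      Function.Injective (X.presheaf.map (homOfLE h').op) := by
  subst hA hB
  rfl

lemma appTop_injective_comp_iso {A A' B : Scheme.{u}} (e : A' ⟶ A) [IsIso e] (g : A ⟶ B) :
    Function.Injective (e ≫ g).appTop ↔ Function.Injective g.appTop := by
  have h1 : ∀ x, (inv e).appTop (e.appTop x) = x := by
    intro x
    have := congrArg (fun m : A ⟶ A => m.appTop x) (IsIso.inv_hom_id e)
    simpa using this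
  have h2 : ∀ x, (e ≫ g).appTop x = e.appTop (g.appTop x) := by
    intro x
    rw [Scheme.Hom.comp_appTop]; rfl
  constructor
  · intro h a b hab
    apply h
    rw [h2, h2, hab]
  · intro h a b hab
    rw [h2, h2] at hab
    apply h
    have := congrArg (inv e).appTop hab
    rwa [h1, h1] at this

end Scheme

section Sp

variable {S : Scheme.{u}}

set_option backward.isDefEq.respectTransparency false in
lemma bcRingHom_app_apply {X Y : Sp S} {f : X ⟶ Y} (hf : Representable f) (E : EtOver Y)
    (s : (OEtRing Y).obj.obj (op E)) :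
    ((bcRingHom hf).hom.app (op E)) s =
      ULift.up ((EtOver.bcπ hf E).left.appTop.hom s.down) := rfl

lemma bcRingHom_app_injective_iff {X Y : Sp S} {f : X ⟶ Y} (hf : Representable f) (E : EtOver Y) :
    Function.Injective ((bcRingHom hf).hom.app (op E)) ↔
      Function.Injective (EtOver.bcπ hf E).left.appTop := by
  constructor
  · intro h a b hab
    have h1 : ((bcRingHom hf).hom.app (op E)) (ULift.up a) =
        ((bcRingHom hf).hom.app (op E)) (ULift.up b) := by
      rw [bcRingHom_app_apply, bcRingHom_app_apply]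
      exact congrArg ULift.up hab
    exact congrArg ULift.down (h h1)
  · intro h a b hab
    rw [bcRingHom_app_apply, bcRingHom_app_apply] at hab
    have := h (congrArg ULift.down hab)
    exact ULift.ext _ _ this

/-- For an open immersion over a chart given as the base change of `j`: injectivity of pullback of
global functions is injectivity of restriction to the open representing the base change. -/
lemma appTop_injective_iff_of_isPullback {U X : Sp S} {j : U ⟶ X} {V U' : Over S}
    {φ : (yon S).obj V ⟶ X} {a : (yon S).obj U' ⟶ U} {g : U' ⟶ V} [IsOpenImmersion g.left]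
    (sq : IsPullback a ((yon S).map g) j φ) :
    ∃ (W : V.left.Opens) (fst : (yon S).obj (overOpen V W) ⟶ U),
      IsPullback fst ((yon S).map (overOpenι V W)) j φ ∧
        (Function.Injective g.left.appTop ↔
          Function.Injective (V.left.presheaf.map (homOfLE (inf_le_left : ⊤ ⊓ W ≤ ⊤)).op)) := by
  obtain ⟨W, fst, sqW, e, he⟩ := exists_isPullback_overOpen sq
  refine ⟨W, fst, sqW, ?_⟩
  have h1 : g.left = e.hom.left ≫ W.ι := by
    have := congrArg (fun m => m.left) he
    exact this.symm
  haveI : IsIso e.hom.left := by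
    change IsIso ((Over.forget S).map e.hom)
    infer_instance
  rw [h1, appTop_injective_comp_iso]
  exact injective_ι_app_iff W ⊤

lemma key {U X : Sp S} {j : U ⟶ X} (hj : RepWith @IsOpenImmersion j) (V : Over S)
    (φ : (yon S).obj V ⟶ X) :
    ∃ (W : V.left.Opens) (fst : (yon S).obj (overOpen V W) ⟶ U),
      IsPullback fst ((yon S).map (overOpenι V W)) j φ ∧
        (Function.Injective (hj.1.snd φ).left.appTop ↔
          Function.Injective (V.left.presheaf.map (homOfLE (inf_le_left : ⊤ ⊓ W ≤ ⊤)).op)) := by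
  have sq : IsPullback (hj.1.fst φ) ((yon S).map (hj.1.snd φ)) j φ := hj.1.isPullback φ
  haveI : IsOpenImmersion (hj.1.snd φ).left := hj.property _ _ _ sq
  exact appTop_injective_iff_of_isPullback sq

theorem mono_bcRingHom_of_isSchDense {U X : Sp S} {j : U ⟶ X} (hj : RepWith @IsOpenImmersion j)
    (hd : IsSchDense j) : Mono (bcRingHom hj.1) := by
  apply Sheaf.mono_of_injective
  intro E
  rw [bcRingHom_app_injective_iff]
  obtain ⟨W, fst, sqW, hiff⟩ := key hj E.unop.obj.left E.unop.obj.hom
  change Function.Injective (hj.1.snd E.unop.obj.hom).left.appTop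
  rw [hiff]
  exact schDense_of_isSchDense hd _ _ E.unop.property W fst sqW ⊤

lemma inj_of_mono {U X : Sp S} {j : U ⟶ X}
    (hj : RepWith @IsOpenImmersion j) (hm : Mono (bcRingHom hj.1)) (V : Over S)
    (φ : (yon S).obj V ⟶ X) (hφ : RepWith @Etale φ) :
    Function.Injective (hj.1.snd φ).left.appTop := by
  have hm' : Mono (bcRingHom hj.1).hom := inferInstance
  have h0 : Function.Injective ((bcRingHom hj.1).hom.app (op (EtOver.mk φ hφ))) := by
    have : Mono ((bcRingHom hj.1).hom.app (op (EtOver.mk φ hφ))) := inferInstance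
    exact ConcreteCategory.injective_of_mono_of_preservesPullback _
  rw [bcRingHom_app_injective_iff] at h0
  exact h0

theorem isSchDense_of_mono_bcRingHom {U X : Sp S} (hX : IsAlgSpace X) {j : U ⟶ X}
    (hj : RepWith @IsOpenImmersion j) (hm : Mono (bcRingHom hj.1)) : IsSchDense j := by
  obtain ⟨V, φ, hφe, hφs⟩ := hX.atlas
  obtain ⟨W, fst, sqW, -⟩ := key hj V φ
  refine ⟨hj, V, φ, W, fst, hφe, hφs, sqW, ?_⟩
  intro V'
  -- the chart V' ⟶ V ⟶ X
  have hφ' : RepWith @Etale ((yon S).map (overOpenι V V') ≫ φ) :=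
    (RepWith @Etale).comp_mem _ _
      (repWith_overOpenι @Etale (fun f _ => inferInstance) V V') hφe
  obtain ⟨W', fst', sqW', hiff⟩ := key hj (overOpen V V') ((yon S).map (overOpenι V V') ≫ φ)
  have hinj' := hiff.1 (inj_of_mono hj hm _ _ hφ')
  -- identify W' with the inverse image of W in V'
  have hW' : W' = V'.ι ⁻¹ᵁ W := by
    apply le_antisymm
    · intro t ht
      have h1 : ∀ t' : ↥(overOpen (overOpen V V') W').left,
          (overOpenι (overOpen V V') W').left t' ∈ W' := fun t' => t'.2
      obtain ⟨x, hx⟩ := (forall_mem_iff_exists_lift sqW' _).1 h1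
      have hx' : x ≫ j = (yon S).map (overOpenι (overOpen V V') W' ≫ overOpenι V V') ≫ φ := by
        rw [hx, Functor.map_comp, Category.assoc]
      exact (forall_mem_iff_exists_lift sqW _).2 ⟨x, hx'⟩ ⟨t, ht⟩
    · intro t ht
      have h1 : ∀ t' : ↥(overOpen (overOpen V V') (V'.ι ⁻¹ᵁ W)).left,
          (overOpenι (overOpen V V') (V'.ι ⁻¹ᵁ W) ≫ overOpenι V V').left t' ∈ W := fun t' => t'.2
      obtain ⟨x, hx⟩ := (forall_mem_iff_exists_lift sqW _).1 h1
      have hx' : x ≫ j = (yon S).map (overOpenι (overOpen V V') (V'.ι ⁻¹ᵁ W)) ≫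
          ((yon S).map (overOpenι V V') ≫ φ) := by
        rw [hx, Functor.map_comp, Category.assoc]
      exact (forall_mem_iff_exists_lift sqW' _).2 ⟨x, hx'⟩ ⟨t, ht⟩
  rw [hW'] at hinj'
  have h2 : Function.Injective (V.left.presheaf.map
      (homOfLE (V'.ι.image_mono (inf_le_left : ⊤ ⊓ V'.ι ⁻¹ᵁ W ≤ ⊤))).op) := hinj'
  refine (presheaf_map_injective_congr' ?_ ?_ _ _).1 h2
  · exact Scheme.Opens.ι_image_top V'
  · have h3 : V'.ι ''ᵁ (⊤ ⊓ V'.ι ⁻¹ᵁ W) = V' ⊓ W := by
      rw [top_inf_eq, ι_image_preimage_eq_inf, inf_comm]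
    exact h3

theorem S9986_main {U X : AlgSp.Space S} (j : U ⟶ X)
    (hj : AlgSp.RepWith @IsOpenImmersion j.hom) :
    AlgSp.IsSchDense j.hom ↔ Mono (AlgSp.bcRingHom hj.1) :=
  ⟨mono_bcRingHom_of_isSchDense hj, isSchDense_of_mono_bcRingHom X.property hj⟩

end Sp

end Groth.Agent.H7.SchDenseSp
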