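import Groth.Prelude.Def_AlgSpOX2
import Groth.Prelude.Def_AlgSpSub
import Groth.Agent.Lib.Helper7.SchDenseSp2
import Mathlib

/-!
# Closed immersions of algebraic spaces: `O_X → i_* O_Z` is locally surjective
-/

set_option autoImplicit false

universe u

open CategoryTheory CategoryTheory.Limits AlgebraicGeometry Opposite Topology

namespace Groth.Agent.H7.ClosedEt

open _root_.AlgSp Groth.Agent.H5.AlgSp Groth.Agent.H7.SchDenseSp

variable {S : Scheme.{u}}

lemma bcRingHom_app_surjective_iff {X Y : Sp S} {f : X ⟶ Y} (hf : Representable f) (E : EtOver Y) :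
    Function.Surjective ((bcRingHom hf).hom.app (op E)) ↔
      Function.Surjective (EtOver.bcπ hf E).left.appTop := by
  constructor
  · intro h b
    obtain ⟨a, ha⟩ := h (ULift.up b)
    refine ⟨a.down, ?_⟩
    rw [bcRingHom_app_apply] at ha
    exact congrArg ULift.down ha
  · intro h b
    obtain ⟨a, ha⟩ := h b.down
    refine ⟨ULift.up a, ?_⟩
    rw [bcRingHom_app_apply]
    exact ULift.ext _ _ ha

lemma bcRingHom_app_surjective_of_isAffine {Z X : Sp S} {i : Z ⟶ X}
    (hi : RepWith @IsClosedImmersion i) (E : EtOver X) [IsAffine E.obj.left.left] :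
    Function.Surjective ((bcRingHom hi.1).hom.app (op E)) := by
  rw [bcRingHom_app_surjective_iff]
  have sq := EtOver.isPullback_bcObj hi.1 E
  haveI : IsClosedImmersion (EtOver.bcπ hi.1 E).left := hi.property _ _ _ sq
  exact (IsClosedImmersion.isAffine_surjective_of_isAffine (EtOver.bcπ hi.1 E).left).2

theorem isLocallySurjective_bcRingHom {Z X : Sp S} {i : Z ⟶ X}
    (hi : RepWith @IsClosedImmersion i) :
    Presheaf.IsLocallySurjective (etTop X) (bcRingHom hi.1).hom := by
  refine ⟨fun {E} s => ?_⟩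
  let V : Over S := E.obj.left
  have hφ : ∀ k : V.left.affineOpens,
      RepWith @Etale ((yon S).map (overOpenι V k.1) ≫ E.obj.hom) := fun k =>
    (RepWith @Etale).comp_mem _ _
      (repWith_overOpenι @Etale (fun f _ => inferInstance) V k.1) E.property
  let YY : V.left.affineOpens → EtOver X := fun k => EtOver.mk _ (hφ k)
  let g : ∀ k, YY k ⟶ E := fun k => EtOver.homMk (overOpenι V k.1) rfl
  have hcov : ∀ x : ↥E.obj.left.left, ∃ k, x ∈ Set.range (g k).hom.left.left := by
    intro x
    obtain ⟨_, ⟨W, hW, rfl⟩, hxW, -⟩ := V.left.isBasis_affineOpens.exists_subset_of_mem_open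
      (Set.mem_univ x) isOpen_univ
    exact ⟨⟨W, hW⟩, ⟨⟨x, hxW⟩, rfl⟩⟩
  refine (etTop X).superset_covering ?_ (ofArrows_mem_etTop YY g hcov)
  rw [Sieve.ofArrows, Sieve.generate_le_iff]
  rintro E' f' ⟨k⟩
  haveI : IsAffine (YY k).obj.left.left := k.2
  obtain ⟨t, ht⟩ := bcRingHom_app_surjective_of_isAffine hi (YY k)
    ((((EtOver.bc hi.1).sheafPushforwardContinuous RingCat.{u + 1} (etTop X) (etTop Z)).obj
      (OEtRing Z)).obj.map (g k).op s)
  exact ⟨t, ht⟩

theorem S9987_main {Z X : AlgSp.Space S} (i : Z ⟶ X)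
    (hi : AlgSp.RepWith @IsClosedImmersion i.hom) :
    Presheaf.IsLocallySurjective (AlgSp.etTop X.obj) (AlgSp.bcRingHom hi.1).hom :=
  isLocallySurjective_bcRingHom hi

end Groth.Agent.H7.ClosedEt
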