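import Mathlib
import Groth.Agent.Lib.Helper7.ACI4
import Groth.Agent.Lib.Helper7.ClosedEt1

/-! # Pushforward of modules along a closed immersion of algebraic spaces is fully faithful. -/

set_option autoImplicit false
set_option linter.style.haveILetI false
set_option linter.unusedVariables false
set_option linter.unusedSectionVars false
universe u
open CategoryTheory CategoryTheory.Limits AlgebraicGeometry Opposite

set_option backward.isDefEq.respectTransparency false

namespace Groth.Agent.H7.ACI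

open AlgSp Groth.Agent.H7.ASm

variable {S : Scheme.{u}} {Z X : AlgSp.Sp S} {i : Z ⟶ X}
  (hi : AlgSp.RepWith @IsClosedImmersion i)

include hi in
theorem exists_affine_cover_by_image (hX : IsAlgSpace X) (V : EtOver Z) (v : ↥V.obj.left.left) :
    ∃ (E : EtOver X) (_ : IsAffine E.obj.left.left) (m : (EtOver.bc hi.1).obj E ⟶ V),
      v ∈ Set.range m.hom.left.left := by
  obtain ⟨U, m, y, hy⟩ := exists_cover_by_image hi hX V v
  let G := EtOver.bc hi.1
  let c : (G.obj U).obj.left.left ⟶ U.obj.left.left := (EtOver.bcπ hi.1 U).left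
  obtain ⟨W₀, hW₀, hyW, -⟩ := exists_isAffineOpen_mem_and_subset (x := c y)
    (U := (⊤ : U.obj.left.left.Opens)) trivial
  let E := openObj U W₀
  let t₀ : E ⟶ U := openIncl U W₀
  have hpb : IsPullback (G.map t₀).hom.left.left (EtOver.bcπ hi.1 E).left c W₀.ι :=
    EtOver.isPullback_bcMap_left hi.1 t₀
  have h1 := Scheme.image_preimage_eq_of_isPullback hpb.flip Set.univ
  rw [Set.preimage_univ, Set.image_univ, Set.image_univ] at h1
  have hy2 : y ∈ Set.range (G.map t₀).hom.left.left := by
    rw [h1]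
    change c y ∈ Set.range W₀.ι
    exact (Scheme.Opens.range_ι W₀).symm ▸ hyW
  obtain ⟨y', hy'⟩ := hy2
  refine ⟨E, hW₀, G.map t₀ ≫ m, y', ?_⟩
  have e1 : (G.map t₀ ≫ m).hom.left.left = (G.map t₀).hom.left.left ≫ m.hom.left.left := rfl
  rw [e1, Scheme.Hom.comp_apply, hy']
  exact hy

include hi in
theorem hlin_core (hX : IsAlgSpace X) (M N : AlgSp.ModEt Z)
    (g : (AlgSp.pushModEt hi.1).obj M ⟶ (AlgSp.pushModEt hi.1).obj N)
    (h : M.val.presheaf ⟶ N.val.presheaf)
    (key : ∀ (E : EtOver X) (m : M.val.obj (op ((EtOver.bc hi.1).obj E))),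
      h.app (op ((EtOver.bc hi.1).obj E)) m = g.val.app (op E) m)
    (V : (EtOver Z)ᵒᵖ) (r : (AlgSp.OEtRing Z).obj.obj V) (s : M.val.obj V) :
    h.app V (r • s) = r • h.app V s := by
  refine N.isSheaf.isSeparated V.unop
    (Presheaf.equalizerSieve (F := N.val.presheaf) (X := V) (h.app V (r • s)) (r • h.app V s))
    ?_ _ _ (fun Y f hf => hf)
  refine sieve_mem_of_jointly_surjective _ (fun v => ?_)
  obtain ⟨E, hE, m, hv⟩ := exists_affine_cover_by_image hi hX V.unop v
  refine ⟨_, m, ?_, hv⟩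
  change N.val.presheaf.map m.op (h.app V (r • s)) = N.val.presheaf.map m.op (r • h.app V s)
  obtain ⟨a, ha⟩ := Groth.Agent.H7.ClosedEt.bcRingHom_app_surjective_of_isAffine hi E
    ((AlgSp.OEtRing Z).obj.map m.op r)
  have nat : ∀ x : M.val.obj V, N.val.presheaf.map m.op (h.app V x) =
      h.app (op ((EtOver.bc hi.1).obj E)) (M.val.presheaf.map m.op x) := fun x =>
    (ConcreteCategory.congr_hom (h.naturality m.op) x).symm
  have sm1 : M.val.presheaf.map m.op (r • s) =
      (AlgSp.OEtRing Z).obj.map m.op r • M.val.presheaf.map m.op s := M.val.map_smul m.op r s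
  have sm2 : N.val.presheaf.map m.op (r • h.app V s) =
      (AlgSp.OEtRing Z).obj.map m.op r • N.val.presheaf.map m.op (h.app V s) :=
    N.val.map_smul m.op r (h.app V s)
  rw [nat, sm1, sm2, nat]
  let B : EtOver Z := (EtOver.bc hi.1).obj E
  let s' : M.val.obj (op B) := M.val.presheaf.map m.op s
  let ρ : (AlgSp.OEtRing Z).obj.obj (op B) := (AlgSp.bcRingHom hi.1).hom.app (op E) a
  have hρ : ρ = (AlgSp.OEtRing Z).obj.map m.op r := ha
  change h.app (op B) ((AlgSp.OEtRing Z).obj.map m.op r • s') =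
    (AlgSp.OEtRing Z).obj.map m.op r • h.app (op B) s'
  rw [← hρ]
  let s'P : ((AlgSp.pushModEt hi.1).obj M).val.obj (op E) := s'
  have e1 : h.app (op B) (ρ • s') = g.val.app (op E) (a • s'P) := key E (ρ • s')
  have e2 : g.val.app (op E) (a • s'P) = a • g.val.app (op E) s'P :=
    (g.val.app (op E)).hom.map_smul a s'P
  have e3 : g.val.app (op E) s'P = h.app (op B) s' := (key E s').symm
  let t' : ((AlgSp.pushModEt hi.1).obj N).val.obj (op E) := h.app (op B) s'
  have e4 : (a • g.val.app (op E) s'P : ((AlgSp.pushModEt hi.1).obj N).val.obj (op E)) = a • t' :=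
    congrArg (fun t : ((AlgSp.pushModEt hi.1).obj N).val.obj (op E) => a • t) e3
  exact e1.trans (e2.trans e4)

include hi in
theorem pushModEt_faithful (hX : IsAlgSpace X) : (AlgSp.pushModEt hi.1).Faithful := by
  haveI := (pushEt_full_faithful_ab hi hX).2
  constructor
  intro M N f g h
  have h1 : (AlgSp.pushEt hi.1 AddCommGrpCat.{u + 1}).map ((AlgSp.toAbEt Z).map f) =
      (AlgSp.pushEt hi.1 AddCommGrpCat.{u + 1}).map ((AlgSp.toAbEt Z).map g) :=
    congrArg (fun t => (AlgSp.toAbEt X).map t) h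
  exact (AlgSp.toAbEt Z).map_injective
    ((AlgSp.pushEt hi.1 AddCommGrpCat.{u + 1}).map_injective h1)

include hi in
theorem pushModEt_full (hX : IsAlgSpace X) : (AlgSp.pushModEt hi.1).Full := by
  haveI := (pushEt_full_faithful_ab hi hX).1
  constructor
  intro M N g
  let g₀ : (AlgSp.pushEt hi.1 AddCommGrpCat.{u + 1}).obj ((AlgSp.toAbEt Z).obj M) ⟶
      (AlgSp.pushEt hi.1 AddCommGrpCat.{u + 1}).obj ((AlgSp.toAbEt Z).obj N) :=
    (AlgSp.toAbEt X).map g
  obtain ⟨h, hh⟩ := (AlgSp.pushEt hi.1 AddCommGrpCat.{u + 1}).map_surjective g₀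
  have key : ∀ (E : EtOver X) (m : M.val.obj (op ((EtOver.bc hi.1).obj E))),
      h.hom.app (op ((EtOver.bc hi.1).obj E)) m = g.val.app (op E) m := fun E m => by
    have e := congrArg (fun t => t.hom.app (op E)) hh
    exact ConcreteCategory.congr_hom e m
  have hlin := hlin_core hi hX M N g h.hom key
  refine ⟨⟨PresheafOfModules.homMk h.hom hlin⟩, ?_⟩
  apply (AlgSp.toAbEt X).map_injective
  exact hh

theorem S9990_main {Z X : AlgSp.Space S} (i : Z ⟶ X)
    (hi : AlgSp.RepWith @IsClosedImmersion i.hom)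
    [(SheafOfModules.pushforward.{u + 1} (AlgSp.bcRingHom hi.1)).IsRightAdjoint]
    (G : AlgSp.ModEt Z.obj) :
    IsIso ((AlgSp.pullPushAdjModEt hi.1).counit.app G) := by
  haveI := pushModEt_faithful hi X.property
  haveI := pushModEt_full hi X.property
  infer_instance

end Groth.Agent.H7.ACI
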