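import Groth.Agent.Lib.Helper5.Geom.DiffExp
import Groth.Agent.Lib.Helper7.Old.AS2

/-! Different exponents through expansions: universe-generic versions, Artin–Schreier (helper7). -/

set_option autoImplicit false
set_option linter.unusedSectionVars false

universe u v v' w w'

namespace Groth.Agent.H7.DE

open FunFld LocRes WithZero LaurentSeries HahnSeries

variable {k : Type u} {K : Type v} {K' : Type v'} [Field k] [Field K] [Field K'] [Algebra k K]
  [Algebra K K'] [Algebra k K'] [IsScalarTower k K K']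
variable {F : Type w} {F' : Type w'} [Field F] [Algebra k F] [Field F'] [Algebra k F']

/-- A relation between differentials of `K` persists in `K'`. -/
lemma D_map_eq {a x r : K}
    (h : KaehlerDifferential.D k K a = r • KaehlerDifferential.D k K x) :
    KaehlerDifferential.D k K' (algebraMap K K' a) =
      algebraMap K K' r • KaehlerDifferential.D k K' (algebraMap K K' x) := by
  have := congrArg (KaehlerDifferential.map k k K K') h
  rw [map_smul, KaehlerDifferential.map_D, KaehlerDifferential.map_D] at this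
  rw [this, algebraMap_smul]

/-- How `vDiff` changes with the differential, below and above. -/
lemma vDiff_change {P : Place k K} {Q : Place k K'} {e : ℕ} (he : IsOverWith Q P e)
    {φ : K →ₐ[k] F⸨X⸩} (hφ : IsExpansionAt P.1 φ) {ψ : K' →ₐ[k] F'⸨X⸩}
    (hψ : IsExpansionAt Q.1 ψ) {x x' r : K}
    (hr : KaehlerDifferential.D k K x' = r • KaehlerDifferential.D k K x) :
    LocRes.vDiff φ 1 x' = P.1 r * LocRes.vDiff φ 1 x ∧
      LocRes.vDiff ψ 1 (algebraMap K K' x') =
        P.1 r ^ e * LocRes.vDiff ψ 1 (algebraMap K K' x) := by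
  constructor
  · rw [Geom.vDiff_one, Geom.vDiff_one, Geom.D_expansion_eq φ hr, map_mul, hφ.1]
  · rw [Geom.vDiff_one, Geom.vDiff_one, Geom.D_expansion_eq ψ (D_map_eq hr), map_mul, hψ.1, he r]

/-- The different exponent does not depend on the differential used. -/
theorem diffExp_eq (hK : IsFunctionField k K) (hg : IsGeometric k K)
    {P : Place k K} {Q : Place k K'} {e : ℕ} (he : IsOverWith Q P e)
    {φ : K →ₐ[k] F⸨X⸩} (hφ : IsExpansionAt P.1 φ) {ψ : K' →ₐ[k] F'⸨X⸩}
    (hψ : IsExpansionAt Q.1 ψ) {x x' : K} (hx : LocRes.vDiff φ 1 x ≠ 0)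
    (hx' : LocRes.vDiff ψ 1 (algebraMap K K' x) ≠ 0) (hx2 : LocRes.vDiff φ 1 x' ≠ 0) :
    LocRes.diffExp φ ψ e x = LocRes.diffExp φ ψ e x' := by
  have hDx : LocRes.D F (φ x) ≠ 0 := by
    rw [Geom.vDiff_one] at hx
    exact (Valuation.ne_zero_iff _).mp hx
  have hdx := Geom.D_ne_zero_of_expansion φ hDx
  obtain ⟨r, hr⟩ := Geom.exists_D_eq_smul hK hg hdx x'
  obtain ⟨v1, v2⟩ := vDiff_change he hφ hψ hr
  have hr0 : P.1 r ≠ 0 := by
    intro h0
    rw [v1, h0, zero_mul] at hx2
    exact hx2 rfl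
  rw [LocRes.diffExp, LocRes.diffExp, LocRes.ordDiff, LocRes.ordDiff, LocRes.ordDiff,
    LocRes.ordDiff, v1, v2, log_mul hr0 hx, log_mul (pow_ne_zero e hr0) hx', log_pow]
  generalize log (P.1 r) = a
  generalize log (LocRes.vDiff φ 1 x) = b
  generalize log (LocRes.vDiff ψ 1 (algebraMap K K' x)) = c
  rw [nsmul_eq_mul]
  ring

/-- order of the derivative of the expansion of an element of odd order in characteristic two -/
lemma vDiff_one_of_odd [CharP k 2] {P : Place k K} {φ : K →ₐ[k] F⸨X⸩} (hφ : IsExpansionAt P.1 φ)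
    {x : K} (hx0 : x ≠ 0) (hodd : Odd (P.ord x)) :
    LocRes.vDiff φ 1 x = exp (-(P.ord x - 1)) := by
  haveI : CharP F 2 := charP_of_injective_algebraMap (algebraMap k F).injective 2
  rw [Geom.vDiff_one]
  apply Geom.v_D_eq_of_cast_ne_zero
  · rw [hφ.1, P.v_eq_exp_neg_ord hx0]
  · obtain ⟨i, hi⟩ := hodd
    rw [hi]
    push_cast
    rw [CharTwo.two_eq_zero, zero_mul, zero_add]
    exact one_ne_zero

/-- the different exponent of an Artin–Schreier extension at a pole of odd order -/
theorem diffExp_as (hK : IsFunctionField k K) (hg : IsGeometric k K)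
    (hdeg : Module.finrank K K' = 2) (h2 : ringChar k = 2) {y : K'} {f : K}
    (heq : y ^ 2 + y = algebraMap K K' f) {p : Place k K} (hp : 1 < p.1 f)
    (hodd : Odd (p.ord f)) {P : Place k K'} {e : ℕ} (he : IsOverWith P p e)
    {φ : K →ₐ[k] F⸨X⸩} (hφ : IsExpansionAt p.1 φ) {ψ : K' →ₐ[k] F'⸨X⸩}
    (hψ : IsExpansionAt P.1 ψ) {z : K} (hz : LocRes.vDiff φ 1 z ≠ 0)
    (hz' : LocRes.vDiff ψ 1 (algebraMap K K' z) ≠ 0) :
    LocRes.diffExp φ ψ e z = 1 - p.ord f := by
  haveI : CharP k 2 := ringChar.of_eq h2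
  haveI : CharP K' 2 := charP_of_injective_algebraMap (algebraMap k K').injective 2
  have hf0 : f ≠ 0 := by
    rintro rfl
    rw [map_zero] at hp
    exact absurd hp (by simp)
  have hneg : p.ord f < 0 := by
    have := (p.v_le_one_iff hf0).not.1 (not_le.2 hp)
    omega
  have he2 := QL.isOverWith_two_of_as hK hdeg heq hneg hodd ⟨e, he⟩
  have hee : e = 2 := (he.unique he2).2
  subst hee
  obtain ⟨hy0, hy⟩ := AS.two_mul_ord_y he heq hp
  have hyord : P.ord y = p.ord f := by
    push_cast at hy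
    linarith
  -- `dy = df`
  have hD : KaehlerDifferential.D k K' y =
      (1 : K') • KaehlerDifferential.D k K' (algebraMap K K' f) := by
    rw [one_smul, ← heq, map_add, Derivation.leibniz_pow]
    have h2K : (2 : K') = 0 := CharTwo.two_eq_zero
    rw [show (2 : ℕ) • y ^ (2 - 1) • KaehlerDifferential.D k K' y =
      ((2 : K') * y ^ (2 - 1)) • KaehlerDifferential.D k K' y by
        rw [mul_smul]; norm_cast, h2K, zero_mul, zero_smul, zero_add]
  have hDψ := Geom.D_expansion_eq ψ hD
  rw [map_one, one_mul] at hDψ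
  have h1 : LocRes.vDiff ψ 1 (algebraMap K K' f) = exp (-(p.ord f - 1)) := by
    rw [Geom.vDiff_one, ← hDψ, ← Geom.vDiff_one, vDiff_one_of_odd hψ hy0 (by rw [hyord]; exact hodd),
      hyord]
  have h3 : LocRes.vDiff φ 1 f = exp (-(p.ord f - 1)) := vDiff_one_of_odd hφ hf0 hodd
  rw [diffExp_eq hK hg he hφ hψ hz hz' (by rw [h3]; exact exp_ne_zero)]
  rw [LocRes.diffExp, LocRes.ordDiff, LocRes.ordDiff, h1, h3, log_exp]
  push_cast
  ring

end Groth.Agent.H7.DE
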