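import Groth.Agent.Lib.Helper7.RF3
import Groth.Agent.Lib.Helper7.DE1

/-! Differentials read through expansions: general lemmas (helper7). -/

set_option autoImplicit false
set_option linter.unusedSectionVars false

universe u v w

namespace Groth.Agent.H7.HD

open FunFld LocRes WithZero LaurentSeries HahnSeries Polynomial

section series

variable {L : Type*} [Field L]

/-- the derivative of a power series is a power series -/
lemma v_D_le_one {g : L⸨X⸩} (h : Valued.v g ≤ 1) : Valued.v (LocRes.D L g) ≤ 1 := by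
  have h' : Valued.v g ≤ exp (-(0 : ℤ)) := by simpa using h
  rw [LaurentSeries.valuation_le_iff_coeff_lt_eq_zero L] at h'
  have : Valued.v (LocRes.D L g) ≤ exp (-(0 : ℤ)) := by
    rw [LaurentSeries.valuation_le_iff_coeff_lt_eq_zero L]
    intro n hn
    rw [D_coeff]
    rcases lt_or_eq_of_le (show n + 1 ≤ 0 by omega) with h1 | h1
    · rw [h' _ h1, smul_zero]
    · rw [h1, zero_smul]
  simpa using this

end series

section general

variable {k : Type u} {K : Type v} [Field k] [Field K] [Algebra k K]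
variable {F : Type w} [Field F] [Algebra k F]
variable {P : Place k K} {φ : K →ₐ[k] F⸨X⸩}

lemma vD_of_ord (hφ : IsExpansionAt P.1 φ) {t : K} (ht0 : t ≠ 0)
    (hn : ((P.ord t : ℤ) : F) ≠ 0) :
    Valued.v (LocRes.D F (φ t)) = exp (-(P.ord t - 1)) := by
  apply Geom.v_D_eq_of_cast_ne_zero _ hn
  rw [hφ.1, P.v_eq_exp_neg_ord ht0]

lemma vD_le_one (hφ : IsExpansionAt P.1 φ) {t : K} (ht : P.1 t ≤ 1) :
    Valued.v (LocRes.D F (φ t)) ≤ 1 :=
  v_D_le_one (by rw [hφ.1]; exact ht)

lemma D_aeval (φ : K →ₐ[k] F⸨X⸩) (x : K) (p : k[X]) :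
    LocRes.D F (φ (aeval x p)) = φ (aeval x (derivative p)) * LocRes.D F (φ x) :=
  Geom.D_expansion_eq φ (Derivation.map_aeval _ p x)

lemma D_inv (φ : K →ₐ[k] F⸨X⸩) (x : K) :
    LocRes.D F (φ x⁻¹) = φ (-x⁻¹ ^ 2) * LocRes.D F (φ x) :=
  Geom.D_expansion_eq φ (Derivation.leibniz_inv _ x)

end general

end Groth.Agent.H7.HD
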