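import Groth.Agent.Lib.Helper7.RF4
import Groth.Agent.Lib.Helper7.HD1

/-! Hyperelliptic fields: the order of `dx` at every place, read through expansions (helper7). -/

set_option autoImplicit false
set_option linter.unusedSectionVars false

universe u v w

namespace Groth.Agent.H7.HD

open FunFld LocRes WithZero LaurentSeries HahnSeries Polynomial
open Groth.Agent.H7.RF

section general

variable {k : Type u} {K : Type v} [Field k] [Field K] [Algebra k K]
variable {F : Type w} [Field F] [Algebra k F]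
variable {P : Place k K} {φ : K →ₐ[k] F⸨X⸩}

/-- `v(p'(x)) · v(dx) = exp(-(e-1))` when `p(x)` has order `e`, invertible in the coefficient field -/
lemma v_derivative_mul (hφ : IsExpansionAt P.1 φ) (x : K) (p : k[X]) (ht0 : aeval x p ≠ 0)
    (hn : ((P.ord (aeval x p) : ℤ) : F) ≠ 0) :
    P.1 (aeval x (derivative p)) * Valued.v (LocRes.D F (φ x)) =
      exp (-(P.ord (aeval x p) - 1)) := by
  rw [← vD_of_ord hφ ht0 hn, D_aeval, map_mul, hφ.1]

lemma two_ne_zero_of_ringChar (h2 : ringChar k ≠ 2) : (2 : F) ≠ 0 := by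
  rw [← map_ofNat (algebraMap k F) 2, Ne, map_eq_zero_iff _ (algebraMap k F).injective]
  exact Ring.two_ne_zero h2

end general

section hyper

variable {k : Type u} {K : Type v} [Field k] [Field K] [Algebra k K] [Algebra (RatFunc k) K]
  [IsScalarTower k (RatFunc k) K]
variable {F : Type w} [Field F] [Algebra k F]
variable {P : Place k K} {φ : K →ₐ[k] F⸨X⸩}

local notation "φ₀" => algebraMap k[X] (RatFunc k)
local notation "ι" => algebraMap (RatFunc k) K

lemma aeval_X_eq (p : k[X]) : aeval (ι RatFunc.X) p = ι (φ₀ p) := by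
  rw [aeval_algebraMap_apply, RatFunc.aeval_X_left_eq_algebraMap]

/-- at a finite place of ramification index `e` (invertible in `F`), `v(dx) = exp(-(e-1))` -/
theorem vD_X_of_finite (hφ : IsExpansionAt P.1 φ) {p₀ : Place k (RatFunc k)} {e : ℕ}
    (he : IsOverWith P p₀ e) (hX : p₀.1 RatFunc.X ≤ 1) (heF : ((e : ℤ) : F) ≠ 0) :
    Valued.v (LocRes.D F (φ (ι RatFunc.X))) = exp (-((e : ℤ) - 1)) := by
  obtain ⟨p, hp, hpv⟩ := exists_center p₀ hX
  have hord : P.ord (aeval (ι RatFunc.X) p) = e := by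
    rw [aeval_X_eq, he.ord_eq, ord_irreducible p₀ hp hpv, mul_one]
  have hp0 : aeval (ι RatFunc.X) p ≠ 0 := by
    rw [aeval_X_eq, Ne, map_eq_zero_iff _ (algebraMap (RatFunc k) K).injective]
    exact RatFunc.algebraMap_ne_zero hp.ne_zero
  have h1 := v_derivative_mul hφ (ι RatFunc.X) p hp0 (by rw [hord]; exact heF)
  rw [hord] at h1
  have hd0 : derivative p ≠ 0 := by
    rintro h0
    rw [h0, map_zero, map_zero, zero_mul] at h1
    exact exp_ne_zero h1.symm
  have hndvd : ¬ p ∣ derivative p := by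
    intro hdvd
    have := natDegree_le_of_dvd hdvd hd0
    have h3 := natDegree_derivative_lt (p := p) (by
      intro h0
      apply hd0
      rw [derivative_of_natDegree_zero h0])
    omega
  have h4 : p₀.1 (φ₀ (derivative p)) = 1 := v_poly_eq_one_of_not_dvd p₀ hX hp hpv hndvd
  have h5 : P.1 (aeval (ι RatFunc.X) (derivative p)) = 1 := by
    rw [aeval_X_eq, he, h4, one_pow]
  rw [h5, one_mul] at h1
  exact h1

/-- at an infinite place of ramification index `e` (invertible in `F`), `v(dx) = exp(e+1)` -/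
theorem vD_X_of_pole (hφ : IsExpansionAt P.1 φ) {p₀ : Place k (RatFunc k)} {e : ℕ}
    (he : IsOverWith P p₀ e) (hX : 1 < p₀.1 RatFunc.X) (heF : ((e : ℤ) : F) ≠ 0) :
    Valued.v (LocRes.D F (φ (ι RatFunc.X))) = exp ((e : ℤ) + 1) := by
  have hX0 : ι (RatFunc.X : RatFunc k) ≠ 0 := by
    rw [Ne, map_eq_zero_iff _ (algebraMap (RatFunc k) K).injective]
    exact RatFunc.X_ne_zero
  have hordX : P.ord (ι RatFunc.X) = -(e : ℤ) := by
    rw [he.ord_eq, ord_X_of_pole p₀ hX]; ring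
  have hord : P.ord (ι RatFunc.X)⁻¹ = e := by
    rw [P.ord_inv, hordX, neg_neg]
  have h1 := vD_of_ord hφ (inv_ne_zero hX0) (by rw [hord]; exact heF)
  rw [hord, D_inv, map_mul, hφ.1, Valuation.map_neg, map_pow, P.v_eq_exp_neg_ord (inv_ne_zero hX0), hord,
    ← exp_nsmul] at h1
  have h2 : Valued.v (LocRes.D F (φ (ι RatFunc.X))) =
      exp (2 * (e : ℤ)) * (exp (2 • (-(e : ℤ))) * Valued.v (LocRes.D F (φ (ι RatFunc.X)))) := by
    rw [← mul_assoc, ← exp_add]
    have : 2 * (e : ℤ) + 2 • (-(e : ℤ)) = 0 := by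
      rw [nsmul_eq_mul]; push_cast; ring
    rw [this, exp_zero, one_mul]
  rw [h2, h1, ← exp_add]
  congr 1
  ring

variable (hdeg : Module.finrank (RatFunc k) K = 2) {y : K} {f : k[X]}

omit [IsScalarTower k (RatFunc k) K] in
lemma y_ne_zero (hf : Squarefree f) (hyf : y ^ 2 = ι (φ₀ f)) : y ≠ 0 := by
  rintro rfl
  rw [zero_pow two_ne_zero, eq_comm, map_eq_zero_iff _ (algebraMap (RatFunc k) K).injective] at hyf
  exact RatFunc.algebraMap_ne_zero hf.ne_zero hyf

lemma two_mul_ord_y (hf : Squarefree f) (hyf : y ^ 2 = ι (φ₀ f)) {p₀ : Place k (RatFunc k)}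
    {e : ℕ} (he : IsOverWith P p₀ e) : 2 * P.ord y = e * p₀.ord (φ₀ f) := by
  rw [← he.ord_eq, ← hyf, P.ord_pow]
  push_cast
  ring

include hdeg in
/-- the data at a finite place -/
theorem finite_data (h2 : ringChar k ≠ 2) (hf : Squarefree f) (hd : 1 ≤ f.natDegree)
    (hyf : y ^ 2 = ι (φ₀ f)) (hφ : IsExpansionAt P.1 φ) {p₀ : Place k (RatFunc k)} {e : ℕ}
    (he : IsOverWith P p₀ e) (hX : p₀.1 RatFunc.X ≤ 1) :
    0 ≤ P.ord (ι RatFunc.X) ∧ ∃ m : ℤ, Valued.v (LocRes.D F (φ (ι RatFunc.X))) = exp (-m) ∧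
      P.ord y = m := by
  have h2F : (2 : F) ≠ 0 := two_ne_zero_of_ringChar h2
  have hX0 : ι (RatFunc.X : RatFunc k) ≠ 0 := by
    rw [Ne, map_eq_zero_iff _ (algebraMap (RatFunc k) K).injective]
    exact RatFunc.X_ne_zero
  refine ⟨(P.v_le_one_iff hX0).1 ((he.v_le_one_iff _).2 hX), ?_⟩
  have hf0 : φ₀ f ≠ 0 := RatFunc.algebraMap_ne_zero hf.ne_zero
  rcases (v_poly_le_one p₀ hX f).lt_or_eq with hz | hu
  · have he2 : IsOverWith P p₀ 2 := isOverWith_of_finite_zero hdeg hf hyf hX hz ⟨e, he⟩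
    have hδ := vD_X_of_finite hφ he2 hX (by push_cast; exact h2F)
    have hy := two_mul_ord_y hf hyf he2
    rw [ord_squarefree p₀ hX hf hz] at hy
    refine ⟨1, ?_, by push_cast at hy; omega⟩
    rw [hδ]
    congr 1
  · have he1 : IsOverWith P p₀ 1 := isOverWith_of_finite_unit hdeg h2 hf hd hyf hu ⟨e, he⟩
    have hδ := vD_X_of_finite hφ he1 hX (by push_cast; exact one_ne_zero)
    have hy := two_mul_ord_y hf hyf he1
    rw [(p₀.v_eq_one_iff hf0).1 hu] at hy
    refine ⟨0, ?_, by omega⟩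
    rw [hδ]
    congr 1

include hdeg in
/-- the data at an infinite place -/
theorem pole_data (h2 : ringChar k ≠ 2) (hf : Squarefree f) (hd : 1 ≤ f.natDegree)
    (hyf : y ^ 2 = ι (φ₀ f)) (hφ : IsExpansionAt P.1 φ) {p₀ : Place k (RatFunc k)} {e : ℕ}
    (he : IsOverWith P p₀ e) (hX : 1 < p₀.1 RatFunc.X) :
    ((e = 2 ∧ Odd f.natDegree) ∨ (e = 1 ∧ Even f.natDegree)) ∧ P.ord (ι RatFunc.X) = -(e : ℤ) ∧
      Valued.v (LocRes.D F (φ (ι RatFunc.X))) = exp ((e : ℤ) + 1) ∧
      2 * P.ord y = -((e : ℤ) * f.natDegree) := by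
  have h2F : (2 : F) ≠ 0 := two_ne_zero_of_ringChar h2
  have hordX : P.ord (ι RatFunc.X) = -(e : ℤ) := by
    rw [he.ord_eq, ord_X_of_pole p₀ hX]; ring
  have hy := two_mul_ord_y hf hyf he
  rw [ord_poly_of_pole p₀ hX hf.ne_zero, ord_X_of_pole p₀ hX] at hy
  have hcase : (e = 2 ∧ Odd f.natDegree) ∨ (e = 1 ∧ Even f.natDegree) := by
    rcases Nat.even_or_odd f.natDegree with hev | hodd
    · right
      exact ⟨((isOverWith_of_pole_even hdeg h2 hf hd hyf hX hev ⟨e, he⟩).unique he).2.symm, hev⟩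
    · left
      exact ⟨((isOverWith_of_pole_odd hdeg hf hyf hX hodd ⟨e, he⟩).unique he).2.symm, hodd⟩
  refine ⟨hcase, hordX, ?_, by rw [hy]; ring⟩
  apply vD_X_of_pole hφ he hX
  rcases hcase with ⟨rfl, -⟩ | ⟨rfl, -⟩
  · push_cast; exact h2F
  · push_cast; exact one_ne_zero

end hyper

end Groth.Agent.H7.HD
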