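import Groth.Agent.Lib.Helper7.Old.RD1
import Groth.Agent.Lib.Helper7.HD2

/-! Artin–Schreier double covers of the line in characteristic two: the order of `dx` at every
place, read through expansions (helper7). -/

set_option autoImplicit false
set_option linter.unusedSectionVars false

universe u v w

namespace Groth.Agent.H7.AD

open FunFld LocRes WithZero LaurentSeries HahnSeries Polynomial
open Groth.Agent.H7.RF Groth.Agent.H7.HD

section as

variable {k : Type u} {K : Type v} [Field k] [Field K] [Algebra k K] [Algebra (RatFunc k) K]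
  [IsScalarTower k (RatFunc k) K]
variable {F : Type w} [Field F] [Algebra k F]
variable {P : Place k K} {φ : K →ₐ[k] F⸨X⸩}

local notation "φ₀" => algebraMap k[X] (RatFunc k)
local notation "ι" => algebraMap (RatFunc k) K

/-- `d(ι f) = ι(f') dx` through an expansion -/
lemma D_ratfunc (φ : K →ₐ[k] F⸨X⸩) (f : RatFunc k) :
    LocRes.D F (φ (ι f)) = φ (ι (rder f)) * LocRes.D F (φ (ι RatFunc.X)) :=
  Geom.D_expansion_eq φ (DE.D_map_eq (KD_eq f))

/-- `dy = df` in characteristic two -/
lemma D_y_eq [CharP k 2] (φ : K →ₐ[k] F⸨X⸩) {y : K} {f : RatFunc k} (heq : y ^ 2 + y = ι f) :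
    LocRes.D F (φ y) = LocRes.D F (φ (ι f)) := by
  haveI : CharP K 2 := charP_of_injective_algebraMap (algebraMap k K).injective 2
  have hD : KaehlerDifferential.D k K y =
      (1 : K) • KaehlerDifferential.D k K (ι f) := by
    rw [one_smul, ← heq, map_add, Derivation.leibniz_pow]
    have h2K : (2 : K) = 0 := CharTwo.two_eq_zero
    rw [show (2 : ℕ) • y ^ (2 - 1) • KaehlerDifferential.D k K y =
      ((2 : K) * y ^ (2 - 1)) • KaehlerDifferential.D k K y by
        rw [mul_smul]; norm_cast, h2K, zero_mul, zero_smul, zero_add]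
  have := Geom.D_expansion_eq φ hD
  rwa [map_one, one_mul] at this

lemma cast_ne_zero_of_odd [CharP k 2] {n : ℤ} (hn : Odd n) : ((n : ℤ) : k) ≠ 0 := by
  obtain ⟨i, hi⟩ := hn
  rw [hi]
  push_cast
  rw [CharTwo.two_eq_zero, zero_mul, zero_add]
  exact one_ne_zero

variable (hdeg : Module.finrank (RatFunc k) K = 2) {y : K} {f : RatFunc k}

/-- the key relation at a ramified place: `v(ι f') · v(dx) = exp(1 - ord f)` -/
theorem v_rder_mul [CharP k 2] (heq : y ^ 2 + y = ι f) (hφ : IsExpansionAt P.1 φ)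
    {p₀ : Place k (RatFunc k)} (he : IsOverWith P p₀ 2) (hpole : 1 < p₀.1 f)
    (hodd : Odd (p₀.ord f)) :
    P.1 (ι (rder f)) * Valued.v (LocRes.D F (φ (ι RatFunc.X))) = exp (-(p₀.ord f - 1)) := by
  obtain ⟨hy0, hy⟩ := AS.two_mul_ord_y he heq hpole
  have hyord : P.ord y = p₀.ord f := by
    push_cast at hy
    linarith
  have h1 := DE.vDiff_one_of_odd hφ hy0 (by rw [hyord]; exact hodd)
  rw [Geom.vDiff_one, D_y_eq φ heq, D_ratfunc, map_mul, hφ.1, hyord] at h1
  exact h1

lemma exp_solve {a b : ℤ} {δ : ℤᵐ⁰} (h : exp a * δ = exp b) : δ = exp (b - a) := by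
  have h1 : δ = exp (-a) * (exp a * δ) := by
    rw [← mul_assoc, ← exp_add, neg_add_cancel, exp_zero, one_mul]
  rw [h1, h, ← exp_add]
  congr 1
  ring

include hdeg in
/-- ramification in an Artin–Schreier double cover -/
theorem as_ramification (h2 : ringChar k = 2) (hy : y ∉ Set.range ι) (heq : y ^ 2 + y = ι f)
    {A : Divisor k (RatFunc k)} (hA : AS.IsHalfPole f A)
    {p₀ : Place k (RatFunc k)} {e : ℕ} (he : IsOverWith P p₀ e) :
    (p₀.1 f ≤ 1 ∧ e = 1 ∧ A p₀ = 0) ∨
    (1 < p₀.1 f ∧ e = 2 ∧ Odd (p₀.ord f) ∧ p₀.ord f = 1 - 2 * A p₀) := by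
  haveI : CharP k 2 := ringChar.of_eq h2
  haveI : CharP (RatFunc k) 2 :=
    charP_of_injective_algebraMap (algebraMap k (RatFunc k)).injective 2
  rcases le_or_gt (p₀.1 f) 1 with hint | hpole
  · left
    have h4 : (4 : RatFunc k) = 0 := by
      have : (4 : RatFunc k) = 2 * 2 := by norm_num
      rw [this, CharTwo.two_eq_zero, zero_mul]
    have he1 : IsOverWith P p₀ 1 :=
      QL.isOverWith_one_of_disc isFunctionField hdeg hy (b := 1) (c := f)
        (by rw [map_one, one_mul]; exact heq) (by simp) hint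
        (by rw [h4, zero_mul, add_zero, one_pow, map_one]) ⟨e, he⟩
    exact ⟨hint, (he1.unique he).2.symm, (hA p₀).2 hint⟩
  · right
    obtain ⟨j, hj, hAj⟩ := (hA p₀).1 hpole
    have hodd : Odd (p₀.ord f) := ⟨-(j : ℤ) - 1, by rw [hj]; ring⟩
    have hneg : p₀.ord f < 0 := by rw [hj]; omega
    have he2 : IsOverWith P p₀ 2 :=
      QL.isOverWith_two_of_as isFunctionField hdeg heq hneg hodd ⟨e, he⟩
    exact ⟨hpole, (he2.unique he).2.symm, hodd, by rw [hj, hAj]; ring⟩

include hdeg in
/-- the order of `dx` at a finite place -/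
theorem as_finite_data [PerfectField k] (h2 : ringChar k = 2) (hy : y ∉ Set.range ι)
    (heq : y ^ 2 + y = ι f) {A : Divisor k (RatFunc k)} (hA : AS.IsHalfPole f A)
    (hφ : IsExpansionAt P.1 φ) {p₀ : Place k (RatFunc k)} {e : ℕ} (he : IsOverWith P p₀ e)
    (hX : p₀.1 RatFunc.X ≤ 1) :
    Valued.v (LocRes.D F (φ (ι RatFunc.X))) = exp (-((e : ℤ) * A p₀)) := by
  haveI : CharP k 2 := ringChar.of_eq h2
  rcases as_ramification hdeg h2 hy heq hA he with ⟨hint, rfl, hA0⟩ | ⟨hpole, rfl, hodd, hord⟩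
  · rw [hA0, mul_zero, neg_zero]
    have := vD_X_of_finite hφ he hX (by push_cast; exact one_ne_zero)
    simpa using this
  · obtain ⟨p, hp, hpv⟩ := exists_center p₀ hX
    have hsep : derivative p ≠ 0 := by
      have hs := PerfectField.separable_of_irreducible hp
      intro h0
      rw [Polynomial.Separable, h0] at hs
      exact hp.not_isUnit (isCoprime_zero_right.1 hs)
    obtain ⟨hr0, hr⟩ := ord_rder_finite p₀ hX hp hpv hsep hpole (cast_ne_zero_of_odd hodd)
    have hιr0 : ι (rder f) ≠ 0 := by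
      rw [Ne, map_eq_zero_iff _ (algebraMap (RatFunc k) K).injective]; exact hr0
    have h1 := v_rder_mul heq hφ he hpole hodd
    rw [P.v_eq_exp_neg_ord hιr0, he.ord_eq, hr] at h1
    rw [exp_solve h1, hord]
    congr 1
    push_cast
    ring

include hdeg in
/-- the order of `dx` at an infinite place -/
theorem as_pole_data (h2 : ringChar k = 2) (hy : y ∉ Set.range ι)
    (heq : y ^ 2 + y = ι f) {A : Divisor k (RatFunc k)} (hA : AS.IsHalfPole f A)
    (hφ : IsExpansionAt P.1 φ) {p₀ : Place k (RatFunc k)} {e : ℕ} (he : IsOverWith P p₀ e)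
    (hX : 1 < p₀.1 RatFunc.X) :
    Valued.v (LocRes.D F (φ (ι RatFunc.X))) = exp (2 * (e : ℤ) - (e : ℤ) * A p₀) := by
  haveI : CharP k 2 := ringChar.of_eq h2
  rcases as_ramification hdeg h2 hy heq hA he with ⟨hint, rfl, hA0⟩ | ⟨hpole, rfl, hodd, hord⟩
  · rw [hA0, mul_zero, sub_zero]
    have := vD_X_of_pole hφ he hX (by push_cast; exact one_ne_zero)
    rw [this]
    congr 1
  · have hf : f ≠ 0 := by
      rintro rfl
      rw [map_zero] at hpole
      exact absurd hpole (by simp)
    obtain ⟨hr0, hr⟩ := ord_rder_pole p₀ hX hf (cast_ne_zero_of_odd hodd)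
    have hιr0 : ι (rder f) ≠ 0 := by
      rw [Ne, map_eq_zero_iff _ (algebraMap (RatFunc k) K).injective]; exact hr0
    have h1 := v_rder_mul heq hφ he hpole hodd
    rw [P.v_eq_exp_neg_ord hιr0, he.ord_eq, hr] at h1
    rw [exp_solve h1, hord]
    congr 1
    push_cast
    ring

end as

end Groth.Agent.H7.AD
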