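import Groth.Agent.Lib.Helper7.AD1

/-! Artin–Schreier double covers of the line in characteristic two: regular differentials
(helper7). -/

set_option autoImplicit false
set_option linter.unusedSectionVars false

universe u v w

namespace Groth.Agent.H7.AD

open FunFld LocRes WithZero LaurentSeries HahnSeries Polynomial
open Groth.Agent.H7.RF Groth.Agent.H7.HD

section as

variable {k : Type u} {K : Type v} [Field k] [Field K] [Algebra k K] [Algebra (RatFunc k) K]
  [IsScalarTower k (RatFunc k) K]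

local notation "φ₀" => algebraMap k[X] (RatFunc k)
local notation "ι" => algebraMap (RatFunc k) K

/-- the half-pole divisor built from `q` and the infinite place -/
theorem exists_halfPole {f : RatFunc k}
    (hodd : ∀ p : Place k (RatFunc k), 1 < p.1 f → Odd (p.ord f))
    {q : k[X]} (hq0 : q ≠ 0)
    (hq : ∀ p : Place k (RatFunc k), p.1 RatFunc.X ≤ 1 →
      p.ord (φ₀ q) = if 1 < p.1 f then (1 - p.ord f) / 2 else 0)
    {Pinf : Place k (RatFunc k)} (hinf : 1 < Pinf.1 RatFunc.X) :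
    ∃ A : Divisor k (RatFunc k), AS.IsHalfPole f A ∧
      (∀ p : Place k (RatFunc k), p.1 RatFunc.X ≤ 1 → A p = p.ord (φ₀ q)) ∧
      A.deg = q.natDegree + A Pinf := by
  classical
  have hF := isFunctionField (k := k)
  set dinf : ℤ := if 1 < Pinf.1 f then (1 - Pinf.ord f) / 2 else 0 with hdinf
  set A : Divisor k (RatFunc k) :=
    div k (φ₀ q) + Finsupp.single Pinf ((q.natDegree : ℤ) + dinf) with hAdef
  have hfin : ∀ p : Place k (RatFunc k), p.1 RatFunc.X ≤ 1 → A p = p.ord (φ₀ q) := by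
    intro p hp
    have hne : Pinf ≠ p := by
      rintro rfl
      exact absurd hinf (not_lt.2 hp)
    rw [hAdef, Finsupp.add_apply, div_apply hF, Finsupp.single_eq_of_ne' hne, add_zero]
  have hAinf : A Pinf = dinf := by
    rw [hAdef, Finsupp.add_apply, div_apply hF, Finsupp.single_eq_same,
      ord_poly_of_pole Pinf hinf hq0, ord_X_of_pole Pinf hinf]
    ring
  have hval : ∀ p : Place k (RatFunc k), A p = if 1 < p.1 f then (1 - p.ord f) / 2 else 0 := by
    intro p
    rcases le_or_gt (p.1 RatFunc.X) 1 with hp | hp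
    · rw [hfin p hp, hq p hp]
    · rw [eq_of_pole hp hinf, hAinf]
  refine ⟨A, ?_, hfin, ?_⟩
  · intro p
    constructor
    · intro hpole
      have hf0 : f ≠ 0 := by
        rintro rfl
        rw [map_zero] at hpole
        exact absurd hpole (by simp)
      have hneg : p.ord f < 0 := by
        have := (p.v_le_one_iff hf0).not.1 (not_le.2 hpole)
        omega
      obtain ⟨i, hi⟩ := hodd p hpole
      have hcast : ((-i - 1).toNat : ℤ) = -i - 1 := Int.toNat_of_nonneg (by omega)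
      refine ⟨(-i - 1).toNat, ?_, ?_⟩
      · rw [hcast]; omega
      · rw [hval, if_pos hpole, hi, hcast]
        omega
    · intro hint
      rw [hval, if_neg (not_lt.2 hint)]
  · rw [hAdef, Divisor.deg_add, deg_div hF, Divisor.deg_single, deg_of_pole Pinf hinf, ← hAdef,
      hAinf]
    push_cast
    ring

variable (hdeg : Module.finrank (RatFunc k) K = 2) {y : K} {f : RatFunc k}

include hdeg in
/-- the local computation of `v(u dx)` for `u` in `k(x)` -/
theorem as_vDiff_eq [PerfectField k] (h2 : ringChar k = 2) (hy : y ∉ Set.range ι)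
    (heq : y ^ 2 + y = ι f) {A : Divisor k (RatFunc k)} (hA : AS.IsHalfPole f A)
    {F : Type w} [Field F] [Algebra k F] {P : Place k K} {φ : K →ₐ[k] F⸨X⸩}
    (hφ : IsExpansionAt P.1 φ) {p₀ : Place k (RatFunc k)} {e : ℕ} (he : IsOverWith P p₀ e)
    (z : K) :
    (p₀.1 RatFunc.X ≤ 1 → vDiff φ z (ι RatFunc.X) = P.1 z * exp (-((e : ℤ) * A p₀))) ∧
    (1 < p₀.1 RatFunc.X → vDiff φ z (ι RatFunc.X) =
      P.1 z * exp (2 * (e : ℤ) - (e : ℤ) * A p₀)) := by
  unfold vDiff
  rw [map_mul, hφ.1]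
  constructor
  · intro hX
    rw [as_finite_data hdeg h2 hy heq hA hφ he hX]
  · intro hX
    rw [as_pole_data hdeg h2 hy heq hA hφ he hX]

include hdeg in
/-- `x^i dx / q` is regular at every place for `i < g` -/
theorem as_vDiff_pow_div_le [PerfectField k] (hK : IsFunctionField k K) (h2 : ringChar k = 2)
    (hy : y ∉ Set.range ι) (heq : y ^ 2 + y = ι f)
    (hodd : ∀ p : Place k (RatFunc k), 1 < p.1 f → Odd (p.ord f))
    {q : k[X]} (hq0 : q ≠ 0)
    (hq : ∀ p : Place k (RatFunc k), p.1 RatFunc.X ≤ 1 →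
      p.ord (φ₀ q) = if 1 < p.1 f then (1 - p.ord f) / 2 else 0)
    {F : Type w} [Field F] [Algebra k F] {P : Place k K} {φ : K →ₐ[k] F⸨X⸩}
    (hφ : IsExpansionAt P.1 φ) {i : ℕ} (hi : i < genus k K) :
    vDiff φ (ι (RatFunc.X ^ i / φ₀ q)) (ι RatFunc.X) ≤ 1 := by
  haveI := QL.finiteDimensional_of_finrank hdeg
  have hF := isFunctionField (k := k)
  obtain ⟨Pinf, hinf⟩ := exists_pole (k := k)
  obtain ⟨A, hA, hAfin, hAdeg⟩ := exists_halfPole hodd hq0 hq hinf
  have hg0 : genus k (RatFunc k) = 0 := genus_eq_zero_of_adjoin_eq_top hF RatFunc.adjoin_X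
  have hgen := AS.genus_as hF hg0 hK hdeg h2 hy heq hA
  obtain ⟨p₀, e, he⟩ := exists_isOverWith hF.isFF1 P
  have hX0 : (RatFunc.X : RatFunc k) ≠ 0 := RatFunc.X_ne_zero
  have hq0' : φ₀ q ≠ 0 := RatFunc.algebraMap_ne_zero hq0
  have hu0 : (RatFunc.X : RatFunc k) ^ i / φ₀ q ≠ 0 := div_ne_zero (pow_ne_zero _ hX0) hq0'
  have hιu0 : ι ((RatFunc.X : RatFunc k) ^ i / φ₀ q) ≠ 0 := by
    rw [Ne, map_eq_zero_iff _ (algebraMap (RatFunc k) K).injective]; exact hu0
  have hordu : P.ord (ι ((RatFunc.X : RatFunc k) ^ i / φ₀ q)) =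
      e * (i * p₀.ord RatFunc.X - p₀.ord (φ₀ q)) := by
    rw [he.ord_eq, p₀.ord_div (pow_ne_zero _ hX0) hq0', p₀.ord_pow]
  have hi' : (i : ℤ) + 1 ≤ genus k K := by exact_mod_cast hi
  have he0 : (0 : ℤ) ≤ e := Nat.cast_nonneg e
  rcases le_or_gt (p₀.1 RatFunc.X) 1 with hX | hX
  · rw [(as_vDiff_eq hdeg h2 hy heq hA hφ he _).1 hX, P.v_eq_exp_neg_ord hιu0, hordu, ← exp_add,
      ← exp_zero, exp_le_exp, hAfin p₀ hX]
    have hx : 0 ≤ p₀.ord RatFunc.X := (p₀.v_le_one_iff hX0).1 hX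
    have : 0 ≤ (e : ℤ) * ((i : ℤ) * p₀.ord RatFunc.X) :=
      mul_nonneg he0 (mul_nonneg (Nat.cast_nonneg i) hx)
    linarith
  · have hpe : p₀ = Pinf := eq_of_pole hX hinf
    rw [(as_vDiff_eq hdeg h2 hy heq hA hφ he _).2 hX, P.v_eq_exp_neg_ord hιu0, hordu, ← exp_add,
      ← exp_zero, exp_le_exp, ord_poly_of_pole p₀ hX hq0, ord_X_of_pole p₀ hX, hpe]
    have hgA : (genus k K : ℤ) = q.natDegree + A Pinf - 1 := by rw [hgen, hAdeg]
    have : (e : ℤ) * ((i : ℤ) + 1 - genus k K) ≤ 0 :=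
      mul_nonpos_of_nonneg_of_nonpos he0 (by linarith)
    rw [hgA] at this
    linarith

include hdeg in
/-- every regular `z dx` has `z = a(x)/q(x)` with `deg a < g` -/
theorem as_exists_poly_of_regular [PerfectField k] (hK : IsFunctionField k K)
    (h2 : ringChar k = 2) (hy : y ∉ Set.range ι) (heq : y ^ 2 + y = ι f)
    (hodd : ∀ p : Place k (RatFunc k), 1 < p.1 f → Odd (p.ord f))
    {q : k[X]} (hq0 : q ≠ 0)
    (hq : ∀ p : Place k (RatFunc k), p.1 RatFunc.X ≤ 1 →
      p.ord (φ₀ q) = if 1 < p.1 f then (1 - p.ord f) / 2 else 0)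
    (F : Place k K → Type w) [∀ P, Field (F P)] [∀ P, Algebra k (F P)]
    (φ : ∀ P, K →ₐ[k] LaurentSeries (F P)) (hφ : ∀ P, IsExpansionAt P.1 (φ P)) {z : K}
    (hz : ∀ P, vDiff (φ P) z (ι RatFunc.X) ≤ 1) :
    ∃ a : k[X], a.degree < (genus k K : WithBot ℕ) ∧ z = ι (φ₀ a / φ₀ q) := by
  classical
  haveI := QL.finiteDimensional_of_finrank hdeg
  have hF := isFunctionField (k := k)
  obtain ⟨Pinf, hinf⟩ := exists_pole (k := k)
  obtain ⟨A, hA, hAfin, hAdeg⟩ := exists_halfPole hodd hq0 hq hinf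
  have hg0 : genus k (RatFunc k) = 0 := genus_eq_zero_of_adjoin_eq_top hF RatFunc.adjoin_X
  have hgen := AS.genus_as hF hg0 hK hdeg h2 hy heq hA
  have hgA : (genus k K : ℤ) = q.natDegree + A Pinf - 1 := by rw [hgen, hAdeg]
  have hq0' : φ₀ q ≠ 0 := RatFunc.algebraMap_ne_zero hq0
  have hιq0 : ι (φ₀ q) ≠ 0 := by
    rw [Ne, map_eq_zero_iff _ (algebraMap (RatFunc k) K).injective]; exact hq0'
  set D : Divisor k (RatFunc k) := Finsupp.single Pinf ((genus k K : ℤ) - 1) with hD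
  -- `w = z q` lies in `L (conorm D)`
  have hmem : z * ι (φ₀ q) ∈ L (conorm K D) := by
    rw [mem_L]
    intro Q
    obtain ⟨p₀, e, he⟩ := exists_isOverWith hF.isFF1 Q
    rw [conorm_apply hF.isFF1 _ he]
    rcases eq_or_ne z 0 with rfl | hz0
    · rw [zero_mul, map_zero]; exact zero_le'
    have hzq := hz Q
    rw [Q.v_eq_exp_neg_ord (mul_ne_zero hz0 hιq0), Q.ord_mul hz0 hιq0, he.ord_eq, exp_le_exp]
    have he0 : (0 : ℤ) ≤ e := Nat.cast_nonneg e
    rcases le_or_gt (p₀.1 RatFunc.X) 1 with hX | hX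
    · have hne : Pinf ≠ p₀ := by
        rintro rfl
        exact absurd hinf (not_lt.2 hX)
      rw [(as_vDiff_eq hdeg h2 hy heq hA (hφ Q) he _).1 hX, Q.v_eq_exp_neg_ord hz0, ← exp_add,
        ← exp_zero, exp_le_exp, hAfin p₀ hX] at hzq
      rw [hD, Finsupp.single_eq_of_ne' hne, mul_zero]
      linarith
    · have hpe : p₀ = Pinf := eq_of_pole hX hinf
      rw [(as_vDiff_eq hdeg h2 hy heq hA (hφ Q) he _).2 hX, Q.v_eq_exp_neg_ord hz0, ← exp_add,
        ← exp_zero, exp_le_exp, hpe] at hzq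
      rw [hpe, hD, Finsupp.single_eq_same, ord_poly_of_pole Pinf hinf hq0,
        ord_X_of_pole Pinf hinf, hgA]
      have : (e : ℤ) * ((q.natDegree : ℤ) + A Pinf - 1 - 1) =
        e * q.natDegree + e * A Pinf - 2 * e := by ring
      rw [this]
      have h3 : (e : ℤ) * ((q.natDegree : ℤ) * -1) = -(e * q.natDegree) := by ring
      rw [h3]
      linarith
  obtain ⟨a, b, hab⟩ := QL.exists_repr hdeg hy (z * ι (φ₀ q))
  rw [hab, AS.mem_L_conorm_iff hF hdeg h2 hy heq hA] at hmem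
  obtain ⟨ha, hb⟩ := hmem
  have hb0 : b = 0 := by
    have hdegneg : (D - A).deg < 0 := by
      rw [Divisor.deg_sub, hD, Divisor.deg_single, deg_of_pole Pinf hinf, hgen]
      push_cast
      linarith
    rw [L_eq_bot_of_deg_neg hF hdegneg] at hb
    exact (Submodule.mem_bot k).1 hb
  rw [hb0, map_zero, zero_mul, add_zero] at hab
  have hzeq : z = ι (a / φ₀ q) := by
    rw [map_div₀, ← hab, mul_div_cancel_right₀ _ hιq0]
  rcases Nat.eq_zero_or_pos (genus k K) with hgz | hgpos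
  · have hdegneg : D.deg < 0 := by
      rw [hD, Divisor.deg_single, deg_of_pole Pinf hinf, hgz]
      norm_num
    rw [L_eq_bot_of_deg_neg hF hdegneg] at ha
    have ha0 : a = 0 := (Submodule.mem_bot k).1 ha
    refine ⟨0, ?_, ?_⟩
    · rw [degree_zero]; exact WithBot.bot_lt_coe _
    · rw [hzeq, ha0, map_zero, zero_div]
  · have hcast : ((genus k K : ℤ) - 1) = ((genus k K - 1 : ℕ) : ℤ) := by
      rw [Nat.cast_sub hgpos]; norm_num
    rw [hD, hcast, mem_L_single_pole_iff hinf] at ha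
    obtain ⟨a₀, ha₀, rfl⟩ := ha
    refine ⟨a₀, ?_, hzeq⟩
    rw [mem_degreeLT, Nat.sub_add_cancel hgpos] at ha₀
    exact ha₀

end as

end Groth.Agent.H7.AD
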