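import Groth.Agent.Lib.Helper7.AD2

/-! Artin–Schreier double covers of the line in characteristic two with rational poles: local data
(helper7). -/

set_option autoImplicit false
set_option linter.unusedSectionVars false

universe u v w

namespace Groth.Agent.H7.AE

open FunFld WithZero Polynomial
open Groth.Agent.H7.RF

section ratfunc

variable {k : Type u} [Field k] (p : Place k (RatFunc k))

local notation "φ₀" => algebraMap k[X] (RatFunc k)

lemma sub_C_eq (β : k) : (RatFunc.X : RatFunc k) - RatFunc.C β = φ₀ (X - C β) := by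
  rw [map_sub, RatFunc.algebraMap_X, RatFunc.algebraMap_C]

lemma v_C_le (β : k) : p.1 (RatFunc.C β) ≤ 1 := by
  rw [← RatFunc.algebraMap_eq_C]; exact p.v_algebraMap_le β

lemma v_C_eq {β : k} (hβ : β ≠ 0) : p.1 (RatFunc.C β) = 1 := by
  rw [← RatFunc.algebraMap_eq_C]; exact p.v_algebraMap hβ

lemma v_sub_C_of_pole (hX : 1 < p.1 RatFunc.X) (β : k) :
    p.1 ((RatFunc.X : RatFunc k) - RatFunc.C β) = p.1 RatFunc.X :=
  Valuation.map_sub_eq_of_lt_left _ (lt_of_le_of_lt (v_C_le p β) hX)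

lemma v_X_le_of_lt {β : k} (h : p.1 ((RatFunc.X : RatFunc k) - RatFunc.C β) < 1) :
    p.1 RatFunc.X ≤ 1 := by
  rw [sub_C_eq] at h
  exact v_X_le_one_of_lt p (X_sub_C_ne_zero β) h

lemma v_sub_C_le (hX : p.1 RatFunc.X ≤ 1) (β : k) :
    p.1 ((RatFunc.X : RatFunc k) - RatFunc.C β) ≤ 1 :=
  Valuation.map_sub_le _ hX (v_C_le p β)

lemma ord_sub_C_of_lt {β : k} (h : p.1 ((RatFunc.X : RatFunc k) - RatFunc.C β) < 1) :
    p.ord ((RatFunc.X : RatFunc k) - RatFunc.C β) = 1 := by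
  rw [sub_C_eq] at h ⊢
  exact ord_irreducible p (irreducible_X_sub_C β) h

lemma sub_C_ne_zero (β : k) : (RatFunc.X : RatFunc k) - RatFunc.C β ≠ 0 := by
  rw [sub_C_eq]; exact RatFunc.algebraMap_ne_zero (X_sub_C_ne_zero β)

lemma v_sub_C_of_ne {α β : k} (h : p.1 ((RatFunc.X : RatFunc k) - RatFunc.C β) < 1)
    (hne : α ≠ β) : p.1 ((RatFunc.X : RatFunc k) - RatFunc.C α) = 1 := by
  have h1 : (RatFunc.X : RatFunc k) - RatFunc.C α =
      RatFunc.C (β - α) + ((RatFunc.X : RatFunc k) - RatFunc.C β) := by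
    rw [map_sub]; ring
  have h2 : p.1 (RatFunc.C (β - α)) = 1 := v_C_eq p (sub_ne_zero.2 hne.symm)
  rw [h1, Valuation.map_add_eq_of_lt_left _ (by rw [h2]; exact h), h2]

lemma ord_sub_C_of_pole (hX : 1 < p.1 RatFunc.X) (β : k) :
    p.ord ((RatFunc.X : RatFunc k) - RatFunc.C β) = -1 := by
  rw [Place.ord, v_sub_C_of_pole p hX, ← Place.ord, ord_X_of_pole p hX]

/-- over an algebraically closed field a finite place is centered at some `x = β` -/
lemma exists_center_C [IsAlgClosed k] (hX : p.1 RatFunc.X ≤ 1) :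
    ∃ β : k, p.1 ((RatFunc.X : RatFunc k) - RatFunc.C β) < 1 := by
  obtain ⟨q, hq, hqv⟩ := exists_center p hX
  have hdeg := IsAlgClosed.degree_eq_one_of_irreducible k hq
  obtain ⟨a, ha0, b, rfl⟩ : ∃ a : k, a ≠ 0 ∧ ∃ b : k, q = C a * X + C b := by
    have h1 := eq_X_add_C_of_degree_eq_one hdeg
    refine ⟨q.leadingCoeff, leadingCoeff_ne_zero.2 hq.ne_zero, q.coeff 0, h1⟩
  refine ⟨-(b / a), ?_⟩
  have h2 : (C a * X + C b : k[X]) = C a * (X - C (-(b / a))) := by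
    rw [map_neg, sub_neg_eq_add, mul_add, ← C_mul, mul_div_cancel₀ _ ha0]
  rw [h2, map_mul, map_mul, RatFunc.algebraMap_C, v_C_eq p ha0, one_mul, ← sub_C_eq] at hqv
  exact hqv

end ratfunc

section as

variable {k : Type u} {K : Type v} [Field k] [Field K] [Algebra k K] [Algebra (RatFunc k) K]
  [IsScalarTower k (RatFunc k) K]

local notation "φ₀" => algebraMap k[X] (RatFunc k)
local notation "ι" => algebraMap (RatFunc k) K

lemma ι_sub (β : k) : ι RatFunc.X - algebraMap k K β = ι ((RatFunc.X : RatFunc k) - RatFunc.C β) := by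
  rw [map_sub, IsScalarTower.algebraMap_apply k (RatFunc k) K, RatFunc.algebraMap_eq_C]

lemma ι_ne_zero {t : RatFunc k} (ht : t ≠ 0) : ι t ≠ 0 := by
  rw [Ne, map_eq_zero_iff _ (algebraMap (RatFunc k) K).injective]; exact ht

variable (hdeg : Module.finrank (RatFunc k) K = 2) {y : K} {f : RatFunc k}

include hdeg in
/-- unramified where `f` is integral -/
theorem e_eq_one [CharP k 2] (hy : y ∉ Set.range ι) (heq : y ^ 2 + y = ι f)
    {P : Place k K} {p₀ : Place k (RatFunc k)} {e : ℕ} (he : IsOverWith P p₀ e)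
    (hint : p₀.1 f ≤ 1) : e = 1 := by
  haveI : CharP (RatFunc k) 2 :=
    charP_of_injective_algebraMap (algebraMap k (RatFunc k)).injective 2
  have h4 : (4 : RatFunc k) = 0 := by
    have : (4 : RatFunc k) = 2 * 2 := by norm_num
    rw [this, CharTwo.two_eq_zero, zero_mul]
  have he1 : IsOverWith P p₀ 1 :=
    QL.isOverWith_one_of_disc isFunctionField hdeg hy (b := 1) (c := f)
      (by rw [map_one, one_mul]; exact heq) (by simp) hint
      (by rw [h4, zero_mul, add_zero, one_pow, map_one]) ⟨e, he⟩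
  exact (he1.unique he).2.symm

include hdeg in
/-- ramified at the poles of odd order, with `ord y = ord f` -/
theorem e_eq_two (heq : y ^ 2 + y = ι f)
    {P : Place k K} {p₀ : Place k (RatFunc k)} {e : ℕ} (he : IsOverWith P p₀ e)
    (hpole : 1 < p₀.1 f) (hodd : Odd (p₀.ord f)) : e = 2 ∧ y ≠ 0 ∧ P.ord y = p₀.ord f := by
  have hf0 : f ≠ 0 := by
    rintro rfl
    rw [map_zero] at hpole
    exact absurd hpole (by simp)
  have hneg : p₀.ord f < 0 := by
    have := (p₀.v_le_one_iff hf0).not.1 (not_le.2 hpole)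
    omega
  have he2 : IsOverWith P p₀ 2 :=
    QL.isOverWith_two_of_as isFunctionField hdeg heq hneg hodd ⟨e, he⟩
  obtain ⟨hy0, hy⟩ := AS.two_mul_ord_y he2 heq hpole
  refine ⟨(he2.unique he).2.symm, hy0, ?_⟩
  push_cast at hy
  linarith

variable {B : Finset k} {d : k → ℕ}

include hdeg in
theorem data_above (heq : y ^ 2 + y = ι f) (hd : ∀ β ∈ B, Odd (d β))
    (hpole : ∀ (p : Place k (RatFunc k)) (β : k), β ∈ B →
      p.1 ((RatFunc.X : RatFunc k) - RatFunc.C β) < 1 → p.ord f = -(d β : ℤ))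
    {P : Place k K} {p₀ : Place k (RatFunc k)} {e : ℕ} (he : IsOverWith P p₀ e)
    {β : k} (hβ : β ∈ B) (hlt : p₀.1 ((RatFunc.X : RatFunc k) - RatFunc.C β) < 1) :
    e = 2 ∧ y ≠ 0 ∧ P.ord y = -(d β : ℤ) ∧
      P.ord (ι ((RatFunc.X : RatFunc k) - RatFunc.C β)) = 2 ∧
      ∀ α : k, α ≠ β → P.ord (ι ((RatFunc.X : RatFunc k) - RatFunc.C α)) = 0 := by
  have hord := hpole p₀ β hβ hlt
  have hdpos : 0 < d β := (hd β hβ).pos
  have hf0 : f ≠ 0 := by
    rintro rfl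
    simp [Place.ord] at hord
    omega
  have hpl : 1 < p₀.1 f := by
    rw [← not_le, p₀.v_le_one_iff hf0, hord]
    omega
  have hodd : Odd (p₀.ord f) := by
    rw [hord]
    exact ((Int.odd_coe_nat _).2 (hd β hβ)).neg
  obtain ⟨he2, hy0, hy⟩ := e_eq_two hdeg heq he hpl hodd
  subst he2
  refine ⟨rfl, hy0, by rw [hy, hord], ?_, ?_⟩
  · rw [he.ord_eq, ord_sub_C_of_lt p₀ hlt]; norm_num
  · intro α hα
    rw [he.ord_eq, (p₀.v_eq_one_iff (sub_C_ne_zero α)).1 (v_sub_C_of_ne p₀ hlt hα), mul_zero]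

include hdeg in
theorem data_infty [CharP k 2] (hy : y ∉ Set.range ι) (heq : y ^ 2 + y = ι f)
    (hint : ∀ p : Place k (RatFunc k),
      (∀ β ∈ B, 1 ≤ p.1 ((RatFunc.X : RatFunc k) - RatFunc.C β)) → p.1 f ≤ 1)
    {P : Place k K} {p₀ : Place k (RatFunc k)} {e : ℕ} (he : IsOverWith P p₀ e)
    (hX : 1 < p₀.1 RatFunc.X) :
    e = 1 ∧ P.1 y ≤ 1 ∧ ∀ α : k, P.ord (ι ((RatFunc.X : RatFunc k) - RatFunc.C α)) = -1 := by
  have hf : p₀.1 f ≤ 1 := hint p₀ (fun β _ => by rw [v_sub_C_of_pole p₀ hX]; exact hX.le)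
  have he1 := e_eq_one hdeg hy heq he hf
  subst he1
  refine ⟨rfl, AS.v_y_le_one he heq hf, fun α => ?_⟩
  rw [he.ord_eq, ord_sub_C_of_pole p₀ hX]; norm_num

include hdeg in
theorem data_other [CharP k 2] (hy : y ∉ Set.range ι) (heq : y ^ 2 + y = ι f)
    (hint : ∀ p : Place k (RatFunc k),
      (∀ β ∈ B, 1 ≤ p.1 ((RatFunc.X : RatFunc k) - RatFunc.C β)) → p.1 f ≤ 1)
    {P : Place k K} {p₀ : Place k (RatFunc k)} {e : ℕ} (he : IsOverWith P p₀ e)
    (hX : p₀.1 RatFunc.X ≤ 1)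
    (hB : ∀ β ∈ B, 1 ≤ p₀.1 ((RatFunc.X : RatFunc k) - RatFunc.C β)) :
    e = 1 ∧ P.1 y ≤ 1 ∧
      ∀ α ∈ B, P.ord (ι ((RatFunc.X : RatFunc k) - RatFunc.C α)) = 0 := by
  have hf : p₀.1 f ≤ 1 := hint p₀ hB
  have he1 := e_eq_one hdeg hy heq he hf
  subst he1
  refine ⟨rfl, AS.v_y_le_one he heq hf, fun α hα => ?_⟩
  rw [he.ord_eq, (p₀.v_eq_one_iff (sub_C_ne_zero α)).1
    (le_antisymm (v_sub_C_le p₀ hX α) (hB α hα)), mul_zero]

end as

end Groth.Agent.H7.AE
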