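import Groth.Agent.Lib.Helper7.AE1

/-! Regular differentials form a subspace; Artin–Schreier consequences (helper7). -/

set_option autoImplicit false
set_option linter.unusedSectionVars false

universe u v w

namespace Groth.Agent.H7.AE

open FunFld LocRes WithZero LaurentSeries HahnSeries Polynomial
open Groth.Agent.H7.RF Groth.Agent.H7.AD

section regular

variable {k : Type u} {K : Type v} [Field k] [Field K] [Algebra k K]
variable {F : Type w} [Field F] [Algebra k F] {P : Place k K} {φ : K →ₐ[k] F⸨X⸩}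

lemma vDiff_add_le {z z' x : K} (h : vDiff φ z x ≤ 1) (h' : vDiff φ z' x ≤ 1) :
    vDiff φ (z + z') x ≤ 1 := by
  unfold vDiff at *
  rw [map_add, add_mul]
  exact Valuation.map_add_le _ h h'

lemma vDiff_zero (x : K) : vDiff φ 0 x ≤ 1 := by
  unfold vDiff
  rw [map_zero, zero_mul, map_zero]
  exact zero_le'

lemma vDiff_smul_le (hφ : IsExpansionAt P.1 φ) (c : k) {z x : K} (h : vDiff φ z x ≤ 1) :
    vDiff φ (c • z) x ≤ 1 := by
  unfold vDiff at *
  have h0 : φ (c • z) * LocRes.D F (φ x) = φ (algebraMap k K c) * (φ z * LocRes.D F (φ x)) := by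
    rw [Algebra.smul_def, map_mul, mul_assoc]
  rw [h0, map_mul, hφ.1]
  calc P.1 (algebraMap k K c) * Valued.v (φ z * LocRes.D F (φ x)) ≤ 1 * 1 :=
        mul_le_mul' (P.v_algebraMap_le c) h
    _ = 1 := one_mul 1

lemma vDiff_sum_le {ι' : Type*} (s : Finset ι') (z : ι' → K) {x : K}
    (h : ∀ i ∈ s, vDiff φ (z i) x ≤ 1) : vDiff φ (∑ i ∈ s, z i) x ≤ 1 := by
  classical
  induction s using Finset.induction_on with
  | empty => rw [Finset.sum_empty]; exact vDiff_zero x
  | insert i s hi ih =>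
    rw [Finset.sum_insert hi]
    exact vDiff_add_le (h i (Finset.mem_insert_self i s))
      (ih (fun j hj => h j (Finset.mem_insert_of_mem hj)))

end regular

section as

variable {k : Type u} {K : Type v} [Field k] [Field K] [Algebra k K] [Algebra (RatFunc k) K]
  [IsScalarTower k (RatFunc k) K]

local notation "φ₀" => algebraMap k[X] (RatFunc k)
local notation "ι" => algebraMap (RatFunc k) K

variable (hdeg : Module.finrank (RatFunc k) K = 2) {y : K} {f : RatFunc k}

include hdeg in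
/-- `a(x) dx / q` is regular at every place for `deg a < g` -/
theorem as_regular_of_degree_lt [PerfectField k] (hK : IsFunctionField k K) (h2 : ringChar k = 2)
    (hy : y ∉ Set.range ι) (heq : y ^ 2 + y = ι f)
    (hodd : ∀ p : Place k (RatFunc k), 1 < p.1 f → Odd (p.ord f))
    {q : k[X]} (hq0 : q ≠ 0)
    (hq : ∀ p : Place k (RatFunc k), p.1 RatFunc.X ≤ 1 →
      p.ord (φ₀ q) = if 1 < p.1 f then (1 - p.ord f) / 2 else 0)
    {F : Type w} [Field F] [Algebra k F] {P : Place k K} {φ : K →ₐ[k] F⸨X⸩}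
    (hφ : IsExpansionAt P.1 φ) {a : k[X]} (ha : a.degree < (genus k K : WithBot ℕ)) :
    vDiff φ (ι (φ₀ a / φ₀ q)) (ι RatFunc.X) ≤ 1 := by
  rcases eq_or_ne a 0 with rfl | ha0
  · rw [map_zero, zero_div, map_zero]; exact vDiff_zero _
  have hnat : a.natDegree < genus k K := (natDegree_lt_iff_degree_lt ha0).2 ha
  have h1 : ι (φ₀ a / φ₀ q) = ∑ i ∈ Finset.range (genus k K),
      a.coeff i • ι (RatFunc.X ^ i / φ₀ q) := by
    conv_lhs => rw [as_sum_range_C_mul_X_pow' a hnat]
    rw [map_sum, Finset.sum_div, map_sum]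
    refine Finset.sum_congr rfl (fun i _ => ?_)
    rw [map_mul, map_pow, RatFunc.algebraMap_X, RatFunc.algebraMap_C, ← RatFunc.algebraMap_eq_C,
      mul_div_assoc, map_mul, ← IsScalarTower.algebraMap_apply, ← Algebra.smul_def]
  rw [h1]
  refine vDiff_sum_le _ _ (fun i hi => vDiff_smul_le hφ _ ?_)
  exact as_vDiff_pow_div_le hdeg hK h2 hy heq hodd hq0 hq hφ (Finset.mem_range.1 hi)

include hdeg in
/-- `g + 1 = deg q` when `f` is integral at infinity -/
theorem as_genus_add_one [PerfectField k] (hK : IsFunctionField k K) (h2 : ringChar k = 2)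
    (hy : y ∉ Set.range ι) (heq : y ^ 2 + y = ι f)
    (hodd : ∀ p : Place k (RatFunc k), 1 < p.1 f → Odd (p.ord f))
    {q : k[X]} (hq0 : q ≠ 0)
    (hq : ∀ p : Place k (RatFunc k), p.1 RatFunc.X ≤ 1 →
      p.ord (φ₀ q) = if 1 < p.1 f then (1 - p.ord f) / 2 else 0)
    (hfinf : ∀ p : Place k (RatFunc k), 1 < p.1 RatFunc.X → p.1 f ≤ 1) :
    genus k K + 1 = q.natDegree := by
  have hF := isFunctionField (k := k)
  obtain ⟨Pinf, hinf⟩ := exists_pole (k := k)
  obtain ⟨A, hA, hAfin, hAdeg⟩ := exists_halfPole hodd hq0 hq hinf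
  have hg0 : genus k (RatFunc k) = 0 := genus_eq_zero_of_adjoin_eq_top hF RatFunc.adjoin_X
  have hgen := AS.genus_as hF hg0 hK hdeg h2 hy heq hA
  rw [hAdeg, (hA Pinf).2 (hfinf Pinf hinf), add_zero] at hgen
  have : ((genus k K + 1 : ℕ) : ℤ) = q.natDegree := by push_cast; linarith
  exact_mod_cast this

end as

end Groth.Agent.H7.AE
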