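import Groth.Agent.Lib.Helper7.AE2

/-! Products of powers of linear factors and partial fractions (helper7). -/

set_option autoImplicit false
set_option linter.unusedSectionVars false

universe u v w

namespace Groth.Agent.H7.AE

open FunFld WithZero Polynomial
open Groth.Agent.H7.RF

section poly

variable {k : Type u} [Field k] (B : Finset k) (m : k → ℕ)

local notation "φ₀" => algebraMap k[X] (RatFunc k)

/-- `q = ∏ (X - α)^{m α}` -/
noncomputable def qB : k[X] := ∏ α ∈ B, (X - C α) ^ m α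

lemma monic_qB : (qB B m).Monic :=
  monic_prod_of_monic _ _ (fun α _ => (monic_X_sub_C α).pow _)

lemma qB_ne_zero : qB B m ≠ 0 := (monic_qB B m).ne_zero

lemma natDegree_qB : (qB B m).natDegree = ∑ α ∈ B, m α := by
  rw [qB, natDegree_prod_of_monic _ _ (fun α _ => (monic_X_sub_C α).pow _)]
  refine Finset.sum_congr rfl (fun α _ => ?_)
  rw [natDegree_pow, natDegree_X_sub_C, mul_one]

lemma ord_prod {K : Type*} [Field K] [Algebra k K] (P : Place k K) {ι' : Type*} (s : Finset ι')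
    (g : ι' → K) (h : ∀ i ∈ s, g i ≠ 0) : P.ord (∏ i ∈ s, g i) = ∑ i ∈ s, P.ord (g i) := by
  classical
  induction s using Finset.induction_on with
  | empty => simp [Place.ord]
  | insert i s hi ih =>
    rw [Finset.prod_insert hi, Finset.sum_insert hi,
      P.ord_mul (h i (Finset.mem_insert_self i s))
        (Finset.prod_ne_zero_iff.2 (fun j hj => h j (Finset.mem_insert_of_mem hj))),
      ih (fun j hj => h j (Finset.mem_insert_of_mem hj))]

variable (p : Place k (RatFunc k))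

lemma ord_qB : p.ord (φ₀ (qB B m)) =
    ∑ α ∈ B, (m α : ℤ) * p.ord ((RatFunc.X : RatFunc k) - RatFunc.C α) := by
  rw [qB, map_prod, ord_prod p]
  · refine Finset.sum_congr rfl (fun α _ => ?_)
    rw [map_pow, p.ord_pow, ← sub_C_eq]
  · intro α _
    rw [map_pow, ← sub_C_eq]
    exact pow_ne_zero _ (sub_C_ne_zero α)

variable {B}

lemma ord_qB_of_lt {β : k} (hβ : β ∈ B)
    (hlt : p.1 ((RatFunc.X : RatFunc k) - RatFunc.C β) < 1) : p.ord (φ₀ (qB B m)) = m β := by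
  classical
  rw [ord_qB, Finset.sum_eq_single_of_mem β hβ, ord_sub_C_of_lt p hlt, mul_one]
  intro α _ hα
  rw [(p.v_eq_one_iff (sub_C_ne_zero α)).1 (v_sub_C_of_ne p hlt hα), mul_zero]

lemma ord_qB_of_ge (hX : p.1 RatFunc.X ≤ 1)
    (hB : ∀ β ∈ B, 1 ≤ p.1 ((RatFunc.X : RatFunc k) - RatFunc.C β)) :
    p.ord (φ₀ (qB B m)) = 0 := by
  rw [ord_qB]
  refine Finset.sum_eq_zero (fun α hα => ?_)
  rw [(p.v_eq_one_iff (sub_C_ne_zero α)).1 (le_antisymm (v_sub_C_le p hX α) (hB α hα)), mul_zero]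

variable (B)

open scoped Classical in
/-- `q / (X - α)^{j+1}` -/
noncomputable def aB (α : k) (j : ℕ) : k[X] :=
  (X - C α) ^ (m α - (j + 1)) * ∏ β ∈ B.erase α, (X - C β) ^ m β

variable {B}

open scoped Classical in
lemma aB_mul {α : k} (hα : α ∈ B) {j : ℕ} (hj : j + 1 ≤ m α) :
    aB B m α j * (X - C α) ^ (j + 1) = qB B m := by
  rw [aB, qB, ← Finset.mul_prod_erase B _ hα, mul_right_comm, ← pow_add, Nat.sub_add_cancel hj]

open scoped Classical in
lemma monic_aB (α : k) (j : ℕ) : (aB B m α j).Monic :=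
  ((monic_X_sub_C α).pow _).mul (monic_prod_of_monic _ _ (fun β _ => (monic_X_sub_C β).pow _))

lemma natDegree_aB {α : k} (hα : α ∈ B) {j : ℕ} (hj : j + 1 ≤ m α) :
    (aB B m α j).natDegree + (j + 1) = (qB B m).natDegree := by
  rw [← aB_mul m hα hj, ((monic_aB m α j).natDegree_mul ((monic_X_sub_C α).pow _)),
    natDegree_pow, natDegree_X_sub_C, mul_one]

lemma aB_div {α : k} (hα : α ∈ B) {j : ℕ} (hj : j + 1 ≤ m α) :
    φ₀ (aB B m α j) / φ₀ (qB B m) = ((RatFunc.X : RatFunc k) - RatFunc.C α)⁻¹ ^ (j + 1) := by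
  have h0 : φ₀ (aB B m α j) ≠ 0 := RatFunc.algebraMap_ne_zero (monic_aB m α j).ne_zero
  rw [← aB_mul m hα hj, map_mul, map_pow, ← sub_C_eq, inv_pow, div_mul_cancel_left₀ h0]

end poly

section hyp

variable {k : Type u} [Field k] {B : Finset k} {d : k → ℕ} {f : RatFunc k}

local notation "φ₀" => algebraMap k[X] (RatFunc k)

/-- the exponents `(d + 1)/2` -/
def mB (d : k → ℕ) (α : k) : ℕ := (d α + 1) / 2

lemma pole_of_lt (hd : ∀ β ∈ B, Odd (d β))
    (hpole : ∀ (p : Place k (RatFunc k)) (β : k), β ∈ B →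
      p.1 ((RatFunc.X : RatFunc k) - RatFunc.C β) < 1 → p.ord f = -(d β : ℤ))
    (p : Place k (RatFunc k)) {β : k} (hβ : β ∈ B)
    (hlt : p.1 ((RatFunc.X : RatFunc k) - RatFunc.C β) < 1) : 1 < p.1 f := by
  have hord := hpole p β hβ hlt
  have hdpos : 0 < d β := (hd β hβ).pos
  have hf0 : f ≠ 0 := by
    rintro rfl
    simp [Place.ord] at hord
    omega
  rw [← not_le, p.v_le_one_iff hf0, hord]
  omega

lemma hodd_of (hd : ∀ β ∈ B, Odd (d β))
    (hpole : ∀ (p : Place k (RatFunc k)) (β : k), β ∈ B →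
      p.1 ((RatFunc.X : RatFunc k) - RatFunc.C β) < 1 → p.ord f = -(d β : ℤ))
    (hint : ∀ p : Place k (RatFunc k),
      (∀ β ∈ B, 1 ≤ p.1 ((RatFunc.X : RatFunc k) - RatFunc.C β)) → p.1 f ≤ 1)
    (p : Place k (RatFunc k)) (hp : 1 < p.1 f) : Odd (p.ord f) := by
  by_cases h : ∀ β ∈ B, 1 ≤ p.1 ((RatFunc.X : RatFunc k) - RatFunc.C β)
  · exact absurd (hint p h) (not_le.2 hp)
  · push_neg at h
    obtain ⟨β, hβ, hlt⟩ := h
    rw [hpole p β hβ hlt]
    exact ((Int.odd_coe_nat _).2 (hd β hβ)).neg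

lemma hq_of (hd : ∀ β ∈ B, Odd (d β))
    (hpole : ∀ (p : Place k (RatFunc k)) (β : k), β ∈ B →
      p.1 ((RatFunc.X : RatFunc k) - RatFunc.C β) < 1 → p.ord f = -(d β : ℤ))
    (hint : ∀ p : Place k (RatFunc k),
      (∀ β ∈ B, 1 ≤ p.1 ((RatFunc.X : RatFunc k) - RatFunc.C β)) → p.1 f ≤ 1)
    (p : Place k (RatFunc k)) (hX : p.1 RatFunc.X ≤ 1) :
    p.ord (φ₀ (qB B (mB d))) = if 1 < p.1 f then (1 - p.ord f) / 2 else 0 := by
  by_cases h : ∀ β ∈ B, 1 ≤ p.1 ((RatFunc.X : RatFunc k) - RatFunc.C β)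
  · rw [ord_qB_of_ge _ p hX h, if_neg (not_lt.2 (hint p h))]
  · push_neg at h
    obtain ⟨β, hβ, hlt⟩ := h
    rw [ord_qB_of_lt _ p hβ hlt, if_pos (pole_of_lt hd hpole p hβ hlt), hpole p β hβ hlt, mB]
    obtain ⟨c, hc⟩ := hd β hβ
    rw [hc]
    push_cast
    omega

lemma hfinf_of
    (hint : ∀ p : Place k (RatFunc k),
      (∀ β ∈ B, 1 ≤ p.1 ((RatFunc.X : RatFunc k) - RatFunc.C β)) → p.1 f ≤ 1)
    (p : Place k (RatFunc k)) (hX : 1 < p.1 RatFunc.X) : p.1 f ≤ 1 :=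
  hint p (fun β _ => by rw [v_sub_C_of_pole p hX]; exact hX.le)

end hyp

end Groth.Agent.H7.AE
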