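import Groth.Agent.Lib.Helper7.AE3

/-! Linear independence of partial fractions (helper7). -/

set_option autoImplicit false
set_option linter.unusedSectionVars false

universe u v w

namespace Groth.Agent.H7.AE

open FunFld WithZero Polynomial
open Groth.Agent.H7.RF

section dominant

lemma v_sum_eq_of_dominant {R Γ₀ : Type*} [Ring R] [LinearOrderedCommGroupWithZero Γ₀]
    (v : Valuation R Γ₀) {ι' : Type*} (s : Finset ι') (f : ι' → R) {i₀ : ι'} (hi₀ : i₀ ∈ s)
    (hne : v (f i₀) ≠ 0) (h : ∀ i ∈ s, i ≠ i₀ → v (f i) < v (f i₀)) :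
    v (∑ i ∈ s, f i) = v (f i₀) := by
  classical
  rw [← Finset.add_sum_erase s f hi₀]
  exact Valuation.map_add_eq_of_lt_left _ (Valuation.map_sum_lt v hne
    (fun i hi => h i (Finset.mem_of_mem_erase hi) (Finset.ne_of_mem_erase hi)))

end dominant

section pf

variable {k : Type u} [Field k]

local notation "φ₀" => algebraMap k[X] (RatFunc k)

/-- a place at `x = α` -/
lemma exists_place_at (α : k) :
    ∃ p : Place k (RatFunc k), p.1 ((RatFunc.X : RatFunc k) - RatFunc.C α) < 1 := by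
  obtain ⟨p, hp⟩ := exists_place_irreducible (irreducible_X_sub_C α)
  exact ⟨p, by rw [sub_C_eq]; exact hp⟩

variable (p : Place k (RatFunc k)) {α : k}

lemma v_inv_sub_C_self (hlt : p.1 ((RatFunc.X : RatFunc k) - RatFunc.C α) < 1) :
    p.1 ((RatFunc.X : RatFunc k) - RatFunc.C α)⁻¹ = exp 1 := by
  rw [p.v_eq_exp_neg_ord (inv_ne_zero (sub_C_ne_zero α)), p.ord_inv, ord_sub_C_of_lt p hlt, neg_neg]

lemma v_inv_sub_C_of_ne (hlt : p.1 ((RatFunc.X : RatFunc k) - RatFunc.C α) < 1) {γ : k}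
    (hne : γ ≠ α) : p.1 ((RatFunc.X : RatFunc k) - RatFunc.C γ)⁻¹ = 1 := by
  rw [map_inv₀, v_sub_C_of_ne p hlt hne, inv_one]

lemma v_inv_sub_C_le (hlt : p.1 ((RatFunc.X : RatFunc k) - RatFunc.C α) < 1) (γ : k) :
    p.1 ((RatFunc.X : RatFunc k) - RatFunc.C γ)⁻¹ ≤ exp 1 := by
  rcases eq_or_ne γ α with rfl | hne
  · exact (v_inv_sub_C_self p hlt).le
  · rw [v_inv_sub_C_of_ne p hlt hne, ← exp_zero, exp_le_exp]; norm_num

variable (B : Finset k) (d : k → ℕ)

/-- the first index type -/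
abbrev I₁ := {a : ↥B × ℕ // 1 ≤ a.2 ∧ 2 * a.2 + 1 ≤ d (a.1 : k)}

/-- the second index type -/
abbrev I₂ := {b : ↥B // (b : k) ≠ 0}

variable {B d}

/-- `(x - α)^{-(j+1)}` -/
noncomputable def u₁ (a : I₁ B d) : RatFunc k :=
  ((RatFunc.X : RatFunc k) - RatFunc.C (a.1.1 : k))⁻¹ ^ (a.1.2 + 1)

/-- `β / (x (x - β))` -/
noncomputable def u₂ (b : I₂ B) : RatFunc k :=
  RatFunc.C (b.1 : k) / ((RatFunc.X : RatFunc k) * ((RatFunc.X : RatFunc k) - RatFunc.C (b.1 : k)))

lemma u₂_eq (b : I₂ B) : u₂ b = ((RatFunc.X : RatFunc k) - RatFunc.C (b.1 : k))⁻¹ -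
    ((RatFunc.X : RatFunc k) - RatFunc.C 0)⁻¹ := by
  have h1 : (RatFunc.X : RatFunc k) - RatFunc.C (b.1 : k) ≠ 0 := sub_C_ne_zero _
  have h2 : (RatFunc.X : RatFunc k) ≠ 0 := RatFunc.X_ne_zero
  rw [u₂, map_zero, sub_zero]
  field_simp
  ring

lemma v_u₁_self (hlt : p.1 ((RatFunc.X : RatFunc k) - RatFunc.C α) < 1) (a : I₁ B d)
    (ha : (a.1.1 : k) = α) : p.1 (u₁ a) = exp ((a.1.2 : ℤ) + 1) := by
  rw [u₁, map_pow, ha, v_inv_sub_C_self p hlt, ← exp_nsmul]
  congr 1
  rw [nsmul_eq_mul]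
  push_cast
  ring

lemma v_u₁_of_ne (hlt : p.1 ((RatFunc.X : RatFunc k) - RatFunc.C α) < 1) (a : I₁ B d)
    (ha : (a.1.1 : k) ≠ α) : p.1 (u₁ a) = 1 := by
  rw [u₁, map_pow, v_inv_sub_C_of_ne p hlt ha, one_pow]

lemma v_u₂_le (hlt : p.1 ((RatFunc.X : RatFunc k) - RatFunc.C α) < 1) (b : I₂ B) :
    p.1 (u₂ b) ≤ exp 1 := by
  rw [u₂_eq]
  exact Valuation.map_sub_le _ (v_inv_sub_C_le p hlt _) (v_inv_sub_C_le p hlt _)

lemma v_u₂_self (hlt : p.1 ((RatFunc.X : RatFunc k) - RatFunc.C α) < 1) (b : I₂ B)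
    (hb : (b.1 : k) = α) : p.1 (u₂ b) = exp 1 := by
  have h0 : (0 : k) ≠ α := by rw [← hb]; exact b.2.symm
  rw [u₂_eq, hb, Valuation.map_sub_eq_of_lt_left, v_inv_sub_C_self p hlt]
  rw [v_inv_sub_C_self p hlt, v_inv_sub_C_of_ne p hlt h0, ← exp_zero, exp_lt_exp]
  norm_num

lemma v_u₂_of_ne (hlt : p.1 ((RatFunc.X : RatFunc k) - RatFunc.C α) < 1) (hα : α ≠ 0) (b : I₂ B)
    (hb : (b.1 : k) ≠ α) : p.1 (u₂ b) ≤ 1 := by
  rw [u₂_eq]
  exact Valuation.map_sub_le _ (v_inv_sub_C_of_ne p hlt hb).le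
    (v_inv_sub_C_of_ne p hlt hα.symm).le

variable (B d) in
/-- the first index type is a finite sigma type -/
def equivI₁ : I₁ B d ≃ Σ α : ↥B, Fin ((d (α : k) - 1) / 2) where
  toFun a := ⟨a.1.1, ⟨a.1.2 - 1, by have := a.2; omega⟩⟩
  invFun s := ⟨(s.1, s.2.1 + 1), by have := s.2.2; constructor <;> simp only <;> omega⟩
  left_inv a := by
    apply Subtype.ext
    apply Prod.ext
    · rfl
    · have := a.2.1
      simp only
      omega
  right_inv s := by
    rcases s with ⟨α, j, hj⟩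
    simp

noncomputable instance : Fintype (I₁ B d) := Fintype.ofEquiv _ (equivI₁ B d).symm

noncomputable instance : Fintype (I₂ B) := by classical exact inferInstance

lemma card_I₁ : Fintype.card (I₁ B d) = ∑ α ∈ B, (d α - 1) / 2 := by
  rw [Fintype.card_congr (equivI₁ B d), Fintype.card_sigma]
  simp only [Fintype.card_fin]
  exact Finset.sum_coe_sort B (fun α => (d α - 1) / 2)

lemma card_I₂ (h0 : (0 : k) ∈ B) : Fintype.card (I₂ B) + 1 = B.card := by
  classical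
  have h1 : Fintype.card {b : ↥B // (b : k) = 0} = 1 := by
    rw [Fintype.card_eq_one_iff]
    refine ⟨⟨⟨0, h0⟩, rfl⟩, fun b => ?_⟩
    apply Subtype.ext
    apply Subtype.ext
    exact b.2
  have h2 := Fintype.card_subtype_compl (fun b : ↥B => (b : k) = 0)
  rw [h1, Fintype.card_coe] at h2
  have h3 : Fintype.card (I₂ B) = Fintype.card {b : ↥B // ¬ (b : k) = 0} :=
    Fintype.card_congr (Equiv.refl _)
  have h4 : 1 ≤ B.card := Finset.card_pos.2 ⟨0, h0⟩
  omega

/-- the partial fractions are linearly independent -/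
theorem linearIndependent_u :
    LinearIndependent k (Sum.elim (u₁ (B := B) (d := d)) (u₂ (B := B))) := by
  classical
  rw [Fintype.linearIndependent_iff]
  intro g hsum
  rw [Fintype.sum_sum_type] at hsum
  simp only [Sum.elim_inl, Sum.elim_inr] at hsum
  -- step 1
  have hstep1 : ∀ a : I₁ B d, g (Sum.inl a) = 0 := by
    by_contra hcon
    push_neg at hcon
    set S : Finset (I₁ B d) := Finset.univ.filter (fun a => g (Sum.inl a) ≠ 0) with hS
    have hSne : S.Nonempty := by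
      obtain ⟨a, ha⟩ := hcon
      exact ⟨a, by rw [hS, Finset.mem_filter]; exact ⟨Finset.mem_univ _, ha⟩⟩
    obtain ⟨a₀, ha₀S, hmax⟩ := Finset.exists_max_image S (fun a => a.1.2) hSne
    have hga₀ : g (Sum.inl a₀) ≠ 0 := (Finset.mem_filter.1 ha₀S).2
    obtain ⟨p, hlt⟩ := exists_place_at (a₀.1.1 : k)
    have hv₀ : p.1 (g (Sum.inl a₀) • u₁ a₀) = exp ((a₀.1.2 : ℤ) + 1) := by
      rw [p.v_smul _ _ hga₀, v_u₁_self p hlt a₀ rfl]
    have hfirst : p.1 (∑ a : I₁ B d, g (Sum.inl a) • u₁ a) = exp ((a₀.1.2 : ℤ) + 1) := by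
      rw [← hv₀]
      apply v_sum_eq_of_dominant p.1 Finset.univ (fun a => g (Sum.inl a) • u₁ a)
        (Finset.mem_univ a₀)
      · rw [hv₀]; exact exp_ne_zero
      · intro a _ hne
        rw [hv₀]
        rcases eq_or_ne (g (Sum.inl a)) 0 with hz | hnz
        · rw [hz, zero_smul, map_zero]; exact exp_pos
        rw [p.v_smul _ _ hnz]
        have haS : a ∈ S := by rw [hS, Finset.mem_filter]; exact ⟨Finset.mem_univ _, hnz⟩
        have hle : a.1.2 ≤ a₀.1.2 := hmax a haS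
        rcases eq_or_ne (a.1.1 : k) (a₀.1.1 : k) with hα | hα
        · rw [v_u₁_self p hlt a hα, exp_lt_exp]
          have hne2 : a.1.2 ≠ a₀.1.2 := by
            intro h2
            apply hne
            apply Subtype.ext
            apply Prod.ext
            · exact Subtype.ext hα
            · exact h2
          have : (a.1.2 : ℤ) < a₀.1.2 := by exact_mod_cast lt_of_le_of_ne hle hne2
          linarith
        · rw [v_u₁_of_ne p hlt a hα, ← exp_zero, exp_lt_exp]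
          positivity
    have hsecond : p.1 (∑ b : I₂ B, g (Sum.inr b) • u₂ b) < exp ((a₀.1.2 : ℤ) + 1) := by
      refine lt_of_le_of_lt (Valuation.map_sum_le _ (g := exp 1) (fun b _ => ?_)) ?_
      · exact (p.v_smul_le _ _).trans (v_u₂_le p hlt b)
      · rw [exp_lt_exp]
        have : (1 : ℤ) ≤ a₀.1.2 := by exact_mod_cast a₀.2.1
        linarith
    have htot : p.1 (∑ a : I₁ B d, g (Sum.inl a) • u₁ a + ∑ b : I₂ B, g (Sum.inr b) • u₂ b) =
        p.1 (∑ a : I₁ B d, g (Sum.inl a) • u₁ a) :=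
      Valuation.map_add_eq_of_lt_left p.1 (by rw [hfirst]; exact hsecond)
    rw [hsum, map_zero, hfirst] at htot
    exact exp_ne_zero htot.symm
  -- step 2
  have hstep2 : ∀ b : I₂ B, g (Sum.inr b) = 0 := by
    by_contra hcon
    push_neg at hcon
    obtain ⟨b₀, hb₀⟩ := hcon
    have hz : ∑ a : I₁ B d, g (Sum.inl a) • u₁ a = 0 :=
      Finset.sum_eq_zero (fun a _ => by rw [hstep1 a, zero_smul])
    rw [hz, zero_add] at hsum
    obtain ⟨p, hlt⟩ := exists_place_at (b₀.1 : k)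
    have hv₀ : p.1 (g (Sum.inr b₀) • u₂ b₀) = exp 1 := by
      rw [p.v_smul _ _ hb₀, v_u₂_self p hlt b₀ rfl]
    have htot : p.1 (∑ b : I₂ B, g (Sum.inr b) • u₂ b) = exp 1 := by
      rw [← hv₀]
      apply v_sum_eq_of_dominant p.1 Finset.univ (fun b => g (Sum.inr b) • u₂ b)
        (Finset.mem_univ b₀)
      · rw [hv₀]; exact exp_ne_zero
      · intro b _ hne
        rw [hv₀]
        refine lt_of_le_of_lt ((p.v_smul_le _ _).trans (v_u₂_of_ne p hlt b₀.2 b ?_)) ?_
        · intro h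
          exact hne (Subtype.ext (Subtype.ext h))
        · rw [← exp_zero, exp_lt_exp]; norm_num
    rw [hsum, map_zero] at htot
    exact exp_ne_zero htot.symm
  intro i
  rcases i with a | b
  · exact hstep1 a
  · exact hstep2 b

end pf

end Groth.Agent.H7.AE
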