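import Groth.Agent.Lib.Helper7.AE4

/-! Regular differentials of an Artin–Schreier double cover in partial fractions (helper7). -/

set_option autoImplicit false
set_option linter.unusedSectionVars false

universe u v w

namespace Groth.Agent.H7.AE

open FunFld LocRes WithZero Polynomial
open Groth.Agent.H7.RF

section span

variable {k : Type u} [Field k]

local notation "φ₀" => algebraMap k[X] (RatFunc k)

/-- `a ↦ a / q` -/
noncomputable def divMap (q : k[X]) : k[X] →ₗ[k] RatFunc k where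
  toFun a := φ₀ a / φ₀ q
  map_add' a b := by rw [map_add, add_div]
  map_smul' c a := by
    rw [RingHom.id_apply, Algebra.smul_def, map_mul, mul_div_assoc, ← IsScalarTower.algebraMap_apply,
      ← Algebra.smul_def]

lemma divMap_apply (q a : k[X]) : divMap q a = φ₀ a / φ₀ q := rfl

lemma divMap_injective {q : k[X]} (hq : q ≠ 0) : Function.Injective (divMap q) := by
  intro a b hab
  rw [divMap_apply, divMap_apply, div_left_inj' (RatFunc.algebraMap_ne_zero hq)] at hab
  exact RatFunc.algebraMap_injective k hab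

lemma finrank_map_divMap {q : k[X]} (hq : q ≠ 0) (g : ℕ) :
    Module.finrank k ((degreeLT k g).map (divMap q)) = g := by
  rw [← LinearEquiv.finrank_eq (Submodule.equivMapOfInjective (divMap q) (divMap_injective hq)
    (degreeLT k g)), LinearEquiv.finrank_eq (degreeLTEquiv k g), Module.finrank_fin_fun]

variable {B : Finset k} {d : k → ℕ}

lemma mB_ge (hd : ∀ β ∈ B, Odd (d β)) {α : k} (hα : α ∈ B) {j : ℕ} (hj : 2 * j + 1 ≤ d α) :
    j + 1 ≤ mB d α := by
  rw [mB]; omega

lemma u₁_mem (hd : ∀ β ∈ B, Odd (d β)) {g : ℕ} (hg : g + 1 = (qB B (mB d)).natDegree)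
    (a : I₁ B d) : u₁ a ∈ (degreeLT k g).map (divMap (qB B (mB d))) := by
  classical
  have hj := mB_ge hd a.1.1.2 a.2.2
  refine ⟨aB B (mB d) (a.1.1 : k) a.1.2, ?_, ?_⟩
  · have h1 := natDegree_aB (mB d) a.1.1.2 hj
    have h2 := a.2.1
    rw [SetLike.mem_coe, mem_degreeLT, degree_eq_natDegree (monic_aB (mB d) _ _).ne_zero]
    exact_mod_cast (by omega : (aB B (mB d) (a.1.1 : k) a.1.2).natDegree < g)
  · rw [divMap_apply, aB_div (mB d) a.1.1.2 hj, u₁]

lemma u₂_mem (hd : ∀ β ∈ B, Odd (d β)) (h0 : (0 : k) ∈ B) {g : ℕ}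
    (hg : g + 1 = (qB B (mB d)).natDegree)
    (b : I₂ B) : u₂ b ∈ (degreeLT k g).map (divMap (qB B (mB d))) := by
  classical
  have hjb : 0 + 1 ≤ mB d (b.1 : k) := mB_ge hd b.1.2 (by have := (hd _ b.1.2).pos; omega)
  have hj0 : 0 + 1 ≤ mB d (0 : k) := mB_ge hd h0 (by have := (hd _ h0).pos; omega)
  refine ⟨aB B (mB d) (b.1 : k) 0 - aB B (mB d) 0 0, ?_, ?_⟩
  · have h1 := natDegree_aB (mB d) b.1.2 hjb
    have h2 := natDegree_aB (mB d) h0 hj0
    have hm1 := monic_aB (B := B) (mB d) (b.1 : k) 0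
    have hm2 := monic_aB (B := B) (mB d) (0 : k) 0
    have hd1 : (aB B (mB d) (b.1 : k) 0).degree = (g : WithBot ℕ) := by
      rw [degree_eq_natDegree hm1.ne_zero]
      exact_mod_cast (by omega : (aB B (mB d) (b.1 : k) 0).natDegree = g)
    have hd2 : (aB B (mB d) (0 : k) 0).degree = (g : WithBot ℕ) := by
      rw [degree_eq_natDegree hm2.ne_zero]
      exact_mod_cast (by omega : (aB B (mB d) (0 : k) 0).natDegree = g)
    rw [SetLike.mem_coe, mem_degreeLT, ← hd1]
    exact degree_sub_lt (by rw [hd1, hd2]) hm1.ne_zero (by rw [hm1.leadingCoeff, hm2.leadingCoeff])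
  · rw [map_sub, divMap_apply, divMap_apply, aB_div (mB d) b.1.2 hjb, aB_div (mB d) h0 hj0,
      u₂_eq, zero_add, pow_one, pow_one]

lemma card_index (hd : ∀ β ∈ B, Odd (d β)) (h0 : (0 : k) ∈ B) {g : ℕ}
    (hg : g + 1 = (qB B (mB d)).natDegree) :
    Fintype.card (I₁ B d ⊕ I₂ B) = g := by
  have h1 : ∑ α ∈ B, mB d α = ∑ α ∈ B, (d α - 1) / 2 + B.card := by
    rw [Finset.card_eq_sum_ones, ← Finset.sum_add_distrib]
    refine Finset.sum_congr rfl (fun α hα => ?_)
    obtain ⟨c, hc⟩ := hd α hα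
    rw [mB, hc]
    omega
  rw [natDegree_qB, h1] at hg
  have h2 := card_I₂ h0
  rw [Fintype.card_sum, card_I₁]
  omega

/-- the partial fractions span the space of `a/q`, `deg a < g` -/
theorem span_u (hd : ∀ β ∈ B, Odd (d β)) (h0 : (0 : k) ∈ B) {g : ℕ}
    (hg : g + 1 = (qB B (mB d)).natDegree) :
    Submodule.span k (Set.range (Sum.elim (u₁ (B := B) (d := d)) (u₂ (B := B)))) =
      (degreeLT k g).map (divMap (qB B (mB d))) := by
  have hq0 := qB_ne_zero B (mB d)
  haveI : Module.Finite k (degreeLT k g) := Module.Finite.equiv (degreeLTEquiv k g).symm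
  haveI : FiniteDimensional k ((degreeLT k g).map (divMap (qB B (mB d)))) :=
    Module.Finite.map _ _
  apply Submodule.eq_of_le_of_finrank_eq
  · rw [Submodule.span_le]
    rintro _ ⟨i, rfl⟩
    rcases i with a | b
    · exact u₁_mem hd hg a
    · exact u₂_mem hd h0 hg b
  · rw [finrank_span_eq_card linearIndependent_u, card_index hd h0 hg, finrank_map_divMap hq0]

end span

section main

variable {k : Type u} {K : Type v} [Field k] [Field K] [Algebra k K] [Algebra (RatFunc k) K]
  [IsScalarTower k (RatFunc k) K]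

local notation "φ₀" => algebraMap k[X] (RatFunc k)
local notation "ι" => algebraMap (RatFunc k) K

variable {B : Finset k} {d : k → ℕ}

/-- regular differentials in partial fractions -/
theorem regular_partial_fractions [PerfectField k] [CharP k 2] (hK : IsFunctionField k K)
    (hdeg : Module.finrank (RatFunc k) K = 2) {y : K} (hy : y ∉ Set.range ι) {f : RatFunc k}
    (heq : y ^ 2 + y = ι f) (h0 : (0 : k) ∈ B) (hd : ∀ β ∈ B, Odd (d β))
    (hpole : ∀ (p : Place k (RatFunc k)) (β : k), β ∈ B →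
      p.1 ((RatFunc.X : RatFunc k) - RatFunc.C β) < 1 → p.ord f = -(d β : ℤ))
    (hint : ∀ p : Place k (RatFunc k),
      (∀ β ∈ B, 1 ≤ p.1 ((RatFunc.X : RatFunc k) - RatFunc.C β)) → p.1 f ≤ 1)
    (F : Place k K → Type w) [∀ P, Field (F P)] [∀ P, Algebra k (F P)]
    (φ : ∀ P, K →ₐ[k] LaurentSeries (F P)) (hφ : ∀ P, IsExpansionAt P.1 (φ P)) :
    (∀ i P, vDiff (φ P) (ι (Sum.elim (u₁ (B := B) (d := d)) (u₂ (B := B)) i))
      (ι RatFunc.X) ≤ 1) ∧
    LinearIndependent k (fun i => ι (Sum.elim (u₁ (B := B) (d := d)) (u₂ (B := B)) i)) ∧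
    ∀ z : K, (∀ P, vDiff (φ P) z (ι RatFunc.X) ≤ 1) →
      z ∈ Submodule.span k (Set.range
        (fun i => ι (Sum.elim (u₁ (B := B) (d := d)) (u₂ (B := B)) i))) := by
  have h2 : ringChar k = 2 := ringChar.eq k 2
  have hodd := hodd_of hd hpole hint
  have hq := hq_of hd hpole hint
  have hfinf := hfinf_of hint
  have hq0 := qB_ne_zero B (mB d)
  have hg : genus k K + 1 = (qB B (mB d)).natDegree :=
    as_genus_add_one hdeg hK h2 hy heq hodd hq0 hq hfinf
  have hspan := span_u hd h0 hg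
  set ιₗ : RatFunc k →ₗ[k] K := (IsScalarTower.toAlgHom k (RatFunc k) K).toLinearMap with hιₗ
  have hιₗ_apply : ∀ t, ιₗ t = ι t := fun t => rfl
  have hmem : ∀ i, Sum.elim (u₁ (B := B) (d := d)) (u₂ (B := B)) i ∈
      (degreeLT k (genus k K)).map (divMap (qB B (mB d))) := by
    intro i
    rw [← hspan]
    exact Submodule.subset_span ⟨i, rfl⟩
  refine ⟨?_, ?_, ?_⟩
  · intro i P
    obtain ⟨a, ha, hai⟩ := hmem i
    rw [← hai, divMap_apply]
    exact as_regular_of_degree_lt hdeg hK h2 hy heq hodd hq0 hq (hφ P) (mem_degreeLT.1 ha)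
  · have := (linearIndependent_u (B := B) (d := d)).map' ιₗ
      (LinearMap.ker_eq_bot.2 (algebraMap (RatFunc k) K).injective)
    exact this
  · intro z hz
    obtain ⟨a, ha, rfl⟩ :=
      AD.as_exists_poly_of_regular hdeg hK h2 hy heq hodd hq0 hq F φ hφ hz
    have h1 : divMap (qB B (mB d)) a ∈
        Submodule.span k (Set.range (Sum.elim (u₁ (B := B) (d := d)) (u₂ (B := B)))) := by
      rw [hspan]
      exact ⟨a, mem_degreeLT.2 ha, rfl⟩
    have h3 := Submodule.mem_map_of_mem (f := ιₗ) h1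
    rw [Submodule.map_span, ← Set.range_comp] at h3
    exact h3

end main

end Groth.Agent.H7.AE
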