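import Groth.Agent.Lib.Helper7.AE5
import Groth.Agent.Lib.Helper5.FunFld.Adele2
import Groth.Agent.Lib.Helper5.FunFld.StrongApprox

/-! Repartitions: genus zero, principal parts on the line, lifting to a double cover (helper7). -/

set_option autoImplicit false
set_option linter.unusedSectionVars false

universe u v w

namespace Groth.Agent.H7.AF

open FunFld WithZero Polynomial
open Groth.Agent.H7.RF Groth.Agent.H7.AE

section general

variable {k : Type u} {K : Type v} [Field k] [Field K] [Algebra k K]

lemma single_mem_adele [DecidableEq (Place k K)] (P : Place k K) (x : K) :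
    (Pi.single P x : Place k K → K) ∈ adele k K := by
  refine mem_adele_of_finite_support {P} (fun Q hQ => ?_)
  rw [Finset.mem_singleton] at hQ
  rw [Pi.single_apply, if_neg hQ]

lemma W_le_adele (hK : IsFunctionField k K) :
    AD (0 : Divisor k K) ⊔ LinearMap.range (diag k K) ≤ adele k K :=
  sup_le (AD_le_adele 0) (range_diag_le_adele hK)

/-- `dim A/(A(0)+K) = g` -/
theorem finrank_adele_quot (hK : IsFunctionField k K) :
    FiniteDimensional k (↥(adele k K) ⧸ ADK (0 : Divisor k K)) ∧
      Module.finrank k (↥(adele k K) ⧸ ADK (0 : Divisor k K)) = genus k K := by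
  obtain ⟨hfin, hrank⟩ := relQ_adele hK (0 : Divisor k K)
  refine ⟨hfin, ?_⟩
  rw [ell_zero hK, Divisor.deg_zero] at hrank
  have : (Module.finrank k (↥(adele k K) ⧸ ADK (0 : Divisor k K)) : ℤ) = genus k K := by
    rw [hrank]; push_cast; ring
  exact_mod_cast this

/-- in genus zero every repartition is integral up to a function -/
theorem adele_le_W_of_genus_zero (hK : IsFunctionField k K) (hg : genus k K = 0)
    {a : Place k K → K} (ha : a ∈ adele k K) :
    a ∈ AD (0 : Divisor k K) ⊔ LinearMap.range (diag k K) := by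
  obtain ⟨hfin, hrank⟩ := finrank_adele_quot hK
  rw [hg] at hrank
  have := hfin
  have : Subsingleton (↥(adele k K) ⧸ ADK (0 : Divisor k K)) := Module.finrank_zero_iff.1 hrank
  have h1 : (Submodule.Quotient.mk (⟨a, ha⟩ : adele k K) :
      ↥(adele k K) ⧸ ADK (0 : Divisor k K)) = 0 := Subsingleton.elim _ _
  rw [Submodule.Quotient.mk_eq_zero] at h1
  exact h1

end general

section line

variable {k : Type u} [Field k]

/-- principal part at a place of the line -/
theorem exists_principal_part (p : Place k (RatFunc k)) (h : RatFunc k) :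
    ∃ h₁ : RatFunc k, p.1 (h - h₁) ≤ 1 ∧ ∀ p' : Place k (RatFunc k), p' ≠ p → p'.1 h₁ ≤ 1 := by
  classical
  have hF := isFunctionField (k := k)
  have hg0 : genus k (RatFunc k) = 0 := genus_eq_zero_of_adjoin_eq_top hF RatFunc.adjoin_X
  have hmem := adele_le_W_of_genus_zero hF hg0 (single_mem_adele p h)
  obtain ⟨a₀, ha₀, b, ⟨h₁, rfl⟩, hab⟩ := Submodule.mem_sup.1 hmem
  refine ⟨h₁, ?_, ?_⟩
  · have h1 := congrFun hab p
    rw [Pi.add_apply, diag_apply, Pi.single_eq_same] at h1
    have h2 := ha₀ p
    rw [← h1, add_sub_cancel_right]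
    simpa using h2
  · intro p' hne
    have h1 := congrFun hab p'
    rw [Pi.add_apply, diag_apply, Pi.single_apply, if_neg hne] at h1
    have h3 : h₁ = - a₀ p' := by linear_combination h1
    rw [h3, Valuation.map_neg]
    simpa using ha₀ p'

end line

section cover

variable {k : Type u} {K : Type v} [Field k] [Field K] [Algebra k K] [Algebra (RatFunc k) K]
  [IsScalarTower k (RatFunc k) K]

local notation "ι" => algebraMap (RatFunc k) K

/-- a repartition supported at the only place above a place of the line, with value in `k(x)`,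
is integral up to a function -/
theorem single_ι_mem_W [DecidableEq (Place k K)] [FiniteDimensional (RatFunc k) K]
    {P : Place k K} {p₀ : Place k (RatFunc k)}
    (hP : IsOver P p₀) (huniq : ∀ Q : Place k K, IsOver Q p₀ → Q = P) (h : RatFunc k) :
    (Pi.single P (ι h) : Place k K → K) ∈
      AD (0 : Divisor k K) ⊔ LinearMap.range (diag k K) := by
  obtain ⟨h₁, hh₁, hother⟩ := exists_principal_part p₀ h
  obtain ⟨e, he⟩ := hP
  rw [Submodule.mem_sup]
  refine ⟨fun Q => if Q = P then ι (h - h₁) else -(ι h₁), ?_, diag k K (ι h₁), ⟨_, rfl⟩, ?_⟩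
  · intro Q
    rw [Finsupp.zero_apply, exp_zero]
    beta_reduce
    by_cases hQ : Q = P
    · subst hQ
      rw [if_pos rfl, he.v_le_one_iff]
      exact hh₁
    · rw [if_neg hQ, Valuation.map_neg]
      obtain ⟨p', e', he'⟩ := exists_isOverWith (isFunctionField (k := k)).isFF1 Q
      have hne : p' ≠ p₀ := by
        rintro rfl
        exact hQ (huniq Q ⟨e', he'⟩)
      rw [he'.v_le_one_iff]
      exact hother p' hne
  · funext Q
    rw [Pi.add_apply, diag_apply, Pi.single_apply]
    beta_reduce
    by_cases hQ : Q = P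
    · rw [if_pos hQ, if_pos hQ, map_sub]; ring
    · rw [if_neg hQ, if_neg hQ]; ring

end cover

end Groth.Agent.H7.AF
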