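import Groth.Agent.Lib.Helper7.AF1

/-! Repartition classes of an Artin–Schreier double cover: independence (helper7). -/

set_option autoImplicit false
set_option linter.unusedSectionVars false

universe u v w

namespace Groth.Agent.H7.AF

open FunFld WithZero Polynomial
open Groth.Agent.H7.RF Groth.Agent.H7.AE

section line

variable {k : Type u} [Field k]

local notation "φ₀" => algebraMap k[X] (RatFunc k)

/-- a finite place of the line is determined by its center -/
theorem eq_of_center {p p' : Place k (RatFunc k)} {q : k[X]} (hq : Irreducible q)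
    (hp : p.1 (φ₀ q) < 1) (hp' : p'.1 (φ₀ q) < 1) : p = p' := by
  have hX := v_X_le_one_of_lt p hq.ne_zero hp
  have hX' := v_X_le_one_of_lt p' hq.ne_zero hp'
  apply Place.eq_of_O_le
  intro t ht
  rcases eq_or_ne t 0 with rfl | ht0
  · rw [map_zero]; exact zero_le_one
  have hnum : t.num ≠ 0 := RatFunc.num_ne_zero ht0
  have hden : t.denom ≠ 0 := RatFunc.denom_ne_zero t
  have hndvd : ¬ q ∣ t.denom := by
    intro hdvd
    have hnn : ¬ q ∣ t.num := fun h =>
      hq.not_isUnit ((RatFunc.isCoprime_num_denom t).isUnit_of_dvd' h hdvd)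
    have h1 : p.1 (φ₀ t.num) = 1 := v_poly_eq_one_of_not_dvd p hX hq hp hnn
    have h2 : p.1 (φ₀ t.denom) < 1 := v_lt_of_dvd p hX hdvd hp
    rw [← RatFunc.num_div_denom t, map_div₀, h1] at ht
    have h3 : p.1 (φ₀ t.denom) ≠ 0 := (Valuation.ne_zero_iff _).2 (RatFunc.algebraMap_ne_zero hden)
    rw [div_le_iff₀ (zero_lt_iff.2 h3), one_mul] at ht
    exact absurd ht (not_le.2 h2)
  rw [← RatFunc.num_div_denom t, map_div₀, v_poly_eq_one_of_not_dvd p' hX' hq hp' hndvd, _root_.div_one]
  exact v_poly_le_one p' hX' _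

theorem eq_of_center_C {p p' : Place k (RatFunc k)} {α : k}
    (hp : p.1 ((RatFunc.X : RatFunc k) - RatFunc.C α) < 1)
    (hp' : p'.1 ((RatFunc.X : RatFunc k) - RatFunc.C α) < 1) : p = p' := by
  rw [sub_C_eq] at hp hp'
  exact eq_of_center (irreducible_X_sub_C α) hp hp'

end line

section cover

variable {k : Type u} {K : Type v} [Field k] [Field K] [Algebra k K] [Algebra (RatFunc k) K]
  [IsScalarTower k (RatFunc k) K]

local notation "φ₀" => algebraMap k[X] (RatFunc k)
local notation "ι" => algebraMap (RatFunc k) K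

variable {B : Finset k} {d : k → ℕ} {y : K} {f : RatFunc k}

/-- the places `Pl α` -/
theorem Pl_data (hdeg : Module.finrank (RatFunc k) K = 2) (heq : y ^ 2 + y = ι f)
    (hd : ∀ β ∈ B, Odd (d β))
    (hpole : ∀ (p : Place k (RatFunc k)) (β : k), β ∈ B →
      p.1 ((RatFunc.X : RatFunc k) - RatFunc.C β) < 1 → p.ord f = -(d β : ℤ))
    {Pl : k → Place k K} (hPl : ∀ β ∈ B, (Pl β).1 (ι RatFunc.X - algebraMap k K β) < 1)
    {α : k} (hα : α ∈ B) :
    ∃ p : Place k (RatFunc k), IsOverWith (Pl α) p 2 ∧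
      p.1 ((RatFunc.X : RatFunc k) - RatFunc.C α) < 1 ∧
      (∀ Q : Place k K, IsOver Q p → Q = Pl α) ∧ y ≠ 0 ∧ (Pl α).ord y = -(d α : ℤ) := by
  haveI := QL.finiteDimensional_of_finrank hdeg
  have hF := isFunctionField (k := k)
  obtain ⟨p₀, e, he⟩ := exists_isOverWith hF.isFF1 (Pl α)
  have hlt : p₀.1 ((RatFunc.X : RatFunc k) - RatFunc.C α) < 1 := by
    have h1 := hPl α hα
    rwa [ι_sub, he.v_lt_one_iff] at h1
  obtain ⟨he2, hy0, hyo, -, -⟩ := data_above hdeg heq hd hpole he hα hlt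
  subst he2
  exact ⟨p₀, he, hlt,
    (QL.unique_of_ramIdx_eq hF ⟨2, he⟩ (by rw [he.ramIdx_eq, hdeg])).2, hy0, hyo⟩

/-- a place above `x = α` is `Pl α` -/
theorem eq_Pl_of_lt (hdeg : Module.finrank (RatFunc k) K = 2) (heq : y ^ 2 + y = ι f)
    (hd : ∀ β ∈ B, Odd (d β))
    (hpole : ∀ (p : Place k (RatFunc k)) (β : k), β ∈ B →
      p.1 ((RatFunc.X : RatFunc k) - RatFunc.C β) < 1 → p.ord f = -(d β : ℤ))
    {Pl : k → Place k K} (hPl : ∀ β ∈ B, (Pl β).1 (ι RatFunc.X - algebraMap k K β) < 1)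
    {α : k} (hα : α ∈ B) {Q : Place k K} (hQ : Q.1 (ι RatFunc.X - algebraMap k K α) < 1) :
    Q = Pl α := by
  haveI := QL.finiteDimensional_of_finrank hdeg
  have hF := isFunctionField (k := k)
  obtain ⟨p, he, hlt, huniq, -, -⟩ := Pl_data hdeg heq hd hpole hPl hα
  obtain ⟨p', e', he'⟩ := exists_isOverWith hF.isFF1 Q
  have hlt' : p'.1 ((RatFunc.X : RatFunc k) - RatFunc.C α) < 1 := by
    rwa [ι_sub, he'.v_lt_one_iff] at hQ
  have hpp : p' = p := eq_of_center_C hlt' hlt
  subst hpp
  exact huniq Q ⟨e', he'⟩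

omit [IsScalarTower k (RatFunc k) K] in
theorem Pl_injective
    {Pl : k → Place k K} (hPl : ∀ β ∈ B, (Pl β).1 (ι RatFunc.X - algebraMap k K β) < 1)
    {α β : k} (hα : α ∈ B) (hβ : β ∈ B) (h : Pl α = Pl β) : α = β := by
  by_contra hne
  have h1 := hPl α hα
  have h2 := hPl β hβ
  rw [h] at h1
  have h3 : algebraMap k K (α - β) = (ι RatFunc.X - algebraMap k K β) -
      (ι RatFunc.X - algebraMap k K α) := by
    rw [map_sub]; ring
  have h4 : (Pl β).1 (algebraMap k K (α - β)) = 1 := (Pl β).v_algebraMap (sub_ne_zero.2 hne)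
  have h5 : (Pl β).1 (algebraMap k K (α - β)) < 1 := by
    rw [h3]
    exact lt_of_le_of_lt (Valuation.map_sub _ _ _) (max_lt h2 h1)
  rw [h4] at h5
  exact lt_irrefl _ h5

variable [DecidableEq (Place k K)]

variable (B d) in
/-- the family of repartitions -/
noncomputable def fam (Pl : k → Place k K) (y : K) : I₁ B d ⊕ I₂ B → (Place k K → K) :=
  Sum.elim
    (fun a => Pi.single (Pl (a.1.1 : k)) (y * (ι RatFunc.X - algebraMap k K (a.1.1 : k)) ^ a.1.2))
    (fun b => Pi.single (Pl (b.1 : k)) y)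

open scoped Classical in
/-- the coefficient of `y` of the component at `Pl α` -/
noncomputable def sα (g : I₁ B d ⊕ I₂ B → k) (α : k) : RatFunc k :=
  ∑ a : I₁ B d, (if (a.1.1 : k) = α then
      g (Sum.inl a) • ((RatFunc.X : RatFunc k) - RatFunc.C α) ^ a.1.2 else 0) +
    ∑ b : I₂ B, (if (b.1 : k) = α then RatFunc.C (g (Sum.inr b)) else 0)

open scoped Classical in
theorem sum_fam_apply_Pl
    {Pl : k → Place k K} (hPl : ∀ β ∈ B, (Pl β).1 (ι RatFunc.X - algebraMap k K β) < 1)
    (g : I₁ B d ⊕ I₂ B → k) {α : k} (hα : α ∈ B) :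
    (∑ i, g i • fam B d Pl y i) (Pl α) = ι (sα g α) * y := by
  rw [Finset.sum_apply, Fintype.sum_sum_type, sα, map_add, map_sum, map_sum, add_mul,
    Finset.sum_mul, Finset.sum_mul]
  congr 1
  · refine Finset.sum_congr rfl (fun a _ => ?_)
    rw [Pi.smul_apply, fam, Sum.elim_inl, Pi.single_apply]
    by_cases h : (a.1.1 : k) = α
    · rw [if_pos (by rw [h]), if_pos h, h, ι_sub, Algebra.smul_def, Algebra.smul_def, map_mul,
        map_pow, ← IsScalarTower.algebraMap_apply]
      ring
    · rw [if_neg (fun h' => h (Pl_injective hPl hα a.1.1.2 h').symm), if_neg h, smul_zero,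
        map_zero, zero_mul]
  · refine Finset.sum_congr rfl (fun b _ => ?_)
    rw [Pi.smul_apply, fam, Sum.elim_inr, Pi.single_apply]
    by_cases h : (b.1 : k) = α
    · rw [if_pos (by rw [h]), if_pos h, Algebra.smul_def, ← RatFunc.algebraMap_eq_C,
        ← IsScalarTower.algebraMap_apply]
    · rw [if_neg (fun h' => h (Pl_injective hPl hα b.1.2 h').symm), if_neg h, smul_zero,
        map_zero, zero_mul]

theorem sum_fam_apply_other {Pl : k → Place k K}
    (g : I₁ B d ⊕ I₂ B → k) {Q : Place k K} (hQ : ∀ β ∈ B, Q ≠ Pl β) :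
    (∑ i, g i • fam B d Pl y i) Q = 0 := by
  rw [Finset.sum_apply]
  refine Finset.sum_eq_zero (fun i _ => ?_)
  rcases i with a | b
  · rw [Pi.smul_apply, fam, Sum.elim_inl, Pi.single_apply, if_neg (hQ _ a.1.1.2), smul_zero]
  · rw [Pi.smul_apply, fam, Sum.elim_inr, Pi.single_apply, if_neg (hQ _ b.1.2), smul_zero]

end cover

section coeffs

variable {k : Type u} [Field k] {B : Finset k} {d : k → ℕ}

open scoped Classical in
/-- the local condition at `x = α` forces the coefficients to vanish -/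
theorem sα_coeffs (p : Place k (RatFunc k)) {α : k}
    (hlt : p.1 ((RatFunc.X : RatFunc k) - RatFunc.C α) < 1) (g : I₁ B d ⊕ I₂ B → k) (c : k)
    {j' : ℕ} (hdα : d α = 2 * j' + 1)
    (hv : p.1 (sα g α - RatFunc.C c) ≤ exp (-((j' : ℤ) + 1))) :
    (∀ a : I₁ B d, (a.1.1 : k) = α → g (Sum.inl a) = 0) ∧
    (∀ b : I₂ B, (b.1 : k) = α → g (Sum.inr b) = c) ∧ (α = 0 → c = 0) := by
  set T : RatFunc k := ∑ a : I₁ B d, (if (a.1.1 : k) = α then
      g (Sum.inl a) • ((RatFunc.X : RatFunc k) - RatFunc.C α) ^ a.1.2 else 0) with hT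
  set c' : k := ∑ b : I₂ B, (if (b.1 : k) = α then g (Sum.inr b) else 0) with hc'
  have hs : sα g α - RatFunc.C c = T + RatFunc.C (c' - c) := by
    rw [sα, ← hT, hc', map_sub, map_sum]
    have : ∀ b : I₂ B, RatFunc.C (if (b.1 : k) = α then g (Sum.inr b) else 0) =
        if (b.1 : k) = α then RatFunc.C (g (Sum.inr b)) else (0 : RatFunc k) := by
      intro b
      split_ifs
      · rfl
      · rw [map_zero]
    simp only [this]
    ring
  have hvt : p.1 ((RatFunc.X : RatFunc k) - RatFunc.C α) = exp (-1 : ℤ) := by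
    rw [p.v_eq_exp_neg_ord (sub_C_ne_zero α), ord_sub_C_of_lt p hlt]
  have hterm : ∀ a : I₁ B d, (a.1.1 : k) = α → g (Sum.inl a) ≠ 0 →
      p.1 (g (Sum.inl a) • ((RatFunc.X : RatFunc k) - RatFunc.C α) ^ a.1.2) =
        exp (-(a.1.2 : ℤ)) := by
    intro a _ hga
    rw [p.v_smul _ _ hga, map_pow, hvt, ← exp_nsmul]
    congr 1
    rw [nsmul_eq_mul]
    ring
  have hTlt : p.1 T < 1 := by
    rw [hT]
    refine Valuation.map_sum_lt _ one_ne_zero (fun a _ => ?_)
    split_ifs with h
    · rcases eq_or_ne (g (Sum.inl a)) 0 with hz | hnz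
      · rw [hz, zero_smul, map_zero]; exact zero_lt_one
      · rw [hterm a h hnz, ← exp_zero, exp_lt_exp]
        have : (1 : ℤ) ≤ a.1.2 := by exact_mod_cast a.2.1
        linarith
    · rw [map_zero]; exact zero_lt_one
  have hcc : c' = c := by
    by_contra hne
    have h1 : p.1 (RatFunc.C (c' - c)) = 1 := v_C_eq p (sub_ne_zero.2 hne)
    have h2 : p.1 (T + RatFunc.C (c' - c)) = 1 := by
      rw [Valuation.map_add_eq_of_lt_right _ (by rw [h1]; exact hTlt), h1]
    rw [hs, h2, ← exp_zero, exp_le_exp] at hv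
    have : (0 : ℤ) ≤ j' := Nat.cast_nonneg _
    linarith
  rw [hs, hcc, sub_self, map_zero, add_zero] at hv
  refine ⟨?_, ?_, ?_⟩
  · by_contra hcon
    push_neg at hcon
    set S : Finset (I₁ B d) :=
      Finset.univ.filter (fun a => (a.1.1 : k) = α ∧ g (Sum.inl a) ≠ 0) with hS
    have hSne : S.Nonempty := by
      obtain ⟨a, ha, hga⟩ := hcon
      exact ⟨a, by rw [hS, Finset.mem_filter]; exact ⟨Finset.mem_univ _, ha, hga⟩⟩
    obtain ⟨a₀, ha₀S, hmin⟩ := Finset.exists_min_image S (fun a => a.1.2) hSne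
    obtain ⟨-, ha₀α, hga₀⟩ := Finset.mem_filter.1 ha₀S
    have hv₀ := hterm a₀ ha₀α hga₀
    have hTv : p.1 T = exp (-(a₀.1.2 : ℤ)) := by
      rw [← hv₀, hT]
      have := v_sum_eq_of_dominant p.1 Finset.univ (fun a : I₁ B d => (if (a.1.1 : k) = α then
        g (Sum.inl a) • ((RatFunc.X : RatFunc k) - RatFunc.C α) ^ a.1.2 else 0))
        (Finset.mem_univ a₀) (by
          beta_reduce
          rw [if_pos ha₀α, hv₀]; exact exp_ne_zero) (by
          intro a _ hne
          beta_reduce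
          rw [if_pos ha₀α, hv₀]
          split_ifs with h
          · rcases eq_or_ne (g (Sum.inl a)) 0 with hz | hnz
            · rw [hz, zero_smul, map_zero]; exact exp_pos
            · rw [hterm a h hnz, exp_lt_exp]
              have haS : a ∈ S := by
                rw [hS, Finset.mem_filter]; exact ⟨Finset.mem_univ _, h, hnz⟩
              have hle : a₀.1.2 ≤ a.1.2 := hmin a haS
              have hne2 : a₀.1.2 ≠ a.1.2 := by
                intro h2
                apply hne
                apply Subtype.ext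
                apply Prod.ext
                · exact Subtype.ext (h.trans ha₀α.symm)
                · exact h2.symm
              have : (a₀.1.2 : ℤ) < a.1.2 := by exact_mod_cast lt_of_le_of_ne hle hne2
              linarith
          · rw [map_zero]; exact exp_pos)
      beta_reduce at this
      rw [this, if_pos ha₀α]
    rw [hTv, exp_le_exp] at hv
    have h3 : 2 * a₀.1.2 + 1 ≤ d α := by rw [← ha₀α]; exact a₀.2.2
    have : (a₀.1.2 : ℤ) ≤ j' := by
      have : a₀.1.2 ≤ j' := by omega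
      exact_mod_cast this
    linarith
  · intro b hb
    rw [← hcc, hc']
    rw [Finset.sum_eq_single b]
    · rw [if_pos hb]
    · intro b' _ hne
      rw [if_neg]
      intro h
      exact hne (Subtype.ext (Subtype.ext (h.trans hb.symm)))
    · intro h
      exact absurd (Finset.mem_univ b) h
  · intro hα0
    rw [← hcc, hc']
    refine Finset.sum_eq_zero (fun b _ => ?_)
    rw [if_neg]
    rw [hα0]
    exact b.2

end coeffs

end Groth.Agent.H7.AF
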