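import Groth.Agent.Lib.Helper7.AF2

/-! Repartition classes of an Artin–Schreier double cover: the basis of `H¹` (helper7). -/

set_option autoImplicit false
set_option linter.unusedSectionVars false

universe u v w

namespace Groth.Agent.H7.AF

open FunFld WithZero Polynomial
open Groth.Agent.H7.RF Groth.Agent.H7.AE

section line

variable {k : Type u} [Field k] {B : Finset k} {d : k → ℕ}

open scoped Classical in
lemma v_sα_le (p : Place k (RatFunc k)) (hX : p.1 RatFunc.X ≤ 1) (g : I₁ B d ⊕ I₂ B → k)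
    (α : k) : p.1 (sα g α) ≤ 1 := by
  rw [sα]
  refine Valuation.map_add_le _ (Valuation.map_sum_le _ (fun a _ => ?_))
    (Valuation.map_sum_le _ (fun b _ => ?_))
  · split_ifs
    · refine (p.v_smul_le _ _).trans ?_
      rw [map_pow]
      exact pow_le_one' (v_sub_C_le p hX α) _
    · rw [map_zero]; exact zero_le_one
  · split_ifs
    · exact v_C_le p _
    · rw [map_zero]; exact zero_le_one

end line

section cover

variable {k : Type u} {K : Type v} [Field k] [Field K] [Algebra k K] [Algebra (RatFunc k) K]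
  [IsScalarTower k (RatFunc k) K]

local notation "φ₀" => algebraMap k[X] (RatFunc k)
local notation "ι" => algebraMap (RatFunc k) K

variable {B : Finset k} {d : k → ℕ} {y : K} {f : RatFunc k} [DecidableEq (Place k K)]

/-- the classes of the repartitions are independent modulo `A(0) + K` -/
theorem eq_zero_of_sum_mem_W [PerfectField k] [CharP k 2]
    (hdeg : Module.finrank (RatFunc k) K = 2) (hy : y ∉ Set.range ι) (heq : y ^ 2 + y = ι f)
    (h0 : (0 : k) ∈ B) (hd : ∀ β ∈ B, Odd (d β))
    (hpole : ∀ (p : Place k (RatFunc k)) (β : k), β ∈ B →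
      p.1 ((RatFunc.X : RatFunc k) - RatFunc.C β) < 1 → p.ord f = -(d β : ℤ))
    (hint : ∀ p : Place k (RatFunc k),
      (∀ β ∈ B, 1 ≤ p.1 ((RatFunc.X : RatFunc k) - RatFunc.C β)) → p.1 f ≤ 1)
    {Pl : k → Place k K} (hPl : ∀ β ∈ B, (Pl β).1 (ι RatFunc.X - algebraMap k K β) < 1)
    (g : I₁ B d ⊕ I₂ B → k)
    (hmem : ∑ i, g i • fam B d Pl y i ∈
      AD (0 : Divisor k K) ⊔ LinearMap.range (diag k K)) : ∀ i, g i = 0 := by
  haveI := QL.finiteDimensional_of_finrank hdeg
  have hF := isFunctionField (k := k)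
  have h2 : ringChar k = 2 := ringChar.eq k 2
  have hodd := hodd_of hd hpole hint
  have hq := hq_of hd hpole hint
  have hq0 := qB_ne_zero B (mB d)
  obtain ⟨Pinf, hinf⟩ := exists_pole (k := k)
  obtain ⟨A, hA, -, -⟩ := AD.exists_halfPole hodd hq0 hq hinf
  have hA_nonneg : ∀ p, 0 ≤ A p := by
    intro p
    rcases le_or_gt (p.1 f) 1 with h | h
    · rw [(hA p).2 h]
    · obtain ⟨j, -, hj⟩ := (hA p).1 h
      rw [hj]; positivity
  obtain ⟨a₀, ha₀, _, ⟨h, rfl⟩, hsum⟩ := Submodule.mem_sup.1 hmem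
  have hloc : ∀ Q : Place k K, Q.1 ((∑ i, g i • fam B d Pl y i) Q - h) ≤ 1 := by
    intro Q
    have h1 := ha₀ Q
    rw [← hsum, Pi.add_apply, diag_apply, add_sub_cancel_right]
    simpa using h1
  obtain ⟨a', b', hab⟩ := QL.exists_repr hdeg hy h
  -- `h ∈ L (conorm A)`
  have hhL : h ∈ L (conorm K A) := by
    rw [mem_L]
    intro Q
    obtain ⟨p, e, he⟩ := exists_isOverWith hF.isFF1 Q
    rw [conorm_apply hF.isFF1 _ he]
    by_cases hB : ∃ α ∈ B, p.1 ((RatFunc.X : RatFunc k) - RatFunc.C α) < 1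
    · obtain ⟨α, hα, hlt⟩ := hB
      have hQ : Q = Pl α := eq_Pl_of_lt hdeg heq hd hpole hPl hα
        (by rw [ι_sub, he.v_lt_one_iff]; exact hlt)
      have h1 := hloc Q
      rw [hQ, sum_fam_apply_Pl hPl g hα, ← hQ] at h1
      obtain ⟨he2, hy0, hyo, -, -⟩ := data_above hdeg heq hd hpole he hα hlt
      subst he2
      have hpl : 1 < p.1 f := pole_of_lt hd hpole p hα hlt
      obtain ⟨j', hj', hAj⟩ := (hA p).1 hpl
      have hdα : (d α : ℤ) = 2 * j' + 1 := by
        have := hpole p α hα hlt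
        rw [hj'] at this
        linarith
      have hX : p.1 RatFunc.X ≤ 1 := v_X_le_of_lt p hlt
      have h3 : Q.1 (ι (sα g α) * y) ≤ exp ((2 : ℕ) * A p) := by
        rw [map_mul, Q.v_eq_exp_neg_ord hy0, hyo, hAj]
        calc Q.1 (ι (sα g α)) * exp (-(-(d α : ℤ))) ≤ 1 * exp (-(-(d α : ℤ))) :=
              mul_le_mul' ((he.v_le_one_iff _).2 (v_sα_le p hX g α)) le_rfl
          _ = exp (-(-(d α : ℤ))) := one_mul _
          _ ≤ _ := by rw [exp_le_exp, hdα]; push_cast; linarith
      have h4 : h = ι (sα g α) * y - (ι (sα g α) * y - h) := by ring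
      rw [h4]
      refine Valuation.map_sub_le _ h3 (h1.trans ?_)
      rw [← exp_zero, exp_le_exp]
      have := hA_nonneg p
      positivity
    · push_neg at hB
      have hQne : ∀ β ∈ B, Q ≠ Pl β := by
        intro β hβ hQ
        obtain ⟨p', he', hlt', -, -, -⟩ := Pl_data hdeg heq hd hpole hPl hβ
        rw [← hQ] at he'
        have hpp := (he.unique he').1
        rw [← hpp] at hlt'
        exact absurd (hB β hβ) (not_le.2 hlt')
      have h1 := hloc Q
      rw [sum_fam_apply_other g hQne, zero_sub, Valuation.map_neg] at h1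
      refine h1.trans ?_
      rw [← exp_zero, exp_le_exp]
      have := hA_nonneg p
      positivity
  rw [hab, AS.mem_L_conorm_iff hF hdeg h2 hy heq hA] at hhL
  obtain ⟨-, hb'L⟩ := hhL
  rw [sub_self, L_zero hF, Submodule.mem_one] at hb'L
  obtain ⟨c, hc⟩ := hb'L
  rw [RatFunc.algebraMap_eq_C] at hc
  -- the local conditions
  have hα_all : ∀ α ∈ B, (∀ a : I₁ B d, (a.1.1 : k) = α → g (Sum.inl a) = 0) ∧
      (∀ b : I₂ B, (b.1 : k) = α → g (Sum.inr b) = c) ∧ (α = 0 → c = 0) := by
    intro α hα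
    obtain ⟨p, he, hlt, -, hy0, hyo⟩ := Pl_data hdeg heq hd hpole hPl hα
    have hpl : 1 < p.1 f := pole_of_lt hd hpole p hα hlt
    obtain ⟨j', hj', hAj⟩ := (hA p).1 hpl
    have hdα : d α = 2 * j' + 1 := by
      have := hpole p α hα hlt
      rw [hj'] at this
      have : (d α : ℤ) = ((2 * j' + 1 : ℕ) : ℤ) := by push_cast; linarith
      exact_mod_cast this
    have h1 := hloc (Pl α)
    rw [sum_fam_apply_Pl hPl g hα, hab, ← hc] at h1
    have h2' : ι (sα g α) * y - (ι a' + ι (RatFunc.C c) * y) =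
        ι (-a') + ι (sα g α - RatFunc.C c) * y := by
      rw [map_neg, map_sub]; ring
    rw [h2'] at h1
    have h3 := (AS.pole_local he heq hpl hj' 0 (-a') (sα g α - RatFunc.C c)).1
      (by simpa using h1)
    refine sα_coeffs p hlt g c hdα ?_
    have h4 := h3.2
    rw [zero_sub] at h4
    exact h4
  have hc0 : c = 0 := (hα_all 0 h0).2.2 rfl
  intro i
  rcases i with a | b
  · exact (hα_all a.1.1 a.1.1.2).1 a rfl
  · rw [(hα_all b.1 b.1.2).2.1 b rfl, hc0]

/-- the repartitions give a basis of `A/(A(0)+K)` -/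
theorem adele_basis [PerfectField k] [CharP k 2] (hK : IsFunctionField k K)
    (hdeg : Module.finrank (RatFunc k) K = 2) (hy : y ∉ Set.range ι) (heq : y ^ 2 + y = ι f)
    (h0 : (0 : k) ∈ B) (hd : ∀ β ∈ B, Odd (d β))
    (hpole : ∀ (p : Place k (RatFunc k)) (β : k), β ∈ B →
      p.1 ((RatFunc.X : RatFunc k) - RatFunc.C β) < 1 → p.ord f = -(d β : ℤ))
    (hint : ∀ p : Place k (RatFunc k),
      (∀ β ∈ B, 1 ≤ p.1 ((RatFunc.X : RatFunc k) - RatFunc.C β)) → p.1 f ≤ 1)
    {Pl : k → Place k K} (hPl : ∀ β ∈ B, (Pl β).1 (ι RatFunc.X - algebraMap k K β) < 1) :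
    (∀ i, fam B d Pl y i ∈ adele k K) ∧
    LinearIndependent k (fun i => Submodule.mkQ
      (AD (0 : Divisor k K) ⊔ LinearMap.range (diag k K)) (fam B d Pl y i)) ∧
    ∀ a : Place k K → K, a ∈ adele k K →
      a ∈ (AD (0 : Divisor k K) ⊔ LinearMap.range (diag k K)) ⊔
        Submodule.span k (Set.range (fam B d Pl y)) := by
  have h2 : ringChar k = 2 := ringChar.eq k 2
  have hfam_adele : ∀ i, fam B d Pl y i ∈ adele k K := by
    intro i
    rcases i with a | b
    · exact single_mem_adele _ _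
    · exact single_mem_adele _ _
  set W : Submodule k (Place k K → K) :=
    AD (0 : Divisor k K) ⊔ LinearMap.range (diag k K) with hW
  have hli : LinearIndependent k (fun i => Submodule.mkQ W (fam B d Pl y i)) := by
    rw [Fintype.linearIndependent_iff]
    intro g hg
    have h1 : Submodule.mkQ W (∑ i, g i • fam B d Pl y i) = 0 := by
      rw [map_sum]
      simp only [map_smul]
      exact hg
    rw [Submodule.mkQ_apply, Submodule.Quotient.mk_eq_zero] at h1
    exact eq_zero_of_sum_mem_W hdeg hy heq h0 hd hpole hint hPl g h1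
  refine ⟨hfam_adele, hli, ?_⟩
  -- dimension count
  have hg : genus k K + 1 = (qB B (mB d)).natDegree :=
    as_genus_add_one hdeg hK h2 hy heq (hodd_of hd hpole hint) (qB_ne_zero B (mB d))
      (hq_of hd hpole hint) (hfinf_of hint)
  have hcard := card_index hd h0 hg
  obtain ⟨hfin, hrank⟩ := finrank_adele_quot hK
  set Φ : ↥(adele k K) →ₗ[k] ((Place k K → K) ⧸ W) :=
    (Submodule.mkQ W).comp (adele k K).subtype with hΦ
  have hker : LinearMap.ker Φ = ADK (0 : Divisor k K) := by
    rw [hΦ, LinearMap.ker_comp, Submodule.ker_mkQ]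
    rfl
  have hrange : Module.finrank k (LinearMap.range Φ) = genus k K := by
    rw [← LinearEquiv.finrank_eq Φ.quotKerEquivRange, ← hrank]
    exact LinearEquiv.finrank_eq (Submodule.quotEquivOfEq _ _ hker)
  haveI : FiniteDimensional k (LinearMap.range Φ) := by
    haveI := hfin
    haveI : FiniteDimensional k (↥(adele k K) ⧸ LinearMap.ker Φ) :=
      Module.Finite.equiv (Submodule.quotEquivOfEq _ _ hker).symm
    exact Module.Finite.equiv Φ.quotKerEquivRange
  have hspan : Submodule.span k (Set.range (fun i => Submodule.mkQ W (fam B d Pl y i))) =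
      LinearMap.range Φ := by
    apply Submodule.eq_of_le_of_finrank_eq
    · rw [Submodule.span_le]
      rintro _ ⟨i, rfl⟩
      exact ⟨⟨fam B d Pl y i, hfam_adele i⟩, rfl⟩
    · rw [finrank_span_eq_card hli, hcard, hrange]
  intro a ha
  have h1 : Submodule.mkQ W a ∈ LinearMap.range Φ := ⟨⟨a, ha⟩, rfl⟩
  rw [← hspan] at h1
  have h3 : Set.range (fun i => Submodule.mkQ W (fam B d Pl y i)) =
      (Submodule.mkQ W) '' Set.range (fam B d Pl y) := by
    rw [← Set.range_comp]
    rfl
  rw [h3, ← Submodule.map_span] at h1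
  obtain ⟨s, hs, hsa⟩ := h1
  have h4 : a - s ∈ W := by
    rw [← Submodule.Quotient.mk_eq_zero, Submodule.Quotient.mk_sub, ← Submodule.mkQ_apply,
      ← Submodule.mkQ_apply, hsa, sub_self]
  have h5 : a = (a - s) + s := by ring
  rw [h5]
  exact Submodule.add_mem _ (Submodule.mem_sup_left h4) (Submodule.mem_sup_right hs)

end cover

end Groth.Agent.H7.AF
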