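import Mathlib
import Groth.Prelude.Def_SymProd

set_option autoImplicit false
universe u
open CategoryTheory CategoryTheory.Limits AlgebraicGeometry

namespace Groth.Agent.H7.AFSep

theorem main {X S : Scheme.{u}} (f : X ⟶ S) (hX : SymProd.IsAF f) : IsSeparated f := by
  constructor
  have key : ∀ z : ↥(pullback f f), ∃ U : X.Opens, IsAffineOpen U ∧
      pullback.fst f f z ∈ U ∧ pullback.snd f f z ∈ U := by
    intro z
    classical
    have hz : f (pullback.snd f f z) = f (pullback.fst f f z) := by
      rw [← Scheme.Hom.comp_apply, ← Scheme.Hom.comp_apply, pullback.condition]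
    obtain ⟨U, hU, h⟩ := hX (f (pullback.fst f f z))
      {pullback.fst f f z, pullback.snd f f z} (by
        intro x hx
        simp only [Finset.mem_insert, Finset.mem_singleton] at hx
        rcases hx with rfl | rfl
        · rfl
        · exact hz)
    exact ⟨U, hU, h _ (by simp), h _ (by simp)⟩
  choose U hU h1 h2 using key
  let g : ∀ z : ↥(pullback f f), pullback ((U z).ι ≫ f) ((U z).ι ≫ f) ⟶ pullback f f := fun z =>
    pullback.map _ _ _ _ (U z).ι (U z).ι (𝟙 S) (by simp) (by simp)
  refine IsZariskiLocalAtTarget.of_iSup_eq_top (P := @IsClosedImmersion)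
    (fun z => (g z).opensRange) ?_ ?_
  · rw [← top_le_iff]
    intro z _
    refine TopologicalSpace.Opens.mem_iSup.mpr ⟨z, ?_⟩
    change z ∈ Set.range (g z)
    rw [Scheme.Pullback.range_map]
    refine ⟨?_, ?_⟩
    · simpa using h1 z
    · simpa using h2 z
  · intro z
    rw [MorphismProperty.arrow_mk_iso_iff (P := @IsClosedImmersion)
      (morphismRestrictOpensRange _ _)]
    have hpb := pullback_map_diagonal_isPullback (U z).ι (U z).ι f
    haveI : IsAffine (U z) := hU z
    haveI : IsClosedImmersion (pullback.diagonal ((U z).ι ≫ f)) := inferInstance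
    have e1 : pullback.map (U z).ι (U z).ι ((U z).ι ≫ f) ((U z).ι ≫ f) (𝟙 _) (𝟙 _) f
        (Category.id_comp _).symm (Category.id_comp _).symm =
        pullback.fst (U z).ι (U z).ι ≫ pullback.diagonal ((U z).ι ≫ f) := by
      apply pullback.hom_ext
      · rw [Category.assoc, pullback.diagonal_fst, Category.comp_id]
        unfold pullback.map
        rw [pullback.lift_fst, Category.comp_id]
      · rw [Category.assoc, pullback.diagonal_snd, Category.comp_id]
        unfold pullback.map
        rw [pullback.lift_snd, Category.comp_id]
        rw [← cancel_mono (U z).ι]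
        exact pullback.condition.symm
    have e2 : pullback.snd (pullback.diagonal f) (g z) = hpb.isoPullback.inv ≫
        pullback.fst (U z).ι (U z).ι ≫ pullback.diagonal ((U z).ι ≫ f) := by
      rw [← e1]
      exact (hpb.isoPullback_inv_snd).symm
    rw [e2]
    infer_instance

end Groth.Agent.H7.AFSep
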