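import Mathlib
import Groth.Prelude.Def_AlgSpOX2
import Groth.Agent.Lib.Helper3.AlgSpProp.EtFunctor

/-! # For a representable étale morphism, `f^*` on modules is restriction -/

set_option autoImplicit false
set_option linter.style.haveILetI false
set_option linter.unusedVariables false
set_option linter.unusedSectionVars false
set_option backward.isDefEq.respectTransparency false
universe u
open CategoryTheory CategoryTheory.Limits AlgebraicGeometry Opposite

namespace Groth.Agent.H7.APE

open _root_.AlgSp

variable {S : Scheme.{u}} {X Y : Sp S} (f : X ⟶ Y) (hrep : Representable f) (hf : IsEtaleMor f)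

theorem comm_of_hom {E : EtOver X} {V : EtOver Y} (g : (EtOver.postcomp f hf).obj E ⟶ V) :
    E.obj.hom ≫ f = (yon S).map g.hom.left ≫ V.obj.hom :=
  (EtOver.w g).symm

/-- the transpose of a morphism `j E ⟶ V` -/
noncomputable def toBc {E : EtOver X} {V : EtOver Y} (g : (EtOver.postcomp f hf).obj E ⟶ V) :
    E ⟶ (EtOver.bc hrep).obj V :=
  EtOver.homMk (hrep.lift E.obj.hom g.hom.left (comm_of_hom f hf g)) (hrep.lift_fst _ _ _)

theorem toBc_snd {E : EtOver X} {V : EtOver Y} (g : (EtOver.postcomp f hf).obj E ⟶ V) :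
    (toBc f hrep hf g).hom.left ≫ hrep.snd V.obj.hom = g.hom.left :=
  hrep.lift_snd _ _ _

/-- the transpose of a morphism `E ⟶ bc V` -/
noncomputable def ofBc {E : EtOver X} {V : EtOver Y} (h : E ⟶ (EtOver.bc hrep).obj V) :
    (EtOver.postcomp f hf).obj E ⟶ V :=
  EtOver.homMk (h.hom.left ≫ hrep.snd V.obj.hom) (by
    change (yon S).map (h.hom.left ≫ hrep.snd V.obj.hom) ≫ V.obj.hom = E.obj.hom ≫ f
    rw [Functor.map_comp, Category.assoc, ← hrep.w, ← Category.assoc]
    exact congrArg (· ≫ f) (EtOver.w h))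

theorem ofBc_left {E : EtOver X} {V : EtOver Y} (h : E ⟶ (EtOver.bc hrep).obj V) :
    (ofBc f hrep hf h).hom.left = h.hom.left ≫ hrep.snd V.obj.hom := rfl

noncomputable def homEquiv (E : EtOver X) (V : EtOver Y) :
    ((EtOver.postcomp f hf).obj E ⟶ V) ≃ (E ⟶ (EtOver.bc hrep).obj V) where
  toFun := toBc f hrep hf
  invFun := ofBc f hrep hf
  left_inv g := EtOver.hom_ext _ _ (toBc_snd f hrep hf g)
  right_inv h := EtOver.hom_ext _ _ (hrep.hom_ext
    ((hrep.lift_fst _ _ _).trans (EtOver.w h).symm) (hrep.lift_snd _ _ _))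

noncomputable def adj : EtOver.postcomp f hf ⊣ EtOver.bc hrep :=
  Adjunction.mkOfHomEquiv
    { homEquiv := homEquiv f hrep hf
      homEquiv_naturality_left_symm := fun {E' E V} k h => by
        apply EtOver.hom_ext
        change (k ≫ h).hom.left ≫ hrep.snd V.obj.hom = k.hom.left ≫ h.hom.left ≫ hrep.snd V.obj.hom
        exact Category.assoc _ _ _
      homEquiv_naturality_right := fun {E V V'} g k => by
        apply EtOver.hom_ext
        apply hrep.hom_ext
        · refine (hrep.lift_fst _ _ _).trans ?_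
          change _ = (yon S).map ((toBc f hrep hf g).hom.left ≫ (EtOver.bcMap hrep k).hom.left) ≫ _
          rw [Functor.map_comp, Category.assoc, EtOver.map_bcMap_fst]
          exact (hrep.lift_fst _ _ _).symm
        · refine (hrep.lift_snd _ _ _).trans ?_
          change _ = ((toBc f hrep hf g).hom.left ≫ (EtOver.bcMap hrep k).hom.left) ≫ _
          rw [Category.assoc, EtOver.bcMap_snd, ← Category.assoc, toBc_snd]
          rfl }

theorem adj_counit_left (V : EtOver Y) :
    ((adj f hrep hf).counit.app V).hom.left = hrep.snd V.obj.hom := by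
  change (ofBc f hrep hf (𝟙 _)).hom.left = _
  rw [ofBc_left]
  exact Category.id_comp _

theorem adj_unit_left_snd (E : EtOver X) :
    ((adj f hrep hf).unit.app E).hom.left ≫ hrep.snd (E.obj.hom ≫ f) = 𝟙 _ := by
  change (toBc f hrep hf (𝟙 _)).hom.left ≫ _ = _
  exact toBc_snd f hrep hf (𝟙 _)

end Groth.Agent.H7.APE
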