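import Mathlib
import Groth.Agent.Lib.Helper7.APE1

set_option autoImplicit false
set_option linter.style.haveILetI false
set_option linter.unusedVariables false
set_option linter.unusedSectionVars false
set_option backward.isDefEq.respectTransparency false
universe u
open CategoryTheory CategoryTheory.Limits AlgebraicGeometry Opposite

namespace Groth.Agent.H7.APE

open _root_.AlgSp

variable {S : Scheme.{u}} {X Y : Sp S} (f : X ⟶ Y) (hrep : Representable f) (hf : IsEtaleMor f)

instance : (EtOver.postcomp f hf).IsContinuous (etTop X) (etTop Y) :=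
  Groth.Agent.H3.AlgSpProp.postcomp_isContinuous f hf

/-- `O_X ⟶ j_* O_Y`: the identity on global functions -/
noncomputable def resRingHom :
    OEtRing X ⟶ ((EtOver.postcomp f hf).sheafPushforwardContinuous RingCat.{u + 1}
      (etTop X) (etTop Y)).obj (OEtRing Y) :=
  ObjectProperty.homMk
    { app := fun E => 𝟙 ((BigSite.ORing Scheme.etalePrecoverage S).obj.obj (op E.unop.obj.left))
      naturality := fun E E' g => by
        change (BigSite.ORing Scheme.etalePrecoverage S).obj.map g.unop.hom.left.op ≫ 𝟙 _ =
          𝟙 _ ≫ (BigSite.ORing Scheme.etalePrecoverage S).obj.map g.unop.hom.left.op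
        rw [Category.comp_id, Category.id_comp] }

theorem H₁ : Functor.whiskerRight (NatTrans.op (adj f hrep hf).counit) (OEtRing Y).obj =
    (bcRingHom hrep).hom ≫ (EtOver.bc hrep).op.whiskerLeft (resRingHom f hf).hom := by
  ext V : 2
  change (BigSite.ORing Scheme.etalePrecoverage S).obj.map
      (((adj f hrep hf).counit.app V.unop).hom.left).op =
    (BigSite.ORing Scheme.etalePrecoverage S).obj.map (hrep.snd V.unop.obj.hom).op ≫ 𝟙 _
  rw [Category.comp_id, adj_counit_left]

theorem H₂ : (resRingHom f hf).hom ≫ (EtOver.postcomp f hf).op.whiskerLeft (bcRingHom hrep).hom ≫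
    Functor.whiskerRight (NatTrans.op (adj f hrep hf).unit) (OEtRing X).obj = 𝟙 (OEtRing X).obj := by
  ext E : 2
  change 𝟙 _ ≫ (BigSite.ORing Scheme.etalePrecoverage S).obj.map
      (hrep.snd (E.unop.obj.hom ≫ f)).op ≫
    (BigSite.ORing Scheme.etalePrecoverage S).obj.map
      (((adj f hrep hf).unit.app E.unop).hom.left).op = 𝟙 _
  rw [Category.id_comp, ← Functor.map_comp, ← op_comp, adj_unit_left_snd]
  exact (BigSite.ORing Scheme.etalePrecoverage S).obj.map_id _

/-- restriction of modules along `j` -/
noncomputable abbrev resMod : ModEt Y ⥤ ModEt X :=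
  SheafOfModules.pushforward.{u + 1} (resRingHom f hf)

noncomputable def resPushAdj : resMod f hf ⊣ pushModEt hrep :=
  SheafOfModules.pushforwardPushforwardAdj (adj f hrep hf) (resRingHom f hf) (bcRingHom hrep)
    (H₁ f hrep hf) (H₂ f hrep hf)

noncomputable def pullIso [(SheafOfModules.pushforward.{u + 1} (bcRingHom hrep)).IsRightAdjoint] :
    pullModEt hrep ≅ resMod f hf :=
  Adjunction.leftAdjointUniq (pullPushAdjModEt hrep) (resPushAdj f hrep hf)

end Groth.Agent.H7.APE
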