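import Mathlib
import Groth.Agent.Lib.Helper7.APE2

set_option autoImplicit false
set_option linter.style.haveILetI false
set_option linter.unusedVariables false
set_option linter.unusedSectionVars false
set_option backward.isDefEq.respectTransparency false
universe u
open CategoryTheory CategoryTheory.Limits AlgebraicGeometry Opposite

namespace Groth.Agent.H7.APE

open _root_.AlgSp

variable {S : Scheme.{u}} {X Y : Sp S} (f : X ⟶ Y) (hrep : Representable f) (hf : IsEtaleMor f)

theorem preservesFiniteLimits_push_ab :
    PreservesFiniteLimits ((EtOver.postcomp f hf).sheafPushforwardContinuous AddCommGrpCat.{u + 1}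
      (etTop X) (etTop Y)) := by
  have : PreservesFiniteLimits ((EtOver.postcomp f hf).sheafPushforwardContinuous
      AddCommGrpCat.{u + 1} (etTop X) (etTop Y) ⋙ sheafToPresheaf _ _) := by
    show PreservesFiniteLimits (sheafToPresheaf _ _ ⋙
      (Functor.whiskeringLeft _ _ _).obj (EtOver.postcomp f hf).op)
    infer_instance
  exact preservesFiniteLimits_of_reflects_of_preserves _ (sheafToPresheaf _ _)

theorem preservesFiniteLimits_resMod : PreservesFiniteLimits (resMod f hf) := by
  haveI := preservesFiniteLimits_push_ab f hf
  have h2 : PreservesFiniteLimits (resMod f hf ⋙ SheafOfModules.toSheaf _) := by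
    show PreservesFiniteLimits (SheafOfModules.toSheaf _ ⋙
      (EtOver.postcomp f hf).sheafPushforwardContinuous AddCommGrpCat.{u + 1} (etTop X) (etTop Y))
    infer_instance
  exact preservesFiniteLimits_of_reflects_of_preserves _ (SheafOfModules.toSheaf _)

include hf in
theorem S10252_main [(SheafOfModules.pushforward.{u + 1} (bcRingHom hrep)).IsRightAdjoint] :
    PreservesFiniteLimits (pullModEt hrep) := by
  haveI := preservesFiniteLimits_resMod f hf
  exact preservesFiniteLimits_of_natIso (pullIso f hrep hf).symm

end Groth.Agent.H7.APE
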