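import Mathlib
import Groth.Agent.Lib.Helper7.APE3

set_option autoImplicit false
set_option linter.style.haveILetI false
set_option linter.unusedVariables false
set_option linter.unusedSectionVars false
set_option backward.isDefEq.respectTransparency false
universe u
open CategoryTheory CategoryTheory.Limits AlgebraicGeometry Opposite

namespace Groth.Agent.H7.APE

open _root_.AlgSp Groth.Agent.H3.AlgSpProp Groth.Agent.H5.AlgSp

variable {S : Scheme.{u}} {X Y : Sp S} (f : X ⟶ Y) (hrep : Representable f) (hf : IsEtaleMor f)

theorem coverPreserving_postcomp :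
    CoverPreserving (etTop X) (etTop Y) (EtOver.postcomp f hf) := by
  refine ⟨fun {E} T hT => ?_⟩
  unfold etTop at hT
  rw [Precoverage.mem_toGrothendieck_iff_of_isStableUnderComposition] at hT
  obtain ⟨R, hR, hle⟩ := hT
  obtain ⟨ι, V, g, rfl⟩ := R.exists_eq_ofArrows
  rw [ofArrows_mem_etPre_iff] at hR
  have hcov : Sieve.ofArrows (fun i => (EtOver.postcomp f hf).obj (V i))
      (fun i => (EtOver.postcomp f hf).map (g i)) ∈ etTop Y ((EtOver.postcomp f hf).obj E) :=
    ofArrows_mem_etTop _ _ hR
  refine (etTop Y).superset_covering ?_ hcov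
  rw [Sieve.ofArrows, Sieve.generate_le_iff]
  rintro _ _ ⟨i⟩
  exact ⟨V i, g i, 𝟙 _, hle _ _ (Presieve.ofArrows.mk i), (Category.id_comp _).symm⟩

instance : (EtOver.postcomp f hf).PreservesOneHypercovers.{u + 1} (etTop X) (etTop Y) :=
  Functor.PreservesOneHypercovers.of_coverPreserving (coverPreserving_postcomp f hf)

instance (E : EtOver X) : (Over.post (X := E) (EtOver.postcomp f hf)).IsContinuous
    ((etTop X).over E) ((etTop Y).over _) :=
  Functor.isContinuous_of_preservesOneHypercovers.{u + 1} _ _ _

instance : (EtOver.postcomp f hf).IsCocontinuous (etTop X) (etTop Y) :=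
  postcomp_isCocontinuous f hf

end Groth.Agent.H7.APE

namespace Groth.Agent.H7.APE

open _root_.AlgSp Groth.Agent.H3.AlgSpProp Groth.Agent.H5.AlgSp

variable {S : Scheme.{u}} {X Y : Sp S} (f : X ⟶ Y) (hrep : Representable f) (hf : IsEtaleMor f)

instance isIso_resRingHom : IsIso (resRingHom f hf) := by
  have h : IsIso ((sheafToPresheaf _ _).map (resRingHom f hf)) := by
    have : ∀ E, IsIso (((sheafToPresheaf _ _).map (resRingHom f hf)).app E) := by
      intro E
      change IsIso (𝟙 ((BigSite.ORing Scheme.etalePrecoverage S).obj.obj (op E.unop.obj.left)))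
      infer_instance
    exact NatIso.isIso_of_isIso_app _
  exact isIso_of_reflects_iso _ (sheafToPresheaf _ _)

instance isIso_unitTo : IsIso (SheafOfModules.unitToPushforwardObjUnit (resRingHom f hf)) := by
  have h : IsIso ((sheafToPresheaf _ _).map ((SheafOfModules.toSheaf _).map
      (SheafOfModules.unitToPushforwardObjUnit (resRingHom f hf)))) := by
    have : ∀ E, IsIso (((sheafToPresheaf _ _).map ((SheafOfModules.toSheaf _).map
      (SheafOfModules.unitToPushforwardObjUnit (resRingHom f hf)))).app E) := by
      intro E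
      rw [ConcreteCategory.isIso_iff_bijective]
      exact Function.bijective_id
    exact NatIso.isIso_of_isIso_app _
  have h2 : IsIso ((SheafOfModules.toSheaf _).map
      (SheafOfModules.unitToPushforwardObjUnit (resRingHom f hf))) :=
    isIso_of_reflects_iso _ (sheafToPresheaf _ _)
  exact isIso_of_reflects_iso _ (SheafOfModules.toSheaf _)

include hrep in
theorem isQuasicoherent_resMod (M : ModEt Y) [M.IsQuasicoherent] :
    ((resMod f hf).obj M).IsQuasicoherent := by
  haveI : (EtOver.postcomp f hf).IsLeftAdjoint := (adj f hrep hf).isLeftAdjoint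
  exact SheafOfModules.isQuasicoherent_pushforward_of_isLeftAdjoint (EtOver.postcomp f hf)
    (resRingHom f hf) (asIso (SheafOfModules.unitToPushforwardObjUnit (resRingHom f hf))).symm

include hf in
theorem S10238_main [(SheafOfModules.pushforward.{u + 1} (bcRingHom hrep)).IsRightAdjoint]
    (M : ModEt Y) (hM : M.IsQuasicoherent) : ((pullModEt hrep).obj M).IsQuasicoherent := by
  haveI := hM
  have h := isQuasicoherent_resMod f hrep hf M
  exact (SheafOfModules.isQuasicoherent (OEtRing X)).prop_of_iso ((pullIso f hrep hf).app M).symm h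

end Groth.Agent.H7.APE
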