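import Mathlib
import Groth.Agent.Lib.Helper7.APE4

/-! # The slice of the small étale site over a chart -/

set_option autoImplicit false
set_option linter.style.haveILetI false
set_option linter.unusedVariables false
set_option linter.unusedSectionVars false
set_option backward.isDefEq.respectTransparency false
set_option maxHeartbeats 400000
universe u
open CategoryTheory CategoryTheory.Limits AlgebraicGeometry Opposite

namespace Groth.Agent.H7.APE

open _root_.AlgSp Groth.Agent.H3.AlgSpProp Groth.Agent.H5.AlgSp

variable {S : Scheme.{u}} {X : Sp S} {U : Over S} (p : (yon S).obj U ⟶ X) (hp : RepWith @Etale p)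

/-- the chart as an object of the small étale site -/
noncomputable abbrev chartObj : EtOver X := EtOver.mk p hp

theorem slice_w {A A' : Over (chartObj p hp)} (g : A ⟶ A') :
    g.left.hom.left ≫ A'.hom.hom.left = A.hom.hom.left := by
  have h := Over.w g
  have h2 := congrArg (fun k : A.left ⟶ chartObj p hp => k.hom.left) h
  exact h2

/-- the object part of `Over E₀ ⥤ EtOver h_U` -/
noncomputable def sliceObj (A : Over (chartObj p hp)) : EtOver ((yon S).obj U) :=
  EtOver.mk ((yon S).map A.hom.hom.left)
    ((repWith_yon_map_iff _ _).2 (EtOver.etale_left A.hom))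

theorem sliceObj_hom (A : Over (chartObj p hp)) :
    (sliceObj p hp A).obj.hom = (yon S).map A.hom.hom.left := rfl

noncomputable def sliceMap {A A' : Over (chartObj p hp)} (g : A ⟶ A') :
    sliceObj p hp A ⟶ sliceObj p hp A' :=
  EtOver.homMk g.left.hom.left (by
    rw [sliceObj_hom, sliceObj_hom, ← Functor.map_comp]
    exact congrArg (yon S).map (slice_w p hp g))

/-- `Over E₀ ⥤ EtOver h_U` -/
noncomputable def sliceFun : Over (chartObj p hp) ⥤ EtOver ((yon S).obj U) where
  obj A := sliceObj p hp A
  map g := sliceMap p hp g
  map_id A := EtOver.hom_ext _ _ rfl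
  map_comp g h := EtOver.hom_ext _ _ rfl

theorem sliceFun_map_left {A A' : Over (chartObj p hp)} (g : A ⟶ A') :
    ((sliceFun p hp).map g).hom.left = g.left.hom.left := rfl

instance : (sliceFun p hp).Faithful where
  map_injective {A A'} g g' h := by
    apply Over.OverMorphism.ext
    apply EtOver.hom_ext
    exact congrArg (fun k => k.hom.left) h

theorem obj_hom_eq (A : Over (chartObj p hp)) :
    A.left.obj.hom = (yon S).map A.hom.hom.left ≫ p := (EtOver.w A.hom).symm

instance : (sliceFun p hp).Full where
  map_surjective {A A'} h := by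
    have hw : (yon S).map h.hom.left ≫ (yon S).map A'.hom.hom.left = (yon S).map A.hom.hom.left :=
      EtOver.w h
    have hw' : h.hom.left ≫ A'.hom.hom.left = A.hom.hom.left :=
      (yon S).map_injective (by rw [Functor.map_comp]; exact hw)
    refine ⟨Over.homMk (EtOver.homMk h.hom.left ?_) ?_, ?_⟩
    · rw [obj_hom_eq p hp A', obj_hom_eq p hp A, ← Category.assoc, hw]
    · apply EtOver.hom_ext
      exact hw'
    · apply EtOver.hom_ext
      rfl

instance : (sliceFun p hp).EssSurj where
  mem_essImage V := by
    let v : V.obj.left ⟶ U := (yon S).preimage V.obj.hom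
    have hv : (yon S).map v = V.obj.hom := (yon S).map_preimage _
    have hV : RepWith @Etale (V.obj.hom ≫ p) := isEtaleMor_of_repWith p hp V.obj.hom V.property
    let A : Over (chartObj p hp) := Over.mk (Y := EtOver.mk (V.obj.hom ≫ p) hV)
      (EtOver.homMk v (by
        change (yon S).map v ≫ p = V.obj.hom ≫ p
        rw [hv]))
    refine ⟨A, ⟨?_⟩⟩
    refine ⟨EtOver.homMk (𝟙 _) ?_, EtOver.homMk (𝟙 _) ?_, ?_, ?_⟩
    · change (yon S).map (𝟙 _) ≫ V.obj.hom = (yon S).map v
      rw [CategoryTheory.Functor.map_id, Category.id_comp, hv]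
    · change (yon S).map (𝟙 _) ≫ (yon S).map v = V.obj.hom
      rw [CategoryTheory.Functor.map_id, Category.id_comp, hv]
    · apply EtOver.hom_ext
      exact Category.id_comp _
    · apply EtOver.hom_ext
      exact Category.id_comp _

instance : (sliceFun p hp).IsEquivalence where

end Groth.Agent.H7.APE
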