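import Mathlib
import Groth.Agent.Lib.Helper7.APE5

set_option autoImplicit false
set_option linter.style.haveILetI false
set_option linter.unusedVariables false
set_option linter.unusedSectionVars false
set_option backward.isDefEq.respectTransparency false
set_option maxHeartbeats 400000
universe u
open CategoryTheory CategoryTheory.Limits AlgebraicGeometry Opposite

namespace Groth.Agent.H7.APE

open _root_.AlgSp Groth.Agent.H3.AlgSpProp Groth.Agent.H5.AlgSp

variable {S : Scheme.{u}} {X : Sp S} {U : Over S} (p : (yon S).obj U ⟶ X) (hp : RepWith @Etale p)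

/-- an object over `A.left` gives an object over `A` in the slice -/
noncomputable def sliceOver (A : Over (chartObj p hp)) {E : EtOver X} (g : E ⟶ A.left) :
    Over (chartObj p hp) := Over.mk (g ≫ A.hom)

noncomputable def sliceOverHom (A : Over (chartObj p hp)) {E : EtOver X} (g : E ⟶ A.left) :
    sliceOver p hp A g ⟶ A := Over.homMk g rfl

theorem coverPreserving_sliceFun :
    CoverPreserving ((etTop X).over (chartObj p hp)) (etTop ((yon S).obj U)) (sliceFun p hp) := by
  refine ⟨fun {A} T hT => ?_⟩
  rw [GrothendieckTopology.mem_over_iff] at hT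
  unfold etTop at hT
  rw [Precoverage.mem_toGrothendieck_iff_of_isStableUnderComposition] at hT
  obtain ⟨R, hR, hle⟩ := hT
  obtain ⟨ι, V, g, rfl⟩ := R.exists_eq_ofArrows
  rw [ofArrows_mem_etPre_iff] at hR
  have hcov : Sieve.ofArrows (fun i => (sliceFun p hp).obj (sliceOver p hp A (g i)))
      (fun i => (sliceFun p hp).map (sliceOverHom p hp A (g i))) ∈
        etTop ((yon S).obj U) ((sliceFun p hp).obj A) :=
    ofArrows_mem_etTop _ _ hR
  refine (etTop _).superset_covering ?_ hcov
  rw [Sieve.ofArrows, Sieve.generate_le_iff]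
  rintro _ _ ⟨i⟩
  refine ⟨sliceOver p hp A (g i), sliceOverHom p hp A (g i), 𝟙 _, ?_, (Category.id_comp _).symm⟩
  have := hle _ _ (Presieve.ofArrows.mk i)
  rw [Sieve.overEquiv_iff] at this
  exact this

instance : (sliceFun p hp).PreservesOneHypercovers.{u + 1}
    ((etTop X).over (chartObj p hp)) (etTop ((yon S).obj U)) :=
  Functor.PreservesOneHypercovers.of_coverPreserving (coverPreserving_sliceFun p hp)

instance sliceFun_isContinuous : (sliceFun p hp).IsContinuous
    ((etTop X).over (chartObj p hp)) (etTop ((yon S).obj U)) :=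
  Functor.isContinuous_of_preservesOneHypercovers.{u + 1} _ _ _

instance (A : Over (chartObj p hp)) : (Over.post (X := A) (sliceFun p hp)).IsContinuous
    (((etTop X).over (chartObj p hp)).over A) ((etTop ((yon S).obj U)).over _) :=
  Functor.isContinuous_of_preservesOneHypercovers.{u + 1} _ _ _

/-- an object over `Ψ A` gives an object of the site of `X` over `A.left` -/
noncomputable def liftObj' (A : Over (chartObj p hp)) {V : EtOver ((yon S).obj U)}
    (h : V ⟶ (sliceFun p hp).obj A) : EtOver X :=
  EtOver.mk ((yon S).map h.hom.left ≫ A.left.obj.hom)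
    ((repWith_isMultiplicative (S := S) @Etale).comp_mem _ _
      ((repWith_yon_map_iff _ _).2 (EtOver.etale_left h)) A.left.property)

noncomputable def liftHom' (A : Over (chartObj p hp)) {V : EtOver ((yon S).obj U)}
    (h : V ⟶ (sliceFun p hp).obj A) : liftObj' p hp A h ⟶ A.left :=
  EtOver.homMk h.hom.left rfl

theorem sliceFun_isCocontinuous : (sliceFun p hp).IsCocontinuous
    ((etTop X).over (chartObj p hp)) (etTop ((yon S).obj U)) := by
  refine ⟨fun {A} T hT => ?_⟩
  unfold etTop at hT
  rw [Precoverage.mem_toGrothendieck_iff_of_isStableUnderComposition] at hT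
  obtain ⟨R, hR, hle⟩ := hT
  obtain ⟨ι, V, g, rfl⟩ := R.exists_eq_ofArrows
  rw [ofArrows_mem_etPre_iff] at hR
  rw [GrothendieckTopology.mem_over_iff]
  have hcov : Sieve.ofArrows (fun i => liftObj' p hp A (g i)) (fun i => liftHom' p hp A (g i)) ∈
      etTop X A.left := ofArrows_mem_etTop _ _ hR
  refine (etTop X).superset_covering ?_ hcov
  rw [Sieve.ofArrows, Sieve.generate_le_iff]
  rintro _ _ ⟨i⟩
  rw [Sieve.overEquiv_iff]
  change T ((sliceFun p hp).map (sliceOverHom p hp A (liftHom' p hp A (g i))))
  have hw : (yon S).map (g i).hom.left ≫ (yon S).map A.hom.hom.left = (V i).obj.hom :=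
    EtOver.w (g i)
  have hfac : (sliceFun p hp).map (sliceOverHom p hp A (liftHom' p hp A (g i))) =
      (EtOver.homMk (𝟙 _) (by
        change (yon S).map (𝟙 _) ≫ (V i).obj.hom = (yon S).map ((g i).hom.left ≫ A.hom.hom.left)
        rw [CategoryTheory.Functor.map_id, Category.id_comp, Functor.map_comp, hw]) :
        (sliceFun p hp).obj (sliceOver p hp A (liftHom' p hp A (g i))) ⟶ V i) ≫ g i := by
    apply EtOver.hom_ext
    change (g i).hom.left = 𝟙 _ ≫ (g i).hom.left
    rw [Category.id_comp]
  rw [hfac]
  exact T.downward_closed (hle _ _ (Presieve.ofArrows.mk i)) _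

instance : (sliceFun p hp).IsCocontinuous
    ((etTop X).over (chartObj p hp)) (etTop ((yon S).obj U)) := sliceFun_isCocontinuous p hp

end Groth.Agent.H7.APE
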