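import Mathlib
import Groth.Agent.Lib.Helper7.APE6

set_option autoImplicit false
set_option linter.style.haveILetI false
set_option linter.unusedVariables false
set_option linter.unusedSectionVars false
set_option backward.isDefEq.respectTransparency false
set_option maxHeartbeats 400000
universe u
open CategoryTheory CategoryTheory.Limits AlgebraicGeometry Opposite

namespace Groth.Agent.H7.APE

open _root_.AlgSp Groth.Agent.H3.AlgSpProp Groth.Agent.H5.AlgSp

variable {S : Scheme.{u}} {X : Sp S} {U : Over S} (p : (yon S).obj U ⟶ X) (hp : RepWith @Etale p)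

include hp in
/-- `IsEtaleMor p` -/
theorem hEt : IsEtaleMor p := isEtaleMor_of_repWith p hp

/-- `j (Ψ A) ≅ A.left` -/
noncomputable def eApp (A : Over (chartObj p hp)) :
    (EtOver.postcomp p (hEt p hp)).obj ((sliceFun p hp).obj A) ≅ A.left where
  hom := EtOver.homMk (𝟙 _) (by
    change (yon S).map (𝟙 _) ≫ A.left.obj.hom = (yon S).map A.hom.hom.left ≫ p
    rw [CategoryTheory.Functor.map_id, Category.id_comp]
    exact obj_hom_eq p hp A)
  inv := EtOver.homMk (𝟙 _) (by
    change (yon S).map (𝟙 _) ≫ (yon S).map A.hom.hom.left ≫ p = A.left.obj.hom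
    rw [CategoryTheory.Functor.map_id, Category.id_comp]
    exact (obj_hom_eq p hp A).symm)
  hom_inv_id := EtOver.hom_ext _ _ (Category.id_comp _)
  inv_hom_id := EtOver.hom_ext _ _ (Category.id_comp _)

noncomputable def eIso :
    sliceFun p hp ⋙ EtOver.postcomp p (hEt p hp) ≅ Over.forget (chartObj p hp) :=
  NatIso.ofComponents (eApp p hp) (fun {A A'} g => by
    apply EtOver.hom_ext
    change g.left.hom.left ≫ 𝟙 _ = 𝟙 _ ≫ g.left.hom.left
    rw [Category.comp_id, Category.id_comp])

theorem eIso_hom_app_left (A : Over (chartObj p hp)) :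
    ((eIso p hp).hom.app A).hom.left = 𝟙 _ := rfl

/-- the slice topology -/
noncomputable abbrev sliceTop : GrothendieckTopology (Over (chartObj p hp)) := (etTop X).over (chartObj p hp)

/-- the ring map `O_X|_{E₀} ⟶ Ψ_* O_U` : identity on global functions -/
noncomputable def sliceRingHom :
    (OEtRing X).over (chartObj p hp) ⟶
      ((sliceFun p hp).sheafPushforwardContinuous RingCat.{u + 1} (sliceTop p hp)
        (etTop ((yon S).obj U))).obj (OEtRing ((yon S).obj U)) :=
  ObjectProperty.homMk
    { app := fun A =>
        𝟙 ((BigSite.ORing Scheme.etalePrecoverage S).obj.obj (op A.unop.left.obj.left))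
      naturality := fun A A' g => by
        change (BigSite.ORing Scheme.etalePrecoverage S).obj.map g.unop.left.hom.left.op ≫ 𝟙 _ =
          𝟙 _ ≫ (BigSite.ORing Scheme.etalePrecoverage S).obj.map g.unop.left.hom.left.op
        rw [Category.comp_id, Category.id_comp] }

instance isIso_sliceRingHom : IsIso (sliceRingHom p hp) := by
  have h : IsIso ((sheafToPresheaf _ _).map (sliceRingHom p hp)) := by
    have : ∀ A, IsIso (((sheafToPresheaf _ _).map (sliceRingHom p hp)).app A) := by
      intro A
      change IsIso (𝟙 ((BigSite.ORing Scheme.etalePrecoverage S).obj.obj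
        (op A.unop.left.obj.left)))
      infer_instance
    exact NatIso.isIso_of_isIso_app _
  exact isIso_of_reflects_iso _ (sheafToPresheaf _ _)

instance isIso_unitTo_slice :
    IsIso (SheafOfModules.unitToPushforwardObjUnit (sliceRingHom p hp)) := by
  have h : IsIso ((sheafToPresheaf _ _).map ((SheafOfModules.toSheaf _).map
      (SheafOfModules.unitToPushforwardObjUnit (sliceRingHom p hp)))) := by
    have : ∀ A, IsIso (((sheafToPresheaf _ _).map ((SheafOfModules.toSheaf _).map
      (SheafOfModules.unitToPushforwardObjUnit (sliceRingHom p hp)))).app A) := by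
      intro A
      rw [ConcreteCategory.isIso_iff_bijective]
      exact Function.bijective_id
    exact NatIso.isIso_of_isIso_app _
  have h2 : IsIso ((SheafOfModules.toSheaf _).map
      (SheafOfModules.unitToPushforwardObjUnit (sliceRingHom p hp))) :=
    isIso_of_reflects_iso _ (sheafToPresheaf _ _)
  exact isIso_of_reflects_iso _ (SheafOfModules.toSheaf _)

/-- transport of quasi-coherence to the slice -/
theorem isQuasicoherent_slice (M : ModEt ((yon S).obj U)) [M.IsQuasicoherent] :
    ((SheafOfModules.pushforward.{u + 1} (sliceRingHom p hp)).obj M).IsQuasicoherent :=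
  SheafOfModules.isQuasicoherent_pushforward_of_isLeftAdjoint (sliceFun p hp)
    (sliceRingHom p hp)
    (asIso (SheafOfModules.unitToPushforwardObjUnit (sliceRingHom p hp))).symm

end Groth.Agent.H7.APE
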