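import Mathlib
import Groth.Agent.Lib.Helper7.APE7

set_option autoImplicit false
set_option linter.style.haveILetI false
set_option linter.unusedVariables false
set_option linter.unusedSectionVars false
set_option backward.isDefEq.respectTransparency false
set_option maxHeartbeats 400000
universe u
open CategoryTheory CategoryTheory.Limits AlgebraicGeometry Opposite

namespace Groth.Agent.H7.APE

open _root_.AlgSp Groth.Agent.H3.AlgSpProp Groth.Agent.H5.AlgSp

variable {S : Scheme.{u}} {X : Sp S} {U : Over S} (p : (yon S).obj U ⟶ X) (hp : RepWith @Etale p)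

instance : (sliceFun p hp ⋙ EtOver.postcomp p (hEt p hp)).IsContinuous (sliceTop p hp) (etTop X) :=
  Functor.isContinuous_comp _ _ _ (etTop ((yon S).obj U)) _

theorem he : 𝟙 ((OEtRing X).over (chartObj p hp)) ≫
    (Functor.sheafPushforwardContinuousNatTrans (eIso p hp).hom RingCat.{u + 1} (sliceTop p hp)
      (etTop X)).app (OEtRing X) =
    sliceRingHom p hp ≫ ((sliceFun p hp).sheafPushforwardContinuous RingCat.{u + 1} (sliceTop p hp)
      (etTop ((yon S).obj U))).map (resRingHom p (hEt p hp)) := by
  apply Sheaf.hom_ext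
  ext A : 2
  change 𝟙 _ ≫ (BigSite.ORing Scheme.etalePrecoverage S).obj.map
      (((eIso p hp).hom.app A.unop).hom.left).op = 𝟙 _ ≫ 𝟙 _
  rw [eIso_hom_app_left]
  exact congrArg (𝟙 _ ≫ ·) ((BigSite.ORing Scheme.etalePrecoverage S).obj.map_id _)

noncomputable def overIso (F : ModEt X) :
    F.over (chartObj p hp) ≅ (SheafOfModules.pushforward.{u + 1} (sliceRingHom p hp)).obj
      ((resMod p (hEt p hp)).obj F) :=
  (SheafOfModules.pushforwardCongr₂ (𝟙 _) (eIso p hp) (he p hp)).app F ≪≫
    ((SheafOfModules.pushforwardComp (sliceRingHom p hp) (resRingHom p (hEt p hp))).app F).symm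

theorem coversTop_chart (hs : RepWith @Surjective p) :
    (etTop X).CoversTop (fun _ : PUnit.{u + 2} => chartObj p hp) := by
  intro W
  have hsurj : ∀ x : ↥W.obj.left.left, ∃ i : PUnit.{1},
      x ∈ Set.range (EtOver.prodFst W (chartObj p hp)).hom.left.left := by
    intro x
    have h := hs.2 W.obj.hom ((chartObj p hp).property.1.fst W.obj.hom)
      ((chartObj p hp).property.1.snd W.obj.hom)
      ((chartObj p hp).property.1.isPullback W.obj.hom)
    exact ⟨⟨⟩, h.surj x⟩
  have hcov := ofArrows_mem_etTop (fun _ : PUnit.{1} => EtOver.prodObj W (chartObj p hp))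
    (fun _ => EtOver.prodFst W (chartObj p hp)) hsurj
  refine (etTop X).superset_covering ?_ hcov
  rw [Sieve.ofArrows, Sieve.generate_le_iff]
  rintro _ _ ⟨i⟩
  exact ⟨⟨⟩, ⟨EtOver.prodSnd W (chartObj p hp)⟩⟩

include hp in
theorem S10237_main (F : ModEt X) (hrep : Representable p) (hs : RepWith @Surjective p)
    [(SheafOfModules.pushforward.{u + 1} (bcRingHom hrep)).IsRightAdjoint]
    (hF : ((pullModEt hrep).obj F).IsQuasicoherent) : F.IsQuasicoherent := by
  have h1 : ((resMod p (hEt p hp)).obj F).IsQuasicoherent :=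
    (SheafOfModules.isQuasicoherent (OEtRing ((yon S).obj U))).prop_of_iso
      ((pullIso p hrep (hEt p hp)).app F) hF
  haveI := h1
  have h2 := isQuasicoherent_slice p hp ((resMod p (hEt p hp)).obj F)
  have h3 : (F.over (chartObj p hp)).IsQuasicoherent :=
    (SheafOfModules.isQuasicoherent ((OEtRing X).over (chartObj p hp))).prop_of_iso
      (overIso p hp F).symm h2
  haveI : ∀ i : PUnit.{u + 2},
      (F.over ((fun _ : PUnit.{u + 2} => chartObj p hp) i)).IsQuasicoherent := fun _ => h3
  exact SheafOfModules.IsQuasicoherent.of_coversTop F (fun _ : PUnit.{u + 2} => chartObj p hp)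
    (coversTop_chart p hp hs)

end Groth.Agent.H7.APE
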