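import Mathlib

set_option autoImplicit false

universe u

open CategoryTheory CategoryTheory.Limits Opposite

namespace Groth.Agent.H7.AS

variable {C : Type (u + 1)} [Category.{u} C] {S S' : C} (g : S ⟶ S')

/-- The object of `Over S` determined by `a : T' ⟶ (S, g)` in `Over S'`. -/
abbrev lo {T' : Over S'} (a : T' ⟶ Over.mk g) : Over S := Over.mk a.left

/-- The morphism `lo (f ≫ a) ⟶ lo a` induced by `f`. -/
abbrev lm {W' T' : Over S'} (f : W' ⟶ T') (a : T' ⟶ Over.mk g) :
    lo g (f ≫ a) ⟶ lo g a := Over.homMk f.left rfl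

/-- The canonical map `u T ⟶ (S, g)`. -/
abbrev aT (T : Over S) : (Over.map g).obj T ⟶ Over.mk g := Over.homMk T.hom (by simp)

/-- The isomorphism `u (lo a) ≅ T'`. -/
abbrev isoA {T' : Over S'} (a : T' ⟶ Over.mk g) : (Over.map g).obj (lo g a) ≅ T' :=
  Over.isoMk (Iso.refl _) (by simpa using (Over.w a).symm)

variable {g} in
/-- The "identity" `lo a ⟶ lo b` when `a = b`. -/
def eqm {T' : Over S'} {a b : T' ⟶ Over.mk g} (h : a = b) : lo g a ⟶ lo g b :=
  Over.homMk (𝟙 T'.left) (by subst h; simp)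

variable {g} in
@[simp] lemma eqm_left {T' : Over S'} {a b : T' ⟶ Over.mk g} (h : a = b) :
    (eqm h).left = 𝟙 T'.left := rfl

variable {g} in
@[simp] lemma eqm_rfl {T' : Over S'} (a : T' ⟶ Over.mk g) : eqm (rfl : a = a) = 𝟙 _ := by
  ext; simp

section General

variable {X : C} {Q : (Over X)ᵒᵖ ⥤ Type (u + 1)}

/-- A map of presheaves applied to an endomorphism-with-identity-left is the identity. -/
lemma map_eq_self {T : Over X} (e : T ⟶ T) (he : e.left = 𝟙 _) (s : Q.obj (op T)) :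
    Q.map e.op s = s := by
  have : e = 𝟙 _ := Over.OverMorphism.ext he
  subst this
  simp

lemma map_congr {T₁ T₂ : Over X} {e₁ e₂ : T₁ ⟶ T₂} (h : e₁.left = e₂.left) (s : Q.obj (op T₂)) :
    Q.map e₁.op s = Q.map e₂.op s := by
  have : e₁ = e₂ := Over.OverMorphism.ext h
  rw [this]

lemma map_congr₂ {T₁ T₂ T₃ : Over X} {e₁ : T₁ ⟶ T₃} {e₂ : T₂ ⟶ T₃} {e₃ : T₁ ⟶ T₂}
    (h : e₁.left = e₃.left ≫ e₂.left) (s : Q.obj (op T₃)) :
    Q.map e₁.op s = Q.map e₃.op (Q.map e₂.op s) := by
  have : e₁ = e₃ ≫ e₂ := Over.OverMorphism.ext h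
  rw [this, op_comp, Functor.map_comp_apply]

lemma map_congr₂₂ {T₁ T₂ T₂' T₃ : Over X} {e₁ : T₁ ⟶ T₂} {e₂ : T₂ ⟶ T₃} {e₃ : T₁ ⟶ T₂'}
    {e₄ : T₂' ⟶ T₃} (h : e₁.left ≫ e₂.left = e₃.left ≫ e₄.left) (s : Q.obj (op T₃)) :
    Q.map e₁.op (Q.map e₂.op s) = Q.map e₃.op (Q.map e₄.op s) := by
  have : e₁ ≫ e₂ = e₃ ≫ e₄ := Over.OverMorphism.ext h
  rw [← Functor.map_comp_apply, ← Functor.map_comp_apply, ← op_comp, ← op_comp, this]

lemma map_map_eq_self {T₁ T₂ : Over X} {e₁ : T₁ ⟶ T₂} {e₂ : T₂ ⟶ T₁}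
    (h : e₂.left ≫ e₁.left = 𝟙 _) (s : Q.obj (op T₂)) :
    Q.map e₂.op (Q.map e₁.op s) = s := by
  have : e₂ ≫ e₁ = 𝟙 _ := Over.OverMorphism.ext h
  rw [← Functor.map_comp_apply, ← op_comp, this, op_id, Functor.map_id_apply]

end General

variable (P : (Over S)ᵒᵖ ⥤ Type (u + 1))

/-- Sections of `j_! P` over `T'`. -/
structure ShObj (T' : Over S') : Type (u + 1) where
  a : T' ⟶ Over.mk g
  s : P.obj (op (lo g a))

variable {g P}

lemma ShObj.ext' {T' : Over S'} {x y : ShObj g P T'} (h : x.a = y.a)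
    (hs : P.map (eqm h.symm).op x.s = y.s) : x = y := by
  obtain ⟨a, s⟩ := x
  obtain ⟨b, t⟩ := y
  dsimp only at h hs
  subst h
  simp only [eqm_rfl, op_id, Functor.map_id_apply] at hs
  subst hs
  rfl

lemma ShObj.s_eq_of_eq {T' : Over S'} {x y : ShObj g P T'} (h : x = y) :
    P.map (eqm (congrArg ShObj.a h).symm).op x.s = y.s := by
  subst h
  simp




/-- Restriction of sections of `j_! P`. -/
abbrev ShObj.res {W' T' : Over S'} (f : W' ⟶ T') (x : ShObj g P T') : ShObj g P W' :=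
  ⟨f ≫ x.a, P.map (lm g f x.a).op x.s⟩

lemma ShObj.res_id {T' : Over S'} (x : ShObj g P T') : x.res (𝟙 T') = x := by
  refine ShObj.ext' (Category.id_comp _) ?_
  rw [← Functor.map_comp_apply, ← op_comp]
  exact map_eq_self _ (by simp) _

lemma ShObj.res_comp {V' W' T' : Over S'} (f : V' ⟶ W') (h : W' ⟶ T') (x : ShObj g P T') :
    x.res (f ≫ h) = (x.res h).res f := by
  refine ShObj.ext' (Category.assoc _ _ _) ?_
  dsimp only [ShObj.res]
  rw [← Functor.map_comp_apply, ← Functor.map_comp_apply, ← op_comp, ← op_comp]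
  exact map_congr (by simp) _

variable (g P)

/-- The presheaf `j_! P` on `Over S'`. -/
def shPre : (Over S')ᵒᵖ ⥤ Type (u + 1) where
  obj T' := ShObj g P T'.unop
  map {T' W'} f := ↾(ShObj.res f.unop)
  map_id T' := by
    ext x
    exact ShObj.res_id x
  map_comp f h := by
    ext x
    exact ShObj.res_comp _ _ x

variable {g P} in
/-- Functoriality of `ShObj` in the presheaf. -/
abbrev ShObj.mapS {Q : (Over S)ᵒᵖ ⥤ Type (u + 1)} (φ : P ⟶ Q) {T' : Over S'} (x : ShObj g P T') :
    ShObj g Q T' := ⟨x.a, φ.app _ x.s⟩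

variable {g P} in
lemma ShObj.mapS_res {Q : (Over S)ᵒᵖ ⥤ Type (u + 1)} (φ : P ⟶ Q) {W' T' : Over S'} (f : W' ⟶ T')
    (x : ShObj g P T') : (x.res f).mapS φ = (x.mapS φ).res f := by
  refine ShObj.ext' rfl ?_
  dsimp only [ShObj.res, ShObj.mapS]
  rw [eqm_rfl, op_id, Functor.map_id_apply]
  exact NatTrans.naturality_apply φ _ _

/-- Functoriality of `shPre` in the presheaf. -/
def shMap {P Q : (Over S)ᵒᵖ ⥤ Type (u + 1)} (φ : P ⟶ Q) : shPre g P ⟶ shPre g Q where
  app T' := ↾(ShObj.mapS φ)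
  naturality T' W' f := by
    ext x
    exact ShObj.mapS_res φ f.unop x

variable {g P}

/-- The section of `P` over `W` given by a section of `j_! P` over `u W` lying over the canonical
map `u W ⟶ (S, g)`. -/
def fib {W : Over S} (z : ShObj g P ((Over.map g).obj W)) (hz : z.a = aT g W) : P.obj (op W) :=
  P.map (Over.homMk (𝟙 _) (by rw [hz]; simp) : W ⟶ lo g z.a).op z.s

lemma fib_congr {W : Over S} {z z' : ShObj g P ((Over.map g).obj W)} (h : z = z')
    (hz : z.a = aT g W) : fib z hz = fib z' (h ▸ hz) := by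
  subst h; rfl

lemma fib_res {V W : Over S} (k : V ⟶ W) (z : ShObj g P ((Over.map g).obj W))
    (hz : z.a = aT g W) (hz' : (z.res ((Over.map g).map k)).a = aT g V) :
    fib (z.res ((Over.map g).map k)) hz' = P.map k.op (fib z hz) := by
  dsimp only [fib, ShObj.res]
  rw [← Functor.map_comp_apply, ← Functor.map_comp_apply, ← op_comp, ← op_comp]
  exact map_congr (by simp) _

lemma fam_congr {D : Type*} [Category D] {X : D} {Q : Dᵒᵖ ⥤ Type (u + 1)} {R : Presieve X}
    (x : Presieve.FamilyOfElements Q R) {Y : D} {f f' : Y ⟶ X} (h : f = f') (hf : R f) :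
    x f hf = x f' (h ▸ hf) := by
  subst h; rfl

lemma key_a {T' : Over S'} (a : T' ⟶ Over.mk g) {W : Over S} (h : W ⟶ lo g a) :
    ((Over.map g).map h ≫ (isoA g a).hom) ≫ a = aT g W := by
  ext
  simpa using Over.w h

lemma fib_res_iso {T' : Over S'} (z : ShObj g P T')
    (hz : (z.res (isoA g z.a).hom).a = aT g (lo g z.a)) :
    fib (z.res (isoA g z.a).hom) hz = z.s := by
  dsimp only [fib, ShObj.res]
  rw [← Functor.map_comp_apply, ← op_comp]
  exact map_eq_self _ (by simp) _

variable (g P) in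
theorem shPre_isSheaf (K : GrothendieckTopology C) [K.Subcanonical]
    (hP : Presieve.IsSheaf (K.over S) P) : Presieve.IsSheaf (K.over S') (shPre g P) := by
  intro T' R hR x hx
  -- step 1: glue the first components
  have hy : Presieve.IsSheaf (K.over S') (yoneda.obj (Over.mk g)) :=
    GrothendieckTopology.Subcanonical.isSheaf_of_isRepresentable _
  let y : Presieve.FamilyOfElements (yoneda.obj (Over.mk g)) R.arrows :=
    fun W' f hf => (x f hf).a
  have hyc : y.Compatible := by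
    intro W₁ W₂ V f₁ f₂ h₁ h₂ hh₁ hh₂ comm
    exact congrArg ShObj.a (hx f₁ f₂ hh₁ hh₂ comm)
  obtain ⟨a, ha, hau⟩ := hy R hR y hyc
  have ha' : ∀ {W' : Over S'} (f : W' ⟶ T') (hf : R f), (x f hf).a = f ≫ a := by
    intro W' f hf
    exact (ha f hf).symm
  -- step 2: the sieve on `lo a` and the family for `P`
  let R' : Sieve (lo g a) := Sieve.functorPullback (Over.map g) (R.pullback (isoA g a).hom)
  have hR' : R' ∈ (K.over S) (lo g a) :=
    (Over.map g).cover_lift (K.over S) (K.over S') ((K.over S').pullback_stable _ hR)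
  have hxa : ∀ {W : Over S} (h : W ⟶ lo g a) (hh : R' h),
      (x ((Over.map g).map h ≫ (isoA g a).hom) hh).a = aT g W := by
    intro W h hh
    rw [ha', key_a]
  let y' : Presieve.FamilyOfElements P R'.arrows := fun W h hh => fib (x _ hh) (hxa h hh)
  have hxs := (Presieve.compatible_iff_sieveCompatible x).1 hx
  have hy'c : y'.Compatible := by
    rw [Presieve.compatible_iff_sieveCompatible]
    intro W V h k hh
    dsimp only [y']
    have e1 : (Over.map g).map (k ≫ h) ≫ (isoA g a).hom =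
        (Over.map g).map k ≫ ((Over.map g).map h ≫ (isoA g a).hom) := by
      rw [Functor.map_comp, Category.assoc]
    have e2 := hxs ((Over.map g).map h ≫ (isoA g a).hom) ((Over.map g).map k) hh
    have e3 := (fam_congr x e1 (R'.downward_closed hh k)).trans e2
    rw [fib_congr e3]
    exact fib_res k _ (hxa h hh) _
  obtain ⟨s, hs, hsu⟩ := hP R' hR' y' hy'c
  refine ⟨⟨a, s⟩, ?_, ?_⟩
  · intro W' f hf
    show ShObj.res f ⟨a, s⟩ = x f hf
    have hbe : (x f hf).a = f ≫ a := ha' f hf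
    refine ShObj.ext' hbe.symm ?_
    dsimp only [ShObj.res]
    let h : lo g (x f hf).a ⟶ lo g a := eqm hbe ≫ lm g f a
    have e0 : (Over.map g).map h ≫ (isoA g a).hom = (isoA g (x f hf).a).hom ≫ f := by
      ext; simp [h]
    have hh : R' h := by
      show R ((Over.map g).map h ≫ (isoA g a).hom)
      rw [e0]; exact R.downward_closed hf _
    have e1 : P.map h.op s = y' h hh := hs h hh
    have e2 := (fam_congr x e0 hh).trans (hxs f (isoA g (x f hf).a).hom hf)
    rw [← Functor.map_comp_apply, ← op_comp]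
    refine (map_congr (by simp [h]) s).trans (e1.trans ?_)
    dsimp only [y']
    rw [fib_congr e2]
    exact fib_res_iso _ _
  · intro t ht
    obtain ⟨a', s'⟩ := t
    have h1 : a' = a := hau a' (fun W' f hf => congrArg ShObj.a (ht f hf))
    subst h1
    refine ShObj.ext' rfl ?_
    rw [eqm_rfl, op_id, Functor.map_id_apply]
    apply hsu
    intro W h hh
    dsimp only [y']
    rw [fib_congr (ht _ hh).symm]
    dsimp only [fib]
    show _ = P.map _ (P.map _ s')
    exact map_congr₂ (by simp) _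

end Groth.Agent.H7.AS
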