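import Groth.Agent.Lib.Helper7.AS1

set_option autoImplicit false

universe u

open CategoryTheory CategoryTheory.Limits Opposite

namespace Groth.Agent.H7.AS

variable {C : Type (u + 1)} [Category.{u} C] {S S' : C} (g : S ⟶ S')
  (K : GrothendieckTopology C) [K.Subcanonical]

/-- The explicit `j_!` on sheaves of sets. -/
def Phi : Sheaf (K.over S) (Type (u + 1)) ⥤ Sheaf (K.over S') (Type (u + 1)) where
  obj F := ⟨shPre g F.obj, (isSheaf_iff_isSheaf_of_type _ _).2
    (shPre_isSheaf g F.obj K ((isSheaf_iff_isSheaf_of_type _ _).1 F.property))⟩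
  map φ := ObjectProperty.homMk (shMap g φ.hom)
  map_id F := by
    apply Sheaf.hom_ext
    ext T' x
    rfl
  map_comp φ ψ := by
    apply Sheaf.hom_ext
    ext T' x
    rfl

/-- `lo (aT T) ≅ T` (they are equal by eta). -/
abbrev eT (T : Over S) : lo g (aT g T) ⟶ T := Over.homMk (𝟙 _) (by simp)

abbrev eT' (T : Over S) : T ⟶ lo g (aT g T) := Over.homMk (𝟙 _) (by simp)

variable {g}

/-- The unit on sections. -/
abbrev unitFun (P : (Over S)ᵒᵖ ⥤ Type (u + 1)) (T : Over S) (s : P.obj (op T)) :
    ShObj g P ((Over.map g).obj T) := ⟨aT g T, P.map (eT g T).op s⟩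

lemma unitFun_res (P : (Over S)ᵒᵖ ⥤ Type (u + 1)) {V T : Over S} (k : V ⟶ T) (s : P.obj (op T)) :
    unitFun P V (P.map k.op s) = (unitFun P T s).res ((Over.map g).map k) := by
  refine ShObj.ext' (by ext; simp) ?_
  dsimp only [unitFun, ShObj.res]
  simp only [← Functor.map_comp_apply, ← op_comp]
  exact map_congr (by simp) _

lemma unitFun_mapS {P Q : (Over S)ᵒᵖ ⥤ Type (u + 1)} (φ : P ⟶ Q) (T : Over S) (s : P.obj (op T)) :
    unitFun (g := g) Q T (φ.app _ s) = (unitFun P T s).mapS φ := by
  refine ShObj.ext' rfl ?_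
  dsimp only [unitFun, ShObj.mapS]
  rw [eqm_rfl, op_id, Functor.map_id_apply]
  exact (NatTrans.naturality_apply φ _ _).symm

variable (g) in
/-- The unit at presheaf level. -/
def unitPre (P : (Over S)ᵒᵖ ⥤ Type (u + 1)) : P ⟶ (Over.map g).op ⋙ shPre g P where
  app T := ↾(unitFun P T.unop)
  naturality T V k := by
    ext s
    exact unitFun_res P k.unop s

/-- The counit on sections. -/
abbrev counitFun (G' : (Over S')ᵒᵖ ⥤ Type (u + 1)) (T' : Over S')
    (z : ShObj g ((Over.map g).op ⋙ G') T') : G'.obj (op T') :=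
  G'.map (isoA g z.a).inv.op z.s

lemma counitFun_res (G' : (Over S')ᵒᵖ ⥤ Type (u + 1)) {W' T' : Over S'} (f : W' ⟶ T')
    (z : ShObj g ((Over.map g).op ⋙ G') T') :
    counitFun G' W' (z.res f) = G'.map f.op (counitFun G' T' z) := by
  dsimp only [counitFun, ShObj.res, Functor.comp_map, Functor.op_map, Quiver.Hom.unop_op]
  exact map_congr₂₂ (by simp) _

lemma counitFun_mapS {G' H' : (Over S')ᵒᵖ ⥤ Type (u + 1)} (ψ : G' ⟶ H') (T' : Over S')
    (z : ShObj g ((Over.map g).op ⋙ G') T') :
    counitFun H' T' (z.mapS (Functor.whiskerLeft (Over.map g).op ψ)) =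
      ψ.app _ (counitFun G' T' z) := by
  dsimp only [counitFun, ShObj.mapS, Functor.whiskerLeft_app]
  exact (NatTrans.naturality_apply ψ _ _).symm

variable (g) in
/-- The counit at presheaf level. -/
def counitPre (G' : (Over S')ᵒᵖ ⥤ Type (u + 1)) : shPre g ((Over.map g).op ⋙ G') ⟶ G' where
  app T' := ↾(counitFun G' T'.unop)
  naturality T' W' f := by
    ext z
    exact counitFun_res G' f.unop z

lemma left_triangle_fun (P : (Over S)ᵒᵖ ⥤ Type (u + 1)) {T' : Over S'} (z : ShObj g P T') :
    counitFun (shPre g P) T' (z.mapS (unitPre g P)) = z := by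
  show ShObj.res (isoA g z.a).inv (unitFun P (lo g z.a) z.s) = z
  refine ShObj.ext' (by ext; simp) ?_
  dsimp only [ShObj.res, unitFun]
  simp only [← Functor.map_comp_apply, ← op_comp]
  exact map_eq_self _ (by simp) _

lemma right_triangle_fun (G' : (Over S')ᵒᵖ ⥤ Type (u + 1)) (T : Over S)
    (s : G'.obj (op ((Over.map g).obj T))) :
    counitFun G' _ (unitFun ((Over.map g).op ⋙ G') T s) = s := by
  dsimp only [counitFun, unitFun, Functor.comp_map, Functor.op_map, Quiver.Hom.unop_op]
  exact map_map_eq_self (by simp) _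

variable (g)

/-- The adjunction `Φ ⊣ j⁻¹`. -/
def adj : Phi g K ⊣ K.overMapPullback (Type (u + 1)) g :=
  Adjunction.mkOfUnitCounit
    { unit :=
        { app F := ObjectProperty.homMk (unitPre g F.obj)
          naturality F G φ := by
            apply Sheaf.hom_ext
            ext T s
            exact unitFun_mapS φ.hom T.unop s }
      counit :=
        { app G' := ObjectProperty.homMk (counitPre g G'.obj)
          naturality G' H' ψ := by
            apply Sheaf.hom_ext
            ext T' z
            exact counitFun_mapS ψ.hom T'.unop z }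
      left_triangle := by
        ext F : 2
        apply Sheaf.hom_ext
        ext T' z
        exact left_triangle_fun F.obj z
      right_triangle := by
        ext G' : 2
        apply Sheaf.hom_ext
        ext T s
        exact right_triangle_fun G'.obj T.unop s }

end Groth.Agent.H7.AS
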