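import Groth.Agent.Lib.Helper7.AS2

set_option autoImplicit false

universe u w v₁ u₁

open CategoryTheory CategoryTheory.Limits Opposite

namespace Groth.Agent.H7.AS

section PB

variable {D : Type u₁} [Category.{v₁} D] {J : GrothendieckTopology D}

/-- Pullback squares of sheaves of types are detected sectionwise. -/
lemma sheaf_isPullback_iff {P F G H : Sheaf J (Type w)} (fst : P ⟶ F) (snd : P ⟶ H)
    (f : F ⟶ G) (g : H ⟶ G) :
    IsPullback fst snd f g ↔
      ∀ T : Dᵒᵖ, IsPullback (fst.hom.app T) (snd.hom.app T) (f.hom.app T) (g.hom.app T) := by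
  constructor
  · intro h T
    exact (h.map (sheafToPresheaf J (Type w))).app T
  · intro h
    have h' : IsPullback ((sheafToPresheaf J (Type w)).map fst) ((sheafToPresheaf J (Type w)).map snd)
        ((sheafToPresheaf J (Type w)).map f) ((sheafToPresheaf J (Type w)).map g) :=
      IsPullback.of_forall_isPullback_app h
    exact IsPullback.of_map (sheafToPresheaf J (Type w)) (by
      apply (sheafToPresheaf J (Type w)).map_injective
      simpa using h'.w) h'

/-- Elementwise version. -/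
lemma sheaf_isPullback_iff' {P F G H : Sheaf J (Type w)} (fst : P ⟶ F) (snd : P ⟶ H)
    (f : F ⟶ G) (g : H ⟶ G) :
    IsPullback fst snd f g ↔ fst ≫ f = snd ≫ g ∧
      ∀ T : Dᵒᵖ, (∀ x y : P.obj.obj T, fst.hom.app T x = fst.hom.app T y →
        snd.hom.app T x = snd.hom.app T y → x = y) ∧
        (∀ (x : F.obj.obj T) (y : H.obj.obj T), f.hom.app T x = g.hom.app T y →
          ∃ z : P.obj.obj T, fst.hom.app T z = x ∧ snd.hom.app T z = y) := by
  rw [sheaf_isPullback_iff]
  constructor
  · intro h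
    refine ⟨?_, fun T => ?_⟩
    · apply Sheaf.hom_ext
      ext T : 2
      exact (h T).w
    · obtain ⟨-, h2, h3⟩ := (Types.isPullback_iff _ _ _ _).1 (h T)
      exact ⟨fun x y h₁ h₂ => h2 x y ⟨h₁, h₂⟩, h3⟩
  · rintro ⟨hw, h⟩ T
    rw [Types.isPullback_iff]
    refine ⟨?_, fun x y hxy => (h T).1 x y hxy.1 hxy.2, (h T).2⟩
    have := congrArg (fun φ => φ.hom.app T) hw
    exact this

end PB

variable {C : Type (u + 1)} [Category.{u} C] {S S' : C} (g : S ⟶ S')
  (K : GrothendieckTopology C) [K.Subcanonical]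

section

variable {g}

lemma ShObj.mk_inj {P : (Over S)ᵒᵖ ⥤ Type (u + 1)} {T' : Over S'} {a : T' ⟶ Over.mk g}
    {s t : P.obj (op (lo g a))} (h : (⟨a, s⟩ : ShObj g P T') = ⟨a, t⟩) : s = t := by
  have := ShObj.s_eq_of_eq h
  simpa using this

lemma fib_unit (P : (Over S)ᵒᵖ ⥤ Type (u + 1)) (T : Over S) (s : P.obj (op T)) :
    fib (unitFun (g := g) P T s) rfl = s := by
  dsimp only [fib, unitFun]
  refine map_map_eq_self ?_ _
  exact Category.id_comp _

lemma eq_unit_fib {P : (Over S)ᵒᵖ ⥤ Type (u + 1)} {T : Over S}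
    (w : ShObj g P ((Over.map g).obj T)) (hw : w.a = aT g T) :
    w = unitFun P T (fib w hw) := by
  refine ShObj.ext' hw ?_
  dsimp only [fib, unitFun]
  exact map_congr₂ (by simp) _

lemma eq_res_unit {P : (Over S)ᵒᵖ ⥤ Type (u + 1)} {T' : Over S'} (z : ShObj g P T') :
    z = ShObj.res (isoA g z.a).inv (unitFun P (lo g z.a) z.s) :=
  (left_triangle_fun P z).symm

end

/-- `Φ` preserves pullback squares. -/
lemma Phi_isPullback {P F G H : Sheaf (K.over S) (Type (u + 1))} {fst : P ⟶ F} {snd : P ⟶ H}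
    {f : F ⟶ G} {h : H ⟶ G} (sq : IsPullback fst snd f h) :
    IsPullback ((Phi g K).map fst) ((Phi g K).map snd) ((Phi g K).map f) ((Phi g K).map h) := by
  rw [sheaf_isPullback_iff'] at sq ⊢
  obtain ⟨hw, hsq⟩ := sq
  refine ⟨by rw [← Functor.map_comp, ← Functor.map_comp, hw], fun T' => ⟨?_, ?_⟩⟩
  · rintro ⟨a, s⟩ ⟨b, t⟩ h1 h2
    have hab : a = b := congrArg ShObj.a h1
    subst hab
    have e1 : fst.hom.app _ s = fst.hom.app _ t := ShObj.mk_inj h1
    have e2 : snd.hom.app _ s = snd.hom.app _ t := ShObj.mk_inj h2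
    rw [(hsq _).1 s t e1 e2]
  · rintro ⟨a, s⟩ ⟨b, t⟩ h1
    have hab : a = b := congrArg ShObj.a h1
    subst hab
    have e1 : f.hom.app _ s = h.hom.app _ t := ShObj.mk_inj h1
    obtain ⟨z, hz1, hz2⟩ := (hsq _).2 s t e1
    exact ⟨⟨a, z⟩, by rw [← hz1]; rfl, by rw [← hz2]; rfl⟩

/-- The sheaf `h_X` on `Over X`. -/
abbrev yon (X : C) : Over X ⥤ Sheaf (K.over X) (Type (u + 1)) := (K.over X).uliftYoneda.{u + 1}

/-- Sections of a sheaf as maps from representables. -/
abbrev yE {X : C} {T : Over X} {F : Sheaf (K.over X) (Type (u + 1))} :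
    ((yon K X).obj T ⟶ F) ≃ F.obj.obj (op T) :=
  (K.over X).uliftYonedaEquiv

variable {g} in
/-- The canonical section of `Φ h_T` over `u T`. -/
abbrev thetaElt (T : Over S) : ShObj g ((yon K S).obj T).obj ((Over.map g).obj T) :=
  unitFun _ T ⟨𝟙 T⟩

/-- The canonical map `h_{uT} ⟶ Φ h_T`. -/
def thetaHom (T : Over S) :
    (yon K S').obj ((Over.map g).obj T) ⟶ (Phi g K).obj ((yon K S).obj T) :=
  (yE K).symm (thetaElt K T)

lemma thetaHom_app (T : Over S) {W' : Over S'} (f : W' ⟶ (Over.map g).obj T) :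
    (thetaHom g K T).hom.app (op W') ⟨f⟩ = (thetaElt K T).res f := rfl

lemma yon_map_apply {X : C} {T W V : Over X} (k : V ⟶ W) (h : W ⟶ T) :
    ((yon K X).obj T).obj.map k.op ⟨h⟩ = ⟨k ≫ h⟩ := rfl

lemma thetaHom_bijective (T : Over S) (W' : Over S') :
    Function.Bijective ((thetaHom g K T).hom.app (op W')) := by
  constructor
  · rintro ⟨f₁⟩ ⟨f₂⟩ h
    rw [thetaHom_app, thetaHom_app] at h
    have h2 := congrArg (fun x : ULift _ => x.down.left) (ShObj.s_eq_of_eq h)
    dsimp only [thetaElt, unitFun, ShObj.res] at h2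
    simp only [yon_map_apply] at h2
    have h3 : f₁ = f₂ := by
      apply Over.OverMorphism.ext
      simpa using h2
    rw [h3]
  · rintro ⟨a, ⟨k⟩⟩
    refine ⟨⟨(isoA g a).inv ≫ (Over.map g).map k⟩, ?_⟩
    rw [thetaHom_app, ShObj.res_comp]
    have e1 := eq_res_unit (⟨a, ⟨k⟩⟩ : ShObj g ((yon K S).obj T).obj W')
    rw [e1]
    congr 1
    refine (unitFun_res ((yon K S).obj T).obj k (ULift.up (𝟙 T))).symm.trans ?_
    congr 1
    rw [yon_map_apply, Category.comp_id]

/-- A morphism of sheaves of types which is bijective on all sections is an isomorphism. -/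
lemma isIso_of_bijective {D : Type u₁} [Category.{v₁} D] {J : GrothendieckTopology D}
    {F G : Sheaf J (Type w)} (φ : F ⟶ G)
    (h : ∀ T : Dᵒᵖ, Function.Bijective (φ.hom.app T)) : IsIso φ := by
  have h1 : ∀ T : Dᵒᵖ, IsIso (φ.hom.app T) := fun T => (isIso_iff_bijective _).2 (h T)
  have h2 : IsIso φ.hom := NatIso.isIso_of_isIso_app _
  have : IsIso ((sheafToPresheaf J (Type w)).map φ) := h2
  exact isIso_of_reflects_iso φ (sheafToPresheaf J (Type w))

instance thetaHom_isIso (T : Over S) : IsIso (thetaHom g K T) :=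
  isIso_of_bijective _ (fun W' => thetaHom_bijective g K T W'.unop)

/-- `θ_T : h_{uT} ≅ Φ h_T`. -/
noncomputable def theta (T : Over S) :
    (yon K S').obj ((Over.map g).obj T) ≅ (Phi g K).obj ((yon K S).obj T) :=
  asIso (thetaHom g K T)

lemma thetaHom_natural {V T : Over S} (k : V ⟶ T) :
    (yon K S').map ((Over.map g).map k) ≫ thetaHom g K T =
      thetaHom g K V ≫ (Phi g K).map ((yon K S).map k) := by
  apply (yE K).injective
  rw [GrothendieckTopology.uliftYonedaEquiv_comp, GrothendieckTopology.uliftYonedaEquiv_comp,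
    GrothendieckTopology.uliftYonedaEquiv_uliftYoneda_map, thetaHom_app]
  have e1 : (yE K) (thetaHom g K V) = thetaElt K V := Equiv.apply_symm_apply _ _
  rw [e1]
  show (thetaElt K T).res ((Over.map g).map k) = (thetaElt K V).mapS ((yon K S).map k).hom
  rw [← unitFun_res, ← unitFun_mapS]
  congr 1
  show ULift.up (k ≫ 𝟙 T) = ULift.up (𝟙 V ≫ k)
  rw [Category.comp_id, Category.id_comp]

lemma yon_map_hom_app {X : C} {T W V : Over X} (k : W ⟶ T) (h : V ⟶ W) :
    ((yon K X).map k).hom.app (op V) ⟨h⟩ = ⟨h ≫ k⟩ := rfl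

/-- Every point of `Φ G` comes from a point of `G`. -/
lemma decomp {G : Sheaf (K.over S) (Type (u + 1))} {T' : Over S'} (z : ShObj g G.obj T') :
    ((yE K).symm z : (yon K S').obj T' ⟶ (Phi g K).obj G) =
      (yon K S').map (isoA g z.a).inv ≫ thetaHom g K (lo g z.a) ≫
        (Phi g K).map ((yE K).symm z.s) := by
  apply (yE K).injective
  rw [Equiv.apply_symm_apply, GrothendieckTopology.uliftYonedaEquiv_comp,
    GrothendieckTopology.uliftYonedaEquiv_uliftYoneda_map]
  show z = ((thetaElt K (lo g z.a)).res (isoA g z.a).inv).mapS ((yE K).symm z.s).hom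
  rw [ShObj.mapS_res, ← unitFun_mapS]
  refine (eq_res_unit z).trans ?_
  congr 2
  exact ((yE K).apply_symm_apply z.s).symm

lemma thetaHom_natural' {V T : Over S} (k : V ⟶ T) :
    (Phi g K).map ((yon K S).map k) ≫ inv (thetaHom g K T) =
      inv (thetaHom g K V) ≫ (yon K S').map ((Over.map g).map k) := by
  rw [IsIso.comp_inv_eq, Category.assoc, IsIso.eq_inv_comp, thetaHom_natural]

/-- `Φ` turns a pullback square with representable corners into one. -/
lemma Phi_isPullback_yon {F G : Sheaf (K.over S) (Type (u + 1))} {f : F ⟶ G} {V T : Over S}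
    {fst : (yon K S).obj V ⟶ F} {snd : V ⟶ T} {ξ : (yon K S).obj T ⟶ G}
    (sq : IsPullback fst ((yon K S).map snd) f ξ) :
    IsPullback (thetaHom g K V ≫ (Phi g K).map fst) ((yon K S').map ((Over.map g).map snd))
      ((Phi g K).map f) (thetaHom g K T ≫ (Phi g K).map ξ) := by
  refine (Phi_isPullback g K sq).of_iso (theta g K V).symm (Iso.refl _) (theta g K T).symm
    (Iso.refl _) ?_ ?_ ?_ ?_
  · simp [theta]
  · simpa [theta] using thetaHom_natural' g K snd
  · simp
  · simp [theta]

/-- `Φ` preserves `P.relative`. -/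
theorem relative_Phi (P : MorphismProperty (Over S)) (P' : MorphismProperty (Over S'))
    [P'.RespectsIso] (hPP' : ∀ {V T : Over S} (k : V ⟶ T), P k → P' ((Over.map g).map k))
    {F G : Sheaf (K.over S) (Type (u + 1))} {f : F ⟶ G} (hf : P.relative (yon K S) f) :
    P'.relative (yon K S') ((Phi g K).map f) := by
  apply MorphismProperty.relative.of_exists
  intro T' ξ'
  obtain ⟨z, rfl⟩ := (yE K).symm.surjective ξ'
  have sq := Phi_isPullback_yon g K (hf.rep.isPullback ((yE K).symm z.s))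
  have hP := hf.property_snd ((yE K).symm z.s)
  refine ⟨(Over.map g).obj (hf.rep.pullback ((yE K).symm z.s)),
    thetaHom g K _ ≫ (Phi g K).map (hf.rep.fst ((yE K).symm z.s)),
    (Over.map g).map (hf.rep.snd ((yE K).symm z.s)) ≫ (isoA g z.a).hom, ?_, ?_⟩
  · rw [decomp]
    refine sq.of_iso (Iso.refl _) (Iso.refl _) ((yon K S').mapIso (isoA g z.a)) (Iso.refl _)
      ?_ ?_ ?_ ?_
    · simp
    · simp
    · simp
    · simp only [Iso.refl_hom, Category.comp_id, Functor.mapIso_hom]
      rw [← Category.assoc ((yon K S').map (isoA g z.a).hom), ← Functor.map_comp,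
        Iso.hom_inv_id, CategoryTheory.Functor.map_id, Category.id_comp]
  · exact (P'.cancel_right_of_respectsIso _ _).2 (hPP' _ hP)

/-- `Φ` reflects `P.relative` for representable morphisms. -/
theorem relative_of_Phi (P : MorphismProperty (Over S)) (P' : MorphismProperty (Over S'))
    (hP'P : ∀ {V T : Over S} (k : V ⟶ T), P' ((Over.map g).map k) → P k)
    {F G : Sheaf (K.over S) (Type (u + 1))} {f : F ⟶ G}
    (hrep : (yon K S).relativelyRepresentable f)
    (hf : P'.relative (yon K S') ((Phi g K).map f)) : P.relative (yon K S) f :=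
  ⟨hrep, fun _ _ _ _ snd sq => hP'P snd (hf.property _ _ _ (Phi_isPullback_yon g K sq))⟩

end Groth.Agent.H7.AS
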