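import Groth.Agent.Lib.Helper7.AS3

set_option autoImplicit false

universe u

open CategoryTheory CategoryTheory.Limits Opposite

namespace Groth.Agent.H7.AS

variable {C : Type (u + 1)} [Category.{u} C] {S S' : C} (g : S ⟶ S')
  (K : GrothendieckTopology C) [K.Subcanonical]

/-- The restriction functor `j⁻¹`. -/
abbrev jinv : Sheaf (K.over S') (Type (u + 1)) ⥤ Sheaf (K.over S) (Type (u + 1)) :=
  K.overMapPullback (Type (u + 1)) g

/-- `j⁻¹` preserves pullback squares. -/
lemma jinv_isPullback {P F G H : Sheaf (K.over S') (Type (u + 1))} {fst : P ⟶ F} {snd : P ⟶ H}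
    {f : F ⟶ G} {h : H ⟶ G} (sq : IsPullback fst snd f h) :
    IsPullback ((jinv g K).map fst) ((jinv g K).map snd) ((jinv g K).map f)
      ((jinv g K).map h) := by
  rw [sheaf_isPullback_iff] at sq ⊢
  intro T
  exact sq (op ((Over.map g).obj T.unop))

/-- `j⁻¹ h_{X'}` is represented by `X' ×_{S'} S`. -/
noncomputable def jinvRep (X' : Over S') [HasPullback X'.hom g] :
    ((jinv g K).obj ((yon K S').obj X')).obj.RepresentableBy
      (Over.mk (pullback.snd X'.hom g)) where
  homEquiv {T} :=
    { toFun k := ULift.up (Over.homMk (k.left ≫ pullback.fst X'.hom g) (by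
        have := Over.w k
        dsimp at this ⊢
        rw [Category.assoc, pullback.condition, ← Category.assoc, this]))
      invFun n := Over.homMk (pullback.lift (ULift.down n).left T.hom
          (by simpa using Over.w (ULift.down n)))
        (pullback.lift_snd _ _ _)
      left_inv k := by
        apply Over.OverMorphism.ext
        apply pullback.hom_ext
        · exact pullback.lift_fst _ _ _
        · exact (pullback.lift_snd _ _ _).trans (Over.w k).symm
      right_inv n := by
        apply ULift.ext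
        apply Over.OverMorphism.ext
        exact pullback.lift_fst _ _ _ }
  homEquiv_comp {T T'} f k := by
    apply ULift.ext
    apply Over.OverMorphism.ext
    show (f.left ≫ k.left) ≫ pullback.fst X'.hom g = f.left ≫ (k.left ≫ pullback.fst X'.hom g)
    rw [Category.assoc]

/-- `η_T : h_T ⟶ j⁻¹ h_{uT}`. -/
def etaY (T : Over S) :
    (yon K S).obj T ⟶ (jinv g K).obj ((yon K S').obj ((Over.map g).obj T)) :=
  (yE K).symm (ULift.up (𝟙 ((Over.map g).obj T)))

lemma etaY_app (T : Over S) {W : Over S} (k : W ⟶ T) :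
    (etaY g K T).hom.app (op W) ⟨k⟩ = ULift.up ((Over.map g).map k) := by
  show ULift.up ((Over.map g).map k ≫ 𝟙 _) = _
  rw [Category.comp_id]

/-- Sections of `j⁻¹ G'` over `T` are sections of `G'` over `u T`. -/
abbrev secJ {G' : Sheaf (K.over S') (Type (u + 1))} {T : Over S}
    (x : ((jinv g K).obj G').obj.obj (op T)) : G'.obj.obj (op ((Over.map g).obj T)) := x

/-- The transpose of a point of `j⁻¹ G'`. -/
abbrev transp {G' : Sheaf (K.over S') (Type (u + 1))} {T : Over S}
    (ξ : (yon K S).obj T ⟶ (jinv g K).obj G') : (yon K S').obj ((Over.map g).obj T) ⟶ G' :=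
  (yE K).symm (secJ g K ((yE K) ξ))

lemma eq_etaY_comp {G' : Sheaf (K.over S') (Type (u + 1))} {T : Over S}
    (ξ : (yon K S).obj T ⟶ (jinv g K).obj G') :
    ξ = etaY g K T ≫ (jinv g K).map (transp g K ξ) := by
  apply (yE K).injective
  rw [GrothendieckTopology.uliftYonedaEquiv_comp]
  have e1 : (yE K) (etaY g K T) = ULift.up (𝟙 ((Over.map g).obj T)) :=
    Equiv.apply_symm_apply _ _
  rw [e1]
  exact ((yE K).apply_symm_apply (secJ g K ((yE K) ξ))).symm

variable {g} in
/-- The object of `Over S` underlying `V'` with a map to `u T`. -/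
abbrev loT {T : Over S} {V' : Over S'} (snd' : V' ⟶ (Over.map g).obj T) : Over S :=
  lo g (snd' ≫ aT g T)

variable {g} in
/-- `snd'` as a morphism of `Over S`. -/
abbrev sndT {T : Over S} {V' : Over S'} (snd' : V' ⟶ (Over.map g).obj T) : loT snd' ⟶ T :=
  Over.homMk snd'.left (by simp)

/-- The map `h_V ⟶ j⁻¹ h_{V'}`. -/
def zetaY {T : Over S} {V' : Over S'} (snd' : V' ⟶ (Over.map g).obj T) :
    (yon K S).obj (loT snd') ⟶ (jinv g K).obj ((yon K S').obj V') :=
  (yE K).symm (ULift.up (isoA g (snd' ≫ aT g T)).hom)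

lemma zetaY_app {T : Over S} {V' : Over S'} (snd' : V' ⟶ (Over.map g).obj T) {W : Over S}
    (m : W ⟶ loT snd') :
    (zetaY g K snd').hom.app (op W) ⟨m⟩ =
      ULift.up ((Over.map g).map m ≫ (isoA g (snd' ≫ aT g T)).hom) := rfl

lemma small_square {T : Over S} {V' : Over S'} (snd' : V' ⟶ (Over.map g).obj T) :
    IsPullback (zetaY g K snd') ((yon K S).map (sndT snd'))
      ((jinv g K).map ((yon K S').map snd')) (etaY g K T) := by
  rw [sheaf_isPullback_iff']
  refine ⟨?_, fun W => ⟨?_, ?_⟩⟩
  · apply (yE K).injective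
    rw [GrothendieckTopology.uliftYonedaEquiv_comp, GrothendieckTopology.uliftYonedaEquiv_comp,
      GrothendieckTopology.uliftYonedaEquiv_uliftYoneda_map, etaY_app]
    have e1 : (yE K) (zetaY g K snd') = ULift.up (isoA g (snd' ≫ aT g T)).hom :=
      Equiv.apply_symm_apply _ _
    rw [e1]
    show ULift.up ((isoA g (snd' ≫ aT g T)).hom ≫ snd') = _
    congr 1
    ext
    simp
  · rintro ⟨m₁⟩ ⟨m₂⟩ h1 -
    rw [zetaY_app, zetaY_app] at h1
    have h2 := congrArg (fun x : ULift _ => x.down.left) h1
    have h3 : m₁ = m₂ := by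
      apply Over.OverMorphism.ext
      simpa using h2
    rw [h3]
  · rintro ⟨n⟩ ⟨k⟩ h1
    obtain ⟨W⟩ := W
    rw [etaY_app] at h1
    have h2 : n ≫ snd' = (Over.map g).map k := congrArg ULift.down h1
    have h3 : n.left ≫ snd'.left = k.left := by
      have := congrArg (fun x => x.left) h2
      simpa using this
    refine ⟨ULift.up (Over.homMk n.left (by
      dsimp
      rw [← Category.assoc, h3]
      exact Over.w k)), ?_, ?_⟩
    · rw [zetaY_app]
      congr 1
      ext
      simp
    · show ULift.up (_ ≫ sndT snd') = _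
      congr 1
      ext
      simpa using h3

/-- `j⁻¹` preserves `P.relative`. -/
theorem relative_jinv (P' : MorphismProperty (Over S')) (P : MorphismProperty (Over S))
    [P.RespectsIso]
    (hP'P : ∀ {T : Over S} {V' : Over S'} (snd' : V' ⟶ (Over.map g).obj T),
      P' snd' → P (sndT snd'))
    {F' G' : Sheaf (K.over S') (Type (u + 1))} {f' : F' ⟶ G'}
    (hf' : P'.relative (yon K S') f') : P.relative (yon K S) ((jinv g K).map f') := by
  apply MorphismProperty.relative.of_exists
  intro T ξ
  have sq := jinv_isPullback g K (hf'.rep.isPullback (transp g K ξ))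
  have hP := hf'.property_snd (transp g K ξ)
  have sq2 := (small_square g K (hf'.rep.snd (transp g K ξ))).paste_horiz sq
  rw [← eq_etaY_comp] at sq2
  exact ⟨_, _, _, sq2, hP'P _ hP⟩

end Groth.Agent.H7.AS
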