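import Groth.Agent.Lib.Helper7.AS4

set_option autoImplicit false

universe u

open CategoryTheory CategoryTheory.Limits Opposite

namespace Groth.Agent.H7.AS

variable {C : Type (u + 1)} [Category.{u} C] {S S' : C} (g : S ⟶ S')
  (K : GrothendieckTopology C) [K.Subcanonical]

/-- The sheaf `h_S` on `Over S'`. -/
abbrev hS : Sheaf (K.over S') (Type (u + 1)) := (yon K S').obj (Over.mk g)

/-- The structure map `Φ F ⟶ h_S`. -/
def piF (F : Sheaf (K.over S) (Type (u + 1))) : (Phi g K).obj F ⟶ hS g K :=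
  ObjectProperty.homMk
    { app T' := ↾fun (z : ShObj g F.obj T'.unop) => ULift.up z.a
      naturality T' W' f := by
        ext z
        rfl }

lemma piF_app (F : Sheaf (K.over S) (Type (u + 1))) (T' : Over S') (z : ShObj g F.obj T') :
    (piF g K F).hom.app (op T') z = ULift.up z.a := rfl

@[reassoc]
lemma piF_natural {F G : Sheaf (K.over S) (Type (u + 1))} (φ : F ⟶ G) :
    (Phi g K).map φ ≫ piF g K G = piF g K F := by
  apply Sheaf.hom_ext
  ext T' z
  rfl

variable {g K} in
lemma a_eq_of_over {F G : Sheaf (K.over S) (Type (u + 1))}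
    {m : (Phi g K).obj F ⟶ (Phi g K).obj G} (hm : m ≫ piF g K G = piF g K F) {T' : Over S'}
    (z : ShObj g F.obj T') : ShObj.a (m.hom.app (op T') z) = z.a := by
  have := congrArg (fun φ => φ.hom.app (op T') z) hm
  exact congrArg ULift.down this

theorem Phi_faithful {F G : Sheaf (K.over S) (Type (u + 1))} (n₁ n₂ : F ⟶ G)
    (h : (Phi g K).map n₁ = (Phi g K).map n₂) : n₁ = n₂ := by
  apply Sheaf.hom_ext
  ext T s
  have h1 := congrArg (fun φ => φ.hom.app (op ((Over.map g).obj T.unop))
    (unitFun F.obj T.unop s)) h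
  have h2 : (unitFun (g := g) F.obj T.unop s).mapS n₁.hom =
      (unitFun (g := g) F.obj T.unop s).mapS n₂.hom := h1
  rw [← unitFun_mapS, ← unitFun_mapS] at h2
  have h3 := fib_congr h2 rfl
  rwa [fib_unit, fib_unit] at h3

section Full

variable {g K}
variable {F G : Sheaf (K.over S) (Type (u + 1))} (m : (Phi g K).obj F ⟶ (Phi g K).obj G)
  (hm : m ≫ piF g K G = piF g K F)

/-- Action of `m` on sections, with the right type. -/
abbrev mApp {T' : Over S'} (z : ShObj g F.obj T') : ShObj g G.obj T' := m.hom.app (op T') z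

lemma mApp_res {W' T' : Over S'} (f : W' ⟶ T') (z : ShObj g F.obj T') :
    mApp m (z.res f) = (mApp m z).res f :=
  NatTrans.naturality_apply m.hom f.op z

include hm in
lemma mApp_a {T' : Over S'} (z : ShObj g F.obj T') : (mApp m z).a = z.a := a_eq_of_over hm z

/-- The preimage of `m` on sections. -/
def preFun (T : Over S) (s : F.obj.obj (op T)) : G.obj.obj (op T) :=
  fib (mApp m (unitFun F.obj T s)) (mApp_a m hm _)

lemma preFun_natural {V T : Over S} (k : V ⟶ T) (s : F.obj.obj (op T)) :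
    preFun m hm V (F.obj.map k.op s) = G.obj.map k.op (preFun m hm T s) := by
  dsimp only [preFun]
  have e1 : mApp m (unitFun F.obj V (F.obj.map k.op s)) =
      (mApp m (unitFun F.obj T s)).res ((Over.map g).map k) := by
    rw [unitFun_res, mApp_res]
  rw [fib_congr e1]
  exact fib_res k _ (mApp_a m hm _) _

/-- The preimage of `m`. -/
def preHom : F ⟶ G :=
  ObjectProperty.homMk
    { app T := ↾(preFun m hm T.unop)
      naturality T V k := by
        ext s
        exact preFun_natural m hm k.unop s }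

lemma mApp_unit (T : Over S) (s : F.obj.obj (op T)) :
    mApp m (unitFun F.obj T s) = unitFun G.obj T (preFun m hm T s) :=
  eq_unit_fib _ _

theorem Phi_map_preHom : (Phi g K).map (preHom m hm) = m := by
  apply Sheaf.hom_ext
  ext T' z
  show (z : ShObj g F.obj T'.unop).mapS (preHom m hm).hom = mApp m z
  conv_rhs => rw [eq_res_unit z, mApp_res, mApp_unit m hm]
  exact eq_res_unit (ShObj.mapS (preHom m hm).hom z)

end Full

section Fibre

/-- The terminal object of `Over S`. -/
abbrev one (S : C) : Over S := Over.mk (𝟙 S)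

abbrev toOne {S : C} (T : Over S) : T ⟶ one S := Over.homMk T.hom (by simp)

lemma toOne_unique {S : C} {T : Over S} (k : T ⟶ one S) : k = toOne T := by
  ext
  simpa using Over.w k

/-- `h_1`, the terminal representable sheaf on `Over S`. -/
abbrev h1 : Sheaf (K.over S) (Type (u + 1)) := (yon K S).obj (one S)

lemma h1_subsingleton (T : Over S) (x y : (h1 K (S := S)).obj.obj (op T)) : x = y := by
  obtain ⟨x⟩ := x
  obtain ⟨y⟩ := y
  rw [toOne_unique x, toOne_unique y]

/-- The unique map to `h_1`. -/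
def bang (Q : Sheaf (K.over S) (Type (u + 1))) : Q ⟶ h1 K :=
  ObjectProperty.homMk
    { app T := ↾fun _ => ULift.up (toOne T.unop)
      naturality T V k := by
        ext q
        exact h1_subsingleton K _ _ _ }

/-- The section `σ : h_1 ⟶ j⁻¹ h_S`. -/
def sigma : h1 K ⟶ (jinv g K).obj (hS g K) :=
  (yE K).symm (ULift.up (aT g (one S)))

lemma sigma_app (T : Over S) (x : (h1 K (S := S)).obj.obj (op T)) :
    (sigma g K).hom.app (op T) x = ULift.up (aT g T) := by
  obtain ⟨k⟩ := x
  show ULift.up ((Over.map g).map k ≫ aT g (one S)) = _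
  congr 1
  ext
  simpa using Over.w k

variable {g K}
variable {F' : Sheaf (K.over S') (Type (u + 1))} (π : F' ⟶ hS g K)
  {Q : Sheaf (K.over S) (Type (u + 1))} (fst : Q ⟶ (jinv g K).obj F')

/-- `fst : Q ⟶ j⁻¹ F'` identifies `Q` with the fibre of `π` over the tautological section. -/
structure IsFibre : Prop where
  inj : ∀ (T : Over S), Function.Injective (fst.hom.app (op T))
  mem : ∀ (T : Over S) (s : F'.obj.obj (op ((Over.map g).obj T))),
    (∃ q, fst.hom.app (op T) q = s) ↔ π.hom.app _ s = ULift.up (aT g T)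

lemma isFibre_of_isPullback {snd : Q ⟶ h1 K}
    (sq : IsPullback fst snd ((jinv g K).map π) (sigma g K)) : IsFibre π fst := by
  rw [sheaf_isPullback_iff'] at sq
  obtain ⟨hw, hsq⟩ := sq
  refine ⟨fun T q₁ q₂ h => (hsq (op T)).1 q₁ q₂ h (h1_subsingleton K _ _ _), fun T s => ⟨?_, ?_⟩⟩
  · rintro ⟨q, rfl⟩
    have := congrArg (fun φ => φ.hom.app (op T) q) hw
    exact this.trans (sigma_app g K T _)
  · intro hs
    obtain ⟨q, hq, -⟩ := (hsq (op T)).2 s (ULift.up (toOne T)) (hs.trans (sigma_app g K T _).symm)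
    exact ⟨q, hq⟩

lemma IsFibre.isPullback (h : IsFibre π fst) :
    IsPullback fst (bang K Q) ((jinv g K).map π) (sigma g K) := by
  rw [sheaf_isPullback_iff']
  refine ⟨?_, fun T => ⟨fun q₁ q₂ h1 _ => h.inj T.unop h1, fun s x hs => ?_⟩⟩
  · apply Sheaf.hom_ext
    ext T q
    exact ((h.mem T.unop _).1 ⟨q, rfl⟩).trans (sigma_app g K T.unop _).symm
  · obtain ⟨q, hq⟩ := (h.mem T.unop s).2 (hs.trans (sigma_app g K T.unop _))
    exact ⟨q, hq, h1_subsingleton K _ _ _⟩

/-- The comparison map `Φ Q ⟶ F'`. -/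
def epsQ : (Phi g K).obj Q ⟶ F' := (Phi g K).map fst ≫ (adj g K).counit.app F'

lemma epsQ_app {T' : Over S'} (z : ShObj g Q.obj T') :
    (epsQ fst).hom.app (op T') z =
      F'.obj.map (isoA g z.a).inv.op (fst.hom.app (op (lo g z.a)) z.s) := rfl

lemma pi_map (π : F' ⟶ hS g K) {W' T' : Over S'} (f : W' ⟶ T') (t : F'.obj.obj (op T'))
    (a : T' ⟶ Over.mk g) (ht : π.hom.app _ t = ULift.up a) :
    π.hom.app _ (F'.obj.map f.op t) = ULift.up (f ≫ a) := by
  have := NatTrans.naturality_apply π.hom f.op t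
  rw [this, ht]
  rfl

include π in
lemma IsFibre.pi_epsQ_app (h : IsFibre π fst) {T' : Over S'} (z : ShObj g Q.obj T') :
    π.hom.app _ ((epsQ fst).hom.app (op T') z) = ULift.up z.a := by
  rw [epsQ_app, pi_map π _ _ _ ((h.mem _ _).1 ⟨z.s, rfl⟩)]
  congr 1
  ext
  simp

theorem IsFibre.epsQ_pi (h : IsFibre π fst) : epsQ fst ≫ π = piF g K Q := by
  apply Sheaf.hom_ext
  ext T' z
  exact h.pi_epsQ_app π fst z

theorem IsFibre.epsQ_isIso (h : IsFibre π fst) : IsIso (epsQ fst) := by
  apply isIso_of_bijective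
  intro T'
  constructor
  · rintro ⟨a, q⟩ ⟨b, r⟩ hz
    have h1 := h.pi_epsQ_app π fst (⟨a, q⟩ : ShObj g Q.obj T'.unop)
    have h2 := h.pi_epsQ_app π fst (⟨b, r⟩ : ShObj g Q.obj T'.unop)
    have hab : a = b := by
      have := h1.symm.trans ((congrArg (π.hom.app _) hz).trans h2)
      exact congrArg ULift.down this
    subst hab
    have h3 : fst.hom.app _ q = fst.hom.app _ r := by
      have := congrArg (F'.obj.map (isoA g a).hom.op) hz
      rw [epsQ_app, epsQ_app] at this
      dsimp only at this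
      rwa [map_map_eq_self (by simp), map_map_eq_self (by simp)] at this
    rw [h.inj _ h3]
  · intro t
    obtain ⟨a, ha⟩ : ∃ a, π.hom.app _ t = ULift.up a := ⟨_, rfl⟩
    have h1 := pi_map π (isoA g a).hom t a ha
    have h2 : (isoA g a).hom ≫ a = aT g (lo g a) := by ext; simp
    rw [h2] at h1
    obtain ⟨q, hq⟩ := (h.mem _ _).2 h1
    refine ⟨(⟨a, q⟩ : ShObj g Q.obj T'.unop), ?_⟩
    rw [epsQ_app]
    dsimp only
    rw [hq]
    exact map_map_eq_self (by simp) _

/-- The unit exhibits `F` as the fibre of `Φ F ⟶ h_S`. -/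
theorem isFibre_unit (F : Sheaf (K.over S) (Type (u + 1))) :
    IsFibre (piF g K F) ((adj g K).unit.app F) := by
  constructor
  · intro T s₁ s₂ h
    have h2 : unitFun (g := g) F.obj T s₁ = unitFun F.obj T s₂ := h
    have h3 := fib_congr h2 rfl
    rwa [fib_unit, fib_unit] at h3
  · intro T w
    constructor
    · rintro ⟨q, rfl⟩
      rfl
    · intro hw
      have hw' : ShObj.a (w : ShObj g F.obj ((Over.map g).obj T)) = aT g T :=
        congrArg ULift.down hw
      exact ⟨fib (w : ShObj g F.obj ((Over.map g).obj T)) hw', (eq_unit_fib _ hw').symm⟩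

end Fibre

end Groth.Agent.H7.AS
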