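import Groth.Agent.Lib.Helper7.AS5
import Groth.Prelude.Def_AlgSp

set_option autoImplicit false

universe u

open CategoryTheory CategoryTheory.Limits Opposite AlgebraicGeometry

namespace Groth.Agent.H7.AS

open _root_.AlgSp

variable {S S' : Scheme.{u}} (g : S ⟶ S')

/-- The explicit `j_!` for fppf sheaves. -/
noncomputable abbrev PhiA : Sp S ⥤ Sp S' := Phi g Scheme.fppfTopology

/-- The abstract `j_!`. -/
noncomputable abbrev jsh : Sp S ⥤ Sp S' :=
  (Over.map g).sheafPullback (Type (u + 1)) (AlgSp.J S) (AlgSp.J S')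

/-- `j⁻¹`. -/
noncomputable abbrev jinvA : Sp S' ⥤ Sp S := Scheme.fppfTopology.overMapPullback (Type (u + 1)) g

/-- The explicit `j_!` is the abstract one. -/
noncomputable def PhiIso : PhiA g ≅ jsh g :=
  (adj g Scheme.fppfTopology).leftAdjointUniq
    (Functor.sheafAdjunctionContinuous (Over.map g) (Type (u + 1)) (AlgSp.J S) (AlgSp.J S'))

lemma relative_top_iff {C D : Type*} [Category C] [Category D] (F : C ⥤ D) {X Y : D}
    (f : X ⟶ Y) : (⊤ : MorphismProperty C).relative F f ↔ F.relativelyRepresentable f :=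
  ⟨fun h => h.rep, fun h => ⟨h, fun _ _ _ _ _ _ => trivial⟩⟩

instance : (⊤ : MorphismProperty (Over S)).RespectsIso := inferInstance

theorem representable_PhiA {F G : Sp S} {f : F ⟶ G} (hf : Representable f) :
    Representable (S := S') ((PhiA g).map f) :=
  (relative_top_iff _ _).1 (relative_Phi g Scheme.fppfTopology ⊤ ⊤ (fun _ _ => trivial)
    ((relative_top_iff _ _).2 hf))

theorem repWith_PhiA (P : MorphismProperty Scheme.{u}) [P.IsStableUnderBaseChange] {F G : Sp S}
    {f : F ⟶ G} (hf : RepWith P f) : RepWith (S := S') P ((PhiA g).map f) :=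
  relative_Phi g Scheme.fppfTopology (P.inverseImage (Over.forget S))
    (P.inverseImage (Over.forget S')) (fun _ hk => hk) hf

theorem repWith_of_PhiA (P : MorphismProperty Scheme.{u}) {F G : Sp S}
    {f : F ⟶ G} (hrep : Representable f) (hf : RepWith (S := S') P ((PhiA g).map f)) :
    RepWith P f :=
  relative_of_Phi g Scheme.fppfTopology (P.inverseImage (Over.forget S))
    (P.inverseImage (Over.forget S')) (fun _ hk => hk) hrep hf

/-- Every point of `Φ F` is representable if every point of `F` is. -/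
theorem representable_point_PhiA {F : Sp S}
    (hF : ∀ ⦃T : Over S⦄ (ξ : (AlgSp.yon S).obj T ⟶ F), Representable ξ) ⦃T' : Over S'⦄
    (ξ' : (AlgSp.yon S').obj T' ⟶ (PhiA g).obj F) : Representable ξ' := by
  obtain ⟨z, rfl⟩ := (yE Scheme.fppfTopology).symm.surjective ξ'
  rw [decomp]
  refine MorphismProperty.RespectsIso.precomp _ _ _ ?_
  have : IsIso (thetaHom g Scheme.fppfTopology (lo g z.a)) := inferInstance
  refine MorphismProperty.RespectsIso.precomp _ _ _ ?_
  exact representable_PhiA g (hF _)

/-- `Φ` preserves algebraic spaces. -/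
theorem isAlgSpace_PhiA {F : Sp S} (hF : IsAlgSpace F) : IsAlgSpace ((PhiA g).obj F) where
  diag := Functor.relativelyRepresentable.diag_of_map_from_obj
    (representable_point_PhiA g (fun _ ξ => hF.representable_from_yon ξ))
  atlas := by
    obtain ⟨U, p, hpe, hps⟩ := hF.atlas
    refine ⟨(Over.map g).obj U, thetaHom g Scheme.fppfTopology U ≫ (PhiA g).map p, ?_, ?_⟩
    · exact MorphismProperty.RespectsIso.precomp _ _ _ (repWith_PhiA g _ hpe)
    · exact MorphismProperty.RespectsIso.precomp _ _ _ (repWith_PhiA g _ hps)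

theorem S9896_main :
    (∀ X : Over S, Nonempty (((jsh g).obj ((AlgSp.yon S).obj X)).obj.RepresentableBy
      ((Over.map g).obj X))) ∧
      (∀ F : AlgSp.Space S, AlgSp.IsAlgSpace ((jsh g).obj F.obj)) := by
  constructor
  · intro X
    exact ⟨AlgSp.representableByOfIso (theta g Scheme.fppfTopology X ≪≫ (PhiIso g).app _)⟩
  · intro F
    exact (isAlgSpace_PhiA g F.property).of_iso ((PhiIso g).app _)

theorem S9899_main (F : AlgSp.Space S) (T : Over S)
    (f : (AlgSp.yon S).obj T ⟶ F.obj) (P : MorphismProperty Scheme.{u})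
    [P.IsStableUnderBaseChange] :
    AlgSp.RepWith (S := S') P ((jsh g).map f) ↔ AlgSp.RepWith P f := by
  have e : Arrow.mk ((PhiA g).map f) ≅ Arrow.mk ((jsh g).map f) :=
    Arrow.isoMk ((PhiIso g).app _) ((PhiIso g).app _) ((PhiIso g).hom.naturality f).symm
  rw [← (RepWith (S := S') P).arrow_mk_iso_iff e]
  exact ⟨repWith_of_PhiA g P (F.property.representable_from_yon f), repWith_PhiA g P⟩

end Groth.Agent.H7.AS
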