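import Groth.Agent.Lib.Helper7.AS6

set_option autoImplicit false

universe u

open CategoryTheory CategoryTheory.Limits Opposite AlgebraicGeometry

namespace Groth.Agent.H7.AS

open _root_.AlgSp

variable {S S' : Scheme.{u}} (g : S ⟶ S')

theorem repWith_jinvA (P : MorphismProperty Scheme.{u}) [P.IsStableUnderBaseChange]
    {F' G' : Sp S'} {f' : F' ⟶ G'} (hf' : RepWith (S := S') P f') :
    RepWith (S := S) P ((jinvA g).map f') :=
  relative_jinv g Scheme.fppfTopology (P.inverseImage (Over.forget S'))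
    (P.inverseImage (Over.forget S)) (fun _ h => h) hf'

theorem representable_jinvA {F' G' : Sp S'} {f' : F' ⟶ G'} (hf' : Representable (S := S') f') :
    Representable (S := S) ((jinvA g).map f') :=
  (relative_top_iff _ _).1 (relative_jinv g Scheme.fppfTopology ⊤ ⊤ (fun _ _ => trivial)
    ((relative_top_iff _ _).2 hf'))

/-- `h_{X' ×_{S'} S} ≅ j⁻¹ h_{X'}`. -/
noncomputable def jinvYonIso (X' : Over S') :
    (AlgSp.yon S).obj (Over.mk (pullback.snd X'.hom g)) ≅ (jinvA g).obj ((AlgSp.yon S').obj X') :=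
  AlgSp.isoOfRepresentableBy (jinvRep g Scheme.fppfTopology X')

theorem representable_point_jinvA {F' : Sp S'}
    (hF' : ∀ ⦃T' : Over S'⦄ (ξ' : (AlgSp.yon S').obj T' ⟶ F'), Representable ξ') ⦃T : Over S⦄
    (ξ : (AlgSp.yon S).obj T ⟶ (jinvA g).obj F') : Representable ξ := by
  rw [eq_etaY_comp g Scheme.fppfTopology ξ]
  refine (Representable (S := S)).comp_mem _ _ ?_ (representable_jinvA g (hF' _))
  have : etaY g Scheme.fppfTopology T =
      (etaY g Scheme.fppfTopology T ≫ (jinvYonIso g _).inv) ≫ (jinvYonIso g _).hom := by simp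
  rw [this]
  exact MorphismProperty.RespectsIso.postcomp _ _ _ (representable_of_yon _)

/-- `j⁻¹` preserves algebraic spaces. -/
theorem isAlgSpace_jinvA {F' : Sp S'} (hF' : IsAlgSpace F') : IsAlgSpace ((jinvA g).obj F') where
  diag := Functor.relativelyRepresentable.diag_of_map_from_obj
    (representable_point_jinvA g (fun _ ξ => hF'.representable_from_yon ξ))
  atlas := by
    obtain ⟨U', p', hpe, hps⟩ := hF'.atlas
    refine ⟨Over.mk (pullback.snd U'.hom g), (jinvYonIso g U').hom ≫ (jinvA g).map p', ?_, ?_⟩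
    · exact MorphismProperty.RespectsIso.precomp _ _ _ (repWith_jinvA g _ hpe)
    · exact MorphismProperty.RespectsIso.precomp _ _ _ (repWith_jinvA g _ hps)

theorem S9897_main :
    (∀ X' : Over S', Nonempty (((Scheme.fppfTopology.overMapPullback (Type (u + 1)) g).obj
      ((AlgSp.yon S').obj X')).obj.RepresentableBy (Over.mk (pullback.snd X'.hom g)))) ∧
      (∀ F' : AlgSp.Space S', AlgSp.IsAlgSpace
        ((Scheme.fppfTopology.overMapPullback (Type (u + 1)) g).obj F'.obj)) :=
  ⟨fun X' => ⟨jinvRep g Scheme.fppfTopology X'⟩, fun F' => isAlgSpace_jinvA g F'.property⟩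

end Groth.Agent.H7.AS
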