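import Groth.Agent.Lib.Helper7.AS7
import Groth.Agent.Lib.Helper5.AlgSp.FibreProduct

set_option autoImplicit false

universe u

open CategoryTheory CategoryTheory.Limits Opposite AlgebraicGeometry

namespace Groth.Agent.H7.AS

open _root_.AlgSp

variable {S S' : Scheme.{u}} (g : S ⟶ S')

/-- If `Φ F` is an algebraic space over `S'` then `F` is an algebraic space over `S`. -/
theorem isAlgSpace_of_PhiA {F : Sp S} (h : IsAlgSpace ((PhiA g).obj F)) : IsAlgSpace F :=
  Groth.Agent.H5.AlgSp.isAlgSpace_pullback
    (isAlgSpace_jinvA g (IsAlgSpace.yon_obj (Over.mk g))).diag (isAlgSpace_jinvA g h)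
    (IsAlgSpace.yon_obj (one S)) (isFibre_unit (g := g) (K := Scheme.fppfTopology) F).isPullback

/-- More generally, fibres of algebraic spaces over `h_S` are algebraic spaces. -/
theorem isAlgSpace_of_isFibre {F' : Sp S'} (hF' : IsAlgSpace F')
    (π : F' ⟶ (AlgSp.yon S').obj (Over.mk g)) {Q : Sp S} (fst : Q ⟶ (jinvA g).obj F')
    (h : IsFibre (g := g) (K := Scheme.fppfTopology) π fst) : IsAlgSpace Q :=
  Groth.Agent.H5.AlgSp.isAlgSpace_pullback
    (isAlgSpace_jinvA g (IsAlgSpace.yon_obj (Over.mk g))).diag (isAlgSpace_jinvA g hF')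
    (IsAlgSpace.yon_obj (one S)) h.isPullback

/-- The comparison `Φ j⁻¹ F' ⟶ h_S ⨯ F'`. -/
noncomputable def prodCmp (F' : Sp S') :
    (PhiA g).obj ((jinvA g).obj F') ⟶ (AlgSp.yon S').obj (Over.mk g) ⨯ F' :=
  prod.lift (piF g Scheme.fppfTopology ((jinvA g).obj F'))
    ((adj g Scheme.fppfTopology).counit.app F')

lemma counit_app_app (F' : Sp S') {T' : Over S'} (z : ShObj g ((jinvA g).obj F').obj T') :
    ((adj g Scheme.fppfTopology).counit.app F').hom.app (op T') z =
      F'.obj.map (isoA g z.a).inv.op z.s := rfl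

instance prodCmp_isIso (F' : Sp S') : IsIso (prodCmp g F') := by
  apply Groth.Agent.H5.AlgSp.isIso_of_yon_bijective
  intro T'
  constructor
  · intro x y hxy
    dsimp only [prodCmp] at hxy
    have h1 : x ≫ piF g Scheme.fppfTopology ((jinvA g).obj F') =
        y ≫ piF g Scheme.fppfTopology ((jinvA g).obj F') := by
      have := congrArg (· ≫ prod.fst) hxy
      simpa only [Category.assoc, prod.lift_fst] using this
    have h2 : x ≫ (adj g Scheme.fppfTopology).counit.app F' =
        y ≫ (adj g Scheme.fppfTopology).counit.app F' := by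
      have := congrArg (· ≫ prod.snd) hxy
      simpa only [Category.assoc, prod.lift_snd] using this
    apply (yE Scheme.fppfTopology).injective
    have e1 := congrArg (yE Scheme.fppfTopology) h1
    have e2 := congrArg (yE Scheme.fppfTopology) h2
    rw [GrothendieckTopology.uliftYonedaEquiv_comp, GrothendieckTopology.uliftYonedaEquiv_comp]
      at e1 e2
    generalize (yE Scheme.fppfTopology) x = zx at e1 e2 ⊢
    generalize (yE Scheme.fppfTopology) y = zy at e1 e2 ⊢
    obtain ⟨a, s⟩ := zx
    obtain ⟨b, t⟩ := zy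
    have hab : a = b := congrArg ULift.down e1
    subst hab
    rw [counit_app_app, counit_app_app] at e2
    have : s = t := by
      have := congrArg (F'.obj.map (isoA g a).hom.op) e2
      dsimp only at this
      rwa [map_map_eq_self (by simp), map_map_eq_self (by simp)] at this
    rw [this]
  · intro w
    let a := ((yE Scheme.fppfTopology) (w ≫ prod.fst)).down
    let t := (yE Scheme.fppfTopology) (w ≫ prod.snd)
    let z : ShObj g ((jinvA g).obj F').obj T' := ⟨a, F'.obj.map (isoA g a).hom.op t⟩
    refine ⟨(yE Scheme.fppfTopology).symm z, ?_⟩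
    dsimp only [prodCmp]
    apply Limits.prod.hom_ext
    · rw [Category.assoc, prod.lift_fst]
      apply (yE Scheme.fppfTopology).injective
      rw [GrothendieckTopology.uliftYonedaEquiv_comp, Equiv.apply_symm_apply]
      rfl
    · rw [Category.assoc, prod.lift_snd]
      apply (yE Scheme.fppfTopology).injective
      rw [GrothendieckTopology.uliftYonedaEquiv_comp, Equiv.apply_symm_apply, counit_app_app]
      exact map_map_eq_self (by simp) _

theorem S9893_main (F' : AlgSp.Sp S') :
    AlgSp.IsAlgSpace ((Scheme.fppfTopology.overMapPullback (Type (u + 1)) g).obj F') ↔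
      AlgSp.IsAlgSpace ((AlgSp.yon S').obj (Over.mk g) ⨯ F') := by
  constructor
  · intro h
    exact (isAlgSpace_PhiA g h).of_iso (asIso (prodCmp g F'))
  · intro h
    exact isAlgSpace_of_PhiA g (h.of_iso (asIso (prodCmp g F')).symm)

end Groth.Agent.H7.AS
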