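import Groth.Agent.Lib.Helper7.AS8

set_option autoImplicit false

universe u

open CategoryTheory CategoryTheory.Limits Opposite AlgebraicGeometry

namespace Groth.Agent.H7.AS

open _root_.AlgSp

variable {S S' : Scheme.{u}} (g : S ⟶ S')

/-- `h_S` as an algebraic space over `S'`. -/
noncomputable abbrev hSsp : Space S' := (AlgSp.ofScheme S').obj (Over.mk g)

/-- `Φ F` as an algebraic space. -/
noncomputable abbrev PhiSp (F : Space S) : Space S' :=
  ⟨(PhiA g).obj F.obj, isAlgSpace_PhiA g F.property⟩

/-- The functor `F ↦ (Φ F ⟶ h_S)`. -/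
noncomputable def E0 : Space S ⥤ Over (hSsp g) where
  obj F := Over.mk (Y := PhiSp g F) (ObjectProperty.homMk (piF g Scheme.fppfTopology F.obj))
  map {F G} φ := Over.homMk (ObjectProperty.homMk ((PhiA g).map φ.hom)) (by
    apply ObjectProperty.hom_ext
    exact piF_natural g Scheme.fppfTopology φ.hom)
  map_id F := by
    apply Over.OverMorphism.ext
    apply ObjectProperty.hom_ext
    exact (PhiA g).map_id F.obj
  map_comp φ ψ := by
    apply Over.OverMorphism.ext
    apply ObjectProperty.hom_ext
    exact (PhiA g).map_comp φ.hom ψ.hom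

instance : (E0 g).Faithful where
  map_injective {F G} φ ψ h := by
    apply ObjectProperty.hom_ext
    apply Phi_faithful g Scheme.fppfTopology
    have := congrArg (fun m => m.left.hom) h
    exact this

instance : (E0 g).Full where
  map_surjective {F G} m := by
    have hm : m.left.hom ≫ piF g Scheme.fppfTopology G.obj = piF g Scheme.fppfTopology F.obj := by
      have := congrArg (fun m => m.hom) (Over.w m)
      exact this
    refine ⟨ObjectProperty.homMk (preHom m.left.hom hm), ?_⟩
    apply Over.OverMorphism.ext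
    apply ObjectProperty.hom_ext
    exact Phi_map_preHom m.left.hom hm

instance : (E0 g).EssSurj where
  mem_essImage X := by
    let π : X.left.obj ⟶ (AlgSp.yon S').obj (Over.mk g) := X.hom.hom
    let Q : Sp S := pullback ((jinvA g).map π) (sigma g Scheme.fppfTopology)
    let fstQ : Q ⟶ (jinvA g).obj X.left.obj := pullback.fst _ _
    have hfib : IsFibre (g := g) (K := Scheme.fppfTopology) π fstQ :=
      isFibre_of_isPullback π fstQ (IsPullback.of_hasPullback _ _)
    have hQ : IsAlgSpace Q := isAlgSpace_of_isFibre g X.left.property π fstQ hfib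
    have hiso : IsIso (epsQ (g := g) (K := Scheme.fppfTopology) fstQ) := hfib.epsQ_isIso
    let e : (PhiA g).obj Q ≅ X.left.obj := @asIso _ _ _ _ _ hiso
    refine ⟨⟨Q, hQ⟩, ⟨Over.isoMk (ObjectProperty.isoMk _ e) ?_⟩⟩
    apply ObjectProperty.hom_ext
    exact hfib.epsQ_pi

instance : (E0 g).IsEquivalence where

theorem S9898_main :
    ∃ E : AlgSp.Space S ≌ Over ((AlgSp.ofScheme S').obj (Over.mk g)),
      Nonempty (E.functor ⋙ Over.forget _ ⋙ ObjectProperty.ι (AlgSp.IsAlgSpace (S := S')) ≅
        ObjectProperty.ι (AlgSp.IsAlgSpace (S := S)) ⋙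
          ((Over.map g).sheafPullback (Type (u + 1)) (AlgSp.J S) (AlgSp.J S'))) := by
  refine ⟨(E0 g).asEquivalence, ⟨?_⟩⟩
  refine (?_ : (E0 g) ⋙ Over.forget _ ⋙ ObjectProperty.ι (AlgSp.IsAlgSpace (S := S')) ≅
    ObjectProperty.ι (AlgSp.IsAlgSpace (S := S)) ⋙ PhiA g) ≪≫
      Functor.isoWhiskerLeft _ (PhiIso g)
  exact NatIso.ofComponents (fun F => Iso.refl _) (by
    intro F G φ
    simp only [Iso.refl_hom]
    exact (Category.comp_id _).trans (Category.id_comp _).symm)

end Groth.Agent.H7.AS
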