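import Mathlib

namespace Groth.Agent.H7.ASCov

open PowerSeries

variable {k : Type*} [Field k]

lemma hasSubst_Xu (u : PowerSeries k) : HasSubst (X * u : PowerSeries k) :=
  HasSubst.of_constantCoeff_zero' (by simp)

/-- the substitution `t ↦ t * u` as an algebra endomorphism of `k⟦t⟧`. -/
noncomputable def sig (u : PowerSeries k) : PowerSeries k →ₐ[k] PowerSeries k :=
  substAlgHom (hasSubst_Xu u)

lemma sig_apply (u h : PowerSeries k) : sig u h = subst (X * u) h := by
  rw [sig, coe_substAlgHom]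

lemma sig_X (u : PowerSeries k) : sig u X = X * u := substAlgHom_X _

/-- the principal congruence subgroup of units `≡ 1 mod X^n`. -/
noncomputable def G1 (k : Type*) [Field k] (n : ℕ) : Subgroup (PowerSeries k)ˣ :=
  (Units.map ((Ideal.Quotient.mk (Ideal.span {(X : PowerSeries k) ^ n})) :
    PowerSeries k →+* _).toMonoidHom).ker

lemma mem_G1 {n : ℕ} {x : (PowerSeries k)ˣ} :
    x ∈ G1 k n ↔ (X : PowerSeries k) ^ n ∣ (x : PowerSeries k) - 1 := by
  rw [G1, MonoidHom.mem_ker, Units.ext_iff, Units.coe_map, Units.val_one,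
    ← Ideal.mem_span_singleton, ← Ideal.Quotient.eq_zero_iff_mem, map_sub, map_one, sub_eq_zero]
  rfl

lemma dvd_sig_sub {n : ℕ} {u : PowerSeries k} (hu : (X : PowerSeries k) ^ n ∣ u - 1)
    (h : PowerSeries k) : (X : PowerSeries k) ^ n ∣ sig u h - h := by
  set I := Ideal.span {(X : PowerSeries k) ^ n} with hI
  let φ₁ : PowerSeries k →+* PowerSeries k ⧸ I := (Ideal.Quotient.mk I).comp (sig u).toRingHom
  let φ₂ : PowerSeries k →+* PowerSeries k ⧸ I := Ideal.Quotient.mk I
  have hX : φ₁ X = φ₂ X := by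
    simp only [φ₁, φ₂, RingHom.comp_apply]
    rw [Ideal.Quotient.eq, Ideal.mem_span_singleton]
    show X ^ n ∣ sig u X - X
    rw [sig_X]
    have : X * u - X = X * (u - 1) := by ring
    rw [this]; exact Dvd.dvd.mul_left hu X
  have hpoly : ∀ q : Polynomial k, φ₁ (q : PowerSeries k) = φ₂ q := by
    intro q
    have : φ₁.comp (Polynomial.coeToPowerSeries.ringHom) =
        φ₂.comp Polynomial.coeToPowerSeries.ringHom := by
      apply Polynomial.ringHom_ext
      · intro a
        simp only [φ₁, φ₂, RingHom.comp_apply, Polynomial.coeToPowerSeries.ringHom_apply,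
          Polynomial.coe_C]
        congr 1
        have : (C a : PowerSeries k) = algebraMap k (PowerSeries k) a := rfl
        rw [this]
        exact (sig u).commutes a
      · simpa using hX
    exact RingHom.congr_fun this q
  have hmul : ∀ g : PowerSeries k, φ₁ (X ^ n * g) = φ₂ (X ^ n * g) := by
    intro g
    rw [map_mul, map_mul, map_pow, map_pow, hX]
    have : φ₂ X ^ n = 0 := by
      rw [← map_pow]
      exact Ideal.Quotient.eq_zero_iff_mem.mpr (Ideal.mem_span_singleton_self _)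
    rw [this, zero_mul, zero_mul]
  have hdecomp : ∃ g, h = (trunc n h : PowerSeries k) + X ^ n * g := by
    have : X ^ n ∣ h - (trunc n h : PowerSeries k) := by
      rw [X_pow_dvd_iff]; intro m hm
      rw [map_sub, Polynomial.coeff_coe, coeff_trunc, if_pos hm, sub_self]
    obtain ⟨g, hg⟩ := this
    exact ⟨g, by rw [← hg]; ring⟩
  obtain ⟨g, hg⟩ := hdecomp
  have : φ₁ h = φ₂ h := by rw [hg, map_add, map_add, hpoly, hmul]
  rw [← Ideal.mem_span_singleton]; exact Ideal.Quotient.eq.mp this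

/-- roots of unity with constant term 1 are trivial. -/
lemma eq_one_of_pow_eq_one {n : ℕ} (hn : (n : k) ≠ 0) {x : PowerSeries k}
    (hx : x ^ n = 1) (hx1 : constantCoeff x = 1) : x = 1 := by
  have h1 : (∑ i ∈ Finset.range n, x ^ i) * (x - 1) = 0 := by
    rw [geom_sum_mul, hx, sub_self]
  have h2 : (∑ i ∈ Finset.range n, x ^ i) ≠ 0 := by
    intro h0
    have := congrArg constantCoeff h0
    simp [map_sum, hx1] at this
    exact hn this
  rcases mul_eq_zero.mp h1 with h | h
  · exact absurd h h2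
  · exact sub_eq_zero.mp h

/-- `u ≡ 1 mod X^n`. -/
lemma dvd_u_sub_one {n : ℕ} (hn : (n : k) ≠ 0) {u : PowerSeries k}
    (hu1 : constantCoeff u = 1) (hun : u ^ n * (1 + X ^ n) = 1) :
    (X : PowerSeries k) ^ n ∣ u - 1 := by
  set G := ∑ i ∈ Finset.range n, u ^ i with hG
  have h1 : G * (u - 1) = - (X ^ n * u ^ n) := by
    rw [geom_sum_mul]
    linear_combination hun
  have hGc : constantCoeff G = (n : k) := by
    simp [hG, map_sum, hu1]
  have hGu : IsUnit G := by
    rw [isUnit_iff_constantCoeff, hGc]; exact isUnit_iff_ne_zero.mpr hn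
  obtain ⟨g, hg⟩ := hGu
  refine ⟨- (u ^ n * (g⁻¹ : (PowerSeries k)ˣ)), ?_⟩
  have : u - 1 = (g⁻¹ : (PowerSeries k)ˣ) * (G * (u - 1)) := by
    rw [← mul_assoc, ← hg, Units.inv_mul, one_mul]
  rw [this, h1]; ring


/-- `u_l` with `σ^l(X) = X * u_l`. -/
noncomputable def ul (u : PowerSeries k) : ℕ → PowerSeries k
  | 0 => 1
  | (l+1) => u * sig u (ul u l)

lemma ul_pow {n : ℕ} {u : PowerSeries k} (hun : u ^ n * (1 + X ^ n) = 1) (l : ℕ) :
    ul u l ^ n * (1 + (l : PowerSeries k) * X ^ n) = 1 := by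
  induction l with
  | zero => simp [ul]
  | succ l ih =>
    have h1 := congrArg (sig u) ih
    rw [map_mul, map_pow, map_add, map_one, map_mul, map_natCast, map_pow, sig_X] at h1
    simp only [ul]
    rw [mul_pow]
    push_cast
    linear_combination h1 + (sig u (ul u l)) ^ n * hun

lemma ul_dvd {n : ℕ} {u : PowerSeries k} (hu : (X : PowerSeries k) ^ n ∣ u - 1) (l : ℕ) :
    (X : PowerSeries k) ^ n ∣ ul u l - 1 := by
  induction l with
  | zero => simp [ul]
  | succ l ih =>
    simp only [ul]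
    have : u * sig u (ul u l) - 1 =
        u * (sig u (ul u l) - ul u l) + u * (ul u l - 1) + (u - 1) := by ring
    rw [this]
    exact dvd_add (dvd_add (Dvd.dvd.mul_left (dvd_sig_sub hu _) _) (Dvd.dvd.mul_left ih _)) hu

lemma constantCoeff_eq_one_of_dvd {n : ℕ} (hn : 0 < n) {x : PowerSeries k}
    (hx : (X : PowerSeries k) ^ n ∣ x - 1) : constantCoeff x = 1 := by
  have h1 : (X : PowerSeries k) ∣ x - 1 := dvd_trans (dvd_pow_self X hn.ne') hx
  rw [X_dvd_iff, map_sub, map_one, sub_eq_zero] at h1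
  exact h1

lemma ul_p (p : ℕ) [CharP k p] {n : ℕ} (hn : 0 < n) (hnk : (n : k) ≠ 0) {u : PowerSeries k}
    (hu : (X : PowerSeries k) ^ n ∣ u - 1) (hun : u ^ n * (1 + X ^ n) = 1) :
    ul u p = 1 := by
  have h1 := ul_pow hun p
  have hp0 : ((p : ℕ) : PowerSeries k) = 0 := by
    rw [← map_natCast (C (R := k))]; simp [CharP.cast_eq_zero]
  rw [hp0, zero_mul, add_zero, mul_one] at h1
  exact eq_one_of_pow_eq_one hnk h1 (constantCoeff_eq_one_of_dvd hn (ul_dvd hu p))

/-- the unit part of the norm of `X`. -/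
noncomputable def Uprod (u : PowerSeries k) (p : ℕ) : PowerSeries k :=
  ∏ l ∈ Finset.range p, ul u l

lemma Uprod_dvd {n : ℕ} {u : PowerSeries k} (hu : (X : PowerSeries k) ^ n ∣ u - 1) (p : ℕ) :
    (X : PowerSeries k) ^ n ∣ Uprod u p - 1 := by
  rw [← Ideal.mem_span_singleton, ← Ideal.Quotient.eq_zero_iff_mem, map_sub, map_one, Uprod,
    map_prod]
  rw [Finset.prod_eq_one, sub_self]
  intro l _
  have := ul_dvd hu l
  rw [← Ideal.mem_span_singleton, ← Ideal.Quotient.eq_zero_iff_mem, map_sub, map_one,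
    sub_eq_zero] at this
  exact this

lemma Uprod_key (p : ℕ) [CharP k p] {n : ℕ} (hn : 0 < n) (hnk : (n : k) ≠ 0) {u : PowerSeries k}
    (hu : (X : PowerSeries k) ^ n ∣ u - 1) (hun : u ^ n * (1 + X ^ n) = 1) :
    u ^ p * sig u (Uprod u p) = Uprod u p := by
  have h1 : u ^ p * sig u (Uprod u p) = ∏ l ∈ Finset.range p, ul u (l + 1) := by
    rw [Uprod, map_prod]
    have : u ^ p = ∏ _l ∈ Finset.range p, u := by
      rw [Finset.prod_const, Finset.card_range]
    rw [this, ← Finset.prod_mul_distrib]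
    rfl
  have h2 := Finset.prod_range_succ' (ul u) p
  rw [Finset.prod_range_succ, ul_p p hn hnk hu hun] at h2
  have h3 : ul u 0 = 1 := rfl
  rw [h3, mul_one, mul_one] at h2
  rw [h1, ← h2, Uprod]

theorem exists_coboundary (p : ℕ) [Fact p.Prime] [CharP k p] (n : ℕ) (hn : 0 < n) (hpn : ¬ p ∣ n)
    (u : PowerSeries k) (hu1 : constantCoeff u = 1) (hun : u ^ n * (1 + X ^ n) = 1) (hu : IsUnit u)
    (a : ℤ) (m : ℕ) (hmn : m ≤ n) (hdvd : (p : ℤ) ∣ a - m) (c : PowerSeries k)
    (hc : X ^ m * c = ((hu.unit ^ (a - m) : (PowerSeries k)ˣ) : PowerSeries k) - 1) :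
    ∃ h : PowerSeries k,
      ((hu.unit ^ a : (PowerSeries k)ˣ) : PowerSeries k) * subst (X * u) h - h = c := by
  have hnk : (n : k) ≠ 0 := by
    rw [Ne, CharP.cast_eq_zero_iff k p]; exact hpn
  have hud := dvd_u_sub_one hnk hu1 hun
  have hkey := Uprod_key p hn hnk hud hun
  have hUd := Uprod_dvd hud p
  have hU1 : constantCoeff (Uprod u p) = 1 := constantCoeff_eq_one_of_dvd hn hUd
  have hUu : IsUnit (Uprod u p) := by rw [isUnit_iff_constantCoeff, hU1]; exact isUnit_one
  obtain ⟨j, hj⟩ := hdvd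
  set Uu := hUu.unit with hUudef
  have hkeyu : hu.unit ^ p * Units.map (sig u : PowerSeries k →* PowerSeries k) Uu = Uu := by
    apply Units.ext
    rw [Units.val_mul, Units.val_pow_eq_pow_val, Units.coe_map]
    exact hkey
  have hkeyj : hu.unit ^ (a - m) *
      Units.map (sig u : PowerSeries k →* PowerSeries k) (Uu ^ j) = Uu ^ j := by
    rw [hj, zpow_mul, zpow_natCast, map_zpow, ← mul_zpow, hkeyu]
  have hkeyj' : ((hu.unit ^ (a - m) : (PowerSeries k)ˣ) : PowerSeries k) *
      sig u ((Uu ^ j : (PowerSeries k)ˣ) : PowerSeries k) =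
        ((Uu ^ j : (PowerSeries k)ˣ) : PowerSeries k) := by
    have := congrArg Units.val hkeyj
    rwa [Units.val_mul, Units.coe_map] at this
  have hmem : Uu ^ j ∈ G1 k n := Subgroup.zpow_mem _ (mem_G1.mpr hUd) j
  rw [mem_G1] at hmem
  obtain ⟨w, hw⟩ := dvd_trans (pow_dvd_pow X hmn) hmem
  refine ⟨-w, ?_⟩
  have hXm : (X : PowerSeries k) ^ m ≠ 0 := pow_ne_zero _ X_ne_zero
  apply mul_left_cancel₀ hXm
  rw [hc, ← sig_apply]
  have ha : (hu.unit ^ a : (PowerSeries k)ˣ) = hu.unit ^ (a - m) * hu.unit ^ m := by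
    rw [← zpow_natCast, ← zpow_add]; congr 1; ring
  have hsw : X ^ m * u ^ m * sig u w =
      sig u ((Uu ^ j : (PowerSeries k)ˣ) : PowerSeries k) - 1 := by
    have := congrArg (sig u) hw
    rw [map_sub, map_one, map_mul, map_pow, sig_X, mul_pow] at this
    exact this.symm
  rw [ha, Units.val_mul, Units.val_pow_eq_pow_val, IsUnit.unit_spec, map_neg]
  linear_combination (-((hu.unit ^ (a - m) : (PowerSeries k)ˣ) : PowerSeries k)) * hsw
    - hkeyj' - hw

end Groth.Agent.H7.ASCov
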