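import Groth.Agent.Lib.Helper7.ASCov

namespace Groth.Agent.H7.ASCov

open PowerSeries

variable {k : Type*} [Field k]

/-- additivity of the `n`-th coefficient on series `≡ 1 mod X^n`. -/
lemma coeff_mul_of_dvd {n : ℕ} (hn : 0 < n) {x y : PowerSeries k}
    (hx : (X : PowerSeries k) ^ n ∣ x - 1) (hy : (X : PowerSeries k) ^ n ∣ y - 1) :
    coeff n (x * y) = coeff n x + coeff n y := by
  obtain ⟨a, ha⟩ := hx
  obtain ⟨b, hb⟩ := hy
  have hx' : x = 1 + X ^ n * a := by rw [← ha]; ring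
  have hy' : y = 1 + X ^ n * b := by rw [← hb]; ring
  have : x * y = 1 + X ^ n * (a + b) + X ^ n * (X ^ n * (a * b)) := by rw [hx', hy']; ring
  rw [this, hx', hy']
  simp only [map_add, coeff_X_pow_mul', le_refl, if_true, Nat.sub_self, coeff_one, hn.ne',
    if_false, zero_add]
  simp [hn.ne']

lemma coeff_zpow {n : ℕ} (hn : 0 < n) {x : (PowerSeries k)ˣ} (hx : x ∈ G1 k n) (e : ℤ) :
    coeff n ((x ^ e : (PowerSeries k)ˣ) : PowerSeries k) = (e : k) * coeff n (x : PowerSeries k) := by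
  have hinv : coeff n ((x⁻¹ : (PowerSeries k)ˣ) : PowerSeries k) = - coeff n (x : PowerSeries k) := by
    have h1 := coeff_mul_of_dvd hn (mem_G1.mp hx) (mem_G1.mp (Subgroup.inv_mem _ hx))
    rw [Units.mul_inv, coeff_one, if_neg hn.ne'] at h1
    linear_combination -h1
  induction e using Int.induction_on with
  | zero => simp [hn.ne']
  | succ i ih =>
    rw [zpow_add_one, Units.val_mul,
      coeff_mul_of_dvd hn (mem_G1.mp (Subgroup.zpow_mem _ hx _)) (mem_G1.mp hx), ih]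
    push_cast; ring
  | pred i ih =>
    rw [zpow_sub_one, Units.val_mul,
      coeff_mul_of_dvd hn (mem_G1.mp (Subgroup.zpow_mem _ hx _))
        (mem_G1.mp (Subgroup.inv_mem _ hx)), ih, hinv]
    push_cast; ring

lemma coeff_u {n : ℕ} (hn : 0 < n) (hnk : (n : k) ≠ 0) {u : PowerSeries k}
    (hu1 : constantCoeff u = 1) (hun : u ^ n * (1 + X ^ n) = 1) (hu : IsUnit u) :
    coeff n u = - (n : k)⁻¹ := by
  have hud := dvd_u_sub_one hnk hu1 hun
  have huG : hu.unit ∈ G1 k n := mem_G1.mpr (by rwa [IsUnit.unit_spec])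
  have h1 := coeff_zpow hn huG (n : ℤ)
  rw [zpow_natCast, Units.val_pow_eq_pow_val, IsUnit.unit_spec] at h1
  have h2 : (X : PowerSeries k) ^ n ∣ u ^ n - 1 := by
    have := mem_G1.mp (Subgroup.pow_mem _ huG n)
    rwa [Units.val_pow_eq_pow_val, IsUnit.unit_spec] at this
  have h3 : (X : PowerSeries k) ^ n ∣ (1 + X ^ n) - 1 := ⟨1, by ring⟩
  have h4 := coeff_mul_of_dvd hn h2 h3
  rw [hun, coeff_one, if_neg hn.ne', h1] at h4
  have h5 : coeff n ((1 : PowerSeries k) + X ^ n) = 1 := by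
    simp [coeff_X_pow, hn.ne']
  rw [h5] at h4
  push_cast at h4
  field_simp
  linear_combination -h4

theorem coef_eq_zero (p : ℕ) [Fact p.Prime] [CharP k p] (n : ℕ) (hn : 0 < n) (hpn : ¬ p ∣ n)
    (u : PowerSeries k) (hu1 : constantCoeff u = 1) (hun : u ^ n * (1 + X ^ n) = 1) (hu : IsUnit u)
    (a : ℤ) (c : ℕ → PowerSeries k)
    (hc : ∀ m : ℕ, 1 ≤ m → m ≤ n →
      X ^ m * c m = ((hu.unit ^ (a - m) : (PowerSeries k)ˣ) : PowerSeries k) - 1)
    (coef : ℕ → k) (h : PowerSeries k)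
    (hh : ((hu.unit ^ a : (PowerSeries k)ˣ) : PowerSeries k) * subst (X * u) h - h =
      ∑ m ∈ (Finset.Icc 1 n).filter (fun m : ℕ => ¬ (p : ℤ) ∣ a - (m : ℤ)), coef m • c m) :
    ∀ m ∈ (Finset.Icc 1 n).filter (fun m : ℕ => ¬ (p : ℤ) ∣ a - (m : ℤ)), coef m = 0 := by
  classical
  have hnk : (n : k) ≠ 0 := by
    rw [Ne, CharP.cast_eq_zero_iff k p]; exact hpn
  have hud := dvd_u_sub_one hnk hu1 hun
  have huG : hu.unit ∈ G1 k n := mem_G1.mpr (by rwa [IsUnit.unit_spec])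
  have hLu := coeff_u hn hnk hu1 hun hu
  set F := (Finset.Icc 1 n).filter (fun m : ℕ => ¬ (p : ℤ) ∣ a - (m : ℤ)) with hF
  have hL : (X : PowerSeries k) ^ n ∣
      ((hu.unit ^ a : (PowerSeries k)ˣ) : PowerSeries k) * subst (X * u) h - h := by
    rw [← sig_apply]
    have h1 : (X : PowerSeries k) ^ n ∣ ((hu.unit ^ a : (PowerSeries k)ˣ) : PowerSeries k) - 1 :=
      mem_G1.mp (Subgroup.zpow_mem _ huG a)
    have : ((hu.unit ^ a : (PowerSeries k)ˣ) : PowerSeries k) * sig u h - h =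
        ((hu.unit ^ a : (PowerSeries k)ˣ) : PowerSeries k) * (sig u h - h) +
          (((hu.unit ^ a : (PowerSeries k)ˣ) : PowerSeries k) - 1) * h := by ring
    rw [this]
    exact dvd_add (Dvd.dvd.mul_left (dvd_sig_sub hud h) _) (Dvd.dvd.mul_right h1 _)
  have hcm : ∀ m ∈ F, ∃ w, c m = X ^ (n - m) * w ∧ constantCoeff w ≠ 0 := by
    intro m hm
    rw [hF, Finset.mem_filter, Finset.mem_Icc] at hm
    obtain ⟨⟨h1, h2⟩, h3⟩ := hm
    have hG : (X : PowerSeries k) ^ n ∣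
        ((hu.unit ^ (a - m) : (PowerSeries k)ˣ) : PowerSeries k) - 1 :=
      mem_G1.mp (Subgroup.zpow_mem _ huG _)
    obtain ⟨w, hw⟩ := hG
    refine ⟨w, ?_, ?_⟩
    · apply mul_left_cancel₀ (pow_ne_zero m (X_ne_zero (R := k)))
      rw [hc m h1 h2, hw, ← mul_assoc, ← pow_add, Nat.add_sub_cancel' h2]
    · have h4 := coeff_zpow hn huG (a - m)
      rw [IsUnit.unit_spec, hLu] at h4
      have h5 : coeff n (((hu.unit ^ (a - m) : (PowerSeries k)ˣ) : PowerSeries k) - 1) =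
          constantCoeff w := by
        rw [hw, coeff_X_pow_mul', if_pos le_rfl, Nat.sub_self, coeff_zero_eq_constantCoeff_apply]
      rw [map_sub, coeff_one, if_neg hn.ne', sub_zero, h4] at h5
      rw [← h5]
      have h6 : ((a - m : ℤ) : k) ≠ 0 := by
        rw [Ne, CharP.intCast_eq_zero_iff k p]; exact h3
      exact mul_ne_zero h6 (neg_ne_zero.mpr (inv_ne_zero hnk))
  by_contra hcon
  push Not at hcon
  set F' := F.filter (fun m => coef m ≠ 0) with hF'
  have hne : F'.Nonempty := by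
    obtain ⟨m, hm, hm0⟩ := hcon
    exact ⟨m, Finset.mem_filter.mpr ⟨hm, hm0⟩⟩
  set M := F'.max' hne with hM
  have hMF' : M ∈ F' := Finset.max'_mem _ _
  obtain ⟨hMF, hM0⟩ := Finset.mem_filter.mp hMF'
  have hM1 : 1 ≤ M := by
    rw [hF, Finset.mem_filter, Finset.mem_Icc] at hMF; exact hMF.1.1
  have hMn : M ≤ n := by
    rw [hF, Finset.mem_filter, Finset.mem_Icc] at hMF; exact hMF.1.2
  have hlt : n - M < n := by omega
  have h0 : coeff (n - M)
      (((hu.unit ^ a : (PowerSeries k)ˣ) : PowerSeries k) * subst (X * u) h - h) = 0 :=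
    (X_pow_dvd_iff.mp hL) _ hlt
  rw [hh, map_sum, Finset.sum_eq_single M] at h0
  · obtain ⟨w, hw, hw0⟩ := hcm M hMF
    rw [hw, coeff_smul, coeff_X_pow_mul', if_pos le_rfl, Nat.sub_self,
      coeff_zero_eq_constantCoeff_apply] at h0
    exact (mul_ne_zero hM0 hw0) h0
  · intro m hm hmM
    obtain ⟨w, hw, hw0⟩ := hcm m hm
    rw [coeff_smul]
    by_cases hc0 : coef m = 0
    · rw [hc0, zero_smul]
    · have hmF' : m ∈ F' := Finset.mem_filter.mpr ⟨hm, hc0⟩
      have hle : m ≤ M := Finset.le_max' _ _ hmF'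
      have hmlt : m < M := lt_of_le_of_ne hle hmM
      rw [hw, coeff_X_pow_mul', if_neg (by omega), smul_zero]
  · intro h; exact absurd hMF h

end Groth.Agent.H7.ASCov
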