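import Groth.Agent.Lib.Helper7.ASCov2

namespace Groth.Agent.H7.ASCov

open PowerSeries

variable {k : Type*} [Field k]

/-- the twisted operator `h ↦ u^e * h(t u)`. -/
noncomputable def Tz {u : PowerSeries k} (hu : IsUnit u) (e : ℤ) :
    PowerSeries k →ₗ[k] PowerSeries k :=
  (LinearMap.mulLeft k ((hu.unit ^ e : (PowerSeries k)ˣ) : PowerSeries k)).comp
    (sig u).toLinearMap

lemma Tz_apply {u : PowerSeries k} (hu : IsUnit u) (e : ℤ) (h : PowerSeries k) :
    Tz hu e h = ((hu.unit ^ e : (PowerSeries k)ˣ) : PowerSeries k) * sig u h := rfl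

lemma Tz_X_pow_mul {u : PowerSeries k} (hu : IsUnit u) (e : ℤ) (j : ℕ) (h : PowerSeries k) :
    Tz hu e (X ^ j * h) = X ^ j * Tz hu (e + j) h := by
  rw [Tz_apply, Tz_apply, map_mul, map_pow, sig_X, zpow_add, zpow_natCast, Units.val_mul,
    Units.val_pow_eq_pow_val, IsUnit.unit_spec]
  ring

lemma Tz_one {u : PowerSeries k} (hu : IsUnit u) (e : ℤ) :
    Tz hu e 1 = ((hu.unit ^ e : (PowerSeries k)ˣ) : PowerSeries k) := by
  rw [Tz_apply, map_one, mul_one]

lemma Tz_pow_X_pow_mul {u : PowerSeries k} (hu : IsUnit u) (e : ℤ) (j : ℕ) (l : ℕ)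
    (h : PowerSeries k) :
    ((Tz hu e) ^ l) (X ^ j * h) = X ^ j * ((Tz hu (e + j)) ^ l) h := by
  induction l with
  | zero => simp
  | succ l ih =>
    rw [pow_succ', pow_succ', Module.End.mul_apply, Module.End.mul_apply, ih, Tz_X_pow_mul]

lemma dvd_Tz_sub {n : ℕ} {u : PowerSeries k} (hu : IsUnit u)
    (hud : (X : PowerSeries k) ^ n ∣ u - 1) (e : ℤ) (h : PowerSeries k) :
    (X : PowerSeries k) ^ n ∣ Tz hu e h - h := by
  have huG : hu.unit ∈ G1 k n := mem_G1.mpr (by rwa [IsUnit.unit_spec])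
  have h1 : (X : PowerSeries k) ^ n ∣ ((hu.unit ^ e : (PowerSeries k)ˣ) : PowerSeries k) - 1 :=
    mem_G1.mp (Subgroup.zpow_mem _ huG e)
  have : Tz hu e h - h = ((hu.unit ^ e : (PowerSeries k)ˣ) : PowerSeries k) * (sig u h - h) +
      (((hu.unit ^ e : (PowerSeries k)ˣ) : PowerSeries k) - 1) * h := by
    rw [Tz_apply]; ring
  rw [this]
  exact dvd_add (Dvd.dvd.mul_left (dvd_sig_sub hud h) _) (Dvd.dvd.mul_right h1 _)

lemma coeff_Tz_sub {n : ℕ} (hn : 0 < n) (hnk : (n : k) ≠ 0) {u : PowerSeries k}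
    (hu1 : constantCoeff u = 1) (hun : u ^ n * (1 + X ^ n) = 1) (hu : IsUnit u) (e : ℤ)
    (h : PowerSeries k) :
    coeff n (Tz hu e h - h) = - ((e : k) / n) * constantCoeff h := by
  have hud := dvd_u_sub_one hnk hu1 hun
  have huG : hu.unit ∈ G1 k n := mem_G1.mpr (by rwa [IsUnit.unit_spec])
  have h2 : (X : PowerSeries k) ^ (n + 1) ∣ sig u h - h := by
    obtain ⟨h1, hh1⟩ : (X : PowerSeries k) ∣ h - C (constantCoeff h) := by
      rw [X_dvd_iff]; simp
    have e1 : h = C (constantCoeff h) + X * h1 := by rw [← hh1]; ring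
    have : sig u h - h = X * (Tz hu 1 h1 - h1) := by
      conv_lhs => rw [e1]
      rw [map_add, map_mul, sig_X, Tz_apply, zpow_one, IsUnit.unit_spec]
      have : sig u (C (constantCoeff h)) = C (constantCoeff h) := (sig u).commutes _
      rw [this]; ring
    rw [this, pow_succ']
    exact mul_dvd_mul_left X (dvd_Tz_sub hu hud 1 h1)
  obtain ⟨w, hw⟩ := mem_G1.mp (Subgroup.zpow_mem _ huG e)
  have hw0 : constantCoeff w = (e : k) * (-(n : k)⁻¹) := by
    have h4 := coeff_zpow hn huG e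
    rw [IsUnit.unit_spec, coeff_u hn hnk hu1 hun hu] at h4
    have h5 : coeff n (((hu.unit ^ e : (PowerSeries k)ˣ) : PowerSeries k) - 1) =
        constantCoeff w := by
      rw [hw, coeff_X_pow_mul', if_pos le_rfl, Nat.sub_self, coeff_zero_eq_constantCoeff_apply]
    rw [map_sub, coeff_one, if_neg hn.ne', sub_zero, h4] at h5
    exact h5.symm
  have : Tz hu e h - h = ((hu.unit ^ e : (PowerSeries k)ˣ) : PowerSeries k) * (sig u h - h) +
      X ^ n * (w * h) := by
    rw [Tz_apply, ← mul_assoc, ← hw]; ring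
  rw [this, map_add]
  have z1 : coeff n (((hu.unit ^ e : (PowerSeries k)ˣ) : PowerSeries k) * (sig u h - h)) = 0 := by
    obtain ⟨y, hy⟩ := h2
    rw [hy]
    have : ((hu.unit ^ e : (PowerSeries k)ˣ) : PowerSeries k) * (X ^ (n + 1) * y) =
        X ^ (n + 1) * (((hu.unit ^ e : (PowerSeries k)ˣ) : PowerSeries k) * y) := by ring
    rw [this, coeff_X_pow_mul', if_neg (by omega)]
  rw [z1, zero_add, coeff_X_pow_mul', if_pos le_rfl, Nat.sub_self,
    coeff_zero_eq_constantCoeff_apply, map_mul, hw0]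
  field_simp

lemma lead_D {n : ℕ} (hn : 0 < n) (hnk : (n : k) ≠ 0) {u : PowerSeries k}
    (hu1 : constantCoeff u = 1) (hun : u ^ n * (1 + X ^ n) = 1) (hu : IsUnit u) (a : ℤ)
    (v : ℕ) (x : PowerSeries k) (hx : (X : PowerSeries k) ^ v ∣ x) :
    (X : PowerSeries k) ^ (v + n) ∣ Tz hu a x - x ∧
      coeff (v + n) (Tz hu a x - x) = - (((a + v : ℤ) : k) / n) * coeff v x := by
  have hud := dvd_u_sub_one hnk hu1 hun
  obtain ⟨h, rfl⟩ := hx
  have : Tz hu a (X ^ v * h) - X ^ v * h = X ^ v * (Tz hu (a + v) h - h) := by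
    rw [Tz_X_pow_mul]; ring
  rw [this]
  constructor
  · rw [pow_add]; exact mul_dvd_mul_left _ (dvd_Tz_sub hu hud _ h)
  · rw [coeff_X_pow_mul', if_pos (by omega), Nat.add_sub_cancel_left,
      coeff_Tz_sub hn hnk hu1 hun hu, coeff_X_pow_mul', if_pos le_rfl, Nat.sub_self,
      coeff_zero_eq_constantCoeff_apply]


lemma hasSubst_Xul (u : PowerSeries k) (l : ℕ) : HasSubst (X * ul u l : PowerSeries k) :=
  HasSubst.of_constantCoeff_zero' (by simp)

lemma sig_pow_apply (u : PowerSeries k) (l : ℕ) (h : PowerSeries k) :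
    ((sig u) ^ l) h = subst (X * ul u l) h := by
  induction l generalizing h with
  | zero =>
    have : ul u 0 = 1 := rfl
    rw [pow_zero, this, mul_one, X_subst]; rfl
  | succ l ih =>
    rw [pow_succ', AlgHom.mul_apply, ih, sig_apply,
      subst_comp_subst_apply (hasSubst_Xul u l) (hasSubst_Xu u)]
    congr 1
    rw [← sig_apply, map_mul, sig_X]
    show X * u * sig u (ul u l) = X * (u * sig u (ul u l))
    ring

/-- `ul` as units. -/
noncomputable def ulU {u : PowerSeries k} (hu : IsUnit u) : ℕ → (PowerSeries k)ˣ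
  | 0 => 1
  | (l+1) => hu.unit * Units.map (sig u : PowerSeries k →* PowerSeries k) (ulU hu l)

lemma ulU_val {u : PowerSeries k} (hu : IsUnit u) (l : ℕ) :
    ((ulU hu l : (PowerSeries k)ˣ) : PowerSeries k) = ul u l := by
  induction l with
  | zero => rfl
  | succ l ih =>
    show ((hu.unit * Units.map (sig u : PowerSeries k →* PowerSeries k) (ulU hu l) :
      (PowerSeries k)ˣ) : PowerSeries k) = u * sig u (ul u l)
    rw [Units.val_mul, Units.coe_map, IsUnit.unit_spec, ← ih]; rfl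

lemma Tz_pow_apply {u : PowerSeries k} (hu : IsUnit u) (e : ℤ) (l : ℕ) (h : PowerSeries k) :
    ((Tz hu e) ^ l) h =
      ((ulU hu l ^ e : (PowerSeries k)ˣ) : PowerSeries k) * ((sig u) ^ l) h := by
  induction l generalizing h with
  | zero =>
    have : ulU hu 0 = 1 := rfl
    simp [this]
  | succ l ih =>
    rw [pow_succ', Module.End.mul_apply, ih, Tz_apply, map_mul, pow_succ', AlgHom.mul_apply,
      ← mul_assoc]
    congr 1
    have h1 : sig u ((ulU hu l ^ e : (PowerSeries k)ˣ) : PowerSeries k) =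
        (((Units.map (sig u : PowerSeries k →* PowerSeries k) (ulU hu l)) ^ e :
          (PowerSeries k)ˣ) : PowerSeries k) := by
      rw [← map_zpow, Units.coe_map]; rfl
    rw [h1, ← Units.val_mul, ← mul_zpow]; rfl

lemma Tz_pow_p (p : ℕ) [CharP k p] {n : ℕ} (hn : 0 < n) (hnk : (n : k) ≠ 0) {u : PowerSeries k}
    (hu1 : constantCoeff u = 1) (hun : u ^ n * (1 + X ^ n) = 1) (hu : IsUnit u) (e : ℤ) :
    (Tz hu e) ^ p = 1 := by
  have hud := dvd_u_sub_one hnk hu1 hun
  have hp := ul_p p hn hnk hud hun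
  have hU : ulU hu p = 1 := by
    apply Units.ext; rw [ulU_val, hp]; rfl
  apply LinearMap.ext
  intro h
  rw [Tz_pow_apply, hU, one_zpow, Units.val_one, one_mul, sig_pow_apply, hp, mul_one, X_subst]
  rfl

lemma geom_poly (p : ℕ) [Fact p.Prime] [CharP k p] :
    (Polynomial.X - 1 : Polynomial k) ^ (p - 1) = ∑ l ∈ Finset.range p, Polynomial.X ^ l := by
  have hp : 0 < p := (Fact.out : p.Prime).pos
  have h1 : (Polynomial.X - 1 : Polynomial k) ^ (p - 1) * (Polynomial.X - 1) =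
      (∑ l ∈ Finset.range p, Polynomial.X ^ l) * (Polynomial.X - 1) := by
    rw [← pow_succ, Nat.sub_add_cancel hp, geom_sum_mul, sub_pow_char, one_pow]
  have h2 : (Polynomial.X - 1 : Polynomial k) ≠ 0 := by
    have := Polynomial.X_sub_C_ne_zero (1 : k)
    rwa [map_one] at this
  exact mul_right_cancel₀ h2 h1

/-- the norm operator. -/
noncomputable def Nz {u : PowerSeries k} (hu : IsUnit u) (e : ℤ) (p : ℕ) :
    PowerSeries k →ₗ[k] PowerSeries k := ∑ l ∈ Finset.range p, (Tz hu e) ^ l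

lemma Nz_eq (p : ℕ) [Fact p.Prime] [CharP k p] {u : PowerSeries k} (hu : IsUnit u) (e : ℤ) :
    Nz hu e p = (Tz hu e - 1) ^ (p - 1) := by
  have := congrArg (Polynomial.aeval (Tz hu e)) (geom_poly (k := k) p)
  simp only [map_pow, map_sub, Polynomial.aeval_X, map_one, map_sum] at this
  rw [Nz, this]

lemma Nz_D (p : ℕ) [CharP k p] {n : ℕ} (hn : 0 < n) (hnk : (n : k) ≠ 0) {u : PowerSeries k}
    (hu1 : constantCoeff u = 1) (hun : u ^ n * (1 + X ^ n) = 1) (hu : IsUnit u) (e : ℤ)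
    (y : PowerSeries k) : Nz hu e p (Tz hu e y - y) = 0 := by
  have h1 : Nz hu e p * (Tz hu e - 1) = 0 := by
    rw [Nz, geom_sum_mul, Tz_pow_p p hn hnk hu1 hun hu, sub_self]
  have := LinearMap.congr_fun h1 y
  rwa [Module.End.mul_apply, LinearMap.sub_apply, Module.End.one_apply] at this

lemma Nz_X_pow_mul {u : PowerSeries k} (hu : IsUnit u) (e : ℤ) (p : ℕ) (j : ℕ)
    (y : PowerSeries k) : Nz hu e p (X ^ j * y) = X ^ j * Nz hu (e + j) p y := by
  simp only [Nz, LinearMap.sum_apply, Tz_pow_X_pow_mul, Finset.mul_sum]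

end Groth.Agent.H7.ASCov
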