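import Groth.Agent.Lib.Helper7.ASCov3

namespace Groth.Agent.H7.ASCov

open PowerSeries

variable {k : Type*} [Field k]

/-- elements of `ker N` cannot have valuation `≡ n - a mod p`. -/
lemma coeff_eq_zero_of_Nz (p : ℕ) [Fact p.Prime] [CharP k p] {n : ℕ} (hn : 0 < n)
    (hpn : ¬ p ∣ n) {u : PowerSeries k}
    (hu1 : constantCoeff u = 1) (hun : u ^ n * (1 + X ^ n) = 1) (hu : IsUnit u) (a : ℤ)
    (v : ℕ) (x : PowerSeries k) (hx : (X : PowerSeries k) ^ v ∣ x)
    (hN : Nz hu a p x = 0) (hdvd : (p : ℤ) ∣ a + v - n) : coeff v x = 0 := by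
  have hnk : (n : k) ≠ 0 := by
    rw [Ne, CharP.cast_eq_zero_iff k p]; exact hpn
  have hpp : p.Prime := Fact.out
  have key : ∀ l : ℕ, l ≤ p - 1 → ∃ κ : k, κ ≠ 0 ∧
      (X : PowerSeries k) ^ (v + l * n) ∣ ((Tz hu a - 1) ^ l) x ∧
      coeff (v + l * n) (((Tz hu a - 1) ^ l) x) = κ * coeff v x := by
    intro l
    induction l with
    | zero =>
      intro _
      exact ⟨1, one_ne_zero, by simpa using hx, by simp⟩
    | succ l ih =>
      intro hl
      obtain ⟨κ, hκ, hd, hc⟩ := ih (by omega)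
      have hL := lead_D hn hnk hu1 hun hu a (v + l * n) _ hd
      have e1 : ((Tz hu a - 1) ^ (l + 1)) x =
          Tz hu a (((Tz hu a - 1) ^ l) x) - ((Tz hu a - 1) ^ l) x := by
        rw [pow_succ', Module.End.mul_apply, LinearMap.sub_apply, Module.End.one_apply]
      have e2 : v + (l + 1) * n = v + l * n + n := by ring
      rw [e1, e2]
      refine ⟨- (((a + (v + l * n : ℕ) : ℤ) : k) / n) * κ, ?_, hL.1, ?_⟩
      · refine mul_ne_zero (neg_ne_zero.mpr (div_ne_zero ?_ hnk)) hκ
        rw [Ne, CharP.intCast_eq_zero_iff k p]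
        intro hcon
        have h3 : (p : ℤ) ∣ ((l + 1 : ℕ) : ℤ) * (n : ℤ) := by
          have : ((l + 1 : ℕ) : ℤ) * (n : ℤ) = (a + ((v + l * n : ℕ) : ℤ)) - (a + v - n) := by
            push_cast; ring
          rw [this]; exact dvd_sub hcon hdvd
        rw [← Int.natCast_mul, Int.natCast_dvd_natCast, hpp.dvd_mul] at h3
        rcases h3 with h3 | h3
        · exact absurd (Nat.le_of_dvd (by omega) h3) (by omega)
        · exact hpn h3
      · rw [hL.2, hc]; ring
  obtain ⟨κ, hκ, _, hc⟩ := key (p - 1) le_rfl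
  rw [← Nz_eq p hu a, hN, map_zero] at hc
  rcases mul_eq_zero.mp hc.symm with h | h
  · exact absurd h hκ
  · exact h

lemma Nz_c_eq_zero (p : ℕ) [CharP k p] {n : ℕ} (hn : 0 < n) (hnk : (n : k) ≠ 0)
    {u : PowerSeries k} (hu1 : constantCoeff u = 1) (hun : u ^ n * (1 + X ^ n) = 1)
    (hu : IsUnit u) (a : ℤ) (m : ℕ) (c : PowerSeries k)
    (hc : X ^ m * c = ((hu.unit ^ (a - m) : (PowerSeries k)ˣ) : PowerSeries k) - 1) :
    Nz hu a p c = 0 := by
  have h1 : X ^ m * Nz hu a p c = 0 := by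
    have := Nz_X_pow_mul hu (a - m) p m c
    rw [sub_add_cancel] at this
    rw [← this, hc, ← Tz_one hu (a - m)]
    exact Nz_D p hn hnk hu1 hun hu (a - m) 1
  rcases mul_eq_zero.mp h1 with h | h
  · exact absurd h (pow_ne_zero _ X_ne_zero)
  · exact h


/-- coefficient correction in the successive approximation. -/
noncomputable def beta (p n : ℕ) {u : PowerSeries k} (hu : IsUnit u) (e : ℤ) (x : PowerSeries k)
    (M : ℕ) (h : PowerSeries k) : k :=
  if (p : ℤ) ∣ e + M then 0
  else - ((n : k) / ((e + M : ℤ) : k)) * coeff (n + M) (x - (Tz hu e h - h))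

/-- the approximating sequence. -/
noncomputable def hseq (p n : ℕ) {u : PowerSeries k} (hu : IsUnit u) (e : ℤ) (x : PowerSeries k) :
    ℕ → PowerSeries k
  | 0 => 0
  | (M+1) => hseq p n hu e x M + C (beta p n hu e x M (hseq p n hu e x M)) * X ^ M

lemma hseq_dvd (p : ℕ) [Fact p.Prime] [CharP k p] {n : ℕ} (hn : 0 < n)
    (hpn : ¬ p ∣ n) {u : PowerSeries k}
    (hu1 : constantCoeff u = 1) (hun : u ^ n * (1 + X ^ n) = 1) (hu : IsUnit u) (e : ℤ)
    (x : PowerSeries k) (hx : (X : PowerSeries k) ^ n ∣ x) (hN : Nz hu e p x = 0) (M : ℕ) :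
    (X : PowerSeries k) ^ (n + M) ∣
      x - (Tz hu e (hseq p n hu e x M) - hseq p n hu e x M) := by
  have hnk : (n : k) ≠ 0 := by
    rw [Ne, CharP.cast_eq_zero_iff k p]; exact hpn
  induction M with
  | zero =>
    have : hseq p n hu e x 0 = 0 := rfl
    rw [this, map_zero, sub_zero, sub_zero, add_zero]; exact hx
  | succ M ih =>
    set r := x - (Tz hu e (hseq p n hu e x M) - hseq p n hu e x M) with hr
    have hNr : Nz hu e p r = 0 := by
      rw [hr, map_sub, hN, Nz_D p hn hnk hu1 hun hu, sub_zero]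
    set b := beta p n hu e x M (hseq p n hu e x M) with hb
    set y := C b * X ^ M with hy
    have e1 : hseq p n hu e x (M + 1) = hseq p n hu e x M + y := rfl
    have e2 : x - (Tz hu e (hseq p n hu e x (M + 1)) - hseq p n hu e x (M + 1)) =
        r - (Tz hu e y - y) := by
      rw [e1, map_add, hr]; ring
    rw [e2]
    have hyd : (X : PowerSeries k) ^ M ∣ y := Dvd.intro_left _ rfl
    obtain ⟨hL1, hL2⟩ := lead_D hn hnk hu1 hun hu e M y hyd
    have hyc : coeff M y = b := by
      rw [hy, coeff_C_mul_X_pow, if_pos rfl]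
    rw [hyc] at hL2
    rw [X_pow_dvd_iff]
    intro j hj
    rw [map_sub]
    rcases Nat.lt_or_ge j (n + M) with hj' | hj'
    · rw [X_pow_dvd_iff.mp ih j hj', X_pow_dvd_iff.mp hL1 j (by omega), sub_zero]
    · have hjeq : j = n + M := by omega
      have hjeq' : j = M + n := by omega
      rw [hjeq'] at *
      rw [hL2]
      by_cases hdv : (p : ℤ) ∣ e + M
      · have hb0 : b = 0 := by rw [hb, beta, if_pos hdv]
        have hr0 : coeff (n + M) r = 0 :=
          coeff_eq_zero_of_Nz p hn hpn hu1 hun hu e (n + M) r ih hNr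
            (by push_cast; convert hdv using 1; ring)
        rw [hb0, mul_zero, sub_zero, Nat.add_comm M n, hr0]
      · have hb1 : b = - ((n : k) / ((e + M : ℤ) : k)) * coeff (n + M) r := by
          rw [hb, beta, if_neg hdv]
        have hne : ((e + M : ℤ) : k) ≠ 0 := by
          rw [Ne, CharP.intCast_eq_zero_iff k p]; exact hdv
        rw [hb1, Nat.add_comm M n]
        field_simp
        ring

lemma hseq_coeff_succ (p n : ℕ) {u : PowerSeries k} (hu : IsUnit u) (e : ℤ) (x : PowerSeries k)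
    (j M : ℕ) (hjM : j < M) :
    coeff j (hseq p n hu e x (M + 1)) = coeff j (hseq p n hu e x M) := by
  have e1 : hseq p n hu e x (M + 1) = hseq p n hu e x M +
      C (beta p n hu e x M (hseq p n hu e x M)) * X ^ M := rfl
  rw [e1, map_add, coeff_C_mul_X_pow, if_neg (by omega), add_zero]

lemma hseq_coeff (p n : ℕ) {u : PowerSeries k} (hu : IsUnit u) (e : ℤ) (x : PowerSeries k)
    (j M : ℕ) (hjM : j + 1 ≤ M) :
    coeff j (hseq p n hu e x M) = coeff j (hseq p n hu e x (j + 1)) := by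
  induction M, hjM using Nat.le_induction with
  | base => rfl
  | succ M hM ih => rw [hseq_coeff_succ p n hu e x j M (by omega), ih]

theorem exists_Tz_sub_eq (p : ℕ) [Fact p.Prime] [CharP k p] {n : ℕ} (hn : 0 < n)
    (hpn : ¬ p ∣ n) {u : PowerSeries k}
    (hu1 : constantCoeff u = 1) (hun : u ^ n * (1 + X ^ n) = 1) (hu : IsUnit u) (e : ℤ)
    (x : PowerSeries k) (hx : (X : PowerSeries k) ^ n ∣ x) (hN : Nz hu e p x = 0) :
    ∃ h : PowerSeries k, Tz hu e h - h = x := by
  have hnk : (n : k) ≠ 0 := by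
    rw [Ne, CharP.cast_eq_zero_iff k p]; exact hpn
  set h : PowerSeries k := PowerSeries.mk fun j => coeff j (hseq p n hu e x (j + 1)) with hh
  have hlim : ∀ M : ℕ, (X : PowerSeries k) ^ M ∣ h - hseq p n hu e x M := by
    intro M
    rw [X_pow_dvd_iff]
    intro j hj
    rw [map_sub, hh, coeff_mk, hseq_coeff p n hu e x j M (by omega), sub_self]
  refine ⟨h, ?_⟩
  symm
  rw [← sub_eq_zero]
  ext j
  rw [map_zero]
  have h1 := hseq_dvd p hn hpn hu1 hun hu e x hx hN (j + 1)
  have h2 := (lead_D hn hnk hu1 hun hu e (j + 1) _ (hlim (j + 1))).1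
  have e1 : x - (Tz hu e h - h) =
      (x - (Tz hu e (hseq p n hu e x (j + 1)) - hseq p n hu e x (j + 1))) -
        (Tz hu e (h - hseq p n hu e x (j + 1)) - (h - hseq p n hu e x (j + 1))) := by
    rw [map_sub]; ring
  rw [e1, map_sub, X_pow_dvd_iff.mp h1 j (by omega), X_pow_dvd_iff.mp h2 j (by omega), sub_zero]

end Groth.Agent.H7.ASCov
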