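import Groth.Agent.Lib.Helper7.ASCov4

namespace Groth.Agent.H7.ASCov

open PowerSeries

variable {k : Type*} [Field k]

lemma exists_trunc_decomp (n : ℕ) (h : PowerSeries k) :
    ∃ (b : ℕ → k) (h' : PowerSeries k),
      h = ∑ j ∈ Finset.range n, C (b j) * X ^ j + X ^ n * h' := by
  obtain ⟨h', hh'⟩ : (X : PowerSeries k) ^ n ∣
      h - ∑ j ∈ Finset.range n, C (coeff j h) * X ^ j := by
    rw [X_pow_dvd_iff]
    intro m hm
    rw [map_sub, map_sum]
    simp_rw [coeff_C_mul_X_pow]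
    rw [Finset.sum_ite_eq (Finset.range n) m, if_pos (Finset.mem_range.mpr hm), sub_self]
  exact ⟨fun j => coeff j h, h', by rw [← hh']; ring⟩

theorem exists_decomp (p : ℕ) [Fact p.Prime] [CharP k p] (n : ℕ) (hn : 0 < n) (hpn : ¬ p ∣ n)
    (u : PowerSeries k) (hu1 : constantCoeff u = 1) (hun : u ^ n * (1 + X ^ n) = 1) (hu : IsUnit u)
    (a : ℤ) (c : ℕ → PowerSeries k)
    (hc : ∀ m : ℕ, 1 ≤ m → m ≤ n →
      X ^ m * c m = ((hu.unit ^ (a - m) : (PowerSeries k)ˣ) : PowerSeries k) - 1)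
    (x : PowerSeries k) (hN : Nz hu a p x = 0) :
    ∃ (coef : ℕ → k) (h : PowerSeries k),
      x = ∑ m ∈ (Finset.Icc 1 n).filter (fun m : ℕ => ¬ (p : ℤ) ∣ a - (m : ℤ)), coef m • c m +
        (Tz hu a h - h) := by
  classical
  have h0 : Nz hu (a - n) p (X ^ n * x) = 0 := by
    rw [Nz_X_pow_mul, sub_add_cancel, hN, mul_zero]
  obtain ⟨h', hh'⟩ := exists_Tz_sub_eq p hn hpn hu1 hun hu (a - n) (X ^ n * x)
    (Dvd.intro _ rfl) h0
  obtain ⟨b, h'', e1⟩ := exists_trunc_decomp n h'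
  have e2 : ∀ j ∈ Finset.range n,
      Tz hu (a - n) (C (b j) * X ^ j) - C (b j) * X ^ j = X ^ n * (b j • c (n - j)) := by
    intro j hj
    rw [Finset.mem_range] at hj
    have h1 := hc (n - j) (by omega) (by omega)
    rw [← smul_eq_C_mul, map_smul, ← smul_sub]
    have h2 : Tz hu (a - n) (X ^ j) - X ^ j =
        X ^ j * (((hu.unit ^ (a - n + j) : (PowerSeries k)ˣ) : PowerSeries k) - 1) := by
      have := Tz_X_pow_mul hu (a - n) j 1
      rw [mul_one] at this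
      rw [this, Tz_one]; ring
    have h3 : (a - n + j : ℤ) = a - ((n - j : ℕ) : ℤ) := by
      rw [Nat.cast_sub hj.le]; ring
    rw [h2, h3, ← h1, ← mul_assoc, ← pow_add, Nat.add_sub_cancel' hj.le, mul_smul_comm]
  have e3 : Tz hu (a - n) (X ^ n * h'') - X ^ n * h'' = X ^ n * (Tz hu a h'' - h'') := by
    rw [Tz_X_pow_mul, sub_add_cancel]; ring
  have e4 : x = ∑ j ∈ Finset.range n, b j • c (n - j) + (Tz hu a h'' - h'') := by
    apply mul_left_cancel₀ (pow_ne_zero n (X_ne_zero (R := k)))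
    rw [← hh', e1, map_add, map_sum, mul_add, Finset.mul_sum, ← e3]
    have : ∑ j ∈ Finset.range n, Tz hu (a - n) (C (b j) * X ^ j) =
        ∑ j ∈ Finset.range n, (X ^ n * (b j • c (n - j)) + C (b j) * X ^ j) := by
      apply Finset.sum_congr rfl
      intro j hj
      rw [← e2 j hj]; ring
    rw [this, Finset.sum_add_distrib]; ring
  have e5 : ∑ j ∈ Finset.range n, b j • c (n - j) =
      ∑ m ∈ Finset.Icc 1 n, b (n - m) • c m := by
    apply Finset.sum_bij' (fun j _ => n - j) (fun m _ => n - m)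
    · intro j hj; rw [Finset.mem_range] at hj; rw [Finset.mem_Icc]; omega
    · intro m hm; rw [Finset.mem_Icc] at hm; rw [Finset.mem_range]; omega
    · intro j hj; rw [Finset.mem_range] at hj; omega
    · intro m hm; rw [Finset.mem_Icc] at hm; omega
    · intro j hj; rw [Finset.mem_range] at hj
      have : n - (n - j) = j := by omega
      rw [this]
  have hcob : ∀ m : ℕ, ∃ hm : PowerSeries k,
      m ∈ (Finset.Icc 1 n).filter (fun m : ℕ => ¬ ¬ (p : ℤ) ∣ a - (m : ℤ)) →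
        Tz hu a hm - hm = c m := by
    intro m
    by_cases hmem : m ∈ (Finset.Icc 1 n).filter (fun m : ℕ => ¬ ¬ (p : ℤ) ∣ a - (m : ℤ))
    · rw [Finset.mem_filter, Finset.mem_Icc, not_not] at hmem
      obtain ⟨h, hh⟩ := exists_coboundary p n hn hpn u hu1 hun hu a m hmem.1.2 hmem.2 (c m)
        (hc m hmem.1.1 hmem.1.2)
      exact ⟨h, fun _ => by rw [Tz_apply, sig_apply]; exact hh⟩
    · exact ⟨0, fun h => absurd h hmem⟩
  choose H hH using hcob
  refine ⟨fun m => b (n - m), h'' + ∑ m ∈ (Finset.Icc 1 n).filter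
    (fun m : ℕ => ¬ ¬ (p : ℤ) ∣ a - (m : ℤ)), b (n - m) • H m, ?_⟩
  rw [e4, e5, ← Finset.sum_filter_add_sum_filter_not (Finset.Icc 1 n)
    (fun m : ℕ => ¬ (p : ℤ) ∣ a - (m : ℤ))]
  have e6 : ∑ m ∈ (Finset.Icc 1 n).filter (fun m : ℕ => ¬ ¬ (p : ℤ) ∣ a - (m : ℤ)),
      b (n - m) • c m =
      Tz hu a (∑ m ∈ (Finset.Icc 1 n).filter (fun m : ℕ => ¬ ¬ (p : ℤ) ∣ a - (m : ℤ)),
        b (n - m) • H m) -
      ∑ m ∈ (Finset.Icc 1 n).filter (fun m : ℕ => ¬ ¬ (p : ℤ) ∣ a - (m : ℤ)),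
        b (n - m) • H m := by
    rw [map_sum, ← Finset.sum_sub_distrib]
    apply Finset.sum_congr rfl
    intro m hm
    rw [map_smul, ← smul_sub, hH m hm]
  rw [e6, map_add]
  abel

end Groth.Agent.H7.ASCov
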