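import Groth.Agent.Lib.Helper7.Old.CycH1

namespace Groth.Agent.H7.CycH1

open groupCohomology CategoryTheory

universe u

variable {k G : Type u} [Field k] [Group G] (A : Rep.{u} k G) (g : G) [Finite G]
  (hg : ∀ x : G, x ∈ Subgroup.zpowers g)

include hg in
lemma cls_D (h : A.V) (hh : S A g (orderOf g) (A.ρ g h - h) = 0) :
    cls A g hg ⟨A.ρ g h - h, hh⟩ = 0 :=
  (cls_eq_zero_iff A g hg _).mpr ⟨h, rfl⟩

omit [Finite G] in
lemma S_D (h : A.V) : S A g (orderOf g) (A.ρ g h - h) = 0 := by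
  have h1 : (⟨(d₀₁ A).hom h, d₀₁_apply_mem_cocycles₁ h⟩ : cocycles₁ A) g = A.ρ g h - h := rfl
  rw [← h1]
  exact cocycle_norm A g _

include hg

theorem linearIndependent_cls {ι : Type*} [Fintype ι] (c : ι → A.V)
    (hcN : ∀ i, S A g (orderOf g) (c i) = 0)
    (hind : ∀ (coef : ι → k) (h : A.V), A.ρ g h - h = ∑ i, coef i • c i → ∀ i, coef i = 0) :
    LinearIndependent k (fun i => cls A g hg ⟨c i, hcN i⟩) := by
  rw [Fintype.linearIndependent_iff]
  intro coef h0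
  have h1 : ∑ i, coef i • cls A g hg ⟨c i, hcN i⟩ =
      cls A g hg (∑ i, coef i • (⟨c i, hcN i⟩ : LinearMap.ker (S A g (orderOf g)))) := by
    rw [map_sum]; simp_rw [map_smul]
  rw [h1, cls_eq_zero_iff] at h0
  obtain ⟨h, hh⟩ := h0
  apply hind coef h
  rw [hh]
  simp

theorem span_cls_eq_top {ι : Type*} [Fintype ι] (c : ι → A.V)
    (hcN : ∀ i, S A g (orderOf g) (c i) = 0)
    (hspan : ∀ x, S A g (orderOf g) x = 0 →
      ∃ (coef : ι → k) (h : A.V), x = ∑ i, coef i • c i + (A.ρ g h - h)) :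
    Submodule.span k (Set.range fun i => cls A g hg ⟨c i, hcN i⟩) = ⊤ := by
  rw [eq_top_iff]
  rintro y -
  obtain ⟨⟨x, hx⟩, rfl⟩ := cls_surjective A g hg y
  obtain ⟨coef, h, hxe⟩ := hspan x hx
  have h1 : (⟨x, hx⟩ : LinearMap.ker (S A g (orderOf g))) =
      ∑ i, coef i • (⟨c i, hcN i⟩ : LinearMap.ker (S A g (orderOf g))) +
        ⟨A.ρ g h - h, S_D A g h⟩ := by
    apply Subtype.ext
    simp [hxe]
  rw [h1, map_add, cls_D A g hg, add_zero, map_sum]
  apply Submodule.sum_mem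
  intro i _
  rw [map_smul]
  exact Submodule.smul_mem _ _ (Submodule.subset_span ⟨i, rfl⟩)

theorem finrank_H1 {ι : Type*} [Fintype ι] (c : ι → A.V)
    (hcN : ∀ i, S A g (orderOf g) (c i) = 0)
    (hspan : ∀ x, S A g (orderOf g) x = 0 →
      ∃ (coef : ι → k) (h : A.V), x = ∑ i, coef i • c i + (A.ρ g h - h))
    (hind : ∀ (coef : ι → k) (h : A.V), A.ρ g h - h = ∑ i, coef i • c i → ∀ i, coef i = 0) :
    Module.Finite k (H1 A) ∧ Module.finrank k (H1 A) = Fintype.card ι := by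
  have b := Module.Basis.mk (linearIndependent_cls A g hg c hcN hind)
    (span_cls_eq_top A g hg c hcN hspan).ge
  exact ⟨Module.Finite.of_basis b, Module.finrank_eq_card_basis b⟩

theorem range_map_eq_span {B : Rep.{u} k G} (φ : A ⟶ B) {ι : Type*} [Fintype ι] (c : ι → A.V)
    (hcN : ∀ i, S A g (orderOf g) (c i) = 0)
    (hspan : ∀ x, S A g (orderOf g) x = 0 →
      ∃ (coef : ι → k) (h : A.V), x = ∑ i, coef i • c i + (A.ρ g h - h))
    (hφN : ∀ i, S B g (orderOf g) (φ.hom (c i)) = 0) :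
    LinearMap.range (groupCohomology.map (MonoidHom.id G) φ 1).hom =
      Submodule.span k (Set.range fun i => cls B g hg ⟨φ.hom (c i), hφN i⟩) := by
  have h1 : LinearMap.range (groupCohomology.map (MonoidHom.id G) φ 1).hom =
      Submodule.map (groupCohomology.map (MonoidHom.id G) φ 1).hom ⊤ := by
    rw [Submodule.map_top]
  rw [h1, ← span_cls_eq_top A g hg c hcN hspan, Submodule.map_span]
  congr 1
  ext y
  constructor
  · rintro ⟨_, ⟨i, rfl⟩, rfl⟩
    exact ⟨i, (cls_natural A g hg φ _ _ rfl).symm⟩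
  · rintro ⟨i, rfl⟩
    exact ⟨_, ⟨i, rfl⟩, cls_natural A g hg φ _ _ rfl⟩

end Groth.Agent.H7.CycH1
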