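import Groth.Agent.Lib.Helper7.ASCov5
import Groth.Agent.Lib.Helper7.CycH1b

namespace Groth.Agent.H7.ASCov

open PowerSeries

lemma card_filter_dvd (p : ℕ) (hp : 0 < p) (n : ℕ) (a : ℤ) :
    (((Finset.Icc 1 n).filter (fun m : ℕ => (p : ℤ) ∣ a - (m : ℤ))).card : ℤ) =
      (a - 1) / (p : ℤ) - (a - 1 - n) / (p : ℤ) := by
  have h1 : ((Finset.Icc 1 n).filter (fun m : ℕ => (p : ℤ) ∣ a - (m : ℤ))).card =
      ((Finset.Ioc (a - 1 - n) (a - 1)).filter (fun i : ℤ => (p : ℤ) ∣ i)).card := by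
    apply Finset.card_bij (fun (m : ℕ) _ => a - (m : ℤ))
    · intro m hm
      rw [Finset.mem_filter, Finset.mem_Icc] at hm
      rw [Finset.mem_filter, Finset.mem_Ioc]
      refine ⟨⟨by omega, by omega⟩, hm.2⟩
    · intro m _ m' _ h
      have : (m : ℤ) = m' := by linarith
      exact_mod_cast this
    · intro i hi
      rw [Finset.mem_filter, Finset.mem_Ioc] at hi
      refine ⟨(a - i).toNat, ?_, ?_⟩
      · rw [Finset.mem_filter, Finset.mem_Icc]
        have h0 : 0 ≤ a - i := by omega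
        have : ((a - i).toNat : ℤ) = a - i := Int.toNat_of_nonneg h0
        refine ⟨⟨by omega, by omega⟩, ?_⟩
        rw [this]; simpa using hi.2
      · have h0 : 0 ≤ a - i := by omega
        rw [Int.toNat_of_nonneg h0]; ring
  rw [h1, Int.Ioc_filter_dvd_card (a - 1 - n) (a - 1) (by exact_mod_cast hp : (0 : ℤ) < p)]
  have e1 : ⌊((a - 1 : ℤ) : ℚ) / (((p : ℕ) : ℤ) : ℚ)⌋ = (a - 1) / (p : ℤ) := by
    rw [Int.cast_natCast]; exact Rat.floor_intCast_div_natCast _ _
  have e2 : ⌊((a - 1 - n : ℤ) : ℚ) / (((p : ℕ) : ℤ) : ℚ)⌋ = (a - 1 - n) / (p : ℤ) := by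
    rw [Int.cast_natCast]; exact Rat.floor_intCast_div_natCast _ _
  rw [e1, e2]
  apply max_eq_left
  have : (a - 1 - n) / (p : ℤ) ≤ (a - 1) / (p : ℤ) :=
    Int.ediv_le_ediv (by exact_mod_cast hp) (by omega)
  omega

lemma card_filter_not_dvd (p : ℕ) (hp : 0 < p) (n : ℕ) (a : ℤ) :
    (((Finset.Icc 1 n).filter (fun m : ℕ => ¬ (p : ℤ) ∣ a - (m : ℤ))).card : ℤ) =
      n - (a - 1) / (p : ℤ) + (a - 1 - n) / (p : ℤ) := by
  have h1 := Finset.card_filter_add_card_filter_not (s := Finset.Icc 1 n)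
    (fun m : ℕ => (p : ℤ) ∣ a - (m : ℤ))
  rw [Nat.card_Icc, Nat.add_sub_cancel] at h1
  have h2 := card_filter_dvd p hp n a
  omega

universe u

variable {k : Type u} [Field k]

lemma exists_c {n : ℕ} (hnk : (n : k) ≠ 0) {u : PowerSeries k}
    (hu1 : constantCoeff u = 1) (hun : u ^ n * (1 + X ^ n) = 1) (hu : IsUnit u) (a : ℤ) :
    ∃ c : ℕ → PowerSeries k, ∀ m : ℕ, 1 ≤ m → m ≤ n →
      X ^ m * c m = ((hu.unit ^ (a - m) : (PowerSeries k)ˣ) : PowerSeries k) - 1 := by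
  have hud := dvd_u_sub_one hnk hu1 hun
  have huG : hu.unit ∈ G1 k n := mem_G1.mpr (by rwa [IsUnit.unit_spec])
  have : ∀ m : ℕ, ∃ c : PowerSeries k, m ≤ n →
      X ^ m * c = ((hu.unit ^ (a - m) : (PowerSeries k)ˣ) : PowerSeries k) - 1 := by
    intro m
    by_cases hm : m ≤ n
    · obtain ⟨w, hw⟩ := dvd_trans (pow_dvd_pow (X : PowerSeries k) hm)
        (mem_G1.mp (Subgroup.zpow_mem _ huG (a - m)))
      exact ⟨w, fun _ => hw.symm⟩
    · exact ⟨0, fun h => absurd h hm⟩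
  choose c hc using this
  exact ⟨c, fun m _ hm => hc m hm⟩

open CycH1 in
theorem finrank_H1_twist (p : ℕ) [Fact p.Prime] [CharP k p] (n : ℕ) (hn : 0 < n) (hpn : ¬ p ∣ n)
    (u : PowerSeries k) (hu1 : constantCoeff u = 1) (hun : u ^ n * (1 + X ^ n) = 1)
    (hu : IsUnit u) (a : ℤ)
    {G : Type u} [Group G] [Finite G] (g : G) (hG : Nat.card G = p)
    (hg : ∀ x : G, x ∈ Subgroup.zpowers g)
    (ρ : Representation k G (PowerSeries k))
    (hρ : ∀ h : PowerSeries k, ρ g h =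
      ((hu.unit ^ a : (PowerSeries k)ˣ) : PowerSeries k) * subst (X * u) h) :
    Module.Finite k (groupCohomology.H1 (Rep.of ρ)) ∧
      (Module.finrank k (groupCohomology.H1 (Rep.of ρ)) : ℤ) =
        n - (a - 1) / (p : ℤ) + (a - 1 - n) / (p : ℤ) := by
  classical
  have hpp : p.Prime := Fact.out
  have hnk : (n : k) ≠ 0 := by
    rw [Ne, CharP.cast_eq_zero_iff k p]; exact hpn
  have hord : orderOf g = p := by rw [orderOf_eq_card_of_forall_mem_zpowers hg, hG]
  have hT : (Rep.of ρ).ρ g = Tz hu a := by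
    apply LinearMap.ext
    intro h
    rw [Tz_apply, sig_apply]; exact hρ h
  have hS : S (Rep.of ρ) g (orderOf g) = Nz hu a p := by
    rw [hord, S, Nz]
    apply Finset.sum_congr rfl
    intro i _
    rw [map_pow, hT]
  obtain ⟨c, hc⟩ := exists_c hnk hu1 hun hu a
  set F := (Finset.Icc 1 n).filter (fun m : ℕ => ¬ (p : ℤ) ∣ a - (m : ℤ)) with hF
  have hcN : ∀ i : F, S (Rep.of ρ) g (orderOf g) (c i) = 0 := by
    intro i
    have hi := Finset.mem_filter.mp i.2
    rw [Finset.mem_Icc] at hi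
    rw [hS]
    exact Nz_c_eq_zero p hn hnk hu1 hun hu a i (c i) (hc i hi.1.1 hi.1.2)
  have hmain := finrank_H1 (Rep.of ρ) g hg (ι := F) (fun i => c i) hcN ?_ ?_
  · refine ⟨hmain.1, ?_⟩
    rw [hmain.2, Fintype.card_coe, hF]
    exact card_filter_not_dvd p hpp.pos n a
  · intro x hx
    rw [hS] at hx
    obtain ⟨coef, h, hxe⟩ := exists_decomp p n hn hpn u hu1 hun hu a c hc x hx
    refine ⟨fun i => coef i, h, ?_⟩
    rw [hT, hxe]
    congr 1
    exact (Finset.sum_coe_sort F (fun m => coef m • c m)).symm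
  · intro coef h hh
    rw [hT] at hh
    have h1 := coef_eq_zero p n hn hpn u hu1 hun hu a c hc
      (fun m => if hm : m ∈ F then coef ⟨m, hm⟩ else 0) h ?_
    · intro i
      have := h1 i i.2
      rwa [dif_pos i.2] at this
    · rw [← sig_apply, ← Tz_apply, hh, ← Finset.sum_coe_sort F]
      apply Finset.sum_congr rfl
      intro i _
      rw [dif_pos i.2]

end Groth.Agent.H7.ASCov
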