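import Groth.Agent.Lib.Helper7.ASCov6

namespace Groth.Agent.H7.ASCov

open PowerSeries

universe u

variable {k : Type u} [Field k]

/-- `X * u' = - u^(n+1) * X^n`. -/
lemma X_mul_deriv_u {n : ℕ} (hn : 0 < n) (hnk : (n : k) ≠ 0) {u : PowerSeries k}
    (hun : u ^ n * (1 + X ^ n) = 1) :
    X * derivative k u = - (u ^ (n + 1) * X ^ n) := by
  have E2 := congrArg (derivative k) hun
  rw [Derivation.leibniz, map_add, Derivation.map_one_eq_zero, zero_add, derivative_pow,
    derivative_pow, derivative_X, smul_eq_mul, smul_eq_mul, mul_one] at E2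
  have P1 : (X : PowerSeries k) ^ (n - 1) * X = X ^ n := by
    rw [← pow_succ, Nat.sub_add_cancel hn]
  have P2 : u ^ (n - 1) * u = u ^ n := by
    rw [← pow_succ, Nat.sub_add_cancel hn]
  have hn0 : ((n : ℕ) : PowerSeries k) ≠ 0 := by
    intro h0
    have h2 := congrArg (constantCoeff (R := k)) h0
    rw [map_natCast, map_zero] at h2
    exact hnk h2
  have h1 : ((n : ℕ) : PowerSeries k) * (X * derivative k u + u ^ (n + 1) * X ^ n) = 0 := by
    linear_combination (X * u) * E2 - ((n : PowerSeries k) * u ^ (n + 1)) * P1 -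
      ((n : PowerSeries k) * (1 + X ^ n) * X * derivative k u) * P2 -
      ((n : PowerSeries k) * X * derivative k u) * hun
  rcases mul_eq_zero.mp h1 with h | h
  · exact absurd h hn0
  · linear_combination h

lemma deriv_c {n : ℕ} (hn : 0 < n) (hnk : (n : k) ≠ 0) {u : PowerSeries k}
    (hun : u ^ n * (1 + X ^ n) = 1) (hu : IsUnit u) (m : ℕ) (hm : 1 ≤ m)
    (c0 c1 : PowerSeries k)
    (h0 : X ^ m * c0 = ((hu.unit ^ ((0 : ℤ) - m) : (PowerSeries k)ˣ) : PowerSeries k) - 1)
    (h1 : X ^ (m + 1) * c1 =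
      ((hu.unit ^ (((n + 1 : ℕ) : ℤ) - ((m + 1 : ℕ) : ℤ)) : (PowerSeries k)ˣ) : PowerSeries k) - 1) :
    derivative k c0 = - ((m : ℕ) : PowerSeries k) * c1 := by
  set v := ((hu.unit ^ ((0 : ℤ) - m) : (PowerSeries k)ˣ) : PowerSeries k) with hv
  have E3 : v * u ^ m = 1 := by
    have : hu.unit ^ ((0 : ℤ) - m) * hu.unit ^ m = 1 := by
      rw [← zpow_natCast, ← zpow_add]; simp
    have := congrArg Units.val this
    rwa [Units.val_mul, Units.val_pow_eq_pow_val, IsUnit.unit_spec, Units.val_one] at this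
  have E7 : ((hu.unit ^ (((n + 1 : ℕ) : ℤ) - ((m + 1 : ℕ) : ℤ)) : (PowerSeries k)ˣ) :
      PowerSeries k) = v * u ^ n := by
    have : hu.unit ^ (((n + 1 : ℕ) : ℤ) - ((m + 1 : ℕ) : ℤ)) =
        hu.unit ^ ((0 : ℤ) - m) * hu.unit ^ n := by
      rw [← zpow_natCast, ← zpow_add]; congr 1; push_cast; ring
    rw [this, Units.val_mul, Units.val_pow_eq_pow_val, IsUnit.unit_spec]
  rw [E7] at h1
  have hA := X_mul_deriv_u hn hnk hun
  have E4 := congrArg (derivative k) E3
  rw [Derivation.leibniz, derivative_pow, Derivation.map_one_eq_zero, smul_eq_mul,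
    smul_eq_mul] at E4
  have E6 := congrArg (derivative k) h0
  rw [Derivation.leibniz, derivative_pow, derivative_X, map_sub, Derivation.map_one_eq_zero,
    sub_zero, smul_eq_mul, smul_eq_mul, mul_one] at E6
  have P3 : u ^ (m - 1) * u = u ^ m := by
    rw [← pow_succ, Nat.sub_add_cancel hm]
  have P4 : (X : PowerSeries k) ^ (m - 1) * X = X ^ m := by
    rw [← pow_succ, Nat.sub_add_cancel hm]
  have hu0 : u ≠ 0 := hu.ne_zero
  -- Stage B
  have hB : u * (X * derivative k v - (m : PowerSeries k) * u ^ n * X ^ n * v) = 0 := by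
    linear_combination (X * u * v) * E4 + (-(v * v * (m : PowerSeries k) * derivative k u * X)) * P3
      + (-((m : PowerSeries k) * v)) * hA
      + (- (u * X * derivative k v) - (m : PowerSeries k) * v * (X * derivative k u)) * E3
  have hB' : X * derivative k v = (m : PowerSeries k) * u ^ n * X ^ n * v := by
    rcases mul_eq_zero.mp hB with h | h
    · exact absurd h hu0
    · exact sub_eq_zero.mp h
  have hX : (X : PowerSeries k) ^ (m + 1) ≠ 0 := pow_ne_zero _ X_ne_zero
  apply mul_left_cancel₀ hX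
  linear_combination X * E6 + hB' + (-(c0 * (m : PowerSeries k))) * P4
    + (-(m : PowerSeries k)) * h0 + (m : PowerSeries k) * h1
    + ((m : PowerSeries k) * v) * hun

end Groth.Agent.H7.ASCov
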