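import Groth.Agent.Lib.Helper7.ASCov7

namespace Groth.Agent.H7.ASCov

open PowerSeries

lemma card_dvd_Icc (p n : ℕ) :
    ((Finset.Icc 1 n).filter (fun m : ℕ => p ∣ m)).card = n / p := by
  have : Finset.Icc 1 n = Finset.Ioc 0 n := by
    ext x; simp [Finset.mem_Icc, Finset.mem_Ioc]; omega
  rw [this, Nat.Ioc_filter_dvd_card_eq_div]

lemma card_dvd_sub_Icc (p n : ℕ) (hn : 0 < n) :
    ((Finset.Icc 1 (n - 1)).filter (fun m : ℕ => p ∣ n - m)).card = (n - 1) / p := by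
  rw [← card_dvd_Icc p (n - 1)]
  apply Finset.card_bij (fun (m : ℕ) _ => n - m)
  · intro m hm
    rw [Finset.mem_filter, Finset.mem_Icc] at hm ⊢
    exact ⟨⟨by omega, by omega⟩, hm.2⟩
  · intro m hm m' hm' h
    rw [Finset.mem_filter, Finset.mem_Icc] at hm hm'
    omega
  · intro m hm
    rw [Finset.mem_filter, Finset.mem_Icc] at hm
    refine ⟨n - m, ?_, by omega⟩
    rw [Finset.mem_filter, Finset.mem_Icc]
    refine ⟨⟨by omega, by omega⟩, ?_⟩
    have : n - (n - m) = m := by omega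
    rw [this]; exact hm.2

lemma card_M' (p : ℕ) (hp : p.Prime) (n : ℕ) (hn : 0 < n) (hpn : ¬ p ∣ n) :
    ((Finset.Icc 1 (n - 1)).filter (fun m : ℕ => ¬ p ∣ m ∧ ¬ p ∣ n - m)).card +
      2 * ((n - 1) / p) = n - 1 := by
  have h1 := Finset.card_filter_add_card_filter_not (s := Finset.Icc 1 (n - 1))
    (fun m : ℕ => p ∣ m)
  have h2 := Finset.card_filter_add_card_filter_not
    (s := (Finset.Icc 1 (n - 1)).filter (fun m : ℕ => ¬ p ∣ m)) (fun m : ℕ => p ∣ n - m)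
  rw [Finset.filter_filter, Finset.filter_filter] at h2
  have h3 : (Finset.Icc 1 (n - 1)).filter (fun m : ℕ => ¬ p ∣ m ∧ p ∣ n - m) =
      (Finset.Icc 1 (n - 1)).filter (fun m : ℕ => p ∣ n - m) := by
    ext m
    simp only [Finset.mem_filter, Finset.mem_Icc]
    constructor
    · rintro ⟨h, _, h'⟩; exact ⟨h, h'⟩
    · rintro ⟨h, h'⟩
      refine ⟨h, ?_, h'⟩
      intro hm
      apply hpn
      have : n = (n - m) + m := by omega
      rw [this]; exact dvd_add h' hm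
  rw [h3, card_dvd_sub_Icc p n hn] at h2
  rw [card_dvd_Icc, Nat.card_Icc, Nat.add_sub_cancel] at h1
  omega

lemma ediv_formula (p : ℕ) (hp : p.Prime) (n : ℕ) (hn : 0 < n) (hpn : ¬ p ∣ n) :
    ((n + 1) * (p - 1) : ℤ) / p = n - ((n - 1) / p : ℕ) := by
  set q := (n - 1) / p with hq
  set r := (n - 1) % p with hr
  have h1 : p * q + r = n - 1 := Nat.div_add_mod (n - 1) p
  have h2 : r < p := Nat.mod_lt _ hp.pos
  have h3 : r + 1 ≠ p := by
    intro h
    apply hpn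
    refine ⟨q + 1, ?_⟩
    have : n = p * q + (r + 1) := by omega
    rw [this, h]; ring
  have h4 : (p : ℤ) * q = n - 1 - r := by
    have : ((p * q + r : ℕ) : ℤ) = ((n - 1 : ℕ) : ℤ) := by rw [h1]
    rw [Nat.cast_sub hn] at this
    push_cast at this
    linarith
  have hp0 : (0 : ℤ) < p := by exact_mod_cast hp.pos
  have := (Int.ediv_emod_unique (a := ((n + 1) * (p - 1) : ℤ)) (b := (p : ℤ))
    (r := (p : ℤ) - r - 2) (q := (n : ℤ) - q) hp0).mpr
    ⟨by linear_combination (-1 : ℤ) * h4, by omega, by omega⟩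
  exact this.1

lemma card_F' (p : ℕ) (hp : p.Prime) (n : ℕ) (hn : 0 < n) (hpn : ¬ p ∣ n) :
    (((Finset.Icc 1 n).filter (fun j : ℕ => ¬ (p : ℤ) ∣ ((n + 1 : ℕ) : ℤ) - (j : ℤ) ∧
      2 ≤ j ∧ ¬ p ∣ j - 1)).card : ℤ) =
      ((n + 1) * (p - 1) : ℤ) / p - 1 - (n - 1 : ℤ) / p := by
  have h1 : ((Finset.Icc 1 n).filter (fun j : ℕ => ¬ (p : ℤ) ∣ ((n + 1 : ℕ) : ℤ) - (j : ℤ) ∧
      2 ≤ j ∧ ¬ p ∣ j - 1)).card =
      ((Finset.Icc 1 (n - 1)).filter (fun m : ℕ => ¬ p ∣ m ∧ ¬ p ∣ n - m)).card := by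
    symm
    apply Finset.card_bij (fun (m : ℕ) _ => m + 1)
    · intro m hm
      rw [Finset.mem_filter, Finset.mem_Icc] at hm ⊢
      refine ⟨⟨by omega, by omega⟩, ?_, by omega, ?_⟩
      · have : (((n + 1 : ℕ) : ℤ) - ((m + 1 : ℕ) : ℤ)) = ((n - m : ℕ) : ℤ) := by
          rw [Nat.cast_sub (by omega)]; push_cast; ring
        rw [this, Int.natCast_dvd_natCast]; exact hm.2.2
      · rw [Nat.add_sub_cancel]; exact hm.2.1
    · intro m _ m' _ h; omega
    · intro j hj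
      rw [Finset.mem_filter, Finset.mem_Icc] at hj
      refine ⟨j - 1, ?_, by omega⟩
      rw [Finset.mem_filter, Finset.mem_Icc]
      refine ⟨⟨by omega, by omega⟩, hj.2.2.2, ?_⟩
      have : (((n + 1 : ℕ) : ℤ) - (j : ℤ)) = ((n - (j - 1) : ℕ) : ℤ) := by
        rw [Nat.cast_sub (by omega), Nat.cast_sub (by omega)]; push_cast; ring
      have h2 := hj.2.1
      rw [this, Int.natCast_dvd_natCast] at h2
      exact h2
  have h2 := card_M' p hp n hn hpn
  have h3 := ediv_formula p hp n hn hpn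
  have h4 : (n - 1 : ℤ) / p = (((n - 1) / p : ℕ) : ℤ) := by
    rw [Int.natCast_ediv, Nat.cast_sub hn]; simp
  rw [h1, h3, h4]
  omega

end Groth.Agent.H7.ASCov
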