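import Groth.Agent.Lib.Helper7.ASCov8

namespace Groth.Agent.H7.ASCov

open PowerSeries

universe u

variable {k : Type u} [Field k]

lemma S_map {G : Type u} [Group G] {A B : Rep.{u} k G} (φ : A ⟶ B) (g : G) (l : ℕ) (x : A.V) :
    CycH1.S B g l (φ.hom x) = φ.hom (CycH1.S A g l x) := by
  rw [CycH1.S_apply, CycH1.S_apply, map_sum]
  apply Finset.sum_congr rfl
  intro i _
  exact (Rep.hom_comm_apply φ (g ^ i) x).symm

open CycH1 in
theorem finrank_range_deriv (p : ℕ) [Fact p.Prime] [CharP k p] (n : ℕ) (hn : 0 < n)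
    (hpn : ¬ p ∣ n)
    (u : PowerSeries k) (hu1 : constantCoeff u = 1) (hun : u ^ n * (1 + X ^ n) = 1)
    {G : Type u} [Group G] [Finite G] (g : G) (hG : Nat.card G = p)
    (hg : ∀ x : G, x ∈ Subgroup.zpowers g)
    (ρ₀ ρ₁ : Representation k G (PowerSeries k))
    (hρ₀ : ∀ h : PowerSeries k, ρ₀ g h = subst (X * u) h)
    (hρ₁ : ∀ h : PowerSeries k, ρ₁ g h = u ^ (n + 1) * subst (X * u) h)
    (φ : Rep.of ρ₀ ⟶ Rep.of ρ₁) (hφ : ∀ h : PowerSeries k, φ.hom h = derivative k h) :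
    Module.Finite k (LinearMap.range ((groupCohomology.functor k G 1).map φ).hom) ∧
      (Module.finrank k (LinearMap.range ((groupCohomology.functor k G 1).map φ).hom) : ℤ) =
        ((n + 1) * (p - 1) : ℤ) / p - 1 - (n - 1 : ℤ) / p := by
  classical
  have hpp : p.Prime := Fact.out
  have hnk : (n : k) ≠ 0 := by
    rw [Ne, CharP.cast_eq_zero_iff k p]; exact hpn
  have hu : IsUnit u := by rw [isUnit_iff_constantCoeff, hu1]; exact isUnit_one
  have hord : orderOf g = p := by rw [orderOf_eq_card_of_forall_mem_zpowers hg, hG]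
  have hT0 : (Rep.of ρ₀).ρ g = Tz hu 0 := by
    apply LinearMap.ext
    intro h
    rw [Tz_apply, sig_apply, zpow_zero, Units.val_one, one_mul]; exact hρ₀ h
  have hT1 : (Rep.of ρ₁).ρ g = Tz hu ((n + 1 : ℕ) : ℤ) := by
    apply LinearMap.ext
    intro h
    rw [Tz_apply, sig_apply, zpow_natCast, Units.val_pow_eq_pow_val, IsUnit.unit_spec]
    exact hρ₁ h
  have hS0 : S (Rep.of ρ₀) g (orderOf g) = Nz hu 0 p := by
    rw [hord, S, Nz]
    apply Finset.sum_congr rfl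
    intro i _
    rw [map_pow, hT0]
  have hS1 : S (Rep.of ρ₁) g (orderOf g) = Nz hu ((n + 1 : ℕ) : ℤ) p := by
    rw [hord, S, Nz]
    apply Finset.sum_congr rfl
    intro i _
    rw [map_pow, hT1]
  obtain ⟨c0, hc0⟩ := exists_c hnk hu1 hun hu 0
  obtain ⟨c1, hc1⟩ := exists_c hnk hu1 hun hu ((n + 1 : ℕ) : ℤ)
  set F0 := (Finset.Icc 1 n).filter (fun m : ℕ => ¬ (p : ℤ) ∣ (0 : ℤ) - (m : ℤ)) with hF0
  set F1 := (Finset.Icc 1 n).filter
    (fun m : ℕ => ¬ (p : ℤ) ∣ ((n + 1 : ℕ) : ℤ) - (m : ℤ)) with hF1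
  have hcN0 : ∀ i : F0, S (Rep.of ρ₀) g (orderOf g) (c0 i) = 0 := by
    intro i
    have hi := Finset.mem_filter.mp i.2
    rw [Finset.mem_Icc] at hi
    rw [hS0]
    exact Nz_c_eq_zero p hn hnk hu1 hun hu 0 i (c0 i) (hc0 i hi.1.1 hi.1.2)
  have hcN1 : ∀ i : F1, S (Rep.of ρ₁) g (orderOf g) (c1 i) = 0 := by
    intro i
    have hi := Finset.mem_filter.mp i.2
    rw [Finset.mem_Icc] at hi
    rw [hS1]
    exact Nz_c_eq_zero p hn hnk hu1 hun hu _ i (c1 i) (hc1 i hi.1.1 hi.1.2)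
  have hspan0 : ∀ x, S (Rep.of ρ₀) g (orderOf g) x = 0 →
      ∃ (coef : F0 → k) (h : (Rep.of ρ₀).V),
        x = ∑ i, coef i • c0 i + ((Rep.of ρ₀).ρ g h - h) := by
    intro x hx
    rw [hS0] at hx
    obtain ⟨coef, h, hxe⟩ := exists_decomp p n hn hpn u hu1 hun hu 0 c0 hc0 x hx
    refine ⟨fun i => coef i, h, ?_⟩
    rw [hT0, hxe]
    congr 1
    exact (Finset.sum_coe_sort F0 (fun m => coef m • c0 m)).symm
  have hind1 : ∀ (coef : F1 → k) (h : (Rep.of ρ₁).V),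
      (Rep.of ρ₁).ρ g h - h = ∑ i, coef i • c1 i → ∀ i, coef i = 0 := by
    intro coef h hh
    rw [hT1] at hh
    have h1 := coef_eq_zero p n hn hpn u hu1 hun hu ((n + 1 : ℕ) : ℤ) c1 hc1
      (fun m => if hm : m ∈ F1 then coef ⟨m, hm⟩ else 0) h ?_
    · intro i
      have := h1 i i.2
      rwa [dif_pos i.2] at this
    · rw [← sig_apply, ← Tz_apply, hh, ← Finset.sum_coe_sort F1]
      apply Finset.sum_congr rfl
      intro i _
      rw [dif_pos i.2]
  have hφN : ∀ i : F0, S (Rep.of ρ₁) g (orderOf g) (φ.hom (c0 i)) = 0 := by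
    intro i
    rw [S_map, hcN0 i, map_zero]
  -- the derivative of c0
  have hφc : ∀ m : ℕ, 1 ≤ m → m ≤ n →
      φ.hom (c0 m) = (-(m : k)) • (if m + 1 ≤ n then c1 (m + 1) else 0) := by
    intro m hm1 hmn
    rw [hφ]
    have h1 : X ^ (m + 1) * (if m + 1 ≤ n then c1 (m + 1) else 0) =
        ((hu.unit ^ (((n + 1 : ℕ) : ℤ) - ((m + 1 : ℕ) : ℤ)) : (PowerSeries k)ˣ) :
          PowerSeries k) - 1 := by
      by_cases hmn' : m + 1 ≤ n
      · rw [if_pos hmn']; exact hc1 (m + 1) (by omega) hmn'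
      · rw [if_neg hmn']
        have : m = n := by omega
        rw [this, sub_self, zpow_zero, Units.val_one, sub_self, mul_zero]
    rw [deriv_c hn hnk hun hu m hm1 (c0 m) _ (hc0 m hm1 hmn) h1, smul_eq_C_mul, map_neg,
      map_natCast]
  have hrange := range_map_eq_span (Rep.of ρ₀) g hg φ (ι := F0) (fun i => c0 i) hcN0 hspan0 hφN
  have hli := linearIndependent_cls (Rep.of ρ₁) g hg (ι := F1) (fun i => c1 i) hcN1 hind1
  set F' := (Finset.Icc 1 n).filter (fun j : ℕ => ¬ (p : ℤ) ∣ ((n + 1 : ℕ) : ℤ) - (j : ℤ) ∧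
      2 ≤ j ∧ ¬ p ∣ j - 1) with hF'
  have hF'sub : ∀ j ∈ F', j ∈ F1 := by
    intro j hj
    rw [hF', Finset.mem_filter] at hj
    exact Finset.mem_filter.mpr ⟨hj.1, hj.2.1⟩
  let incl : F' → F1 := fun j => ⟨j, hF'sub j j.2⟩
  have hincl : Function.Injective incl := by
    intro j j' h
    exact Subtype.ext (congrArg (fun x : F1 => (x : ℕ)) h)
  have hli' := hli.comp incl hincl
  have hclaim : Submodule.span k (Set.range fun i : F0 =>
      cls (Rep.of ρ₁) g hg ⟨φ.hom (c0 i), hφN i⟩) =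
      Submodule.span k (Set.range ((fun i : F1 => cls (Rep.of ρ₁) g hg ⟨c1 i, hcN1 i⟩) ∘ incl)) := by
    apply le_antisymm
    · rw [Submodule.span_le]
      rintro _ ⟨i, rfl⟩
      show cls (Rep.of ρ₁) g hg ⟨φ.hom (c0 i), hφN i⟩ ∈ _
      have hi := Finset.mem_filter.mp i.2
      rw [Finset.mem_Icc] at hi
      have hpm : ¬ p ∣ (i : ℕ) := by
        intro hcon
        apply hi.2
        rw [zero_sub, dvd_neg, Int.natCast_dvd_natCast]; exact hcon
      have hφi := hφc i hi.1.1 hi.1.2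
      by_cases hmn' : (i : ℕ) + 1 ≤ n
      · rw [if_pos hmn'] at hφi
        by_cases hdv : (p : ℤ) ∣ ((n + 1 : ℕ) : ℤ) - (((i : ℕ) + 1 : ℕ) : ℤ)
        · obtain ⟨h, hh⟩ := exists_coboundary p n hn hpn u hu1 hun hu ((n + 1 : ℕ) : ℤ)
            ((i : ℕ) + 1) hmn' hdv (c1 ((i : ℕ) + 1)) (hc1 _ (by omega) hmn')
          have : cls (Rep.of ρ₁) g hg ⟨φ.hom (c0 i), hφN i⟩ = 0 := by
            rw [cls_eq_zero_iff]
            refine ⟨(-((i : ℕ) : k)) • h, ?_⟩
            rw [hT1, map_smul, ← smul_sub, Tz_apply, sig_apply, hh]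
            exact hφi.symm
          rw [this]; exact Submodule.zero_mem _
        · have hjF' : (i : ℕ) + 1 ∈ F' := by
            rw [hF', Finset.mem_filter, Finset.mem_Icc]
            exact ⟨⟨by omega, hmn'⟩, hdv, by omega, by rwa [Nat.add_sub_cancel]⟩
          have e1 : (⟨φ.hom (c0 i), hφN i⟩ : LinearMap.ker (S (Rep.of ρ₁) g (orderOf g))) =
              (-((i : ℕ) : k)) • ⟨c1 ((i : ℕ) + 1), hcN1 ⟨(i : ℕ) + 1, hF'sub _ hjF'⟩⟩ := by
            apply Subtype.ext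
            exact hφi
          rw [SetLike.mem_coe, e1, map_smul]
          apply Submodule.smul_mem
          apply Submodule.subset_span
          exact ⟨⟨(i : ℕ) + 1, hjF'⟩, rfl⟩
      · rw [if_neg hmn', smul_zero] at hφi
        have e1 : (⟨φ.hom (c0 i), hφN i⟩ : LinearMap.ker (S (Rep.of ρ₁) g (orderOf g))) = 0 := by
          apply Subtype.ext
          exact hφi
        rw [SetLike.mem_coe, e1, map_zero]; exact Submodule.zero_mem _
    · rw [Submodule.span_le]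
      rintro _ ⟨j, rfl⟩
      have hj := Finset.mem_filter.mp j.2
      rw [Finset.mem_Icc] at hj
      obtain ⟨⟨hj1, hjn⟩, hjd, hj2, hjp⟩ := hj
      have hm0 : (j : ℕ) - 1 ∈ F0 := by
        rw [hF0, Finset.mem_filter, Finset.mem_Icc]
        refine ⟨⟨by omega, by omega⟩, ?_⟩
        rw [zero_sub, dvd_neg, Int.natCast_dvd_natCast]; exact hjp
      have hφi := hφc ((j : ℕ) - 1) (by omega) (by omega)
      have hj' : (j : ℕ) - 1 + 1 = j := by omega
      rw [hj', if_pos hjn] at hφi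
      have hmk : (((j : ℕ) - 1 : ℕ) : k) ≠ 0 := by
        rw [Ne, CharP.cast_eq_zero_iff k p]; exact hjp
      have e1 : (⟨c1 j, hcN1 (incl j)⟩ : LinearMap.ker (S (Rep.of ρ₁) g (orderOf g))) =
          (-(((j : ℕ) - 1 : ℕ) : k))⁻¹ • ⟨φ.hom (c0 ((j : ℕ) - 1)), hφN ⟨(j : ℕ) - 1, hm0⟩⟩ := by
        apply Subtype.ext
        show c1 j = (-(((j : ℕ) - 1 : ℕ) : k))⁻¹ • φ.hom (c0 ((j : ℕ) - 1))
        rw [hφi, smul_smul, inv_mul_cancel₀ (neg_ne_zero.mpr hmk), one_smul]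
      show cls (Rep.of ρ₁) g hg ⟨c1 j, hcN1 (incl j)⟩ ∈ _
      rw [e1, map_smul]
      apply Submodule.smul_mem
      apply Submodule.subset_span
      exact ⟨⟨(j : ℕ) - 1, hm0⟩, rfl⟩
  have hR : LinearMap.range (groupCohomology.map (A := Rep.of ρ₀) (MonoidHom.id G) φ 1).hom =
      Submodule.span k (Set.range ((fun i : F1 => cls (Rep.of ρ₁) g hg ⟨c1 i, hcN1 i⟩) ∘ incl)) := by
    rw [← hclaim, ← hrange]
  have hfin : Module.Finite k (LinearMap.range (groupCohomology.map (A := Rep.of ρ₀) (MonoidHom.id G) φ 1).hom) ∧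
      (Module.finrank k (LinearMap.range (groupCohomology.map (A := Rep.of ρ₀) (MonoidHom.id G) φ 1).hom) : ℤ) =
        ((n + 1) * (p - 1) : ℤ) / p - 1 - (n - 1 : ℤ) / p := by
    rw [hR]
    refine ⟨Module.Finite.span_of_finite k (Set.finite_range _), ?_⟩
    rw [finrank_span_eq_card hli', Fintype.card_coe, hF']
    exact card_F' p hpp n hn hpn
  exact hfin

end Groth.Agent.H7.ASCov
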