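import Mathlib

/-!
# Invariants of an Artin–Schreier-type automorphism after inverting the step

`σ` an `R`-algebra endomorphism of `A`, `S` a subalgebra fixed by `σ`, `w` with `σ w = w + d`,
`p = 0` in `A`.  If `t = ∑_{i<p} c_i w^i` (`c_i ∈ S`) is `σ`-invariant then `d^M t ∈ S` for some `M`
(finite differences).
-/

namespace Groth.Agent.H7.ASInv

open Finset

variable {R A : Type*} [CommRing R] [CommRing A] [Algebra R A]

section Diff
variable (σ : A →ₐ[R] A)

/-- the difference operator `σ - 1` -/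
noncomputable def D : A →ₗ[R] A := σ.toLinearMap - LinearMap.id

lemma D_apply (x : A) : D σ x = σ x - x := by simp [D]

lemma D_mul_of_fixed {s : A} (hs : σ s = s) (x : A) : D σ (s * x) = s * D σ x := by
  simp [D_apply, hs, mul_sub]

lemma Dpow_mul_of_fixed {s : A} (hs : σ s = s) (n : ℕ) (x : A) :
    (D σ ^ n) (s * x) = s * (D σ ^ n) x := by
  induction n generalizing x with
  | zero => simp
  | succ n ih => rw [pow_succ, Module.End.mul_apply, Module.End.mul_apply, D_mul_of_fixed σ hs, ih]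

lemma Dpow_of_fixed {t : A} (ht : σ t = t) {n : ℕ} (hn : n ≠ 0) : (D σ ^ n) t = 0 := by
  obtain ⟨m, rfl⟩ := Nat.exists_eq_succ_of_ne_zero hn
  rw [pow_succ, Module.End.mul_apply, D_apply, ht, sub_self, map_zero]

variable {σ} {w : A} {d : R} (hw : σ w = w + algebraMap R A d)
include hw

lemma D_pow (j : ℕ) :
    D σ (w ^ j) = ∑ i ∈ range j, (j.choose i • d ^ (j - i)) • w ^ i := by
  rw [D_apply, map_pow, hw, add_pow, sum_range_succ]
  simp only [Nat.sub_self, pow_zero, mul_one, Nat.choose_self, Nat.cast_one, add_sub_cancel_right]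
  refine sum_congr rfl fun i _ => ?_
  rw [Algebra.smul_def, map_nsmul, map_pow, nsmul_eq_mul]
  ring

lemma Dpow_pow_eq_zero {j n : ℕ} (h : j < n) : (D σ ^ n) (w ^ j) = 0 := by
  induction n generalizing j with
  | zero => omega
  | succ n ih =>
    rw [pow_succ, Module.End.mul_apply, D_pow hw, map_sum]
    refine sum_eq_zero fun i hi => ?_
    rw [map_smul, ih (by have := mem_range.1 hi; omega), smul_zero]

lemma Dpow_pow_self (n : ℕ) :
    (D σ ^ n) (w ^ n) = algebraMap R A ((n.factorial : R) * d ^ n) := by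
  induction n with
  | zero => simp
  | succ n ih =>
    rw [pow_succ (D σ), Module.End.mul_apply, D_pow hw, map_sum, sum_range_succ,
      sum_eq_zero, zero_add, map_smul, ih]
    · rw [Algebra.smul_def, ← map_mul]
      congr 1
      simp [Nat.factorial_succ]
      ring
    · intro i hi
      rw [map_smul, Dpow_pow_eq_zero hw (mem_range.1 hi), smul_zero]

lemma Dpow_sum (c : ℕ → A) (hc : ∀ i, σ (c i) = c i) (n : ℕ) :
    (D σ ^ n) (∑ i ∈ range (n + 1), c i * w ^ i)
      = c n * algebraMap R A ((n.factorial : R) * d ^ n) := by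
  rw [map_sum, sum_range_succ, sum_eq_zero, zero_add, Dpow_mul_of_fixed σ (hc n), Dpow_pow_self hw]
  intro i hi
  rw [Dpow_mul_of_fixed σ (hc i), Dpow_pow_eq_zero hw (mem_range.1 hi), mul_zero]

end Diff

lemma isUnit_factorial {p : ℕ} (hp : p.Prime) (hpA : (p : A) = 0) {m : ℕ} (hm : m < p) :
    IsUnit ((m.factorial : ℕ) : A) := by
  have hcop : Nat.Coprime m.factorial p := by
    rw [Nat.coprime_comm, hp.coprime_iff_not_dvd, hp.dvd_factorial]
    omega
  have h2 : IsCoprime ((m.factorial : ℕ) : ℤ) (p : ℤ) := Nat.isCoprime_iff_coprime.mpr hcop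
  obtain ⟨x, y, hxy⟩ := h2
  have h3 := congrArg (Int.cast : ℤ → A) hxy
  push_cast at h3
  rw [hpA, mul_zero, add_zero] at h3
  exact IsUnit.of_mul_eq_one _ (by rw [mul_comm]; exact h3)

/-- Lemma A: descending induction on the degree. -/
theorem descend {p : ℕ} (hp : p.Prime) (hpA : (p : A) = 0) (σ : A →ₐ[R] A)
    (S : Subalgebra R A) (hS : ∀ s ∈ S, σ s = s) {w : A} {d : R}
    (hw : σ w = w + algebraMap R A d) :
    ∀ m, m < p → ∀ c : ℕ → A, (∀ i, c i ∈ S) →
      σ (∑ i ∈ range (m + 1), c i * w ^ i) = ∑ i ∈ range (m + 1), c i * w ^ i →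
      ∃ M : ℕ, algebraMap R A d ^ M * ∑ i ∈ range (m + 1), c i * w ^ i ∈ S := by
  intro m
  induction m with
  | zero =>
    intro _ c hc _
    exact ⟨0, by simpa using hc 0⟩
  | succ m ih =>
    intro hm c hc hfix
    have h1 := Dpow_sum hw c (fun i => hS _ (hc i)) (m + 1)
    rw [Dpow_of_fixed σ hfix (Nat.succ_ne_zero m)] at h1
    have h2 : c (m + 1) * algebraMap R A (d ^ (m + 1)) = 0 := by
      obtain ⟨v, hv⟩ := isUnit_factorial (A := A) hp hpA hm
      have h3 : c (m + 1) * algebraMap R A (d ^ (m + 1)) * ((m + 1).factorial : A) = 0 := by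
        calc _ = c (m + 1) * algebraMap R A (((m + 1).factorial : R) * d ^ (m + 1)) := by
              rw [map_mul, map_natCast]; ring
          _ = 0 := h1.symm
      rw [← hv] at h3
      simpa using congrArg (· * ((v⁻¹ : Aˣ) : A)) h3
    obtain ⟨M, hM⟩ := ih (by omega) (fun i => algebraMap R A (d ^ (m + 1)) * c i)
      (fun i => S.mul_mem (S.algebraMap_mem _) (hc i)) (by
        have : ∑ i ∈ range (m + 1), algebraMap R A (d ^ (m + 1)) * c i * w ^ i
            = algebraMap R A (d ^ (m + 1)) * ∑ i ∈ range (m + 1 + 1), c i * w ^ i := by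
          rw [sum_range_succ _ (m + 1), mul_add, mul_sum]
          have : algebraMap R A (d ^ (m + 1)) * (c (m + 1) * w ^ (m + 1)) = 0 := by
            rw [← mul_assoc, mul_comm _ (c (m + 1)), h2, zero_mul]
          rw [this, add_zero]
          exact sum_congr rfl fun i _ => by ring
        rw [this, map_mul, hfix, AlgHom.commutes])
    refine ⟨M + (m + 1), ?_⟩
    have : ∑ i ∈ range (m + 1), algebraMap R A (d ^ (m + 1)) * c i * w ^ i
        = algebraMap R A (d ^ (m + 1)) * ∑ i ∈ range (m + 1 + 1), c i * w ^ i := by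
      rw [sum_range_succ _ (m + 1), mul_add, mul_sum]
      have : algebraMap R A (d ^ (m + 1)) * (c (m + 1) * w ^ (m + 1)) = 0 := by
        rw [← mul_assoc, mul_comm _ (c (m + 1)), h2, zero_mul]
      rw [this, add_zero]
      exact sum_congr rfl fun i _ => by ring
    rw [this] at hM
    rw [pow_add, mul_assoc, ← map_pow (algebraMap R A) d (m + 1)]
    exact hM

section Poly

variable (S : Subalgebra R A) (w : A) (p : ℕ)

/-- the `S`-span of `1, w, …, w^(p-1)` -/
noncomputable def Q : Submodule S A := Submodule.span S (Set.range fun i : Fin p => w ^ (i : ℕ))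

lemma pow_mem_Q {i : ℕ} (hi : i < p) : w ^ i ∈ Q S w p :=
  Submodule.subset_span ⟨⟨i, hi⟩, rfl⟩

lemma mul_mem_Q {s q : A} (hs : s ∈ S) (hq : q ∈ Q S w p) : s * q ∈ Q S w p := by
  have := (Q S w p).smul_mem (⟨s, hs⟩ : S) hq
  simpa [Subalgebra.smul_def] using this

lemma mem_Q_of_mem {s : A} (hs : s ∈ S) (hp : 0 < p) : s ∈ Q S w p := by
  have := mul_mem_Q S w p hs (pow_mem_Q S w p hp)
  simpa using this

variable {S w p}

lemma w_mul_mem_Q (hp : 1 < p) {e1 e0 : A} (he1 : e1 ∈ S) (he0 : e0 ∈ S)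
    (hrel : w ^ p = e1 * w + e0) {q : A} (hq : q ∈ Q S w p) : w * q ∈ Q S w p := by
  induction hq using Submodule.span_induction with
  | mem x hx =>
    obtain ⟨i, rfl⟩ := hx
    show w * w ^ (i : ℕ) ∈ Q S w p
    rw [← pow_succ']
    by_cases hi : (i : ℕ) + 1 < p
    · exact pow_mem_Q S w p hi
    · have : (i : ℕ) + 1 = p := by have := i.2; omega
      rw [this, hrel]
      refine (Q S w p).add_mem (mul_mem_Q S w p he1 ?_) (mem_Q_of_mem S w p he0 (by omega))
      simpa using pow_mem_Q S w p hp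
  | zero => simp
  | add x y _ _ hx hy => rw [mul_add]; exact (Q S w p).add_mem hx hy
  | smul s x _ hx =>
    rw [mul_smul_comm]
    exact (Q S w p).smul_mem s hx

lemma exists_coeff_of_mem_Q {q : A} (hq : q ∈ Q S w p) :
    ∃ c : ℕ → A, (∀ i, c i ∈ S) ∧ q = ∑ i ∈ range p, c i * w ^ i := by
  obtain ⟨c, hc⟩ := (Submodule.mem_span_range_iff_exists_fun S).1 hq
  refine ⟨fun i => if h : i < p then (c ⟨i, h⟩ : A) else 0, fun i => ?_, ?_⟩
  · by_cases h : i < p
    · simp [h]
    · simp [h]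
  · rw [← hc, ← Fin.sum_univ_eq_sum_range (fun i => (if h : i < p then (c ⟨i, h⟩ : A) else 0) * w ^ i)]
    refine Finset.sum_congr rfl fun i _ => ?_
    simp [Subalgebra.smul_def]

end Poly

open MvPolynomial in
/-- The general statement. -/
theorem main {ι : Type*} {p : ℕ} (hp : p.Prime) (hpA : (p : A) = 0) (u : ι → A)
    (hsurj : Function.Surjective (MvPolynomial.aeval u : MvPolynomial ι R →ₐ[R] A))
    (μ : R) (b : ι → R) (i₀ : ι) (x : R)
    (hu : u i₀ ^ p = algebraMap R A ((μ * b i₀) ^ (p - 1)) * u i₀ + algebraMap R A x)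
    (σ : A →ₐ[R] A) (hσ : ∀ i, σ (u i) = u i + algebraMap R A (μ * b i))
    (z : {j : ι // j ≠ i₀} → A)
    (hz : ∀ j, z j = algebraMap R A (b i₀) * u j.1 - algebraMap R A (b j.1) * u i₀)
    (t : A) (ht : σ t = t) :
    ∃ N : ℕ, algebraMap R A (μ * b i₀) ^ N * t ∈ Algebra.adjoin R (Set.range z) := by
  classical
  obtain ⟨S, hSdef⟩ : ∃ S, S = Algebra.adjoin R (Set.range z) := ⟨_, rfl⟩
  rw [← hSdef]
  have hzS : ∀ j, z j ∈ S := fun j => hSdef ▸ Algebra.subset_adjoin ⟨j, rfl⟩
  have hS : ∀ s ∈ S, σ s = s := by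
    have hle : S ≤ AlgHom.equalizer σ (AlgHom.id R A) := by
      rw [hSdef]
      refine Algebra.adjoin_le ?_
      rintro _ ⟨j, rfl⟩
      show σ (z j) = z j
      rw [hz, map_sub, map_mul, map_mul, AlgHom.commutes, AlgHom.commutes, hσ, hσ, map_mul,
        map_mul]
      ring
    intro s hs
    exact hle hs
  obtain ⟨w, hwdef⟩ : ∃ w, w = u i₀ := ⟨_, rfl⟩
  have hp1 : 1 < p := hp.one_lt
  have hwQ : ∀ q ∈ Q S w p, w * q ∈ Q S w p := fun q hq =>
    w_mul_mem_Q hp1 (S.algebraMap_mem _) (S.algebraMap_mem _) (hwdef ▸ hu) hq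
  -- Lemma C
  have hC : ∀ f : MvPolynomial ι R, ∃ N : ℕ,
      algebraMap R A (b i₀) ^ N * MvPolynomial.aeval u f ∈ Q S w p := by
    intro f
    induction f using MvPolynomial.induction_on with
    | C r =>
      refine ⟨0, ?_⟩
      rw [pow_zero, one_mul, MvPolynomial.aeval_C]
      exact mem_Q_of_mem S w p (S.algebraMap_mem _) hp.pos
    | add f g hf hg =>
      obtain ⟨N1, h1⟩ := hf
      obtain ⟨N2, h2⟩ := hg
      refine ⟨N1 + N2, ?_⟩
      rw [map_add, mul_add]
      refine (Q S w p).add_mem ?_ ?_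
      · rw [pow_add, mul_comm (_ ^ N1), mul_assoc]
        exact mul_mem_Q S w p (S.pow_mem (S.algebraMap_mem _) _) h1
      · rw [pow_add, mul_assoc]
        exact mul_mem_Q S w p (S.pow_mem (S.algebraMap_mem _) _) h2
    | mul_X f j hf =>
      obtain ⟨N, h1⟩ := hf
      refine ⟨N + 1, ?_⟩
      rw [map_mul, MvPolynomial.aeval_X]
      obtain ⟨q, hq⟩ : ∃ q, q = algebraMap R A (b i₀) ^ N * MvPolynomial.aeval u f := ⟨_, rfl⟩
      rw [← hq] at h1
      by_cases hj : j = i₀
      · have : algebraMap R A (b i₀) ^ (N + 1) * (MvPolynomial.aeval u f * u j)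
            = algebraMap R A (b i₀) * (w * q) := by
          rw [hq, hwdef, hj]; ring
        rw [this]
        exact mul_mem_Q S w p (S.algebraMap_mem _) (hwQ q h1)
      · have : algebraMap R A (b i₀) ^ (N + 1) * (MvPolynomial.aeval u f * u j)
            = z ⟨j, hj⟩ * q + algebraMap R A (b j) * (w * q) := by
          rw [hq, hwdef, hz]; ring
        rw [this]
        exact (Q S w p).add_mem (mul_mem_Q S w p (hzS _) h1)
          (mul_mem_Q S w p (S.algebraMap_mem _) (hwQ q h1))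
  obtain ⟨f, rfl⟩ := hsurj t
  obtain ⟨N, hN⟩ := hC f
  obtain ⟨c, hc, hsum⟩ := exists_coeff_of_mem_Q hN
  obtain ⟨m, rfl⟩ : ∃ m, p = m + 1 := ⟨p - 1, by omega⟩
  have hσw : σ w = w + algebraMap R A (μ * b i₀) := by rw [hwdef]; exact hσ i₀
  have hfix : σ (∑ i ∈ range (m + 1), c i * w ^ i) = ∑ i ∈ range (m + 1), c i * w ^ i := by
    rw [← hsum, map_mul, ht, map_pow, AlgHom.commutes]
  obtain ⟨M, hM⟩ := descend hp hpA σ S hS hσw m (by omega) c hc hfix
  refine ⟨M + N, ?_⟩
  rw [← hsum] at hM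
  have : algebraMap R A (μ * b i₀) ^ (M + N) * MvPolynomial.aeval u f
      = algebraMap R A (μ ^ N) * (algebraMap R A (μ * b i₀) ^ M *
        (algebraMap R A (b i₀) ^ N * MvPolynomial.aeval u f)) := by
    rw [pow_add, map_mul, map_pow, mul_pow]; ring
  rw [this]
  exact S.mul_mem (S.algebraMap_mem _) hM

open MvPolynomial in
/-- The statement for a quotient of a polynomial ring. -/
theorem main_quot {R : Type*} [CommRing R] {ι : Type*} (I : Ideal (MvPolynomial ι R))
    {p : ℕ} (hp : p.Prime) (hpR : (p : R) = 0) (μ : R) (a : ι → R) (i₀ : ι) (x : R)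
    (hmem : (X i₀ ^ p - C ((μ * a i₀) ^ (p - 1)) * X i₀ - C x : MvPolynomial ι R) ∈ I)
    (σ : (MvPolynomial ι R ⧸ I) ≃ₐ[R] (MvPolynomial ι R ⧸ I))
    (hσ : ∀ i, σ (Ideal.Quotient.mk I (X i))
      = Ideal.Quotient.mk I (X i) + algebraMap R (MvPolynomial ι R ⧸ I) (μ * a i))
    (t : MvPolynomial ι R ⧸ I) (ht : σ t = t) :
    ∃ N : ℕ, algebraMap R (MvPolynomial ι R ⧸ I) (μ * a i₀) ^ N * t ∈
      Algebra.adjoin R (Set.range fun j : {j : ι // j ≠ i₀} =>
        algebraMap R (MvPolynomial ι R ⧸ I) (a i₀) * Ideal.Quotient.mk I (X j.1)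
          - algebraMap R (MvPolynomial ι R ⧸ I) (a j.1) * Ideal.Quotient.mk I (X i₀)) := by
  have hpA : ((p : ℕ) : MvPolynomial ι R ⧸ I) = 0 := by
    have h2 := congrArg (algebraMap R (MvPolynomial ι R ⧸ I)) hpR
    rwa [map_natCast, map_zero] at h2
  have hsurj : Function.Surjective
      (MvPolynomial.aeval (fun i => Ideal.Quotient.mk I (X i)) :
        MvPolynomial ι R →ₐ[R] (MvPolynomial ι R ⧸ I)) := by
    have : (MvPolynomial.aeval (fun i => Ideal.Quotient.mk I (X i)) :
        MvPolynomial ι R →ₐ[R] (MvPolynomial ι R ⧸ I)) = Ideal.Quotient.mkₐ R I := by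
      apply MvPolynomial.algHom_ext
      intro i
      rw [MvPolynomial.aeval_X]
      rfl
    rw [this]
    exact Ideal.Quotient.mkₐ_surjective R I
  have hu : (Ideal.Quotient.mk I (X i₀)) ^ p
      = algebraMap R (MvPolynomial ι R ⧸ I) ((μ * a i₀) ^ (p - 1)) * Ideal.Quotient.mk I (X i₀)
      + algebraMap R (MvPolynomial ι R ⧸ I) x := by
    have h0 := Ideal.Quotient.eq_zero_iff_mem.2 hmem
    rw [map_sub, map_sub, map_mul, map_pow] at h0
    have h1 : ∀ r : R, Ideal.Quotient.mk I (C r) = algebraMap R (MvPolynomial ι R ⧸ I) r :=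
      fun r => rfl
    rw [h1, h1] at h0
    linear_combination h0
  exact main hp hpA (fun i => Ideal.Quotient.mk I (X i)) hsurj μ a i₀ x hu
    σ.toAlgHom hσ _ (fun j => rfl) t ht

end Groth.Agent.H7.ASInv
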