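import Mathlib

/-!
# Helper7: WT1 — extending a topology along a fully faithful functor so that the source becomes a
dense subsite
-/

set_option autoImplicit false

universe v₁ v₂ u₁ u₂

open CategoryTheory

namespace Groth.Agent.H7.WT

variable {C : Type u₁} [Category.{v₁} C] {D : Type u₂} [Category.{v₂} D] (G : C ⥤ D)
  (J : GrothendieckTopology C)

/-- the topology on `D` whose covering sieves are those which restrict to covering sieves of `J`
along every morphism from an object of the image of `G` -/
def plusTop : GrothendieckTopology D where
  sieves d := {R | ∀ (U : C) (g : G.obj U ⟶ d), (R.pullback g).functorPullback G ∈ J U}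
  top_mem' d U g := by
    rw [Sieve.pullback_top]
    exact J.top_mem U
  pullback_stable' d d' R h hR U g := by
    rw [← Sieve.pullback_comp]
    exact hR U (g ≫ h)
  transitive' d S hS R hR U g := by
    refine J.transitive (hS U g) _ ?_
    intro V f hf
    have h1 := hR hf V (𝟙 _)
    convert h1 using 1
    ext W k
    change R.arrows (G.map (k ≫ f) ≫ g) ↔ R.arrows ((G.map k ≫ 𝟙 _) ≫ G.map f ≫ g)
    rw [Functor.map_comp, Category.comp_id, Category.assoc]

lemma mem_plusTop_iff {d : D} (R : Sieve d) :
    R ∈ plusTop G J d ↔ ∀ (U : C) (g : G.obj U ⟶ d), (R.pullback g).functorPullback G ∈ J U :=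
  Iff.rfl

variable [G.Full] [G.Faithful]

lemma mem_plusTop_obj {U : C} (T : Sieve (G.obj U)) :
    T ∈ plusTop G J (G.obj U) ↔ T.functorPullback G ∈ J U := by
  constructor
  · intro h
    have := h U (𝟙 _)
    rwa [Sieve.pullback_id] at this
  · intro h V g
    obtain ⟨g', rfl⟩ := G.map_surjective g
    have := J.pullback_stable g' h
    convert this using 1
    ext W k
    change T.arrows (G.map k ≫ G.map g') ↔ T.arrows (G.map (k ≫ g'))
    rw [Functor.map_comp]

instance isDenseSubsite : G.IsDenseSubsite J (plusTop G J) where
  isCoverDense' := ⟨fun d U g => by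
    have : (Sieve.coverByImage G d).pullback g = ⊤ := by
      exact (Sieve.mem_iff_pullback_eq_top g).mp (Presieve.in_coverByImage G g)
    rw [this]
    exact J.top_mem U⟩
  functorPushforward_mem_iff := by
    intro X S
    rw [mem_plusTop_obj]
    have : (S.functorPushforward G).functorPullback G = S :=
      (Sieve.fullyFaithfulFunctorGaloisCoinsertion G X).u_l_eq S
    rw [this]

end Groth.Agent.H7.WT
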