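import Mathlib
import Groth.Prelude.Def_AlgSpOX
import Groth.Agent.Lib.Lead.Colim.Main
import Groth.Agent.Lib.Lead.AbPull.LerayGen
import Groth.Agent.Lib.Helper2.GeoPushB
import Groth.Agent.Lib.Helper7.WT1

/-! # A small model with a terminal object of the small étale site of an algebraic space, and
transfer of cohomology. -/

set_option autoImplicit false
set_option linter.style.haveILetI false
set_option linter.unusedVariables false
universe u
open CategoryTheory CategoryTheory.Limits AlgebraicGeometry Opposite Abelian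

set_option backward.isDefEq.respectTransparency false

namespace Groth.Agent.H7.ASm

variable {S : Scheme.{u}} (X : AlgSp.Sp S)

/-- small model of the étale site (morphisms lifted one universe up). -/
abbrev SC : Type (u + 1) := ULiftHom.{u + 1} (AlgSp.EtOver X)

noncomputable instance : SmallCategory (SC X) :=
  inferInstanceAs (Category.{u + 1} (ULiftHom.{u + 1} (AlgSp.EtOver X)))

/-- the equivalence with the small model. -/
noncomputable abbrev eqv : AlgSp.EtOver X ≌ SC X := ULiftHom.equiv

/-- the small model with a terminal object adjoined. -/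
abbrev Dt : Type (u + 1) := WithTerminal (SC X)

noncomputable instance : SmallCategory (Dt X) :=
  inferInstanceAs (Category.{u + 1} (WithTerminal (SC X)))

/-- the inclusion of the site. -/
noncomputable abbrev Gt : AlgSp.EtOver X ⥤ Dt X := (eqv X).functor ⋙ WithTerminal.incl

/-- the extended topology. -/
noncomputable abbrev Kt : GrothendieckTopology (Dt X) := WT.plusTop (Gt X) (AlgSp.etTop X)

/-- the terminal object -/
abbrev star : Dt X := WithTerminal.star

/-- it is terminal -/
noncomputable def starIsTerminal : IsTerminal (star X) := WithTerminal.starTerminal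

/-- the equivalence of sheaf categories. -/
noncomputable abbrev Φ : AlgSp.AbEt X ≌ Sheaf (Kt X) AddCommGrpCat.{u + 1} :=
  Functor.IsDenseSubsite.sheafEquiv (AlgSp.etTop X) (Kt X) (Gt X) AddCommGrpCat.{u + 1}


instance : (Φ X).functor.Additive := Functor.additive_of_preserves_binary_products _

instance : (Φ X).inverse.Additive := Functor.additive_of_preserves_binary_products _

/-- the constant sheaf `ℤ` on the site of `X`. -/
noncomputable abbrev constZ : AlgSp.AbEt X :=
  (constantSheaf (AlgSp.etTop X) AddCommGrpCat.{u + 1}).obj (AddCommGrpCat.of (ULift ℤ))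

/-- the constant sheaf `ℤ` on the extended small model. -/
noncomputable abbrev constZt : Sheaf (Kt X) AddCommGrpCat.{u + 1} :=
  (constantSheaf (Kt X) AddCommGrpCat.{u + 1}).obj (AddCommGrpCat.of (ULift ℤ))

/-- `Hom(ℤ, F) ≃ F(⋆)`. -/
noncomputable def constEquiv (F : Sheaf (Kt X) AddCommGrpCat.{u + 1}) :
    (constZt X ⟶ F) ≃ F.obj.obj (op (star X)) :=
  (Ext.addEquiv₀ (X := constZt X) (Y := F)).symm.toEquiv.trans
    (Sheaf.H.equiv₀ F (starIsTerminal X)).toEquiv

lemma constEquiv_comp {F G : Sheaf (Kt X) AddCommGrpCat.{u + 1}} (φ : constZt X ⟶ F)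
    (ψ : F ⟶ G) :
    constEquiv X G (φ ≫ ψ) = ψ.hom.app (op (star X)) (constEquiv X F φ) := by
  change Sheaf.H.equiv₀ G (starIsTerminal X) (Ext.mk₀ (φ ≫ ψ)) =
    ψ.hom.app (op (star X)) (Sheaf.H.equiv₀ F (starIsTerminal X) (Ext.mk₀ φ))
  rw [Sheaf.H.equiv₀_naturality, Sheaf.H.map_apply, Ext.mk₀_comp_mk₀]

lemma constEquiv_zero (F : Sheaf (Kt X) AddCommGrpCat.{u + 1}) : constEquiv X F 0 = 0 :=
  ((Ext.addEquiv₀ (X := constZt X) (Y := F)).symm.trans
    (Sheaf.H.equiv₀ F (starIsTerminal X))).map_zero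

/-- restriction of the constant sheaf is the constant sheaf -/
noncomputable def κ : (Φ X).inverse.obj (constZt X) ≅ constZ X :=
  ((Functor.IsDenseSubsite.sheafEquivSheafificationCompatibility (AlgSp.etTop X) (Kt X) (Gt X)
    AddCommGrpCat.{u + 1}).app
      ((Functor.const (Dt X)ᵒᵖ).obj (AddCommGrpCat.of (ULift ℤ)))).symm

/-- `Hom(ℤ, Q) ≃ (Φ Q)(⋆)`. -/
noncomputable def θ (Q : AlgSp.AbEt X) :
    (constZ X ⟶ Q) ≃ ((Φ X).functor.obj Q).obj.obj (op (star X)) :=
  ((κ X).homCongr (Iso.refl Q)).symm.trans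
    (((Φ X).symm.toAdjunction.homEquiv (constZt X) Q).trans
      (constEquiv X ((Φ X).functor.obj Q)))

lemma θ_comp {Q Q' : AlgSp.AbEt X} (φ : constZ X ⟶ Q) (g : Q ⟶ Q') :
    θ X Q' (φ ≫ g) = ((Φ X).functor.map g).hom.app (op (star X)) (θ X Q φ) := by
  have h1 : ((κ X).homCongr (Iso.refl Q')).symm (φ ≫ g) =
      ((κ X).homCongr (Iso.refl Q)).symm φ ≫ g := by
    simp [Iso.homCongr]
  have h2 := Adjunction.homEquiv_naturality_right ((Φ X).symm.toAdjunction)
    (((κ X).homCongr (Iso.refl Q)).symm φ) g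
  have h3 := constEquiv_comp X
    (((Φ X).symm.toAdjunction.homEquiv (constZt X) Q) (((κ X).homCongr (Iso.refl Q)).symm φ))
    ((Φ X).functor.map g)
  unfold θ
  simp only [Equiv.trans_apply]
  exact (congrArg (fun m => constEquiv X _
    (((Φ X).symm.toAdjunction.homEquiv (constZt X) Q') m)) h1).trans
      ((congrArg (constEquiv X _) h2).trans h3)

lemma θ_zero (Q : AlgSp.AbEt X) : θ X Q 0 = 0 := by
  have h1 : ((κ X).homCongr (Iso.refl Q)).symm (0 : constZ X ⟶ Q) = 0 := by
    simp [Iso.homCongr]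
  have h2 : ((Φ X).symm.toAdjunction.homEquiv (constZt X) Q) 0 = 0 := by
    rw [Adjunction.homEquiv_unit]
    simp
  unfold θ
  simp only [Equiv.trans_apply]
  exact (congrArg (fun m => constEquiv X _
    (((Φ X).symm.toAdjunction.homEquiv (constZt X) Q) m)) h1).trans
      ((congrArg (constEquiv X _) h2).trans (constEquiv_zero X _))

/-- the comparison of Hom sets. -/
noncomputable def homCmp (Q : AlgSp.AbEt X) :
    (constZ X ⟶ Q) ≃ (LD.SC.ZU (Kt X) (star X) ⟶ (Φ X).functor.obj Q) :=
  (θ X Q).trans (LD.SC.homEquiv (star X) ((Φ X).functor.obj Q)).symm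

lemma homCmp_comp {Q Q' : AlgSp.AbEt X} (ψ : constZ X ⟶ Q) (g : Q ⟶ Q') :
    homCmp X Q' (ψ ≫ g) = homCmp X Q ψ ≫ (Φ X).functor.map g := by
  apply (LD.SC.homEquiv (star X) ((Φ X).functor.obj Q')).injective
  rw [LD.SC.homEquiv_comp]
  simp only [homCmp, Equiv.trans_apply]
  erw [Equiv.apply_symm_apply, Equiv.apply_symm_apply]
  exact θ_comp X ψ g

instance : (Φ X).functor.PreservesInjectiveObjects :=
  Functor.preservesInjectiveObjects_of_adjunction_of_preservesMonomorphisms
    (Φ X).symm.toAdjunction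

/-- **Transfer**: étale cohomology of `X` agrees with cohomology of the terminal object of the
extended small model. -/
theorem nonempty_ext_equiv (G : AlgSp.AbEt X) (n : ℕ) :
    Nonempty (Ext.{u + 1} (constZ X) G n ≃+
      Ext.{u + 1} (LD.SC.ZU (Kt X) (star X)) ((Φ X).functor.obj G) n) := by
  refine Groth.Agent.LD.AbPull.leray_of_isZero_rightDerived (Φ X).functor
    (LD.SC.ZU (Kt X) (star X)) (constZ X) (fun Q => homCmp X Q) ?_ ?_ G ?_ n
  · intro Q Q' ψ g
    exact homCmp_comp X ψ g
  · intro Q hQ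
    exact (Φ X).functor.injective_obj Q
  · intro q
    exact Groth.Agent.H2.GeoPush.isZero_rightDerived_succ (Φ X).functor G q

end Groth.Agent.H7.ASm
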