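import Mathlib

/-! # Pullbacks in a category with a terminal object adjoined. -/

set_option autoImplicit false
universe v u
open CategoryTheory CategoryTheory.Limits

namespace Groth.Agent.H7.WT

/-- a commutative square with unique lifts is a pullback square. -/
lemma isPullback_of_existsUnique {D : Type*} [Category D] {P A B U : D} {fst : P ⟶ A}
    {snd : P ⟶ B} {f : A ⟶ U} {g : B ⟶ U} (w : fst ≫ f = snd ≫ g)
    (h : ∀ (T : D) (a : T ⟶ A) (b : T ⟶ B), a ≫ f = b ≫ g →
      ∃! l : T ⟶ P, l ≫ fst = a ∧ l ≫ snd = b) :
    IsPullback fst snd f g := by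
  refine ⟨⟨w⟩, ⟨PullbackCone.IsLimit.mk _
    (fun s => (h s.pt s.fst s.snd s.condition).exists.choose) ?_ ?_ ?_⟩⟩
  · intro s; exact (h s.pt s.fst s.snd s.condition).exists.choose_spec.1
  · intro s; exact (h s.pt s.fst s.snd s.condition).exists.choose_spec.2
  · intro s m h1 h2
    exact (h s.pt s.fst s.snd s.condition).unique ⟨h1, h2⟩
      (h s.pt s.fst s.snd s.condition).exists.choose_spec

variable {C : Type u} [Category.{v} C]

open WithTerminal

/-- an object mapping to `of A` is of the form `of P`. -/
lemma exists_of_of_hom {P : WithTerminal C} {A : C} (f : P ⟶ of A) : ∃ P₀, P = of P₀ := by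
  cases P with
  | of P₀ => exact ⟨P₀, rfl⟩
  | star => exact (false_of_from_star f).elim

/-- the image of a pullback square is a pullback square. -/
lemma isPullback_incl {P A B U : C} {fst : P ⟶ A} {snd : P ⟶ B} {f : A ⟶ U} {g : B ⟶ U}
    (h : IsPullback fst snd f g) :
    IsPullback (incl.map fst) (incl.map snd) (incl.map f) (incl.map g) := by
  refine isPullback_of_existsUnique
    (by rw [← Functor.map_comp, ← Functor.map_comp, h.w]) ?_
  intro T a b w
  cases T with
  | star => exact (false_of_from_star a).elim
  | of T₀ =>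
    refine ⟨h.lift (down a) (down b) w, ⟨h.lift_fst _ _ _, h.lift_snd _ _ _⟩, ?_⟩
    intro m hm
    exact h.hom_ext (hm.1.trans (h.lift_fst _ _ _).symm) (hm.2.trans (h.lift_snd _ _ _).symm)

/-- a binary product gives a pullback square over the terminal object. -/
lemma isPullback_incl_star {P A B : C} {fst : P ⟶ A} {snd : P ⟶ B}
    (h : IsLimit (BinaryFan.mk fst snd)) (f : of A ⟶ star) (g : of B ⟶ star) :
    IsPullback (incl.map fst) (incl.map snd) f g := by
  refine isPullback_of_existsUnique (Subsingleton.elim _ _) ?_
  intro T a b w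
  cases T with
  | star => exact (false_of_from_star a).elim
  | of T₀ =>
    refine ⟨h.lift (BinaryFan.mk (down a) (down b)),
      ⟨h.fac (BinaryFan.mk (down a) (down b)) ⟨WalkingPair.left⟩,
        h.fac (BinaryFan.mk (down a) (down b)) ⟨WalkingPair.right⟩⟩, ?_⟩
    intro m hm
    refine BinaryFan.IsLimit.hom_ext h ?_ ?_
    · exact hm.1.trans (h.fac (BinaryFan.mk (down a) (down b)) ⟨WalkingPair.left⟩).symm
    · exact hm.2.trans (h.fac (BinaryFan.mk (down a) (down b)) ⟨WalkingPair.right⟩).symm

/-- a pullback square between objects of `C`. -/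
lemma isPullback_down {P A B U : C} {fst : of P ⟶ of A} {snd : of P ⟶ of B} {f : of A ⟶ of U}
    {g : of B ⟶ of U} (h : IsPullback fst snd f g) :
    IsPullback (down fst) (down snd) (down f) (down g) :=
  IsPullback.of_map (incl : C ⥤ WithTerminal C) h.w h

/-- a pullback square over the terminal object is a binary product. -/
lemma nonempty_isLimit_binaryFan {P A B : C} {fst : of P ⟶ of A} {snd : of P ⟶ of B}
    {f : of A ⟶ star} {g : of B ⟶ star} (h : IsPullback fst snd f g) :
    Nonempty (IsLimit (BinaryFan.mk (down fst) (down snd))) := by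
  have key : ∀ {T : C} (a : T ⟶ A) (b : T ⟶ B),
      (incl.map a : of T ⟶ of A) ≫ f = (incl.map b : of T ⟶ of B) ≫ g :=
    fun a b => Subsingleton.elim _ _
  refine ⟨BinaryFan.IsLimit.mk _ (fun {T} a b => down (h.lift (incl.map a) (incl.map b)
    (key a b))) ?_ ?_ ?_⟩
  · intro T a b
    exact h.lift_fst (incl.map a) (incl.map b) (key a b)
  · intro T a b
    exact h.lift_snd (incl.map a) (incl.map b) (key a b)
  · intro T a b m h1 h2
    have e1 : (incl.map m : of T ⟶ of P) ≫ fst = incl.map a := h1
    have e2 : (incl.map m : of T ⟶ of P) ≫ snd = incl.map b := h2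
    exact h.hom_ext (e1.trans (h.lift_fst (incl.map a) (incl.map b) (key a b)).symm)
      (e2.trans (h.lift_snd (incl.map a) (incl.map b) (key a b)).symm)

instance hasPullbacks [HasPullbacks C] [HasBinaryProducts C] : HasPullbacks (WithTerminal C) := by
  refine @hasPullbacks_of_hasLimit_cospan _ _ ?_
  intro A B U f g
  match A, B, U, f, g with
  | WithTerminal.star, _, of U, f, _ => exact (false_of_from_star f).elim
  | _, WithTerminal.star, of U, _, g => exact (false_of_from_star g).elim
  | of A, of B, of U, f, g =>
    exact (isPullback_incl (IsPullback.of_hasPullback (down f) (down g))).hasPullback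
  | of A, of B, WithTerminal.star, f, g =>
    exact (isPullback_incl_star (prodIsProd A B) f g).hasPullback
  | WithTerminal.star, B, WithTerminal.star, f, g =>
    haveI : IsIso f := isIso_of_from_star f
    exact (IsPullback.of_vert_isIso (fst := g) (snd := 𝟙 B) (f := f) (g := g)
      ⟨Subsingleton.elim _ _⟩).hasPullback
  | of A, WithTerminal.star, WithTerminal.star, f, g =>
    haveI : IsIso g := isIso_of_from_star g
    exact (IsPullback.of_horiz_isIso (fst := 𝟙 (of A)) (snd := f) (f := f) (g := g)
      ⟨Subsingleton.elim _ _⟩).hasPullback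

end Groth.Agent.H7.WT
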