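import Mathlib
import Groth.Agent.Lib.Helper7.ASm1
import Groth.Agent.Lib.Helper7.WT2

/-! # Étale cohomology of an algebraic space commutes with filtered colimits, given a `Basis` of
the extended small model containing the terminal object. -/

set_option autoImplicit false
set_option linter.style.haveILetI false
set_option linter.unusedVariables false
set_option linter.unusedSectionVars false
universe u
open CategoryTheory CategoryTheory.Limits AlgebraicGeometry Opposite Abelian

set_option backward.isDefEq.respectTransparency false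

namespace Groth.Agent.H7.ASm

open Groth.Agent.LD.Colim Groth.Agent.LD.CH

variable {S : Scheme.{u}} (X : AlgSp.Sp S)

instance hasPullbacks_SC : HasPullbacks (SC X) :=
  Adjunction.hasLimitsOfShape_of_equivalence (eqv X).inverse

instance hasBinaryProducts_SC : HasBinaryProducts (SC X) :=
  Adjunction.hasLimitsOfShape_of_equivalence (eqv X).inverse

instance hasPullbacks_Dt : HasPullbacks (Dt X) := WT.hasPullbacks

variable {B : Set (Dt X)} {Cov : ∀ (U : Dt X) (ι : Type (u + 1)), (ι → Over U) → Prop}
  (hB : Basis (Kt X) B Cov) (hstar : star X ∈ B)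

variable {I : Type (u + 1)} [SmallCategory I] [IsFiltered I]

/-- the image of the colimit cocone in the small model. -/
noncomputable abbrev cocΦ (D : I ⥤ AlgSp.AbEt X) : Cocone (D ⋙ (Φ X).functor) :=
  (Φ X).functor.mapCocone (colimit.cocone D)

/-- it is a colimit cocone. -/
noncomputable def cocΦIsColimit (D : I ⥤ AlgSp.AbEt X) : IsColimit (cocΦ X D) :=
  isColimitOfPreserves (Φ X).functor (colimit.isColimit D)

include hB hstar in
theorem surjP_zero (D : I ⥤ AlgSp.AbEt X) : SurjP (constZ X) 0 D := by
  intro x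
  obtain ⟨φ, rfl⟩ := (Ext.mk₀_bijective _ _).surjective x
  obtain ⟨i, t, ht⟩ := sec_surj hB (cocΦIsColimit X D) hstar (θ X (colimit D) φ)
  refine ⟨i, Ext.mk₀ ((θ X (D.obj i)).symm t), ?_⟩
  unfold pc
  rw [Ext.mk₀_comp_mk₀]
  congr 1
  apply (θ X _).injective
  rw [θ_comp, Equiv.apply_symm_apply]
  exact ht

include hB hstar in
theorem injP_zero (D : I ⥤ AlgSp.AbEt X) : InjP (constZ X) 0 D := by
  intro i y hy
  obtain ⟨ψ, rfl⟩ := (Ext.mk₀_bijective _ _).surjective y
  unfold pc at hy ⊢
  rw [Ext.mk₀_comp_mk₀, Ext.mk₀_eq_zero_iff] at hy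
  have h1 : ((Φ X).functor.map (colimit.ι D i)).hom.app (op (star X)) (θ X _ ψ) = 0 := by
    rw [← θ_comp, hy]
    exact θ_zero X _
  obtain ⟨j, g, hg⟩ := sec_inj hB (cocΦIsColimit X D) hstar i (θ X (D.obj i) ψ) h1
  refine ⟨j, g, ?_⟩
  rw [Ext.mk₀_comp_mk₀, Ext.mk₀_eq_zero_iff]
  apply (θ X _).injective
  rw [θ_comp]
  refine Eq.trans hg ?_
  exact (θ_zero X _).symm

include hB hstar in
/-- a filtered colimit of injective abelian sheaves is acyclic. -/
theorem subsingleton_ext_colimit_injective (E : I ⥤ AlgSp.AbEt X)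
    (hE : ∀ i, Injective (E.obj i)) (q : ℕ) :
    Subsingleton (Ext.{u + 1} (constZ X) (colimit E) (q + 1)) := by
  obtain ⟨e⟩ := nonempty_ext_equiv X (colimit E) (q + 1)
  have h : Subsingleton (Ext.{u + 1} (LD.SC.ZU (Kt X) (star X))
      ((Φ X).functor.obj (colimit E)) (q + 1)) := by
    refine subsingleton_ext_colimit hB (cocΦIsColimit X E) ?_ hstar q
    intro i V ι Y _ p
    haveI : Injective ((E ⋙ (Φ X).functor).obj i) := by
      haveI := hE i
      exact (Φ X).functor.injective_obj (E.obj i)
    exact isZero_cechO_of_injective Y _ p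
  exact e.toEquiv.subsingleton

include hB hstar in
theorem surjP_injP (q : ℕ) :
    ∀ D : I ⥤ AlgSp.AbEt X, SurjP (constZ X) q D ∧ InjP (constZ X) q D := by
  induction q with
  | zero => exact fun D => ⟨surjP_zero X hB hstar D, injP_zero X hB hstar D⟩
  | succ q ih =>
    intro D
    have hS := embSC_shortExact D
    have h1 : ∀ i, Subsingleton (Ext.{u + 1} (constZ X) ((embSC D).X₂.obj i) (q + 1)) := fun i =>
      haveI : Injective ((embSC D).X₂.obj i) := inferInstanceAs (Injective ((emb D).obj i))
      ⟨fun a b => by rw [Ext.eq_zero_of_injective a, Ext.eq_zero_of_injective b]⟩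
    have h2 : Subsingleton (Ext.{u + 1} (constZ X) (colimit (embSC D).X₂) (q + 1)) :=
      subsingleton_ext_colimit_injective X hB hstar (embSC D).X₂
        (fun i => inferInstanceAs (Injective ((emb D).obj i))) q
    exact ⟨shift_surj (embSC D) hS q h2 (ih _).1, shift_inj (embSC D) hS q h1 (ih _).1 (ih _).2⟩

include hB hstar in
/-- **`H^q(X_ét, -)` commutes with filtered colimits** (index categories in `Type (u+1)`). -/
theorem preservesColimit_HF (q : ℕ) (D : I ⥤ AlgSp.AbEt X) :
    PreservesColimit D (AlgSp.HEtF X q) :=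
  preservesColimit_ext (constZ X) q D (surjP_injP X hB hstar q D).1 (surjP_injP X hB hstar q D).2

end Groth.Agent.H7.ASm
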