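import Mathlib
import Groth.Agent.Lib.Helper7.ASm2
import Groth.Agent.Lib.Helper7.ASm3

/-! # The quasi-compact quasi-separated objects and the terminal object form a `Basis` of the
extended small model of the étale site of a quasi-compact quasi-separated algebraic space. -/

set_option autoImplicit false
set_option linter.style.haveILetI false
set_option linter.unusedVariables false
set_option linter.unusedSectionVars false
universe u
open CategoryTheory CategoryTheory.Limits AlgebraicGeometry Opposite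

set_option backward.isDefEq.respectTransparency false

namespace Groth.Agent.H7.WT

universe v₁ v₂ u₁ u₂

variable {C : Type u₁} [Category.{v₁} C] {D : Type u₂} [Category.{v₂} D] (G : C ⥤ D)
  (J : GrothendieckTopology C) [G.Full] [G.Faithful]

lemma ofArrows_map_mem_plusTop {U : C} {ι : Type*} (V : ι → C) (g : ∀ i, V i ⟶ U)
    (h : Sieve.ofArrows V g ∈ J U) :
    Sieve.ofArrows (fun i => G.obj (V i)) (fun i => G.map (g i)) ∈ plusTop G J (G.obj U) := by
  rw [mem_plusTop_obj]
  refine J.superset_covering ?_ h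
  intro W f hf
  obtain ⟨i, a, rfl⟩ := (Sieve.mem_ofArrows_iff _ _ _).1 hf
  exact (Sieve.mem_ofArrows_iff _ _ _).2 ⟨i, G.map a, G.map_comp _ _⟩

end Groth.Agent.H7.WT

namespace Groth.Agent.H7.ASm

open Groth.Agent.LD.Colim AlgSp WithTerminal

variable {S : Scheme.{u}} (X : AlgSp.Sp S)

/-- the terminal object together with the quasi-compact quasi-separated objects. -/
def Bt : Set (Dt X) := {d | ∀ U : SC X, d = of U → QCQS ((eqv X).inverse.obj U)}

lemma star_mem : star X ∈ Bt X := by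
  intro U h
  cases h

variable {X}

lemma of_mem {U : SC X} (h : QCQS ((eqv X).inverse.obj U)) : (of U : Dt X) ∈ Bt X := by
  intro U' h'
  cases h'
  exact h

lemma mem_Bt_of_iso {P Q : Dt X} (e : P ≅ Q) (hQ : Q ∈ Bt X) : P ∈ Bt X := by
  intro P₀ hP
  subst hP
  cases Q with
  | star => exact (false_of_from_star e.inv).elim
  | of Q₀ =>
    have e' : P₀ ≅ Q₀ := (incl : SC X ⥤ Dt X).preimageIso e
    exact qcqs_of_iso ((eqv X).inverse.mapIso e').symm (hQ Q₀ rfl)

lemma mem_Bt_of_isPullback [QuasiSeparatedSpace ↥S] (hqs : IsQuasiSeparatedSp X) {P A B U : Dt X}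
    {fst : P ⟶ A} {snd : P ⟶ B} {f : A ⟶ U} {g : B ⟶ U} (h : IsPullback fst snd f g)
    (hA : A ∈ Bt X) (hB : B ∈ Bt X) (hU : U ∈ Bt X) : P ∈ Bt X := by
  cases A with
  | star =>
    haveI : IsIso f := isIso_of_from_star f
    haveI : IsIso snd := h.isIso_snd_of_isIso
    exact mem_Bt_of_iso (asIso snd) hB
  | of A₀ =>
    cases B with
    | star =>
      haveI : IsIso g := isIso_of_from_star g
      haveI : IsIso fst := h.isIso_fst_of_isIso
      exact mem_Bt_of_iso (asIso fst) hA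
    | of B₀ =>
      obtain ⟨P₀, rfl⟩ := WT.exists_of_of_hom fst
      apply of_mem
      cases U with
      | star =>
        obtain ⟨hl⟩ := WT.nonempty_isLimit_binaryFan h
        have hl' := (isLimitMapConeBinaryFanEquiv (eqv X).inverse (down fst) (down snd))
          (isLimitOfPreserves (eqv X).inverse hl)
        exact qcqs_of_isLimit_binaryFan hqs (hA A₀ rfl) (hB B₀ rfl) _ hl'
      | of U₀ =>
        have sq := (WT.isPullback_down h).map (eqv X).inverse
        exact qcqs_of_isPullback sq (hA A₀ rfl) (hB B₀ rfl) (hU U₀ rfl)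

lemma mem_of_isLimit_fan [QuasiSeparatedSpace ↥S] (hqs : IsQuasiSeparatedSp X) :
    ∀ (n : ℕ) {U : Dt X} (hU : U ∈ Bt X) (f : Fin n → Over U), (∀ i, (f i).left ∈ Bt X) →
    ∀ (c : Fan f), IsLimit c → c.pt.left ∈ Bt X
  | 0, U, hU, f, _, c, hc => by
    let t : Fan f := Fan.mk (Over.mk (𝟙 U)) (fun i => Fin.elim0 i)
    let σ : Over.mk (𝟙 U) ⟶ c.pt := hc.lift t
    have h1 : σ.left ≫ c.pt.hom = 𝟙 U := Over.w σ
    have h2 : (Over.homMk c.pt.hom : c.pt ⟶ Over.mk (𝟙 U)) ≫ σ = 𝟙 c.pt :=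
      hc.hom_ext (fun j => Fin.elim0 j.as)
    have h3 : c.pt.hom ≫ σ.left = 𝟙 c.pt.left := congrArg (fun m => m.left) h2
    haveI : IsIso c.pt.hom := ⟨σ.left, h3, h1⟩
    exact mem_Bt_of_iso (asIso c.pt.hom) hU
  | n + 1, U, hU, f, hf, c, hc => by
    let c₁ : Fan (fun i : Fin n => f i.succ) := Fan.mk _ (Pi.π (fun i : Fin n => f i.succ))
    have t₁ : IsLimit c₁ := productIsProduct _
    have g₁ : c₁.pt.left ∈ Bt X := mem_of_isLimit_fan hqs n hU _ (fun i => hf i.succ) c₁ t₁
    let c₂ : BinaryFan (f 0) c₁.pt := BinaryFan.mk prod.fst prod.snd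
    have t₂ : IsLimit c₂ := prodIsProd _ _
    have g₂ : c₂.pt.left ∈ Bt X :=
      mem_Bt_of_isPullback hqs (Over.isPullback_of_binaryFan_isLimit c₂ t₂) (hf 0) g₁ hU
    have t₃ := extendFanIsLimit f t₁ t₂
    exact mem_Bt_of_iso ((Over.forget U).mapIso (hc.conePointUniqueUpToIso t₃)) g₂

variable (X)

/-- finite covering families with members in `Bt`. -/
def Cov (U : Dt X) (ι : Type (u + 1)) (Y : ι → Over U) : Prop :=
  Finite ι ∧ U ∈ Bt X ∧ (∀ i, (Y i).left ∈ Bt X) ∧
    Sieve.ofArrows (fun i => (Y i).left) (fun i => (Y i).hom) ∈ Kt X U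

variable {X}

lemma h2_of (U₀ : SC X) (hU : QCQS ((eqv X).inverse.obj U₀)) (T : Sieve (of U₀ : Dt X))
    (hT : T ∈ Kt X (of U₀)) :
    ∃ (ι : Type (u + 1)) (Y : ι → Over (of U₀ : Dt X)), Cov X (of U₀) ι Y ∧
      ∀ i, T.arrows (Y i).hom := by
  let E : EtOver X := (eqv X).inverse.obj U₀
  have hT' : T ∈ WT.plusTop (Gt X) (etTop X) ((Gt X).obj E) := hT
  have h1 : Sieve.functorPullback (Gt X) T ∈ etTop X E :=
    (WT.mem_plusTop_obj (Gt X) (etTop X) T).1 hT'
  haveI : CompactSpace ↥E.obj.left.left := hU.1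
  obtain ⟨n, V, g, haff, hin, hcov⟩ := exists_finite_affine_refinement E _ h1
  refine ⟨ULift.{u + 1} (Fin n), fun i => Over.mk
    ((Gt X).map (g i.down) : (Gt X).obj (V i.down) ⟶ of U₀),
    ⟨inferInstance, of_mem hU, fun i => ?_, ?_⟩, fun i => hin i.down⟩
  · haveI := haff i.down
    exact of_mem (qcqs_of_isAffine (V i.down))
  · exact WT.ofArrows_map_mem_plusTop (Gt X) (etTop X) (U := E) (fun i : ULift.{u + 1} (Fin n) =>
      V i.down) (fun i => g i.down) (ofArrows_mem_etTop _ _ (fun x => by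
        obtain ⟨k, hk⟩ := hcov x
        exact ⟨⟨k⟩, hk⟩))

lemma h2_star (hqc : IsQuasiCompactSp X) (T : Sieve (star X)) (hT : T ∈ Kt X (star X)) :
    ∃ (ι : Type (u + 1)) (Y : ι → Over (star X)), Cov X (star X) ι Y ∧
      ∀ i, T.arrows (Y i).hom := by
  obtain ⟨U₀, p, hp, hs, hc⟩ := hqc
  let E₀ : EtOver X := EtOver.mk p hp
  haveI : CompactSpace ↥E₀.obj.left.left := hc
  let e₀ : (Gt X).obj E₀ ⟶ star X := (starIsTerminal X).from _
  have h1 : Sieve.functorPullback (Gt X) (T.pullback e₀) ∈ etTop X E₀ := hT E₀ e₀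
  obtain ⟨n, V, g, haff, hin, hcov⟩ := exists_finite_affine_refinement E₀ _ h1
  refine ⟨ULift.{u + 1} (Fin n), fun i => Over.mk
    ((Gt X).map (g i.down) ≫ e₀ : (Gt X).obj (V i.down) ⟶ star X),
    ⟨inferInstance, star_mem X, fun i => ?_, ?_⟩, fun i => hin i.down⟩
  · haveI := haff i.down
    exact of_mem (qcqs_of_isAffine (V i.down))
  · -- the covering condition, by transitivity through the chart
    let R : Sieve (star X) := Sieve.ofArrows (fun i : ULift.{u + 1} (Fin n) => (Gt X).obj (V i.down))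
      (fun i => (Gt X).map (g i.down) ≫ e₀)
    let R₀ : Sieve (star X) := Sieve.ofArrows (fun _ : Unit => (Gt X).obj E₀) (fun _ => e₀)
    have hR₀ : R₀ ∈ Kt X (star X) := by
      intro U gU
      refine (etTop X).superset_covering ?_ (ofArrows_mem_etTop (fun _ : Unit => EtOver.prodObj U E₀)
        (fun _ => EtOver.prodFst U E₀) (fun x => by
          obtain ⟨z, hz⟩ := surjective_prodFst p hp hs U x
          exact ⟨(), z, hz⟩))
      intro W f hf
      obtain ⟨_, a, rfl⟩ := (Sieve.mem_ofArrows_iff _ _ _).1 hf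
      exact (Sieve.mem_ofArrows_iff _ _ _).2 ⟨(), (Gt X).map (a ≫ EtOver.prodSnd U E₀),
        Subsingleton.elim _ _⟩
    have hRe : R.pullback e₀ ∈ Kt X ((Gt X).obj E₀) := by
      refine (Kt X).superset_covering ?_ (WT.ofArrows_map_mem_plusTop (Gt X) (etTop X) (U := E₀)
        (fun i : ULift.{u + 1} (Fin n) => V i.down) (fun i => g i.down)
        (ofArrows_mem_etTop _ _ (fun x => by
          obtain ⟨k, hk⟩ := hcov x
          exact ⟨⟨k⟩, hk⟩)))
      intro W f hf
      obtain ⟨i, a, rfl⟩ := (Sieve.mem_ofArrows_iff _ _ _).1 hf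
      exact (Sieve.mem_ofArrows_iff _ _ _).2 ⟨i, a, Category.assoc _ _ _⟩
    refine (Kt X).transitive hR₀ R ?_
    intro Y f hf
    obtain ⟨_, a, rfl⟩ := (Sieve.mem_ofArrows_iff _ _ _).1 hf
    rw [Sieve.pullback_comp]
    exact (Kt X).pullback_stable a hRe

/-- **the basis.** -/
theorem basis [QuasiSeparatedSpace ↥S] (hqc : IsQuasiCompactSp X) (hqs : IsQuasiSeparatedSp X) :
    Basis (Kt X) (Bt X) (Cov X) where
  h1 := by
    rintro U ι Y ⟨hfin, hU, hY, hcov⟩
    refine ⟨hfin, hU, hcov, ?_⟩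
    intro p a
    exact mem_of_isLimit_fan hqs (p + 1) hU (fun k => Y (a k)) (fun k => hY (a k)) _
      (productIsProduct _)
  h2 := by
    rintro U hU T hT
    cases U with
    | star => exact h2_star hqc T hT
    | of U₀ => exact h2_of U₀ (hU U₀ rfl) T hT

/-- **Étale cohomology of a quasi-compact quasi-separated algebraic space commutes with filtered
colimits.** -/
theorem S10736_main [QuasiSeparatedSpace ↥S] (hqc : IsQuasiCompactSp X)
    (hqs : IsQuasiSeparatedSp X) (J : Type (u + 1)) [SmallCategory J] [IsFiltered J] (p : ℕ) :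
    PreservesColimitsOfShape J (AlgSp.HEtF X p) :=
  ⟨fun {D} => preservesColimit_HF X (basis hqc hqs) (star_mem X) p D⟩

end Groth.Agent.H7.ASm
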