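import Groth.Agent.Lib.Helper5.SV.Classical
import Groth.Agent.Lib.Helper5.SV.Canon
import Groth.Agent.Lib.Helper5.SV.Invariance
import Groth.Agent.Lib.Helper5.SV.Canonical
import Groth.Agent.Lib.Helper5.FunFld.Aut

/-! Weierstrass points of the canonical map: local weights and gap sequences (helper7). -/

set_option autoImplicit false
set_option linter.unusedSectionVars false

namespace Groth.Agent.H7.AW

open FunFld FunFld.SV WithZero LocRes

/-- Strictly monotone sequences with the same range agree. -/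
lemma strictMono_unique {n : ℕ} {f g : Fin n → ℕ} (hf : StrictMono f) (hg : StrictMono g)
    (h : Set.range f = Set.range g) : f = g := by
  classical
  set s : Finset ℕ := Finset.univ.image f with hs
  have hcard : s.card = n := by
    rw [hs, Finset.card_image_of_injective _ hf.injective, Finset.card_univ, Fintype.card_fin]
  have h1 : f = s.orderEmbOfFin hcard :=
    Finset.orderEmbOfFin_unique hcard (fun x => Finset.mem_image_of_mem _ (Finset.mem_univ x)) hf
  have h2 : g = s.orderEmbOfFin hcard := by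
    refine Finset.orderEmbOfFin_unique hcard (fun x => ?_) hg
    have : g x ∈ Set.range f := by rw [h]; exact ⟨x, rfl⟩
    obtain ⟨y, hy⟩ := this
    rw [← hy]
    exact Finset.mem_image_of_mem _ (Finset.mem_univ y)
  rw [h1, h2]

lemma isOrders_unique {R M : Type*} [Semiring R] [AddCommMonoid M] [Module R M] {c : ℕ → M}
    {n : ℕ} {J J' : Fin n → ℕ} (h : IsOrders R c J) (h' : IsOrders R c J') : J = J' := by
  refine strictMono_unique h.1 h'.1 ?_
  ext j
  rw [h.2 j, h'.2 j]

variable {k K : Type*} [Field k] [IsAlgClosed k] [Field K] [Algebra k K]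

section canon

variable (hK : IsFunctionField k K)

include hK in
lemma ell_single_one (hg : 0 < genus k K) (P : Place k K) :
    ell (Finsupp.single P 1 : Divisor k K) = 1 := by
  have hP := Place.deg_eq_one_of_isAlgClosed hK P
  have h1 := isGap_one_of_genus_pos hK P hP hg
  unfold IsGap at h1
  rw [ell, h1]
  have : (Finsupp.single P ((1 : ℤ) - 1) : Divisor k K) = 0 := by simp
  rw [this]
  exact ell_zero hK

include hK in
/-- The divisor of the canonical map is the canonical divisor (no base points). -/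
theorem mapDiv_canonical (hg : 0 < genus k K) (C : Divisor k K) (hC : IsCanonical k K C)
    {n : ℕ} (φ : Fin (n + 1) → K) (hφ : LinearIndependent k φ)
    (hspan : Submodule.span k (Set.range φ) = L C) : mapDiv k φ = C := by
  classical
  have hφ0 : ∀ i, φ i ≠ 0 := fun i => hφ.ne_zero i
  have hle : mapDiv k φ ≤ C := by
    intro P
    rw [mapDiv_apply hK]
    obtain ⟨i, hi⟩ := exists_minOrd_eq φ P
    rw [hi]
    have hmem : φ i ∈ L C := by rw [← hspan]; exact Submodule.subset_span ⟨i, rfl⟩
    have := hmem P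
    rw [P.v_le_exp_iff (hφ0 i)] at this
    linarith
  by_contra hne
  have hex : ∃ P, mapDiv k φ P < C P := by
    by_contra hall
    push Not at hall
    exact hne (le_antisymm hle hall)
  obtain ⟨P, hP⟩ := hex
  have hdP := Place.deg_eq_one_of_isAlgClosed hK P
  have hle2 : mapDiv k φ ≤ C - Finsupp.single P 1 := by
    intro Q
    rw [Finsupp.sub_apply]
    by_cases hQ : Q = P
    · subst hQ
      rw [Finsupp.single_eq_same]
      omega
    · rw [Finsupp.single_eq_of_ne hQ, sub_zero]
      exact hle Q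
  have h1 : L C ≤ L (C - Finsupp.single P 1) := by
    rw [← hspan]
    exact (span_le_L_mapDiv hK φ).trans (L_mono hle2)
  have h2 : ell C ≤ ell (C - Finsupp.single P 1) := by
    have := finiteDimensional_L hK (C - Finsupp.single P 1)
    exact Submodule.finrank_mono h1
  have hrr := riemann_roch hK hC (C - Finsupp.single P 1)
  rw [sub_sub_cancel, ell_single_one hK hg P, Divisor.deg_sub, deg_canonical hK hC,
    Divisor.deg_single, hdP] at hrr
  rw [ell_canonical hK hC] at h2
  push_cast at hrr
  omega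

include hK in
theorem card_canonical (C : Divisor k K) (hC : IsCanonical k K C)
    {n : ℕ} (φ : Fin (n + 1) → K) (hφ : LinearIndependent k φ)
    (hspan : Submodule.span k (Set.range φ) = L C) : n + 1 = genus k K := by
  have h1 := finrank_span_eq_card hφ
  rw [hspan, Fintype.card_fin] at h1
  rw [← ell_canonical hK hC, ← h1]
  rfl

end canon

section local_weight

variable (hK : IsFunctionField k K)

include hK in
/-- Local formula for the Weierstrass divisor in the classical case. -/
theorem wDiv_apply_classical {n : ℕ} (φ : Fin (n + 1) → K) (hφ : LinearIndependent k φ)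
    (hchar : ringChar k = 0 ∨ (mapDiv k φ).deg < ringChar k)
    (s : K) (H : K →ₐ[k] PowerSeries K) (hH : IsHasseFamily s H)
    (J : Fin n → ℕ) (hJ : IsOrders K (hcol (AlgHom.id k K) H φ) J)
    (Φ : Place k K → (K →ₐ[k] LaurentSeries k))
    (hΦ : ∀ P : Place k K, IsExpansionAt P.1 (Φ P)) (P : Place k K) :
    ∃ (t : K) (Ht : K →ₐ[k] PowerSeries K) (y : K) (J' : Fin n → ℕ),
      P.1 t = exp (-1 : ℤ) ∧ IsHasseFamily t Ht ∧ y ≠ 0 ∧ LinearIndependent k (y • φ) ∧
      (1 : K) ∈ Submodule.span k (Set.range (y • φ)) ∧ (∀ i, P.1 ((y • φ) i) ≤ 1) ∧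
      IsOrders (IsLocalRing.ResidueField P.O) (hcolAt P Ht (y • φ)) J' ∧
      wDiv (AlgHom.id k K) H Φ s φ J P = ∑ l : Fin n, ((J' l : ℤ) - ((l : ℕ) + 1 : ℕ)) := by
  classical
  obtain ⟨t, Ht, y, J', ht, hHt, hy0, hli, heff, hnorm, hJ', hJ'le⟩ :=
    exists_setup_at hK P φ hφ hH
  refine ⟨t, Ht, y, J', ht, hHt, hy0, hli, heff, hnorm, hJ', ?_⟩
  have hP := Place.deg_eq_one_of_isAlgClosed hK P
  set I : Fin n → ℕ := fun l => (l : ℕ) + 1 with hI
  have hJI : J = I := isOrders_unique hJ ((classical_orders hK φ hφ hchar _ s H hH).1 rfl)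
  have hJ'pos : ∀ l, 0 < J' l := by
    intro l
    have := ((mem_range_orders_iff hK hP ht hHt hnorm hJ' (J' l)).1 ⟨l, rfl⟩).1
    omega
  set N := ((mapDiv k φ).deg).toNat with hN
  have hJ'N : ∀ l, J' l ≤ N := fun l => by
    have := hJ'le l
    omega
  have hcharN : ringChar k = 0 ∨ N < ringChar k := by
    rcases hchar with h | h
    · exact Or.inl h
    · by_cases hc0 : ringChar k = 0
      · exact Or.inl hc0
      · right
        have hcpos : 0 < ringChar k := Nat.pos_of_ne_zero hc0
        omega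
  have hbin : (binomMat k J' I).det ≠ 0 := by
    set v : Fin (n + 1) → ℕ := Fin.cons 0 J' with hv
    have hvmono : StrictMono v := by
      intro a b
      refine Fin.cases ?_ (fun l => ?_) a <;> refine Fin.cases ?_ (fun l' => ?_) b
      · intro h; exact absurd h (lt_irrefl _)
      · intro _
        show (0 : ℕ) < J' l'
        exact hJ'pos l'
      · intro h; exact absurd h (Fin.not_lt_zero _)
      · intro h
        show J' l < J' l'
        exact hJ'.1 (Fin.succ_lt_succ_iff.1 h)
    have hvN : ∀ i, v i ≤ N := by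
      intro i
      refine Fin.cases ?_ (fun l => ?_) i
      · show (0 : ℕ) ≤ N
        omega
      · exact hJ'N l
    have hE := det_choose_ne_zero (k := k) hvmono hvN hcharN
    rw [det_of_row_zero] at hE
    · have hsub : (Matrix.of fun i j : Fin (n + 1) => ((Nat.choose (v i) j : ℕ) : k)).submatrix
          Fin.succ Fin.succ = binomMat k J' I := by
        ext r c
        simp [binomMat, hv, hI]
      rw [hsub] at hE
      exact right_ne_zero_of_mul hE
    · intro c
      simp [hv]
  obtain ⟨-, h2⟩ := v_det_wrMat_fixedPt hK (AlgHom.id k K) P (isFixedPt_id P) (y • φ) hli heff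
    hnorm t ht Ht hHt J' hJ' I
  have hv := (h2 (Or.inl fun l => Nat.succ_pos _)).2 hbin
  have hdet : (wrMat (AlgHom.id k K) Ht (y • φ) I).det ≠ 0 := by
    intro h0
    rw [h0, map_zero] at hv
    exact exp_ne_zero hv.symm
  have hinv := wDiv_invariant hK φ hφ (AlgHom.id k K) s H hH t Ht hHt J hJ
    (1 : Matrix (Fin (n + 1)) (Fin (n + 1)) k) (by rw [Matrix.det_one]; exact one_ne_zero) y hy0
    (y • φ) (fun i => by simp [Matrix.one_apply]) Φ hΦ
  rw [← hinv, hJI, wDiv_apply_of_normalized hK (AlgHom.id k K) P (isFixedPt_id P) (y • φ) hli heff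
    hnorm t ht Ht hHt I Φ hΦ]
  rw [P.v_eq_exp_neg_ord hdet, exp_inj, neg_inj] at hv
  rw [hv]

end local_weight

section gapseq

variable (hK : IsFunctionField k K)

include hK in
/-- For the canonical map the weight at `P` is computed by the gap sequence at `P`. -/
theorem exists_gapSeq (hg : 0 < genus k K)
    (hchar : ringChar k = 0 ∨ 2 * genus k K - 2 < ringChar k)
    (C : Divisor k K) (hC : IsCanonical k K C)
    {n : ℕ} (φ : Fin (n + 1) → K) (hφ : LinearIndependent k φ)
    (hspan : Submodule.span k (Set.range φ) = L C)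
    (s : K) (H : K →ₐ[k] PowerSeries K) (hH : IsHasseFamily s H)
    (J : Fin n → ℕ) (hJ : IsOrders K (hcol (AlgHom.id k K) H φ) J)
    (Φ : Place k K → (K →ₐ[k] LaurentSeries k))
    (hΦ : ∀ P : Place k K, IsExpansionAt P.1 (Φ P)) (P : Place k K) :
    ∃ J' : Fin n → ℕ, StrictMono J' ∧
      (∀ j : ℕ, j ∈ Set.range J' ↔ (1 ≤ j ∧ IsGap P ((j : ℤ) + 1))) ∧
      wDiv (AlgHom.id k K) H Φ s φ J P = ∑ l : Fin n, ((J' l : ℤ) - ((l : ℕ) + 1 : ℕ)) := by
  classical
  have hdeg : (mapDiv k φ).deg = 2 * (genus k K : ℤ) - 2 := by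
    rw [mapDiv_canonical hK hg C hC φ hφ hspan, deg_canonical hK hC]
  have hchar' : ringChar k = 0 ∨ (mapDiv k φ).deg < ringChar k := by
    rcases hchar with h | h
    · exact Or.inl h
    · right
      rw [hdeg]
      omega
  obtain ⟨t, Ht, y, J', ht, hHt, hy0, hli, heff, hnorm, hJ', hw⟩ :=
    wDiv_apply_classical hK φ hφ hchar' s H hH J hJ Φ hΦ P
  have hP := Place.deg_eq_one_of_isAlgClosed hK P
  refine ⟨J', hJ'.1, fun j => ?_, hw⟩
  rcases Nat.eq_zero_or_pos j with rfl | hj
  · constructor
    · intro h0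
      exact absurd rfl ((mem_range_orders_iff hK hP ht hHt hnorm hJ' 0).1 h0).1
    · rintro ⟨h1, -⟩
      omega
  · rw [hJ'.2 j, isJump_canonical_iff_gap hK C hC φ hφ hspan P y hy0 heff
      (fun i => hnorm i) t ht Ht hHt j hj]
    unfold IsGap
    rw [add_sub_cancel_right]
    constructor
    · intro h; exact ⟨hj, h⟩
    · intro h; exact h.2

omit [IsAlgClosed k] in
/-- The `l`-th positive canonical order is at most `2l + 2`. -/
theorem gapSeq_le (P : Place k K) {n : ℕ} (J' : Fin n → ℕ) (hmono : StrictMono J')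
    (hrange : ∀ j : ℕ, j ∈ Set.range J' ↔ (1 ≤ j ∧ IsGap P ((j : ℤ) + 1))) (l : Fin n) :
    J' l ≤ 2 * (l : ℕ) + 2 := by
  classical
  have hjl := (hrange (J' l)).1 ⟨l, rfl⟩
  have hgap : IsGap P ((J' l + 1 : ℕ) : ℤ) := by
    push_cast
    exact hjl.2
  have h1 := gaps_below_gap P (J' l + 1) (by omega) hgap
  set T : Finset ℕ := insert 1 ((Finset.Iio l).image (fun i => J' i + 1)) with hT
  have hsub : {m : ℕ | 1 ≤ m ∧ m < J' l + 1 ∧ IsGap P (m : ℤ)} ⊆ (T : Set ℕ) := by
    intro m hm
    obtain ⟨hm1, hm2, hm3⟩ := hm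
    rw [Finset.mem_coe, hT, Finset.mem_insert]
    by_cases hm' : m = 1
    · exact Or.inl hm'
    · right
      have hm4 : m - 1 ∈ Set.range J' := by
        rw [hrange]
        refine ⟨by omega, ?_⟩
        have : ((m - 1 : ℕ) : ℤ) + 1 = (m : ℤ) := by
          rw [Nat.cast_sub hm1]; ring
        rw [this]
        exact hm3
      obtain ⟨i, hi⟩ := hm4
      rw [Finset.mem_image]
      refine ⟨i, ?_, by omega⟩
      rw [Finset.mem_Iio]
      by_contra hnot
      rw [not_lt] at hnot
      have := hmono.monotone hnot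
      omega
  have h2 : Set.ncard {m : ℕ | 1 ≤ m ∧ m < J' l + 1 ∧ IsGap P (m : ℤ)} ≤ T.card := by
    rw [← Set.ncard_coe_finset]
    exact Set.ncard_le_ncard hsub (Finset.finite_toSet T)
  have h3 : T.card ≤ (l : ℕ) + 1 := by
    refine (Finset.card_insert_le _ _).trans ?_
    have := Finset.card_image_le (s := Finset.Iio l) (f := fun i => J' i + 1)
    rw [Fin.card_Iio] at this
    omega
  omega

end gapseq

end Groth.Agent.H7.AW
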