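import Groth.Agent.Lib.Helper7.AW1
import Groth.Agent.Lib.Helper5.FunFld.Twist
import Groth.Agent.Lib.Helper5.SV.WDivNonneg

/-! Weierstrass points of the canonical map: global count (helper7). -/

set_option autoImplicit false
set_option linter.unusedSectionVars false

namespace Groth.Agent.H7.AW

open FunFld FunFld.SV WithZero LocRes

lemma two_mul_sum_fin_succ (n : ℕ) : 2 * ∑ l : Fin n, ((l : ℕ) + 1) = n * (n + 1) := by
  rw [Fin.sum_univ_eq_sum_range (fun i => i + 1) n]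
  induction n with
  | zero => simp
  | succ n ih => rw [Finset.sum_range_succ, mul_add, ih]; ring

/-- The data of the canonical Weierstrass divisor. -/
structure Data (k K : Type*) [Field k] [IsAlgClosed k] [Field K] [Algebra k K] where
  hK : IsFunctionField k K
  hg : 1 < genus k K
  hchar : ringChar k = 0 ∨ 2 * genus k K - 2 < ringChar k
  C : Divisor k K
  hC : IsCanonical k K C
  n : ℕ
  φ : Fin (n + 1) → K
  hφ : LinearIndependent k φ
  hspan : Submodule.span k (Set.range φ) = L C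
  s : K
  H : K →ₐ[k] PowerSeries K
  hH : IsHasseFamily s H
  J : Fin n → ℕ
  hJ : IsOrders K (hcol (AlgHom.id k K) H φ) J
  Φ : Place k K → (K →ₐ[k] LaurentSeries k)
  hΦ : ∀ P : Place k K, IsExpansionAt P.1 (Φ P)

variable {k K : Type*} [Field k] [IsAlgClosed k] [Field K] [Algebra k K]

namespace Data

variable (X : Data k K)

/-- the Weierstrass divisor -/
noncomputable def W : Divisor k K := wDiv (AlgHom.id k K) X.H X.Φ X.s X.φ X.J

lemma card : X.n + 1 = genus k K := card_canonical X.hK X.C X.hC X.φ X.hφ X.hspan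

include X in
lemma hg0 : 0 < genus k K := lt_trans Nat.zero_lt_one X.hg

lemma n_pos : 0 < X.n := by have := X.card; have := X.hg; omega

lemma exists_gapSeq (P : Place k K) :
    ∃ J' : Fin X.n → ℕ, StrictMono J' ∧
      (∀ j : ℕ, j ∈ Set.range J' ↔ (1 ≤ j ∧ IsGap P ((j : ℤ) + 1))) ∧
      X.W P = ∑ l : Fin X.n, ((J' l : ℤ) - ((l : ℕ) + 1 : ℕ)) :=
  AW.exists_gapSeq X.hK X.hg0 X.hchar X.C X.hC X.φ X.hφ X.hspan X.s X.H X.hH X.J X.hJ X.Φ X.hΦ P

lemma W_nonneg : 0 ≤ X.W := wDiv_nonneg X.hK X.φ X.hφ _ X.s X.H X.hH X.J X.hJ X.Φ X.hΦ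

/-- the weight is at most `g(g-1)/2` -/
lemma two_W_le (P : Place k K) : 2 * X.W P ≤ (X.n : ℤ) * (X.n + 1) := by
  obtain ⟨J', hmono, hrange, hw⟩ := X.exists_gapSeq P
  rw [hw]
  have h1 : ∀ l : Fin X.n, ((J' l : ℤ) - ((l : ℕ) + 1 : ℕ)) ≤ (((l : ℕ) + 1 : ℕ) : ℤ) := by
    intro l
    have := gapSeq_le P J' hmono hrange l
    push_cast
    omega
  have h2 := Finset.sum_le_sum (fun l (_ : l ∈ Finset.univ) => h1 l)
  have h3 := two_mul_sum_fin_succ X.n
  have h4 : (2 : ℤ) * ∑ l : Fin X.n, (((l : ℕ) + 1 : ℕ) : ℤ) = (X.n : ℤ) * (X.n + 1) := by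
    rw [← Nat.cast_sum]
    exact_mod_cast h3
  linarith

/-- a point of maximal weight has the non-gap `2` -/
lemma not_isGap_two (P : Place k K) (h : 2 * X.W P = (X.n : ℤ) * (X.n + 1)) :
    ¬ IsGap P 2 := by
  obtain ⟨J', hmono, hrange, hw⟩ := X.exists_gapSeq P
  have h1 : ∀ l : Fin X.n, ((J' l : ℤ) - ((l : ℕ) + 1 : ℕ)) ≤ (((l : ℕ) + 1 : ℕ) : ℤ) := by
    intro l
    have := gapSeq_le P J' hmono hrange l
    push_cast
    omega
  have h3 := two_mul_sum_fin_succ X.n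
  have h4 : (2 : ℤ) * ∑ l : Fin X.n, (((l : ℕ) + 1 : ℕ) : ℤ) = (X.n : ℤ) * (X.n + 1) := by
    rw [← Nat.cast_sum]
    exact_mod_cast h3
  have h5 : ∑ l : Fin X.n, ((J' l : ℤ) - ((l : ℕ) + 1 : ℕ)) =
      ∑ l : Fin X.n, (((l : ℕ) + 1 : ℕ) : ℤ) := by
    rw [← hw]; linarith
  have h6 := (Finset.sum_eq_sum_iff_of_le (fun l (_ : l ∈ Finset.univ) => h1 l)).1 h5
  -- J' 0 = 2
  have hn := X.n_pos
  have h7 := h6 ⟨0, hn⟩ (Finset.mem_univ _)
  have h8 : J' ⟨0, hn⟩ = 2 := by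
    push_cast at h7
    omega
  intro hgap
  have h9 : (1 : ℕ) ∈ Set.range J' := by
    rw [hrange]
    refine ⟨le_refl _, ?_⟩
    have : ((1 : ℕ) : ℤ) + 1 = 2 := by norm_num
    rw [this]
    exact hgap
  obtain ⟨i, hi⟩ := h9
  have h10 : J' ⟨0, hn⟩ ≤ J' i := hmono.monotone (Fin.mk_le_of_le_val (Nat.zero_le _))
  omega

lemma deg_mapDiv : (mapDiv k X.φ).deg = 2 * (genus k K : ℤ) - 2 := by
  rw [mapDiv_canonical X.hK X.hg0 X.C X.hC X.φ X.hφ X.hspan, deg_canonical X.hK X.hC]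

lemma J_eq : X.J = fun l : Fin X.n => (l : ℕ) + 1 := by
  have hchar' : ringChar k = 0 ∨ (mapDiv k X.φ).deg < ringChar k := by
    rcases X.hchar with h | h
    · exact Or.inl h
    · right
      rw [X.deg_mapDiv]
      have := X.hg
      omega
  exact isOrders_unique X.hJ ((classical_orders X.hK X.φ X.hφ hchar' _ X.s X.H X.hH).1 rfl)

/-- `2 deg W = 2 (g-1) g (g+1)`, in terms of `n = g - 1`. -/
lemma two_deg_W : 2 * X.W.deg = 2 * ((X.n : ℤ) * (X.n + 1)) * (X.n + 2) := by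
  have hfr : Module.finrank (AlgHom.id k K).fieldRange K = 1 := by
    have : (AlgHom.id k K).fieldRange = ⊤ :=
      AlgHom.fieldRange_eq_top.mpr Function.surjective_id
    rw [this]
    exact IntermediateField.finrank_top
  have hsum : (2 : ℤ) * ∑ l : Fin X.n, (X.J l : ℤ) = (X.n : ℤ) * (X.n + 1) := by
    rw [X.J_eq, ← Nat.cast_sum]
    exact_mod_cast two_mul_sum_fin_succ X.n
  have hg : (genus k K : ℤ) = X.n + 1 := by exact_mod_cast X.card.symm
  unfold W wDiv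
  rw [Divisor.deg_add, Divisor.deg_add, Divisor.deg_add, Divisor.deg_zsmul, Divisor.deg_zsmul,
    deg_div X.hK, deg_mapDiv_comp_algHom X.hK (AlgHom.id k K) X.φ, deg_divDiff X.hK X.hH X.hΦ,
    hfr, X.deg_mapDiv, hg]
  push_cast
  linear_combination ((2 : ℤ) * X.n) * hsum

lemma sum_W : ∑ P ∈ X.W.support, X.W P = X.W.deg := by
  unfold Divisor.deg Finsupp.sum
  refine Finset.sum_congr rfl (fun P _ => ?_)
  show X.W P = X.W P * (P.deg : ℤ)
  rw [Place.deg_eq_one_of_isAlgClosed X.hK P]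
  simp

/-- There are at least `2g + 2` Weierstrass points. -/
theorem card_ge : 2 * genus k K + 2 ≤ X.W.support.card := by
  have h1 : ∑ P ∈ X.W.support, 2 * X.W P ≤ ∑ _P ∈ X.W.support, (X.n : ℤ) * (X.n + 1) :=
    Finset.sum_le_sum (fun P _ => X.two_W_le P)
  rw [← Finset.mul_sum, X.sum_W, X.two_deg_W, Finset.sum_const, nsmul_eq_mul] at h1
  have hM : (0 : ℤ) < (X.n : ℤ) * (X.n + 1) := by
    have := X.n_pos
    positivity
  have h2 : (2 : ℤ) * (X.n + 2) ≤ X.W.support.card := by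
    have h3 : (2 * ((X.n : ℤ) + 2)) * ((X.n : ℤ) * (X.n + 1)) ≤
        (X.W.support.card : ℤ) * ((X.n : ℤ) * (X.n + 1)) := by linarith
    exact le_of_mul_le_mul_right h3 hM
  have := X.card
  omega

/-- If there are exactly `2g + 2` Weierstrass points, all have maximal weight. -/
theorem max_weight_of_card_eq (hcard : X.W.support.card = 2 * genus k K + 2)
    (P : Place k K) (hP : P ∈ X.W.support) : 2 * X.W P = (X.n : ℤ) * (X.n + 1) := by
  classical
  by_contra hne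
  have hlt : 2 * X.W P < (X.n : ℤ) * (X.n + 1) := lt_of_le_of_ne (X.two_W_le P) hne
  have h1 : ∑ P ∈ X.W.support, 2 * X.W P < ∑ _P ∈ X.W.support, (X.n : ℤ) * (X.n + 1) :=
    Finset.sum_lt_sum (fun P _ => X.two_W_le P) ⟨P, hP, hlt⟩
  rw [← Finset.mul_sum, X.sum_W, X.two_deg_W, Finset.sum_const, nsmul_eq_mul, hcard] at h1
  have := X.card
  have hg : (genus k K : ℤ) = X.n + 1 := by exact_mod_cast X.card.symm
  push_cast at h1
  rw [hg] at h1
  nlinarith

end Data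

end Groth.Agent.H7.AW
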