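import Groth.Agent.Lib.Helper7.AW2

/-! Weierstrass points of the canonical map: invariance under automorphisms (helper7). -/

set_option autoImplicit false
set_option linter.unusedSectionVars false

namespace Groth.Agent.H7.AW

open FunFld FunFld.SV WithZero LocRes

section conj

variable {k K : Type*} [Field k] [Field K] [Algebra k K]

lemma conj_conj_inv (P : Place k K) (σ : K ≃ₐ[k] K) : (P.conj σ).conj σ⁻¹ = P := by
  rw [← Place.conj_mul, mul_inv_cancel, Place.conj_one]

lemma conj_inv_conj (P : Place k K) (σ : K ≃ₐ[k] K) : (P.conj σ⁻¹).conj σ = P := by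
  rw [← Place.conj_mul, inv_mul_cancel, Place.conj_one]

lemma conj_injective (σ : K ≃ₐ[k] K) : Function.Injective (fun P : Place k K => P.conj σ) := by
  intro P Q h
  have := congrArg (fun R : Place k K => R.conj σ⁻¹) h
  simpa [conj_conj_inv] using this

lemma mem_L_single_conj (P : Place k K) (σ : K ≃ₐ[k] K) (m : ℤ) (z : K) :
    z ∈ L (Finsupp.single (P.conj σ) m : Divisor k K) ↔ σ z ∈ L (Finsupp.single P m) := by
  classical
  constructor
  · intro h Q
    have h1 := h (Q.conj σ)
    rw [Place.conj_apply] at h1
    refine h1.trans_eq ?_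
    congr 1
    by_cases hQ : Q = P
    · subst hQ
      rw [Finsupp.single_eq_same, Finsupp.single_eq_same]
    · have hQ' : Q.conj σ ≠ P.conj σ := fun h2 => hQ (conj_injective σ h2)
      rw [Finsupp.single_eq_of_ne hQ, Finsupp.single_eq_of_ne hQ']
  · intro h Q
    have h1 := h (Q.conj σ⁻¹)
    rw [Place.conj_apply] at h1
    have h2 : σ⁻¹ (σ z) = z := σ.symm_apply_apply z
    rw [h2] at h1
    refine h1.trans_eq ?_
    congr 1
    by_cases hQ : Q = P.conj σ
    · subst hQ
      rw [conj_conj_inv, Finsupp.single_eq_same, Finsupp.single_eq_same]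
    · have hQ' : Q.conj σ⁻¹ ≠ P := by
        intro h3
        apply hQ
        rw [← h3, conj_inv_conj]
      rw [Finsupp.single_eq_of_ne hQ, Finsupp.single_eq_of_ne hQ']

lemma isGap_conj (P : Place k K) (σ : K ≃ₐ[k] K) (m : ℤ) : IsGap (P.conj σ) m ↔ IsGap P m := by
  unfold IsGap
  constructor
  · intro h
    apply le_antisymm
    · intro w hw
      have h1 : σ (σ⁻¹ w) = w := σ.apply_symm_apply w
      have h2 : σ⁻¹ w ∈ L (Finsupp.single (P.conj σ) m : Divisor k K) := by
        rw [mem_L_single_conj, h1]; exact hw
      rw [h, mem_L_single_conj, h1] at h2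
      exact h2
    · exact L_single_mono P (by omega)
  · intro h
    apply le_antisymm
    · intro z hz
      rw [mem_L_single_conj] at hz ⊢
      rw [← h]; exact hz
    · exact L_single_mono _ (by omega)

end conj

variable {k K : Type*} [Field k] [IsAlgClosed k] [Field K] [Algebra k K]

namespace Data

variable (X : Data k K)

/-- The weight is invariant under automorphisms. -/
theorem W_conj (P : Place k K) (σ : K ≃ₐ[k] K) : X.W (P.conj σ) = X.W P := by
  obtain ⟨J', hmono, hrange, hw⟩ := X.exists_gapSeq P
  obtain ⟨J'', hmono', hrange', hw'⟩ := X.exists_gapSeq (P.conj σ)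
  have : J'' = J' := by
    refine strictMono_unique hmono' hmono ?_
    ext j
    rw [hrange, hrange', isGap_conj]
  rw [hw, hw', this]

lemma mem_support_conj (P : Place k K) (σ : K ≃ₐ[k] K) :
    P.conj σ ∈ X.W.support ↔ P ∈ X.W.support := by
  rw [Finsupp.mem_support_iff, Finsupp.mem_support_iff, X.W_conj]

end Data

end Groth.Agent.H7.AW
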