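import Groth.Agent.Lib.Helper7.AW3
import Groth.Agent.Lib.Helper5.FunFld.Weierstrass
import Mathlib.RingTheory.AlgebraTower

/-! Weierstrass points of the canonical map: functions with a double pole (helper7). -/

set_option autoImplicit false
set_option linter.unusedSectionVars false

namespace Groth.Agent.H7.AW

open FunFld FunFld.SV WithZero LocRes

variable {k K : Type*} [Field k] [IsAlgClosed k] [Field K] [Algebra k K]

section dpole

variable (hK : IsFunctionField k K)

omit [IsAlgClosed k] in
lemma notMem_range_of_pole {P : Place k K} {x : K} (hv : 1 < P.1 x) :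
    x ∉ Set.range (algebraMap k K) := by
  rintro ⟨c, rfl⟩
  exact absurd (P.v_algebraMap_le c) (not_le.2 hv)

lemma one_lt_exp_two : (1 : WithZero (Multiplicative ℤ)) < exp (2 : ℤ) := by
  rw [← exp_zero, exp_lt_exp]; norm_num

include hK in
/-- A function with exact pole divisor `2P` generates a subfield of index `2`. -/
lemma finrank_adjoin_eq_two {P : Place k K} {x : K}
    (hx : x ∈ L (Finsupp.single P 2 : Divisor k K)) (hv : P.1 x = exp (2 : ℤ)) :
    Module.finrank (IntermediateField.adjoin k ({x} : Set K)) K = 2 := by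
  have hxr : x ∉ Set.range (algebraMap k K) :=
    notMem_range_of_pole (P := P) (by rw [hv]; exact one_lt_exp_two)
  have h1 := deg_poleDiv hK hxr
  rw [poleDiv_eq_single hK (by norm_num) hx hv, Divisor.deg_single,
    Place.deg_eq_one_of_isAlgClosed hK P] at h1
  exact_mod_cast h1.symm

include hK in
/-- `L(2P)` is spanned by `1` and `x` when `1` is a gap. -/
lemma exists_eq_of_mem_L_two {P : Place k K} (h1 : IsGap P 1) {x : K}
    (hx : x ∈ L (Finsupp.single P 2 : Divisor k K)) (hv : P.1 x = exp (2 : ℤ)) {z : K}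
    (hz : z ∈ L (Finsupp.single P 2 : Divisor k K)) :
    ∃ a b : k, z = algebraMap k K a + algebraMap k K b * x := by
  classical
  have hP := Place.deg_eq_one_of_isAlgClosed hK P
  have hx0 : x ≠ 0 := by
    rintro rfl
    rw [map_zero] at hv
    exact exp_ne_zero hv.symm
  have hu : P.1 (z / x) ≤ 1 := by
    rw [map_div₀, hv]
    have := hz P
    rw [Finsupp.single_eq_same] at this
    exact div_le_one_of_le₀ this zero_le
  obtain ⟨b, hb⟩ := P.exists_const_sub_lt hP hu
  have hw : z - algebraMap k K b * x = x * (z / x - algebraMap k K b) := by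
    field_simp
  have hwL : z - algebraMap k K b * x ∈ L (Finsupp.single P 1 : Divisor k K) := by
    intro Q
    by_cases hQ : Q = P
    · subst hQ
      rw [Finsupp.single_eq_same]
      have hlt : Q.1 (z - algebraMap k K b * x) < exp (2 : ℤ) := by
        rw [hw, map_mul, hv]
        calc exp (2 : ℤ) * Q.1 (z / x - algebraMap k K b) < exp (2 : ℤ) * 1 :=
              mul_lt_mul_of_pos_left hb exp_pos
          _ = exp (2 : ℤ) := mul_one _
      have := Q.v_le_exp_pred_of_lt hlt
      norm_num at this
      exact this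
    · rw [Finsupp.single_eq_of_ne hQ, exp_zero]
      refine (Valuation.map_sub _ _ _).trans (max_le (v_le_one_of_mem_L_single hQ hz) ?_)
      rw [map_mul]
      have hxQ : Q.1 x ≤ 1 := by
        exact v_le_one_of_mem_L_single hQ hx
      exact mul_le_one' (Q.v_algebraMap_le b) hxQ
  unfold IsGap at h1
  rw [h1] at hwL
  have h0 : (Finsupp.single P ((1 : ℤ) - 1) : Divisor k K) = 0 := by simp
  rw [h0, L_zero hK, Submodule.mem_one] at hwL
  obtain ⟨a, ha⟩ := hwL
  exact ⟨a, b, by rw [ha]; ring⟩

omit [IsAlgClosed k] in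
/-- an automorphism fixing `P` preserves `L(mP)` -/
lemma map_mem_L_single {P : Place k K} {σ : K ≃ₐ[k] K} (hfix : P.conj σ = P) {m : ℤ} {z : K}
    (hz : z ∈ L (Finsupp.single P m : Divisor k K)) :
    σ z ∈ L (Finsupp.single P m : Divisor k K) := by
  rw [← mem_L_single_conj, hfix]; exact hz

include hK in
/-- An automorphism fixing the pole of `x` and three further places fixes `x`. -/
theorem map_eq_self_of_fixed {P₀ : Place k K} (h1 : IsGap P₀ 1) {x : K}
    (hx : x ∈ L (Finsupp.single P₀ 2 : Divisor k K)) (hv : P₀.1 x = exp (2 : ℤ))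
    (σ : K ≃ₐ[k] K) (hfix0 : P₀.conj σ = P₀) (T : Finset (Place k K)) (hT0 : P₀ ∉ T)
    (hTfix : ∀ P ∈ T, P.conj σ = P) (hTcard : 3 ≤ T.card) : σ x = x := by
  classical
  obtain ⟨a, b, hab⟩ := exists_eq_of_mem_L_two hK h1 hx hv (map_mem_L_single hfix0 hx)
  have hxr : x ∉ Set.range (algebraMap k K) :=
    notMem_range_of_pole (P := P₀) (by rw [hv]; exact one_lt_exp_two)
  have hval : ∀ P ∈ T, ∃ c : k, P.1 (x - algebraMap k K c) < 1 ∧ a + b * c - c = 0 := by
    intro P hP
    have hne : P ≠ P₀ := fun h => hT0 (h ▸ hP)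
    have hxP : P.1 x ≤ 1 := v_le_one_of_mem_L_single hne hx
    obtain ⟨c, hc⟩ := P.exists_const_sub_lt (Place.deg_eq_one_of_isAlgClosed hK P) hxP
    refine ⟨c, hc, ?_⟩
    have h2 : P.1 (σ (x - algebraMap k K c)) < 1 := by
      rw [← Place.conj_apply, hTfix P hP]; exact hc
    rw [map_sub, σ.commutes, hab] at h2
    have h3 : algebraMap k K (a + b * c - c) =
        (algebraMap k K a + algebraMap k K b * x - algebraMap k K c) -
          algebraMap k K b * (x - algebraMap k K c) := by
      simp only [map_sub, map_add, map_mul]; ring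
    have h4 : P.1 (algebraMap k K (a + b * c - c)) < 1 := by
      rw [h3]
      refine lt_of_le_of_lt (Valuation.map_sub _ _ _) (max_lt h2 ?_)
      rw [map_mul]
      exact lt_of_le_of_lt (mul_le_of_le_one_left zero_le (P.v_algebraMap_le b)) hc
    by_contra h0
    have h5 : P.1 (algebraMap k K (a + b * c - c)) = 1 :=
      v_eq_one_of_isAlgebraic P.1 P.v_algebraMap_le
        ((map_ne_zero_iff _ (algebraMap k K).injective).2 h0) (isAlgebraic_algebraMap _)
    rw [h5] at h4
    exact lt_irrefl _ h4
  by_cases hb : b = 1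
  · subst hb
    obtain ⟨P, hP⟩ : T.Nonempty := Finset.card_pos.1 (by omega)
    obtain ⟨c, -, hc⟩ := hval P hP
    have ha : a = 0 := by linear_combination hc
    rw [hab, ha, map_zero, map_one, zero_add, one_mul]
  · exfalso
    have hb' : (1 : k) - b ≠ 0 := sub_ne_zero.2 (Ne.symm hb)
    set c₀ : k := a / (1 - b) with hc₀
    have hzero : ∀ P ∈ T, P.1 (x - algebraMap k K c₀) < 1 := by
      intro P hP
      obtain ⟨c, hc1, hc2⟩ := hval P hP
      have : c = c₀ := by
        rw [hc₀, eq_div_iff hb']
        linear_combination -hc2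
      rw [← this]; exact hc1
    have hyr : x - algebraMap k K c₀ ∉ Set.range (algebraMap k K) := by
      rintro ⟨d, hd⟩
      apply hxr
      exact ⟨d + c₀, by rw [map_add, hd]; ring⟩
    have hy0 : x - algebraMap k K c₀ ≠ 0 := by
      intro h0; exact hyr ⟨0, by rw [map_zero, h0]⟩
    have hsum := sum_deg_mul_ord_le_finrank hK hyr T hzero
    rw [adjoin_sub_algebraMap, finrank_adjoin_eq_two hK hx hv] at hsum
    have hge : T.card ≤ ∑ Q ∈ T, Q.deg * (Q.ord (x - algebraMap k K c₀)).toNat := by
      rw [Finset.card_eq_sum_ones]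
      refine Finset.sum_le_sum (fun Q hQ => ?_)
      have h1 := (Q.v_lt_one_iff hy0).1 (hzero Q hQ)
      rw [Place.deg_eq_one_of_isAlgClosed hK Q, one_mul]
      omega
    omega

omit [IsAlgClosed k] in
lemma pow_mem_L_single {P₀ : Place k K} {x : K}
    (hx : x ∈ L (Finsupp.single P₀ 2 : Divisor k K)) (i : ℕ) {m : ℤ} (hm : 2 * (i : ℤ) ≤ m) :
    x ^ i ∈ L (Finsupp.single P₀ m : Divisor k K) := by
  classical
  intro Q
  rw [map_pow]
  by_cases hQ : Q = P₀
  · subst hQ
    rw [Finsupp.single_eq_same]
    have h1 := hx Q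
    rw [Finsupp.single_eq_same] at h1
    calc Q.1 x ^ i ≤ exp (2 : ℤ) ^ i := pow_le_pow_left' h1 i
      _ = exp ((i : ℤ) * 2) := by rw [← exp_nsmul]; simp
      _ ≤ exp m := by rw [exp_le_exp]; omega
  · rw [Finsupp.single_eq_of_ne hQ, exp_zero]
    exact pow_le_one' (v_le_one_of_mem_L_single hQ hx) i

include hK in
/-- Uniqueness of the rational subfield of index two (genus at least two): every function with
a double pole at a single place lies in `k(x)`. -/
theorem mem_adjoin_of_double_pole (hg : 1 < genus k K) {P₀ P : Place k K} {x xP : K}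
    (hx : x ∈ L (Finsupp.single P₀ 2 : Divisor k K)) (hv : P₀.1 x = exp (2 : ℤ))
    (hxP : xP ∈ L (Finsupp.single P 2 : Divisor k K)) :
    xP ∈ IntermediateField.adjoin k ({x} : Set K) := by
  classical
  by_contra hnot
  set g := genus k K with hgdef
  set F := IntermediateField.adjoin k ({x} : Set K) with hF
  have hxr : x ∉ Set.range (algebraMap k K) :=
    notMem_range_of_pole (P := P₀) (by rw [hv]; exact one_lt_exp_two)
  have htr : Transcendental k x := hK.transcendental_of_notMem hxr
  let gen : F := ⟨x, IntermediateField.mem_adjoin_simple_self k x⟩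
  have hgen : Transcendental k gen := by
    intro halg
    apply htr
    have := halg.algebraMap (A := K)
    exact this
  -- powers of x
  have hb : LinearIndependent k (fun i : Fin g => gen ^ (i : ℕ)) := by
    have h1 : LinearIndependent k (fun i : ℕ => (Polynomial.X : Polynomial k) ^ i) := by
      have := (Polynomial.basisMonomials k).linearIndependent
      rw [Polynomial.coe_basisMonomials] at this
      simpa [Polynomial.X_pow_eq_monomial] using this
    have h2 := h1.map' (Polynomial.aeval gen).toLinearMap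
      (LinearMap.ker_eq_bot.2 (transcendental_iff_injective.1 hgen))
    have h3 : (fun i : ℕ => gen ^ i) = (Polynomial.aeval gen).toLinearMap ∘
        (fun i : ℕ => (Polynomial.X : Polynomial k) ^ i) := by
      funext i; simp
    rw [← h3] at h2
    exact h2.comp _ Fin.val_injective
  have hc : LinearIndependent F (![1, xP] : Fin 2 → K) := by
    rw [LinearIndependent.pair_iff]
    intro s t hst
    have ht : t = 0 := by
      by_contra ht
      apply hnot
      have h1 : xP = ((-s / t : F) : K) := by
        have h2 : (s : K) + (t : K) * xP = 0 := by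
          simpa [Algebra.smul_def] using hst
        have ht' : (t : K) ≠ 0 := by
          intro h0; exact ht (by exact_mod_cast h0)
        push_cast
        field_simp
        linear_combination h2
      rw [h1]
      exact (-s / t : F).2
    refine ⟨?_, ht⟩
    rw [ht, zero_smul, add_zero] at hst
    simpa [Algebra.smul_def] using hst
  have hli := linearIndependent_smul hb hc
  -- all these elements lie in L(D)
  set D : Divisor k K := Finsupp.single P₀ (2 * (g : ℤ) - 2) + Finsupp.single P 2 with hD
  have hmem : ∀ p : Fin g × Fin 2, (gen ^ (p.1 : ℕ)) • (![1, xP] : Fin 2 → K) p.2 ∈ L D := by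
    intro p
    have h1 : x ^ (p.1 : ℕ) ∈ L (Finsupp.single P₀ (2 * (g : ℤ) - 2) : Divisor k K) :=
      pow_mem_L_single hx _ (by have := p.1.2; omega)
    have h2 : (![1, xP] : Fin 2 → K) p.2 ∈ L (Finsupp.single P 2 : Divisor k K) := by
      have h0 : (1 : K) ∈ L (Finsupp.single P 2 : Divisor k K) := by
        intro Q
        rw [map_one, ← exp_zero, exp_le_exp]
        by_cases hQ : Q = P
        · subst hQ; rw [Finsupp.single_eq_same]; norm_num
        · rw [Finsupp.single_eq_of_ne hQ]
      have h3 : ∀ ε : Fin 2, (![1, xP] : Fin 2 → K) ε ∈ L (Finsupp.single P 2 : Divisor k K) := by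
        intro ε
        fin_cases ε
        · simpa using h0
        · simpa using hxP
      exact h3 p.2
    intro Q
    have e : (gen ^ (p.1 : ℕ)) • (![1, xP] : Fin 2 → K) p.2 =
        x ^ (p.1 : ℕ) * (![1, xP] : Fin 2 → K) p.2 := by
      rw [Algebra.smul_def]; rfl
    rw [e, map_mul, hD, Finsupp.add_apply, exp_add]
    exact mul_le_mul' (h1 Q) (h2 Q)
  have hfd := finiteDimensional_L hK D
  have hli' : LinearIndependent k (fun p : Fin g × Fin 2 =>
      (⟨(gen ^ (p.1 : ℕ)) • (![1, xP] : Fin 2 → K) p.2, hmem p⟩ : L D)) := by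
    apply LinearIndependent.of_comp (L D).subtype
    exact hli
  have hcard := hli'.fintype_card_le_finrank
  rw [Fintype.card_prod, Fintype.card_fin, Fintype.card_fin] at hcard
  have hdeg : D.deg = 2 * (g : ℤ) := by
    rw [hD, Divisor.deg_add, Divisor.deg_single, Divisor.deg_single,
      Place.deg_eq_one_of_isAlgClosed hK P₀, Place.deg_eq_one_of_isAlgClosed hK P]
    push_cast; ring
  have hell := ell_eq_of_large_deg hK (D := D) (by rw [hdeg]; omega)
  rw [hdeg] at hell
  have : Module.finrank k (L D) = ell D := rfl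
  rw [this] at hcard
  omega

omit [IsAlgClosed k] in
/-- an automorphism fixing `x` fixes `k(x)` pointwise -/
lemma map_eq_of_mem_adjoin {x : K} (σ : K ≃ₐ[k] K) (hσ : σ x = x) {z : K}
    (hz : z ∈ IntermediateField.adjoin k ({x} : Set K)) : σ z = z := by
  induction hz using IntermediateField.adjoin_induction with
  | mem y hy =>
    rw [Set.mem_singleton_iff] at hy
    rw [hy]; exact hσ
  | algebraMap c => exact σ.commutes c
  | add a b _ _ ha hb => rw [map_add, ha, hb]
  | inv a _ ha => rw [map_inv₀, ha]
  | mul a b _ _ ha hb => rw [map_mul, ha, hb]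

include hK in
/-- If `σ` fixes a function with pole divisor `2P₀`, it fixes every place at which `2` is not a
gap. -/
theorem conj_eq_of_map_eq (hg : 1 < genus k K) {P₀ P : Place k K} {x : K}
    (hx : x ∈ L (Finsupp.single P₀ 2 : Divisor k K)) (hv : P₀.1 x = exp (2 : ℤ))
    (h2 : ¬ IsGap P 2) (σ : K ≃ₐ[k] K) (hσ : σ x = x) : P.conj σ = P := by
  obtain ⟨xP, hxP, hvP⟩ := (not_isGap_iff P 2).1 h2
  have hmem := mem_adjoin_of_double_pole hK hg hx hv hxP
  have hfix := map_eq_of_mem_adjoin σ hσ hmem
  by_contra hne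
  have h1 := v_le_one_of_mem_L_single hne hxP
  rw [Place.conj_apply, hfix, hvP] at h1
  exact absurd h1 (not_le.2 one_lt_exp_two)

end dpole

end Groth.Agent.H7.AW
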