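import Groth.Agent.Lib.Helper7.AW4
import Groth.Agent.Lib.Helper7.SF1
import Groth.Agent.Lib.Helper5.SV.ExpandIso
import Mathlib.GroupTheory.Index

/-! Weierstrass points: the dichotomy and finiteness of the automorphism group (helper7). -/

set_option autoImplicit false
set_option linter.unusedSectionVars false

namespace Groth.Agent.H7.AW

open FunFld FunFld.SV WithZero LocRes

variable {k K : Type*} [Field k] [IsAlgClosed k] [Field K] [Algebra k K]

namespace Data

variable (X : Data k K)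

lemma setOf_eq : {P : Place k K | X.W P ≠ 0} = ↑X.W.support := by
  ext P
  rw [Set.mem_setOf_eq, Finset.mem_coe, Finsupp.mem_support_iff]

lemma ncard_eq : Set.ncard {P : Place k K | X.W P ≠ 0} = X.W.support.card := by
  rw [X.setOf_eq, Set.ncard_coe_finset]

/-- More than `2g + 2` Weierstrass points: the automorphism group acts faithfully. -/
theorem eq_one_of_card_gt (hcard : 2 * genus k K + 2 < X.W.support.card) (σ : K ≃ₐ[k] K)
    (hfix : ∀ P : Place k K, X.W P ≠ 0 → IsFixedPt (σ : K →ₐ[k] K) P) : σ = 1 := by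
  apply aut_eq_one_of_many_fixed X.hK σ
  have hsub : (↑X.W.support : Set (Place k K)) ⊆
      {P : Place k K | ∀ x : K, P.1 x < 1 → P.1 (σ x) < 1} := by
    intro P hP
    rw [Finset.mem_coe, Finsupp.mem_support_iff] at hP
    exact hfix P hP
  refine lt_of_lt_of_le ?_ (Set.encard_le_encard hsub)
  rw [Set.encard_coe_eq_coe_finsetCard]
  exact_mod_cast hcard

/-- Exactly `2g + 2` Weierstrass points: the kernel of the action is the group of `k(x)`. -/
theorem exists_of_card_eq (hcard : X.W.support.card = 2 * genus k K + 2) :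
    ∃ x : K, Module.finrank (IntermediateField.adjoin k ({x} : Set K)) K = 2 ∧
      ∀ σ : K ≃ₐ[k] K, (∀ P : Place k K, X.W P ≠ 0 → IsFixedPt (σ : K →ₐ[k] K) P) ↔
        σ x = x := by
  classical
  have hne : X.W.support.Nonempty := Finset.card_pos.1 (by omega)
  obtain ⟨P₀, hP₀⟩ := hne
  have hgap : ∀ P ∈ X.W.support, ¬ IsGap P 2 := fun P hP =>
    X.not_isGap_two P (X.max_weight_of_card_eq hcard P hP)
  have h1 : IsGap P₀ 1 :=
    isGap_one_of_genus_pos X.hK P₀ (Place.deg_eq_one_of_isAlgClosed X.hK P₀) X.hg0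
  obtain ⟨x, hx, hv⟩ := (not_isGap_iff P₀ 2).1 (hgap P₀ hP₀)
  refine ⟨x, finrank_adjoin_eq_two X.hK hx hv, fun σ => ⟨fun hfix => ?_, fun hσ P hP => ?_⟩⟩
  · have hconj : ∀ P ∈ X.W.support, P.conj σ = P := by
      intro P hP
      rw [Finsupp.mem_support_iff] at hP
      exact P.conj_eq_of_forall_lt σ (hfix P hP)
    refine map_eq_self_of_fixed X.hK h1 hx hv σ (hconj P₀ hP₀) (X.W.support.erase P₀)
      (Finset.notMem_erase _ _) (fun P hP => hconj P (Finset.mem_of_mem_erase hP)) ?_
    rw [Finset.card_erase_of_mem hP₀, hcard]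
    have := X.hg
    omega
  · have hP' : P ∈ X.W.support := Finsupp.mem_support_iff.2 hP
    have hc := conj_eq_of_map_eq X.hK X.hg hx hv (hgap P hP') σ hσ
    intro z hz
    have : P.1 ((σ : K →ₐ[k] K) z) = (P.conj σ).1 z := rfl
    rw [this, hc]
    exact hz

/-- **S12618**. -/
theorem dichotomy :
    (2 * genus k K + 2 < Set.ncard {P : Place k K | X.W P ≠ 0} ∧
      ∀ σ : K ≃ₐ[k] K, (∀ P : Place k K, X.W P ≠ 0 → IsFixedPt (σ : K →ₐ[k] K) P) →
        σ = AlgEquiv.refl) ∨
    (Set.ncard {P : Place k K | X.W P ≠ 0} = 2 * genus k K + 2 ∧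
      ∃ x : K, Module.finrank (IntermediateField.adjoin k ({x} : Set K)) K = 2 ∧
        ∀ σ : K ≃ₐ[k] K, (∀ P : Place k K, X.W P ≠ 0 → IsFixedPt (σ : K →ₐ[k] K) P) ↔
          σ x = x) := by
  rw [X.ncard_eq]
  rcases lt_or_eq_of_le X.card_ge with h | h
  · exact Or.inl ⟨h, fun σ hσ => X.eq_one_of_card_gt h σ hσ⟩
  · exact Or.inr ⟨h.symm, X.exists_of_card_eq h.symm⟩

end Data

end Groth.Agent.H7.AW
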