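import Groth.Agent.Lib.Helper7.AW5

/-! Finiteness of the automorphism group in genus at least two (helper7). -/

set_option autoImplicit false
set_option linter.unusedSectionVars false

namespace Groth.Agent.H7.AW

open FunFld FunFld.SV WithZero LocRes

variable {k K : Type*} [Field k] [IsAlgClosed k] [Field K] [Algebra k K]

/-- The data of the canonical Weierstrass divisor exist. -/
theorem nonempty_data (hK : IsFunctionField k K) (hg : 1 < genus k K)
    (hchar : ringChar k = 0 ∨ 2 * genus k K - 2 < ringChar k) : Nonempty (Data k K) := by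
  classical
  obtain ⟨C, hC⟩ := exists_isCanonical hK
  have hfd := finiteDimensional_L hK C
  have hg0 : 0 < genus k K := lt_trans Nat.zero_lt_one hg
  obtain ⟨n, hn⟩ : ∃ n : ℕ, genus k K = n + 1 := ⟨genus k K - 1, by omega⟩
  have hfr : Module.finrank k (L C) = n + 1 := by
    rw [← hn, ← ell_canonical hK hC]; rfl
  let b := Module.finBasisOfFinrankEq k (L C) hfr
  let φ : Fin (n + 1) → K := fun i => ((b i : L C) : K)
  have hφ : LinearIndependent k φ :=
    b.linearIndependent.map' (L C).subtype (Submodule.ker_subtype _)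
  have hspan : Submodule.span k (Set.range φ) = L C := by
    have h1 : Set.range φ = (L C).subtype '' Set.range b := by
      rw [← Set.range_comp]; rfl
    rw [h1, ← Submodule.map_span, b.span_eq, Submodule.map_subtype_top]
  obtain ⟨s, H, hH⟩ := Groth.Agent.H7.SF.exists_isHasseFamily hK
  obtain ⟨Φ, hΦ⟩ := exists_expansion_family hK
  have hdeg : (mapDiv k φ).deg = 2 * (genus k K : ℤ) - 2 := by
    rw [mapDiv_canonical hK hg0 C hC φ hφ hspan, deg_canonical hK hC]
  have hchar' : ringChar k = 0 ∨ (mapDiv k φ).deg < ringChar k := by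
    rcases hchar with h | h
    · exact Or.inl h
    · right
      rw [hdeg]
      omega
  have hJ := (classical_orders hK φ hφ hchar' _ s H hH).1 rfl
  exact ⟨⟨hK, hg, hchar, C, hC, n, φ, hφ, hspan, s, H, hH, _, hJ, Φ, hΦ⟩⟩

namespace Data

variable (X : Data k K)

/-- The action of automorphisms on the Weierstrass points. -/
noncomputable def rho : (K ≃ₐ[k] K) →* Equiv.Perm X.W.support where
  toFun σ :=
    { toFun := fun P => ⟨P.1.conj σ⁻¹, (X.mem_support_conj P.1 σ⁻¹).2 P.2⟩
      invFun := fun P => ⟨P.1.conj σ, (X.mem_support_conj P.1 σ).2 P.2⟩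
      left_inv := fun P => Subtype.ext (by
        show (P.1.conj σ⁻¹).conj σ = P.1
        exact conj_inv_conj P.1 σ)
      right_inv := fun P => Subtype.ext (by
        show (P.1.conj σ).conj σ⁻¹ = P.1
        exact conj_conj_inv P.1 σ) }
  map_one' := by
    ext P
    show ((P.1.conj (1 : K ≃ₐ[k] K)⁻¹) : Place k K) = P.1
    rw [inv_one, Place.conj_one]
  map_mul' σ τ := by
    ext P
    show ((P.1.conj (σ * τ)⁻¹) : Place k K) = (P.1.conj τ⁻¹).conj σ⁻¹
    rw [mul_inv_rev, Place.conj_mul]

lemma mem_ker_rho (σ : K ≃ₐ[k] K) (hσ : σ ∈ X.rho.ker) (P : Place k K) (hP : X.W P ≠ 0) :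
    IsFixedPt (σ : K →ₐ[k] K) P := by
  have hP' : P ∈ X.W.support := Finsupp.mem_support_iff.2 hP
  rw [MonoidHom.mem_ker] at hσ
  have h1 := congrArg (fun e : Equiv.Perm X.W.support => ((e ⟨P, hP'⟩ : X.W.support) : Place k K)) hσ
  have h2 : P.conj σ⁻¹ = P := h1
  have h3 : P.conj σ = P := by
    have := congrArg (fun R : Place k K => R.conj σ) h2
    simpa [conj_inv_conj] using this.symm
  intro z hz
  have : P.1 ((σ : K →ₐ[k] K) z) = (P.conj σ).1 z := rfl
  rw [this, h3]
  exact hz

include X in
/-- **S11048**: the automorphism group is finite. -/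
theorem finite_aut : Finite (K ≃ₐ[k] K) := by
  classical
  rw [MonoidHom.finite_iff_finite_ker_range X.rho]
  refine ⟨?_, inferInstance⟩
  rcases lt_or_eq_of_le X.card_ge with h | h
  · have hbot : X.rho.ker = ⊥ := by
      rw [Subgroup.eq_bot_iff_forall]
      intro σ hσ
      exact X.eq_one_of_card_gt h σ (X.mem_ker_rho σ hσ)
    rw [hbot]
    infer_instance
  · obtain ⟨x, hx2, hx⟩ := X.exists_of_card_eq h.symm
    set F := IntermediateField.adjoin k ({x} : Set K) with hF
    have hfd : FiniteDimensional F K := Module.finite_of_finrank_pos (by rw [hx2]; norm_num)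
    let f : X.rho.ker → (K ≃ₐ[F] K) := fun σ =>
      { (σ.1 : K ≃ₐ[k] K) with
        commutes' := fun z => map_eq_of_mem_adjoin σ.1
          ((hx σ.1).1 (X.mem_ker_rho σ.1 σ.2)) z.2 }
    have hf : Function.Injective f := by
      intro σ τ hστ
      apply Subtype.ext
      ext z
      exact congrArg (fun e : K ≃ₐ[F] K => e z) hστ
    exact Finite.of_injective f hf

end Data

/-- **S11048**. -/
theorem finite_algEquiv (hK : IsFunctionField k K) (hg : 1 < genus k K)
    (hchar : ringChar k = 0 ∨ 2 * genus k K - 2 < ringChar k) : Finite (K ≃ₐ[k] K) := by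
  obtain ⟨X⟩ := nonempty_data hK hg hchar
  exact X.finite_aut

end Groth.Agent.H7.AW
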