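import Mathlib
import Groth.Prelude.Def_HopfRep

/-!
# Comodules over a group algebra are graded; module-split subcomodules split (helper9)
-/

set_option autoImplicit false
set_option linter.style.haveILetI false

universe u v w

open TensorProduct

namespace Groth.Agent.H7.AddGraded


variable {k : Type u} [CommRing k] {M : Type v} [AddMonoid M]
  {V : Type w} [AddCommGroup V] [Module k V]

/-- coordinate functional -/
noncomputable def coordAt (R : Type u) [CommRing R] {M : Type v} [AddMonoid M] (m : M) :
    AddMonoidAlgebra R M →ₗ[R] R :=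
  Finsupp.lapply m ∘ₗ (AddMonoidAlgebra.coeffLinearEquiv R).toLinearMap

lemma coordAt_apply {R : Type u} [CommRing R] {M : Type v} [AddMonoid M] (m : M)
    (x : AddMonoidAlgebra R M) : coordAt R m x = x.coeff m := rfl

/-- the slice of a tensor at `m` -/
noncomputable def sl (m : M) : V ⊗[k] AddMonoidAlgebra k M →ₗ[k] V :=
  (TensorProduct.rid k V).toLinearMap ∘ₗ LinearMap.lTensor V (coordAt k m)

lemma sl_tmul (m : M) (v : V) (x : AddMonoidAlgebra k M) :
    sl m (v ⊗ₜ[k] x) = x.coeff m • v := by
  simp [sl, coordAt_apply]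

lemma coeff_counit (a : AddMonoidAlgebra k M) :
    CoalgebraStruct.counit (R := k) a = ∑ m ∈ a.coeff.support, a.coeff m := by
  classical
  induction a using AddMonoidAlgebra.induction_linear with
  | zero => simp
  | add x y hx hy =>
    rw [map_add, hx, hy, AddMonoidAlgebra.coeff_add]
    have h1 : ∑ m ∈ x.coeff.support, x.coeff m =
        ∑ m ∈ x.coeff.support ∪ y.coeff.support, x.coeff m :=
      Finset.sum_subset Finset.subset_union_left fun m _ hm => by
        simpa using hm
    have h2 : ∑ m ∈ y.coeff.support, y.coeff m =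
        ∑ m ∈ x.coeff.support ∪ y.coeff.support, y.coeff m :=
      Finset.sum_subset Finset.subset_union_right fun m _ hm => by
        simpa using hm
    have h3 : ∑ m ∈ (x.coeff + y.coeff).support, (x.coeff + y.coeff) m =
        ∑ m ∈ x.coeff.support ∪ y.coeff.support, (x.coeff + y.coeff) m :=
      Finset.sum_subset Finsupp.support_add fun m _ hm => by
        simpa using hm
    rw [h1, h2, h3, ← Finset.sum_add_distrib]
    rfl
  | single m r =>
    rw [AddMonoidAlgebra.counit_single, CommSemiring.counit_apply, AddMonoidAlgebra.coeff_single]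
    by_cases hr : r = 0
    · subst hr; simp
    · rw [Finsupp.support_single_ne_zero _ hr, Finset.sum_singleton, Finsupp.single_eq_same]

/-- the slices of a tensor vanish almost everywhere and sum to the counit contraction -/
lemma exists_sum_sl (t : V ⊗[k] AddMonoidAlgebra k M) :
    ∃ s : Finset M, (∀ m ∉ s, sl m t = 0) ∧
      ∑ m ∈ s, sl m t = TensorProduct.rid k V
        (LinearMap.lTensor V (CoalgebraStruct.counit (R := k) (A := AddMonoidAlgebra k M)) t) := by
  classical
  induction t using TensorProduct.induction_on with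
  | zero => exact ⟨∅, fun m _ => map_zero _, by simp⟩
  | tmul v a =>
    refine ⟨a.coeff.support, fun m hm => ?_, ?_⟩
    · rw [sl_tmul]
      have : a.coeff m = 0 := by simpa using hm
      rw [this, zero_smul]
    · simp only [sl_tmul]
      rw [← Finset.sum_smul, ← coeff_counit, LinearMap.lTensor_tmul, TensorProduct.rid_tmul]
  | add x y hx hy =>
    obtain ⟨s₁, h1, h1'⟩ := hx
    obtain ⟨s₂, h2, h2'⟩ := hy
    refine ⟨s₁ ∪ s₂, fun m hm => ?_, ?_⟩
    · rw [Finset.mem_union, not_or] at hm
      rw [map_add, h1 m hm.1, h2 m hm.2, add_zero]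
    · simp only [map_add]
      rw [Finset.sum_add_distrib, ← h1', ← h2']
      congr 1
      · exact (Finset.sum_subset Finset.subset_union_left fun m _ hm => h1 m hm).symm
      · exact (Finset.sum_subset Finset.subset_union_right fun m _ hm => h2 m hm).symm

lemma sl_comul (m : M) (a : AddMonoidAlgebra k M) :
    TensorProduct.rid k (AddMonoidAlgebra k M)
      (LinearMap.lTensor (AddMonoidAlgebra k M) (coordAt k m) (CoalgebraStruct.comul (R := k) a)) =
      a.coeff m • AddMonoidAlgebra.single m 1 := by
  classical
  induction a using AddMonoidAlgebra.induction_linear with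
  | zero => simp
  | add x y hx hy =>
    rw [map_add, map_add, map_add, hx, hy, AddMonoidAlgebra.coeff_add, Finsupp.add_apply, add_smul]
  | single g r =>
    rw [AddMonoidAlgebra.comul_single, CommSemiring.comul_apply, TensorProduct.map_tmul,
      LinearMap.lTensor_tmul, TensorProduct.rid_tmul, coordAt_apply, AddMonoidAlgebra.lsingle_apply,
      AddMonoidAlgebra.lsingle_apply, AddMonoidAlgebra.coeff_single]
    by_cases h : g = m
    · subst h; rw [Finsupp.single_eq_same]
    · rw [Finsupp.single_eq_of_ne (Ne.symm h), zero_smul, zero_smul]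

variable [HopfRep.Comod k (AddMonoidAlgebra k M) V]

/-- the coaction (shorthand) -/
noncomputable abbrev coact : V →ₗ[k] V ⊗[k] AddMonoidAlgebra k M :=
  HopfRep.Comod.coact (k := k) (A := AddMonoidAlgebra k M)

/-- the projection to the `m`-th graded piece -/
noncomputable def pr (m : M) : V →ₗ[k] V := sl m ∘ₗ coact

lemma pr_apply (m : M) (v : V) : pr (k := k) m v = sl m (coact (k := k) (M := M) v) := rfl

/-- the auxiliary contraction `v ⊗ (a ⊗ b) ↦ coeff_m(b) • v ⊗ a` -/
noncomputable def Phi (m : M) :
    V ⊗[k] (AddMonoidAlgebra k M ⊗[k] AddMonoidAlgebra k M) →ₗ[k] V ⊗[k] AddMonoidAlgebra k M :=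
  LinearMap.lTensor V ((TensorProduct.rid k (AddMonoidAlgebra k M)).toLinearMap ∘ₗ
    LinearMap.lTensor (AddMonoidAlgebra k M) (coordAt k m))

lemma Phi_left (m : M) (t : V ⊗[k] AddMonoidAlgebra k M) :
    Phi m ((TensorProduct.assoc k V (AddMonoidAlgebra k M) (AddMonoidAlgebra k M))
      ((coact (k := k) (M := M) (V := V)).rTensor (AddMonoidAlgebra k M) t)) = coact (sl m t) := by
  induction t using TensorProduct.induction_on with
  | zero => simp
  | add x y hx hy => simp only [map_add, hx, hy]
  | tmul w a =>
    rw [LinearMap.rTensor_tmul, sl_tmul, map_smul]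
    generalize coact (k := k) (M := M) w = z
    induction z using TensorProduct.induction_on with
    | zero => simp
    | add x y hx hy => simp only [TensorProduct.add_tmul, map_add, hx, hy, smul_add]
    | tmul w' a' =>
      rw [TensorProduct.assoc_tmul, Phi, LinearMap.lTensor_tmul, LinearMap.comp_apply,
        LinearMap.lTensor_tmul, LinearEquiv.coe_coe, TensorProduct.rid_tmul, coordAt_apply,
        TensorProduct.tmul_smul]

lemma Phi_right (m : M) (t : V ⊗[k] AddMonoidAlgebra k M) :
    Phi m (LinearMap.lTensor V (CoalgebraStruct.comul (R := k) (A := AddMonoidAlgebra k M)) t) =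
      sl m t ⊗ₜ[k] AddMonoidAlgebra.single m 1 := by
  induction t using TensorProduct.induction_on with
  | zero => simp
  | add x y hx hy => simp only [map_add, hx, hy, TensorProduct.add_tmul]
  | tmul w a =>
    rw [LinearMap.lTensor_tmul, Phi, LinearMap.lTensor_tmul, LinearMap.comp_apply,
      LinearEquiv.coe_coe, sl_comul, sl_tmul, TensorProduct.tmul_smul, TensorProduct.smul_tmul']

/-- the graded pieces are eigenspaces -/
lemma coact_pr (m : M) (v : V) :
    coact (pr (k := k) m v) = pr (k := k) m v ⊗ₜ[k] AddMonoidAlgebra.single m 1 := by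
  have h := LinearMap.congr_fun
    (HopfRep.Comod.coassoc (k := k) (A := AddMonoidAlgebra k M) (V := V)) v
  simp only [LinearMap.comp_apply, LinearEquiv.coe_coe] at h
  have h2 := congrArg (Phi m) h
  rw [Phi_left, Phi_right] at h2
  exact h2

lemma pr_of_coact_eq [DecidableEq M] (m n : M) (u : V)
    (hu : coact (k := k) u = u ⊗ₜ[k] AddMonoidAlgebra.single n 1) :
    pr (k := k) m u = if n = m then u else 0 := by
  rw [pr_apply, hu, sl_tmul, AddMonoidAlgebra.coeff_single, Finsupp.single_apply]
  split_ifs <;> simp

lemma pr_pr [DecidableEq M] (m n : M) (v : V) :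
    pr (k := k) m (pr (k := k) n v) = if n = m then pr (k := k) n v else 0 :=
  pr_of_coact_eq m n _ (coact_pr n v)

/-- every vector is the finite sum of its graded components -/
lemma exists_sum_pr (v : V) :
    ∃ s : Finset M, (∀ m ∉ s, pr (k := k) m v = 0) ∧ ∑ m ∈ s, pr (k := k) m v = v := by
  obtain ⟨s, h1, h2⟩ := exists_sum_sl (coact (k := k) (M := M) v)
  refine ⟨s, h1, ?_⟩
  have h := LinearMap.congr_fun
    (HopfRep.Comod.counit_comp (k := k) (A := AddMonoidAlgebra k M) (V := V)) v
  simp only [LinearMap.comp_apply, LinearMap.flip_apply, TensorProduct.mk_apply] at h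
  simp only [pr_apply]
  rw [h2, h, TensorProduct.rid_tmul, one_smul]


end Groth.Agent.H7.AddGraded
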