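import Mathlib
open CategoryTheory CategoryTheory.Limits AlgebraicGeometry Opposite
universe u
namespace Groth.Agent.H7.AdicPoints

theorem main (A : Type u) [CommRing A] (I : Ideal A) [IsAdicComplete I A]
    (X : Scheme.{u}) [X.IsQuasiAffine] :
    (∀ f g : Spec (CommRingCat.of A) ⟶ X,
      (∀ n : ℕ, Spec.map (CommRingCat.ofHom (Ideal.Quotient.mk (I ^ n))) ≫ f =
        Spec.map (CommRingCat.ofHom (Ideal.Quotient.mk (I ^ n))) ≫ g) → f = g) ∧
    (∀ e : ∀ n : ℕ, Spec (CommRingCat.of (A ⧸ I ^ n)) ⟶ X,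
      (∀ n : ℕ, Spec.map (CommRingCat.ofHom (Ideal.Quotient.factorPowSucc I n)) ≫ e (n + 1) = e n) →
      ∃ f : Spec (CommRingCat.of A) ⟶ X,
        ∀ n : ℕ, Spec.map (CommRingCat.ofHom (Ideal.Quotient.mk (I ^ n))) ≫ f = e n) := by
  let j := X.toSpecΓ
  haveI : IsOpenImmersion j := inferInstance
  -- hausdorff: ring homs agreeing mod all powers are equal
  have hHaus : ∀ (B : CommRingCat.{u}) (φ ψ : B ⟶ CommRingCat.of A),
      (∀ n : ℕ, φ ≫ CommRingCat.ofHom (Ideal.Quotient.mk (I ^ n)) =
        ψ ≫ CommRingCat.ofHom (Ideal.Quotient.mk (I ^ n))) → φ = ψ := by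
    intro B φ ψ h
    ext b
    have hH : IsHausdorff I A := inferInstance
    rw [← sub_eq_zero]
    apply hH.haus'
    intro n
    have := ConcreteCategory.congr_hom (h n) b
    have h2 : Ideal.Quotient.mk (I ^ n) (φ.hom b) = Ideal.Quotient.mk (I ^ n) (ψ.hom b) := this
    rw [SModEq.zero, smul_eq_mul, Ideal.mul_top]
    exact (Ideal.Quotient.eq).mp h2
  constructor
  · intro f g h
    rw [← cancel_mono j]
    obtain ⟨φ, hφ⟩ := Spec.map_surjective (f ≫ j)
    obtain ⟨ψ, hψ⟩ := Spec.map_surjective (g ≫ j)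
    rw [← hφ, ← hψ]
    congr 1
    apply hHaus
    intro n
    apply Spec.map_injective
    rw [Spec.map_comp, Spec.map_comp, hφ, hψ, ← Category.assoc, ← Category.assoc, h n]
  · intro e he
    -- ring maps
    choose ψ hψ using fun n => Spec.map_surjective (e n ≫ j)
    have hcomp : ∀ n, ψ (n + 1) ≫ CommRingCat.ofHom (Ideal.Quotient.factorPowSucc I n) = ψ n := by
      intro n
      apply Spec.map_injective
      rw [Spec.map_comp, hψ, hψ, ← Category.assoc, he]
    have hcomp' : ∀ {m : ℕ}, (Ideal.Quotient.factorPow I (strictMono_id.monotone m.le_succ)).comp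
        ((fun n => (ψ n).hom) (m + 1)) = (fun n => (ψ n).hom) m := by
      intro m
      have := congrArg CommRingCat.Hom.hom (hcomp m)
      exact this
    let Ψ : Γ(X, ⊤) →+* A := IsAdicComplete.StrictMono.liftRingHom I strictMono_id
      (fun n => (ψ n).hom) hcomp'
    have hΨ : ∀ n, CommRingCat.ofHom Ψ ≫ CommRingCat.ofHom (Ideal.Quotient.mk (I ^ n)) = ψ n := by
      intro n
      ext b
      exact IsAdicComplete.StrictMono.mk_liftRingHom I strictMono_id _ hcomp' b
    let f' : Spec (CommRingCat.of A) ⟶ Spec Γ(X, ⊤) := Spec.map (CommRingCat.ofHom Ψ)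
    have hf' : ∀ n, Spec.map (CommRingCat.ofHom (Ideal.Quotient.mk (I ^ n))) ≫ f' = e n ≫ j := by
      intro n
      rw [← hψ n, ← hΨ n, Spec.map_comp]
    -- range of f' inside range of j
    have hrange : Set.range f' ⊆ Set.range j := by
      rintro _ ⟨x, rfl⟩
      by_contra hx
      -- closed set of bad points
      let C : Set (Spec (CommRingCat.of A)) := (f' ⁻¹' (Set.range j))ᶜ
      have hC : IsClosed C := by
        apply IsOpen.isClosed_compl
        exact j.isOpenEmbedding.isOpen_range.preimage f'.continuous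
      have hxC : x ∈ C := hx
      obtain ⟨J, hJ⟩ := (PrimeSpectrum.isClosed_iff_zeroLocus_ideal C).mp hC
      have hJx : J ≤ x.asIdeal := by
        rw [hJ] at hxC
        exact hxC
      have hJne : J ≠ ⊤ := by
        rintro rfl
        exact x.isPrime.ne_top (top_le_iff.mp hJx)
      obtain ⟨m, hm, hJm⟩ := Ideal.exists_le_maximal J hJne
      have hIm : I ≤ m := by
        refine (IsAdicComplete.le_jacobson_bot I).trans ?_
        exact sInf_le ⟨bot_le, hm⟩
      let pm : Spec (CommRingCat.of A) := ⟨m, hm.isPrime⟩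
      have hpmC : pm ∈ C := by
        rw [hJ]
        exact hJm
      apply hpmC
      show f' pm ∈ Set.range j
      have hsurj : Function.Surjective (Ideal.Quotient.mk (I ^ 1)) := Ideal.Quotient.mk_surjective
      have hmem : pm ∈ Set.range (PrimeSpectrum.comap (Ideal.Quotient.mk (I ^ 1))) := by
        rw [range_comap_of_surjective _ _ hsurj, Ideal.mk_ker, pow_one]
        exact hIm
      obtain ⟨x', hx'⟩ := hmem
      have h1 : pm = (Spec.map (CommRingCat.ofHom (Ideal.Quotient.mk (I ^ 1)))) x' := hx'.symm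
      rw [h1, ← Scheme.Hom.comp_apply, hf' 1, Scheme.Hom.comp_apply]
      exact ⟨_, rfl⟩
    refine ⟨IsOpenImmersion.lift j f' hrange, fun n => ?_⟩
    rw [← cancel_mono j, Category.assoc, IsOpenImmersion.lift_fac, hf']

end Groth.Agent.H7.AdicPoints
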