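import Mathlib

open CategoryTheory Limits

namespace Groth.Agent.H7.AdjCoprod

universe v₁ u₁ v₂ u₂ v₃ u₃ w

variable {𝒯 : Type u₁} [Category.{v₁} 𝒯] {𝒜 : Type u₂} [Category.{v₂} 𝒜]
  {ℬ : Type u₃} [Category.{v₃} ℬ] {Φ : Type w}
  {E : 𝒜 ⥤ 𝒯} {Ri : 𝒯 ⥤ 𝒜} (adjE : E ⊣ Ri)
  {Rj : 𝒯 ⥤ ℬ} {Cj : ℬ ⥤ 𝒯} (adjR : Rj ⊣ Cj)
  {P : Φ → (ℬ ⥤ 𝒜)} {Q : Φ → (𝒜 ⥤ ℬ)} (adj : ∀ f, Q f ⊣ P f)
  (ρ : ∀ f, Ri ⟶ Rj ⋙ P f)

include adjE adjR in
theorem key (a : 𝒜) (b : ℬ) (ψ : Rj.obj (E.obj a) ⟶ b) (f : Φ) :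
    adjE.homEquiv _ _ (adjR.homEquiv _ _ ψ) ≫ (ρ f).app (Cj.obj b) ≫ (P f).map (adjR.counit.app b) =
      adjE.unit.app a ≫ (ρ f).app (E.obj a) ≫ (P f).map ψ := by
  rw [Adjunction.homEquiv_unit, Adjunction.homEquiv_unit, Category.assoc]
  congr 1
  have h1 := (ρ f).naturality (adjR.unit.app (E.obj a) ≫ Cj.map ψ)
  rw [reassoc_of% h1]
  congr 1
  dsimp
  rw [← Functor.map_comp]
  congr 1
  rw [Functor.map_comp, Category.assoc, adjR.counit_naturality, adjR.left_triangle_components_assoc]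

/-- the cofan -/
def cofan (a : 𝒜) : Cofan (fun f => (Q f).obj a) :=
  Cofan.mk (Rj.obj (E.obj a))
    (fun f => ((adj f).homEquiv _ _).symm (adjE.unit.app a ≫ (ρ f).app (E.obj a)))

/-- formal: restr_j ∘ extend_i is a coproduct of the left adjoints -/
def isColimit (hlim : ∀ b : ℬ, IsLimit (Fan.mk (Ri.obj (Cj.obj b))
      (fun f => (ρ f).app (Cj.obj b) ≫ (P f).map (adjR.counit.app b)))) (a : 𝒜) :
    IsColimit (cofan adjE adj ρ a) := by
  have hkey : ∀ (b : ℬ) (ψ : Rj.obj (E.obj a) ⟶ b) (f : Φ),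
      (adj f).homEquiv _ _ ((cofan adjE adj ρ a).inj f ≫ ψ) =
        adjE.homEquiv _ _ (adjR.homEquiv _ _ ψ) ≫ (ρ f).app (Cj.obj b) ≫
          (P f).map (adjR.counit.app b) := by
    intro b ψ f
    have hinj : (cofan adjE adj ρ a).inj f =
        ((adj f).homEquiv _ _).symm (adjE.unit.app a ≫ (ρ f).app (E.obj a)) := rfl
    rw [key adjE adjR ρ a b ψ f, Adjunction.homEquiv_naturality_right, hinj]
    erw [Equiv.apply_symm_apply]
    exact Category.assoc _ _ _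
  refine mkCofanColimit _
    (fun s => (adjR.homEquiv _ _).symm ((adjE.homEquiv _ _).symm
      (Fan.IsLimit.lift (hlim s.pt) (fun f => (adj f).homEquiv _ _ (s.inj f)))))
    (fun s f => ?_) (fun s m hm => ?_)
  · apply ((adj f).homEquiv _ _).injective
    rw [hkey]
    simp only [Equiv.apply_symm_apply]
    exact Fan.IsLimit.fac (hlim s.pt) _ f
  · apply (adjR.homEquiv _ _).injective
    apply (adjE.homEquiv _ _).injective
    simp only [Equiv.apply_symm_apply]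
    apply Fan.IsLimit.hom_ext (hlim s.pt)
    intro f
    rw [Fan.IsLimit.fac]
    have := hkey s.pt m f
    rw [hm f] at this
    exact this.symm

end Groth.Agent.H7.AdjCoprod
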