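import Groth.Agent.Lib.Helper5.FunFld.Plane2
import Mathlib.FieldTheory.IntermediateField.Adjoin.Algebra
import Mathlib.RingTheory.Algebraic.Basic

/-! `k[t] = ⋂ O_P` over the places of `k(t)` where `t` is integral (helper7). -/

set_option autoImplicit false

namespace Groth.Agent.H7.AdjPair

open FunFld

variable {k : Type*} [Field k]

/-- an element of `k(t)` integral at all places where `t` is integral lies in `k[t]` -/
theorem mem_adjoin_of_forall_place {F : Type*} [Field F] [Algebra k F] (hF : IsFunctionField k F)
    (t : F) (ht : Transcendental k t) (htop : IntermediateField.adjoin k ({t} : Set F) = ⊤) (c : F)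
    (h : ∀ P : Place k F, P.1 t ≤ 1 → P.1 c ≤ 1) : c ∈ Algebra.adjoin k ({t} : Set F) := by
  set A' : Subalgebra k F := Algebra.adjoin k ({t} : Set F) with hA'
  have hint : IsIntegral A' c := isIntegral_of_forall_place hF A' c
    (fun P hr => h P (hr t (Algebra.self_mem_adjoin_singleton k t)))
  haveI : IsIntegrallyClosed A' :=
    IsIntegrallyClosed.of_equiv (Polynomial.algEquivOfTranscendental k t ht).toRingEquiv
  haveI : IsFractionRing A' F := IsFractionRing.of_field A' F (fun z => by
    have hz : z ∈ IntermediateField.adjoin k ({t} : Set F) := by rw [htop]; trivial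
    obtain ⟨r, hr, s, hs, hrs⟩ := IntermediateField.mem_adjoin_iff_div.1 hz
    exact ⟨⟨r, hr⟩, ⟨s, hs⟩, hrs⟩)
  obtain ⟨y, hy⟩ := IsIntegrallyClosed.isIntegral_iff.1 hint
  rw [← hy]
  exact y.2

end Groth.Agent.H7.AdjPair
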