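import Groth.Agent.Lib.Helper7.AdjPair1
import Mathlib.FieldTheory.Minpoly.IsIntegrallyClosed
import Mathlib.FieldTheory.IntermediateField.Adjoin.Basic

/-! `k[x,y] = ⋂ O_P[y]` (helper7). -/

set_option autoImplicit false

namespace Groth.Agent.H7.AdjPair

open FunFld

variable {k : Type*} [Field k]

/-- elements of `O[y]` are `O`-combinations of `1, …, y^{n-1}` when `y` is a root of a monic
polynomial of degree `n` over `O`. -/
theorem exists_lowdeg_of_mem_closure {F K : Type*} [Field F] [Field K] [Algebra F K]
    (O : Subring F) (y : K) (g : Polynomial O)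
    (hg : g.Monic)
    (hgy : Polynomial.eval₂ ((algebraMap F K).comp O.subtype) y g = 0)
    (z : K) (hz : z ∈ Subring.closure ((algebraMap F K '' (O : Set F)) ∪ {y})) :
    ∃ r : Polynomial O, r.degree < g.degree ∧
      Polynomial.eval₂ ((algebraMap F K).comp O.subtype) y r = z := by
  have hle : Subring.closure ((algebraMap F K '' (O : Set F)) ∪ {y}) ≤
      (Polynomial.eval₂RingHom ((algebraMap F K).comp O.subtype) y).range := by
    rw [Subring.closure_le]
    rintro w (⟨a, ha, rfl⟩ | rfl)
    · exact ⟨Polynomial.C ⟨a, ha⟩, by simp⟩
    · exact ⟨Polynomial.X, by simp⟩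
  obtain ⟨h, rfl⟩ := hle hz
  refine ⟨h %ₘ g, Polynomial.degree_modByMonic_lt _ hg, ?_⟩
  simpa using Polynomial.eval₂_modByMonic_eq_self_of_root (p := h) hgy

variable {K : Type*} [Field K] [Algebra k K]

theorem isFunctionField_adjoin (hK : IsFunctionField k K) (x : K) (hx : Transcendental k x) :
    IsFunctionField k (IntermediateField.adjoin k ({x} : Set K)) ∧
    Transcendental k (⟨x, IntermediateField.mem_adjoin_simple_self k x⟩ :
      IntermediateField.adjoin k ({x} : Set K)) ∧
    IntermediateField.adjoin k
      ({⟨x, IntermediateField.mem_adjoin_simple_self k x⟩} :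
        Set (IntermediateField.adjoin k ({x} : Set K))) = ⊤ := by
  have hxF : Transcendental k (⟨x, IntermediateField.mem_adjoin_simple_self k x⟩ :
      IntermediateField.adjoin k ({x} : Set K)) := by
    rw [← transcendental_algebraMap_iff
      (algebraMap (IntermediateField.adjoin k ({x} : Set K)) K).injective]
    exact hx
  have htop : IntermediateField.adjoin k
      ({⟨x, IntermediateField.mem_adjoin_simple_self k x⟩} :
        Set (IntermediateField.adjoin k ({x} : Set K))) = ⊤ := by
    apply IntermediateField.lift_injective
    rw [IntermediateField.lift_adjoin_simple, IntermediateField.lift_top]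
  refine ⟨⟨⟨_, hxF, ?_⟩, ?_⟩, hxF, htop⟩
  · rw [htop]
    exact Module.finite_of_finrank_pos (by rw [IntermediateField.finrank_top]; exact one_pos)
  · intro z hz
    have hz' : IsAlgebraic k (z : K) := by
      have := hz.algebraMap (A := K)
      exact this
    obtain ⟨c, hc⟩ := hK.2 _ hz'
    exact ⟨c, Subtype.ext hc⟩

section Main

open scoped IntermediateField.algebraAdjoinAdjoin

/-- the `k`-subalgebra of a place -/
def placeSub {F : Type*} [Field F] [Algebra k F] (P : Place k F) : Subalgebra k F :=
  { P.O.toSubring.toSubsemiring with algebraMap_mem' := fun c => P.2.1 c }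

theorem mem_placeSub {F : Type*} [Field F] [Algebra k F] (P : Place k F) (a : F) :
    a ∈ placeSub P ↔ P.1 a ≤ 1 := Iff.rfl

theorem map_adjoin_gen (x : K) :
    (Algebra.adjoin k ({⟨x, IntermediateField.mem_adjoin_simple_self k x⟩} :
        Set (IntermediateField.adjoin k ({x} : Set K)))).map
      (IntermediateField.adjoin k ({x} : Set K)).val = Algebra.adjoin k ({x} : Set K) := by
  rw [AlgHom.map_adjoin]
  simp

theorem algebraMap_mem_adjoin_gen (x : K) (a : Algebra.adjoin k ({x} : Set K)) :
    algebraMap (Algebra.adjoin k ({x} : Set K)) (IntermediateField.adjoin k ({x} : Set K)) a ∈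
      Algebra.adjoin k ({⟨x, IntermediateField.mem_adjoin_simple_self k x⟩} :
        Set (IntermediateField.adjoin k ({x} : Set K))) := by
  have ha : (a : K) ∈ (Algebra.adjoin k ({⟨x, IntermediateField.mem_adjoin_simple_self k x⟩} :
        Set (IntermediateField.adjoin k ({x} : Set K)))).map
      (IntermediateField.adjoin k ({x} : Set K)).val := by
    rw [map_adjoin_gen]; exact a.2
  obtain ⟨b, hb, hba⟩ := ha
  have : b = algebraMap (Algebra.adjoin k ({x} : Set K))
      (IntermediateField.adjoin k ({x} : Set K)) a := Subtype.ext hba
  rw [← this]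
  exact hb

theorem val_le_one_of_adjoin (x : K)
    (P : Place k (IntermediateField.adjoin k ({x} : Set K)))
    (hP : P.1 ⟨x, IntermediateField.mem_adjoin_simple_self k x⟩ ≤ 1)
    (a : Algebra.adjoin k ({x} : Set K)) :
    P.1 (algebraMap (Algebra.adjoin k ({x} : Set K))
      (IntermediateField.adjoin k ({x} : Set K)) a) ≤ 1 := by
  have hle : Algebra.adjoin k ({⟨x, IntermediateField.mem_adjoin_simple_self k x⟩} :
        Set (IntermediateField.adjoin k ({x} : Set K))) ≤ placeSub P := by
    rw [Algebra.adjoin_le_iff]
    rintro w rfl
    exact hP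
  exact hle (algebraMap_mem_adjoin_gen x a)

theorem adjoin_singleton_eq_top (x y : K)
    (hxy : IntermediateField.adjoin k ({x, y} : Set K) = ⊤)
    (hy : IsIntegral (Algebra.adjoin k ({x} : Set K)) y) :
    Algebra.adjoin (IntermediateField.adjoin k ({x} : Set K)) ({y} : Set K) = ⊤ := by
  have hyF : IsIntegral (IntermediateField.adjoin k ({x} : Set K)) y := hy.tower_top
  apply Algebra.adjoin_eq_top_of_primitive_element hyF.isAlgebraic
  have h1 := IntermediateField.adjoin_adjoin_left k ({x} : Set K) ({y} : Set K)
  rw [Set.singleton_union, hxy] at h1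
  rw [eq_top_iff]
  intro z _
  have : z ∈ (⊤ : IntermediateField k K) := trivial
  rw [← h1] at this
  exact this

theorem main (x y : K) (hK : IsFunctionField k K) (hx : Transcendental k x)
    (hxy : IntermediateField.adjoin k ({x, y} : Set K) = ⊤)
    (hy : IsIntegral (Algebra.adjoin k ({x} : Set K)) y) :
    (Algebra.adjoin k ({x, y} : Set K) : Set K) =
      ⋂ (P : FunFld.Place k (IntermediateField.adjoin k ({x} : Set K)))
        (_ : P.1 ⟨x, IntermediateField.mem_adjoin_simple_self k x⟩ ≤ 1),
        (Subring.closure
          ((algebraMap (IntermediateField.adjoin k ({x} : Set K)) K '' (P.O : Set _)) ∪ {y}) :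
          Set K) := by
  obtain ⟨hF, hxF, hFtop⟩ := isFunctionField_adjoin hK x hx
  apply Set.Subset.antisymm
  · intro z hz
    rw [Set.mem_iInter₂]
    intro P hP
    rw [SetLike.mem_coe] at hz ⊢
    induction hz using Algebra.adjoin_induction with
    | mem w hw =>
      rcases hw with rfl | rfl
      · exact Subring.subset_closure (Or.inl ⟨⟨w, IntermediateField.mem_adjoin_simple_self k w⟩,
          hP, rfl⟩)
      · exact Subring.subset_closure (Or.inr rfl)
    | algebraMap c =>
      exact Subring.subset_closure (Or.inl ⟨algebraMap k _ c, P.2.1 c, rfl⟩)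
    | add a b _ _ ha hb => exact add_mem ha hb
    | mul a b _ _ ha hb => exact mul_mem ha hb
  · intro z hz
    rw [Set.mem_iInter₂] at hz
    rw [SetLike.mem_coe]
    haveI : IsIntegrallyClosed (Algebra.adjoin k ({x} : Set K)) :=
      IsIntegrallyClosed.of_equiv (Polynomial.algEquivOfTranscendental k x hx).toRingEquiv
    have hyF : IsIntegral (IntermediateField.adjoin k ({x} : Set K)) y := hy.tower_top
    have hm : minpoly (IntermediateField.adjoin k ({x} : Set K)) y =
        (minpoly (Algebra.adjoin k ({x} : Set K)) y).map (algebraMap _ _) :=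
      minpoly.isIntegrallyClosed_eq_field_fractions' _ hy
    have hKtop := adjoin_singleton_eq_top x y hxy hy
    -- write z as a low-degree polynomial in y
    have hzt : z ∈ Algebra.adjoin (IntermediateField.adjoin k ({x} : Set K)) ({y} : Set K) := by
      rw [hKtop]; trivial
    rw [Algebra.adjoin_singleton_eq_range_aeval] at hzt
    obtain ⟨h, hh⟩ := hzt
    set R := h %ₘ minpoly (IntermediateField.adjoin k ({x} : Set K)) y with hR
    have hRz : Polynomial.aeval y R = z := by
      rw [hR, Polynomial.aeval_modByMonic_eq_self_of_root (minpoly.aeval _ y)]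
      exact hh
    have hRdeg : R.degree < (minpoly (IntermediateField.adjoin k ({x} : Set K)) y).degree :=
      Polynomial.degree_modByMonic_lt _ (minpoly.monic hyF)
    -- coefficients are integral at all places where x is
    have hcoeff : ∀ i, R.coeff i ∈ Algebra.adjoin k
        ({⟨x, IntermediateField.mem_adjoin_simple_self k x⟩} :
          Set (IntermediateField.adjoin k ({x} : Set K))) := by
      intro i
      apply mem_adjoin_of_forall_place hF _ hxF hFtop
      intro P hP
      -- the ring hom A → O_P
      let φ : Algebra.adjoin k ({x} : Set K) →+* P.O.toSubring :=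
        (algebraMap (Algebra.adjoin k ({x} : Set K))
          (IntermediateField.adjoin k ({x} : Set K))).codRestrict P.O.toSubring
          (fun a => val_le_one_of_adjoin x P hP a)
      have hg : ((minpoly (Algebra.adjoin k ({x} : Set K)) y).map φ).Monic :=
        (minpoly.monic hy).map φ
      have hgy : Polynomial.eval₂ ((algebraMap (IntermediateField.adjoin k ({x} : Set K)) K).comp
          P.O.toSubring.subtype) y ((minpoly (Algebra.adjoin k ({x} : Set K)) y).map φ) = 0 := by
        rw [Polynomial.eval₂_map]
        have : ((algebraMap (IntermediateField.adjoin k ({x} : Set K)) K).comp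
          P.O.toSubring.subtype).comp φ = algebraMap (Algebra.adjoin k ({x} : Set K)) K :=
          RingHom.ext fun a => rfl
        rw [this]
        exact minpoly.aeval _ y
      obtain ⟨r, hrdeg, hrz⟩ := exists_lowdeg_of_mem_closure P.O.toSubring y _ hg hgy z (hz P hP)
      have hdeg : ((minpoly (Algebra.adjoin k ({x} : Set K)) y).map φ).degree =
          (minpoly (IntermediateField.adjoin k ({x} : Set K)) y).degree := by
        rw [hm, (minpoly.monic hy).degree_map, (minpoly.monic hy).degree_map]
      rw [hdeg] at hrdeg
      -- R = r.map subtype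
      have hsub : R - r.map P.O.toSubring.subtype = 0 := by
        by_contra hne
        have hroot : Polynomial.aeval y (R - r.map P.O.toSubring.subtype) = 0 := by
          rw [map_sub, hRz, Polynomial.aeval_def, Polynomial.eval₂_map, hrz, sub_self]
        have h1 := minpoly.degree_le_of_ne_zero (IntermediateField.adjoin k ({x} : Set K)) y
          hne hroot
        have h2 : (R - r.map P.O.toSubring.subtype).degree <
            (minpoly (IntermediateField.adjoin k ({x} : Set K)) y).degree :=
          lt_of_le_of_lt (Polynomial.degree_sub_le _ _)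
            (max_lt hRdeg (lt_of_le_of_lt (Polynomial.degree_map_le) hrdeg))
        exact absurd h1 (not_le.2 h2)
      have hRr : R = r.map P.O.toSubring.subtype := sub_eq_zero.1 hsub
      rw [hRr, Polynomial.coeff_map]
      exact (r.coeff i).2
    -- conclude
    rw [← hRz, Polynomial.aeval_eq_sum_range]
    refine Subalgebra.sum_mem _ fun i _ => ?_
    rw [Algebra.smul_def]
    refine Subalgebra.mul_mem _ ?_ (Subalgebra.pow_mem _ (Algebra.subset_adjoin (by simp)) _)
    have h1 : (algebraMap (IntermediateField.adjoin k ({x} : Set K)) K (R.coeff i)) ∈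
        (Algebra.adjoin k ({⟨x, IntermediateField.mem_adjoin_simple_self k x⟩} :
        Set (IntermediateField.adjoin k ({x} : Set K)))).map
        (IntermediateField.adjoin k ({x} : Set K)).val := ⟨_, hcoeff i, rfl⟩
    rw [map_adjoin_gen] at h1
    exact Algebra.adjoin_mono (by simp) h1

end Main

end Groth.Agent.H7.AdjPair
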