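import Groth.Agent.Lib.Helper1.PunctAff4
import Groth.Agent.Lib.Helper1.StalkGen
import Mathlib

/-!
# Opens with affine inclusion containing a dense open of a Noetherian scheme
-/

set_option autoImplicit false

universe u

open AlgebraicGeometry CategoryTheory TopologicalSpace Topology

namespace Groth.Agent.H7.AffOpenFin

section Top

variable {Z : Type*} [TopologicalSpace Z] [QuasiSober Z] [T0Space Z]

/-- maximal points for specialization -/
def MaxPts (Z : Type*) [TopologicalSpace Z] : Set Z := {ξ | ∀ y : Z, y ⤳ ξ → y = ξ}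

theorem exists_maxPt_specializes (z : Z) : ∃ ξ ∈ MaxPts Z, ξ ⤳ z := by
  obtain ⟨η, hη⟩ := QuasiSober.sober (isIrreducible_irreducibleComponent (x := z))
    (isClosed_irreducibleComponent (x := z))
  refine ⟨η, ?_, ?_⟩
  · intro y hy
    have h1 : irreducibleComponent z ⊆ closure {y} := by
      rw [← hη.def]
      exact (specializes_iff_closure_subset.1 hy)
    have h2 : IsPreirreducible (closure ({y} : Set Z)) :=
      (isIrreducible_singleton.closure).isPreirreducible
    have h3 := (irreducibleComponent_property z).2.2 _ h2 h1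
    have h4 : IsGenericPoint y (irreducibleComponent z) := h3
    exact h4.eq hη
  · rw [specializes_iff_mem_closure, hη.def]
    exact mem_irreducibleComponent

theorem finite_maxPts [NoetherianSpace Z] : (MaxPts Z).Finite := by
  refine Set.Finite.of_injOn (f := fun ξ : Z => closure ({ξ} : Set Z))
    (t := irreducibleComponents Z) ?_ ?_ NoetherianSpace.finite_irreducibleComponents
  · intro ξ hξ
    refine ⟨isIrreducible_singleton.closure, ?_⟩
    intro t ht hle
    have hle' : closure ({ξ} : Set Z) ⊆ t := hle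
    obtain ⟨η, hη⟩ := QuasiSober.sober ht.closure isClosed_closure
    have h1 : η ⤳ ξ := by
      rw [specializes_iff_mem_closure, hη.def]
      exact subset_closure (hle' (subset_closure (Set.mem_singleton ξ)))
    have h2 := hξ η h1
    change t ⊆ closure ({ξ} : Set Z)
    rw [← h2, hη.def]
    exact subset_closure
  · intro ξ _ ξ' _ h
    have h1 : IsGenericPoint ξ (closure ({ξ'} : Set Z)) := h
    have h2 : IsGenericPoint ξ' (closure ({ξ'} : Set Z)) := rfl
    exact h1.eq h2

end Top

variable {S : Scheme.{u}}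

/-- maximal points of the complement of an open -/
def Gen (V : S.Opens) : Set S := {ξ | ξ ∉ V ∧ ∀ y : S, y ∉ V → y ⤳ ξ → y = ξ}

theorem gen_eq_image (V : S.Opens) :
    Gen V = Subtype.val '' (MaxPts ↥((V : Set S)ᶜ)) := by
  ext ξ
  constructor
  · rintro ⟨h1, h2⟩
    refine ⟨⟨ξ, h1⟩, ?_, rfl⟩
    intro y hy
    apply Subtype.ext
    exact h2 y.1 y.2 (hy.map continuous_subtype_val)
  · rintro ⟨ξ', h, rfl⟩
    refine ⟨ξ'.2, fun y hy hsp => ?_⟩
    have := h ⟨y, hy⟩ (Topology.IsInducing.subtypeVal.specializes_iff.1 hsp)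
    exact congrArg Subtype.val this

theorem finite_gen [IsNoetherian S] (V : S.Opens) : (Gen V).Finite := by
  rw [gen_eq_image]
  haveI : QuasiSober ↥((V : Set S)ᶜ) :=
    (V.2.isClosed_compl.isClosedEmbedding_subtypeVal).quasiSober
  exact (finite_maxPts).image _

theorem exists_gen_specializes (V : S.Opens) (z : S) (hz : z ∉ V) :
    ∃ ξ ∈ Gen V, ξ ⤳ z := by
  haveI : QuasiSober ↥((V : Set S)ᶜ) :=
    (V.2.isClosed_compl.isClosedEmbedding_subtypeVal).quasiSober
  obtain ⟨ξ, hξ, hsp⟩ := exists_maxPt_specializes (Z := ↥((V : Set S)ᶜ)) ⟨z, hz⟩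
  refine ⟨ξ.1, ?_, hsp.map continuous_subtype_val⟩
  rw [gen_eq_image]
  exact ⟨ξ, hξ, rfl⟩

theorem mem_iff_forall_gen (V : S.Opens) (z : S) : z ∈ V ↔ ∀ ξ ∈ Gen V, ¬ ξ ⤳ z := by
  constructor
  · intro hz ξ hξ hsp
    exact hξ.1 (hsp.mem_open V.2 hz)
  · intro h
    by_contra hz
    obtain ⟨ξ, hξ, hsp⟩ := exists_gen_specializes V z hz
    exact h ξ hξ hsp

open Groth.Agent.H1.PunctAff Groth.Agent.H1.StalkGen in
theorem gen_subset [IsNoetherian S] (U V : S.Opens) (hUV : U ≤ V) [IsAffineHom V.ι]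
    (hU : Dense (U : Set S)) : Gen V ⊆ Gen U := by
  rintro ξ ⟨hξV, hmax⟩
  refine ⟨fun h => hξV (hUV h), fun y hyU hsp => ?_⟩
  by_contra hne
  have hyV : y ∈ V := by
    by_contra hyV
    exact hne (hmax y hyV hsp)
  have hdim := (dim_stalk_eq_one S V ξ hξV hmax).1
  -- `dim O_y ≤ 0`
  have h0 : ringKrullDim (S.presheaf.stalk y) ≤ 0 := by
    have hp := ringKrullDim_stalk_eq_height hsp
    have hlt : (primeOf hsp).asIdeal < IsLocalRing.maximalIdeal (S.presheaf.stalk ξ) := by
      refine lt_of_le_of_ne (IsLocalRing.le_maximalIdeal (primeOf hsp).2.ne_top) ?_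
      intro heq
      apply hne
      have h1 := fromSpecStalk_primeOf hsp
      have h2 : primeOf hsp = IsLocalRing.closedPoint (S.presheaf.stalk ξ) :=
        PrimeSpectrum.ext heq
      rw [h2, Scheme.fromSpecStalk_closedPoint] at h1
      exact h1.symm
    haveI : (primeOf hsp).asIdeal.IsPrime := (primeOf hsp).2
    have hh := Ideal.height_strict_mono_of_isPrime hlt
    have hm : ((IsLocalRing.maximalIdeal (S.presheaf.stalk ξ)).height : WithBot ℕ∞) ≤ 1 := by
      rw [IsLocalRing.maximalIdeal_height_eq_ringKrullDim]; exact hdim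
    have hm' : (IsLocalRing.maximalIdeal (S.presheaf.stalk ξ)).height ≤ 1 := by
      exact_mod_cast hm
    have hz : (primeOf hsp).asIdeal.height = 0 :=
      ENat.lt_one_iff_eq_zero.1 (lt_of_lt_of_le hh hm')
    rw [hp, hz]
    rfl
  exact hyU (mem_of_dense_of_dim_le_zero S y h0 U hU)

theorem isAffineHom_inf' (A B : S.Opens) [IsAffineHom A.ι] [IsAffineHom B.ι] :
    IsAffineHom (A ⊓ B).ι := by
  have h := isPullback_opens_inf A B
  haveI : IsAffineHom (S.homOfLE (inf_le_left : A ⊓ B ≤ A)) :=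
    MorphismProperty.of_isPullback h.flip ‹IsAffineHom B.ι›
  rw [← S.homOfLE_ι (inf_le_left : A ⊓ B ≤ A)]
  infer_instance

theorem isAffineHom_finset_inf (F : Finset S.Opens) (hF : ∀ V ∈ F, IsAffineHom V.ι) :
    IsAffineHom (F.inf id).ι := by
  classical
  induction F using Finset.induction_on with
  | empty =>
    rw [Finset.inf_empty]
    haveI : IsIso (⊤ : S.Opens).ι := by
      have : (⊤ : S.Opens).ι = (S.topIso).hom := rfl
      rw [this]; infer_instance
    infer_instance
  | insert V F hV ih =>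
    rw [Finset.inf_insert]
    haveI : IsAffineHom V.ι := hF V (Finset.mem_insert_self _ _)
    haveI : IsAffineHom (F.inf id).ι := ih fun W hW => hF W (Finset.mem_insert_of_mem hW)
    exact isAffineHom_inf' V (F.inf id)

theorem S13043_main (S : Scheme.{u}) [IsNoetherian S] (U : S.Opens)
    (hU : Dense (U : Set S)) :
    Set.Finite {V : S.Opens | U ≤ V ∧ IsAffineHom V.ι} ∧
      ∃ V₀ : S.Opens, (U ≤ V₀ ∧ IsAffineHom V₀.ι) ∧
        ∀ V : S.Opens, U ≤ V → IsAffineHom V.ι → V₀ ≤ V := by
  classical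
  have hfin : Set.Finite {V : S.Opens | U ≤ V ∧ IsAffineHom V.ι} := by
    refine Set.Finite.of_injOn (f := Gen) (t := 𝒫 (Gen U)) ?_ ?_ (finite_gen U).finite_subsets
    · rintro V ⟨hUV, hV⟩
      haveI := hV
      exact gen_subset U V hUV hU
    · intro V _ V' _ h
      have h' : Gen V = Gen V' := h
      ext z
      change z ∈ V ↔ z ∈ V'
      rw [mem_iff_forall_gen V z, mem_iff_forall_gen V' z, h']
  refine ⟨hfin, hfin.toFinset.inf id, ⟨?_, ?_⟩, ?_⟩
  · apply Finset.le_inf
    intro V hV
    exact ((hfin.mem_toFinset).1 hV).1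
  · exact isAffineHom_finset_inf _ fun V hV => ((hfin.mem_toFinset).1 hV).2
  · intro V hUV hV
    exact Finset.inf_le (f := id) ((hfin.mem_toFinset).2 ⟨hUV, hV⟩)

end Groth.Agent.H7.AffOpenFin
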