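import Mathlib
open CategoryTheory Limits AlgebraicGeometry
universe u

namespace Groth.Agent.H7.AffUnits

lemma affine_case (n : Type u) (S : Scheme.{u}) [IsAffine S] [IsReduced S]
    (w : Γ(𝔸(n; S), ⊤)) (hw : IsUnit w) :
    ∃ r : Γ(S, ⊤), (𝔸(n; S) ↘ S).appTop r = w := by
  let φ := AffineSpace.isoOfIsAffine n S
  let u' : MvPolynomial n Γ(S, ⊤) := (Scheme.ΓSpecIso (.of (MvPolynomial n Γ(S, ⊤)))).hom (φ.inv.appTop w)
  have hu' : IsUnit u' := (hw.map φ.inv.appTop.hom).map (Scheme.ΓSpecIso _).hom.hom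
  obtain ⟨r, hr, hru⟩ := MvPolynomial.isUnit_iff_eq_C_of_isReduced.mp hu'
  refine ⟨r, ?_⟩
  have h1 : w = φ.hom.appTop (φ.inv.appTop w) := by
    rw [← CommRingCat.comp_apply, ← Scheme.Hom.comp_appTop, φ.hom_inv_id]
    simp
  have h2 : φ.inv.appTop w = (Scheme.ΓSpecIso (.of (MvPolynomial n Γ(S, ⊤)))).inv (MvPolynomial.C r) := by
    rw [← hru]
    simp [u']
  rw [h1, h2, AffineSpace.isoOfIsAffine_hom_appTop]
  simp

theorem main (n : Type u) [Finite n] (X : Scheme.{u}) [IsReduced X]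
    (w : Γ(𝔸(n; X), ⊤)) (hw : IsUnit w) :
    ∃ v : Γ(X, ⊤), IsUnit v ∧ (𝔸(n; X) ↘ X).appTop v = w := by
  let σ : ∀ S : Scheme.{u}, S ⟶ 𝔸(n; S) := fun S => AffineSpace.homOfVector (𝟙 S) 0
  have hσ : ∀ S, σ S ≫ (𝔸(n; S) ↘ S) = 𝟙 S := fun S => AffineSpace.homOfVector_over _ _
  have hnat : ∀ {S T : Scheme.{u}} (f : S ⟶ T), f ≫ σ T = σ S ≫ AffineSpace.map n f := by
    intro S T f
    apply AffineSpace.hom_ext
    · rw [Category.assoc, hσ, Category.assoc, AffineSpace.map_over, reassoc_of% (hσ S), Category.comp_id]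
    · intro i
      simp [σ, AffineSpace.map_appTop_coord]
  refine ⟨(σ X).appTop w, hw.map (σ X).appTop.hom, ?_⟩
  let 𝒰 : (𝔸(n; X)).OpenCover := Scheme.Cover.mkOfCovers X.affineCover.I₀
    (fun j => 𝔸(n; X.affineCover.X j)) (fun j => AffineSpace.map n (X.affineCover.f j))
    (by
      intro x
      obtain ⟨j, y, hy⟩ := X.affineCover.exists_eq ((𝔸(n; X) ↘ X) x)
      obtain ⟨z, hz1, hz2⟩ := Scheme.Pullback.exists_preimage_pullback
        (f := (𝔸(n; X) ↘ X)) (g := X.affineCover.f j) x y hy.symm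
      have hpb := AffineSpace.isPullback_map (n := n) (X.affineCover.f j)
      refine ⟨j, hpb.isoPullback.inv z, ?_⟩
      rw [← Scheme.Hom.comp_apply, hpb.isoPullback_inv_fst, hz1])
    (fun j => MorphismProperty.of_isPullback (AffineSpace.isPullback_map (X.affineCover.f j)).flip inferInstance)
  refine 𝒰.ext_elem _ _ ?_
  intro j
  change (AffineSpace.map n (X.affineCover.f j)).appTop ((𝔸(n; X) ↘ X).appTop ((σ X).appTop w)) =
    (AffineSpace.map n (X.affineCover.f j)).appTop w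
  haveI : IsReduced (X.affineCover.X j) := isReduced_of_isOpenImmersion (X.affineCover.f j)
  obtain ⟨r, hr⟩ := affine_case n (X.affineCover.X j)
    ((AffineSpace.map n (X.affineCover.f j)).appTop w)
    (hw.map (AffineSpace.map n (X.affineCover.f j)).appTop.hom)
  have key : AffineSpace.map n (X.affineCover.f j) ≫ (𝔸(n; X) ↘ X) ≫ σ X =
      (𝔸(n; X.affineCover.X j) ↘ X.affineCover.X j) ≫ σ (X.affineCover.X j) ≫
        AffineSpace.map n (X.affineCover.f j) := by
    rw [← Category.assoc, AffineSpace.map_over, Category.assoc, hnat]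
  have h3 := congrArg (fun φ => (Scheme.Hom.appTop φ) w) key
  simp only [Scheme.Hom.comp_appTop, CommRingCat.comp_apply] at h3
  rw [h3, ← hr]
  rw [← CommRingCat.comp_apply, ← CommRingCat.comp_apply, ← Scheme.Hom.comp_appTop,
    ← Scheme.Hom.comp_appTop]
  rw [Category.assoc, hσ, Category.comp_id]

end Groth.Agent.H7.AffUnits
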