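import Mathlib
import Groth.Prelude.Def_BigSite

open CategoryTheory CategoryTheory.Limits Opposite

universe u

namespace Groth.Agent.H7.AlmostCoc

variable {C D : Type u} [SmallCategory C] [SmallCategory D]
  (J : GrothendieckTopology C) (K : GrothendieckTopology D) (u : C ⥤ D)

/-- a sheaf of sets has at most one section on an object covered by the empty sieve -/
theorem subsingleton_of_bot {P : Dᵒᵖ ⥤ Type u} (hP : Presieve.IsSheaf K P) (V : D)
    (hV : (⊥ : Sieve V) ∈ K V) : Subsingleton (P.obj (op V)) := by
  constructor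
  intro a b
  apply (hP.isSeparated _ hV).ext
  intro W f hf
  exact hf.elim

include J in
theorem W_whisker (hu : BigSite.IsAlmostCocontinuous u J K) (G : Dᵒᵖ ⥤ Type u)
    (hG : ∀ V : D, (⊥ : Sieve V) ∈ K V → Nonempty (Unique (G.obj (op V)))) :
    J.W (Functor.whiskerLeft u.op (toSheafify K G)) := by
  rw [J.W_iff_isLocallyBijective]
  constructor
  · constructor
    intro X x y h
    have hR := Presheaf.equalizerSieve_mem K (toSheafify K G) (X := u.op.obj X) x y h
    obtain ⟨R', hR', hh⟩ := hu X.unop _ hR
    refine J.superset_covering ?_ hR'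
    intro V g hg
    rcases hh g hg with he | hr
    · obtain ⟨hU⟩ := hG _ he
      exact (hU.instSubsingleton).elim _ _
    · exact hr
  · constructor
    intro U s
    have hR := Presheaf.imageSieve_mem K (toSheafify K G) (U := op (u.obj U)) s
    obtain ⟨R', hR', hh⟩ := hu U _ hR
    refine J.superset_covering ?_ hR'
    intro V g hg
    rcases hh g hg with he | hr
    · obtain ⟨hU⟩ := hG _ he
      refine ⟨hU.default, ?_⟩
      haveI := subsingleton_of_bot K
        ((isSheaf_iff_isSheaf_of_type _ _).mp ((presheafToSheaf K (Type u)).obj G).property) _ he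
      exact Subsingleton.elim _ _
    · exact hr

theorem main [u.IsContinuous J K]
    (hu : BigSite.IsAlmostCocontinuous u J K) (G : Dᵒᵖ ⥤ Type u)
    (hG : ∀ V : D, (⊥ : Sieve V) ∈ K V → Nonempty (Unique (G.obj (op V)))) :
    IsIso (((sheafificationAdjunction J (Type u)).homEquiv (u.op ⋙ G)
      ((u.sheafPushforwardContinuous (Type u) J K).obj ((presheafToSheaf K (Type u)).obj G))).symm
        (Functor.whiskerLeft u.op (toSheafify K G))) := by
  rw [Adjunction.homEquiv_counit]
  have h1 : IsIso ((presheafToSheaf J (Type u)).map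
      (Functor.whiskerLeft u.op (toSheafify K G))) :=
    (J.W_iff _).mp (W_whisker J K u hu G hG)
  exact @IsIso.comp_isIso _ _ _ _ _ _ _ h1 inferInstance

end Groth.Agent.H7.AlmostCoc
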