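import Mathlib
import Groth.Prelude.Def_BigSite
import Groth.Agent.Lib.Helper7.AlmostCoc

open CategoryTheory CategoryTheory.Limits Opposite

universe u

namespace Groth.Agent.H7.AlmostCoc

variable {C D : Type u} [SmallCategory C] [SmallCategory D]
  (J : GrothendieckTopology C) (K : GrothendieckTopology D) (u : C ⥤ D)

/-- a sheaf of sets has exactly one section on an object covered by the empty sieve -/
theorem unique_of_bot {P : Dᵒᵖ ⥤ Type u} (hP : Presieve.IsSheaf K P) (V : D)
    (hV : (⊥ : Sieve V) ∈ K V) : Nonempty (Unique (P.obj (op V))) := by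
  haveI := subsingleton_of_bot K hP V hV
  obtain ⟨t, -, -⟩ := hP _ hV (fun W f hf => hf.elim) (fun _ _ _ _ _ _ _ hf => hf.elim)
  exact ⟨⟨⟨t⟩, fun _ => Subsingleton.elim _ _⟩⟩

/-- a connected colimit of singletons is a singleton -/
theorem unique_of_connected {I : Type} [SmallCategory I] [IsConnected I] {H : I ⥤ Type u}
    (hH : ∀ i, Nonempty (Unique (H.obj i))) (c : Cocone H) (hc : IsColimit c) :
    Nonempty (Unique c.pt) := by
  have e : ∀ i, Unique (H.obj i) := fun i => (hH i).some
  let φ : I → c.pt := fun i => c.ι.app i (e i).default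
  have hφ : ∀ (i j : I) (_ : i ⟶ j), φ i = φ j := by
    intro i j f
    have h1 : c.ι.app i (e i).default = c.ι.app j (H.map f (e i).default) :=
      (ConcreteCategory.congr_hom (c.w f) (e i).default).symm
    have h2 : H.map f (e i).default = (e j).default := (e j).uniq _
    show c.ι.app i (e i).default = c.ι.app j (e j).default
    rw [h1, h2]
  have hconst := constant_of_preserves_morphisms φ hφ
  let i₀ : I := Classical.arbitrary I
  refine ⟨⟨⟨φ i₀⟩, fun x => ?_⟩⟩
  obtain ⟨j, y, rfl⟩ := Types.jointly_surjective_of_isColimit hc x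
  have : y = (e j).default := (e j).uniq y
  rw [this]
  exact hconst j i₀


variable [u.IsContinuous J K]

/-- the comparison map of S6441 -/
noncomputable def θ (G : Dᵒᵖ ⥤ Type u) :
    (presheafToSheaf J (Type u)).obj (u.op ⋙ G) ⟶
      (u.sheafPushforwardContinuous (Type u) J K).obj ((presheafToSheaf K (Type u)).obj G) :=
  ((sheafificationAdjunction J (Type u)).homEquiv (u.op ⋙ G)
      ((u.sheafPushforwardContinuous (Type u) J K).obj ((presheafToSheaf K (Type u)).obj G))).symm
        (Functor.whiskerLeft u.op (toSheafify K G))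

theorem toSheafify_θ (G : Dᵒᵖ ⥤ Type u) :
    toSheafify J (u.op ⋙ G) ≫ (θ J K u G).hom = Functor.whiskerLeft u.op (toSheafify K G) := by
  have := ((sheafificationAdjunction J (Type u)).homEquiv (u.op ⋙ G)
      ((u.sheafPushforwardContinuous (Type u) J K).obj
        ((presheafToSheaf K (Type u)).obj G))).apply_symm_apply
        (Functor.whiskerLeft u.op (toSheafify K G))
  rw [Adjunction.homEquiv_unit] at this
  exact this

theorem main2 (hu : BigSite.IsAlmostCocontinuous u J K) (I : Type) [SmallCategory I]
    [FinCategory I] [IsConnected I] :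
    PreservesColimitsOfShape I (u.sheafPushforwardContinuous (Type u) J K) := by
  constructor
  intro F
  let E := colimit.cocone (F ⋙ sheafToPresheaf K (Type u))
  have hE : IsColimit E := colimit.isColimit _
  have hc := Sheaf.isColimitSheafifyCocone E hE
  apply preservesColimit_of_preserves_colimit_cocone hc
  -- the presheaf-level image cocone
  let wl := (Functor.whiskeringLeft Cᵒᵖ Dᵒᵖ (Type u)).obj u.op
  let E' : Cocone ((F ⋙ u.sheafPushforwardContinuous (Type u) J K) ⋙ sheafToPresheaf J (Type u)) :=
    wl.mapCocone E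
  have hE' : IsColimit E' := isColimitOfPreserves wl hE
  have hc' := Sheaf.isColimitSheafifyCocone E' hE'
  -- E.pt is a singleton on sheaf theoretically empty objects
  have hG : ∀ V : D, (⊥ : Sieve V) ∈ K V → Nonempty (Unique (E.pt.obj (op V))) := by
    intro V hV
    have hev : IsColimit (((evaluation Dᵒᵖ (Type u)).obj (op V)).mapCocone E) :=
      isColimitOfPreserves _ hE
    refine unique_of_connected (fun i => ?_) _ hev
    exact unique_of_bot K ((isSheaf_iff_isSheaf_of_type _ _).mp (F.obj i).property) V hV
  have hθ : IsIso (θ J K u E.pt) := main J K u hu E.pt hG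
  refine IsColimit.ofIsoColimit hc' (Cocone.ext (@asIso _ _ _ _ (θ J K u E.pt) hθ) ?_)
  intro i
  apply Sheaf.hom_ext
  show ((Sheaf.sheafifyCocone E').ι.app i).hom ≫ (θ J K u E.pt).hom =
    Functor.whiskerLeft u.op ((Sheaf.sheafifyCocone E).ι.app i).hom
  rw [Sheaf.sheafifyCocone_ι_app_val, Sheaf.sheafifyCocone_ι_app_val]
  have h := toSheafify_θ J K u E.pt
  calc _ = Functor.whiskerLeft u.op (E.ι.app i) ≫
        (toSheafify J (u.op ⋙ E.pt) ≫ (θ J K u E.pt).hom) := rfl
    _ = _ := by rw [h]; rfl

end Groth.Agent.H7.AlmostCoc
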