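import Mathlib

/-! The determinant of an alternating matrix of odd size vanishes. -/

set_option autoImplicit false

namespace Groth.Agent.H7.AltDet

open Matrix

/-- generic: over a ring without 2-torsion. -/
theorem det_eq_zero_of_skew {R : Type*} [CommRing R] [IsDomain R] [CharZero R] {n : ℕ}
    (hn : Odd n) (M : Matrix (Fin n) (Fin n) R) (hM : Mᵀ = -M) : M.det = 0 := by
  have h1 : M.det = -M.det := by
    conv_lhs => rw [← det_transpose, hM, det_neg, Fintype.card_fin, hn.neg_one_pow]
    ring
  have h2 : (2 : R) * M.det = 0 := by linear_combination h1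
  rcases mul_eq_zero.mp h2 with h3 | h3
  · exact absurd h3 two_ne_zero
  · exact h3

theorem det_eq_zero_of_alt {A : Type*} [CommRing A] {n : ℕ} (hn : Odd n)
    (N : Matrix (Fin n) (Fin n) A) (hdiag : ∀ i, N i i = 0) (hskew : ∀ i j, N i j + N j i = 0) :
    N.det = 0 := by
  classical
  let P := MvPolynomial (Fin n × Fin n) ℤ
  let G : Matrix (Fin n) (Fin n) P := of fun i j => MvPolynomial.X (i, j) - MvPolynomial.X (j, i)
  have hG : Gᵀ = -G := by
    ext i j
    simp [G]
  have hdet : G.det = 0 := det_eq_zero_of_skew hn G hG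
  let φ : P →+* A := (MvPolynomial.aeval (fun p : Fin n × Fin n => if p.1 < p.2 then N p.1 p.2 else 0) :
    P →ₐ[ℤ] A).toRingHom
  have hφ : ∀ i j : Fin n, φ (MvPolynomial.X (i, j)) = if i < j then N i j else 0 := by
    intro i j
    exact MvPolynomial.aeval_X _ _
  have hmap : G.map φ = N := by
    ext i j
    have e1 : (G.map φ) i j = φ (MvPolynomial.X (i, j)) - φ (MvPolynomial.X (j, i)) := by
      simp [G]
    rw [e1, hφ, hφ]
    rcases lt_trichotomy i j with h | h | h
    · rw [if_pos h, if_neg (not_lt.mpr h.le), sub_zero]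
    · subst h
      simp [hdiag]
    · rw [if_neg (not_lt.mpr h.le), if_pos h, zero_sub]
      have := hskew i j
      linear_combination (-1 : A) * this
  have h3 : (G.map φ).det = φ G.det := (RingHom.map_det φ G).symm
  rw [← hmap, h3, hdet, map_zero]

/-- general finite index type. -/
theorem det_eq_zero_of_alt' {A : Type*} [CommRing A] {ι : Type*} [Fintype ι] [DecidableEq ι]
    (hodd : Odd (Fintype.card ι))
    (N : Matrix ι ι A) (hdiag : ∀ i, N i i = 0) (hskew : ∀ i j, N i j + N j i = 0) :
    N.det = 0 := by
  let e := Fintype.equivFin ι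
  rw [← det_submatrix_equiv_self e.symm N]
  apply det_eq_zero_of_alt hodd
  · intro i; exact hdiag _
  · intro i j; exact hskew _ _

end Groth.Agent.H7.AltDet
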