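import Mathlib

/-! Abstract Amitsur exactness for a "Čech" family of algebras (S15057). -/

set_option autoImplicit false
open scoped TensorProduct

namespace Groth.Agent.H7.Amitsur

universe u

section Abstract

variable {R A : Type u} [CommRing R] [CommRing A] [Algebra R A]
  (P : ℕ → Type u) [∀ n, CommRing (P n)] [∀ n, Algebra R (P n)]
  (ι : ∀ n, Fin (n + 1) → (A →ₐ[R] P n))
  (hext : ∀ (n : ℕ) (T : Type u) [CommRing T] [Algebra R T] (g g' : P n →ₐ[R] T),
    (∀ j, g.comp (ι n j) = g'.comp (ι n j)) → g = g')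
  (hdesc : ∀ (n : ℕ) (T : Type u) [CommRing T] [Algebra R T] (g : Fin (n + 1) → (A →ₐ[R] T)),
    ∃ φ : P n →ₐ[R] T, ∀ j, φ.comp (ι n j) = g j)
  (δ : ∀ n, Fin (n + 2) → (P n →ₐ[R] P (n + 1)))
  (hδ : ∀ n i j, (δ n i).comp (ι n j) = ι (n + 1) (Fin.succAbove i j))

/-- left inclusion. -/
noncomputable abbrev iL (R A : Type u) [CommRing R] [CommRing A] [Algebra R A]
    (P : ℕ → Type u) [∀ n, CommRing (P n)] [∀ n, Algebra R (P n)] (n : ℕ) : A →ₐ[R] A ⊗[R] P n := Algebra.TensorProduct.includeLeft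

/-- right inclusion. -/
noncomputable abbrev iR (R A : Type u) [CommRing R] [CommRing A] [Algebra R A]
    (P : ℕ → Type u) [∀ n, CommRing (P n)] [∀ n, Algebra R (P n)] (n : ℕ) : P n →ₐ[R] A ⊗[R] P n := Algebra.TensorProduct.includeRight

include hext in
/-- algebra maps out of `A ⊗ P n` are determined on `A` and the `ι j`. -/
theorem tensor_hom_ext (n : ℕ) (T : Type u) [CommRing T] [Algebra R T]
    (g g' : A ⊗[R] P n →ₐ[R] T)
    (h1 : g.comp (iL R A P n) = g'.comp (iL R A P n))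
    (h2 : ∀ j, (g.comp (iR R A P n)).comp (ι n j) = (g'.comp (iR R A P n)).comp (ι n j)) : g = g' := by
  apply Algebra.TensorProduct.ext h1
  exact hext n T _ _ h2

/-- the target family of maps for the contraction. -/
noncomputable def sFam (n : ℕ) (j : Fin (n + 2)) : A →ₐ[R] A ⊗[R] P n :=
  Fin.cases (iL R A P n) (fun j' => (iR R A P n).comp (ι n j')) j

/-- the contraction on the right factor. -/
noncomputable def sR (n : ℕ) : P (n + 1) →ₐ[R] A ⊗[R] P n :=
  (hdesc (n + 1) (A ⊗[R] P n) (sFam P ι n)).choose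

theorem sR_ι (n : ℕ) (j : Fin (n + 2)) : (sR P ι hdesc n).comp (ι (n + 1) j) = sFam P ι n j :=
  (hdesc (n + 1) (A ⊗[R] P n) (sFam P ι n)).choose_spec j

/-- the contraction `A ⊗ P (n+1) → A ⊗ P n`. -/
noncomputable def sMap (n : ℕ) : A ⊗[R] P (n + 1) →ₐ[R] A ⊗[R] P n :=
  Algebra.TensorProduct.lift (iL R A P n) (sR P ι hdesc n) (fun _ _ => Commute.all _ _)

theorem sMap_left (n : ℕ) : (sMap P ι hdesc n).comp (iL R A P (n + 1)) = iL R A P n := by
  ext a
  simp [sMap]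

theorem sMap_right (n : ℕ) : (sMap P ι hdesc n).comp (iR R A P (n + 1)) = sR P ι hdesc n := by
  ext x
  simp [sMap]

/-- `1 ⊗ δ i`. -/
noncomputable def tδ (A : Type u) [CommRing A] [Algebra R A] (n : ℕ) (i : Fin (n + 2)) : A ⊗[R] P n →ₐ[R] A ⊗[R] P (n + 1) :=
  Algebra.TensorProduct.map (AlgHom.id R A) (δ n i)

theorem tδ_left (n : ℕ) (i : Fin (n + 2)) : (tδ P δ A n i).comp (iL R A P n) = iL R A P (n + 1) := by
  ext a
  simp [tδ]

theorem tδ_right (n : ℕ) (i : Fin (n + 2)) :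
    (tδ P δ A n i).comp (iR R A P n) = (iR R A P (n + 1)).comp (δ n i) := by
  ext a
  simp [tδ]

include hext hδ in
theorem sMap_tδ_zero (n : ℕ) :
    (sMap P ι hdesc n).comp (tδ P δ A n 0) = AlgHom.id R _ := by
  apply tensor_hom_ext P ι hext n
  · rw [AlgHom.comp_assoc, tδ_left, sMap_left, AlgHom.id_comp]
  · intro j
    rw [AlgHom.comp_assoc _ _ (iR R A P n), tδ_right, AlgHom.id_comp, ← AlgHom.comp_assoc, sMap_right,
      AlgHom.comp_assoc, hδ, sR_ι, Fin.succAbove_zero]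
    rfl

include hext hδ in
theorem sMap_tδ_succ (n : ℕ) (i : Fin (n + 2)) :
    (sMap P ι hdesc (n + 1)).comp (tδ P δ A (n + 1) i.succ) =
      (tδ P δ A n i).comp (sMap P ι hdesc n) := by
  apply tensor_hom_ext P ι hext (n + 1)
  · rw [AlgHom.comp_assoc, tδ_left, sMap_left, AlgHom.comp_assoc, sMap_left, tδ_left]
  · intro j
    rw [AlgHom.comp_assoc _ _ (iR R A P (n + 1)), tδ_right, ← AlgHom.comp_assoc, sMap_right,
      AlgHom.comp_assoc, hδ, sR_ι]
    rw [AlgHom.comp_assoc _ _ (iR R A P (n + 1)), sMap_right, AlgHom.comp_assoc, sR_ι]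
    refine Fin.cases ?_ (fun j' => ?_) j
    · rw [Fin.succ_succAbove_zero]
      show iL R A P (n + 1) = (tδ P δ A n i).comp (iL R A P n)
      rw [tδ_left]
    · rw [Fin.succ_succAbove_succ]
      show (iR R A P (n + 1)).comp (ι (n + 1) (i.succAbove j')) =
        (tδ P δ A n i).comp ((iR R A P n).comp (ι n j'))
      rw [← AlgHom.comp_assoc, tδ_right, AlgHom.comp_assoc, hδ]

/-- the alternating sum differential. -/
noncomputable def dL (n : ℕ) : P n →ₗ[R] P (n + 1) :=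
  ∑ i : Fin (n + 2), ((-1 : ℤ) ^ (i : ℕ)) • (δ n i).toLinearMap

theorem dL_apply (n : ℕ) (x : P n) :
    dL P δ n x = ∑ i : Fin (n + 2), ((-1 : ℤ) ^ (i : ℕ)) • δ n i x := by
  simp [dL, LinearMap.sum_apply]

theorem tδ_toLinearMap (n : ℕ) (i : Fin (n + 2)) :
    (tδ P δ A n i).toLinearMap = (δ n i).toLinearMap.lTensor A := by
  apply TensorProduct.ext'
  intro a x
  simp [tδ]

theorem lTensor_dL (n : ℕ) :
    (dL P δ n).lTensor A = ∑ i : Fin (n + 2), ((-1 : ℤ) ^ (i : ℕ)) • (tδ P δ A n i).toLinearMap := by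
  unfold dL
  rw [← LinearMap.coe_lTensorHom, map_sum]
  refine Finset.sum_congr rfl (fun i _ => ?_)
  rw [map_zsmul, LinearMap.coe_lTensorHom, tδ_toLinearMap]

include hext hδ in
theorem homotopy (n : ℕ) :
    (sMap P ι hdesc (n + 1)).toLinearMap ∘ₗ (dL P δ (n + 1)).lTensor A +
      (dL P δ n).lTensor A ∘ₗ (sMap P ι hdesc n).toLinearMap = LinearMap.id := by
  rw [lTensor_dL, lTensor_dL]
  apply LinearMap.ext
  intro z
  have h0 : sMap P ι hdesc (n + 1) (tδ P δ A (n + 1) 0 z) = z :=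
    AlgHom.congr_fun (sMap_tδ_zero P ι hext hdesc δ hδ (n + 1)) z
  have h1 : ∀ i : Fin (n + 2), sMap P ι hdesc (n + 1) (tδ P δ A (n + 1) i.succ z) =
      tδ P δ A n i (sMap P ι hdesc n z) := fun i =>
    AlgHom.congr_fun (sMap_tδ_succ P ι hext hdesc δ hδ n i) z
  simp only [LinearMap.add_apply, LinearMap.comp_apply, LinearMap.sum_apply, LinearMap.smul_apply,
    map_sum, map_zsmul, AlgHom.toLinearMap_apply, LinearMap.id_apply]
  rw [Fin.sum_univ_succ, Fin.val_zero, pow_zero, one_smul, h0, add_assoc, ← Finset.sum_add_distrib]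
  have h2 : ∀ i : Fin (n + 2),
      ((-1 : ℤ) ^ ((i.succ : Fin (n + 3)) : ℕ)) • sMap P ι hdesc (n + 1) (tδ P δ A (n + 1) i.succ z) +
      ((-1 : ℤ) ^ (i : ℕ)) • tδ P δ A n i (sMap P ι hdesc n z) = 0 := by
    intro i
    rw [h1 i, Fin.val_succ, pow_succ, ← add_smul]
    simp
  rw [Finset.sum_congr rfl (fun i _ => h2 i), Finset.sum_const_zero, add_zero]

include hext hδ in
theorem exact_lTensor (hdesc : ∀ (n : ℕ) (T : Type u) [CommRing T] [Algebra R T]
      (g : Fin (n + 1) → (A →ₐ[R] T)), ∃ φ : P n →ₐ[R] T, ∀ j, φ.comp (ι n j) = g j)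
    (n : ℕ) (hd2 : dL P δ (n + 1) ∘ₗ dL P δ n = 0) :
    Function.Exact ((dL P δ n).lTensor A) ((dL P δ (n + 1)).lTensor A) := by
  intro z
  constructor
  · intro hz
    have h := LinearMap.congr_fun (homotopy P ι hext hdesc δ hδ n) z
    simp only [LinearMap.add_apply, LinearMap.comp_apply, LinearMap.id_apply] at h
    rw [hz, map_zero, zero_add] at h
    exact ⟨_, h⟩
  · rintro ⟨y, rfl⟩
    rw [← LinearMap.comp_apply, ← LinearMap.lTensor_comp, hd2, LinearMap.lTensor_zero,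
      LinearMap.zero_apply]

include hext hdesc hδ in
theorem exact_dL [Module.FaithfullyFlat R A] (n : ℕ) (hd2 : dL P δ (n + 1) ∘ₗ dL P δ n = 0) :
    Function.Exact (dL P δ n) (dL P δ (n + 1)) :=
  Module.FaithfullyFlat.lTensor_reflects_exact R A _ _
    (exact_lTensor P ι hext δ hδ hdesc n hd2)

end Abstract

end Groth.Agent.H7.Amitsur
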