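import Mathlib
import Groth.Agent.Lib.Helper7.Amit1

/-! The Čech conerve of `R → A` as a "Čech family" (S15057). -/

set_option autoImplicit false
open scoped TensorProduct
open CategoryTheory CategoryTheory.Limits

namespace Groth.Agent.H7.Amitsur

universe u

section Cat

variable (R A : Type u) [CommRing R] [CommRing A] [Algebra R A]

/-- the arrow `R → A`. -/
abbrev arr : Arrow CommRingCat.{u} := Arrow.mk (CommRingCat.ofHom (algebraMap R A))

/-- the terms of the conerve. -/
noncomputable abbrev CP (n : ℕ) : CommRingCat.{u} := (arr R A).cechConerve.obj (SimplexCategory.mk n)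

/-- the head map. -/
noncomputable abbrev hd (n : ℕ) : CommRingCat.of R ⟶ CP R A n :=
  WidePushout.head (fun _ : Fin (n + 1) => (arr R A).hom)

noncomputable instance algCP (n : ℕ) : Algebra R (CP R A n) := (hd R A n).hom.toAlgebra

theorem algebraMap_CP (n : ℕ) (r : R) : algebraMap R (CP R A n) r = (hd R A n).hom r := rfl

/-- the coprojections. -/
noncomputable abbrev cι (n : ℕ) (j : Fin (n + 1)) : CommRingCat.of A ⟶ CP R A n :=
  WidePushout.ι (fun _ : Fin (n + 1) => (arr R A).hom) j

theorem arr_cι (n : ℕ) (j : Fin (n + 1)) :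
    CommRingCat.ofHom (algebraMap R A) ≫ cι R A n j = hd R A n :=
  WidePushout.arrow_ι (fun _ : Fin (n + 1) => (arr R A).hom) j

/-- the coprojections as algebra maps. -/
noncomputable def ιA (n : ℕ) (j : Fin (n + 1)) : A →ₐ[R] CP R A n where
  toRingHom := (cι R A n j).hom
  commutes' r := by
    have := congrArg (fun φ => φ.hom r) (arr_cι R A n j)
    exact this

theorem ιA_apply (n : ℕ) (j : Fin (n + 1)) (a : A) : ιA R A n j a = (cι R A n j).hom a := rfl

theorem hext_CP (n : ℕ) (T : Type u) [CommRing T] [Algebra R T] (g g' : CP R A n →ₐ[R] T)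
    (h : ∀ j, g.comp (ιA R A n j) = g'.comp (ιA R A n j)) : g = g' := by
  have key : CommRingCat.ofHom g.toRingHom = CommRingCat.ofHom g'.toRingHom := by
    refine WidePushout.hom_ext (fun _ : Fin (n + 1) => (arr R A).hom) _ _ (fun j => ?_) ?_
    · ext a
      exact AlgHom.congr_fun (h j) a
    · ext r
      show g (algebraMap R (CP R A n) r) = g' (algebraMap R (CP R A n) r)
      rw [g.commutes, g'.commutes]
  apply AlgHom.ext
  intro x
  exact congrArg (fun φ => φ.hom x) key

theorem hdesc_CP (n : ℕ) (T : Type u) [CommRing T] [Algebra R T] (g : Fin (n + 1) → (A →ₐ[R] T)) :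
    ∃ φ : CP R A n →ₐ[R] T, ∀ j, φ.comp (ιA R A n j) = g j := by
  have hw : ∀ j : Fin (n + 1), (arr R A).hom ≫ CommRingCat.ofHom (g j).toRingHom =
      CommRingCat.ofHom (algebraMap R T) := by
    intro j
    ext r
    exact (g j).commutes r
  let φ : CP R A n ⟶ CommRingCat.of T :=
    WidePushout.desc (CommRingCat.ofHom (algebraMap R T))
      (fun j => CommRingCat.ofHom (g j).toRingHom) hw
  have h1 : hd R A n ≫ φ = CommRingCat.ofHom (algebraMap R T) :=
    WidePushout.head_desc _ _ _ _
  have h2 : ∀ j, cι R A n j ≫ φ = CommRingCat.ofHom (g j).toRingHom := fun j =>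
    WidePushout.ι_desc _ _ _ _ j
  refine ⟨{ toRingHom := φ.hom, commutes' := fun r => ?_ }, fun j => ?_⟩
  · exact congrArg (fun ψ => ψ.hom r) h1
  · apply AlgHom.ext
    intro a
    exact congrArg (fun ψ => ψ.hom a) (h2 j)

/-- the coface maps. -/
noncomputable abbrev cδ (n : ℕ) (i : Fin (n + 2)) : CP R A n ⟶ CP R A (n + 1) :=
  (arr R A).cechConerve.map (SimplexCategory.δ i)

theorem hd_cδ (n : ℕ) (i : Fin (n + 2)) : hd R A n ≫ cδ R A n i = hd R A (n + 1) := by
  simp only [cδ, hd, Arrow.cechConerve_map]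
  exact WidePushout.head_desc _ _ _ _

theorem cι_cδ (n : ℕ) (i : Fin (n + 2)) (j : Fin (n + 1)) :
    cι R A n j ≫ cδ R A n i = cι R A (n + 1) (Fin.succAbove i j) := by
  simp only [cδ, cι, Arrow.cechConerve_map]
  exact WidePushout.ι_desc _ _ _ _ j

/-- the coface maps as algebra maps. -/
noncomputable def δA (n : ℕ) (i : Fin (n + 2)) : CP R A n →ₐ[R] CP R A (n + 1) where
  toRingHom := (cδ R A n i).hom
  commutes' r := congrArg (fun ψ => ψ.hom r) (hd_cδ R A n i)

theorem δA_apply (n : ℕ) (i : Fin (n + 2)) (x : CP R A n) : δA R A n i x = (cδ R A n i).hom x := rfl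

theorem hδ_CP (n : ℕ) (i : Fin (n + 2)) (j : Fin (n + 1)) :
    (δA R A n i).comp (ιA R A n j) = ιA R A (n + 1) (Fin.succAbove i j) := by
  apply AlgHom.ext
  intro a
  exact congrArg (fun ψ => ψ.hom a) (cι_cδ R A n i j)

theorem hom_sum_zsmul_apply {M N : AddCommGrpCat.{u}} {κ : Type*} (s : Finset κ) (c : κ → ℤ)
    (f : κ → (M ⟶ N)) (y : M) :
    (∑ i ∈ s, c i • f i).hom y = ∑ i ∈ s, c i • (f i).hom y := by
  classical
  induction s using Finset.induction_on with
  | empty => simp
  | insert a s ha ih =>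
      rw [Finset.sum_insert ha, Finset.sum_insert ha, AddCommGrpCat.hom_add,
        AddMonoidHom.add_apply, ih, AddCommGrpCat.hom_zsmul]
      rfl

/-- the cosimplicial abelian group. -/
noncomputable abbrev XX : CosimplicialObject AddCommGrpCat.{u} :=
  (arr R A).cechConerve ⋙ forget₂ CommRingCat RingCat ⋙ forget₂ RingCat AddCommGrpCat

/-- the complex. -/
noncomputable abbrev KK : CochainComplex AddCommGrpCat.{u} ℕ :=
  AlgebraicTopology.AlternatingCofaceMapComplex.obj (XX R A)

theorem KK_d_apply (k : ℕ) (y : CP R A k) :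
    ((KK R A).d k (k + 1)).hom y = dL (fun n => CP R A n) (δA R A) k y := by
  rw [dL_apply]
  have hd : (KK R A).d k (k + 1) =
      AlgebraicTopology.AlternatingCofaceMapComplex.objD (XX R A) k := by
    unfold KK AlgebraicTopology.AlternatingCofaceMapComplex.obj
    exact CochainComplex.of_d (V := AddCommGrpCat.{u}) (α := ℕ)
      (fun n => (XX R A).obj (SimplexCategory.mk n))
      (AlgebraicTopology.AlternatingCofaceMapComplex.objD (XX R A)) k
  rw [hd]
  exact (hom_sum_zsmul_apply Finset.univ (fun i : Fin (k + 2) => (-1 : ℤ) ^ (i : ℕ))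
    (fun i : Fin (k + 2) => CosimplicialObject.δ (XX R A) i) y).trans
    (Finset.sum_congr rfl fun i _ => rfl)

theorem dL_comp (k : ℕ) :
    dL (fun n => CP R A n) (δA R A) (k + 1) ∘ₗ dL (fun n => CP R A n) (δA R A) k = 0 := by
  apply LinearMap.ext
  intro y
  rw [LinearMap.comp_apply, ← KK_d_apply, ← KK_d_apply, LinearMap.zero_apply]
  have h := (KK R A).d_comp_d k (k + 1) (k + 1 + 1)
  have h2 := congrArg (fun φ => φ.hom y) h
  exact h2

theorem main [Module.FaithfullyFlat R A] (n : ℕ) (hn : 0 < n) :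
    (AlgebraicTopology.AlternatingCofaceMapComplex.obj
      ((Arrow.mk (CommRingCat.ofHom (algebraMap R A))).cechConerve ⋙
        forget₂ CommRingCat RingCat ⋙ forget₂ RingCat AddCommGrpCat)).ExactAt n := by
  obtain ⟨m, rfl⟩ : ∃ m, n = m + 1 := ⟨n - 1, by omega⟩
  show (KK R A).ExactAt (m + 1)
  rw [HomologicalComplex.exactAt_iff' (KK R A) m (m + 1) (m + 1 + 1) (by simp) (by simp),
    ShortComplex.ab_exact_iff]
  intro x hx
  have hex := exact_dL (fun n => CP R A n) (ιA R A) (hext_CP R A) (hdesc_CP R A) (δA R A)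
    (hδ_CP R A) m (dL_comp R A m)
  have hx' : dL (fun n => CP R A n) (δA R A) (m + 1) x = 0 := by
    rw [← KK_d_apply]
    exact hx
  obtain ⟨y, hy⟩ := (hex x).mp hx'
  refine ⟨y, ?_⟩
  rw [← hy, ← KK_d_apply]
  rfl

end Cat

end Groth.Agent.H7.Amitsur
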