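import Mathlib

/-! Amitsur exactness in degree one with module coefficients (S12421). -/

set_option autoImplicit false
open scoped TensorProduct

namespace Groth.Agent.H7.Amitsur3

universe u

variable (R R' : Type u) [CommRing R] [CommRing R'] [Algebra R R']
  (M : Type u) [AddCommGroup M] [Module R M]

/-- `a ⊗ (r ⊗ x) ↦ a r ⊗ x`. -/
noncomputable def mulFirst (X : Type u) [AddCommGroup X] [Module R X] :
    R' ⊗[R] (R' ⊗[R] X) →ₗ[R] R' ⊗[R] X :=
  (LinearMap.mul' R R').rTensor X ∘ₗ (TensorProduct.assoc R R' R' X).symm.toLinearMap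

theorem mulFirst_tmul (X : Type u) [AddCommGroup X] [Module R X] (a r : R') (x : X) :
    mulFirst R R' X (a ⊗ₜ[R] (r ⊗ₜ[R] x)) = (a * r) ⊗ₜ[R] x := by
  simp [mulFirst]

/-- the contraction `R' ⊗ (M ⊗ (R' ⊗ X)) → R' ⊗ (M ⊗ X)`. -/
noncomputable def sC (X : Type u) [AddCommGroup X] [Module R X] :
    R' ⊗[R] (M ⊗[R] (R' ⊗[R] X)) →ₗ[R] R' ⊗[R] (M ⊗[R] X) :=
  (TensorProduct.leftComm R M R' X).toLinearMap ∘ₗ
    (mulFirst R R' X).lTensor M ∘ₗ (TensorProduct.leftComm R R' M (R' ⊗[R] X)).toLinearMap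

theorem sC_tmul (X : Type u) [AddCommGroup X] [Module R X] (a r : R') (m : M) (x : X) :
    sC R R' M X (a ⊗ₜ[R] (m ⊗ₜ[R] (r ⊗ₜ[R] x))) = (a * r) ⊗ₜ[R] (m ⊗ₜ[R] x) := by
  simp [sC, mulFirst_tmul]

/-- first differential. -/
noncomputable def d1 : M ⊗[R] R' →ₗ[R] M ⊗[R] (R' ⊗[R] R') :=
  LinearMap.lTensor M (Algebra.TensorProduct.includeRight : R' →ₐ[R] R' ⊗[R] R').toLinearMap -
    LinearMap.lTensor M (Algebra.TensorProduct.includeLeft : R' →ₐ[R] R' ⊗[R] R').toLinearMap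

/-- second differential. -/
noncomputable def d2 : M ⊗[R] (R' ⊗[R] R') →ₗ[R] M ⊗[R] (R' ⊗[R] (R' ⊗[R] R')) :=
  LinearMap.lTensor M
      (Algebra.TensorProduct.includeRight : R' ⊗[R] R' →ₐ[R] R' ⊗[R] (R' ⊗[R] R')).toLinearMap -
    LinearMap.lTensor M
      (Algebra.TensorProduct.map (AlgHom.id R R')
        (Algebra.TensorProduct.includeRight : R' →ₐ[R] R' ⊗[R] R')).toLinearMap +
    LinearMap.lTensor M
      (Algebra.TensorProduct.map (AlgHom.id R R')
        (Algebra.TensorProduct.includeLeft : R' →ₐ[R] R' ⊗[R] R')).toLinearMap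

theorem d1_tmul (m : M) (r : R') :
    d1 R R' M (m ⊗ₜ[R] r) = m ⊗ₜ[R] ((1 : R') ⊗ₜ[R] r) - m ⊗ₜ[R] (r ⊗ₜ[R] (1 : R')) := by
  simp [d1]

theorem d2_tmul (m : M) (r₁ r₂ : R') :
    d2 R R' M (m ⊗ₜ[R] (r₁ ⊗ₜ[R] r₂)) =
      m ⊗ₜ[R] ((1 : R') ⊗ₜ[R] (r₁ ⊗ₜ[R] r₂)) - m ⊗ₜ[R] (r₁ ⊗ₜ[R] ((1 : R') ⊗ₜ[R] r₂)) +
        m ⊗ₜ[R] (r₁ ⊗ₜ[R] (r₂ ⊗ₜ[R] (1 : R'))) := by
  simp [d2]

theorem d2_comp_d1 : d2 R R' M ∘ₗ d1 R R' M = 0 := by
  apply TensorProduct.ext'
  intro m r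
  rw [LinearMap.comp_apply, d1_tmul, map_sub, d2_tmul, d2_tmul, LinearMap.zero_apply]
  abel

theorem homotopy :
    (d1 R R' M).lTensor R' ∘ₗ sC R R' M R' + sC R R' M (R' ⊗[R] R') ∘ₗ (d2 R R' M).lTensor R' =
      LinearMap.id := by
  apply TensorProduct.ext'
  intro a w
  induction w using TensorProduct.induction_on with
  | zero => simp
  | add x y hx hy => rw [TensorProduct.tmul_add, map_add, map_add, hx, hy]
  | tmul m x =>
    induction x using TensorProduct.induction_on with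
    | zero => simp
    | add x y hx hy => rw [TensorProduct.tmul_add, TensorProduct.tmul_add, map_add, map_add, hx, hy]
    | tmul r₁ r₂ =>
      simp only [LinearMap.add_apply, LinearMap.comp_apply, LinearMap.lTensor_tmul, sC_tmul,
        d1_tmul, d2_tmul, LinearMap.id_apply, TensorProduct.tmul_sub, TensorProduct.tmul_add,
        map_sub, map_add, mul_one]
      abel

theorem exact_lTensor :
    Function.Exact ((d1 R R' M).lTensor R') ((d2 R R' M).lTensor R') := by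
  intro z
  constructor
  · intro hz
    have h := LinearMap.congr_fun (homotopy R R' M) z
    simp only [LinearMap.add_apply, LinearMap.comp_apply, LinearMap.id_apply] at h
    rw [hz, map_zero, add_zero] at h
    exact ⟨_, h⟩
  · rintro ⟨y, rfl⟩
    rw [← LinearMap.comp_apply, ← LinearMap.lTensor_comp, d2_comp_d1, LinearMap.lTensor_zero,
      LinearMap.zero_apply]

theorem main [Module.FaithfullyFlat R R'] : Function.Exact (d1 R R' M) (d2 R R' M) :=
  Module.FaithfullyFlat.lTensor_reflects_exact R R' _ _ (exact_lTensor R R' M)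

end Groth.Agent.H7.Amitsur3
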