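import Mathlib
universe u v w

namespace Groth.Agent.H7.Azu

open TensorProduct

section EndBC
variable (R : Type u) [CommRing R] (S : Type v) [CommRing S] [Algebra R S]
variable (M : Type w) [AddCommGroup M] [Module R M]

/-- the base change map `S ⊗ End_R(M) → End_S(S ⊗ M)`. -/
noncomputable def endBC : S ⊗[R] (Module.End R M) →ₗ[S] Module.End S (S ⊗[R] M) :=
  LinearMap.liftBaseChange S (LinearMap.baseChangeHom R S M M)

@[simp]
theorem endBC_tmul (s : S) (f : Module.End R M) :
    endBC R S M (s ⊗ₜ f) = s • f.baseChange S := by
  simp [endBC]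

theorem endBC_bijective_of_free [Module.Free R M] [Module.Finite R M] :
    Function.Bijective (endBC R S M) := by
  have j : IsBaseChange S (TensorProduct.mk R S M 1) := TensorProduct.isBaseChange R M S
  have h := IsBaseChange.end j
  have hfun : ∀ x : S ⊗[R] (Module.End R M), h.equiv x = endBC R S M x := by
    intro x
    induction x using TensorProduct.induction_on with
    | zero => simp
    | tmul s f =>
      rw [IsBaseChange.equiv_tmul, endBC_tmul]
      congr 1
      apply LinearMap.ext
      intro p
      induction p using TensorProduct.induction_on with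
      | zero => simp
      | tmul t m =>
        have : t ⊗ₜ[R] m = t • (TensorProduct.mk R S M 1 m) := by
          simp [TensorProduct.smul_tmul']
        rw [this, map_smul, map_smul, IsBaseChange.endHom_comp_apply]
        simp
      | add a b ha hb => rw [map_add, map_add, ha, hb]
    | add a b ha hb => rw [map_add, map_add, ha, hb]
  have : (endBC R S M : S ⊗[R] (Module.End R M) → _) = h.equiv := by
    funext x; exact (hfun x).symm
  rw [this]
  exact h.equiv.bijective

/-- conjugation `End M → End F`, `f ↦ i ∘ f ∘ π`. -/
noncomputable def conjHom {F : Type*} [AddCommGroup F] [Module R F]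
    (i : M →ₗ[R] F) (π : F →ₗ[R] M) : Module.End R M →ₗ[R] Module.End R F where
  toFun f := i ∘ₗ f ∘ₗ π
  map_add' f g := by ext; simp
  map_smul' r f := by ext; simp

theorem endBC_conj {F : Type*} [AddCommGroup F] [Module R F]
    (i : M →ₗ[R] F) (π : F →ₗ[R] M) (x : S ⊗[R] (Module.End R M)) :
    endBC R S F ((conjHom R M i π).baseChange S x) =
      (i.baseChange S) ∘ₗ (endBC R S M x) ∘ₗ (π.baseChange S) := by
  induction x using TensorProduct.induction_on with
  | zero => simp
  | tmul s f =>
    rw [LinearMap.baseChange_tmul, endBC_tmul, endBC_tmul]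
    have : conjHom R M i π f = i ∘ₗ f ∘ₗ π := rfl
    rw [this, LinearMap.baseChange_comp, LinearMap.baseChange_comp, LinearMap.smul_comp,
      LinearMap.comp_smul]
  | add a b ha hb =>
    rw [map_add, map_add, map_add, ha, hb, LinearMap.add_comp, LinearMap.comp_add]

theorem endBC_bijective [Module.Finite R M] [Module.Projective R M] :
    Function.Bijective (endBC R S M) := by
  obtain ⟨n, π, hπ⟩ := Module.Finite.exists_fin' R M
  obtain ⟨i, hi⟩ := Module.projective_lifting_property π LinearMap.id hπ
  have hF := endBC_bijective_of_free R S (Fin n → R)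
  have hπi : π.baseChange S ∘ₗ i.baseChange S = LinearMap.id := by
    rw [← LinearMap.baseChange_comp, hi, LinearMap.baseChange_id]
  have hcc : ∀ x : S ⊗[R] (Module.End R M),
      (conjHom R (Fin n → R) π i).baseChange S ((conjHom R M i π).baseChange S x) = x := by
    intro x
    rw [← LinearMap.comp_apply, ← LinearMap.baseChange_comp]
    have : conjHom R (Fin n → R) π i ∘ₗ conjHom R M i π = LinearMap.id := by
      ext f m
      have h1 : ∀ m, π (i m) = m := fun m => LinearMap.congr_fun hi m
      simp [conjHom, h1]
    rw [this, LinearMap.baseChange_id, LinearMap.id_apply]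
  constructor
  · rw [injective_iff_map_eq_zero]
    intro x hx
    have h1 := endBC_conj R S M i π x
    rw [hx, LinearMap.zero_comp, LinearMap.comp_zero] at h1
    have h2 : (conjHom R M i π).baseChange S x = 0 := hF.1 (h1.trans (map_zero _).symm)
    rw [← hcc x, h2, map_zero]
  · intro h
    obtain ⟨y, hy⟩ := hF.2 (i.baseChange S ∘ₗ h ∘ₗ π.baseChange S)
    refine ⟨(conjHom R (Fin n → R) π i).baseChange S y, ?_⟩
    rw [endBC_conj, hy]
    have : π.baseChange S ∘ₗ (i.baseChange S ∘ₗ h ∘ₗ π.baseChange S) ∘ₗ i.baseChange S =
        (π.baseChange S ∘ₗ i.baseChange S) ∘ₗ h ∘ₗ (π.baseChange S ∘ₗ i.baseChange S) := by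
      simp only [LinearMap.comp_assoc]
    rw [this, hπi, LinearMap.id_comp, LinearMap.comp_id]

end EndBC

end Groth.Agent.H7.Azu
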