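import Mathlib
import Groth.Agent.Lib.Helper7.Azu1
universe u v w

namespace Groth.Agent.H7.Azu

open TensorProduct MulOpposite

section BC
variable (R : Type u) [CommRing R] (S : Type v) [CommRing S] [Algebra R S]
variable (A : Type w) [Ring A] [Algebra R A]

/-- `S ⊗ Aᵐᵒᵖ ≃ (S ⊗ A)ᵐᵒᵖ`. -/
noncomputable def opBC : S ⊗[R] Aᵐᵒᵖ ≃ₗ[S] (S ⊗[R] A)ᵐᵒᵖ :=
  ((opLinearEquiv R : A ≃ₗ[R] Aᵐᵒᵖ).symm.baseChange R S Aᵐᵒᵖ A) ≪≫ₗ
    (opLinearEquiv S : (S ⊗[R] A) ≃ₗ[S] (S ⊗[R] A)ᵐᵒᵖ)

@[simp]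
theorem opBC_tmul (s : S) (a : Aᵐᵒᵖ) : opBC R S A (s ⊗ₜ a) = op (s ⊗ₜ[R] a.unop) := by
  simp [opBC]

/-- `S ⊗ (A ⊗ Aᵐᵒᵖ) ≃ (S ⊗ A) ⊗_S (S ⊗ A)ᵐᵒᵖ`. -/
noncomputable def envBC : S ⊗[R] (A ⊗[R] Aᵐᵒᵖ) ≃ₗ[S] (S ⊗[R] A) ⊗[S] (S ⊗[R] A)ᵐᵒᵖ :=
  (TensorProduct.AlgebraTensorModule.distribBaseChange R S A Aᵐᵒᵖ) ≪≫ₗ
    (TensorProduct.AlgebraTensorModule.congr (LinearEquiv.refl S (S ⊗[R] A)) (opBC R S A))

@[simp]
theorem envBC_tmul (s : S) (a : A) (b : Aᵐᵒᵖ) :
    envBC R S A (s ⊗ₜ (a ⊗ₜ b)) = (s ⊗ₜ[R] a) ⊗ₜ[S] op ((1 : S) ⊗ₜ[R] b.unop) := by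
  simp [envBC]

theorem mulLeftRight_envBC (z : S ⊗[R] (A ⊗[R] Aᵐᵒᵖ)) :
    AlgHom.mulLeftRight S (S ⊗[R] A) (envBC R S A z) =
      endBC R S A ((AlgHom.mulLeftRight R A).toLinearMap.baseChange S z) := by
  induction z using TensorProduct.induction_on with
  | zero => simp
  | tmul s w =>
    induction w using TensorProduct.induction_on with
    | zero => simp
    | tmul a b =>
      rw [envBC_tmul, LinearMap.baseChange_tmul, endBC_tmul]
      apply LinearMap.ext
      intro x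
      induction x using TensorProduct.induction_on with
      | zero => simp
      | tmul t y =>
        simp only [AlgHom.mulLeftRight_apply, unop_op, Algebra.TensorProduct.tmul_mul_tmul,
          mul_one, LinearMap.smul_apply, LinearMap.baseChange_tmul, AlgHom.toLinearMap_apply,
          TensorProduct.smul_tmul', smul_eq_mul]
      | add x y hx hy => rw [map_add, map_add, hx, hy]
    | add x y hx hy =>
      rw [TensorProduct.tmul_add, map_add, map_add, map_add, map_add, hx, hy]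
  | add x y hx hy => rw [map_add, map_add, map_add, map_add, hx, hy]

/-- base change of the bijectivity. -/
theorem mulLeftRight_bijective_baseChange [Module.Finite R A] [Module.Projective R A]
    (h : Function.Bijective (AlgHom.mulLeftRight R A)) :
    Function.Bijective (AlgHom.mulLeftRight S (S ⊗[R] A)) := by
  have h1 : Function.Bijective ((AlgHom.mulLeftRight R A).toLinearMap.baseChange S) := by
    exact ((LinearEquiv.ofBijective (AlgHom.mulLeftRight R A).toLinearMap h).baseChange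
      R S _ _).bijective
  have h2 := endBC_bijective R S A
  have hfun : (AlgHom.mulLeftRight S (S ⊗[R] A) : _ → _) =
      (endBC R S A) ∘ ((AlgHom.mulLeftRight R A).toLinearMap.baseChange S) ∘ (envBC R S A).symm := by
    funext w
    simp only [Function.comp_apply]
    rw [← mulLeftRight_envBC, LinearEquiv.apply_symm_apply]
  rw [hfun]
  exact h2.comp (h1.comp (envBC R S A).symm.bijective)

/-- converse: from the base change to `μ ⊗ S`. -/
theorem baseChange_mulLeftRight_bijective [Module.Finite R A] [Module.Projective R A]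
    (h : Function.Bijective (AlgHom.mulLeftRight S (S ⊗[R] A))) :
    Function.Bijective ((AlgHom.mulLeftRight R A).toLinearMap.baseChange S) := by
  have h2 := endBC_bijective R S A
  have hcomp : (endBC R S A) ∘ ((AlgHom.mulLeftRight R A).toLinearMap.baseChange S) =
      (AlgHom.mulLeftRight S (S ⊗[R] A)) ∘ (envBC R S A) := by
    funext z
    simp only [Function.comp_apply]
    rw [mulLeftRight_envBC]
  have h3 : Function.Bijective ((endBC R S A) ∘
      ((AlgHom.mulLeftRight R A).toLinearMap.baseChange S)) := by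
    rw [hcomp]; exact h.comp (envBC R S A).bijective
  constructor
  · exact Function.Injective.of_comp h3.1
  · intro y
    obtain ⟨z, hz⟩ := h3.2 (endBC R S A y)
    exact ⟨z, h2.1 hz⟩

end BC

end Groth.Agent.H7.Azu
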