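import Mathlib
import Groth.Agent.Lib.Helper7.Azu2
universe u v w

namespace Groth.Agent.H7.Azu

open TensorProduct MulOpposite

section Faithful
variable (R : Type u) [CommRing R] (S : Type v) [CommRing S] [Algebra R S]
variable (M : Type w) [AddCommGroup M] [Module R M]

/-- the trace ideal of a finitely generated projective faithful module is everything. -/
theorem one_mem_trace [Module.Finite R M] [Module.Projective R M] [FaithfulSMul R M] :
    (1 : R) ∈ Ideal.span {r : R | ∃ (f : M →ₗ[R] R) (m : M), f m = r} := by
  set T : Ideal R := Ideal.span {r : R | ∃ (f : M →ₗ[R] R) (m : M), f m = r} with hT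
  obtain ⟨n, π, hπ⟩ := Module.Finite.exists_fin' R M
  obtain ⟨i, hi⟩ := Module.projective_lifting_property π LinearMap.id hπ
  have h1 : (⊤ : Submodule R M) ≤ T • (⊤ : Submodule R M) := by
    intro m _
    have hm : m = π (i m) := (LinearMap.congr_fun hi m).symm
    have hsum : i m = ∑ k, (i m k) • (Pi.single k (1 : R) : Fin n → R) := by
      funext j
      simp [Finset.sum_apply, Pi.single_apply]
    rw [hm, hsum, map_sum]
    refine Submodule.sum_mem _ fun k _ => ?_
    rw [map_smul]
    refine Submodule.smul_mem_smul ?_ trivial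
    exact Ideal.subset_span ⟨(LinearMap.proj k) ∘ₗ i, m, rfl⟩
  obtain ⟨r, hr1, hr2⟩ := Submodule.exists_sub_one_mem_and_smul_eq_zero_of_fg_of_le_smul T
    (⊤ : Submodule R M) Module.Finite.fg_top h1
  have hr0 : r = 0 := by
    apply FaithfulSMul.eq_of_smul_eq_smul (α := M)
    intro m
    rw [hr2 m trivial, zero_smul]
  rw [hr0, zero_sub] at hr1
  have := T.neg_mem hr1
  rwa [neg_neg] at this

theorem faithfulSMul_baseChange [Module.Finite R M] [Module.Projective R M] [FaithfulSMul R M] :
    FaithfulSMul S (S ⊗[R] M) := by
  constructor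
  intro s₁ s₂ hs
  have claim : ∀ r ∈ Ideal.span {r : R | ∃ (f : M →ₗ[R] R) (m : M), f m = r},
      s₁ * algebraMap R S r = s₂ * algebraMap R S r := by
    intro r hr
    induction hr using Submodule.span_induction with
    | mem r hr =>
      obtain ⟨f, m, rfl⟩ := hr
      have h1 : f.baseChange S (s₁ • ((1 : S) ⊗ₜ[R] m)) = f.baseChange S (s₂ • ((1 : S) ⊗ₜ[R] m)) := by
        rw [hs]
      rw [TensorProduct.smul_tmul', TensorProduct.smul_tmul', smul_eq_mul, smul_eq_mul, mul_one,
        mul_one, LinearMap.baseChange_tmul, LinearMap.baseChange_tmul] at h1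
      have h2 := congrArg (TensorProduct.rid R S) h1
      rw [TensorProduct.rid_tmul, TensorProduct.rid_tmul, Algebra.smul_def, Algebra.smul_def,
        mul_comm, mul_comm (algebraMap R S (f m))] at h2
      exact h2
    | zero => rw [map_zero, mul_zero, mul_zero]
    | add x y _ _ hx hy => rw [map_add, mul_add, mul_add, hx, hy]
    | smul c x _ hx =>
      rw [smul_eq_mul, map_mul, mul_left_comm, hx, mul_left_comm]
  have := claim 1 (one_mem_trace R M)
  rwa [map_one, mul_one, mul_one] at this

end Faithful

section Main
variable (R : Type u) [CommRing R] (S : Type v) [CommRing S] [Algebra R S]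
variable (A : Type w) [Ring A] [Algebra R A]

/-- S19588: base change of Azumaya algebras. -/
theorem isAzumaya_baseChange [IsAzumaya R A] : IsAzumaya S (S ⊗[R] A) :=
  { toProjective := inferInstance
    toFaithfulSMul := faithfulSMul_baseChange R S A
    toFinite := inferInstance
    bij := mulLeftRight_bijective_baseChange R S A IsAzumaya.bij }

end Main

end Groth.Agent.H7.Azu
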