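import Mathlib
import Groth.Prelude.Def_EtMil
import Groth.Agent.Lib.Helper7.Azu3
import Groth.Agent.Lib.Helper7.Milnor5
universe u v w

namespace Groth.Agent.H7.Azu

open TensorProduct MulOpposite

section EndProj
variable (R : Type u) [CommRing R] (M : Type w) [AddCommGroup M] [Module R M]

theorem end_projective [Module.Finite R M] [Module.Projective R M] :
    Module.Projective R (Module.End R M) := by
  obtain ⟨n, π, hπ⟩ := Module.Finite.exists_fin' R M
  obtain ⟨i, hi⟩ := Module.projective_lifting_property π LinearMap.id hπ
  refine Module.Projective.of_split (M := Module.End R (Fin n → R)) (conjHom R M i π)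
    (conjHom R (Fin n → R) π i) ?_
  ext f m
  have h1 : ∀ m, π (i m) = m := fun m => LinearMap.congr_fun hi m
  simp [conjHom, h1]

end EndProj

section Pair
open Groth.Agent.H7.Milnor
variable {B' B A' A : Type u} [CommRing B'] [CommRing B] [CommRing A'] [CommRing A]
  [Algebra B' B] [Algebra B' A'] [Algebra B A] [Algebra A' A] [Algebra B' A]
  [IsScalarTower B' B A] [IsScalarTower B' A' A]

/-- a linear map into a projective module which is bijective after both base changes of a Milnor
square is bijective. -/
theorem bijective_of_baseChange_pair (hsq : EtMil.IsFibreSquare B' B A' A)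
    {P Q : Type u} [AddCommGroup P] [Module B' P] [AddCommGroup Q] [Module B' Q]
    [Module.Projective B' Q] (f : P →ₗ[B'] Q)
    (h1 : Function.Bijective (f.baseChange B)) (h2 : Function.Bijective (f.baseChange A')) :
    Function.Bijective f := by
  -- surjectivity
  have hsurj : Function.Surjective f := by
    have hC : ∀ (R : Type u) [CommRing R] [Algebra B' R],
        Function.Surjective (f.baseChange R) →
        Subsingleton (R ⊗[B'] (Q ⧸ LinearMap.range f)) := by
      intro R _ _ hs
      have hex : Function.Exact f (LinearMap.range f).mkQ := by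
        intro q
        rw [Submodule.mkQ_apply, Submodule.Quotient.mk_eq_zero]
        rfl
      have hex' := lTensor_exact R hex (Submodule.mkQ_surjective _)
      have hsq' := LinearMap.lTensor_surjective R (Submodule.mkQ_surjective (LinearMap.range f))
      refine ⟨fun a b => ?_⟩
      have hz : ∀ z : R ⊗[B'] (Q ⧸ LinearMap.range f), z = 0 := by
        intro z
        obtain ⟨w, rfl⟩ := hsq' z
        obtain ⟨x, rfl⟩ := hs w
        exact (hex' _).mpr ⟨x, rfl⟩
      rw [hz a, hz b]
    have := hC B h1.2
    have := hC A' h2.2
    have h3 : Subsingleton (Q ⧸ LinearMap.range f) := S14949 hsq _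
    rw [Submodule.Quotient.subsingleton_iff] at h3
    exact LinearMap.range_eq_top.mp h3
  refine ⟨?_, hsurj⟩
  -- injectivity
  obtain ⟨g, hg⟩ := Module.projective_lifting_property f LinearMap.id hsurj
  set e : P →ₗ[B'] P := LinearMap.id - g ∘ₗ f with he
  have hfe : f ∘ₗ e = 0 := by
    rw [he, LinearMap.comp_sub, LinearMap.comp_id, ← LinearMap.comp_assoc, hg, LinearMap.id_comp,
      sub_self]
  have hebc : ∀ (R : Type u) [CommRing R] [Algebra B' R],
      Function.Injective (f.baseChange R) → e.baseChange R = 0 := by
    intro R _ _ hi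
    apply LinearMap.ext
    intro x
    apply hi
    rw [← LinearMap.comp_apply, ← LinearMap.baseChange_comp, hfe, LinearMap.baseChange_zero]
    simp
  -- K = ker f
  set ι := (LinearMap.ker f).subtype with hι
  have heK : ∀ p : P, e p ∈ LinearMap.ker f := by
    intro p
    rw [LinearMap.mem_ker, ← LinearMap.comp_apply, hfe, LinearMap.zero_apply]
  set ρ : P →ₗ[B'] LinearMap.ker f := e.codRestrict _ heK with hρ
  have hρι : ρ ∘ₗ ι = LinearMap.id := by
    ext k
    simp only [hρ, hι, he, LinearMap.comp_apply, LinearMap.codRestrict_apply,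
      Submodule.subtype_apply, LinearMap.sub_apply, LinearMap.id_apply]
    have : f k.1 = 0 := k.2
    rw [this, map_zero, sub_zero]
  have hιρ : ι ∘ₗ ρ = e := by
    ext p
    simp [hρ, hι]
  have hK : ∀ (R : Type u) [CommRing R] [Algebra B' R],
      Function.Injective (f.baseChange R) → Subsingleton (R ⊗[B'] (LinearMap.ker f)) := by
    intro R _ _ hi
    have h0 : (LinearMap.id : R ⊗[B'] (LinearMap.ker f) →ₗ[R] _) = 0 := by
      have e1 : (ρ ∘ₗ ι).baseChange R = LinearMap.id := by
        rw [hρι, LinearMap.baseChange_id]
      have hh : ρ ∘ₗ (ι ∘ₗ ρ) ∘ₗ ι = ρ ∘ₗ ι := by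
        rw [LinearMap.comp_assoc, hρι, LinearMap.comp_id]
        exact hρι
      have e2 : (ρ ∘ₗ ι).baseChange R = ρ.baseChange R ∘ₗ (ι ∘ₗ ρ).baseChange R ∘ₗ ι.baseChange R := by
        rw [← LinearMap.baseChange_comp, ← LinearMap.baseChange_comp, hh]
      rw [← e1, e2, hιρ, hebc R hi, LinearMap.zero_comp, LinearMap.comp_zero]
    refine ⟨fun a b => ?_⟩
    have ha : a = 0 := by
      have := LinearMap.congr_fun h0 a
      simpa using this
    have hb : b = 0 := by
      have := LinearMap.congr_fun h0 b
      simpa using this
    rw [ha, hb]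
  have := hK B h1.1
  have := hK A' h2.1
  have h4 : Subsingleton (LinearMap.ker f) := S14949 hsq _
  rw [injective_iff_map_eq_zero]
  intro p hp
  have : (⟨p, hp⟩ : LinearMap.ker f) = 0 := Subsingleton.elim _ _
  exact congrArg Subtype.val this

theorem faithfulSMul_of_pair (hsq : EtMil.IsFibreSquare B' B A' A)
    (D' : Type u) [AddCommGroup D'] [Module B' D']
    [FaithfulSMul B (B ⊗[B'] D')] [FaithfulSMul A' (A' ⊗[B'] D')] : FaithfulSMul B' D' := by
  constructor
  intro b₁ b₂ h
  have key : ∀ (R : Type u) [CommRing R] [Algebra B' R] (x : R ⊗[B'] D'),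
      algebraMap B' R b₁ • x = algebraMap B' R b₂ • x := by
    intro R _ _ x
    induction x using TensorProduct.induction_on with
    | zero => rw [smul_zero, smul_zero]
    | tmul r d =>
      rw [TensorProduct.smul_tmul', TensorProduct.smul_tmul', smul_eq_mul, smul_eq_mul,
        ← Algebra.smul_def, ← Algebra.smul_def, TensorProduct.smul_tmul, TensorProduct.smul_tmul,
        h d]
    | add x y hx hy => rw [smul_add, smul_add, hx, hy]
  apply eq_of_eq hsq
  · exact FaithfulSMul.eq_of_smul_eq_smul (α := B ⊗[B'] D') (key B)
  · exact FaithfulSMul.eq_of_smul_eq_smul (α := A' ⊗[B'] D') (key A')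

theorem S14956 (hsq : EtMil.IsFibreSquare B' B A' A) (D' : Type u) [Ring D'] [Algebra B' D'] :
    IsAzumaya B' D' ↔ IsAzumaya B (B ⊗[B'] D') ∧ IsAzumaya A' (A' ⊗[B'] D') := by
  constructor
  · intro h
    exact ⟨isAzumaya_baseChange B' B D', isAzumaya_baseChange B' A' D'⟩
  · rintro ⟨hB, hA'⟩
    have : Module.Finite B' D' := S14953 hsq D'
    have : Module.FinitePresentation B (B ⊗[B'] D') := Module.finitePresentation_of_projective _ _
    have : Module.FinitePresentation A' (A' ⊗[B'] D') :=
      Module.finitePresentation_of_projective _ _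
    have : Module.Flat B' D' := S14952 hsq D'
    have : Module.FinitePresentation B' D' := S14954 hsq D'
    have hproj : Module.Projective B' D' := Module.Flat.projective_of_finitePresentation
    have hfaith : FaithfulSMul B' D' := faithfulSMul_of_pair hsq D'
    have : Module.Projective B' (Module.End B' D') := end_projective B' D'
    refine { toProjective := hproj, toFaithfulSMul := hfaith, toFinite := inferInstance, bij := ?_ }
    apply bijective_of_baseChange_pair hsq (AlgHom.mulLeftRight B' D').toLinearMap
    · exact baseChange_mulLeftRight_bijective B' B D' IsAzumaya.bij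
    · exact baseChange_mulLeftRight_bijective B' A' D' IsAzumaya.bij

end Pair

end Groth.Agent.H7.Azu
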