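import Mathlib
import Groth.Agent.Lib.Helper7.Azu4
universe u v w

namespace Groth.Agent.H7.Azu

open TensorProduct MulOpposite

section SpecSurj
variable (R : Type u) [CommRing R] (S : Type v) [CommRing S] [Algebra R S]

/-- a finitely generated module killed by a base change with surjective `Spec` is zero. -/
theorem subsingleton_of_subsingleton_baseChange
    (hS : Function.Surjective (PrimeSpectrum.comap (algebraMap R S)))
    (C : Type w) [AddCommGroup C] [Module R C] [Module.Finite R C]
    [Subsingleton (S ⊗[R] C)] : Subsingleton C := by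
  by_contra hC
  rw [not_subsingleton_iff_nontrivial] at hC
  obtain ⟨N, hN⟩ : ∃ N : Submodule R C, IsCoatom N := by
    rcases eq_top_or_exists_le_coatom (⊥ : Submodule R C) with h | ⟨N, hN, -⟩
    · exact absurd h bot_ne_top
    · exact ⟨N, hN⟩
  have hsimple : IsSimpleModule R (C ⧸ N) := isSimpleModule_iff_isCoatom.mpr hN
  obtain ⟨m, hm, ⟨e⟩⟩ := isSimpleModule_iff_quot_maximal.mp hsimple
  set ℓ : C →ₗ[R] R ⧸ m := e.toLinearMap ∘ₗ N.mkQ with hℓ
  have hℓs : Function.Surjective ℓ := e.surjective.comp (Submodule.mkQ_surjective N)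
  have hsub : Subsingleton (S ⊗[R] (R ⧸ m)) := by
    have hs := LinearMap.lTensor_surjective S hℓs
    refine ⟨fun a b => ?_⟩
    obtain ⟨a', rfl⟩ := hs a
    obtain ⟨b', rfl⟩ := hs b
    rw [Subsingleton.elim a' b']
  obtain ⟨q, hq⟩ := hS ⟨m, hm.isPrime⟩
  have hmq : ∀ r ∈ m, algebraMap R S r ∈ q.asIdeal := by
    intro r hr
    have : r ∈ (PrimeSpectrum.comap (algebraMap R S) q).asIdeal := by rw [hq]; exact hr
    exact this
  set g : R ⧸ m →ₐ[R] S ⧸ q.asIdeal :=
    Ideal.Quotient.liftₐ m (Algebra.ofId R (S ⧸ q.asIdeal)) (by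
      intro r hr
      rw [Algebra.ofId_apply, IsScalarTower.algebraMap_apply R S (S ⧸ q.asIdeal),
        Ideal.Quotient.algebraMap_eq, Ideal.Quotient.eq_zero_iff_mem]
      exact hmq r hr) with hg
  set F : S ⊗[R] (R ⧸ m) →ₐ[S] S ⧸ q.asIdeal :=
    Algebra.TensorProduct.lift (Algebra.ofId S (S ⧸ q.asIdeal)) g (fun _ _ => Commute.all _ _)
    with hF
  have h10 : (1 : S ⧸ q.asIdeal) = 0 := by
    have : (1 : S ⊗[R] (R ⧸ m)) = 0 := Subsingleton.elim _ _
    rw [← map_one F, this, map_zero]
  have : Nontrivial (S ⧸ q.asIdeal) := Ideal.Quotient.nontrivial_iff.mpr q.isPrime.ne_top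
  exact one_ne_zero h10

end SpecSurj

section Split
variable {R : Type u} [CommRing R] (S : Type v) [CommRing S] [Algebra R S]
variable {P Q : Type*} [AddCommGroup P] [Module R P] [AddCommGroup Q] [Module R Q]

theorem subsingleton_baseChange_coker (f : P →ₗ[R] Q)
    (hs : Function.Surjective (f.baseChange S)) :
    Subsingleton (S ⊗[R] (Q ⧸ LinearMap.range f)) := by
  have hex : Function.Exact f (LinearMap.range f).mkQ := by
    intro q
    rw [Submodule.mkQ_apply, Submodule.Quotient.mk_eq_zero]
    rfl
  have hex' := lTensor_exact S hex (Submodule.mkQ_surjective _)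
  have hsq' := LinearMap.lTensor_surjective S (Submodule.mkQ_surjective (LinearMap.range f))
  refine ⟨fun a b => ?_⟩
  have hz : ∀ z : S ⊗[R] (Q ⧸ LinearMap.range f), z = 0 := by
    intro z
    obtain ⟨w, rfl⟩ := hsq' z
    obtain ⟨x, rfl⟩ := hs w
    exact (hex' _).mpr ⟨x, rfl⟩
  rw [hz a, hz b]

theorem subsingleton_baseChange_ker_of_split (f : P →ₗ[R] Q) (g : Q →ₗ[R] P)
    (hg : f ∘ₗ g = LinearMap.id) (hi : Function.Injective (f.baseChange S)) :
    Subsingleton (S ⊗[R] (LinearMap.ker f)) := by
  set e : P →ₗ[R] P := LinearMap.id - g ∘ₗ f with he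
  have hfe : f ∘ₗ e = 0 := by
    rw [he, LinearMap.comp_sub, LinearMap.comp_id, ← LinearMap.comp_assoc, hg, LinearMap.id_comp,
      sub_self]
  have hebc : e.baseChange S = 0 := by
    apply LinearMap.ext
    intro x
    apply hi
    rw [← LinearMap.comp_apply, ← LinearMap.baseChange_comp, hfe, LinearMap.baseChange_zero]
    simp
  set ι := (LinearMap.ker f).subtype with hι
  have heK : ∀ p : P, e p ∈ LinearMap.ker f := by
    intro p
    rw [LinearMap.mem_ker, ← LinearMap.comp_apply, hfe, LinearMap.zero_apply]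
  set ρ : P →ₗ[R] LinearMap.ker f := e.codRestrict _ heK with hρ
  have hρι : ρ ∘ₗ ι = LinearMap.id := by
    ext k
    simp only [hρ, hι, he, LinearMap.comp_apply, LinearMap.codRestrict_apply,
      Submodule.subtype_apply, LinearMap.sub_apply, LinearMap.id_apply]
    have : f k.1 = 0 := k.2
    rw [this, map_zero, sub_zero]
  have hιρ : ι ∘ₗ ρ = e := by
    ext p
    simp [hρ, hι]
  have h0 : (LinearMap.id : S ⊗[R] (LinearMap.ker f) →ₗ[S] _) = 0 := by
    have e1 : (ρ ∘ₗ ι).baseChange S = LinearMap.id := by
      rw [hρι, LinearMap.baseChange_id]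
    have hh : ρ ∘ₗ (ι ∘ₗ ρ) ∘ₗ ι = ρ ∘ₗ ι := by
      rw [LinearMap.comp_assoc, hρι, LinearMap.comp_id]
      exact hρι
    have e2 : (ρ ∘ₗ ι).baseChange S =
        ρ.baseChange S ∘ₗ (ι ∘ₗ ρ).baseChange S ∘ₗ ι.baseChange S := by
      rw [← LinearMap.baseChange_comp, ← LinearMap.baseChange_comp, hh]
    rw [← e1, e2, hιρ, hebc, LinearMap.zero_comp, LinearMap.comp_zero]
  refine ⟨fun a b => ?_⟩
  have ha : a = 0 := by
    have := LinearMap.congr_fun h0 a
    simpa using this
  have hb : b = 0 := by
    have := LinearMap.congr_fun h0 b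
    simpa using this
  rw [ha, hb]

theorem finite_ker_of_split [Module.Finite R P] (f : P →ₗ[R] Q) (g : Q →ₗ[R] P)
    (hg : f ∘ₗ g = LinearMap.id) : Module.Finite R (LinearMap.ker f) := by
  set e : P →ₗ[R] P := LinearMap.id - g ∘ₗ f with he
  have hfe : f ∘ₗ e = 0 := by
    rw [he, LinearMap.comp_sub, LinearMap.comp_id, ← LinearMap.comp_assoc, hg, LinearMap.id_comp,
      sub_self]
  have heK : ∀ p : P, e p ∈ LinearMap.ker f := by
    intro p
    rw [LinearMap.mem_ker, ← LinearMap.comp_apply, hfe, LinearMap.zero_apply]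
  set ρ : P →ₗ[R] LinearMap.ker f := e.codRestrict _ heK with hρ
  have hρs : Function.Surjective ρ := by
    intro k
    refine ⟨k.1, ?_⟩
    apply Subtype.ext
    simp only [hρ, he, LinearMap.codRestrict_apply, LinearMap.sub_apply, LinearMap.id_apply,
      LinearMap.comp_apply]
    have : f k.1 = 0 := k.2
    rw [this, map_zero, sub_zero]
  exact Module.Finite.of_surjective ρ hρs

end Split

section Descent
variable (R : Type u) [CommRing R] (S : Type v) [CommRing S] [Algebra R S]

theorem faithfulSMul_of_baseChange_specSurj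
    (hS : Function.Surjective (PrimeSpectrum.comap (algebraMap R S)))
    (M : Type w) [AddCommGroup M] [Module R M] [Module.Finite R M] [Module.Projective R M]
    [FaithfulSMul S (S ⊗[R] M)] : FaithfulSMul R M := by
  set T : Ideal R := Ideal.span {r : R | ∃ (f : M →ₗ[R] R) (m : M), f m = r} with hT
  obtain ⟨n, π, hπ⟩ := Module.Finite.exists_fin' R M
  obtain ⟨i, hi⟩ := Module.projective_lifting_property π LinearMap.id hπ
  -- the trace ideal of the base change lies in the extension of the trace ideal
  have h1 : ∀ (g : S ⊗[R] M →ₗ[S] S) (m : M),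
      g ((1 : S) ⊗ₜ[R] m) ∈ T.map (algebraMap R S) := by
    intro g m
    have hm : m = π (i m) := (LinearMap.congr_fun hi m).symm
    have hsum : i m = ∑ k, (i m k) • (Pi.single k (1 : R) : Fin n → R) := by
      funext j
      simp [Finset.sum_apply, Pi.single_apply]
    rw [hm, hsum, map_sum, TensorProduct.tmul_sum, map_sum]
    refine Ideal.sum_mem _ fun k _ => ?_
    rw [map_smul, TensorProduct.tmul_smul, ← algebraMap_smul S (i m k), map_smul, smul_eq_mul]
    refine Ideal.mul_mem_right _ _ ?_
    refine Ideal.mem_map_of_mem _ ?_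
    exact Ideal.subset_span ⟨(LinearMap.proj k) ∘ₗ i, m, rfl⟩
  have h2 : ∀ (g : S ⊗[R] M →ₗ[S] S) (y : S ⊗[R] M), g y ∈ T.map (algebraMap R S) := by
    intro g y
    induction y using TensorProduct.induction_on with
    | zero => rw [map_zero]; exact Ideal.zero_mem _
    | tmul s m =>
      have : s ⊗ₜ[R] m = s • ((1 : S) ⊗ₜ[R] m) := by
        rw [TensorProduct.smul_tmul', smul_eq_mul, mul_one]
      rw [this, map_smul, smul_eq_mul]
      exact Ideal.mul_mem_left _ _ (h1 g m)
    | add x y hx hy => rw [map_add]; exact Ideal.add_mem _ hx hy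
  have h3 : (1 : S) ∈ T.map (algebraMap R S) := by
    have h := one_mem_trace S (S ⊗[R] M)
    have hle : Ideal.span {r : S | ∃ (f : S ⊗[R] M →ₗ[S] S) (m : S ⊗[R] M), f m = r} ≤
        T.map (algebraMap R S) := by
      rw [Ideal.span_le]
      rintro _ ⟨g, y, rfl⟩
      exact h2 g y
    exact hle h
  have hTtop : T = ⊤ := by
    by_contra hne
    obtain ⟨m, hm, hTm⟩ := Ideal.exists_le_maximal T hne
    obtain ⟨q, hq⟩ := hS ⟨m, hm.isPrime⟩
    have hle : T.map (algebraMap R S) ≤ q.asIdeal := by
      rw [Ideal.map_le_iff_le_comap]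
      intro t ht
      have : t ∈ (PrimeSpectrum.comap (algebraMap R S) q).asIdeal := by rw [hq]; exact hTm ht
      exact this
    exact q.isPrime.ne_top ((Ideal.eq_top_iff_one _).mpr (hle h3))
  constructor
  intro r₁ r₂ hr
  have claim : ∀ t ∈ T, r₁ * t = r₂ * t := by
    intro t ht
    induction ht using Submodule.span_induction with
    | mem t ht =>
      obtain ⟨f, m, rfl⟩ := ht
      rw [← smul_eq_mul, ← smul_eq_mul, ← map_smul, ← map_smul, hr]
    | zero => rw [mul_zero, mul_zero]
    | add x y _ _ hx hy => rw [mul_add, mul_add, hx, hy]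
    | smul c x _ hx => rw [smul_eq_mul, mul_left_comm, hx, mul_left_comm]
  have := claim 1 (by rw [hTtop]; trivial)
  rwa [mul_one, mul_one] at this

theorem end_finite (M : Type w) [AddCommGroup M] [Module R M] [Module.Finite R M]
    [Module.Projective R M] : Module.Finite R (Module.End R M) := by
  obtain ⟨n, π, hπ⟩ := Module.Finite.exists_fin' R M
  obtain ⟨i, hi⟩ := Module.projective_lifting_property π LinearMap.id hπ
  have h1 : ∀ m, π (i m) = m := fun m => LinearMap.congr_fun hi m
  refine Module.Finite.of_surjective (conjHom R (Fin n → R) π i) ?_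
  intro f
  refine ⟨conjHom R M i π f, ?_⟩
  ext m
  simp [conjHom, h1]

theorem bijective_of_baseChange_specSurj
    (hS : Function.Surjective (PrimeSpectrum.comap (algebraMap R S)))
    {P Q : Type*} [AddCommGroup P] [Module R P] [AddCommGroup Q] [Module R Q]
    [Module.Finite R P] [Module.Finite R Q] [Module.Projective R Q] (f : P →ₗ[R] Q)
    (h : Function.Bijective (f.baseChange S)) : Function.Bijective f := by
  have hsurj : Function.Surjective f := by
    have := subsingleton_baseChange_coker S f h.2
    have h3 : Subsingleton (Q ⧸ LinearMap.range f) :=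
      subsingleton_of_subsingleton_baseChange R S hS _
    rw [Submodule.Quotient.subsingleton_iff] at h3
    exact LinearMap.range_eq_top.mp h3
  refine ⟨?_, hsurj⟩
  obtain ⟨g, hg⟩ := Module.projective_lifting_property f LinearMap.id hsurj
  have := subsingleton_baseChange_ker_of_split S f g hg h.1
  have := finite_ker_of_split f g hg
  have h3 : Subsingleton (LinearMap.ker f) := subsingleton_of_subsingleton_baseChange R S hS _
  rw [← LinearMap.ker_eq_bot]
  exact Submodule.subsingleton_iff_eq_bot.mp h3

/-- S14963 -/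
theorem isAzumaya_of_baseChange_specSurj
    (hS : Function.Surjective (PrimeSpectrum.comap (algebraMap R S)))
    (B : Type w) [Ring B] [Algebra R B] [Module.Finite R B] [Module.Projective R B]
    [IsAzumaya S (S ⊗[R] B)] : IsAzumaya R B := by
  have hbc : Function.Bijective ((AlgHom.mulLeftRight R B).toLinearMap.baseChange S) :=
    baseChange_mulLeftRight_bijective R S B IsAzumaya.bij
  have hp : Module.Projective R (Module.End R B) := end_projective R B
  have hfin : Module.Finite R (Module.End R B) := end_finite R B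
  have hfin2 : Module.Finite R (B ⊗[R] Bᵐᵒᵖ) := inferInstance
  have hb := bijective_of_baseChange_specSurj R S hS (AlgHom.mulLeftRight R B).toLinearMap hbc
  exact
    { toProjective := inferInstance
      toFaithfulSMul := faithfulSMul_of_baseChange_specSurj R S hS B
      toFinite := inferInstance
      bij := hb }

end Descent

end Groth.Agent.H7.Azu
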