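import Mathlib
import Groth.Agent.Lib.Helper7.Azu7
universe u v w

namespace Groth.Agent.H7.Azu

open TensorProduct MulOpposite

section LocGlob
variable (R : Type u) [CommRing R]

theorem subsingleton_of_baseChange_localization_maximal (C : Type w) [AddCommGroup C] [Module R C]
    (h : ∀ (m : Ideal R) [m.IsMaximal], Subsingleton (Localization.AtPrime m ⊗[R] C)) :
    Subsingleton C :=
  Module.subsingleton_of_localization_maximal (fun m _ => Localization.AtPrime m ⊗[R] C)
    (fun m _ => TensorProduct.mk R (Localization.AtPrime m) C 1) h

theorem bijective_of_baseChange_localization_maximal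
    {P Q : Type*} [AddCommGroup P] [Module R P] [AddCommGroup Q] [Module R Q]
    [Module.Projective R Q] (f : P →ₗ[R] Q)
    (h : ∀ (m : Ideal R) [m.IsMaximal],
      Function.Bijective (f.baseChange (Localization.AtPrime m))) : Function.Bijective f := by
  have hsurj : Function.Surjective f := by
    have h3 : Subsingleton (Q ⧸ LinearMap.range f) :=
      subsingleton_of_baseChange_localization_maximal R _ fun m _ =>
        subsingleton_baseChange_coker (Localization.AtPrime m) f (h m).2
    rw [Submodule.Quotient.subsingleton_iff] at h3
    exact LinearMap.range_eq_top.mp h3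
  refine ⟨?_, hsurj⟩
  obtain ⟨g, hg⟩ := Module.projective_lifting_property f LinearMap.id hsurj
  have h3 : Subsingleton (LinearMap.ker f) :=
    subsingleton_of_baseChange_localization_maximal R _ fun m _ =>
      subsingleton_baseChange_ker_of_split (Localization.AtPrime m) f g hg (h m).1
  rw [← LinearMap.ker_eq_bot]
  exact Submodule.subsingleton_iff_eq_bot.mp h3

/-- local criterion for Azumaya algebras. -/
theorem isAzumaya_of_localization_maximal
    (A : Type w) [Ring A] [Algebra R A] [Module.Finite R A] [Module.Projective R A]
    (h : ∀ (m : Ideal R) [m.IsMaximal],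
      IsAzumaya (Localization.AtPrime m) (Localization.AtPrime m ⊗[R] A)) : IsAzumaya R A := by
  have hp : Module.Projective R (Module.End R A) := end_projective R A
  have hb := bijective_of_baseChange_localization_maximal R (AlgHom.mulLeftRight R A).toLinearMap
    fun m _ => baseChange_mulLeftRight_bijective R (Localization.AtPrime m) A (h m).bij
  have hfaith : FaithfulSMul R A := by
    constructor
    intro r₁ r₂ hr
    rw [← sub_eq_zero]
    apply eq_zero_of_localization
    intro m hm
    have := (h m).toFaithfulSMul
    have h0 : algebraMap R (Localization.AtPrime m) (r₁ - r₂) = 0 := by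
      apply FaithfulSMul.eq_of_smul_eq_smul (α := Localization.AtPrime m ⊗[R] A)
      intro y
      rw [zero_smul]
      induction y using TensorProduct.induction_on with
      | zero => rw [smul_zero]
      | tmul s a =>
        rw [algebraMap_smul, ← TensorProduct.tmul_smul, sub_smul, hr, sub_self,
          TensorProduct.tmul_zero]
      | add x y hx hy => rw [smul_add, hx, hy, add_zero]
    exact h0
  exact
    { toProjective := inferInstance
      toFaithfulSMul := hfaith
      toFinite := inferInstance
      bij := hb }

end LocGlob

section EndAlg
variable (R : Type u) [CommRing R] (S : Type v) [CommRing S] [Algebra R S]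
variable (M : Type w) [AddCommGroup M] [Module R M]

theorem endBC_one : endBC R S M 1 = 1 := by
  rw [Algebra.TensorProduct.one_def, endBC_tmul, one_smul, Module.End.one_eq_id,
    LinearMap.baseChange_id]
  rfl

theorem endBC_mul (x y : S ⊗[R] (Module.End R M)) :
    endBC R S M (x * y) = endBC R S M x * endBC R S M y := by
  induction x using TensorProduct.induction_on with
  | zero => simp
  | tmul s f =>
    induction y using TensorProduct.induction_on with
    | zero => simp
    | tmul t g =>
      rw [Algebra.TensorProduct.tmul_mul_tmul, endBC_tmul, endBC_tmul, endBC_tmul,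
        Module.End.mul_eq_comp, Module.End.mul_eq_comp, LinearMap.baseChange_comp,
        LinearMap.smul_comp, LinearMap.comp_smul, smul_smul]
    | add a b ha hb => rw [mul_add, map_add, map_add, ha, hb, mul_add]
  | add a b ha hb => rw [add_mul, map_add, map_add, ha, hb, add_mul]

/-- the base change isomorphism of endomorphism algebras. -/
noncomputable def endBCAlgEquiv [Module.Finite R M] [Module.Projective R M] :
    S ⊗[R] (Module.End R M) ≃ₐ[S] Module.End S (S ⊗[R] M) :=
  AlgEquiv.ofBijective (AlgHom.ofLinearMap (endBC R S M) (endBC_one R S M) (endBC_mul R S M))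
    (endBC_bijective R S M)

theorem isAzumaya_end_of_free [Module.Free R M] [Module.Finite R M] [Nontrivial M] :
    IsAzumaya R (Module.End R M) := by
  classical
  have hne : Nonempty (Module.Free.ChooseBasisIndex R M) := by
    by_contra hempty
    rw [not_nonempty_iff] at hempty
    have : Subsingleton M := (Module.Free.chooseBasis R M).repr.toEquiv.subsingleton
    exact not_subsingleton M this
  have := IsAzumaya.matrix R (Module.Free.ChooseBasisIndex R M)
  exact IsAzumaya.of_AlgEquiv R (Matrix (Module.Free.ChooseBasisIndex R M)
    (Module.Free.ChooseBasisIndex R M) R) (Module.End R M)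
    (LinearMap.toMatrixAlgEquiv (Module.Free.chooseBasis R M)).symm

/-- S19589 -/
theorem isAzumaya_end [Module.Finite R M] [Module.Projective R M] [FaithfulSMul R M] :
    IsAzumaya R (Module.End R M) := by
  have hp : Module.Projective R (Module.End R M) := end_projective R M
  have hf : Module.Finite R (Module.End R M) := end_finite R M
  refine isAzumaya_of_localization_maximal R (Module.End R M) fun m _ => ?_
  have hfaith := faithfulSMul_baseChange R (Localization.AtPrime m) M
  have hfree : Module.Free (Localization.AtPrime m) (Localization.AtPrime m ⊗[R] M) :=
    Module.free_of_flat_of_isLocalRing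
  have hnt : Nontrivial (Localization.AtPrime m ⊗[R] M) := by
    by_contra hns
    rw [not_nontrivial_iff_subsingleton] at hns
    have : (1 : Localization.AtPrime m) = 0 := by
      apply FaithfulSMul.eq_of_smul_eq_smul (α := Localization.AtPrime m ⊗[R] M)
      intro y
      exact Subsingleton.elim _ _
    exact one_ne_zero this
  have := isAzumaya_end_of_free (Localization.AtPrime m) (Localization.AtPrime m ⊗[R] M)
  exact IsAzumaya.of_AlgEquiv (Localization.AtPrime m)
    (Module.End (Localization.AtPrime m) (Localization.AtPrime m ⊗[R] M))
    (Localization.AtPrime m ⊗[R] Module.End R M)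
    (endBCAlgEquiv R (Localization.AtPrime m) M).symm

end EndAlg

end Groth.Agent.H7.Azu
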