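import Mathlib
import Groth.Agent.Lib.Helper7.Azu8
import Groth.Agent.Lib.Helper7.CSA3
universe u v w

namespace Groth.Agent.H7.Azu

open TensorProduct MulOpposite

section Field
variable (k : Type u) [Field k] (B : Type v) [Ring B] [Algebra k B]

/-- an Azumaya algebra over a field is simple. -/
theorem isSimpleRing_of_isAzumaya_field [IsAzumaya k B] : IsSimpleRing B := by
  have hfaith : FaithfulSMul k B := inferInstance
  have : Nontrivial B := by
    by_contra hns
    rw [not_nontrivial_iff_subsingleton] at hns
    have : (1 : k) = 0 := by
      apply FaithfulSMul.eq_of_smul_eq_smul (α := B)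
      intro y
      exact Subsingleton.elim _ _
    exact one_ne_zero this
  refine IsSimpleRing.of_eq_bot_or_eq_top fun I => ?_
  by_cases hI : I = ⊥
  · exact Or.inl hI
  · right
    obtain ⟨x, hx, hx0⟩ := SetLike.exists_of_lt (bot_lt_iff_ne_bot.mpr hI)
    have hx0' : x ≠ 0 := fun h => hx0 (by rw [h]; exact TwoSidedIdeal.zero_mem _)
    -- every `μ(w) x` lies in `I`
    have hmem : ∀ w : B ⊗[k] Bᵐᵒᵖ, AlgHom.mulLeftRight k B w x ∈ I := by
      intro w
      induction w using TensorProduct.induction_on with
      | zero => rw [map_zero, LinearMap.zero_apply]; exact I.zero_mem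
      | tmul a b =>
        rw [AlgHom.mulLeftRight_apply]
        exact I.mul_mem_right _ _ (I.mul_mem_left _ _ hx)
      | add w₁ w₂ h₁ h₂ => rw [map_add, LinearMap.add_apply]; exact I.add_mem h₁ h₂
    -- a functional with `f x = 1`
    obtain ⟨f, hf⟩ := LinearMap.exists_leftInverse_of_injective
      (LinearMap.toSpanSingleton k B x) (by
        rw [LinearMap.ker_eq_bot]
        intro c₁ c₂ h
        simp only [LinearMap.toSpanSingleton_apply] at h
        exact smul_left_injective k hx0' h)
    have hfx : f x = 1 := by
      have := LinearMap.congr_fun hf 1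
      simpa using this
    set φ : Module.End k B := (LinearMap.toSpanSingleton k B 1) ∘ₗ f with hφ
    obtain ⟨w, hw⟩ := (IsAzumaya.bij (R := k) (A := B)).2 φ
    have h1 : (1 : B) ∈ I := by
      have := hmem w
      rw [hw, hφ, LinearMap.comp_apply, hfx, LinearMap.toSpanSingleton_apply, one_smul] at this
      exact this
    exact (TwoSidedIdeal.one_mem_iff I).mp h1

theorem isCentral_of_isAzumaya_field [IsAzumaya k B] : Algebra.IsCentral k B :=
  inferInstance

end Field

section Local
variable (R : Type u) [CommRing R] [IsLocalRing R]

theorem bijective_of_baseChange_residueField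
    {P Q : Type*} [AddCommGroup P] [Module R P] [AddCommGroup Q] [Module R Q]
    [Module.Finite R P] [Module.Finite R Q] [Module.Projective R Q] (f : P →ₗ[R] Q)
    (h : Function.Bijective (f.baseChange (IsLocalRing.ResidueField R))) :
    Function.Bijective f := by
  have hsurj : Function.Surjective f := by
    have := subsingleton_baseChange_coker (IsLocalRing.ResidueField R) f h.2
    have h3 : Subsingleton (Q ⧸ LinearMap.range f) :=
      IsLocalRing.subsingleton_tensorProduct.mp this
    rw [Submodule.Quotient.subsingleton_iff] at h3
    exact LinearMap.range_eq_top.mp h3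
  refine ⟨?_, hsurj⟩
  obtain ⟨g, hg⟩ := Module.projective_lifting_property f LinearMap.id hsurj
  have := subsingleton_baseChange_ker_of_split (IsLocalRing.ResidueField R) f g hg h.1
  have := finite_ker_of_split f g hg
  have h3 : Subsingleton (LinearMap.ker f) := IsLocalRing.subsingleton_tensorProduct.mp ‹_›
  rw [← LinearMap.ker_eq_bot]
  exact Submodule.subsingleton_iff_eq_bot.mp h3

/-- S3245 -/
theorem isAzumaya_iff_residueField (A : Type w) [Ring A] [Algebra R A] [Module.Finite R A]
    [Module.Free R A] [Nontrivial A] :
    IsAzumaya R A ↔ (Algebra.IsCentral (IsLocalRing.ResidueField R)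
      ((IsLocalRing.ResidueField R) ⊗[R] A) ∧
      IsSimpleRing ((IsLocalRing.ResidueField R) ⊗[R] A)) := by
  constructor
  · intro hA
    have := isAzumaya_baseChange R (IsLocalRing.ResidueField R) A
    exact ⟨isCentral_of_isAzumaya_field (IsLocalRing.ResidueField R) _,
      isSimpleRing_of_isAzumaya_field (IsLocalRing.ResidueField R) _⟩
  · rintro ⟨h1, h2⟩
    have hbij := Groth.Agent.H7.CSA.mulLeftRight_bijective (IsLocalRing.ResidueField R)
      ((IsLocalRing.ResidueField R) ⊗[R] A)
    have hbc := baseChange_mulLeftRight_bijective R (IsLocalRing.ResidueField R) A hbij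
    have hp : Module.Projective R (Module.End R A) := end_projective R A
    have hb := bijective_of_baseChange_residueField R (AlgHom.mulLeftRight R A).toLinearMap hbc
    exact
      { toProjective := inferInstance
        toFaithfulSMul := inferInstance
        toFinite := inferInstance
        bij := hb }

end Local

end Groth.Agent.H7.Azu
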