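import Mathlib
import Groth.Agent.Lib.Helper7.LG.AzZar

/-! Cayley–Hamilton for Azumaya algebras: the characteristic polynomial computed in a splitting
descends to the base and does not depend on the splitting. -/

set_option autoImplicit false
open scoped TensorProduct

namespace Groth.Agent.H7.AzCH

universe u v w w'

section LocalGlobal

variable {S : Type*} [CommRing S]

/-- An element vanishing in a basic-open neighbourhood of every prime is zero. -/
theorem eq_zero_of_forall_away (c : S)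
    (h : ∀ (p : Ideal S) [p.IsPrime], ∃ f : S, f ∉ p ∧ algebraMap S (Localization.Away f) c = 0) :
    c = 0 := by
  by_contra hc
  let I : Ideal S := Ideal.span {c} |>.annihilator
  have hI : I ≠ ⊤ := by
    intro hI
    have : (1 : S) ∈ I := hI ▸ Submodule.mem_top
    rw [Submodule.mem_annihilator] at this
    have := this c (Ideal.subset_span rfl)
    simp at this
    exact hc this
  obtain ⟨m, hm, hIm⟩ := Ideal.exists_le_maximal I hI
  obtain ⟨f, hf, hfc⟩ := h m
  rw [IsLocalization.map_eq_zero_iff (Submonoid.powers f)] at hfc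
  obtain ⟨⟨_, k, rfl⟩, hk⟩ := hfc
  have : f ^ k ∈ I := by
    rw [Submodule.mem_annihilator]
    intro x hx
    obtain ⟨y, rfl⟩ := Ideal.mem_span_singleton'.mp hx
    rw [smul_eq_mul, mul_comm y, ← mul_assoc]
    simp only at hk
    rw [hk, zero_mul]
  exact hf (hm.isPrime.mem_of_pow_mem k (hIm this))

theorem poly_eq_of_forall_away (P Q : Polynomial S)
    (h : ∀ (p : Ideal S) [p.IsPrime], ∃ f : S, f ∉ p ∧
      P.map (algebraMap S (Localization.Away f)) = Q.map (algebraMap S (Localization.Away f))) :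
    P = Q := by
  ext k
  rw [← sub_eq_zero]
  apply eq_zero_of_forall_away
  intro p _
  obtain ⟨f, hf, hPQ⟩ := h p
  refine ⟨f, hf, ?_⟩
  rw [map_sub, ← Polynomial.coeff_map, ← Polynomial.coeff_map, hPQ, sub_self]

end LocalGlobal

section Invariance

variable {S : Type*} [CommRing S] {n : ℕ}

/-- The characteristic polynomial is invariant under algebra automorphisms of the matrix algebra. -/
theorem charpoly_algEquiv (θ : Matrix (Fin n) (Fin n) S ≃ₐ[S] Matrix (Fin n) (Fin n) S)
    (m : Matrix (Fin n) (Fin n) S) : (θ m).charpoly = m.charpoly := by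
  rcases Nat.eq_zero_or_pos n with rfl | hn
  · have : θ m = m := Subsingleton.elim _ _
    rw [this]
  haveI : Nonempty (Fin n) := ⟨⟨0, hn⟩⟩
  haveI : IsAzumaya S (Matrix (Fin n) (Fin n) S) := IsAzumaya.matrix S (Fin n)
  apply poly_eq_of_forall_away
  intro p _
  obtain ⟨f, hf, u, hu⟩ := Groth.Agent.H7.LG.exists_away_inner θ p
  refine ⟨f, hf, ?_⟩
  let e := (matrixEquivTensor (Fin n) S (Localization.Away f)).symm
  have he : ∀ x : Matrix (Fin n) (Fin n) S,
      e (1 ⊗ₜ x) = x.map (algebraMap S (Localization.Away f)) := by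
    intro x
    simp [e, matrixEquivTensor_apply_symm]
  rw [← Matrix.charpoly_map, ← Matrix.charpoly_map, ← he, ← he]
  have h1 := hu (1 ⊗ₜ m)
  rw [Algebra.TensorProduct.map_tmul, AlgHom.id_apply] at h1
  have h2 : e ((1 : Localization.Away f) ⊗ₜ[S] (θ m)) = e (u : _) * e (1 ⊗ₜ m) * e ((u⁻¹ : _ˣ) : _) := by
    have : ((θ : Matrix (Fin n) (Fin n) S →ₐ[S] Matrix (Fin n) (Fin n) S) m) = θ m := rfl
    rw [this] at h1
    rw [h1, map_mul, map_mul]
  rw [h2]
  have key := Matrix.charpoly_units_conj (Units.map (e : _ →* _) u) (e (1 ⊗ₜ m))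
  rw [← Matrix.coe_units_inv, ← map_inv] at key
  exact key

end Invariance

section BaseChange

variable {R : Type u} [CommRing R] {A : Type v} [Ring A] [Algebra R A] {n : ℕ}
  {R' : Type w} [CommRing R'] [Algebra R R']
  {S : Type*} [CommRing S] [Algebra R S]

/-- The map `S ⊗ A → M_n(S)` induced by a splitting over `R'` and an algebra map `f : R' → S`. -/
noncomputable def bcHom (φ : (R' ⊗[R] A) ≃ₐ[R'] Matrix (Fin n) (Fin n) R') (f : R' →ₐ[R] S) :
    S ⊗[R] A →ₐ[S] Matrix (Fin n) (Fin n) S :=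
  Algebra.TensorProduct.lift (Algebra.ofId S _)
    (f.mapMatrix.comp (((φ : (R' ⊗[R] A) →ₐ[R'] Matrix (Fin n) (Fin n) R').restrictScalars R).comp
      Algebra.TensorProduct.includeRight))
    (fun s a => Algebra.commutes s _)

theorem bcHom_tmul (φ : (R' ⊗[R] A) ≃ₐ[R'] Matrix (Fin n) (Fin n) R') (f : R' →ₐ[R] S)
    (s : S) (a : A) : bcHom φ f (s ⊗ₜ a) = s • (φ (1 ⊗ₜ a)).map f := by
  rw [bcHom, Algebra.TensorProduct.lift_tmul, Algebra.ofId_apply, Algebra.algebraMap_eq_smul_one,
    smul_mul_assoc, one_mul]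
  rfl

theorem bcHom_bijective (φ : (R' ⊗[R] A) ≃ₐ[R'] Matrix (Fin n) (Fin n) R') (f : R' →ₐ[R] S) :
    Function.Bijective (bcHom φ f) := by
  letI : Algebra R' S := f.toRingHom.toAlgebra
  haveI : IsScalarTower R R' S := IsScalarTower.of_algebraMap_eq (fun r => (f.commutes r).symm)
  let E₁ := (TensorProduct.AlgebraTensorModule.cancelBaseChange R R' S S A).symm
  let E₂ := TensorProduct.AlgebraTensorModule.congr (R := R') (LinearEquiv.refl S S)
    φ.toLinearEquiv
  let E₃ := (matrixEquivTensor (Fin n) R' S).symm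
  have key : ∀ x, bcHom φ f x = E₃ (E₂ (E₁ x)) := by
    intro x
    induction x using TensorProduct.induction_on with
    | zero => simp
    | add x y hx hy => rw [map_add, hx, hy, map_add, map_add, map_add]
    | tmul s a =>
      rw [bcHom_tmul]
      simp only [E₁, E₂, E₃, TensorProduct.AlgebraTensorModule.cancelBaseChange_symm_tmul,
        TensorProduct.AlgebraTensorModule.congr_tmul, LinearEquiv.refl_apply,
        matrixEquivTensor_apply_symm]
      rfl
  have : (bcHom φ f : S ⊗[R] A → _) = E₃ ∘ E₂ ∘ E₁ := funext key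
  rw [this]
  exact E₃.bijective.comp (E₂.bijective.comp E₁.bijective)

/-- The base-changed splitting. -/
noncomputable def bc (φ : (R' ⊗[R] A) ≃ₐ[R'] Matrix (Fin n) (Fin n) R') (f : R' →ₐ[R] S) :
    S ⊗[R] A ≃ₐ[S] Matrix (Fin n) (Fin n) S :=
  AlgEquiv.ofBijective (bcHom φ f) (bcHom_bijective φ f)

theorem bc_one_tmul (φ : (R' ⊗[R] A) ≃ₐ[R'] Matrix (Fin n) (Fin n) R') (f : R' →ₐ[R] S) (a : A) :
    bc φ f (1 ⊗ₜ a) = (φ (1 ⊗ₜ a)).map f := by
  have : bc φ f (1 ⊗ₜ a) = bcHom φ f (1 ⊗ₜ a) := rfl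
  rw [this, bcHom_tmul, one_smul]

/-- Two splittings give the same characteristic polynomial over any common extension. -/
theorem charpoly_map_eq {R'' : Type w'} [CommRing R''] [Algebra R R'']
    (φ : (R' ⊗[R] A) ≃ₐ[R'] Matrix (Fin n) (Fin n) R')
    (ψ : (R'' ⊗[R] A) ≃ₐ[R''] Matrix (Fin n) (Fin n) R'')
    (f : R' →ₐ[R] S) (g : R'' →ₐ[R] S) (a : A) :
    (φ (1 ⊗ₜ a)).charpoly.map (f : R' →+* S) = (ψ (1 ⊗ₜ a)).charpoly.map (g : R'' →+* S) := by
  rw [← Matrix.charpoly_map, ← Matrix.charpoly_map]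
  have h1 := bc_one_tmul φ f a
  have h2 := bc_one_tmul ψ g a
  have h3 := charpoly_algEquiv ((bc φ f).symm.trans (bc ψ g)) (bc φ f (1 ⊗ₜ a))
  rw [AlgEquiv.trans_apply, AlgEquiv.symm_apply_apply, h1, h2] at h3
  exact h3.symm

end BaseChange

section Main

variable (R : Type u) [CommRing R] (A : Type v) [Ring A] [Algebra R A] (a : A) (n : ℕ)
  (R' : Type w) [CommRing R'] [Algebra R R'] [Module.FaithfullyFlat R R']
  (φ : (R' ⊗[R] A) ≃ₐ[R'] Matrix (Fin n) (Fin n) R')
  (R'' : Type w') [CommRing R''] [Algebra R R''] [Module.FaithfullyFlat R R'']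
  (ψ : (R'' ⊗[R] A) ≃ₐ[R''] Matrix (Fin n) (Fin n) R'')

include φ in
theorem exists_descent : ∃ p : Polynomial R,
    p.map (algebraMap R R') = (φ ((1 : R') ⊗ₜ[R] a)).charpoly := by
  have h := charpoly_map_eq φ φ (Algebra.TensorProduct.includeLeft : R' →ₐ[R] R' ⊗[R] R')
    (Algebra.TensorProduct.includeRight : R' →ₐ[R] R' ⊗[R] R') a
  have heff := Algebra.IsEffective.of_faithfullyFlat R R'
  have hloc := heff.eqLocus_includeLeft_includeRight
  have hmem : (φ ((1 : R') ⊗ₜ[R] a)).charpoly ∈ Polynomial.lifts (algebraMap R R') := by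
    rw [Polynomial.lifts_iff_coeff_lifts]
    intro k
    rw [← hloc]
    have := congrArg (fun q => q.coeff k) h
    simp only [Polynomial.coeff_map] at this
    exact this
  obtain ⟨p, hp⟩ := hmem
  exact ⟨p, hp⟩

theorem main : ∃ p : Polynomial R,
    p.map (algebraMap R R') = (φ ((1 : R') ⊗ₜ[R] a)).charpoly ∧
      p.map (algebraMap R R'') = (ψ ((1 : R'') ⊗ₜ[R] a)).charpoly ∧
        Polynomial.aeval a p = 0 := by
  obtain ⟨p, hp⟩ := exists_descent R A a n R' φ
  refine ⟨p, hp, ?_, ?_⟩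
  · have h := charpoly_map_eq φ ψ (Algebra.TensorProduct.includeLeft : R' →ₐ[R] R' ⊗[R] R'')
      (Algebra.TensorProduct.includeRight : R'' →ₐ[R] R' ⊗[R] R'') a
    have hinj : Function.Injective
        (Algebra.TensorProduct.includeRight : R'' →ₐ[R] R' ⊗[R] R'') :=
      Algebra.TensorProduct.includeRight_injective
        (FaithfulSMul.algebraMap_injective R R')
    have hinj' : Function.Injective (Polynomial.map
        ((Algebra.TensorProduct.includeRight : R'' →ₐ[R] R' ⊗[R] R'') : R'' →+* R' ⊗[R] R'')) :=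
      Polynomial.map_injective _ hinj
    apply hinj'
    rw [← h, ← hp, Polynomial.map_map, Polynomial.map_map]
    congr 1
    ext r
    simp
  · have h1 : φ (1 ⊗ₜ (Polynomial.aeval a p)) = 0 := by
      have e1 : ((1 : R') ⊗ₜ[R] (Polynomial.aeval a p) : R' ⊗[R] A) =
          Polynomial.aeval ((1 : R') ⊗ₜ[R] a) p := by
        have := Polynomial.aeval_algHom_apply
          (Algebra.TensorProduct.includeRight : A →ₐ[R] R' ⊗[R] A) a p
        simpa using this.symm
      rw [e1]
      have e2 := Polynomial.aeval_algHom_apply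
        ((φ : (R' ⊗[R] A) →ₐ[R'] Matrix (Fin n) (Fin n) R').restrictScalars R)
        ((1 : R') ⊗ₜ[R] a) p
      have e3 : φ (Polynomial.aeval ((1 : R') ⊗ₜ[R] a) p) =
          Polynomial.aeval (φ ((1 : R') ⊗ₜ[R] a)) p := e2.symm
      rw [e3, ← Polynomial.aeval_map_algebraMap R', hp, Matrix.aeval_self_charpoly]
    have h2 : ((1 : R') ⊗ₜ[R] (Polynomial.aeval a p) : R' ⊗[R] A) = 0 := by
      apply φ.injective
      rw [h1, map_zero]
    have h3 := Module.FaithfullyFlat.tensorProduct_mk_injective (A := R) (B := R') A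
    apply h3
    rw [map_zero]
    exact h2

end Main

end Groth.Agent.H7.AzCH
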