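import Mathlib

set_option autoImplicit false

namespace Groth.Agent.H7.RN
universe u v w
open Polynomial

section SepTest
variable {K : Type u} [Field K] {n : ℕ}

/-- the resultant test for separability of the characteristic polynomial. -/
noncomputable def sepTest (M : Matrix (Fin n) (Fin n) K) : K :=
  resultant M.charpoly (derivative M.charpoly) n (n - 1)

theorem sepTest_ne_zero_iff (M : Matrix (Fin n) (Fin n) K) :
    sepTest M ≠ 0 ↔ M.charpoly.Separable := by
  have hdeg : M.charpoly.natDegree = n := by
    rw [Matrix.charpoly_natDegree_eq_dim, Fintype.card_fin]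
  have hmon : M.charpoly.Monic := Matrix.charpoly_monic M
  have hle : (derivative M.charpoly).natDegree ≤ n - 1 := by
    have := natDegree_derivative_le M.charpoly
    rwa [hdeg] at this
  have h1 : sepTest M = resultant M.charpoly (derivative M.charpoly) := by
    unfold sepTest
    obtain ⟨j, hj⟩ := Nat.exists_eq_add_of_le hle
    rw [hj, resultant_add_right_deg _ _ _ _ _ le_rfl]
    have : M.charpoly.coeff n = 1 := by
      have h2 := hmon.coeff_natDegree
      rwa [hdeg] at h2
    rw [this, one_pow, one_mul]
    congr 1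
    exact hdeg.symm
  rw [h1, ← isUnit_iff_ne_zero, isUnit_resultant_iff_isCoprime hmon]
  rfl

/-- the polynomial family of matrices `M₀ + t M₁`. -/
noncomputable def famMat (M₀ M₁ : Matrix (Fin n) (Fin n) K) : Matrix (Fin n) (Fin n) K[X] :=
  M₀.map C + (X : K[X]) • M₁.map C

theorem famMat_eval (M₀ M₁ : Matrix (Fin n) (Fin n) K) (t : K) :
    (famMat M₀ M₁).map (evalRingHom t) = M₀ + t • M₁ := by
  ext i j
  simp only [famMat, Matrix.map_apply, Matrix.add_apply, Matrix.smul_apply, smul_eq_mul,
    coe_evalRingHom, eval_add, eval_mul, eval_X, eval_C]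

/-- the polynomial in `t` whose nonvanishing at `t₀` means the characteristic polynomial of
`M₀ + t₀ M₁` is separable. -/
noncomputable def famTest (M₀ M₁ : Matrix (Fin n) (Fin n) K) : K[X] :=
  resultant (famMat M₀ M₁).charpoly (derivative (famMat M₀ M₁).charpoly) n (n - 1)

theorem famTest_eval (M₀ M₁ : Matrix (Fin n) (Fin n) K) (t : K) :
    (famTest M₀ M₁).eval t = sepTest (M₀ + t • M₁) := by
  unfold famTest sepTest
  rw [← famMat_eval, Matrix.charpoly_map, derivative_map, resultant_map_map]
  rfl

theorem famTest_ne_zero (M₀ M₁ : Matrix (Fin n) (Fin n) K) (h : M₀.charpoly.Separable) :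
    famTest M₀ M₁ ≠ 0 := by
  intro h0
  have h1 := famTest_eval M₀ M₁ 0
  rw [h0, eval_zero, zero_smul, add_zero] at h1
  exact (sepTest_ne_zero_iff M₀).mpr h h1.symm

theorem finite_bad (M₀ M₁ : Matrix (Fin n) (Fin n) K) (h : M₀.charpoly.Separable) :
    {t : K | ¬ (M₀ + t • M₁).charpoly.Separable}.Finite := by
  classical
  apply Set.Finite.subset (famTest M₀ M₁).roots.toFinset.finite_toSet
  intro t ht
  simp only [Set.mem_setOf_eq] at ht
  rw [← sepTest_ne_zero_iff, not_not, ← famTest_eval] at ht
  simp only [Finset.mem_coe, Multiset.mem_toFinset]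
  exact (mem_roots (famTest_ne_zero M₀ M₁ h)).mpr ht

end SepTest

end Groth.Agent.H7.RN
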