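import Mathlib
import Groth.Agent.Lib.Helper7.RN5
import Groth.Agent.Lib.Helper7.CSA8
import Groth.Agent.Lib.Helper7.CSA10
import Groth.Agent.Lib.Helper7.AzCH

/-! Regular separable elements: general lemmas on `k[x]` inside a (noncommutative) algebra. -/

set_option autoImplicit false
open scoped TensorProduct
open Polynomial

namespace Groth.Agent.H7.RegEl

universe u v w

section General

variable {k : Type u} [Field k] {A : Type v} [Ring A] [Algebra k A]

/-- `dim k[x] = deg (minpoly x)`. -/
theorem finrank_adjoin_singleton (x : A) :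
    Module.finrank k (Algebra.adjoin k {x}) = (minpoly k x).natDegree := by
  have h1 : Algebra.adjoin k {x} = (Polynomial.aeval x : k[X] →ₐ[k] A).range :=
    Algebra.adjoin_singleton_eq_range_aeval k x
  rw [h1]
  have e := Ideal.quotientKerAlgEquivOfSurjective
    (f := (Polynomial.aeval x : k[X] →ₐ[k] A).rangeRestrict)
    (AlgHom.rangeRestrict_surjective _)
  rw [← e.toLinearEquiv.finrank_eq]
  have h2 : RingHom.ker (Polynomial.aeval x : k[X] →ₐ[k] A).rangeRestrict =
      Ideal.span {minpoly k x} := by
    have h3 : RingHom.ker (Polynomial.aeval x : k[X] →ₐ[k] A).rangeRestrict =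
        RingHom.ker (Polynomial.aeval x : k[X] →ₐ[k] A) := by
      ext p
      simp only [RingHom.mem_ker]
      constructor
      · intro h
        have := congrArg Subtype.val h
        simpa using this
      · intro h
        apply Subtype.ext
        simpa using h
    exact h3.trans (minpoly.ker_aeval_eq_span_minpoly k x)
  rw [← (Ideal.quotientEquivAlgOfEq k h2).symm.toLinearEquiv.finrank_eq]
  exact finrank_quotient_span_eq_natDegree

theorem one_tmul_pow (E : Type w) [Field E] [Algebra k E] (y : A) (i : ℕ) :
    ((1 : E) ⊗ₜ[k] y) ^ i = (1 : E) ⊗ₜ[k] (y ^ i) := by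
  rw [Algebra.TensorProduct.tmul_pow, one_pow]

theorem aeval_one_tmul (E : Type w) [Field E] [Algebra k E] (y : A) (q : k[X]) :
    Polynomial.aeval ((1 : E) ⊗ₜ[k] y) (q.map (algebraMap k E)) =
      (1 : E) ⊗ₜ[k] (Polynomial.aeval y q) := by
  rw [Polynomial.aeval_map_algebraMap]
  have := Polynomial.aeval_algHom_apply
    (Algebra.TensorProduct.includeRight : A →ₐ[k] E ⊗[k] A) y q
  simpa using this

/-- The minimal polynomial is compatible with extension of the base field. -/
theorem minpoly_one_tmul (E : Type w) [Field E] [Algebra k E] (y : A) (hy : IsIntegral k y) :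
    minpoly E ((1 : E) ⊗ₜ[k] y) = (minpoly k y).map (algebraMap k E) := by
  set p := (minpoly k y).map (algebraMap k E) with hp
  have hpm : p.Monic := (minpoly.monic hy).map _
  have hp0 : Polynomial.aeval ((1 : E) ⊗ₜ[k] y) p = 0 := by
    rw [hp, aeval_one_tmul, minpoly.aeval, TensorProduct.tmul_zero]
  have hint : IsIntegral E ((1 : E) ⊗ₜ[k] y) := ⟨p, hpm, hp0⟩
  set m := minpoly E ((1 : E) ⊗ₜ[k] y) with hm
  have hmm : m.Monic := minpoly.monic hint
  have hdvd : m ∣ p := minpoly.dvd E _ hp0
  symm
  apply Polynomial.eq_of_monic_of_dvd_of_natDegree_le hmm hpm hdvd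
  by_contra hlt
  push Not at hlt
  have hd : p.natDegree = (minpoly k y).natDegree := (minpoly.monic hy).natDegree_map _
  rw [hd] at hlt
  have hli : LinearIndependent E
      (fun i : Fin (minpoly k y).natDegree => (1 : E) ⊗ₜ[k] (y ^ (i : ℕ))) :=
    Module.Flat.linearIndependent_one_tmul (S := E) (linearIndependent_pow y)
  have h0 : Polynomial.aeval ((1 : E) ⊗ₜ[k] y) m = 0 := minpoly.aeval E _
  rw [Polynomial.aeval_eq_sum_range' hlt, Finset.sum_range] at h0
  simp only [one_tmul_pow] at h0
  have hc := (Fintype.linearIndependent_iff.mp hli) (fun i => m.coeff i) h0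
  have hm0 : m = 0 := by
    ext i
    by_cases hi : i < (minpoly k y).natDegree
    · simpa using hc ⟨i, hi⟩
    · rw [Polynomial.coeff_eq_zero_of_natDegree_lt (by omega)]
      simp
  exact hmm.ne_zero hm0

/-- a separable polynomial over an algebraically closed field divides any polynomial vanishing at
all its roots. -/
theorem dvd_of_forall_isRoot {E : Type w} [Field E] [IsAlgClosed E] (f q : E[X])
    (hf : f.Separable) (h : ∀ a, f.IsRoot a → q.IsRoot a) : f ∣ q := by
  by_cases hq : q = 0
  · rw [hq]; exact dvd_zero _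
  have hf0 : f ≠ 0 := hf.ne_zero
  apply (IsAlgClosed.splits f).dvd_of_roots_le_roots hf0
  rw [Multiset.le_iff_subset (Polynomial.nodup_roots hf)]
  intro a ha
  rw [Polynomial.mem_roots hf0] at ha
  rw [Polynomial.mem_roots hq]
  exact h a ha

/-- if the minimal polynomial of `x` is separable, `k[x]` is a separable algebra. -/
theorem isSeparable_of_mem_adjoin (x : A) (hx : IsIntegral k x) (hsep : (minpoly k x).Separable)
    (y : A) (hy : y ∈ Algebra.adjoin k {x}) : (minpoly k y).Separable := by
  classical
  have hyint0 : IsIntegral k y :=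
    IsIntegral.of_mem_of_fg (Algebra.adjoin k {x}) hx.fg_adjoin_singleton y hy
  rw [Algebra.adjoin_singleton_eq_range_aeval] at hy
  obtain ⟨g, rfl⟩ := hy
  have hyint : IsIntegral k (Polynomial.aeval x g) := hyint0
  let E := AlgebraicClosure k
  set f := (minpoly k x).map (algebraMap k E) with hf
  set G := g.map (algebraMap k E) with hG
  have hfsep : f.Separable := hsep.map
  let S : Finset E := f.roots.toFinset.image (fun a => G.eval a)
  let h : E[X] := ∏ v ∈ S, (X - C v)
  have hhsep : h.Separable :=
    Polynomial.separable_prod_X_sub_C_iff'.mpr (fun _ _ _ _ hxy => hxy)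
  have hdvd : f ∣ h.comp G := by
    apply dvd_of_forall_isRoot f _ hfsep
    intro a ha
    rw [Polynomial.IsRoot.def, Polynomial.eval_comp]
    have hmem : G.eval a ∈ S := by
      refine Finset.mem_image.mpr ⟨a, ?_, rfl⟩
      rw [Multiset.mem_toFinset, Polynomial.mem_roots hfsep.ne_zero]
      exact ha
    simp only [h, Polynomial.eval_prod, Polynomial.eval_sub, Polynomial.eval_X, Polynomial.eval_C]
    exact Finset.prod_eq_zero hmem (sub_self _)
  have h1 : Polynomial.aeval ((1 : E) ⊗ₜ[k] x) f = 0 := by
    rw [hf, aeval_one_tmul, minpoly.aeval, TensorProduct.tmul_zero]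
  have h2 : Polynomial.aeval ((1 : E) ⊗ₜ[k] x) (h.comp G) = 0 := by
    obtain ⟨c, hc⟩ := hdvd
    rw [hc, map_mul, h1, zero_mul]
  rw [Polynomial.aeval_comp, hG, aeval_one_tmul] at h2
  have h3 : minpoly E ((1 : E) ⊗ₜ[k] (Polynomial.aeval x g)) ∣ h := minpoly.dvd E _ h2
  rw [minpoly_one_tmul E _ hyint] at h3
  have h4 := hhsep.of_dvd h3
  exact (Polynomial.separable_map (algebraMap k E)).mp h4

theorem isSeparable_adjoin_singleton (x : A) (hx : IsIntegral k x)
    (hsep : (minpoly k x).Separable) : Algebra.IsSeparable k (Algebra.adjoin k {x}) := by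
  constructor
  intro y
  have h1 := isSeparable_of_mem_adjoin x hx hsep (y : A) y.2
  unfold IsSeparable
  rwa [← minpoly.algHom_eq (Algebra.adjoin k {x}).val Subtype.val_injective y]

end General

section Split

variable {k : Type u} [Field k] {A : Type v} [Ring A] [Algebra k A]
  {E : Type w} [Field E] [Algebra k E] [IsAlgClosed E] {r : ℕ}
  (φ : E ⊗[k] A ≃ₐ[E] Matrix (Fin r) (Fin r) E)

/-- a matrix with separable characteristic polynomial over an algebraically closed field has
minimal polynomial equal to the characteristic polynomial. -/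
theorem minpoly_eq_charpoly_of_separable (M : Matrix (Fin r) (Fin r) E)
    (hsep : M.charpoly.Separable) : minpoly E M = M.charpoly := by
  rcases Nat.eq_zero_or_pos r with rfl | hr
  · rw [minpoly.subsingleton, Matrix.charpoly, Matrix.det_isEmpty]
  haveI : Nonempty (Fin r) := ⟨⟨0, hr⟩⟩
  have h1 : minpoly E M ∣ M.charpoly := Matrix.minpoly_dvd_charpoly M
  have hint : IsIntegral E M := Matrix.isIntegral M
  have h2 : M.charpoly ∣ minpoly E M := by
    apply dvd_of_forall_isRoot _ _ hsep
    intro a ha
    have h3 : a ∈ spectrum E M := Matrix.mem_spectrum_iff_isRoot_charpoly.mpr ha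
    have h4 := spectrum.subset_polynomial_aeval M (minpoly E M) ⟨a, h3, rfl⟩
    rw [minpoly.aeval, spectrum.zero_eq, Set.mem_singleton_iff] at h4
    exact h4
  exact Polynomial.eq_of_monic_of_associated (minpoly.monic hint) (Matrix.charpoly_monic M)
    (associated_of_dvd_dvd h1 h2)

include φ in
theorem map_minpoly_eq_charpoly (x : A) (hx : IsIntegral k x)
    (hsep : (φ (1 ⊗ₜ x)).charpoly.Separable) :
    (minpoly k x).map (algebraMap k E) = (φ (1 ⊗ₜ x)).charpoly := by
  rw [← minpoly_one_tmul E x hx, ← minpoly_eq_charpoly_of_separable _ hsep]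
  exact (minpoly.algEquiv_eq φ _).symm

include φ in
theorem regular_of_separable_charpoly (x : A) (hx : IsIntegral k x)
    (hsep : (φ (1 ⊗ₜ x)).charpoly.Separable) :
    (minpoly k x).Separable ∧ (minpoly k x).natDegree = r := by
  have h := map_minpoly_eq_charpoly φ x hx hsep
  constructor
  · rw [← Polynomial.separable_map (algebraMap k E), h]
    exact hsep
  · have h1 := congrArg Polynomial.natDegree h
    rw [(minpoly.monic hx).natDegree_map, Matrix.charpoly_natDegree_eq_dim, Fintype.card_fin] at h1
    exact h1

include φ in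
/-- over an infinite field there are elements with separable reduced characteristic polynomial. -/
theorem exists_separable_charpoly [Infinite k] [FiniteDimensional k A] :
    ∃ x : A, (φ (1 ⊗ₜ x)).charpoly.Separable := by
  classical
  set N := Module.finrank k A with hN
  let b : Module.Basis (Fin N) k A := Module.finBasis k A
  let Mj : Fin N → Matrix (Fin r) (Fin r) E := fun j => φ (1 ⊗ₜ b j)
  let bE : Module.Basis (Fin N) E (E ⊗[k] A) := b.baseChange E
  have hspan : ∀ M : Matrix (Fin r) (Fin r) E, ∃ c : Fin N → E, M = ∑ j, c j • Mj j := by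
    intro M
    refine ⟨fun j => bE.repr (φ.symm M) j, ?_⟩
    have h1 : φ.symm M = ∑ j, bE.repr (φ.symm M) j • bE j := (bE.sum_repr _).symm
    have h2 := congrArg φ h1
    rw [AlgEquiv.apply_symm_apply, map_sum] at h2
    refine h2.trans ?_
    refine Finset.sum_congr rfl fun j _ => ?_
    rw [map_smul]
    have h3 : bE j = (1 : E) ⊗ₜ[k] b j := Module.Basis.baseChange_apply E b j
    rw [h3]
  -- a good point
  obtain ⟨d, hd⟩ : ∃ d : Fin r → E, Function.Injective d :=
    ⟨fun i => (Infinite.natEmbedding E) i, fun i j h => Fin.ext ((Infinite.natEmbedding E).injective h)⟩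
  have hgood0 : (Matrix.diagonal d).charpoly.Separable := by
    rw [Matrix.charpoly_diagonal]
    exact Polynomial.separable_prod_X_sub_C_iff.mpr hd
  -- induction
  have key : ∀ s : Finset (Fin N), ∃ c : Fin N → E, (∑ j, c j • Mj j).charpoly.Separable ∧
      ∀ j ∈ s, c j ∈ Set.range (algebraMap k E) := by
    intro s
    induction s using Finset.induction_on with
    | empty =>
      obtain ⟨c, hc⟩ := hspan (Matrix.diagonal d)
      exact ⟨c, hc ▸ hgood0, fun j hj => absurd hj (Finset.notMem_empty j)⟩
    | insert j₀ s hj₀ ih =>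
      obtain ⟨c, hc, hcs⟩ := ih
      let M₀ : Matrix (Fin r) (Fin r) E := ∑ j ∈ Finset.univ.erase j₀, c j • Mj j
      let M₁ := Mj j₀
      have hsplit : ∀ c' : Fin N → E, (∀ j, j ≠ j₀ → c' j = c j) →
          ∑ j, c' j • Mj j = M₀ + c' j₀ • M₁ := by
        intro c' hc'
        rw [← Finset.add_sum_erase Finset.univ _ (Finset.mem_univ j₀), add_comm]
        congr 1
        refine Finset.sum_congr rfl fun j hj => ?_
        rw [hc' j (Finset.ne_of_mem_erase hj)]
      have h1 : (Groth.Agent.H7.RN.famTest M₀ M₁).eval (c j₀) ≠ 0 := by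
        rw [Groth.Agent.H7.RN.famTest_eval, Groth.Agent.H7.RN.sepTest_ne_zero_iff,
          ← hsplit c (fun _ _ => rfl)]
        exact hc
      have hne : Groth.Agent.H7.RN.famTest M₀ M₁ ≠ 0 := by
        intro h0
        rw [h0, Polynomial.eval_zero] at h1
        exact h1 rfl
      have hinf : (Set.range (algebraMap k E)).Infinite :=
        Set.infinite_range_of_injective (algebraMap k E).injective
      obtain ⟨t, ht, htr⟩ : ∃ t ∈ Set.range (algebraMap k E),
          t ∉ ((Groth.Agent.H7.RN.famTest M₀ M₁).roots.toFinset : Set E) := by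
        by_contra hcon
        push Not at hcon
        exact hinf ((Finset.finite_toSet _).subset hcon)
      refine ⟨Function.update c j₀ t, ?_, ?_⟩
      · rw [hsplit (Function.update c j₀ t) (fun j hj => Function.update_of_ne hj _ _),
          Function.update_self, ← Groth.Agent.H7.RN.sepTest_ne_zero_iff,
          ← Groth.Agent.H7.RN.famTest_eval]
        intro h0
        apply htr
        rw [Finset.mem_coe, Multiset.mem_toFinset, Polynomial.mem_roots hne]
        exact h0
      · intro j hj
        rcases Finset.mem_insert.mp hj with rfl | hj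
        · rw [Function.update_self]; exact ht
        · have : j ≠ j₀ := fun h => hj₀ (h ▸ hj)
          rw [Function.update_of_ne this]
          exact hcs j hj
  obtain ⟨c, hc, hck⟩ := key Finset.univ
  choose t ht using fun j => hck j (Finset.mem_univ j)
  refine ⟨∑ j, t j • b j, ?_⟩
  have : φ (1 ⊗ₜ (∑ j, t j • b j)) = ∑ j, c j • Mj j := by
    rw [TensorProduct.tmul_sum, map_sum]
    refine Finset.sum_congr rfl fun j _ => ?_
    rw [TensorProduct.tmul_smul, ← ht j]
    rw [← algebraMap_smul E (t j) ((1 : E) ⊗ₜ[k] b j), map_smul]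
  rw [this]
  exact hc

end Split

section Exists

variable (k : Type u) [Field k] (A : Type v) [Ring A] [Algebra k A]
  [Algebra.IsCentral k A] [IsSimpleRing A] [FiniteDimensional k A]

/-- a central simple algebra over a finite field is a matrix algebra. -/
theorem exists_algEquiv_matrix_of_finite [Finite k] :
    ∃ (n : ℕ) (_ : NeZero n), Nonempty (A ≃ₐ[k] Matrix (Fin n) (Fin n) k) := by
  haveI : IsArtinianRing A := IsArtinianRing.of_finite k A
  obtain ⟨n, hn, D, _, _, _, ⟨w⟩⟩ := IsSimpleRing.exists_algEquiv_matrix_divisionRing_finite k A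
  haveI : Finite D := Module.finite_of_finite k
  have hcomm : ∀ a b : D, a * b = b * a := fun a b => (littleWedderburn D).mul_comm a b
  haveI : Algebra.IsCentral k (Matrix (Fin n) (Fin n) D) := Algebra.IsCentral.of_algEquiv k _ _ w
  haveI : Algebra.IsCentral k D := Groth.Agent.H7.CSA.isCentral_of_matrix k D n
  have hbij : Function.Bijective (Algebra.ofId k D) := by
    refine ⟨(Algebra.ofId k D).toRingHom.injective, fun d => ?_⟩
    have hd : d ∈ Subalgebra.center k D := by
      rw [Subalgebra.mem_center_iff]
      intro b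
      exact hcomm b d
    obtain ⟨c, hc⟩ := (Algebra.IsCentral.mem_center_iff k).mp hd
    exact ⟨c, hc.symm⟩
  let σ : D ≃ₐ[k] k := (AlgEquiv.ofBijective (Algebra.ofId k D) hbij).symm
  exact ⟨n, hn, ⟨w.trans σ.mapMatrix⟩⟩

theorem exists_regular (r : ℕ) (hA : Module.finrank k A = r ^ 2) :
    ∃ x : A, (minpoly k x).Separable ∧ (minpoly k x).natDegree = r := by
  have hr0 : r ≠ 0 := by
    rintro rfl
    have := Module.finrank_pos (R := k) (M := A)
    omega
  rcases finite_or_infinite k with hfin | hinf
  · obtain ⟨n, hn, ⟨e⟩⟩ := exists_algEquiv_matrix_of_finite k A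
    have hnr : n = r := by
      have h1 : Module.finrank k A = n * n := by
        rw [e.toLinearEquiv.finrank_eq, Module.finrank_matrix]
        simp
      rw [hA, pow_two] at h1
      exact (Nat.mul_self_inj.mp h1).symm
    subst hnr
    obtain ⟨p, hp⟩ := CharP.exists k
    haveI : Fact p.Prime := ⟨CharP.char_is_prime k p⟩
    let F := FiniteField.Extension k p n
    have hF : Module.finrank k F = n := FiniteField.finrank_extension k p n
    obtain ⟨θ, hθ⟩ := Field.exists_primitive_element k F
    let b : Module.Basis (Fin n) k F := (Module.finBasis k F).reindex (finCongr hF)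
    let ρ : F →ₐ[k] A := (e.symm : Matrix (Fin n) (Fin n) k →ₐ[k] A).comp (Algebra.leftMulMatrix b)
    have hρ : Function.Injective ρ := e.symm.injective.comp (Algebra.leftMulMatrix_injective b)
    refine ⟨ρ θ, ?_, ?_⟩
    · rw [minpoly.algHom_eq ρ hρ θ]
      exact Algebra.IsSeparable.isSeparable k θ
    · rw [minpoly.algHom_eq ρ hρ θ]
      have hint : IsIntegral k θ := Algebra.IsIntegral.isIntegral θ
      rw [← IntermediateField.adjoin.finrank hint, hθ, IntermediateField.finrank_top', hF]
  · let E := AlgebraicClosure k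
    obtain ⟨n, hn, ⟨φ⟩⟩ := Groth.Agent.H7.CSA.exists_algEquiv_matrix_of_isAlgClosed k A E
    have hnr : n = r := by
      have h1 := Groth.Agent.H7.CSA.finrank_eq_of_split k A E n φ
      rw [hA, pow_two] at h1
      exact (Nat.mul_self_inj.mp h1).symm
    subst hnr
    obtain ⟨x, hx⟩ := exists_separable_charpoly φ
    exact ⟨x, regular_of_separable_charpoly φ x (Algebra.IsIntegral.isIntegral x) hx⟩

/-- S5702 -/
theorem exists_adjoin_singleton_etale (r : ℕ) (hA : Module.finrank k A = r ^ 2) :
    ∃ x : A, Algebra.IsSeparable k (Algebra.adjoin k ({x} : Set A)) ∧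
      Module.finrank k (Algebra.adjoin k ({x} : Set A)) = r := by
  obtain ⟨x, hs, hd⟩ := exists_regular k A r hA
  exact ⟨x, isSeparable_adjoin_singleton x (Algebra.IsIntegral.isIntegral x) hs,
    (finrank_adjoin_singleton x).trans hd⟩

end Exists

end Groth.Agent.H7.RegEl
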