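import Mathlib
import Groth.Agent.Lib.Helper7.RegEl
import Groth.Agent.Lib.Helper7.Azu10

/-! Centralizer of a regular separable element of a central simple algebra. -/

set_option autoImplicit false
open scoped TensorProduct
open Polynomial

namespace Groth.Agent.H7.RegCent

universe u v w

section Mat

variable {E : Type w} [Field E] [IsAlgClosed E] {r : ℕ}

/-- a matrix with separable characteristic polynomial over an algebraically closed field is
diagonalizable with distinct eigenvalues. -/
theorem exists_diagonal (M : Matrix (Fin r) (Fin r) E) (hsep : M.charpoly.Separable) :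
    ∃ (ι : Type w) (_ : Fintype ι) (_ : DecidableEq ι)
      (Ψ : Matrix (Fin r) (Fin r) E ≃ₐ[E] Matrix ι ι E) (μ : ι → E),
      Fintype.card ι = r ∧ Function.Injective μ ∧ Ψ M = Matrix.diagonal μ := by
  classical
  let s : Finset E := M.charpoly.roots.toFinset
  have hcard : s.card = r := by
    have h1 : s.card = M.charpoly.roots.card :=
      Multiset.toFinset_card_of_nodup (Polynomial.nodup_roots hsep)
    rw [h1, ← (IsAlgClosed.splits M.charpoly).natDegree_eq_card_roots, Matrix.charpoly_natDegree_eq_dim,
      Fintype.card_fin]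
  let T : Module.End E (Fin r → E) := Matrix.toLin' M
  have hev : ∀ i : s, ∃ v, T.HasEigenvector (i : E) v := by
    intro i
    apply Module.End.HasEigenvalue.exists_hasEigenvector
    rw [Module.End.hasEigenvalue_iff_isRoot_charpoly, Matrix.charpoly_toLin']
    have := i.2
    rw [Multiset.mem_toFinset, Polynomial.mem_roots'] at this
    exact this.2
  choose v hv using hev
  have hli : LinearIndependent E v :=
    Module.End.eigenvectors_linearIndependent' T (fun i : s => (i : E)) Subtype.val_injective v hv
  have hc : Fintype.card s = Module.finrank E (Fin r → E) := by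
    rw [Module.finrank_fin_fun, Fintype.card_coe, hcard]
  let b : Module.Basis s E (Fin r → E) := basisOfLinearIndependentOfCardEqFinrank' v hli hc
  have hb : ∀ i, b i = v i := fun i => by
    simp [b]
  refine ⟨s, inferInstance, inferInstance,
    Matrix.toLinAlgEquiv'.trans (LinearMap.toMatrixAlgEquiv b), fun i => (i : E), ?_,
    Subtype.val_injective, ?_⟩
  · rw [Fintype.card_coe, hcard]
  · ext i j
    simp only [AlgEquiv.trans_apply, LinearMap.toMatrixAlgEquiv_apply, Matrix.diagonal_apply]
    have h1 : Matrix.toLinAlgEquiv' M (b j) = (j : E) • b j := by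
      rw [hb]
      exact (hv j).apply_eq_smul
    rw [h1, map_smul, Finsupp.smul_apply, Module.Basis.repr_self, Finsupp.single_apply]
    by_cases hij : i = j
    · subst hij; simp
    · rw [if_neg hij, if_neg (Ne.symm hij)]; simp

theorem finrank_commute_le (M : Matrix (Fin r) (Fin r) E) (hsep : M.charpoly.Separable) :
    Module.finrank E (LinearMap.ker (LinearMap.mulLeft E M - LinearMap.mulRight E M)) ≤ r := by
  classical
  obtain ⟨ι, _, _, Ψ, μ, hcard, hμ, hΨ⟩ := exists_diagonal M hsep
  let f : LinearMap.ker (LinearMap.mulLeft E M - LinearMap.mulRight E M) →ₗ[E] (ι → E) :=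
    (Matrix.diagLinearMap ι E E).comp (Ψ.toLinearMap.comp (Submodule.subtype _))
  have hf : Function.Injective f := by
    rw [← LinearMap.ker_eq_bot, LinearMap.ker_eq_bot']
    rintro ⟨Z, hZ⟩ h0
    have hZ' : M * Z = Z * M := by
      rw [LinearMap.mem_ker, LinearMap.sub_apply, sub_eq_zero] at hZ
      simpa using hZ
    have h1 : Matrix.diagonal μ * Ψ Z = Ψ Z * Matrix.diagonal μ := by
      rw [← hΨ, ← map_mul, ← map_mul, hZ']
    have h2 : Ψ Z = 0 := by
      ext i j
      by_cases hij : i = j
      · subst hij
        exact congrFun h0 i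
      · have h3 := congrFun (congrFun h1 i) j
        rw [Matrix.diagonal_mul, Matrix.mul_diagonal] at h3
        have h4 : (μ i - μ j) * Ψ Z i j = 0 := by
          rw [sub_mul, h3, mul_comm, sub_self]
        rcases mul_eq_zero.mp h4 with h5 | h5
        · exact absurd (hμ (sub_eq_zero.mp h5)) hij
        · exact h5
    have h3 : Z = 0 := by
      have := congrArg Ψ.symm h2
      simpa using this
    exact Subtype.ext h3
  calc Module.finrank E _ ≤ Module.finrank E (ι → E) := LinearMap.finrank_le_finrank_of_injective hf
    _ = r := by rw [Module.finrank_fintype_fun_eq_card, hcard]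

end Mat

section Field

variable (k : Type u) [Field k] (A : Type v) [Ring A] [Algebra k A]

theorem charpoly_of_regular {E : Type w} [Field E] [Algebra k E] {r : ℕ}
    (φ : E ⊗[k] A ≃ₐ[E] Matrix (Fin r) (Fin r) E) (x : A) (hx : IsIntegral k x)
    (hd : (minpoly k x).natDegree = r) :
    (φ (1 ⊗ₜ x)).charpoly = (minpoly k x).map (algebraMap k E) := by
  have h1 : minpoly E (φ (1 ⊗ₜ x)) = (minpoly k x).map (algebraMap k E) := by
    rw [← RegEl.minpoly_one_tmul E x hx]
    exact minpoly.algEquiv_eq φ _
  have h2 : minpoly E (φ (1 ⊗ₜ x)) ∣ (φ (1 ⊗ₜ x)).charpoly := Matrix.minpoly_dvd_charpoly _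
  rw [h1] at h2
  refine Polynomial.eq_of_monic_of_dvd_of_natDegree_le ((minpoly.monic hx).map _)
    (Matrix.charpoly_monic _) h2 ?_
  rw [(minpoly.monic hx).natDegree_map, Matrix.charpoly_natDegree_eq_dim, Fintype.card_fin, hd]

variable [Algebra.IsCentral k A] [IsSimpleRing A] [FiniteDimensional k A]

/-- the centralizer of a regular separable element `x` of a central simple algebra is `k[x]`. -/
theorem mem_adjoin_of_commute (r : ℕ) (hA : Module.finrank k A = r ^ 2) (x : A)
    (hsep : (minpoly k x).Separable) (hd : (minpoly k x).natDegree = r) (y : A)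
    (hy : y * x = x * y) : y ∈ Algebra.adjoin k ({x} : Set A) := by
  classical
  let E := AlgebraicClosure k
  obtain ⟨n, hn, ⟨φ⟩⟩ := Groth.Agent.H7.CSA.exists_algEquiv_matrix_of_isAlgClosed k A E
  have hnr : n = r := by
    have h1 := Groth.Agent.H7.CSA.finrank_eq_of_split k A E n φ
    rw [hA, pow_two] at h1
    exact (Nat.mul_self_inj.mp h1).symm
  subst hnr
  have hx : IsIntegral k x := Algebra.IsIntegral.isIntegral x
  set M := φ (1 ⊗ₜ x) with hM
  have hMsep : M.charpoly.Separable := by
    rw [hM, charpoly_of_regular k A φ x hx hd]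
    exact hsep.map
  have hle := finrank_commute_le M hMsep
  let C : Submodule k A := LinearMap.ker (LinearMap.mulLeft k x - LinearMap.mulRight k x)
  have hC : ∀ z, z ∈ C ↔ x * z = z * x := by
    intro z
    simp only [C, LinearMap.mem_ker, LinearMap.sub_apply, sub_eq_zero, LinearMap.mulLeft_apply,
      LinearMap.mulRight_apply]
  have hCle : Module.finrank k C ≤ n := by
    let c := Module.finBasis k C
    have h1 : LinearIndependent k (fun j => (c j : A)) :=
      c.linearIndependent.map' C.subtype (Submodule.ker_subtype C)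
    have h2 : LinearIndependent E (fun j => (1 : E) ⊗ₜ[k] (c j : A)) :=
      Module.Flat.linearIndependent_one_tmul (S := E) h1
    have h3 : LinearIndependent E (fun j => φ ((1 : E) ⊗ₜ[k] (c j : A))) :=
      h2.map' φ.toLinearMap (LinearMap.ker_eq_bot.mpr φ.injective)
    have h4 : ∀ j, φ ((1 : E) ⊗ₜ[k] (c j : A)) ∈
        LinearMap.ker (LinearMap.mulLeft E M - LinearMap.mulRight E M) := by
      intro j
      have := (hC _).mp (c j).2
      simp only [LinearMap.mem_ker, LinearMap.sub_apply, sub_eq_zero, LinearMap.mulLeft_apply,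
        LinearMap.mulRight_apply, hM]
      rw [← map_mul, ← map_mul, Algebra.TensorProduct.tmul_mul_tmul,
        Algebra.TensorProduct.tmul_mul_tmul, this]
    have h5 : LinearIndependent E (fun j => (⟨_, h4 j⟩ :
        LinearMap.ker (LinearMap.mulLeft E M - LinearMap.mulRight E M))) := by
      apply LinearIndependent.of_comp (Submodule.subtype _)
      exact h3
    have h6 := h5.fintype_card_le_finrank
    rw [Fintype.card_fin] at h6
    exact h6.trans hle
  have hsub : Subalgebra.toSubmodule (Algebra.adjoin k ({x} : Set A)) ≤ C := by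
    intro z hz
    rw [hC]
    have hz' : z ∈ Algebra.adjoin k ({x} : Set A) := hz
    rw [Algebra.adjoin_singleton_eq_range_aeval] at hz'
    obtain ⟨q, rfl⟩ := hz'
    have := ((Commute.all (X : k[X]) q).map (Polynomial.aeval x : k[X] →ₐ[k] A)).eq
    simpa using this
  have heq : Subalgebra.toSubmodule (Algebra.adjoin k ({x} : Set A)) = C := by
    apply Submodule.eq_of_le_of_finrank_le hsub
    have h1 : Module.finrank k (Subalgebra.toSubmodule (Algebra.adjoin k ({x} : Set A))) = n := by
      rw [← hd]
      exact RegEl.finrank_adjoin_singleton x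
    rw [h1]
    exact hCle
  have : y ∈ C := (hC y).mpr hy.symm
  rw [← heq] at this
  exact this

end Field

section Local

open IsLocalRing

variable (R : Type u) [CommRing R] [IsLocalRing R] (A : Type u) [Ring A] [Algebra R A]
  [IsAzumaya R A]

theorem sumExtend_inl {K V ι : Type*} [Field K] [AddCommGroup V] [Module K V] (v : ι → V)
    (hs : LinearIndependent K v) (i : ι) : Module.Basis.sumExtend hs (Sum.inl i) = v i := by
  classical
  simp only [Module.Basis.sumExtend, Module.Basis.reindex_apply, Equiv.symm_symm,
    Module.Basis.extend_apply_self]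
  rfl

/-- over a local ring, if the image of `ξ` in the special fibre is regular separable, then the
powers of `ξ` are part of a basis and the centralizer of `ξ` is `R[ξ]`. -/
theorem main (r : ℕ) (hA : Module.finrank R A = r ^ 2) (ξ : A)
    (hsep : (minpoly (ResidueField R) ((1 : ResidueField R) ⊗ₜ[R] ξ)).Separable)
    (hdeg : (minpoly (ResidueField R) ((1 : ResidueField R) ⊗ₜ[R] ξ)).natDegree = r) :
    LinearIndependent R (fun i : Fin r => ξ ^ (i : ℕ)) ∧
      ∀ a : A, a * ξ = ξ * a →
        a ∈ Submodule.span R (Set.range (fun i : Fin r => ξ ^ (i : ℕ))) := by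
  classical
  haveI : Module.Free R A := Module.free_of_flat_of_isLocalRing
  haveI := Azu.isAzumaya_baseChange R (ResidueField R) A
  haveI := Azu.isSimpleRing_of_isAzumaya_field (ResidueField R) (ResidueField R ⊗[R] A)
  haveI := Azu.isCentral_of_isAzumaya_field (ResidueField R) (ResidueField R ⊗[R] A)
  have hfr : Module.finrank (ResidueField R) (ResidueField R ⊗[R] A) = r ^ 2 := by
    rw [Module.finrank_baseChange, hA]
  set x : ResidueField R ⊗[R] A := (1 : ResidueField R) ⊗ₜ[R] ξ with hx
  have hcent := mem_adjoin_of_commute (ResidueField R) (ResidueField R ⊗[R] A) r hfr x hsep hdeg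
  -- the powers of x
  have hv : LinearIndependent (ResidueField R) (fun i : Fin r => x ^ (i : ℕ)) := by
    have := linearIndependent_pow (K := ResidueField R) x
    rw [hdeg] at this
    exact this
  let b := Module.Basis.sumExtend hv
  have hb : ∀ i, b (Sum.inl i) = x ^ (i : ℕ) := fun i => sumExtend_inl _ hv i
  have hsurj : Function.Surjective (TensorProduct.mk R (ResidueField R) A 1) :=
    TensorProduct.mk_surjective R A (ResidueField R) Ideal.Quotient.mk_surjective
  choose y hy using fun j => hsurj (b (Sum.inr j))
  let f : Fin r ⊕ _ → A := Sum.elim (fun i : Fin r => ξ ^ (i : ℕ)) y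
  have hf : (TensorProduct.mk R (ResidueField R) A 1) ∘ f = b := by
    funext i
    rcases i with i | j
    · simp only [Function.comp_apply, f, Sum.elim_inl, TensorProduct.mk_apply, hb, hx,
        Algebra.TensorProduct.tmul_pow, one_pow]
    · simp only [Function.comp_apply, f, Sum.elim_inr, hy]
  have hbij : Function.Bijective (Finsupp.linearCombination R f) := by
    apply Module.IsLocalRing.linearCombination_bijective_of_flat
    rw [hf]
    exact ⟨b.linearIndependent, by
      rw [← LinearMap.range_eq_top, Finsupp.range_linearCombination]; exact b.span_eq⟩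
  have hfli : LinearIndependent R f := hbij.1
  have hfsp : Submodule.span R (Set.range f) = ⊤ := by
    rw [← Finsupp.range_linearCombination]; exact LinearMap.range_eq_top.mpr hbij.2
  refine ⟨hfli.comp Sum.inl Sum.inl_injective, ?_⟩
  -- the commutators
  have hspan : Submodule.span (ResidueField R) (Set.range fun i : Fin r => x ^ (i : ℕ)) =
      Subalgebra.toSubmodule (Algebra.adjoin (ResidueField R) ({x} : Set _)) := by
    apply Submodule.eq_of_le_of_finrank_le
    · rw [Submodule.span_le]
      rintro _ ⟨i, rfl⟩
      exact Subalgebra.pow_mem _ (Algebra.self_mem_adjoin_singleton _ _) _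
    · rw [finrank_span_eq_card hv, Fintype.card_fin]
      show Module.finrank (ResidueField R) (Algebra.adjoin (ResidueField R) ({x} : Set _)) ≤ r
      rw [RegEl.finrank_adjoin_singleton, hdeg]
  let adξ : A →ₗ[R] A := LinearMap.mulLeft R ξ - LinearMap.mulRight R ξ
  have hadξ : ∀ a, adξ a = ξ * a - a * ξ := fun a => rfl
  let g := adξ ∘ y
  have hg : LinearIndependent R g := by
    apply Module.IsLocalRing.linearIndependent_of_flat
    let ad : (ResidueField R ⊗[R] A) →ₗ[ResidueField R] (ResidueField R ⊗[R] A) :=
      LinearMap.mulLeft _ x - LinearMap.mulRight _ x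
    have h1 : (TensorProduct.mk R (ResidueField R) A 1) ∘ g = ad ∘ (b ∘ Sum.inr) := by
      funext j
      simp only [Function.comp_apply, g, hadξ, TensorProduct.mk_apply, TensorProduct.tmul_sub, ad,
        LinearMap.sub_apply, LinearMap.mulLeft_apply, LinearMap.mulRight_apply, ← hy, hx,
        Algebra.TensorProduct.tmul_mul_tmul, mul_one]
    rw [h1]
    apply (b.linearIndependent.comp Sum.inr Sum.inr_injective).map
    have hker : LinearMap.ker ad = Submodule.span (ResidueField R) (b '' (Set.range Sum.inl)) := by
      have h2 : b '' (Set.range Sum.inl) = Set.range fun i : Fin r => x ^ (i : ℕ) := by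
        rw [← Set.range_comp]
        congr 1
        funext i
        exact hb i
      rw [h2, hspan]
      ext z
      simp only [ad, LinearMap.mem_ker, LinearMap.sub_apply, sub_eq_zero,
        LinearMap.mulLeft_apply, LinearMap.mulRight_apply, Subalgebra.mem_toSubmodule]
      constructor
      · intro hz
        exact hcent z hz.symm
      · intro hz
        rw [Algebra.adjoin_singleton_eq_range_aeval] at hz
        obtain ⟨q, rfl⟩ := hz
        have := ((Commute.all (X : (ResidueField R)[X]) q).map
          (Polynomial.aeval x : (ResidueField R)[X] →ₐ[ResidueField R] _)).eq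
        simpa using this
    rw [hker, Set.range_comp]
    exact b.linearIndependent.disjoint_span_image (by
      rw [Set.disjoint_iff]
      rintro _ ⟨⟨j, rfl⟩, ⟨i, hi⟩⟩
      exact Sum.inl_ne_inr hi)
  intro a ha
  have hpow : Submodule.span R (Set.range fun i : Fin r => ξ ^ (i : ℕ)) ≤ LinearMap.ker adξ := by
    rw [Submodule.span_le]
    rintro _ ⟨i, rfl⟩
    rw [SetLike.mem_coe, LinearMap.mem_ker, hadξ, sub_eq_zero]
    exact (Commute.self_pow ξ i).eq
  have hmem : a ∈ Submodule.span R (Set.range f) := by rw [hfsp]; trivial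
  rw [Set.Sum.elim_range, Submodule.span_union, Submodule.mem_sup] at hmem
  obtain ⟨a₁, ha₁, a₂, ha₂, rfl⟩ := hmem
  obtain ⟨c, rfl⟩ := (Finsupp.mem_span_range_iff_exists_finsupp).mp ha₂
  have h1 : adξ a₁ = 0 := hpow ha₁
  have h2 : adξ (a₁ + c.sum fun i a => a • y i) = 0 := by
    rw [hadξ, sub_eq_zero]; exact ha.symm
  rw [map_add, h1, zero_add, ← Finsupp.linearCombination_apply, Finsupp.apply_linearCombination]
    at h2
  have h3 := linearIndependent_iff.mp hg c h2
  rw [h3]
  simpa using ha₁

/-- S5713 -/
theorem powers_basis (r : ℕ) (hA : Module.finrank R A = r ^ 2) (ξ : A)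
    (hsep : Algebra.IsSeparable (ResidueField R) (Algebra.adjoin (ResidueField R)
      ({(1 : ResidueField R) ⊗ₜ[R] ξ} : Set (ResidueField R ⊗[R] A))))
    (hrk : Module.finrank (ResidueField R) (Algebra.adjoin (ResidueField R)
      ({(1 : ResidueField R) ⊗ₜ[R] ξ} : Set (ResidueField R ⊗[R] A))) = r) :
    LinearIndependent R (fun i : Fin r => ξ ^ (i : ℕ)) ∧
      ξ ^ r ∈ Submodule.span R (Set.range (fun i : Fin r => ξ ^ (i : ℕ))) := by
  have h1 : (minpoly (ResidueField R) ((1 : ResidueField R) ⊗ₜ[R] ξ)).Separable := by
    have := Algebra.IsSeparable.isSeparable (ResidueField R)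
      (⟨(1 : ResidueField R) ⊗ₜ[R] ξ, Algebra.self_mem_adjoin_singleton _ _⟩ :
        Algebra.adjoin (ResidueField R) ({(1 : ResidueField R) ⊗ₜ[R] ξ} : Set _))
    rw [IsSeparable, ← minpoly.algHom_eq (Subalgebra.val _) Subtype.val_injective] at this
    exact this
  have h2 : (minpoly (ResidueField R) ((1 : ResidueField R) ⊗ₜ[R] ξ)).natDegree = r := by
    rw [← RegEl.finrank_adjoin_singleton]; exact hrk
  obtain ⟨hli, hc⟩ := main R A r hA ξ h1 h2
  exact ⟨hli, hc _ (Commute.pow_self ξ r).eq⟩

end Local

end Groth.Agent.H7.RegCent
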