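import Mathlib
import Groth.Agent.Lib.Helper7.RegCent

/-! Maximal étale subalgebras of Azumaya algebras over local rings. -/

set_option autoImplicit false
open scoped TensorProduct
open Polynomial

namespace Groth.Agent.H7.MaxEt

universe u v w

section Sep

open IsLocalRing

/-- for an integral algebra over a local ring, the extension of the maximal ideal lies in the
Jacobson radical. -/
theorem map_maximalIdeal_le_jacobson (R : Type u) [CommRing R] [IsLocalRing R] (E : Type v)
    [CommRing E] [Algebra R E] [Algebra.IsIntegral R E] :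
    (maximalIdeal R).map (algebraMap R E) ≤ Ideal.jacobson (⊥ : Ideal E) := by
  refine le_sInf ?_
  rintro M ⟨-, hM⟩
  rw [Ideal.map_le_iff_le_comap]
  haveI := hM
  have := Ideal.isMaximal_comap_of_isIntegral_of_isMaximal (R := R) M
  rw [IsLocalRing.eq_maximalIdeal this]

/-- a monic polynomial over a local ring whose reduction is separable is separable. -/
theorem separable_of_residue (R : Type u) [CommRing R] [IsLocalRing R] (P : R[X]) (hP : P.Monic)
    (hsep : (P.map (residue R)).Separable) : P.Separable := by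
  obtain ⟨a', b', hab⟩ := hsep
  obtain ⟨a, rfl⟩ := Polynomial.map_surjective (residue R) Ideal.Quotient.mk_surjective a'
  obtain ⟨b, rfl⟩ := Polynomial.map_surjective (residue R) Ideal.Quotient.mk_surjective b'
  set h := a * P + b * derivative P - 1 with hh
  have h0 : h.map (residue R) = 0 := by
    rw [hh, Polynomial.map_sub, Polynomial.map_add, Polynomial.map_mul, Polynomial.map_mul,
      ← Polynomial.derivative_map, hab, Polynomial.map_one, sub_self]
  haveI : Module.Finite R (AdjoinRoot P) := hP.finite_adjoinRoot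
  haveI : Algebra.IsIntegral R (AdjoinRoot P) := Algebra.IsIntegral.of_finite R _
  have h1 : AdjoinRoot.mk P h ∈ (maximalIdeal R).map (algebraMap R (AdjoinRoot P)) := by
    have h2 : h ∈ (maximalIdeal R).map (C : R →+* R[X]) := by
      rw [Ideal.mem_map_C_iff]
      intro n
      have := congrArg (fun q => q.coeff n) h0
      simp only [Polynomial.coeff_map, Polynomial.coeff_zero] at this
      exact (residue_eq_zero_iff _).mp this
    have h3 := Ideal.mem_map_of_mem (AdjoinRoot.mk P) h2
    rw [Ideal.map_map] at h3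
    exact h3
  have h2 := map_maximalIdeal_le_jacobson R (AdjoinRoot P) h1
  have h3 : IsUnit (AdjoinRoot.mk P h + 1) := by
    have := (Ideal.mem_jacobson_bot.mp h2) 1
    rwa [mul_one] at this
  have h4 : AdjoinRoot.mk P h + 1 = AdjoinRoot.mk P b * AdjoinRoot.mk P (derivative P) := by
    rw [hh, map_sub, map_add, map_mul, map_mul, AdjoinRoot.mk_self, mul_zero, zero_add, map_one,
      sub_add_cancel]
  rw [h4] at h3
  have h5 : IsUnit (AdjoinRoot.mk P (derivative P)) := isUnit_of_mul_isUnit_right h3
  obtain ⟨c', hc'⟩ := h5.exists_right_inv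
  obtain ⟨c, rfl⟩ := AdjoinRoot.mk_surjective c'
  rw [← map_mul, ← map_one (AdjoinRoot.mk P), AdjoinRoot.mk_eq_mk] at hc'
  obtain ⟨q, hq⟩ := hc'
  refine ⟨-q, c, ?_⟩
  linear_combination hq

/-- `R[X]/(P)` is étale for `P` monic separable. -/
theorem etale_adjoinRoot {R : Type u} [CommRing R] (P : R[X]) (hP : P.Monic)
    (hs : P.Separable) : Algebra.Etale R (AdjoinRoot P) := by
  obtain ⟨a, b, hab⟩ := hs
  let pair : StandardEtalePair R :=
    ⟨P, hP, 1, ⟨b, a, 0, by rw [pow_zero, ← hab]; ring⟩⟩
  let e1 : pair.Ring ≃ₐ[R] Localization.Away (AdjoinRoot.mk P 1) := pair.equivAwayAdjoinRoot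
  let e2 : AdjoinRoot P ≃ₐ[R] Localization.Away (AdjoinRoot.mk P 1) :=
    (IsLocalization.atUnits (AdjoinRoot P) (Submonoid.powers (AdjoinRoot.mk P 1))
      (by simp)).restrictScalars R
  exact Algebra.Etale.of_equiv (e1.trans e2.symm)

end Sep

section Gen

/-- a linear map sending a basis to a linearly independent family is injective. -/
theorem injective_of_linearIndependent_comp_basis {K : Type*} [Ring K] {M N ι : Type*}
    [AddCommGroup M] [Module K M] [AddCommGroup N] [Module K N] (b : Module.Basis ι K M)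
    (f : M →ₗ[K] N) (h : LinearIndependent K (f ∘ b)) : Function.Injective f := by
  have h1 : f = (Finsupp.linearCombination K (f ∘ b)) ∘ₗ b.repr.toLinearMap := by
    apply b.ext
    intro i
    simp
  rw [h1]
  have h' : Function.Injective (Finsupp.linearCombination K (f ∘ b)) := h
  exact h'.comp b.repr.injective

end Gen

section Main

open IsLocalRing

variable (R : Type u) [CommRing R] [IsLocalRing R] (A : Type u) [Ring A] [Algebra R A]
  [IsAzumaya R A]

theorem exists_regular_lift (r : ℕ) (hA : Module.finrank R A = r ^ 2) :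
    ∃ ξ : A, (minpoly (ResidueField R) ((1 : ResidueField R) ⊗ₜ[R] ξ)).Separable ∧
      (minpoly (ResidueField R) ((1 : ResidueField R) ⊗ₜ[R] ξ)).natDegree = r := by
  haveI : Module.Free R A := Module.free_of_flat_of_isLocalRing
  haveI := Azu.isAzumaya_baseChange R (ResidueField R) A
  haveI := Azu.isSimpleRing_of_isAzumaya_field (ResidueField R) (ResidueField R ⊗[R] A)
  haveI := Azu.isCentral_of_isAzumaya_field (ResidueField R) (ResidueField R ⊗[R] A)
  have hfr : Module.finrank (ResidueField R) (ResidueField R ⊗[R] A) = r ^ 2 := by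
    rw [Module.finrank_baseChange, hA]
  obtain ⟨x, hx1, hx2⟩ := RegEl.exists_regular (ResidueField R) (ResidueField R ⊗[R] A) r hfr
  have hsurj : Function.Surjective (TensorProduct.mk R (ResidueField R) A 1) :=
    TensorProduct.mk_surjective R A (ResidueField R) Ideal.Quotient.mk_surjective
  obtain ⟨ξ, rfl⟩ := hsurj x
  exact ⟨ξ, hx1, hx2⟩

theorem exists_poly (r : ℕ) (hA : Module.finrank R A = r ^ 2) (ξ : A)
    (hsep : (minpoly (ResidueField R) ((1 : ResidueField R) ⊗ₜ[R] ξ)).Separable)
    (hdeg : (minpoly (ResidueField R) ((1 : ResidueField R) ⊗ₜ[R] ξ)).natDegree = r) :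
    ∃ P : R[X], P.Monic ∧ P.natDegree = r ∧ Polynomial.aeval ξ P = 0 ∧
      P.map (residue R) = minpoly (ResidueField R) ((1 : ResidueField R) ⊗ₜ[R] ξ) := by
  obtain ⟨hli, hc⟩ := RegCent.main R A r hA ξ hsep hdeg
  have h1 := hc _ (Commute.pow_self ξ r).eq
  obtain ⟨c, hc1⟩ := (Submodule.mem_span_range_iff_exists_fun R).mp h1
  have hlt : (∑ i : Fin r, C (c i) * X ^ (i : ℕ)).degree < (r : WithBot ℕ) := Polynomial.degree_sum_fin_lt c
  let P : R[X] := X ^ r - ∑ i : Fin r, C (c i) * X ^ (i : ℕ)
  have hP : P.Monic := Polynomial.monic_X_pow_sub hlt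
  have hPd : P.natDegree = r := by
    apply Polynomial.natDegree_eq_of_degree_eq_some
    rw [Polynomial.degree_sub_eq_left_of_degree_lt, Polynomial.degree_X_pow]
    rw [Polynomial.degree_X_pow]
    exact hlt
  have hPξ : Polynomial.aeval ξ P = 0 := by
    simp only [P, map_sub, map_pow, Polynomial.aeval_X, map_sum, map_mul, Polynomial.aeval_C,
      ← Algebra.smul_def, hc1, sub_self]
  refine ⟨P, hP, hPd, hPξ, ?_⟩
  haveI : Module.Finite (ResidueField R) (ResidueField R ⊗[R] A) := inferInstance
  have hint : IsIntegral (ResidueField R) ((1 : ResidueField R) ⊗ₜ[R] ξ) :=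
    Algebra.IsIntegral.isIntegral _
  have h2 : Polynomial.aeval ((1 : ResidueField R) ⊗ₜ[R] ξ) (P.map (residue R)) = 0 := by
    have h3 := Polynomial.aeval_map_algebraMap (ResidueField R)
      ((1 : ResidueField R) ⊗ₜ[R] ξ) P
    have h4 := Polynomial.aeval_algHom_apply
      (Algebra.TensorProduct.includeRight : A →ₐ[R] ResidueField R ⊗[R] A) ξ P
    rw [hPξ, map_zero, Algebra.TensorProduct.includeRight_apply] at h4
    rw [← h4, ← h3]
    rfl
  have h3 := minpoly.dvd (ResidueField R) _ h2
  refine Polynomial.eq_of_monic_of_dvd_of_natDegree_le (minpoly.monic hint) (hP.map _) h3 ?_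
  rw [hP.natDegree_map, hPd, hdeg]

/-- S5710 -/
theorem exists_maximal_etale (r : ℕ) (hA : Module.finrank R A = r ^ 2) :
    ∃ (E : Type u) (_ : CommRing E) (_ : Algebra R E), Algebra.Etale R E ∧ Module.Finite R E ∧
      Module.Free R E ∧ Module.finrank R E = r ∧ ∃ u : E →ₐ[R] A,
        Function.Injective (u.toLinearMap.lTensor (ResidueField R)) := by
  obtain ⟨ξ, hsep, hdeg⟩ := exists_regular_lift R A r hA
  obtain ⟨P, hP, hPd, hPξ, hPm⟩ := exists_poly R A r hA ξ hsep hdeg
  have hPsep : P.Separable := separable_of_residue R P hP (by rw [hPm]; exact hsep)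
  refine ⟨AdjoinRoot P, inferInstance, inferInstance, etale_adjoinRoot P hP hPsep,
    hP.finite_adjoinRoot, hP.free_adjoinRoot, ?_, ?_⟩
  · rw [(AdjoinRoot.powerBasis' hP).finrank, AdjoinRoot.powerBasis'_dim, hPd]
  · let u : AdjoinRoot P →ₐ[R] A := Ideal.Quotient.liftₐ (Ideal.span {P}) (Polynomial.aeval ξ) (by
      intro q hq
      obtain ⟨q', rfl⟩ := Ideal.mem_span_singleton.mp hq
      rw [map_mul, hPξ, zero_mul])
    have hu : u (AdjoinRoot.root P) = ξ := by
      show Ideal.Quotient.liftₐ (Ideal.span {P}) (Polynomial.aeval ξ) _ (Ideal.Quotient.mk _ X) = ξ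
      rw [Ideal.Quotient.liftₐ_apply, Ideal.Quotient.lift_mk]
      simp
    refine ⟨u, ?_⟩
    let b := (AdjoinRoot.powerBasis' hP).basis.baseChange (ResidueField R)
    rw [← LinearMap.baseChange_eq_ltensor]
    apply injective_of_linearIndependent_comp_basis b
    have h1 : (u.toLinearMap.baseChange (ResidueField R)) ∘ b =
        fun i : Fin P.natDegree => ((1 : ResidueField R) ⊗ₜ[R] ξ) ^ (i : ℕ) := by
      funext i
      simp only [Function.comp_apply, b, Module.Basis.baseChange_apply, LinearMap.baseChange_tmul,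
        AlgHom.toLinearMap_apply, PowerBasis.basis_eq_pow, AdjoinRoot.powerBasis'_gen, map_pow, hu,
        Algebra.TensorProduct.tmul_pow, one_pow]
    rw [h1]
    have := linearIndependent_pow (K := ResidueField R) ((1 : ResidueField R) ⊗ₜ[R] ξ)
    rw [show (minpoly (ResidueField R) ((1 : ResidueField R) ⊗ₜ[R] ξ)).natDegree = P.natDegree from
      hdeg.trans hPd.symm] at this
    exact this

end Main

end Groth.Agent.H7.MaxEt
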