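import Mathlib
import Groth.Agent.Lib.Helper7.MaxEt
import Groth.Agent.Lib.Helper7.LG.AzHom
import Groth.Agent.Lib.Helper9.FinLocal

/-! An Azumaya algebra over a local ring is free over a maximal étale subalgebra and split by it. -/

set_option autoImplicit false
open scoped TensorProduct
open Polynomial

namespace Groth.Agent.H7.SplitEt

universe u v w

section Mat

variable {Ω : Type w} [Field Ω] [IsAlgClosed Ω] {r : ℕ}

/-- right multiplication by `M - l` has kernel of dimension at most `r` if `M` has separable
characteristic polynomial. -/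
theorem finrank_ker_mulRight_le (M : Matrix (Fin r) (Fin r) Ω) (hsep : M.charpoly.Separable)
    (l : Ω) :
    Module.finrank Ω (LinearMap.ker (LinearMap.mulRight Ω (M - algebraMap Ω _ l))) ≤ r := by
  classical
  obtain ⟨ι, _, _, Ψ, μ, hcard, hμ, hΨ⟩ := RegCent.exists_diagonal M hsep
  have hΨ' : Ψ (M - algebraMap Ω _ l) = Matrix.diagonal (fun j => μ j - l) := by
    rw [map_sub, hΨ, AlgEquiv.commutes, Matrix.algebraMap_eq_diagonal, ← Matrix.diagonal_sub]
    rfl
  have hker : ∀ Y ∈ LinearMap.ker (LinearMap.mulRight Ω (M - algebraMap Ω _ l)),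
      ∀ i j, μ j ≠ l → Ψ Y i j = 0 := by
    intro Y hY i j hj
    rw [LinearMap.mem_ker, LinearMap.mulRight_apply] at hY
    have h1 : Ψ Y * Matrix.diagonal (fun j => μ j - l) = 0 := by
      rw [← hΨ', ← map_mul, hY, map_zero]
    have h2 := congrFun (congrFun h1 i) j
    rw [Matrix.mul_diagonal, Matrix.zero_apply] at h2
    rcases mul_eq_zero.mp h2 with h3 | h3
    · exact h3
    · exact absurd (sub_eq_zero.mp h3) hj
  by_cases h : ∃ j₀, μ j₀ = l
  · obtain ⟨j₀, hj₀⟩ := h
    let f : LinearMap.ker (LinearMap.mulRight Ω (M - algebraMap Ω _ l)) →ₗ[Ω] (ι → Ω) :=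
      { toFun := fun Y i => Ψ Y.1 i j₀
        map_add' := fun Y Z => by funext i; simp
        map_smul' := fun c Y => by funext i; simp }
    have hf : Function.Injective f := by
      rw [← LinearMap.ker_eq_bot, LinearMap.ker_eq_bot']
      rintro ⟨Y, hY⟩ h0
      have h2 : Ψ Y = 0 := by
        ext i j
        by_cases hj : j = j₀
        · subst hj
          exact congrFun h0 i
        · apply hker Y hY
          intro hjl
          exact hj (hμ (hjl.trans hj₀.symm))
      have h3 : Y = 0 := by
        have := congrArg Ψ.symm h2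
        simpa using this
      exact Subtype.ext h3
    calc Module.finrank Ω _ ≤ Module.finrank Ω (ι → Ω) :=
          LinearMap.finrank_le_finrank_of_injective hf
      _ = r := by rw [Module.finrank_fintype_fun_eq_card, hcard]
  · push Not at h
    have hbot : LinearMap.ker (LinearMap.mulRight Ω (M - algebraMap Ω _ l)) = ⊥ := by
      rw [eq_bot_iff]
      intro Y hY
      have h2 : Ψ Y = 0 := by
        ext i j
        exact hker Y hY i j (h j)
      have h3 : Y = 0 := by
        have := congrArg Ψ.symm h2
        simpa using this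
      rw [h3]
      exact Submodule.zero_mem _
    rw [hbot, finrank_bot]
    exact Nat.zero_le r

/-- a monic polynomial of degree `r` with `r` distinct roots is separable. -/
theorem separable_of_injective_roots {K : Type*} [Field K] {ι : Type*} [Fintype ι] (p : K[X])
    (hp : p.Monic) (c : ι → K) (hc : Function.Injective c) (hcard : Fintype.card ι = p.natDegree)
    (hroot : ∀ i, p.IsRoot (c i)) : p.Separable := by
  classical
  have hdvd : (∏ i, (X - C (c i))) ∣ p := by
    apply Finset.prod_dvd_of_coprime
    · intro i _ j _ hij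
      apply Polynomial.isCoprime_X_sub_C_of_isUnit_sub
      exact (sub_ne_zero.mpr (fun h => hij (hc h))).isUnit
    · intro i _
      exact Polynomial.dvd_iff_isRoot.mpr (hroot i)
  have heq : p = ∏ i, (X - C (c i)) := by
    refine Polynomial.eq_of_monic_of_dvd_of_natDegree_le
      (Polynomial.monic_prod_of_monic _ _ fun i _ => Polynomial.monic_X_sub_C _) hp hdvd ?_
    rw [Polynomial.natDegree_finset_prod_X_sub_C_eq_card, ← hcard]
    simp
  rw [heq]
  exact Polynomial.separable_prod_X_sub_C_iff.mpr hc

end Mat

section Setup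

variable {R : Type u} [CommRing R] {A : Type v} [Ring A] [Algebra R A]
  {E : Type w} [CommRing E] [Algebra R E] (u : E →ₐ[R] A) [Module E A]
  (hmod : ∀ (e : E) (a : A), e • a = a * u e)

include hmod in
theorem isScalarTower : IsScalarTower R E A := by
  refine ⟨fun s e a => ?_⟩
  rw [hmod, hmod, map_smul, mul_smul_comm]

variable [IsScalarTower R E A]

/-- left multiplication, as `E`-linear endomorphisms for the right `E`-structure. -/
def leftMul : A →ₐ[R] Module.End E A where
  toFun a :=
    { toFun := fun y => a * y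
      map_add' := mul_add a
      map_smul' := fun e y => by simp only [hmod, mul_assoc, RingHom.id_apply] }
  map_one' := by ext y; simp
  map_mul' a b := by ext y; simp [mul_assoc]
  map_zero' := by ext y; simp
  map_add' a b := by ext y; simp [add_mul]
  commutes' s := by
    ext y
    simp [Algebra.smul_def]

@[simp] theorem leftMul_apply (a y : A) : leftMul u hmod a y = a * y := rfl

end Setup

section LB

variable {R : Type u} [CommRing R] {A : Type u} [Ring A] [Algebra R A] [IsAzumaya R A]
  {E : Type u} [CommRing E] [Algebra R E] (u : E →ₐ[R] A) [Module E A]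
  (hmod : ∀ (e : E) (a : A), e • a = a * u e) [IsScalarTower R E A]
  (F : Type w) [Field F] [Algebra E F] [Algebra R F] [IsScalarTower R E F]

/-- the action of `F ⊗[R] A` on `F ⊗[E] A`. -/
noncomputable def act : F ⊗[R] A →ₐ[F] Module.End F (F ⊗[E] A) :=
  Algebra.TensorProduct.lift (Algebra.ofId F _)
    (((Module.End.baseChangeHom E F A).restrictScalars R).comp (leftMul u hmod))
    (fun x y => by
      rw [Algebra.ofId_apply]
      exact Algebra.commute_algebraMap_left _ _)

include u hmod in
theorem le_finrank_of_nontrivial [Module.Finite E A] [Module.Free R A] (r : ℕ)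
    (hA : Module.finrank R A = r ^ 2) [Nontrivial (F ⊗[E] A)] :
    r ≤ Module.finrank F (F ⊗[E] A) := by
  haveI : Nontrivial R := (algebraMap R F).domain_nontrivial
  haveI := Azu.isAzumaya_baseChange R F A
  haveI := Azu.isSimpleRing_of_isAzumaya_field F (F ⊗[R] A)
  have hinj : Function.Injective (act u hmod F) := (act u hmod F).toRingHom.injective
  have h1 := LinearMap.finrank_le_finrank_of_injective (f := (act u hmod F).toLinearMap) hinj
  rw [Module.finrank_baseChange, hA] at h1
  have h2 : Module.finrank F (Module.End F (F ⊗[E] A)) =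
      Module.finrank F (F ⊗[E] A) * Module.finrank F (F ⊗[E] A) := Module.finrank_linearMap ..
  rw [h2, pow_two] at h1
  exact Nat.mul_self_le_mul_self_iff.mp h1

end LB

section UB

variable {R : Type u} [CommRing R] {A : Type u} [Ring A] [Algebra R A]
  {E : Type u} [CommRing E] [Algebra R E]
  (u : E →ₐ[R] A) [Module E A]
  (hmod : ∀ (e : E) (a : A), e • a = a * u e) [IsScalarTower R E A]
  (Ω : Type u) [Field Ω] [Algebra E Ω] [Algebra R Ω] [IsScalarTower R E Ω]

/-- the natural projection `Ω ⊗[R] A → Ω ⊗[E] A`. -/
noncomputable def proj : Ω ⊗[R] A →ₗ[Ω] Ω ⊗[E] A :=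
  TensorProduct.AlgebraTensorModule.lift
    { toFun := fun ω => (TensorProduct.mk E Ω A ω).restrictScalars R
      map_add' := fun ω ω' => by ext a; simp [TensorProduct.add_tmul]
      map_smul' := fun c ω => by ext a; simp [TensorProduct.smul_tmul'] }

@[simp] theorem proj_tmul (ω : Ω) (a : A) : proj (R := R) (E := E) Ω (ω ⊗ₜ[R] a) = ω ⊗ₜ[E] a := rfl

theorem proj_surjective : Function.Surjective (proj (R := R) (A := A) (E := E) Ω) := by
  intro z
  induction z using TensorProduct.induction_on with
  | zero => exact ⟨0, map_zero _⟩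
  | tmul ω a => exact ⟨ω ⊗ₜ a, rfl⟩
  | add x y hx hy =>
    obtain ⟨x', rfl⟩ := hx
    obtain ⟨y', rfl⟩ := hy
    exact ⟨x' + y', map_add _ _ _⟩

/-- the point of `Ω ⊗ E` given by the `E`-algebra structure of `Ω`. -/
noncomputable def pt : Ω ⊗[R] E →ₐ[Ω] Ω :=
  Algebra.TensorProduct.lift (AlgHom.id Ω Ω) (IsScalarTower.toAlgHom R E Ω)
    (fun _ _ => Commute.all _ _)

include hmod in
theorem proj_mul_map (n : Ω ⊗[R] A) (t : Ω ⊗[R] E) :
    proj (R := R) (E := E) Ω (n * Algebra.TensorProduct.map (AlgHom.id Ω Ω) u t) =
      pt (R := R) (E := E) Ω t • proj (R := R) (E := E) Ω n := by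
  induction t using TensorProduct.induction_on with
  | zero => simp
  | add x y hx hy => rw [map_add, mul_add, map_add, hx, hy, map_add, add_smul]
  | tmul ω' e =>
    induction n using TensorProduct.induction_on with
    | zero => simp
    | add x y hx hy => rw [add_mul, map_add, hx, hy, map_add, smul_add]
    | tmul ω a =>
      simp only [Algebra.TensorProduct.map_tmul, AlgHom.coe_id, id_eq,
        Algebra.TensorProduct.tmul_mul_tmul, proj_tmul, pt, Algebra.TensorProduct.lift_tmul,
        IsScalarTower.coe_toAlgHom', TensorProduct.smul_tmul', smul_eq_mul]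
      rw [← hmod, ← TensorProduct.smul_tmul, Algebra.smul_def]
      congr 1
      ring

variable [IsAzumaya R A] [Algebra.Etale R E] [Module.Finite R E] [Module.Free R E]
  [IsAlgClosed Ω]

include hmod in
theorem finrank_le (r : ℕ) [Module.Free R A] (hA : Module.finrank R A = r ^ 2)
    (hE : Module.finrank R E = r)
    (hu : ∃ l : A →ₗ[R] E, l ∘ₗ u.toLinearMap = LinearMap.id) :
    Module.finrank Ω (Ω ⊗[E] A) ≤ r := by
  classical
  haveI : Nontrivial R := (algebraMap R Ω).domain_nontrivial
  haveI := Azu.isAzumaya_baseChange R Ω A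
  haveI := Azu.isSimpleRing_of_isAzumaya_field Ω (Ω ⊗[R] A)
  obtain ⟨n, _, ⟨φ⟩⟩ := IsSimpleRing.exists_algEquiv_matrix_of_isAlgClosed Ω (Ω ⊗[R] A)
  have hn : n = r := by
    have h1 : Module.finrank Ω (Ω ⊗[R] A) = n * n := by
      rw [φ.toLinearEquiv.finrank_eq, Module.finrank_matrix]; simp
    rw [Module.finrank_baseChange, hA, pow_two] at h1
    exact (Nat.mul_self_inj.mp h1).symm
  subst hn
  -- the étale algebra `T = Ω ⊗ E`
  let τ : (Ω ⊗[R] E) ≃ₐ[Ω] (PrimeSpectrum (Ω ⊗[R] E) → Ω) :=
    Algebra.FormallyEtale.equivPiOfIsSepClosed Ω (Ω ⊗[R] E)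
  haveI : IsArtinianRing (Ω ⊗[R] E) := IsArtinianRing.of_finite Ω _
  haveI : Fintype (PrimeSpectrum (Ω ⊗[R] E)) := Fintype.ofFinite _
  have hcard : Fintype.card (PrimeSpectrum (Ω ⊗[R] E)) = n := by
    have := τ.toLinearEquiv.finrank_eq
    rw [Module.finrank_baseChange, hE, Module.finrank_fintype_fun_eq_card] at this
    exact this.symm
  obtain ⟨c, hc⟩ : ∃ c : PrimeSpectrum (Ω ⊗[R] E) → Ω, Function.Injective c :=
    ⟨_, ((Fintype.equivFin _).toEmbedding.trans
      (Fin.valEmbedding.trans (Infinite.natEmbedding Ω))).injective⟩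
  let t₀ := τ.symm c
  obtain ⟨l, hl⟩ := hu
  have hũ : Function.Injective (Algebra.TensorProduct.map (AlgHom.id Ω Ω) u) := by
    have key : ∀ t, (l.lTensor Ω) (Algebra.TensorProduct.map (AlgHom.id Ω Ω) u t) = t := by
      intro t
      induction t using TensorProduct.induction_on with
      | zero => simp
      | tmul ω e =>
        simp only [Algebra.TensorProduct.map_tmul, AlgHom.coe_id, id_eq, LinearMap.lTensor_tmul]
        congr 1
        exact LinearMap.congr_fun hl e
      | add x y hx hy => rw [map_add, map_add, hx, hy]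
    exact Function.LeftInverse.injective key
  set x := Algebra.TensorProduct.map (AlgHom.id Ω Ω) u t₀ with hx
  set M := φ x with hM
  have hroot : ∀ i, M.charpoly.IsRoot (c i) := by
    intro i
    have h1 : minpoly Ω M = minpoly Ω t₀ := by
      rw [hM, minpoly.algEquiv_eq φ x]
      exact minpoly.algHom_eq _ hũ t₀
    have h2 : (minpoly Ω t₀).IsRoot (c i) := by
      let ev : (Ω ⊗[R] E) →ₐ[Ω] Ω := (Pi.evalAlgHom Ω (fun _ => Ω) i).comp τ.toAlgHom
      have hev : ev t₀ = c i := by simp [ev, t₀]
      have h3 := Polynomial.aeval_algHom_apply ev t₀ (minpoly Ω t₀)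
      rw [minpoly.aeval, map_zero, hev] at h3
      rw [Polynomial.IsRoot, ← Polynomial.coe_aeval_eq_eval]
      exact h3
    have h3 := Matrix.minpoly_dvd_charpoly M
    rw [h1] at h3
    exact h2.dvd h3
  have hsep : M.charpoly.Separable :=
    separable_of_injective_roots _ (Matrix.charpoly_monic M) c hc
      (by rw [hcard, Matrix.charpoly_natDegree_eq_dim, Fintype.card_fin]) hroot
  set lam := pt (R := R) (E := E) Ω t₀ with hlam
  have hbound := finrank_ker_mulRight_le M hsep lam
  -- the dimension count
  let ρ : (Ω ⊗[R] A) →ₗ[Ω] (Ω ⊗[R] A) := LinearMap.mulRight Ω (x - algebraMap Ω _ lam)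
  have hle : LinearMap.range ρ ≤ LinearMap.ker (proj (R := R) (A := A) (E := E) Ω) := by
    rintro _ ⟨y, rfl⟩
    rw [LinearMap.mem_ker]
    simp only [ρ, LinearMap.mulRight_apply, mul_sub, map_sub]
    rw [hx, proj_mul_map u hmod Ω y t₀, ← Algebra.commutes, ← Algebra.smul_def, map_smul, sub_self]
  have h1 := LinearMap.finrank_range_add_finrank_ker (proj (R := R) (A := A) (E := E) Ω)
  have h2 := LinearMap.finrank_range_add_finrank_ker ρ
  have h3 : Module.finrank Ω (LinearMap.range (proj (R := R) (A := A) (E := E) Ω)) =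
      Module.finrank Ω (Ω ⊗[E] A) := by
    rw [LinearMap.range_eq_top.mpr (proj_surjective Ω), finrank_top]
  have h4 := Submodule.finrank_mono hle
  have h5 : Module.finrank Ω (LinearMap.ker ρ) ≤
      Module.finrank Ω (LinearMap.ker (LinearMap.mulRight Ω (M - algebraMap Ω _ lam))) := by
    let f : LinearMap.ker ρ →ₗ[Ω]
        LinearMap.ker (LinearMap.mulRight Ω (M - algebraMap Ω _ lam)) :=
      (φ.toLinearMap.comp (Submodule.subtype _)).codRestrict _ (by
        rintro ⟨y, hy⟩
        rw [LinearMap.mem_ker] at hy ⊢
        simp only [ρ, LinearMap.mulRight_apply] at hy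
        simp only [LinearMap.coe_comp, Submodule.coe_subtype, Function.comp_apply,
          AlgEquiv.toLinearMap_apply, LinearMap.mulRight_apply, hM]
        rw [← AlgEquiv.commutes φ lam, ← map_sub, ← map_mul, hy, map_zero])
    apply LinearMap.finrank_le_finrank_of_injective (f := f)
    intro a b hab
    have := congrArg Subtype.val hab
    simp only [f, LinearMap.codRestrict_apply, LinearMap.coe_comp, Submodule.coe_subtype,
      Function.comp_apply, AlgEquiv.toLinearMap_apply] at this
    exact Subtype.ext (φ.injective this)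
  omega

end UB

section Main

open IsLocalRing

variable {R : Type u} [CommRing R] {A : Type u} [Ring A] [Algebra R A]
  {E : Type u} [CommRing E] [Algebra R E]
  (u : E →ₐ[R] A) [Module E A]
  (hmod : ∀ (e : E) (a : A), e • a = a * u e)

include hmod in
theorem nontrivial_quot (hinj : Function.Injective u) [Module.Finite E A] (n : Ideal E)
    (hn : n ≠ ⊤) : Nontrivial ((E ⧸ n) ⊗[E] A) := by
  by_contra hsub
  rw [not_nontrivial_iff_subsingleton] at hsub
  have h1 : Subsingleton (A ⧸ (n • (⊤ : Submodule E A))) :=
    (TensorProduct.quotTensorEquivQuotSMul A n).symm.toEquiv.subsingleton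
  rw [Submodule.Quotient.subsingleton_iff] at h1
  obtain ⟨e, he1, he2⟩ := Submodule.exists_sub_one_mem_and_smul_eq_zero_of_fg_of_le_smul n
    (⊤ : Submodule E A) Module.Finite.fg_top (by rw [h1])
  have h2 := he2 1 trivial
  rw [hmod, one_mul] at h2
  have h3 : e = 0 := hinj (h2.trans (map_zero u).symm)
  rw [h3, zero_sub] at he1
  apply hn
  rw [Ideal.eq_top_iff_one]
  have := n.neg_mem he1
  simpa using this

variable [IsLocalRing R] [IsAzumaya R A] [Algebra.Etale R E] [Module.Finite R E] [Module.Free R E]

include hmod in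
theorem finrank_fibre [IsScalarTower R E A] (r : ℕ) (hA : Module.finrank R A = r ^ 2)
    (hE : Module.finrank R E = r)
    (hu : Function.Injective (u.toLinearMap.lTensor (ResidueField R)))
    (n : Ideal E) [hn : n.IsMaximal] :
    Module.finrank (E ⧸ n) ((E ⧸ n) ⊗[E] A) = r := by
  haveI : Module.Free R A := Module.free_of_flat_of_isLocalRing
  have hsplit := (IsLocalRing.split_injective_iff_lTensor_residueField_injective
    u.toLinearMap).mpr hu
  have hinj : Function.Injective u := by
    obtain ⟨l, hl⟩ := hsplit
    exact Function.LeftInverse.injective (g := l) (fun e => LinearMap.congr_fun hl e)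
  haveI : Module.Finite E A := Module.Finite.of_restrictScalars_finite R E A
  letI := Ideal.Quotient.field n
  haveI := nontrivial_quot u hmod hinj n hn.ne_top
  apply le_antisymm
  · have h1 := finrank_le u hmod (AlgebraicClosure (E ⧸ n)) r hA hE hsplit
    have e1 := TensorProduct.AlgebraTensorModule.cancelBaseChange E (E ⧸ n)
      (AlgebraicClosure (E ⧸ n)) (AlgebraicClosure (E ⧸ n)) A
    rw [← e1.finrank_eq, Module.finrank_baseChange] at h1
    exact h1
  · exact le_finrank_of_nontrivial u hmod (E ⧸ n) r hA

include hmod in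
/-- S5711 -/
theorem free_and_split (r : ℕ) (hA : Module.finrank R A = r ^ 2)
    (hE : Module.finrank R E = r)
    (hu : Function.Injective (u.toLinearMap.lTensor (ResidueField R))) :
    Module.Free E A ∧ Module.finrank E A = r ∧ Nonempty ((E ⊗[R] A) ≃ₐ[E] Module.End E A) := by
  haveI := isScalarTower (R := R) u hmod
  haveI : Module.Free R A := Module.free_of_flat_of_isLocalRing
  haveI : Module.Finite E A := Module.Finite.of_restrictScalars_finite R E A
  haveI : Finite (MaximalSpectrum E) := Groth.Agent.H9.FinLocal.finite_maximalSpectrum R E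
  haveI : Module.Projective E A := Algebra.FormallyUnramified.projective_of_restrictScalars R E A
  obtain ⟨b⟩ := Module.nonempty_basis_of_flat_of_finrank_eq E A r (fun P => by
    haveI := P.isMaximal
    exact finrank_fibre u hmod r hA hE hu P.1)
  haveI : Module.Free E A := Module.Free.of_basis b
  haveI : Nontrivial A := by
    haveI : Nontrivial R := inferInstance
    exact (FaithfulSMul.algebraMap_injective R A).nontrivial
  haveI : Nontrivial E := (u : E →+* A).domain_nontrivial
  have hfr : Module.finrank E A = r := by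
    rw [Module.finrank_eq_card_basis b, Fintype.card_fin]
  refine ⟨inferInstance, hfr, ?_⟩
  haveI := Azu.isAzumaya_baseChange R E A
  haveI := Azu.isAzumaya_end_of_free E A
  let Φ : E ⊗[R] A →ₐ[E] Module.End E A :=
    Algebra.TensorProduct.lift (Algebra.ofId E _) (leftMul u hmod)
      (fun x y => by
        rw [Algebra.ofId_apply]
        exact Algebra.commute_algebraMap_left _ _)
  have hΦ : Function.Bijective Φ := by
    apply Groth.Agent.H7.LG.algHom_bijective_of_azumaya
    intro m hm
    letI := Ideal.Quotient.field m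
    rw [Module.finrank_baseChange, Module.finrank_baseChange, Module.finrank_baseChange, hA,
      Module.finrank_linearMap, hfr, pow_two]
  exact ⟨AlgEquiv.ofBijective Φ hΦ⟩

end Main

end Groth.Agent.H7.SplitEt
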