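import Mathlib
import Groth.Agent.Lib.Helper7.SplitEt

/-! General lemmas for spreading out the étale splitting of an Azumaya algebra. -/

set_option autoImplicit false
open scoped TensorProduct
open Polynomial

namespace Groth.Agent.H7.Spread

universe u v w

section MatUnits

variable {L : Type u} [CommRing L] {C : Type v} [Ring C] [Algebra L C] {r : ℕ}

/-- a system of matrix units. -/
def IsMatUnits (e : Fin r → Fin r → C) : Prop :=
  (∀ i j k l, e i j * e k l = if j = k then e i l else 0) ∧ ∑ i, e i i = 1

/-- matrix units give an algebra map from the matrix algebra. -/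
noncomputable def algHomOfMatUnits (e : Fin r → Fin r → C) (he : IsMatUnits e) :
    Matrix (Fin r) (Fin r) L →ₐ[L] C :=
  AlgHom.ofLinearMap
    { toFun := fun M => ∑ i, ∑ j, M i j • e i j
      map_add' := fun M N => by
        simp only [Matrix.add_apply, add_smul, Finset.sum_add_distrib]
      map_smul' := fun c M => by
        simp only [Matrix.smul_apply, smul_eq_mul, mul_smul, Finset.smul_sum, RingHom.id_apply] }
    (by
      show ∑ i, ∑ j, (1 : Matrix (Fin r) (Fin r) L) i j • e i j = 1
      rw [← he.2]
      refine Finset.sum_congr rfl fun i _ => ?_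
      rw [Finset.sum_eq_single i]
      · simp
      · intro j _ hj
        rw [Matrix.one_apply_ne hj.symm, zero_smul]
      · intro h; exact absurd (Finset.mem_univ i) h)
    (by
      intro M N
      show ∑ i, ∑ j, (M * N) i j • e i j =
        (∑ i, ∑ j, M i j • e i j) * (∑ k, ∑ l, N k l • e k l)
      have key : ∀ i j k l, (M i j • e i j) * (N k l • e k l) =
          if j = k then (M i j * N k l) • e i l else 0 := by
        intro i j k l
        rw [smul_mul_smul_comm, he.1]
        split_ifs <;> simp
      rw [Finset.sum_mul]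
      refine Finset.sum_congr rfl fun i _ => ?_
      rw [Finset.sum_mul]
      -- goal: ∑ l, (M*N) i l • e i l = ∑ j, (M i j • e i j) * ∑ k, ∑ l, N k l • e k l
      have h1 : ∀ j, (M i j • e i j) * (∑ k, ∑ l, N k l • e k l) =
          ∑ l, (M i j * N j l) • e i l := by
        intro j
        rw [Finset.mul_sum, Finset.sum_eq_single j]
        · rw [Finset.mul_sum]
          refine Finset.sum_congr rfl fun l _ => ?_
          rw [key, if_pos rfl]
        · intro k _ hk
          rw [Finset.mul_sum]
          refine Finset.sum_eq_zero fun l _ => ?_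
          rw [key, if_neg hk.symm]
        · intro h; exact absurd (Finset.mem_univ j) h
      simp_rw [h1]
      rw [Finset.sum_comm]
      refine Finset.sum_congr rfl fun l _ => ?_
      rw [Matrix.mul_apply, Finset.sum_smul])

theorem isMatUnits_of_ringEquiv {L' : Type*} [CommRing L'] (Θ : C ≃+* Matrix (Fin r) (Fin r) L') :
    IsMatUnits (fun i j => Θ.symm (Matrix.single i j (1 : L'))) := by
  constructor
  · intro i j k l
    rw [← map_mul]
    by_cases hjk : j = k
    · subst hjk
      rw [if_pos rfl, Matrix.single_mul_single_same, mul_one]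
    · rw [if_neg hjk, Matrix.single_mul_single_of_ne (h := hjk), map_zero]
  · rw [← map_sum]
    have : ∑ i : Fin r, Matrix.single i i (1 : L') = 1 := by
      have h := Matrix.matrix_eq_sum_single (1 : Matrix (Fin r) (Fin r) L')
      rw [h]
      refine Finset.sum_congr rfl fun i _ => ?_
      rw [Finset.sum_eq_single i]
      · simp
      · intro j _ hj
        rw [Matrix.one_apply_ne hj.symm]
        simp
      · intro h; exact absurd (Finset.mem_univ i) h
    rw [this, map_one]

theorem IsMatUnits.map {C' : Type*} [Ring C'] (g : C →+* C') {e : Fin r → Fin r → C}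
    (he : IsMatUnits e) : IsMatUnits (fun i j => g (e i j)) := by
  constructor
  · intro i j k l
    rw [← map_mul, he.1]
    split_ifs <;> simp
  · rw [← map_sum, he.2, map_one]

end MatUnits

section BC

variable {R : Type u} [CommRing R] (R₁ : Type v) [CommRing R₁] [Algebra R R₁] (P : R[X])

/-- base change of `R[X]/(P)`. -/
noncomputable def tensorAdjoinRootEquiv :
    R₁ ⊗[R] AdjoinRoot P ≃ₐ[R₁] AdjoinRoot (P.map (algebraMap R R₁)) :=
  AlgEquiv.ofAlgHom
    (Algebra.TensorProduct.lift (Algebra.ofId R₁ _)
      (AdjoinRoot.liftAlgHom P (Algebra.ofId R (AdjoinRoot (P.map (algebraMap R R₁))))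
        (AdjoinRoot.root _) (by
          have h := AdjoinRoot.eval₂_root (P.map (algebraMap R R₁))
          rw [Polynomial.eval₂_map] at h
          convert h using 2
          ext x
          simp [Algebra.ofId_apply, IsScalarTower.algebraMap_apply R R₁ (AdjoinRoot (P.map (algebraMap R R₁))),
            AdjoinRoot.algebraMap_eq]))
      (fun _ _ => Commute.all _ _))
    (AdjoinRoot.liftAlgHom (P.map (algebraMap R R₁)) (Algebra.ofId R₁ (R₁ ⊗[R] AdjoinRoot P))
      ((1 : R₁) ⊗ₜ[R] AdjoinRoot.root P) (by
        rw [Polynomial.eval₂_map]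
        have h1 : (Algebra.ofId R₁ (R₁ ⊗[R] AdjoinRoot P) : R₁ →+* _).comp (algebraMap R R₁) =
            algebraMap R (R₁ ⊗[R] AdjoinRoot P) := by
          ext x
          simp [Algebra.ofId_apply, Algebra.TensorProduct.algebraMap_apply,
            IsScalarTower.algebraMap_apply R R₁ (R₁ ⊗[R] AdjoinRoot P)]
        rw [h1, ← Polynomial.aeval_def]
        have h2 := Polynomial.aeval_algHom_apply
          (Algebra.TensorProduct.includeRight : AdjoinRoot P →ₐ[R] R₁ ⊗[R] AdjoinRoot P)
          (AdjoinRoot.root P) P
        rw [Algebra.TensorProduct.includeRight_apply] at h2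
        rw [h2, AdjoinRoot.aeval_eq, AdjoinRoot.mk_self, map_zero]))
    (by
      apply AdjoinRoot.algHom_ext
      simp)
    (by
      apply Algebra.TensorProduct.ext
      · ext
      · apply AdjoinRoot.algHom_ext
        simp)

theorem etale_tensor_adjoinRoot (hP : P.Monic) (hs : (P.map (algebraMap R R₁)).Separable) :
    Algebra.Etale R₁ (R₁ ⊗[R] AdjoinRoot P) := by
  haveI := MaxEt.etale_adjoinRoot (P.map (algebraMap R R₁)) (hP.map _) hs
  exact Algebra.Etale.of_equiv (tensorAdjoinRootEquiv R₁ P).symm

end BC

section Scaling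

variable {k : Type u} [Field k] {A : Type v} [Ring A] [Algebra k A]

/-- scaling a regular separable element by a nonzero scalar. -/
theorem regular_smul (x : A) (hx : IsIntegral k x) (hsep : (minpoly k x).Separable) (c : k)
    (hc : c ≠ 0) :
    (minpoly k (c • x)).Separable ∧ (minpoly k (c • x)).natDegree = (minpoly k x).natDegree := by
  have hmem : c • x ∈ Algebra.adjoin k ({x} : Set A) :=
    Subalgebra.smul_mem _ (Algebra.self_mem_adjoin_singleton k x) c
  refine ⟨RegEl.isSeparable_of_mem_adjoin x hx hsep _ hmem, ?_⟩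
  have heq : Algebra.adjoin k ({c • x} : Set A) = Algebra.adjoin k ({x} : Set A) := by
    apply le_antisymm
    · apply Algebra.adjoin_le
      intro y hy
      rw [Set.mem_singleton_iff] at hy
      rw [hy]
      exact hmem
    · apply Algebra.adjoin_le
      intro y hy
      rw [Set.mem_singleton_iff] at hy
      rw [hy]
      have h1 : c⁻¹ • (c • x) ∈ Algebra.adjoin k ({c • x} : Set A) :=
        Subalgebra.smul_mem _ (Algebra.self_mem_adjoin_singleton k _) _
      rwa [smul_smul, inv_mul_cancel₀ hc, one_smul] at h1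
  rw [← RegEl.finrank_adjoin_singleton, ← RegEl.finrank_adjoin_singleton, heq]

end Scaling

section Rank

variable {L : Type u} [CommRing L]

theorem finrank_quot_eq_rankAtStalk (M : Type v) [AddCommGroup M] [Module L M] [Module.Finite L M]
    [Module.Flat L M] (m : Ideal L) [hm : m.IsMaximal] :
    Module.finrank (L ⧸ m) ((L ⧸ m) ⊗[L] M) = Module.rankAtStalk M ⟨m, hm.isPrime⟩ := by
  letI := Ideal.Quotient.field m
  have h := Module.rankAtStalk_baseChange (R := L) (M := M) (S := L ⧸ m)
    (⟨⊥, Ideal.isPrime_bot⟩ : PrimeSpectrum (L ⧸ m))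
  have h1 : Module.rankAtStalk (R := L ⧸ m) ((L ⧸ m) ⊗[L] M) =
      Module.finrank (L ⧸ m) ((L ⧸ m) ⊗[L] M) := Module.rankAtStalk_eq_finrank_of_free
  rw [congrFun h1] at h
  have h2 : (⟨⊥, Ideal.isPrime_bot⟩ : PrimeSpectrum (L ⧸ m)).comap (algebraMap L (L ⧸ m)) =
      ⟨m, hm.isPrime⟩ := by
    apply PrimeSpectrum.ext
    show Ideal.comap (algebraMap L (L ⧸ m)) ⊥ = m
    rw [← RingHom.ker_eq_comap_bot]
    exact Ideal.mk_ker
  rw [h2] at h
  exact h

/-- an algebra map between Azumaya algebras with the same rank function is bijective. -/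
theorem algHom_bijective_of_rankAtStalk {A₁ : Type v} [Ring A₁] [Algebra L A₁] [IsAzumaya L A₁]
    {A₂ : Type w} [Ring A₂] [Algebra L A₂] [IsAzumaya L A₂] (Φ : A₁ →ₐ[L] A₂)
    (h : ∀ p : PrimeSpectrum L, Module.rankAtStalk A₁ p = Module.rankAtStalk A₂ p) :
    Function.Bijective Φ := by
  apply LG.algHom_bijective_of_azumaya
  intro m hm
  rw [finrank_quot_eq_rankAtStalk, finrank_quot_eq_rankAtStalk, h]

end Rank

section Sep

variable {R : Type u} [CommRing R]

theorem exists_smul_eq_zero_of_map_eq_zero (p : Ideal R) [p.IsPrime] (Q : R[X])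
    (hQ : Q.map (algebraMap R (Localization.AtPrime p)) = 0) :
    ∃ t : R, t ∉ p ∧ C t * Q = 0 := by
  classical
  have h1 : ∀ n, ∃ t : p.primeCompl, (t : R) * Q.coeff n = 0 := by
    intro n
    have := congrArg (fun q => q.coeff n) hQ
    simp only [Polynomial.coeff_map, Polynomial.coeff_zero] at this
    exact (IsLocalization.map_eq_zero_iff p.primeCompl (Localization.AtPrime p) _).mp this
  choose t ht using h1
  refine ⟨((∏ n ∈ Q.support, t n : p.primeCompl) : R), (∏ n ∈ Q.support, t n).2, ?_⟩
  ext n
  rw [Polynomial.coeff_C_mul, Polynomial.coeff_zero]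
  by_cases hn : n ∈ Q.support
  · rw [← Finset.prod_erase_mul _ _ hn, Submonoid.coe_mul, mul_assoc, ht, mul_zero]
  · rw [Polynomial.notMem_support_iff.mp hn, mul_zero]

/-- separability at a prime spreads to a neighbourhood, in the form of a Bezout identity. -/
theorem exists_bezout_of_separable (p : Ideal R) [p.IsPrime] (P : R[X])
    (hs : (P.map (algebraMap R (Localization.AtPrime p))).Separable) :
    ∃ f : R, f ∉ p ∧ ∃ a b : R[X], a * P + b * derivative P = C f := by
  obtain ⟨a', b', hab⟩ := hs
  obtain ⟨sa, hsaM, hsa⟩ := IsLocalization.integerNormalization_spec p.primeCompl a'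
  obtain ⟨sb, hsbM, hsb⟩ := IsLocalization.integerNormalization_spec p.primeCompl b'
  set a₀ := IsLocalization.integerNormalization p.primeCompl a'
  set b₀ := IsLocalization.integerNormalization p.primeCompl b'
  set Q : R[X] := C sb * a₀ * P + C sa * b₀ * derivative P - C (sa * sb) with hQdef
  have e1 : (sa • a' : (Localization.AtPrime p)[X]) =
      C (algebraMap R (Localization.AtPrime p) sa) * a' := by
    rw [Algebra.smul_def]; rfl
  have e2 : (sb • b' : (Localization.AtPrime p)[X]) =
      C (algebraMap R (Localization.AtPrime p) sb) * b' := by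
    rw [Algebra.smul_def]; rfl
  have hQ : Q.map (algebraMap R (Localization.AtPrime p)) = 0 := by
    rw [hQdef]
    simp only [Polynomial.map_sub, Polynomial.map_add, Polynomial.map_mul, Polynomial.map_C,
      ← Polynomial.derivative_map, hsa, hsb, map_mul, e1, e2]
    linear_combination (C (algebraMap R (Localization.AtPrime p) sa) *
      C (algebraMap R (Localization.AtPrime p) sb)) * hab
  obtain ⟨t, ht, htQ⟩ := exists_smul_eq_zero_of_map_eq_zero p Q hQ
  refine ⟨t * (sa * sb), ?_, C (t * sb) * a₀, C (t * sa) * b₀, ?_⟩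
  · exact (Ideal.IsPrime.mul_mem_iff_mem_or_mem inferInstance).not.mpr
      (not_or.mpr ⟨ht, (Ideal.IsPrime.mul_mem_iff_mem_or_mem inferInstance).not.mpr
        (not_or.mpr ⟨hsaM, hsbM⟩)⟩)
  · rw [hQdef, mul_sub, sub_eq_zero] at htQ
    simp only [map_mul] at htQ ⊢
    linear_combination htQ

theorem separable_map_of_bezout {P a b : R[X]} {f : R} (h : a * P + b * derivative P = C f)
    (R₁ : Type v) [CommRing R₁] [Algebra R R₁] (hf : IsUnit (algebraMap R R₁ f)) :
    (P.map (algebraMap R R₁)).Separable := by
  obtain ⟨v, hv⟩ := hf.exists_left_inv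
  refine ⟨C v * a.map (algebraMap R R₁), C v * b.map (algebraMap R R₁), ?_⟩
  have := congrArg (Polynomial.map (algebraMap R R₁)) h
  simp only [Polynomial.map_add, Polynomial.map_mul, Polynomial.map_C,
    ← Polynomial.derivative_map] at this
  rw [mul_assoc, mul_assoc, ← mul_add, this, ← map_mul, hv, map_one]

end Sep

end Groth.Agent.H7.Spread
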