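import Mathlib
import Groth.Prelude.Def_AzInv
import Groth.Agent.Lib.Helper7.Spread1
import Groth.Agent.Lib.Helper7.Azu10

/-! Base change package: `S' ⊗[S] A` as an algebra over `S' ⊗[S] R`. -/

set_option autoImplicit false
open scoped TensorProduct
open AzInv

namespace Groth.Agent.H7.AzBC

universe u v w u'

section Pkg

variable (S : Type u) (R : Type v) [CommRing S] [CommRing R] [Algebra S R]
  (A : Type w) [Ring A] [Algebra S A] [Algebra R A] [IsScalarTower S R A]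
  (S' : Type u') [CommRing S'] [Algebra S S']

/-- the map `S' ⊗[S] R → S' ⊗[S] A`. -/
noncomputable def iotaL : S' ⊗[S] R →ₐ[S'] S' ⊗[S] A :=
  Algebra.TensorProduct.map (AlgHom.id S' S') (IsScalarTower.toAlgHom S R A)

theorem iotaL_tmul (s : S') (r : R) :
    iotaL S R A S' (s ⊗ₜ[S] r) = s ⊗ₜ[S] algebraMap R A r := rfl

theorem iotaL_commute (l : S' ⊗[S] R) (c : S' ⊗[S] A) :
    iotaL S R A S' l * c = c * iotaL S R A S' l := by
  induction l using TensorProduct.induction_on with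
  | zero => simp
  | add z₁ z₂ h₁ h₂ => rw [map_add, add_mul, mul_add, h₁, h₂]
  | tmul x y =>
      induction c using TensorProduct.induction_on with
      | zero => simp
      | add c₁ c₂ h₁ h₂ => rw [mul_add, add_mul, h₁, h₂]
      | tmul s a =>
          rw [iotaL_tmul, Algebra.TensorProduct.tmul_mul_tmul, Algebra.TensorProduct.tmul_mul_tmul,
            mul_comm s]
          congr 1
          exact Algebra.commutes y a

/-- `S' ⊗[S] A` as an algebra over `S' ⊗[S] R`. -/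
@[reducible] noncomputable def algLC : Algebra (S' ⊗[S] R) (S' ⊗[S] A) :=
  (iotaL S R A S').toRingHom.toAlgebra' (iotaL_commute S R A S')

end Pkg

section Iso

variable (S : Type u) (R : Type v) [CommRing S] [CommRing R] [Algebra S R]
  (A : Type w) [Ring A] [Algebra S A] [Algebra R A] [IsScalarTower S R A]
  (S' : Type u') [CommRing S'] [Algebra S S']

attribute [local instance] algLC
attribute [local instance] Algebra.TensorProduct.rightAlgebra

theorem algebraMap_LC (l : S' ⊗[S] R) :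
    algebraMap (S' ⊗[S] R) (S' ⊗[S] A) l = iotaL S R A S' l := rfl

instance isScalarTower_S'LC : IsScalarTower S' (S' ⊗[S] R) (S' ⊗[S] A) :=
  IsScalarTower.of_algebraMap_eq (fun s => by
    rw [algebraMap_LC, AlgHom.commutes])

/-- `R`-algebra structure on `S' ⊗[S] A` through `S' ⊗[S] R` (not an instance). -/
@[reducible] noncomputable def algRC : Algebra R (S' ⊗[S] A) :=
  ((algebraMap (S' ⊗[S] R) (S' ⊗[S] A)).comp (algebraMap R (S' ⊗[S] R))).toAlgebra' (fun r c => by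
    show iotaL S R A S' (algebraMap R (S' ⊗[S] R) r) * c = c * iotaL S R A S' (algebraMap R (S' ⊗[S] R) r)
    exact iotaL_commute S R A S' _ c)

/-- the forward map `(S' ⊗[S] R) ⊗[R] A → S' ⊗[S] A`. -/
noncomputable def fwd : (S' ⊗[S] R) ⊗[R] A →ₐ[S' ⊗[S] R] S' ⊗[S] A :=
  letI : Algebra R (S' ⊗[S] A) := algRC S R A S'
  haveI : IsScalarTower R (S' ⊗[S] R) (S' ⊗[S] A) := IsScalarTower.of_algebraMap_eq (fun _ => rfl)
  Algebra.TensorProduct.lift (Algebra.ofId (S' ⊗[S] R) (S' ⊗[S] A))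
    ({ (Algebra.TensorProduct.includeRight : A →ₐ[S] S' ⊗[S] A) with
        commutes' := fun r => rfl } : A →ₐ[R] S' ⊗[S] A)
    (fun l a => (iotaL_commute S R A S' l _))

theorem fwd_tmul (s : S') (r : R) (a : A) :
    fwd S R A S' ((s ⊗ₜ[S] r) ⊗ₜ[R] a) = s ⊗ₜ[S] (r • a) := by
  letI : Algebra R (S' ⊗[S] A) := algRC S R A S'
  haveI : IsScalarTower R (S' ⊗[S] R) (S' ⊗[S] A) := IsScalarTower.of_algebraMap_eq (fun _ => rfl)
  show Algebra.TensorProduct.lift (Algebra.ofId (S' ⊗[S] R) (S' ⊗[S] A))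
    ({ (Algebra.TensorProduct.includeRight : A →ₐ[S] S' ⊗[S] A) with
        commutes' := fun r => rfl } : A →ₐ[R] S' ⊗[S] A) _ ((s ⊗ₜ[S] r) ⊗ₜ[R] a) = _
  rw [Algebra.TensorProduct.lift_tmul, Algebra.ofId_apply, algebraMap_LC, iotaL_tmul]
  show s ⊗ₜ[S] algebraMap R A r * (1 : S') ⊗ₜ[S] a = _
  rw [Algebra.TensorProduct.tmul_mul_tmul, mul_one, Algebra.smul_def]

/-- `a ↦ 1 ⊗ a` into `(S' ⊗[S] R) ⊗[R] A` as an `S`-algebra map. -/
noncomputable def incA' : A →ₐ[S] (S' ⊗[S] R) ⊗[R] A :=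
  { (Algebra.TensorProduct.includeRight : A →ₐ[R] (S' ⊗[S] R) ⊗[R] A).toRingHom with
    commutes' := fun s => by
      show (1 : S' ⊗[S] R) ⊗ₜ[R] algebraMap S A s = algebraMap S (S' ⊗[S] R) s ⊗ₜ[R] (1 : A)
      rw [IsScalarTower.algebraMap_apply S R A, Algebra.algebraMap_eq_smul_one (algebraMap S R s),
        ← TensorProduct.smul_tmul]
      congr 1
      show (1 : S') ⊗ₜ[S] algebraMap S R s * 1 = _
      rw [mul_one, Algebra.TensorProduct.algebraMap_apply, Algebra.algebraMap_eq_smul_one,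
        Algebra.algebraMap_eq_smul_one (A := S'), TensorProduct.smul_tmul] }

theorem incA'_apply (a : A) : incA' S R A S' a = (1 : S' ⊗[S] R) ⊗ₜ[R] a := rfl

/-- the backward map. -/
noncomputable def bwd : S' ⊗[S] A →ₐ[S] (S' ⊗[S] R) ⊗[R] A :=
  Algebra.TensorProduct.lift
    ((Algebra.TensorProduct.includeLeft : S' ⊗[S] R →ₐ[S] (S' ⊗[S] R) ⊗[R] A).comp
      (Algebra.TensorProduct.includeLeft : S' →ₐ[S] S' ⊗[S] R))
    (incA' S R A S')
    (fun s a => by
      show ((s ⊗ₜ[S] (1 : R)) ⊗ₜ[R] (1 : A)) * ((1 : S' ⊗[S] R) ⊗ₜ[R] a) =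
        ((1 : S' ⊗[S] R) ⊗ₜ[R] a) * ((s ⊗ₜ[S] (1 : R)) ⊗ₜ[R] (1 : A))
      rw [Algebra.TensorProduct.tmul_mul_tmul, Algebra.TensorProduct.tmul_mul_tmul, mul_one,
        one_mul, mul_one, one_mul])

theorem bwd_tmul (s : S') (a : A) :
    bwd S R A S' (s ⊗ₜ[S] a) = (s ⊗ₜ[S] (1 : R)) ⊗ₜ[R] a := by
  rw [bwd, Algebra.TensorProduct.lift_tmul]
  show ((s ⊗ₜ[S] (1 : R)) ⊗ₜ[R] (1 : A)) * ((1 : S' ⊗[S] R) ⊗ₜ[R] a) = _
  rw [Algebra.TensorProduct.tmul_mul_tmul, mul_one, one_mul]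

theorem fwd_bwd (c : S' ⊗[S] A) : fwd S R A S' (bwd S R A S' c) = c := by
  induction c using TensorProduct.induction_on with
  | zero => simp
  | add c₁ c₂ h₁ h₂ => rw [map_add, map_add, h₁, h₂]
  | tmul s a => rw [bwd_tmul, fwd_tmul, one_smul]

theorem bwd_fwd (c : (S' ⊗[S] R) ⊗[R] A) : bwd S R A S' (fwd S R A S' c) = c := by
  induction c using TensorProduct.induction_on with
  | zero => simp
  | add c₁ c₂ h₁ h₂ => rw [map_add, map_add, h₁, h₂]
  | tmul l a =>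
      induction l using TensorProduct.induction_on with
      | zero => simp
      | add l₁ l₂ h₁ h₂ => rw [TensorProduct.add_tmul, map_add, map_add, h₁, h₂]
      | tmul s r =>
          rw [fwd_tmul, bwd_tmul, ← TensorProduct.smul_tmul]
          congr 1
          show (1 : S') ⊗ₜ[S] r * s ⊗ₜ[S] (1 : R) = _
          rw [Algebra.TensorProduct.tmul_mul_tmul, one_mul, mul_one]

/-- the isomorphism `(S' ⊗[S] R) ⊗[R] A ≃ S' ⊗[S] A` of `S' ⊗[S] R`-algebras. -/
noncomputable def isoLC : (S' ⊗[S] R) ⊗[R] A ≃ₐ[S' ⊗[S] R] S' ⊗[S] A :=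
  AlgEquiv.ofBijective (fwd S R A S')
    ⟨Function.LeftInverse.injective (bwd_fwd S R A S'),
     Function.RightInverse.surjective (fwd_bwd S R A S')⟩

theorem isAzumayaDeg_bc (n : ℕ) (hA : IsAzumayaDeg R A n) :
    IsAzumayaDeg (S' ⊗[S] R) (S' ⊗[S] A) n := by
  haveI : IsAzumaya R A := hA.1
  haveI : IsAzumaya (S' ⊗[S] R) ((S' ⊗[S] R) ⊗[R] A) := Azu.isAzumaya_baseChange R (S' ⊗[S] R) A
  refine ⟨IsAzumaya.of_AlgEquiv (S' ⊗[S] R) ((S' ⊗[S] R) ⊗[R] A) (S' ⊗[S] A) (isoLC S R A S'), ?_⟩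
  intro p
  have h1 := congrFun (Module.rankAtStalk_eq_of_equiv (isoLC S R A S').toLinearEquiv) p
  rw [← h1, Module.rankAtStalk_baseChange, hA.2]

end Iso

end Groth.Agent.H7.AzBC
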