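import Mathlib
import Groth.Prelude.Def_AzInv
import Groth.Agent.Lib.Helper7.AzBC

/-! Final assembly for étale-local splitting over the fixed ring: from matrix units to the
isomorphism, and gluing of local data. -/

set_option autoImplicit false
open scoped TensorProduct
open AzInv

namespace Groth.Agent.H7.AzFA

universe u v w u'

section FA2

variable (S : Type u) (R : Type v) [CommRing S] [CommRing R] [Algebra S R]
  (A : Type w) [Ring A] [Algebra S A] [Algebra R A] [IsScalarTower S R A]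
  (S' : Type u') [CommRing S'] [Algebra S S']

attribute [local instance] AzBC.algLC

theorem exists_iso_of_matUnits (n : ℕ) (hn : 0 < n) (hA : IsAzumayaDeg R A n)
    (e : Fin n → Fin n → S' ⊗[S] A) (he : Spread.IsMatUnits e) :
    ∃ f : S' ⊗[S] A ≃ₐ[S'] Matrix (Fin n) (Fin n) (S' ⊗[S] R),
      ∀ (r : R) (x : S' ⊗[S] A),
        f (((1 : S') ⊗ₜ[S] algebraMap R A r) * x) =
          Matrix.scalar (Fin n) ((1 : S') ⊗ₜ[S] r) * f x := by
  classical
  have hbc := AzBC.isAzumayaDeg_bc S R A S' n hA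
  haveI : IsAzumaya (S' ⊗[S] R) (S' ⊗[S] A) := hbc.1
  haveI : Nonempty (Fin n) := ⟨⟨0, hn⟩⟩
  haveI : IsAzumaya (S' ⊗[S] R) (Matrix (Fin n) (Fin n) (S' ⊗[S] R)) :=
    IsAzumaya.matrix (S' ⊗[S] R) (Fin n)
  let g : Matrix (Fin n) (Fin n) (S' ⊗[S] R) →ₐ[S' ⊗[S] R] S' ⊗[S] A :=
    Spread.algHomOfMatUnits (L := S' ⊗[S] R) e he
  have hg : Function.Bijective g := by
    apply Spread.algHom_bijective_of_rankAtStalk
    intro p
    haveI : Nontrivial (S' ⊗[S] R) := p.nontrivial
    rw [hbc.2, Module.rankAtStalk_eq_finrank_of_free]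
    simp [Module.finrank_matrix, pow_two]
  let G : Matrix (Fin n) (Fin n) (S' ⊗[S] R) ≃ₐ[S' ⊗[S] R] S' ⊗[S] A := AlgEquiv.ofBijective g hg
  refine ⟨(G.symm.restrictScalars S'), ?_⟩
  intro r x
  have h1 : ((1 : S') ⊗ₜ[S] algebraMap R A r) * x = ((1 : S') ⊗ₜ[S] r : S' ⊗[S] R) • x := by
    rw [Algebra.smul_def]
    rfl
  rw [h1]
  show G.symm (((1 : S') ⊗ₜ[S] r : S' ⊗[S] R) • x) = _
  rw [map_smul, Algebra.smul_def]
  rfl

end FA2

section FA1

variable (S : Type u) (R : Type v) [CommRing S] [CommRing R] [Algebra S R]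
  (A : Type w) [Ring A] [Algebra S A] [Algebra R A] [IsScalarTower S R A] (n : ℕ)

/-- the local goal at a prime: an étale neighbourhood over which `A` acquires matrix units. -/
def LG (q : PrimeSpectrum S) : Prop :=
  ∃ (S' : Type u) (_ : CommRing S') (_ : Algebra S S') (_ : Algebra.Etale S S'),
    (∃ q' : PrimeSpectrum S', q'.comap (algebraMap S S') = q) ∧
    ∃ e : Fin n → Fin n → S' ⊗[S] A, Spread.IsMatUnits e

theorem isMatUnits_pi {ι : Type*} (C : ι → Type*) [∀ i, Ring (C i)]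
    (e : ∀ i, Fin n → Fin n → C i) (he : ∀ i, Spread.IsMatUnits (e i)) :
    Spread.IsMatUnits (fun a b => (fun i => e i a b : ∀ i, C i)) := by
  constructor
  · intro a b c d
    funext i
    rw [Pi.mul_apply, (he i).1]
    split_ifs <;> rfl
  · funext i
    rw [Finset.sum_apply, (he i).2]
    rfl

theorem exists_global_of_LG (hn : 0 < n) (hA : IsAzumayaDeg R A n) (h : ∀ q, LG S A n q) :
    ∃ (S' : Type u) (_ : CommRing S') (_ : Algebra S S') (_ : Algebra.Etale S S')
      (_ : Module.FaithfullyFlat S S') (f : S' ⊗[S] A ≃ₐ[S'] Matrix (Fin n) (Fin n) (S' ⊗[S] R)),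
      ∀ (r : R) (x : S' ⊗[S] A),
        f (((1 : S') ⊗ₜ[S] algebraMap R A r) * x) =
          Matrix.scalar (Fin n) ((1 : S') ⊗ₜ[S] r) * f x := by
  classical
  choose S' hc ha het hq' e he using h
  letI : ∀ q, CommRing (S' q) := hc
  letI : ∀ q, Algebra S (S' q) := ha
  haveI : ∀ q, Algebra.Etale S (S' q) := het
  have hopen : ∀ q, IsOpen (Set.range (PrimeSpectrum.comap (algebraMap S (S' q)))) := fun q =>
    (PrimeSpectrum.isOpenMap_comap_of_hasGoingDown_of_finitePresentation (R := S)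
      (S := S' q)).isOpen_range
  have hcover : (Set.univ : Set (PrimeSpectrum S)) ⊆
      ⋃ q : PrimeSpectrum S, Set.range (PrimeSpectrum.comap (algebraMap S (S' q))) := by
    intro q _
    exact Set.mem_iUnion.mpr ⟨q, hq' q⟩
  obtain ⟨t, ht⟩ := isCompact_univ.elim_finite_subcover _ hopen hcover
  let T := Π i : t, S' i.1
  haveI hetT : Algebra.Etale S T := inferInstance
  haveI hflatT : Module.Flat S T := inferInstance
  have hsurj : Function.Surjective (PrimeSpectrum.comap (algebraMap S T)) := by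
    intro q
    have hq := ht (Set.mem_univ q)
    simp only [Set.mem_iUnion] at hq
    obtain ⟨p, hpt, q', hq'⟩ := hq
    refine ⟨q'.comap (Pi.evalRingHom (fun i : t => S' i.1) ⟨p, hpt⟩), ?_⟩
    rw [← hq']
    rfl
  haveI hffT : Module.FaithfullyFlat S T := Module.FaithfullyFlat.of_comap_surjective hsurj
  let Ξ : T ⊗[S] A ≃+* (Π i : t, A ⊗[S] S' i.1) :=
    (Algebra.TensorProduct.comm S T A).toRingEquiv.trans
      (Algebra.TensorProduct.piRight S S A (fun i : t => S' i.1)).toRingEquiv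
  have hmu : Spread.IsMatUnits (fun a b =>
      (fun i : t => (Algebra.TensorProduct.comm S (S' i.1) A) (e i.1 a b) :
        Π i : t, A ⊗[S] S' i.1)) :=
    isMatUnits_pi n (fun i : t => A ⊗[S] S' i.1) _
      (fun i => (he i.1).map (Algebra.TensorProduct.comm S (S' i.1) A).toRingEquiv.toRingHom)
  have hmuT := hmu.map Ξ.symm.toRingHom
  obtain ⟨f, hf⟩ := exists_iso_of_matUnits S R A T n hn hA _ hmuT
  exact ⟨T, inferInstance, inferInstance, hetT, hffT, f, hf⟩

end FA1

end Groth.Agent.H7.AzFA
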