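import Mathlib
import Groth.Prelude.Def_GSzCSA

set_option autoImplicit false

namespace Groth.Agent.H7.Br
universe u v w
open scoped TensorProduct
open PiTensorProduct

/-- multiplicativity of a linear map can be checked on a spanning set. -/
theorem map_mul_of_span {R : Type*} {X : Type*} {Y : Type*} [CommSemiring R] [Semiring X]
    [Semiring Y] [Algebra R X] [Algebra R Y] (f : X →ₗ[R] Y) (S : Set X)
    (hS : Submodule.span R S = ⊤) (h : ∀ s ∈ S, ∀ t ∈ S, f (s * t) = f s * f t) :
    ∀ x y, f (x * y) = f x * f y := by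
  have h1 : ∀ s ∈ S, ∀ y, f (s * y) = f s * f y := by
    intro s hs
    have : f.comp (LinearMap.mulLeft R s) = (LinearMap.mulLeft R (f s)).comp f :=
      LinearMap.ext_on hS (fun t ht => h s hs t ht)
    intro y
    exact LinearMap.congr_fun this y
  intro x y
  have : f.comp (LinearMap.mulRight R y) = (LinearMap.mulRight R (f y)).comp f :=
    LinearMap.ext_on hS (fun s hs => h1 s hs y)
  exact LinearMap.congr_fun this x

section
variable (k : Type u) [Field k] (A : Type v) [Ring A] [Algebra k A]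

theorem span_tmul_tprod (ι₁ ι₂ : Type*) [Fintype ι₁] [Fintype ι₂] :
    Submodule.span k {z : (⨂[k] _ : ι₁, A) ⊗[k] (⨂[k] _ : ι₂, A) |
      ∃ (x : ι₁ → A) (y : ι₂ → A), z = tprod k x ⊗ₜ[k] tprod k y} = ⊤ := by
  rw [eq_top_iff, ← TensorProduct.span_tmul_eq_top, Submodule.span_le]
  rintro _ ⟨a, b, rfl⟩
  have ha : a ∈ Submodule.span k (Set.range (tprod k (ι := ι₁) (s := fun _ => A))) := by
    rw [PiTensorProduct.span_tprod_eq_top]; trivial
  have hb : b ∈ Submodule.span k (Set.range (tprod k (ι := ι₂) (s := fun _ => A))) := by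
    rw [PiTensorProduct.span_tprod_eq_top]; trivial
  induction ha using Submodule.span_induction with
  | mem a ha =>
    obtain ⟨x, rfl⟩ := ha
    induction hb using Submodule.span_induction with
    | mem b hb =>
      obtain ⟨y, rfl⟩ := hb
      exact Submodule.subset_span ⟨x, y, rfl⟩
    | zero => rw [TensorProduct.tmul_zero]; exact Submodule.zero_mem _
    | add b b' _ _ hb hb' => rw [TensorProduct.tmul_add]; exact Submodule.add_mem _ hb hb'
    | smul c b _ hb => rw [TensorProduct.tmul_smul]; exact Submodule.smul_mem _ c hb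
  | zero => rw [TensorProduct.zero_tmul]; exact Submodule.zero_mem _
  | add a a' _ _ ha ha' => rw [TensorProduct.add_tmul]; exact Submodule.add_mem _ ha ha'
  | smul c a _ ha => rw [← TensorProduct.smul_tmul']; exact Submodule.smul_mem _ c ha

/-- `A^{⊗a} ⊗ A^{⊗b} ≃ A^{⊗(a+b)}` as a linear equivalence. -/
noncomputable def tpowAddL (a b : ℕ) :
    (CSAGal.tpow k A a) ⊗[k] (CSAGal.tpow k A b) ≃ₗ[k] CSAGal.tpow k A (a + b) :=
  (PiTensorProduct.tmulEquiv k A).trans
    (PiTensorProduct.reindex k (fun _ : Fin a ⊕ Fin b => A) finSumFinEquiv)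

theorem tpowAddL_tmul (a b : ℕ) (x : Fin a → A) (y : Fin b → A) :
    tpowAddL k A a b (tprod k x ⊗ₜ[k] tprod k y) =
      tprod k (fun i => Sum.elim x y (finSumFinEquiv.symm i)) := by
  unfold tpowAddL
  rw [LinearEquiv.trans_apply, PiTensorProduct.tmulEquiv_apply, PiTensorProduct.reindex_tprod]

/-- `A^{⊗a} ⊗ A^{⊗b} ≃ A^{⊗(a+b)}` as an algebra equivalence. -/
noncomputable def tpowAdd (a b : ℕ) :
    (CSAGal.tpow k A a) ⊗[k] (CSAGal.tpow k A b) ≃ₐ[k] CSAGal.tpow k A (a + b) :=
  AlgEquiv.ofLinearEquiv (tpowAddL k A a b)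
    (by
      rw [Algebra.TensorProduct.one_def, PiTensorProduct.one_def, PiTensorProduct.one_def,
        tpowAddL_tmul]
      congr 1
      funext i
      rcases h : finSumFinEquiv.symm i with j | j <;> simp)
    (by
      apply map_mul_of_span (tpowAddL k A a b).toLinearMap _ (span_tmul_tprod k A (Fin a) (Fin b))
      rintro _ ⟨x, y, rfl⟩ _ ⟨x', y', rfl⟩
      simp only [LinearEquiv.coe_coe]
      rw [Algebra.TensorProduct.tmul_mul_tmul, PiTensorProduct.tprod_mul_tprod,
        PiTensorProduct.tprod_mul_tprod, tpowAddL_tmul, tpowAddL_tmul, tpowAddL_tmul,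
        PiTensorProduct.tprod_mul_tprod]
      congr 1
      funext i
      rcases h : finSumFinEquiv.symm i with j | j <;> simp [h])


/-- `A^{⊗0} ≃ k`. -/
noncomputable def tpowZero : CSAGal.tpow k A 0 ≃ₐ[k] k :=
  AlgEquiv.ofLinearEquiv (PiTensorProduct.isEmptyEquiv (Fin 0) (R := k) (s := fun _ => A))
    (by rw [PiTensorProduct.one_def, PiTensorProduct.isEmptyEquiv_apply_tprod])
    (by
      apply map_mul_of_span (PiTensorProduct.isEmptyEquiv (Fin 0) (R := k)
        (s := fun _ => A)).toLinearMap _ PiTensorProduct.span_tprod_eq_top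
      rintro _ ⟨x, rfl⟩ _ ⟨y, rfl⟩
      simp only [LinearEquiv.coe_coe]
      rw [PiTensorProduct.tprod_mul_tprod, PiTensorProduct.isEmptyEquiv_apply_tprod,
        PiTensorProduct.isEmptyEquiv_apply_tprod, PiTensorProduct.isEmptyEquiv_apply_tprod,
        mul_one])

/-- `A^{⊗1} ≃ A`. -/
noncomputable def tpowOne : CSAGal.tpow k A 1 ≃ₐ[k] A :=
  AlgEquiv.ofLinearEquiv (PiTensorProduct.subsingletonEquiv (R := k) (s := fun _ : Fin 1 => A) 0)
    (by rw [PiTensorProduct.one_def, PiTensorProduct.subsingletonEquiv_apply_tprod]; rfl)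
    (by
      apply map_mul_of_span (PiTensorProduct.subsingletonEquiv (R := k)
        (s := fun _ : Fin 1 => A) 0).toLinearMap _ PiTensorProduct.span_tprod_eq_top
      rintro _ ⟨x, rfl⟩ _ ⟨y, rfl⟩
      simp only [LinearEquiv.coe_coe]
      rw [PiTensorProduct.tprod_mul_tprod, PiTensorProduct.subsingletonEquiv_apply_tprod,
        PiTensorProduct.subsingletonEquiv_apply_tprod,
        PiTensorProduct.subsingletonEquiv_apply_tprod]
      rfl)

/-- `A^{⊗(e+1)} ≃ A^{⊗e} ⊗ A`. -/
noncomputable def tpowSucc (e : ℕ) :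
    CSAGal.tpow k A (e + 1) ≃ₐ[k] (CSAGal.tpow k A e) ⊗[k] A :=
  (tpowAdd k A e 1).symm.trans
    (Algebra.TensorProduct.congr (AlgEquiv.refl : CSAGal.tpow k A e ≃ₐ[k] _) (tpowOne k A))

end
end Groth.Agent.H7.Br
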