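import Mathlib
import Groth.Prelude.Def_GSzCSA
import Groth.Agent.Lib.Helper7.Desc1

set_option autoImplicit false

namespace Groth.Agent.H7.Desc
universe u v w x
open scoped TensorProduct MatrixGroups Matrix
attribute [local instance] CSAGal.matrixAction GpH1.unitsAction

section GLn
variable {k : Type u} {K : Type v} [Field k] [Field K] [Algebra k K] {n : ℕ}

theorem cocycle_one (a : GpH1.OneCocycle (K ≃ₐ[k] K) (GL (Fin n) K)) : a 1 = 1 := by
  have h := a.2 1 1
  rw [one_smul, mul_one] at h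
  exact (mul_eq_left (a := a 1)).mp h.symm

theorem coe_smul_GL (σ : K ≃ₐ[k] K) (g : GL (Fin n) K) :
    ((σ • g : GL (Fin n) K) : Matrix (Fin n) (Fin n) K) = σ • (g : Matrix (Fin n) (Fin n) K) := rfl

theorem smul_mulVec (σ : K ≃ₐ[k] K) (M : Matrix (Fin n) (Fin n) K) (v : Fin n → K) :
    (fun i => σ ((M *ᵥ v) i)) = (σ • M) *ᵥ (fun i => σ (v i)) := by
  ext i
  simp only [Matrix.mulVec, dotProduct, map_sum, map_mul, Matrix.smul_apply, AlgEquiv.smul_def]

/-- The semilinear action on `Kⁿ` twisted by a `GL_n`-cocycle. -/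
def glAct (a : GpH1.OneCocycle (K ≃ₐ[k] K) (GL (Fin n) K)) : SemiAct k K (Fin n → K) where
  ρ σ :=
    { toFun := fun v => (a σ : Matrix (Fin n) (Fin n) K) *ᵥ (fun i => σ (v i))
      map_zero' := by
        have : (fun i => σ ((0 : Fin n → K) i)) = 0 := by ext i; simp
        rw [this, Matrix.mulVec_zero]
      map_add' := fun v w => by
        have : (fun i => σ ((v + w) i)) = (fun i => σ (v i)) + (fun i => σ (w i)) := by
          ext i; simp
        rw [this, Matrix.mulVec_add] }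
  smul' σ c v := by
    show (a σ : Matrix (Fin n) (Fin n) K) *ᵥ (fun i => σ ((c • v) i)) =
      σ c • ((a σ : Matrix (Fin n) (Fin n) K) *ᵥ (fun i => σ (v i)))
    have : (fun i => σ ((c • v) i)) = σ c • (fun i => σ (v i)) := by
      ext i; simp
    rw [this, Matrix.mulVec_smul]
  one' v := by
    show (a 1 : Matrix (Fin n) (Fin n) K) *ᵥ (fun i => (1 : K ≃ₐ[k] K) (v i)) = v
    rw [cocycle_one a]
    simp
  mul' σ τ v := by
    show (a (σ * τ) : Matrix (Fin n) (Fin n) K) *ᵥ (fun i => (σ * τ) (v i)) =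
      (a σ : Matrix (Fin n) (Fin n) K) *ᵥ
        (fun i => σ (((a τ : Matrix (Fin n) (Fin n) K) *ᵥ (fun i => τ (v i))) i))
    rw [smul_mulVec, a.2 σ τ, Units.val_mul, coe_smul_GL, ← Matrix.mulVec_mulVec]
    rfl

theorem glAct_apply (a : GpH1.OneCocycle (K ≃ₐ[k] K) (GL (Fin n) K)) (σ : K ≃ₐ[k] K)
    (v : Fin n → K) :
    (glAct a).ρ σ v = (a σ : Matrix (Fin n) (Fin n) K) *ᵥ (fun i => σ (v i)) := rfl

/-- **Hilbert 90 for `GL_n`**: every cocycle is a coboundary. -/
theorem exists_GL_coboundary [FiniteDimensional k K] [IsGalois k K]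
    (a : GpH1.OneCocycle (K ≃ₐ[k] K) (GL (Fin n) K)) :
    ∃ B : GL (Fin n) K, ∀ σ : K ≃ₐ[k] K, a σ * σ • B = B := by
  classical
  let S := glAct a
  have hfr : Module.finrank k S.fixed = n := by
    rw [S.finrank_fixed, Module.finrank_fin_fun]
  have : Module.Finite k (Fin n → K) := Module.Finite.trans K _
  let wb : Module.Basis (Fin n) k S.fixed := Module.finBasisOfFinrankEq k S.fixed hfr
  let b' : Module.Basis (Fin n) K (Fin n → K) :=
    (Algebra.TensorProduct.basis K wb).map S.fixedEquiv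
  have hb' : ∀ j, b' j = (wb j : Fin n → K) := by
    intro j
    show S.fixedEquiv ((Algebra.TensorProduct.basis K wb) j) = _
    rw [Algebra.TensorProduct.basis_apply]
    show (1 : K) • ((wb j : S.fixed) : Fin n → K) = _
    rw [one_smul]
  let B : Matrix (Fin n) (Fin n) K := (Pi.basisFun K (Fin n)).toMatrix b'
  have hBij : ∀ i j, B i j = (wb j : Fin n → K) i := by
    intro i j
    show (Pi.basisFun K (Fin n)).repr (b' j) i = _
    rw [hb' j]; simp
  have hinv : Invertible B := Module.Basis.invertibleToMatrix _ _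
  have hBu : IsUnit B := isUnit_of_invertible B
  refine ⟨hBu.unit, fun σ => ?_⟩
  apply Units.ext
  rw [Units.val_mul, coe_smul_GL, IsUnit.unit_spec]
  ext i j
  have hfix : S.ρ σ (wb j : Fin n → K) = (wb j : Fin n → K) := (wb j).2 σ
  have := congrFun hfix i
  rw [glAct_apply] at this
  rw [hBij, ← this]
  simp only [Matrix.mul_apply, Matrix.mulVec, dotProduct, Matrix.smul_apply, AlgEquiv.smul_def, hBij]

theorem H1_GL_trivial [FiniteDimensional k K] [IsGalois k K] :
    GpH1.H1.IsTrivial (K ≃ₐ[k] K) (GL (Fin n) K) := by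
  intro x
  obtain ⟨a, rfl⟩ := GpH1.OneCocycle.cl_surjective x
  obtain ⟨B, hB⟩ := exists_GL_coboundary a
  show a.cl = (GpH1.OneCocycle.trivial).cl
  rw [GpH1.OneCocycle.cl_eq_cl_iff]
  refine ⟨B⁻¹, fun σ => ?_⟩
  show a σ = (B⁻¹)⁻¹ * 1 * σ • B⁻¹
  rw [inv_inv, mul_one, smul_inv']
  exact eq_mul_inv_of_mul_eq (hB σ)

end GLn

end Groth.Agent.H7.Desc
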