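import Mathlib
import Groth.Prelude.Def_GalDesc
import Groth.Prelude.Def_GSzCSA
import Groth.Agent.Lib.Helper7.Desc3

set_option autoImplicit false

namespace Groth.Agent.H7.Desc
universe u v w x y
open scoped TensorProduct
attribute [local instance] CSAGal.tensorAction

section AlgDesc
variable {k : Type u} {K : Type v} [Field k] [Field K] [Algebra k K]
  {A : Type w} [Ring A] [Algebra k A]
  {A' : Type x} [Ring A'] [Algebra k A'] {A'' : Type y} [Ring A''] [Algebra k A'']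

theorem cocycleAlg_apply' {C : Type*} [Ring C] [Algebra K C]
    [MulSemiringAction (K ≃ₐ[k] K) C] [SMulDistribClass (K ≃ₐ[k] K) K C]
    (g : (K ⊗[k] A) ≃ₐ[K] C) (σ : K ≃ₐ[k] K)
    (x : K ⊗[k] A) : GalDesc.cocycleAlg k g σ x = g.symm (σ • g (σ⁻¹ • x)) := rfl

theorem congr_smul_comm (e : A' ≃ₐ[k] A'') (σ : K ≃ₐ[k] K) (t : K ⊗[k] A') :
    Algebra.TensorProduct.congr (AlgEquiv.refl : K ≃ₐ[K] K) e (σ • t) =
      σ • Algebra.TensorProduct.congr (AlgEquiv.refl : K ≃ₐ[K] K) e t := by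
  induction t using TensorProduct.induction_on with
  | zero => simp
  | tmul c w =>
    rw [smul_tmul_eq, Algebra.TensorProduct.congr_apply, Algebra.TensorProduct.congr_apply,
      Algebra.TensorProduct.map_tmul, Algebra.TensorProduct.map_tmul, smul_tmul_eq]
    rfl
  | add x y hx hy => rw [smul_add, map_add, hx, hy, map_add, smul_add]

/-- S15969 -/
theorem alg_cl_eq_of_equiv
    (g : (K ⊗[k] A) ≃ₐ[K] (K ⊗[k] A')) (g' : (K ⊗[k] A) ≃ₐ[K] (K ⊗[k] A''))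
    (e : A' ≃ₐ[k] A'') :
    (GalDesc.cocycleAlg k g).cl = (GalDesc.cocycleAlg k g').cl := by
  rw [GpH1.OneCocycle.cl_eq_cl_iff]
  let E : K ⊗[k] A' ≃ₐ[K] K ⊗[k] A'' := Algebra.TensorProduct.congr (AlgEquiv.refl : K ≃ₐ[K] K) e
  have hEσ : ∀ (σ : K ≃ₐ[k] K) t, E (σ • t) = σ • E t := fun σ t => congr_smul_comm e σ t
  refine ⟨g.trans (E.trans g'.symm), fun σ => ?_⟩
  ext x
  rw [AlgEquiv.mul_apply, AlgEquiv.mul_apply, AlgEquiv.aut_inv, cocycleAlg_apply',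
    cocycleAlg_apply', GalDesc.conjAlg_smul_apply]
  show g.symm (σ • g (σ⁻¹ • x)) =
    g.symm (E.symm (g' (g'.symm (σ • g' (σ⁻¹ • σ • g'.symm (E (g (σ⁻¹ • x))))))))
  rw [inv_smul_smul, g'.apply_symm_apply, g'.apply_symm_apply, ← hEσ, E.symm_apply_apply]

/-- algebra version of descent of an equivariant isomorphism -/
theorem exists_descend_algEquiv [FiniteDimensional k K] [IsGalois k K]
    (h : K ⊗[k] A' ≃ₐ[K] K ⊗[k] A'')
    (hh : ∀ (σ : K ≃ₐ[k] K) (t : K ⊗[k] A'), h (σ • t) = σ • h t) :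
    Nonempty (A' ≃ₐ[k] A'') := by
  obtain ⟨e, he⟩ := exists_descend_equiv h.toLinearEquiv hh
  have he' : ∀ a, h (1 ⊗ₜ[k] a) = 1 ⊗ₜ[k] e a := he
  refine ⟨AlgEquiv.ofLinearEquiv e ?_ ?_⟩
  · apply one_tmul_injective (k := k) (K := K)
    show (1 : K) ⊗ₜ[k] e 1 = 1 ⊗ₜ[k] 1
    rw [← he', ← Algebra.TensorProduct.one_def, map_one, Algebra.TensorProduct.one_def]
  · intro a b
    apply one_tmul_injective (k := k) (K := K)
    show (1 : K) ⊗ₜ[k] e (a * b) = 1 ⊗ₜ[k] (e a * e b)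
    rw [← he']
    have h1 : (1 : K) ⊗ₜ[k] (a * b) = ((1 : K) ⊗ₜ[k] a) * ((1 : K) ⊗ₜ[k] b) := by
      rw [Algebra.TensorProduct.tmul_mul_tmul, one_mul]
    have h2 : (1 : K) ⊗ₜ[k] (e a * e b) = ((1 : K) ⊗ₜ[k] e a) * ((1 : K) ⊗ₜ[k] e b) := by
      rw [Algebra.TensorProduct.tmul_mul_tmul, one_mul]
    rw [h1, h2, map_mul, he', he']

/-- S15970 -/
theorem alg_equiv_of_cl_eq [FiniteDimensional k K] [IsGalois k K]
    (g : (K ⊗[k] A) ≃ₐ[K] (K ⊗[k] A')) (g' : (K ⊗[k] A) ≃ₐ[K] (K ⊗[k] A''))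
    (h : (GalDesc.cocycleAlg k g).cl = (GalDesc.cocycleAlg k g').cl) :
    Nonempty (A' ≃ₐ[k] A'') := by
  rw [GpH1.OneCocycle.cl_eq_cl_iff] at h
  obtain ⟨c, hcoc⟩ := h
  let H : K ⊗[k] A' ≃ₐ[K] K ⊗[k] A'' := g.symm.trans (c.trans g')
  apply exists_descend_algEquiv H
  intro σ t
  have h1 := AlgEquiv.congr_fun (hcoc σ) (σ • g.symm t)
  rw [AlgEquiv.mul_apply, AlgEquiv.mul_apply, AlgEquiv.aut_inv, cocycleAlg_apply',
    cocycleAlg_apply', GalDesc.conjAlg_smul_apply, inv_smul_smul, inv_smul_smul,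
    g.apply_symm_apply] at h1
  show g' (c (g.symm (σ • t))) = σ • g' (c (g.symm t))
  rw [h1, c.apply_symm_apply, g'.apply_symm_apply]

theorem algCocycle_one {B : Type*} [Ring B] [Algebra K B]
    [MulSemiringAction (K ≃ₐ[k] K) B] [SMulDistribClass (K ≃ₐ[k] K) K B]
    (a : GpH1.OneCocycle (K ≃ₐ[k] K) (B ≃ₐ[K] B)) : a 1 = 1 := by
  have h := a.2 1 1
  rw [one_smul, mul_one] at h
  exact (mul_eq_left (a := a 1)).mp h.symm

/-- The twisted semilinear action attached to a cocycle in `K⊗A ≃ₐ[K] K⊗A`. -/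
def twistAlg (a : GpH1.OneCocycle (K ≃ₐ[k] K) ((K ⊗[k] A) ≃ₐ[K] (K ⊗[k] A))) :
    SemiAct k K (K ⊗[k] A) :=
  SemiAct.ofTwist (fun σ => ((a σ).toLinearEquiv : K ⊗[k] A →ₗ[K] K ⊗[k] A)) (fun x => by
      show a 1 x = x
      rw [algCocycle_one a]; rfl)
    (fun σ τ x => by
      show a (σ * τ) x = a σ (σ • a τ (σ⁻¹ • x))
      rw [a.2 σ τ]; rfl)

theorem twistAlg_apply (a : GpH1.OneCocycle (K ≃ₐ[k] K) ((K ⊗[k] A) ≃ₐ[K] (K ⊗[k] A)))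
    (σ : K ≃ₐ[k] K) (x : K ⊗[k] A) : (twistAlg a).ρ σ x = a σ (σ • x) := rfl

/-- S15971 -/
theorem alg_exists_twisted_form [FiniteDimensional k K] [IsGalois k K]
    (a : GpH1.OneCocycle (K ≃ₐ[k] K) ((K ⊗[k] A) ≃ₐ[K] (K ⊗[k] A)))
    {B : Type x} [Ring B] [Algebra k B] (ι : B →ₐ[k] K ⊗[k] A) (hι : Function.Injective ι)
    (hB : ∀ x : K ⊗[k] A, x ∈ ι.range ↔ ∀ σ : K ≃ₐ[k] K, a σ (σ • x) = x) :
    ∃ g : (K ⊗[k] A) ≃ₐ[K] (K ⊗[k] B),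
      (∀ (c : K) (b : B), g.symm (c ⊗ₜ[k] b) = c • ι b) ∧ GalDesc.cocycleAlg k g = a := by
  let S := twistAlg a
  have hW' : ∀ x : K ⊗[k] A, x ∈ LinearMap.range ι.toLinearMap ↔ x ∈ S.fixed := by
    intro x
    rw [SemiAct.mem_fixed]
    exact hB x
  let g₀ : K ⊗[k] B ≃ₗ[K] K ⊗[k] A := S.liftEquiv ι.toLinearMap hι hW'
  have hg₀ : ∀ (c : K) (b : B), g₀ (c ⊗ₜ[k] b) = c • ι b := fun c b => rfl
  let G₀ : K ⊗[k] B ≃ₐ[K] K ⊗[k] A :=
    Algebra.TensorProduct.algEquivOfLinearEquivTensorProduct g₀ (by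
      intro a₁ a₂ b₁ b₂
      rw [hg₀, hg₀, hg₀, map_mul, smul_mul_smul_comm]) (by
      rw [hg₀, map_one, one_smul])
  have hG₀ : ∀ t, G₀ t = g₀ t := fun t => rfl
  refine ⟨G₀.symm, fun c b => ?_, ?_⟩
  · rw [AlgEquiv.symm_symm, hG₀, hg₀]
  · apply GpH1.OneCocycle.ext
    intro σ
    ext x
    rw [cocycleAlg_apply', AlgEquiv.symm_symm]
    show G₀ (σ • G₀.symm (σ⁻¹ • x)) = a σ x
    rw [hG₀, S.liftEquiv_smul ι.toLinearMap hι hW', ← hG₀, AlgEquiv.apply_symm_apply]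
    show a σ (σ • σ⁻¹ • x) = a σ x
    rw [smul_inv_smul]

end AlgDesc

end Groth.Agent.H7.Desc
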