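import Mathlib
import Groth.Prelude.Def_GSzCSA
import Groth.Agent.Lib.Helper7.CSA5
import Groth.Agent.Lib.Helper7.Desc5
import Groth.Agent.Lib.Helper7.Desc2

set_option autoImplicit false

namespace Groth.Agent.H7.Br
universe u v w
open scoped TensorProduct MatrixGroups
attribute [local instance] CSAGal.matrixAction GpH1.unitsAction

section Cochains
variable (k : Type u) (K : Type v) [Field k] [Field K] [Algebra k K]

/-- the Galois action on units of `K`. -/
def sU (σ : K ≃ₐ[k] K) : Kˣ →* Kˣ := Units.map ((σ : K ≃ₐ[k] K) : K →* K)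

@[simp] theorem coe_sU (σ : K ≃ₐ[k] K) (u : Kˣ) : ((sU k K σ u : Kˣ) : K) = σ u := rfl

/-- 2-cochains with values in `Kˣ`. -/
abbrev C2 : Type v := (K ≃ₐ[k] K) → (K ≃ₐ[k] K) → Kˣ

/-- coboundary of a 1-cochain. -/
def cob (a : (K ≃ₐ[k] K) → Kˣ) : C2 k K :=
  fun σ τ => a σ * sU k K σ (a τ) * (a (σ * τ))⁻¹

theorem cob_one : cob k K (1 : (K ≃ₐ[k] K) → Kˣ) = 1 := by
  funext σ τ
  simp [cob]

theorem cob_mul (a b : (K ≃ₐ[k] K) → Kˣ) : cob k K (a * b) = cob k K a * cob k K b := by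
  funext σ τ
  simp only [cob, Pi.mul_apply, map_mul, mul_inv]
  ac_rfl

theorem cob_inv (a : (K ≃ₐ[k] K) → Kˣ) : cob k K a⁻¹ = (cob k K a)⁻¹ := by
  funext σ τ
  simp only [cob, Pi.inv_apply, map_inv, mul_inv, inv_inv]

/-- the subgroup of 2-coboundaries. -/
def B2 : Subgroup (C2 k K) where
  carrier := Set.range (cob k K)
  one_mem' := ⟨1, cob_one k K⟩
  mul_mem' := by
    rintro _ _ ⟨a, rfl⟩ ⟨b, rfl⟩
    exact ⟨a * b, cob_mul k K a b⟩
  inv_mem' := by
    rintro _ ⟨a, rfl⟩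
    exact ⟨a⁻¹, cob_inv k K a⟩

theorem mem_B2 (c : C2 k K) : c ∈ B2 k K ↔ ∃ a, cob k K a = c := Iff.rfl

/-- cochains modulo coboundaries -/
abbrev H2 : Type v := C2 k K ⧸ B2 k K

/-- class of a cochain. -/
def cls (c : C2 k K) : H2 k K := QuotientGroup.mk c

theorem cls_eq_one_iff (c : C2 k K) : cls k K c = 1 ↔ ∃ a, cob k K a = c := by
  unfold cls
  rw [QuotientGroup.eq_one_iff]
  rfl

theorem cls_eq_iff (c c' : C2 k K) : cls k K c = cls k K c' ↔ ∃ a, c' = c * cob k K a := by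
  unfold cls
  rw [QuotientGroup.eq]
  constructor
  · rintro ⟨a, ha⟩
    exact ⟨a, by rw [ha]; simp⟩
  · rintro ⟨a, rfl⟩
    exact ⟨a, by simp⟩

theorem cls_mul (c c' : C2 k K) : cls k K (c * c') = cls k K c * cls k K c' := rfl

theorem cls_pow (c : C2 k K) (e : ℕ) : cls k K (c ^ e) = cls k K c ^ e := rfl

end Cochains

section Datum
variable (k : Type u) (K : Type v) [Field k] [Field K] [Algebra k K]
variable (A : Type w) [Ring A] [Algebra k A]

/-- A splitting of `A` over `K` together with matrices describing the transported Galois action. -/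
structure Datum (n : ℕ) where
  φ : K ⊗[k] A ≃ₐ[K] Matrix (Fin n) (Fin n) K
  g : (K ≃ₐ[k] K) → GL (Fin n) K
  c : C2 k K
  hφ : ∀ (σ : K ≃ₐ[k] K) (x : K ⊗[k] A), φ (σ • x) =
    (g σ : Matrix (Fin n) (Fin n) K) * σ • φ x * ((g σ)⁻¹ : GL (Fin n) K)
  hc : ∀ σ τ : K ≃ₐ[k] K, (g σ : Matrix (Fin n) (Fin n) K) * σ • (g τ : Matrix (Fin n) (Fin n) K) =
    (c σ τ : K) • (g (σ * τ) : Matrix (Fin n) (Fin n) K)

variable {k K A}

theorem smul_matrix_eq_map {n : ℕ} (σ : K ≃ₐ[k] K) (M : Matrix (Fin n) (Fin n) K) :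
    σ • M = (σ : K ≃ₐ[k] K).mapMatrix M := rfl

/-- the transported action of `σ` on matrices, as a `K`-algebra automorphism. -/
noncomputable def twistHom {n : ℕ} (φ : K ⊗[k] A ≃ₐ[K] Matrix (Fin n) (Fin n) K) (σ : K ≃ₐ[k] K) :
    Matrix (Fin n) (Fin n) K →ₐ[K] Matrix (Fin n) (Fin n) K :=
  { ((φ.restrictScalars k).toAlgHom.comp
      ((Algebra.TensorProduct.map (σ : K →ₐ[k] K) (AlgHom.id k A)).comp
        (((φ.symm.restrictScalars k).toAlgHom).comp
          ((σ⁻¹ : K ≃ₐ[k] K).mapMatrix (m := Fin n)).toAlgHom))).toRingHom with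
    commutes' := fun a => by
      show φ (Algebra.TensorProduct.map (σ : K →ₐ[k] K) (AlgHom.id k A)
        (φ.symm ((σ⁻¹ : K ≃ₐ[k] K).mapMatrix (algebraMap K (Matrix (Fin n) (Fin n) K) a)))) = _
      have h1 : (σ⁻¹ : K ≃ₐ[k] K).mapMatrix (algebraMap K (Matrix (Fin n) (Fin n) K) a) =
          algebraMap K (Matrix (Fin n) (Fin n) K) ((σ⁻¹ : K ≃ₐ[k] K) a) := by
        ext i j
        by_cases hij : i = j
        · simp [Matrix.algebraMap_matrix_apply, hij]
        · simp [Matrix.algebraMap_matrix_apply, hij]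
      rw [h1, AlgEquiv.commutes, Algebra.TensorProduct.algebraMap_apply,
        Algebra.TensorProduct.map_tmul]
      simp only [Algebra.algebraMap_self, RingHom.id_apply, AlgHom.coe_coe, AlgHom.coe_id, id_eq]
      have h2 : σ ((σ⁻¹ : K ≃ₐ[k] K) a) = a := by
        rw [← AlgEquiv.mul_apply, mul_inv_cancel, AlgEquiv.one_apply]
      show φ ((σ ((σ⁻¹ : K ≃ₐ[k] K) a)) ⊗ₜ[k] (1 : A)) = _
      rw [h2]
      have h3 : a ⊗ₜ[k] (1 : A) = algebraMap K (K ⊗[k] A) a := by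
        rw [Algebra.TensorProduct.algebraMap_apply]; rfl
      rw [h3, AlgEquiv.commutes] }

theorem twistHom_apply {n : ℕ} (φ : K ⊗[k] A ≃ₐ[K] Matrix (Fin n) (Fin n) K) (σ : K ≃ₐ[k] K)
    (M : Matrix (Fin n) (Fin n) K) : twistHom φ σ M = φ (σ • φ.symm (σ⁻¹ • M)) := by
  rw [CSAGal.smul_eq_map]
  rfl

theorem twistHom_smul {n : ℕ} (φ : K ⊗[k] A ≃ₐ[K] Matrix (Fin n) (Fin n) K) (σ : K ≃ₐ[k] K)
    (x : K ⊗[k] A) : twistHom φ σ (σ • φ x) = φ (σ • x) := by
  rw [twistHom_apply, inv_smul_smul, φ.symm_apply_apply]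


/-- two invertible matrices inducing the same conjugation differ by a nonzero scalar. -/
theorem exists_scalar_of_conj_eq {n : ℕ} [NeZero n] (x y : GL (Fin n) K)
    (h : ∀ M : Matrix (Fin n) (Fin n) K,
      (x : Matrix (Fin n) (Fin n) K) * M * ((x⁻¹ : GL (Fin n) K) : Matrix (Fin n) (Fin n) K) =
      (y : Matrix (Fin n) (Fin n) K) * M * ((y⁻¹ : GL (Fin n) K) : Matrix (Fin n) (Fin n) K)) :
    ∃ c : Kˣ, (y : Matrix (Fin n) (Fin n) K) = (c : K) • (x : Matrix (Fin n) (Fin n) K) := by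
  have hcen : x⁻¹ * y ∈ Subgroup.center (GL (Fin n) K) := by
    rw [Subgroup.mem_center_iff]
    intro u
    have h1 : x * u * x⁻¹ = y * u * y⁻¹ := by
      apply Units.ext
      simpa using h (u : Matrix (Fin n) (Fin n) K)
    have h2 : u = x⁻¹ * y * u * y⁻¹ * x := by
      calc u = x⁻¹ * (x * u * x⁻¹) * x := by group
        _ = x⁻¹ * (y * u * y⁻¹) * x := by rw [h1]
        _ = x⁻¹ * y * u * y⁻¹ * x := by group
    calc u * (x⁻¹ * y) = (x⁻¹ * y * u * y⁻¹ * x) * (x⁻¹ * y) := by rw [← h2]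
      _ = x⁻¹ * y * u := by group
  obtain ⟨c, hc⟩ := Matrix.GeneralLinearGroup.mem_center_iff_val_mem_range_scalar.mp hcen
  have hy : (y : Matrix (Fin n) (Fin n) K) = c • (x : Matrix (Fin n) (Fin n) K) := by
    have e1 : (y : Matrix (Fin n) (Fin n) K) =
        (x : Matrix (Fin n) (Fin n) K) * ((x⁻¹ * y : GL (Fin n) K) : Matrix (Fin n) (Fin n) K) := by
      rw [Units.val_mul, ← mul_assoc, Units.mul_inv, one_mul]
    rw [e1, ← hc, Matrix.scalar_apply, ← Matrix.smul_eq_mul_diagonal]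
  have hc0 : c ≠ 0 := by
    rintro rfl
    rw [zero_smul] at hy
    have : (1 : Matrix (Fin n) (Fin n) K) = 0 := by
      rw [← Units.mul_inv y, hy, zero_mul]
    exact one_ne_zero this
  exact ⟨Units.mk0 c hc0, hy⟩

/-- existence of a datum extending a given splitting. -/
theorem exists_datum {n : ℕ} [NeZero n] (φ : K ⊗[k] A ≃ₐ[K] Matrix (Fin n) (Fin n) K) :
    ∃ D : Datum k K A n, D.φ = φ := by
  classical
  have hSN : ∀ σ : K ≃ₐ[k] K, ∃ h : GL (Fin n) K, ∀ M : Matrix (Fin n) (Fin n) K,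
      twistHom φ σ M = (h : Matrix (Fin n) (Fin n) K) * M *
        ((h⁻¹ : GL (Fin n) K) : Matrix (Fin n) (Fin n) K) := fun σ =>
    CSA.skolem_noether K (Matrix (Fin n) (Fin n) K) (Matrix (Fin n) (Fin n) K)
      (twistHom φ σ) (AlgHom.id K _)
  choose g hg using hSN
  have hφ : ∀ (σ : K ≃ₐ[k] K) (x : K ⊗[k] A), φ (σ • x) =
      (g σ : Matrix (Fin n) (Fin n) K) * σ • φ x * ((g σ)⁻¹ : GL (Fin n) K) := fun σ x => by
    rw [← twistHom_smul, hg]
  have hcen : ∀ σ τ : K ≃ₐ[k] K, ∃ c : Kˣ,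
      (g σ : Matrix (Fin n) (Fin n) K) * σ • (g τ : Matrix (Fin n) (Fin n) K) =
        (c : K) • (g (σ * τ) : Matrix (Fin n) (Fin n) K) := by
    intro σ τ
    have := exists_scalar_of_conj_eq (g (σ * τ)) (g σ * σ • g τ) (fun N => by
      set x := φ.symm ((σ * τ)⁻¹ • N) with hx
      have hN : (σ * τ) • φ x = N := by rw [hx, φ.apply_symm_apply, smul_inv_smul]
      have e1 := hφ (σ * τ) x
      rw [mul_smul, hφ σ (τ • x), hφ τ x, hN] at e1
      rw [← e1]
      rw [smul_mul', smul_mul', ← mul_smul, hN]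
      simp only [Units.val_mul, mul_inv_rev, mul_assoc]
      rfl)
    obtain ⟨c, hc⟩ := this
    exact ⟨c, by rw [← hc]; rfl⟩
  choose c hc using hcen
  exact ⟨⟨φ, g, c, hφ, hc⟩, rfl⟩


theorem smul_smul_matrix {n : ℕ} (σ : K ≃ₐ[k] K) (a : K) (M : Matrix (Fin n) (Fin n) K) :
    σ • (a • M) = σ a • σ • M := by
  ext i j
  simp [Matrix.smul_apply]

theorem smul_units_inv {n : ℕ} (σ : K ≃ₐ[k] K) (h : GL (Fin n) K) :
    σ • ((h⁻¹ : GL (Fin n) K) : Matrix (Fin n) (Fin n) K) =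
      (((σ • h)⁻¹ : GL (Fin n) K) : Matrix (Fin n) (Fin n) K) := rfl

theorem scalar_eq_of_smul_unit_eq {n : ℕ} [NeZero n] (a b : K) (h : GL (Fin n) K)
    (hab : a • (h : Matrix (Fin n) (Fin n) K) = b • (h : Matrix (Fin n) (Fin n) K)) : a = b := by
  have h1 : a • (1 : Matrix (Fin n) (Fin n) K) = b • (1 : Matrix (Fin n) (Fin n) K) := by
    have := congrArg (fun M => M * ((h⁻¹ : GL (Fin n) K) : Matrix (Fin n) (Fin n) K)) hab
    simpa [Matrix.smul_mul] using this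
  have h2 := congrFun (congrFun h1 0) 0
  simpa using h2

/-- **uniqueness**: two data for the same algebra have cohomologous cocycles. -/
theorem Datum.cls_eq {n : ℕ} [NeZero n] (D D' : Datum k K A n) :
    cls k K D.c = cls k K D'.c := by
  classical
  rw [cls_eq_iff]
  let ψ : Matrix (Fin n) (Fin n) K ≃ₐ[K] Matrix (Fin n) (Fin n) K := D.φ.symm.trans D'.φ
  obtain ⟨h, hh⟩ := CSA.skolem_noether K (Matrix (Fin n) (Fin n) K) (Matrix (Fin n) (Fin n) K)
    (ψ : Matrix (Fin n) (Fin n) K →ₐ[K] Matrix (Fin n) (Fin n) K) (AlgHom.id K _)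
  have hφ' : ∀ x, D'.φ x = (h : Matrix (Fin n) (Fin n) K) * D.φ x *
      ((h⁻¹ : GL (Fin n) K) : Matrix (Fin n) (Fin n) K) := by
    intro x
    have := hh (D.φ x)
    simpa [ψ] using this
  -- the scalars a σ
  have ha : ∀ σ : K ≃ₐ[k] K, ∃ a : Kˣ,
      ((D'.g σ * σ • h : GL (Fin n) K) : Matrix (Fin n) (Fin n) K) =
        (a : K) • ((h * D.g σ : GL (Fin n) K) : Matrix (Fin n) (Fin n) K) := by
    intro σ
    apply exists_scalar_of_conj_eq
    intro N
    set x := D.φ.symm (σ⁻¹ • N) with hx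
    have hN : σ • D.φ x = N := by rw [hx, D.φ.apply_symm_apply, smul_inv_smul]
    have e1 : D'.φ (σ • x) = (h : Matrix (Fin n) (Fin n) K) * D.φ (σ • x) *
        ((h⁻¹ : GL (Fin n) K) : Matrix (Fin n) (Fin n) K) := hφ' _
    rw [D'.hφ, hφ' x, D.hφ, smul_mul', smul_mul', hN, smul_units_inv] at e1
    simp only [Units.val_mul, mul_inv_rev, mul_assoc] at e1 ⊢
    exact e1.symm
  choose a ha using ha
  refine ⟨a, ?_⟩
  funext σ τ
  apply Units.ext
  -- compare the two computations of g'σ σ(g'τ) (στ)h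
  have ha' : ∀ σ : K ≃ₐ[k] K, (D'.g σ : Matrix (Fin n) (Fin n) K) *
      σ • (h : Matrix (Fin n) (Fin n) K) = (a σ : K) • ((h : Matrix (Fin n) (Fin n) K) *
        (D.g σ : Matrix (Fin n) (Fin n) K)) := fun σ => by
    have := ha σ
    rw [Units.val_mul, Units.val_mul] at this
    exact this
  have e1 : (D'.g σ : Matrix (Fin n) (Fin n) K) * σ • (D'.g τ : Matrix (Fin n) (Fin n) K) *
      (σ * τ) • (h : Matrix (Fin n) (Fin n) K) =
      ((D'.c σ τ : K) * (a (σ * τ) : K)) •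
        ((h : Matrix (Fin n) (Fin n) K) * (D.g (σ * τ) : Matrix (Fin n) (Fin n) K)) := by
    rw [D'.hc, Matrix.smul_mul, ha' (σ * τ), smul_smul]
  have e2 : (D'.g σ : Matrix (Fin n) (Fin n) K) * σ • (D'.g τ : Matrix (Fin n) (Fin n) K) *
      (σ * τ) • (h : Matrix (Fin n) (Fin n) K) =
      ((a σ : K) * σ (a τ : K) * (D.c σ τ : K)) •
        ((h : Matrix (Fin n) (Fin n) K) * (D.g (σ * τ) : Matrix (Fin n) (Fin n) K)) := by
    calc (D'.g σ : Matrix (Fin n) (Fin n) K) * σ • (D'.g τ : Matrix (Fin n) (Fin n) K) *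
        (σ * τ) • (h : Matrix (Fin n) (Fin n) K)
        = (D'.g σ : Matrix (Fin n) (Fin n) K) * σ • ((D'.g τ : Matrix (Fin n) (Fin n) K) *
            τ • (h : Matrix (Fin n) (Fin n) K)) := by
          rw [smul_mul', mul_smul, mul_assoc]
      _ = (D'.g σ : Matrix (Fin n) (Fin n) K) * σ • ((a τ : K) • ((h : Matrix (Fin n) (Fin n) K) *
            (D.g τ : Matrix (Fin n) (Fin n) K))) := by rw [ha' τ]
      _ = (D'.g σ : Matrix (Fin n) (Fin n) K) * (σ (a τ : K) • (σ • (h : Matrix (Fin n) (Fin n) K) *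
            σ • (D.g τ : Matrix (Fin n) (Fin n) K))) := by
          rw [smul_smul_matrix, smul_mul']
      _ = σ (a τ : K) • (((D'.g σ : Matrix (Fin n) (Fin n) K) *
            σ • (h : Matrix (Fin n) (Fin n) K)) * σ • (D.g τ : Matrix (Fin n) (Fin n) K)) := by
          rw [Matrix.mul_smul, mul_assoc]
      _ = σ (a τ : K) • (((a σ : K) • ((h : Matrix (Fin n) (Fin n) K) *
            (D.g σ : Matrix (Fin n) (Fin n) K))) * σ • (D.g τ : Matrix (Fin n) (Fin n) K)) := by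
          rw [ha' σ]
      _ = σ (a τ : K) • ((a σ : K) • ((h : Matrix (Fin n) (Fin n) K) *
            ((D.g σ : Matrix (Fin n) (Fin n) K) * σ • (D.g τ : Matrix (Fin n) (Fin n) K)))) := by
          rw [Matrix.smul_mul, mul_assoc]
      _ = σ (a τ : K) • ((a σ : K) • ((h : Matrix (Fin n) (Fin n) K) *
            ((D.c σ τ : K) • (D.g (σ * τ) : Matrix (Fin n) (Fin n) K)))) := by rw [D.hc]
      _ = ((a σ : K) * σ (a τ : K) * (D.c σ τ : K)) •
            ((h : Matrix (Fin n) (Fin n) K) * (D.g (σ * τ) : Matrix (Fin n) (Fin n) K)) := by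
          rw [Matrix.mul_smul, smul_smul, smul_smul]
          congr 1
          ring
  have e3 := e1.symm.trans e2
  have e4 := scalar_eq_of_smul_unit_eq ((D'.c σ τ : K) * (a (σ * τ) : K))
    ((a σ : K) * σ (a τ : K) * (D.c σ τ : K)) (h * D.g (σ * τ)) (by rw [Units.val_mul]; exact e3)
  -- e4 : c' * a(στ) = a σ * σ a τ * c
  simp only [Pi.mul_apply, cob, Units.val_mul, coe_sU, Units.val_inv_eq_inv_val]
  have ha0 : (a (σ * τ) : K) ≠ 0 := (a (σ * τ)).ne_zero
  field_simp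
  rw [e4]
  ring

end Datum

end Groth.Agent.H7.Br
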