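import Mathlib
import Groth.Prelude.Def_GSzCSA
import Groth.Agent.Lib.Helper7.Desc5
import Groth.Agent.Lib.Helper7.CSA5

set_option autoImplicit false

namespace Groth.Agent.H7.PGL
universe u v w x
open scoped TensorProduct MatrixGroups
attribute [local instance] CSAGal.matrixAction GpH1.unitsAction CSAGal.pglAction CSAGal.tensorAction

section
variable {k : Type u} {K : Type v} [Field k] [Field K] [Algebra k K] {n : ℕ}

/-- conjugation by an invertible matrix as an algebra automorphism -/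
def conjAlg (h : GL (Fin n) K) : Matrix (Fin n) (Fin n) K ≃ₐ[K] Matrix (Fin n) (Fin n) K where
  toFun M := (h : Matrix (Fin n) (Fin n) K) * M * ((h⁻¹ : GL (Fin n) K) : Matrix (Fin n) (Fin n) K)
  invFun M := ((h⁻¹ : GL (Fin n) K) : Matrix (Fin n) (Fin n) K) * M * (h : Matrix (Fin n) (Fin n) K)
  left_inv M := by simp [mul_assoc]
  right_inv M := by simp [mul_assoc]
  map_mul' M N := by simp [mul_assoc]
  map_add' M N := by simp [mul_add, add_mul]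
  commutes' r := by
    simp [Algebra.algebraMap_eq_smul_one]

theorem conjAlg_apply (h : GL (Fin n) K) (M : Matrix (Fin n) (Fin n) K) :
    conjAlg h M = (h : Matrix (Fin n) (Fin n) K) * M *
      ((h⁻¹ : GL (Fin n) K) : Matrix (Fin n) (Fin n) K) := rfl

theorem conjAlg_symm_apply (h : GL (Fin n) K) (M : Matrix (Fin n) (Fin n) K) :
    (conjAlg h).symm M = ((h⁻¹ : GL (Fin n) K) : Matrix (Fin n) (Fin n) K) * M *
      (h : Matrix (Fin n) (Fin n) K) := rfl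

theorem smul_mk (σ : K ≃ₐ[k] K) (g : GL (Fin n) K) :
    σ • (Matrix.ProjGenLinGroup.mk g : Matrix.ProjGenLinGroup (Fin n) K) =
      Matrix.ProjGenLinGroup.mk (σ • g) := rfl

theorem coe_smul_GL (σ : K ≃ₐ[k] K) (g : GL (Fin n) K) :
    ((σ • g : GL (Fin n) K) : Matrix (Fin n) (Fin n) K) = σ • (g : Matrix (Fin n) (Fin n) K) := rfl

theorem coe_inv_smul_GL (σ : K ≃ₐ[k] K) (g : GL (Fin n) K) :
    (((σ • g)⁻¹ : GL (Fin n) K) : Matrix (Fin n) (Fin n) K) =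
      σ • ((g⁻¹ : GL (Fin n) K) : Matrix (Fin n) (Fin n) K) := rfl

theorem mk_eq_of_conj_eq (x y : GL (Fin n) K)
    (h : ∀ M : Matrix (Fin n) (Fin n) K,
      (x : Matrix (Fin n) (Fin n) K) * M * ((x⁻¹ : GL (Fin n) K) : Matrix (Fin n) (Fin n) K) =
      (y : Matrix (Fin n) (Fin n) K) * M * ((y⁻¹ : GL (Fin n) K) : Matrix (Fin n) (Fin n) K)) :
    (Matrix.ProjGenLinGroup.mk x : Matrix.ProjGenLinGroup (Fin n) K) =
      Matrix.ProjGenLinGroup.mk y := by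
  have hcen : x⁻¹ * y ∈ Subgroup.center (GL (Fin n) K) := by
    rw [Subgroup.mem_center_iff]
    intro u
    have h1 : x * u * x⁻¹ = y * u * y⁻¹ := by
      apply Units.ext
      simpa using h (u : Matrix (Fin n) (Fin n) K)
    have h2 : u = x⁻¹ * y * u * y⁻¹ * x := by
      calc u = x⁻¹ * (x * u * x⁻¹) * x := by group
        _ = x⁻¹ * (y * u * y⁻¹) * x := by rw [h1]
        _ = x⁻¹ * y * u * y⁻¹ * x := by group
    calc u * (x⁻¹ * y) = (x⁻¹ * y * u * y⁻¹ * x) * (x⁻¹ * y) := by rw [← h2]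
      _ = x⁻¹ * y * u := by group
  exact (QuotientGroup.eq (s := Subgroup.center (GL (Fin n) K))).mpr hcen

end

section Main
variable {k : Type u} {K : Type v} [Field k] [Field K] [Algebra k K] {n : ℕ}
  {A : Type w} [Ring A] [Algebra k A] {A' : Type x} [Ring A'] [Algebra k A']

/-- S13290, direction ⇒ -/
theorem cl_eq_of_algEquiv (hn : 0 < n)
    (φ : K ⊗[k] A ≃ₐ[K] Matrix (Fin n) (Fin n) K) (φ' : K ⊗[k] A' ≃ₐ[K] Matrix (Fin n) (Fin n) K)
    (c c' : GpH1.OneCocycle (K ≃ₐ[k] K) (Matrix.ProjGenLinGroup (Fin n) K))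
    (hc : (∀ (σ : K ≃ₐ[k] K) (g : GL (Fin n) K), Matrix.ProjGenLinGroup.mk g = c σ →
          ∀ M : Matrix (Fin n) (Fin n) K, φ (σ • φ.symm M) = (g : Matrix (Fin n) (Fin n) K) * (σ • M) * ((g⁻¹ : GL (Fin n) K) : Matrix (Fin n) (Fin n) K)))
    (hc' : (∀ (σ : K ≃ₐ[k] K) (g : GL (Fin n) K), Matrix.ProjGenLinGroup.mk g = c' σ →
          ∀ M : Matrix (Fin n) (Fin n) K, φ' (σ • φ'.symm M) = (g : Matrix (Fin n) (Fin n) K) * (σ • M) * ((g⁻¹ : GL (Fin n) K) : Matrix (Fin n) (Fin n) K)))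
    (f : A ≃ₐ[k] A') : c.cl = c'.cl := by
  have : NeZero n := ⟨hn.ne'⟩
  let F : K ⊗[k] A ≃ₐ[K] K ⊗[k] A' := Algebra.TensorProduct.congr (AlgEquiv.refl : K ≃ₐ[K] K) f
  have hF : ∀ (σ : K ≃ₐ[k] K) t, F (σ • t) = σ • F t := fun σ t => Desc.congr_smul_comm f σ t
  let ψ : Matrix (Fin n) (Fin n) K ≃ₐ[K] Matrix (Fin n) (Fin n) K := φ.symm.trans (F.trans φ')
  have hψ : ∀ t, φ' (F t) = ψ (φ t) := by
    intro t
    show φ' (F t) = φ' (F (φ.symm (φ t)))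
    rw [φ.symm_apply_apply]
  obtain ⟨h, hh⟩ := CSA.skolem_noether K (Matrix (Fin n) (Fin n) K) (Matrix (Fin n) (Fin n) K)
    (ψ : Matrix (Fin n) (Fin n) K →ₐ[K] Matrix (Fin n) (Fin n) K) (AlgHom.id K _)
  have hh' : ∀ M, ψ M = (h : Matrix (Fin n) (Fin n) K) * M *
      ((h⁻¹ : GL (Fin n) K) : Matrix (Fin n) (Fin n) K) := hh
  rw [GpH1.OneCocycle.cl_eq_cl_iff]
  refine ⟨Matrix.ProjGenLinGroup.mk h, fun σ => ?_⟩
  obtain ⟨g, hg⟩ := Matrix.ProjGenLinGroup.mk_surjective (c σ)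
  obtain ⟨g', hg'⟩ := Matrix.ProjGenLinGroup.mk_surjective (c' σ)
  rw [← hg, ← hg', smul_mk, ← map_inv, ← map_mul, ← map_mul]
  apply mk_eq_of_conj_eq
  intro M
  -- key identity
  have key : ∀ N : Matrix (Fin n) (Fin n) K,
      (h : Matrix (Fin n) (Fin n) K) * ((g : Matrix (Fin n) (Fin n) K) * (σ • N) *
        ((g⁻¹ : GL (Fin n) K) : Matrix (Fin n) (Fin n) K)) *
        ((h⁻¹ : GL (Fin n) K) : Matrix (Fin n) (Fin n) K) =
      (g' : Matrix (Fin n) (Fin n) K) * (σ • ((h : Matrix (Fin n) (Fin n) K) * N *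
        ((h⁻¹ : GL (Fin n) K) : Matrix (Fin n) (Fin n) K))) *
        ((g'⁻¹ : GL (Fin n) K) : Matrix (Fin n) (Fin n) K) := by
    intro N
    have e1 : φ' (σ • F (φ.symm N)) = ψ (φ (σ • φ.symm N)) := by
      rw [← hF, hψ]
    have e2 : F (φ.symm N) = φ'.symm (ψ N) := by
      apply φ'.injective
      rw [hψ, φ.apply_symm_apply, φ'.apply_symm_apply]
    rw [hc σ g hg N, hh'] at e1
    rw [e2, hc' σ g' hg' (ψ N), hh'] at e1
    exact e1.symm
  have key2 := key (σ⁻¹ • M)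
  rw [smul_inv_smul, smul_mul', smul_mul', smul_inv_smul] at key2
  simp only [Units.val_mul, mul_inv_rev, inv_inv, coe_smul_GL, coe_inv_smul_GL]
  calc (g : Matrix (Fin n) (Fin n) K) * M * ((g⁻¹ : GL (Fin n) K) : Matrix (Fin n) (Fin n) K)
      = ((h⁻¹ : GL (Fin n) K) : Matrix (Fin n) (Fin n) K) *
        ((h : Matrix (Fin n) (Fin n) K) * ((g : Matrix (Fin n) (Fin n) K) * M *
        ((g⁻¹ : GL (Fin n) K) : Matrix (Fin n) (Fin n) K)) *
        ((h⁻¹ : GL (Fin n) K) : Matrix (Fin n) (Fin n) K)) * (h : Matrix (Fin n) (Fin n) K) := by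
        simp [mul_assoc]
    _ = _ := by
        rw [key2]
        simp only [mul_assoc]

/-- S13290, direction ⇐ -/
theorem algEquiv_of_cl_eq [FiniteDimensional k K] [IsGalois k K]
    (φ : K ⊗[k] A ≃ₐ[K] Matrix (Fin n) (Fin n) K) (φ' : K ⊗[k] A' ≃ₐ[K] Matrix (Fin n) (Fin n) K)
    (c c' : GpH1.OneCocycle (K ≃ₐ[k] K) (Matrix.ProjGenLinGroup (Fin n) K))
    (hc : (∀ (σ : K ≃ₐ[k] K) (g : GL (Fin n) K), Matrix.ProjGenLinGroup.mk g = c σ →
          ∀ M : Matrix (Fin n) (Fin n) K, φ (σ • φ.symm M) = (g : Matrix (Fin n) (Fin n) K) * (σ • M) * ((g⁻¹ : GL (Fin n) K) : Matrix (Fin n) (Fin n) K)))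
    (hc' : (∀ (σ : K ≃ₐ[k] K) (g : GL (Fin n) K), Matrix.ProjGenLinGroup.mk g = c' σ →
          ∀ M : Matrix (Fin n) (Fin n) K, φ' (σ • φ'.symm M) = (g : Matrix (Fin n) (Fin n) K) * (σ • M) * ((g⁻¹ : GL (Fin n) K) : Matrix (Fin n) (Fin n) K)))
    (hcl : c.cl = c'.cl) : Nonempty (A ≃ₐ[k] A') := by
  rw [GpH1.OneCocycle.cl_eq_cl_iff] at hcl
  obtain ⟨d, hd⟩ := hcl
  obtain ⟨h, rfl⟩ := Matrix.ProjGenLinGroup.mk_surjective d
  let ψ := conjAlg h
  let Φ : K ⊗[k] A ≃ₐ[K] K ⊗[k] A' := φ.trans (ψ.trans φ'.symm)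
  apply Desc.exists_descend_algEquiv Φ
  intro σ t
  show φ'.symm (ψ (φ (σ • t))) = σ • φ'.symm (ψ (φ t))
  apply φ'.injective
  rw [φ'.apply_symm_apply]
  obtain ⟨g, hg⟩ := Matrix.ProjGenLinGroup.mk_surjective (c σ)
  have hg'' : Matrix.ProjGenLinGroup.mk (h * g * (σ • h)⁻¹) = c' σ := by
    have := hd σ
    rw [map_mul, map_mul, map_inv, hg, this, smul_mk]
    group
  have e1 := hc' σ (h * g * (σ • h)⁻¹) hg'' (ψ (φ t))
  rw [e1]
  have e2 : φ (σ • t) = (g : Matrix (Fin n) (Fin n) K) * (σ • φ t) *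
      ((g⁻¹ : GL (Fin n) K) : Matrix (Fin n) (Fin n) K) := by
    have := hc σ g hg (φ t)
    rwa [φ.symm_apply_apply] at this
  have e3 : ((h * g * (σ • h)⁻¹ : GL (Fin n) K) : Matrix (Fin n) (Fin n) K) =
      (h : Matrix (Fin n) (Fin n) K) * (g : Matrix (Fin n) (Fin n) K) *
        σ • ((h⁻¹ : GL (Fin n) K) : Matrix (Fin n) (Fin n) K) := by
    simp only [Units.val_mul, coe_inv_smul_GL]
  have e4 : (((h * g * (σ • h)⁻¹)⁻¹ : GL (Fin n) K) : Matrix (Fin n) (Fin n) K) =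
      σ • (h : Matrix (Fin n) (Fin n) K) * ((g⁻¹ : GL (Fin n) K) : Matrix (Fin n) (Fin n) K) *
        ((h⁻¹ : GL (Fin n) K) : Matrix (Fin n) (Fin n) K) := by
    rw [mul_inv_rev, mul_inv_rev, inv_inv]
    simp only [Units.val_mul, coe_smul_GL, mul_assoc]
  have hba : σ • ((h⁻¹ : GL (Fin n) K) : Matrix (Fin n) (Fin n) K) *
      σ • (h : Matrix (Fin n) (Fin n) K) = 1 := by
    rw [← smul_mul', Units.inv_mul, smul_one]
  rw [e2, conjAlg_apply, conjAlg_apply, smul_mul', smul_mul', e3, e4]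
  simp only [mul_assoc]
  rw [← mul_assoc (σ • ((h⁻¹ : GL (Fin n) K) : Matrix (Fin n) (Fin n) K))
    (σ • (h : Matrix (Fin n) (Fin n) K)), hba, one_mul,
    ← mul_assoc (σ • ((h⁻¹ : GL (Fin n) K) : Matrix (Fin n) (Fin n) K))
    (σ • (h : Matrix (Fin n) (Fin n) K)), hba, one_mul]

end Main

end Groth.Agent.H7.PGL
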