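import Mathlib
import Groth.Prelude.Def_GSzCSA
import Groth.Agent.Lib.Helper7.Br2
import Groth.Agent.Lib.Helper7.PGL1
import Groth.Agent.Lib.Helper7.CSA10
import Groth.Prelude.Def_Curves

set_option autoImplicit false

namespace Groth.Agent.H7.Br
universe u v w w'
open scoped TensorProduct MatrixGroups
attribute [local instance] CSAGal.matrixAction GpH1.unitsAction

section Transport
variable {k : Type u} {K : Type v} [Field k] [Field K] [Algebra k K]
variable {A : Type w} [Ring A] [Algebra k A] {A' : Type w'} [Ring A'] [Algebra k A']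

/-- transport a datum along an isomorphism of algebras. -/
noncomputable def Datum.congr {n : ℕ} (f : A' ≃ₐ[k] A) (D : Datum k K A n) : Datum k K A' n where
  φ := (Algebra.TensorProduct.congr (AlgEquiv.refl : K ≃ₐ[K] K) f).trans D.φ
  g := D.g
  c := D.c
  hφ := fun σ x => by
    show D.φ (Algebra.TensorProduct.congr (AlgEquiv.refl : K ≃ₐ[K] K) f (σ • x)) = _
    rw [Desc.congr_smul_comm, D.hφ]
    rfl
  hc := D.hc

@[simp] theorem Datum.congr_c {n : ℕ} (f : A' ≃ₐ[k] A) (D : Datum k K A n) :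
    (D.congr f).c = D.c := rfl

end Transport

section Trivial
variable (k : Type u) (K : Type v) [Field k] [Field K] [Algebra k K] (n : ℕ)

/-- the standard splitting of a matrix algebra. -/
noncomputable def stdSplit : K ⊗[k] Matrix (Fin n) (Fin n) k ≃ₐ[K] Matrix (Fin n) (Fin n) K :=
  AlgEquiv.ofRingEquiv (f := (matrixEquivTensor (Fin n) k K).symm.toRingEquiv) (fun x => by
    show (matrixEquivTensor (Fin n) k K).symm (algebraMap K (K ⊗[k] Matrix (Fin n) (Fin n) k) x) = _
    rw [Algebra.TensorProduct.algebraMap_apply]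
    simp only [Algebra.algebraMap_self, RingHom.id_apply]
    rw [matrixEquivTensor_apply_symm, Matrix.map_one _ (map_zero _) (map_one _),
      Algebra.algebraMap_eq_smul_one])

theorem stdSplit_tmul (a : K) (M : Matrix (Fin n) (Fin n) k) :
    stdSplit k K n (a ⊗ₜ M) = a • M.map (algebraMap k K) := rfl

theorem stdSplit_smul (σ : K ≃ₐ[k] K) (x : K ⊗[k] Matrix (Fin n) (Fin n) k) :
    stdSplit k K n (σ • x) = σ • stdSplit k K n x := by
  induction x using TensorProduct.induction_on with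
  | zero => simp
  | tmul a M =>
    rw [TensorProduct.smul_tmul', stdSplit_tmul, stdSplit_tmul, smul_smul_matrix]
    congr 1
    ext i j
    simp [Matrix.smul_apply]
  | add x y hx hy => rw [smul_add, map_add, hx, hy, map_add, smul_add]

/-- the trivial datum of a matrix algebra. -/
noncomputable def trivDatum : Datum k K (Matrix (Fin n) (Fin n) k) n where
  φ := stdSplit k K n
  g := fun _ => 1
  c := 1
  hφ := fun σ x => by
    rw [stdSplit_smul k K n σ x]
    show σ • _ = ((1 : GL (Fin n) K) : Matrix (Fin n) (Fin n) K) * _ *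
      (((1 : GL (Fin n) K)⁻¹ : GL (Fin n) K) : Matrix (Fin n) (Fin n) K)
    rw [inv_one, Units.val_one, one_mul, mul_one]
  hc := fun σ τ => by
    simp only [Units.val_one, Pi.one_apply, one_smul, mul_one]
    rw [one_mul]
    exact smul_one (N := Matrix (Fin n) (Fin n) K) σ

@[simp] theorem trivDatum_c : (trivDatum k K n).c = 1 := rfl

end Trivial

section Split
variable {k : Type u} {K : Type v} [Field k] [Field K] [Algebra k K]
variable {A : Type w} [Ring A] [Algebra k A]

/-- scalar multiple of an invertible matrix. -/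
def smulGL {n : ℕ} (u : Kˣ) (g : GL (Fin n) K) : GL (Fin n) K :=
  Matrix.GeneralLinearGroup.scalar (Fin n) u * g

theorem coe_smulGL {n : ℕ} (u : Kˣ) (g : GL (Fin n) K) :
    ((smulGL u g : GL (Fin n) K) : Matrix (Fin n) (Fin n) K) =
      (u : K) • (g : Matrix (Fin n) (Fin n) K) := by
  unfold smulGL
  rw [Units.val_mul, Matrix.GeneralLinearGroup.coe_scalar, Matrix.scalar_apply,
    ← Matrix.smul_eq_diagonal_mul]

/-- a datum with trivial class comes from a split algebra. -/
theorem Datum.split_of_cls_eq_one [FiniteDimensional k K] [IsGalois k K] {n : ℕ} [NeZero n]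
    (D : Datum k K A n) (h : cls k K D.c = 1) :
    Nonempty (A ≃ₐ[k] Matrix (Fin n) (Fin n) k) := by
  classical
  obtain ⟨a, ha⟩ := (cls_eq_one_iff k K D.c).mp h
  have hac : ∀ σ τ : K ≃ₐ[k] K, (D.c σ τ : K) * (a (σ * τ) : K) = (a σ : K) * σ (a τ : K) := by
    intro σ τ
    rw [← ha]
    simp only [cob, Units.val_mul, coe_sU, Units.val_inv_eq_inv_val]
    have : (a (σ * τ) : K) ≠ 0 := (a (σ * τ)).ne_zero
    field_simp
  -- the corrected cocycle
  let g' : (K ≃ₐ[k] K) → GL (Fin n) K := fun σ => smulGL (a σ)⁻¹ (D.g σ)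
  have hg' : GpH1.IsOneCocycle g' := by
    intro σ τ
    apply Units.ext
    show ((smulGL (a (σ * τ))⁻¹ (D.g (σ * τ)) : GL (Fin n) K) : Matrix (Fin n) (Fin n) K) =
      ((smulGL (a σ)⁻¹ (D.g σ) : GL (Fin n) K) : Matrix (Fin n) (Fin n) K) *
        σ • ((smulGL (a τ)⁻¹ (D.g τ) : GL (Fin n) K) : Matrix (Fin n) (Fin n) K)
    rw [coe_smulGL, coe_smulGL, coe_smulGL, smul_smul_matrix, Matrix.smul_mul, Matrix.mul_smul,
      D.hc, smul_smul, smul_smul]
    congr 1
    simp only [Units.val_inv_eq_inv_val, map_inv₀]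
    have h1 : (a (σ * τ) : K) ≠ 0 := (a (σ * τ)).ne_zero
    have h2 : (a σ : K) ≠ 0 := (a σ).ne_zero
    have h3 : σ (a τ : K) ≠ 0 := by
      rw [Ne, map_eq_zero]; exact (a τ).ne_zero
    have := hac σ τ
    field_simp
    rw [← this]; ring
  obtain ⟨B, hB⟩ := Desc.exists_GL_coboundary (⟨g', hg'⟩ : GpH1.OneCocycle (K ≃ₐ[k] K) (GL (Fin n) K))
  -- hB : g' σ * σ • B = B
  have hB' : ∀ σ : K ≃ₐ[k] K, (D.g σ : Matrix (Fin n) (Fin n) K) *
      σ • (B : Matrix (Fin n) (Fin n) K) = (a σ : K) • (B : Matrix (Fin n) (Fin n) K) := by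
    intro σ
    have h1 := congrArg (fun x : GL (Fin n) K => (x : Matrix (Fin n) (Fin n) K)) (hB σ)
    simp only [Units.val_mul] at h1
    change ((smulGL (a σ)⁻¹ (D.g σ) : GL (Fin n) K) : Matrix (Fin n) (Fin n) K) *
      σ • (B : Matrix (Fin n) (Fin n) K) = _ at h1
    rw [coe_smulGL, Matrix.smul_mul] at h1
    have h2 := congrArg (fun M => (a σ : K) • M) h1
    simp only [smul_smul, Units.val_inv_eq_inv_val, mul_inv_cancel₀ (a σ).ne_zero, one_smul] at h2
    exact h2
  -- the corrected splitting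
  have hBinv : ∀ σ : K ≃ₐ[k] K, ((B⁻¹ : GL (Fin n) K) : Matrix (Fin n) (Fin n) K) *
      (D.g σ : Matrix (Fin n) (Fin n) K) =
        (a σ : K) • σ • ((B⁻¹ : GL (Fin n) K) : Matrix (Fin n) (Fin n) K) := by
    intro σ
    have e1 : (D.g σ : Matrix (Fin n) (Fin n) K) = (a σ : K) • ((B : Matrix (Fin n) (Fin n) K) *
        σ • ((B⁻¹ : GL (Fin n) K) : Matrix (Fin n) (Fin n) K)) := by
      rw [← Matrix.smul_mul, ← hB' σ, mul_assoc, ← smul_mul', Units.mul_inv, smul_one, mul_one]
    rw [e1, Matrix.mul_smul, ← mul_assoc, Units.inv_mul, one_mul]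
  have hginvB : ∀ σ : K ≃ₐ[k] K, (((D.g σ)⁻¹ : GL (Fin n) K) : Matrix (Fin n) (Fin n) K) *
      (B : Matrix (Fin n) (Fin n) K) =
        ((a σ : K))⁻¹ • σ • (B : Matrix (Fin n) (Fin n) K) := by
    intro σ
    have e1 : σ • (B : Matrix (Fin n) (Fin n) K) = (((D.g σ)⁻¹ : GL (Fin n) K) : Matrix (Fin n) (Fin n) K) *
        ((a σ : K) • (B : Matrix (Fin n) (Fin n) K)) := by
      rw [← hB' σ, ← mul_assoc, Units.inv_mul, one_mul]
    rw [e1, Matrix.mul_smul, smul_smul, inv_mul_cancel₀ (a σ).ne_zero, one_smul]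
  let φ' : K ⊗[k] A ≃ₐ[K] Matrix (Fin n) (Fin n) K := D.φ.trans (PGL.conjAlg B⁻¹)
  have hφ' : ∀ (σ : K ≃ₐ[k] K) (x : K ⊗[k] A), φ' (σ • x) = σ • φ' x := by
    intro σ x
    show PGL.conjAlg B⁻¹ (D.φ (σ • x)) = σ • PGL.conjAlg B⁻¹ (D.φ x)
    rw [PGL.conjAlg_apply, PGL.conjAlg_apply, D.hφ, inv_inv, smul_mul', smul_mul']
    calc ((B⁻¹ : GL (Fin n) K) : Matrix (Fin n) (Fin n) K) *
        ((D.g σ : Matrix (Fin n) (Fin n) K) * σ • D.φ x *
          (((D.g σ)⁻¹ : GL (Fin n) K) : Matrix (Fin n) (Fin n) K)) * (B : Matrix (Fin n) (Fin n) K)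
        = (((B⁻¹ : GL (Fin n) K) : Matrix (Fin n) (Fin n) K) * (D.g σ : Matrix (Fin n) (Fin n) K)) *
          σ • D.φ x * ((((D.g σ)⁻¹ : GL (Fin n) K) : Matrix (Fin n) (Fin n) K) *
            (B : Matrix (Fin n) (Fin n) K)) := by simp only [mul_assoc]
      _ = _ := by
        rw [hBinv, hginvB]
        simp only [Matrix.smul_mul, Matrix.mul_smul, smul_smul, inv_mul_cancel₀ (a σ).ne_zero,
          mul_inv_cancel₀ (a σ).ne_zero, one_smul]
  let h0 : K ⊗[k] A ≃ₐ[K] K ⊗[k] Matrix (Fin n) (Fin n) k := φ'.trans (stdSplit k K n).symm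
  apply Desc.exists_descend_algEquiv h0
  intro σ t
  show (stdSplit k K n).symm (φ' (σ • t)) = σ • (stdSplit k K n).symm (φ' t)
  apply (stdSplit k K n).injective
  rw [AlgEquiv.apply_symm_apply, stdSplit_smul, AlgEquiv.apply_symm_apply, hφ']

/-- a datum for a split algebra has trivial class. -/
theorem Datum.cls_eq_one_of_split {n : ℕ} [NeZero n] (D : Datum k K A n)
    (f : A ≃ₐ[k] Matrix (Fin n) (Fin n) k) : cls k K D.c = 1 := by
  have := Datum.cls_eq D ((trivDatum k K n).congr f)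
  rw [this]
  rfl

theorem splits_self_iff (X : Type w) [Ring X] [Algebra k X] :
    Curves.Splits k X k ↔ ∃ m : ℕ, m ≠ 0 ∧ Nonempty (X ≃ₐ[k] Matrix (Fin m) (Fin m) k) := by
  constructor
  · rintro ⟨m, hm, ⟨e⟩⟩
    exact ⟨m, hm, ⟨(Algebra.TensorProduct.lid k X).symm.trans e⟩⟩
  · rintro ⟨m, hm, ⟨e⟩⟩
    exact ⟨m, hm, ⟨(Algebra.TensorProduct.lid k X).trans e⟩⟩

/-- **split criterion**: an algebra with a datum is split iff the class of the datum is trivial. -/
theorem Datum.splits_iff [FiniteDimensional k K] [IsGalois k K] {n : ℕ} [NeZero n]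
    (D : Datum k K A n) : Curves.Splits k A k ↔ cls k K D.c = 1 := by
  rw [splits_self_iff]
  constructor
  · rintro ⟨m, hm, ⟨e⟩⟩
    have h1 : Module.finrank k A = n * n := CSA.finrank_eq_of_split k A K n D.φ
    have h2 : Module.finrank k A = m * m := by
      rw [e.toLinearEquiv.finrank_eq, Module.finrank_matrix]
      simp
    have hmn : m = n := by
      have : m * m = n * n := by rw [← h1, ← h2]
      exact Nat.mul_self_inj.mp this
    subst hmn
    exact D.cls_eq_one_of_split e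
  · intro h
    exact ⟨n, NeZero.ne n, D.split_of_cls_eq_one h⟩

end Split

end Groth.Agent.H7.Br
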