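import Mathlib
import Groth.Prelude.Def_GSzCSA
import Groth.Agent.Lib.Helper7.Br3
import Groth.Agent.Lib.Helper7.CSA15

set_option autoImplicit false

namespace Groth.Agent.H7.Br
universe u v w w' x
open scoped TensorProduct MatrixGroups Kronecker
attribute [local instance] CSAGal.matrixAction GpH1.unitsAction

section Kron
variable {k : Type u} {K : Type v} [Field k] [Field K] [Algebra k K] {n m : ℕ}

/-- Kronecker product reindexed to `Fin (n * m)`. -/
def kron (M : Matrix (Fin n) (Fin n) K) (N : Matrix (Fin m) (Fin m) K) :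
    Matrix (Fin (n * m)) (Fin (n * m)) K :=
  Matrix.reindexAlgEquiv K K finProdFinEquiv (M ⊗ₖ N)

theorem kron_mul (M M' : Matrix (Fin n) (Fin n) K) (N N' : Matrix (Fin m) (Fin m) K) :
    kron (M * M') (N * N') = kron M N * kron M' N' := by
  unfold kron
  rw [Matrix.mul_kronecker_mul, map_mul]

theorem kron_one : kron (1 : Matrix (Fin n) (Fin n) K) (1 : Matrix (Fin m) (Fin m) K) = 1 := by
  unfold kron
  rw [Matrix.one_kronecker_one, map_one]

theorem kron_smul_left (a : K) (M : Matrix (Fin n) (Fin n) K) (N : Matrix (Fin m) (Fin m) K) :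
    kron (a • M) N = a • kron M N := by
  unfold kron
  rw [Matrix.smul_kronecker, map_smul]

theorem kron_smul_right (a : K) (M : Matrix (Fin n) (Fin n) K) (N : Matrix (Fin m) (Fin m) K) :
    kron M (a • N) = a • kron M N := by
  unfold kron
  rw [Matrix.kronecker_smul, map_smul]

theorem kron_add_left (M M' : Matrix (Fin n) (Fin n) K) (N : Matrix (Fin m) (Fin m) K) :
    kron (M + M') N = kron M N + kron M' N := by
  unfold kron
  rw [Matrix.add_kronecker, map_add]

theorem kron_add_right (M : Matrix (Fin n) (Fin n) K) (N N' : Matrix (Fin m) (Fin m) K) :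
    kron M (N + N') = kron M N + kron M N' := by
  unfold kron
  rw [Matrix.kronecker_add, map_add]

theorem smul_kron (σ : K ≃ₐ[k] K) (M : Matrix (Fin n) (Fin n) K) (N : Matrix (Fin m) (Fin m) K) :
    σ • kron M N = kron (σ • M) (σ • N) := by
  ext i j
  simp [kron, Matrix.smul_apply, Matrix.kroneckerMap_apply]

/-- Kronecker product of invertible matrices. -/
def kronGL (x : GL (Fin n) K) (y : GL (Fin m) K) : GL (Fin (n * m)) K where
  val := kron (x : Matrix (Fin n) (Fin n) K) (y : Matrix (Fin m) (Fin m) K)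
  inv := kron ((x⁻¹ : GL (Fin n) K) : Matrix (Fin n) (Fin n) K)
    ((y⁻¹ : GL (Fin m) K) : Matrix (Fin m) (Fin m) K)
  val_inv := by rw [← kron_mul, Units.mul_inv, Units.mul_inv, kron_one]
  inv_val := by rw [← kron_mul, Units.inv_mul, Units.inv_mul, kron_one]

theorem coe_kronGL (x : GL (Fin n) K) (y : GL (Fin m) K) :
    ((kronGL x y : GL (Fin (n * m)) K) : Matrix (Fin (n * m)) (Fin (n * m)) K) =
      kron (x : Matrix (Fin n) (Fin n) K) (y : Matrix (Fin m) (Fin m) K) := rfl

theorem coe_kronGL_inv (x : GL (Fin n) K) (y : GL (Fin m) K) :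
    (((kronGL x y)⁻¹ : GL (Fin (n * m)) K) : Matrix (Fin (n * m)) (Fin (n * m)) K) =
      kron ((x⁻¹ : GL (Fin n) K) : Matrix (Fin n) (Fin n) K)
        ((y⁻¹ : GL (Fin m) K) : Matrix (Fin m) (Fin m) K) := rfl

/-- `M ↦ kron M 1` as an algebra map. -/
def kronLeft (n m : ℕ) : Matrix (Fin n) (Fin n) K →ₐ[K] Matrix (Fin (n * m)) (Fin (n * m)) K :=
  AlgHom.ofLinearMap
    { toFun := fun M => kron M (1 : Matrix (Fin m) (Fin m) K)
      map_add' := fun M M' => kron_add_left M M' 1
      map_smul' := fun a M => kron_smul_left a M 1 }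
    kron_one
    (fun M M' => by
      show kron (M * M') (1 : Matrix (Fin m) (Fin m) K) = kron M 1 * kron M' 1
      rw [← kron_mul, one_mul])

/-- `N ↦ kron 1 N` as an algebra map. -/
def kronRight (n m : ℕ) : Matrix (Fin m) (Fin m) K →ₐ[K] Matrix (Fin (n * m)) (Fin (n * m)) K :=
  AlgHom.ofLinearMap
    { toFun := fun N => kron (1 : Matrix (Fin n) (Fin n) K) N
      map_add' := fun N N' => kron_add_right 1 N N'
      map_smul' := fun a N => kron_smul_right a 1 N }
    kron_one
    (fun N N' => by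
      show kron (1 : Matrix (Fin n) (Fin n) K) (N * N') = kron 1 N * kron 1 N'
      rw [← kron_mul, one_mul])

theorem kronLeft_apply (M : Matrix (Fin n) (Fin n) K) :
    kronLeft n m M = kron M (1 : Matrix (Fin m) (Fin m) K) := rfl

theorem kronRight_apply (N : Matrix (Fin m) (Fin m) K) :
    kronRight n m N = kron (1 : Matrix (Fin n) (Fin n) K) N := rfl

end Kron

section BaseChangeEquiv

/-- a `k`-algebra map from a finite central simple algebra `X` to a `K`-algebra `Y` of the same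
dimension induces `K ⊗ X ≅ Y` (with values on `1 ⊗ x`). -/
theorem baseChange_equiv_of_algHom' (k : Type u) [Field k] (X : Type v) [Ring X]
    [Algebra k X] [Algebra.IsCentral k X] [IsSimpleRing X] [FiniteDimensional k X]
    (K : Type w) [Field K] [Algebra k K] (Y : Type x) [Ring Y] [Algebra K Y] [Algebra k Y]
    [IsScalarTower k K Y] [Nontrivial Y] [FiniteDimensional K Y]
    (hn : Module.finrank k X = Module.finrank K Y) (ψ : X →ₐ[k] Y) :
    ∃ Φ : K ⊗[k] X ≃ₐ[K] Y, ∀ x, Φ (1 ⊗ₜ x) = ψ x := by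
  have h1 : IsSimpleRing (K ⊗[k] X) := CSA.isSimpleRing_tensor k K X
  set Φ : K ⊗[k] X →ₐ[K] Y :=
    Algebra.TensorProduct.lift (Algebra.ofId K Y) ψ
      (fun x y => Algebra.commute_algebraMap_left x (ψ y)) with hΦ
  have hinj : Function.Injective Φ := Φ.toRingHom.injective
  have hfin : Module.finrank K (K ⊗[k] X) = Module.finrank K Y := by
    rw [Module.finrank_baseChange, hn]
  have hinj' : Function.Injective Φ.toLinearMap := hinj
  have hsurj := (LinearMap.injective_iff_surjective_of_finrank_eq_finrank hfin).mp hinj'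
  refine ⟨AlgEquiv.ofBijective Φ ⟨hinj, hsurj⟩, fun x => ?_⟩
  show Φ (1 ⊗ₜ x) = ψ x
  rw [hΦ, Algebra.TensorProduct.lift_tmul, map_one, one_mul]

end BaseChangeEquiv

section Tensor
variable {k : Type u} {K : Type v} [Field k] [Field K] [Algebra k K]
variable {A : Type w} [Ring A] [Algebra k A] {B : Type w'} [Ring B] [Algebra k B]

/-- **tensor product of data**. -/
theorem Datum.exists_tensor {n m : ℕ} [NeZero n] [NeZero m]
    (DA : Datum k K A n) (DB : Datum k K B m) :
    ∃ D : Datum k K (A ⊗[k] B) (n * m), D.c = DA.c * DB.c := by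
  classical
  obtain ⟨hA1, hA2, hA3⟩ := CSA.csa_of_split (k := k) (A := A) K n (NeZero.ne n) DA.φ
  obtain ⟨hB1, hB2, hB3⟩ := CSA.csa_of_split (k := k) (A := B) K m (NeZero.ne m) DB.φ
  have : NeZero (n * m) := ⟨Nat.mul_ne_zero (NeZero.ne n) (NeZero.ne m)⟩
  have h1 : IsSimpleRing (A ⊗[k] B) := CSA.isSimpleRing_tensor k A B
  have h2 : Algebra.IsCentral k (A ⊗[k] B) := CSA.isCentral_tensor k A B
  have hdim : Module.finrank k (A ⊗[k] B) =
      Module.finrank K (Matrix (Fin (n * m)) (Fin (n * m)) K) := by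
    rw [Module.finrank_tensorProduct, CSA.finrank_eq_of_split k A K n DA.φ,
      CSA.finrank_eq_of_split k B K m DB.φ, Module.finrank_matrix]
    simp only [Fintype.card_fin, Module.finrank_self, mul_one]
    ring
  let ψA : A →ₐ[k] Matrix (Fin n) (Fin n) K :=
    (DA.φ.toAlgHom.restrictScalars k).comp Algebra.TensorProduct.includeRight
  let ψB : B →ₐ[k] Matrix (Fin m) (Fin m) K :=
    (DB.φ.toAlgHom.restrictScalars k).comp Algebra.TensorProduct.includeRight
  let f : A →ₐ[k] Matrix (Fin (n * m)) (Fin (n * m)) K :=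
    ((kronLeft n m).restrictScalars k).comp ψA
  let g : B →ₐ[k] Matrix (Fin (n * m)) (Fin (n * m)) K :=
    ((kronRight n m).restrictScalars k).comp ψB
  have hf : ∀ a, f a = kron (DA.φ (1 ⊗ₜ a)) (1 : Matrix (Fin m) (Fin m) K) := fun a => rfl
  have hg : ∀ b, g b = kron (1 : Matrix (Fin n) (Fin n) K) (DB.φ (1 ⊗ₜ b)) := fun b => rfl
  have hcomm : ∀ (a : A) (b : B), Commute (f a) (g b) := by
    intro a b
    show f a * g b = g b * f a
    rw [hf, hg, ← kron_mul, ← kron_mul, one_mul, mul_one, one_mul, mul_one]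
  let ψ : A ⊗[k] B →ₐ[k] Matrix (Fin (n * m)) (Fin (n * m)) K :=
    Algebra.TensorProduct.lift f g hcomm
  have hψ : ∀ a b, ψ (a ⊗ₜ b) = kron (DA.φ (1 ⊗ₜ a)) (DB.φ (1 ⊗ₜ b)) := by
    intro a b
    show Algebra.TensorProduct.lift f g hcomm (a ⊗ₜ b) = _
    rw [Algebra.TensorProduct.lift_tmul, hf, hg, ← kron_mul, one_mul, mul_one]
  obtain ⟨Φ, hΦ⟩ := baseChange_equiv_of_algHom' k (A ⊗[k] B) K
    (Matrix (Fin (n * m)) (Fin (n * m)) K) hdim ψ
  have hΦ' : ∀ (l : K) (a : A) (b : B), Φ (l ⊗ₜ (a ⊗ₜ b)) =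
      l • kron (DA.φ (1 ⊗ₜ a)) (DB.φ (1 ⊗ₜ b)) := by
    intro l a b
    have : l ⊗ₜ[k] (a ⊗ₜ[k] b) = l • ((1 : K) ⊗ₜ[k] (a ⊗ₜ[k] b)) := by
      rw [TensorProduct.smul_tmul', smul_eq_mul, mul_one]
    rw [this, map_smul, hΦ, hψ]
  -- invariance of `1 ⊗ a`
  have hA : ∀ (σ : K ≃ₐ[k] K) (a : A), DA.φ (1 ⊗ₜ a) = (DA.g σ : Matrix (Fin n) (Fin n) K) *
      σ • DA.φ (1 ⊗ₜ a) * (((DA.g σ)⁻¹ : GL (Fin n) K) : Matrix (Fin n) (Fin n) K) := by
    intro σ a
    rw [← DA.hφ, TensorProduct.smul_tmul', smul_one]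
  have hB : ∀ (σ : K ≃ₐ[k] K) (b : B), DB.φ (1 ⊗ₜ b) = (DB.g σ : Matrix (Fin m) (Fin m) K) *
      σ • DB.φ (1 ⊗ₜ b) * (((DB.g σ)⁻¹ : GL (Fin m) K) : Matrix (Fin m) (Fin m) K) := by
    intro σ b
    rw [← DB.hφ, TensorProduct.smul_tmul', smul_one]
  refine ⟨⟨Φ, fun σ => kronGL (DA.g σ) (DB.g σ), DA.c * DB.c, ?_, ?_⟩, rfl⟩
  · intro σ x
    induction x using TensorProduct.induction_on with
    | zero => simp
    | tmul l t =>
      induction t using TensorProduct.induction_on with
      | zero => simp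
      | tmul a b =>
        rw [TensorProduct.smul_tmul', hΦ', hΦ', coe_kronGL, coe_kronGL_inv, smul_smul_matrix,
          smul_kron, Matrix.mul_smul, Matrix.smul_mul, ← kron_mul, ← kron_mul, ← hA, ← hB]
        rfl
      | add t t' ht ht' =>
        rw [TensorProduct.tmul_add, smul_add, map_add, map_add, ht, ht', smul_add, mul_add,
          add_mul]
    | add x y hx hy =>
      rw [smul_add, map_add, map_add, hx, hy, smul_add, mul_add, add_mul]
  · intro σ τ
    rw [coe_kronGL, coe_kronGL, coe_kronGL, smul_kron, ← kron_mul, DA.hc, DB.hc, kron_smul_left,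
      kron_smul_right, smul_smul]
    simp only [Pi.mul_apply, Units.val_mul]

end Tensor

end Groth.Agent.H7.Br
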