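import Mathlib
import Groth.Prelude.Def_GSzCSA
import Groth.Agent.Lib.Helper7.Br1
import Groth.Agent.Lib.Helper7.Br4

set_option autoImplicit false

namespace Groth.Agent.H7.Br
universe u v w w' x
open scoped TensorProduct MatrixGroups Kronecker
attribute [local instance] CSAGal.matrixAction GpH1.unitsAction

section Power
variable {k : Type u} {K : Type v} [Field k] [Field K] [Algebra k K]
variable {A : Type w} [Ring A] [Algebra k A]

/-- data for tensor powers. -/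
theorem Datum.exists_tpow {n : ℕ} [NeZero n] (D : Datum k K A n) (e : ℕ) (he : 1 ≤ e) :
    ∃ (N : ℕ) (_ : NeZero N) (D' : Datum k K (CSAGal.tpow k A e) N), D'.c = D.c ^ e := by
  induction e, he using Nat.le_induction with
  | base => exact ⟨n, inferInstance, D.congr (tpowOne k A), by simp⟩
  | succ e he ih =>
    obtain ⟨N, hN, D', hD'⟩ := ih
    obtain ⟨D'', hD''⟩ := D'.exists_tensor D
    have : NeZero (N * n) := ⟨Nat.mul_ne_zero (NeZero.ne N) (NeZero.ne n)⟩
    exact ⟨N * n, inferInstance, D''.congr (tpowSucc k A e), by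
      rw [Datum.congr_c, hD'', hD', pow_succ]⟩

/-- the tensor power `A^{⊗e}` is split iff the `e`-th power of the class is trivial. -/
theorem Datum.splits_tpow_iff [FiniteDimensional k K] [IsGalois k K] {n : ℕ} [NeZero n]
    (D : Datum k K A n) (e : ℕ) (he : 0 < e) :
    Curves.Splits k (CSAGal.tpow k A e) k ↔ cls k K D.c ^ e = 1 := by
  obtain ⟨N, hN, D', hD'⟩ := D.exists_tpow e he
  rw [D'.splits_iff, hD', cls_pow]

/-- the period is the order of the class. -/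
theorem Datum.isPeriod_iff [FiniteDimensional k K] [IsGalois k K] {n : ℕ} [NeZero n]
    (D : Datum k K A n) (e : ℕ) :
    CSAGal.IsPeriod k A e ↔ 0 < e ∧ orderOf (cls k K D.c) = e := by
  unfold CSAGal.IsPeriod
  constructor
  · rintro ⟨he, h1, h2⟩
    refine ⟨he, (orderOf_eq_iff he).mpr ⟨(D.splits_tpow_iff e he).mp h1, fun m hm hm0 h => ?_⟩⟩
    exact h2 m hm0 hm ((D.splits_tpow_iff m hm0).mpr h)
  · rintro ⟨he, h⟩
    obtain ⟨h1, h2⟩ := (orderOf_eq_iff he).mp h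
    exact ⟨he, (D.splits_tpow_iff e he).mpr h1, fun m hm0 hm hs =>
      h2 m hm hm0 ((D.splits_tpow_iff m hm0).mp hs)⟩

end Power

section Torsion
variable {k : Type u} {K : Type v} [Field k] [Field K] [Algebra k K]
variable {A : Type w} [Ring A] [Algebra k A]

theorem det_smul_matrix {n : ℕ} (σ : K ≃ₐ[k] K) (M : Matrix (Fin n) (Fin n) K) :
    (σ • M).det = σ M.det := by
  rw [smul_matrix_eq_map, AlgEquiv.map_det]

/-- the class of a datum of size `n` is killed by `n`. -/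
theorem Datum.cls_pow_size {n : ℕ} (D : Datum k K A n) : cls k K D.c ^ n = 1 := by
  rw [← cls_pow, cls_eq_one_iff]
  refine ⟨fun σ => Matrix.GeneralLinearGroup.det (D.g σ), ?_⟩
  funext σ τ
  apply Units.ext
  have h := congrArg Matrix.det (D.hc σ τ)
  rw [Matrix.det_mul, det_smul_matrix, Matrix.det_smul, Fintype.card_fin] at h
  simp only [cob, Units.val_mul, coe_sU, Units.val_inv_eq_inv_val, Pi.pow_apply, Units.val_pow_eq_pow_val,
    Matrix.GeneralLinearGroup.val_det_apply]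
  have h0 : (D.g (σ * τ) : Matrix (Fin n) (Fin n) K).det ≠ 0 := by
    have := (Matrix.GeneralLinearGroup.det (D.g (σ * τ))).ne_zero
    simpa using this
  rw [h]
  field_simp

/-- the 2-cocycle identity. -/
theorem Datum.cocycle {n : ℕ} [NeZero n] (D : Datum k K A n) (σ τ ρ : K ≃ₐ[k] K) :
    D.c σ τ * D.c (σ * τ) ρ = sU k K σ (D.c τ ρ) * D.c σ (τ * ρ) := by
  apply Units.ext
  simp only [Units.val_mul, coe_sU]
  have e1 : (D.g σ : Matrix (Fin n) (Fin n) K) * σ • (D.g τ : Matrix (Fin n) (Fin n) K) *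
      (σ * τ) • (D.g ρ : Matrix (Fin n) (Fin n) K) =
      ((D.c σ τ : K) * (D.c (σ * τ) ρ : K)) • (D.g (σ * τ * ρ) : Matrix (Fin n) (Fin n) K) := by
    rw [D.hc, Matrix.smul_mul, D.hc, smul_smul]
  have e2 : (D.g σ : Matrix (Fin n) (Fin n) K) * σ • (D.g τ : Matrix (Fin n) (Fin n) K) *
      (σ * τ) • (D.g ρ : Matrix (Fin n) (Fin n) K) =
      (σ (D.c τ ρ : K) * (D.c σ (τ * ρ) : K)) • (D.g (σ * τ * ρ) : Matrix (Fin n) (Fin n) K) := by
    rw [mul_smul, mul_assoc, ← smul_mul', D.hc, smul_smul_matrix, Matrix.mul_smul, D.hc, smul_smul,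
      mul_assoc]
  exact scalar_eq_of_smul_unit_eq ((D.c σ τ : K) * (D.c (σ * τ) ρ : K))
    (σ (D.c τ ρ : K) * (D.c σ (τ * ρ) : K)) (D.g (σ * τ * ρ)) (e1.symm.trans e2)

/-- the class of a datum is killed by the order of the Galois group. -/
theorem Datum.cls_pow_card [Finite (K ≃ₐ[k] K)] {n : ℕ} [NeZero n] (D : Datum k K A n) :
    cls k K D.c ^ Nat.card (K ≃ₐ[k] K) = 1 := by
  classical
  have : Fintype (K ≃ₐ[k] K) := Fintype.ofFinite _
  rw [← cls_pow, cls_eq_one_iff, Nat.card_eq_fintype_card]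
  refine ⟨fun σ => ∏ ρ : K ≃ₐ[k] K, D.c σ ρ, ?_⟩
  funext σ τ
  have h1 : ∏ ρ : K ≃ₐ[k] K, (D.c σ τ * D.c (σ * τ) ρ) =
      ∏ ρ : K ≃ₐ[k] K, (sU k K σ (D.c τ ρ) * D.c σ (τ * ρ)) :=
    Finset.prod_congr rfl (fun ρ _ => D.cocycle σ τ ρ)
  rw [Finset.prod_mul_distrib, Finset.prod_mul_distrib, Finset.prod_const, Finset.card_univ,
    ← map_prod] at h1
  have h2 : ∏ ρ : K ≃ₐ[k] K, D.c σ (τ * ρ) = ∏ ρ : K ≃ₐ[k] K, D.c σ ρ :=
    Equiv.prod_comp (Equiv.mulLeft τ) (fun ρ => D.c σ ρ)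
  rw [h2] at h1
  simp only [cob, Pi.pow_apply]
  rw [mul_comm (∏ ρ : K ≃ₐ[k] K, D.c σ ρ), ← h1, mul_inv_cancel_right]

end Torsion

end Groth.Agent.H7.Br
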