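import Mathlib
import Groth.Prelude.Def_GSzCSA
import Groth.Agent.Lib.Helper7.Br5
import Groth.Agent.Lib.Helper7.CSA15
import Groth.Agent.Lib.Helper7.CSA9

set_option autoImplicit false

namespace Groth.Agent.H7.Br
universe u v w w' x
open scoped TensorProduct MatrixGroups Kronecker
attribute [local instance] CSAGal.matrixAction GpH1.unitsAction

section Index
variable {k : Type u} {K : Type v} [Field k] [Field K] [Algebra k K]
variable {A : Type w} [Ring A] [Algebra k A]

/-- if `A ≅ M_m(D)` with `dim D = d²` then the class of any datum of `A` is killed by `d`. -/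
theorem Datum.cls_pow_index [FiniteDimensional k K] [IsGalois k K] {n : ℕ} [NeZero n]
    (DA : Datum k K A n)
    (D : Type w') [Ring D] [Algebra k D] [Algebra.IsCentral k D] [IsSimpleRing D]
    [FiniteDimensional k D] (m : ℕ) (iso : A ≃ₐ[k] Matrix (Fin m) (Fin m) D) (d : ℕ)
    (hd : Module.finrank k D = d ^ 2) : cls k K DA.c ^ d = 1 := by
  classical
  obtain ⟨hA1, hA2, hA3⟩ := CSA.csa_of_split (k := k) (A := A) K n (NeZero.ne n) DA.φ
  have hm : m ≠ 0 := by
    rintro rfl
    have : Subsingleton A := iso.toEquiv.subsingleton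
    exact not_subsingleton A this
  haveI : NeZero m := ⟨hm⟩
  let e' : K ⊗[k] Matrix (Fin m) (Fin m) D ≃ₐ[K] Matrix (Fin n) (Fin n) K :=
    (Algebra.TensorProduct.congr (AlgEquiv.refl : K ≃ₐ[K] K) iso.symm).trans DA.φ
  obtain ⟨d', hd', ⟨φD⟩⟩ := CSA.splits_of_splits_matrix k D K m n hm (NeZero.ne n) e'
  haveI : NeZero d' := ⟨hd'⟩
  have hdd : d' = d := by
    have h1 := CSA.finrank_eq_of_split k D K d' φD
    rw [hd, pow_two] at h1
    exact (Nat.mul_self_inj.mp h1).symm
  subst hdd
  obtain ⟨DD, -⟩ := exists_datum φD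
  obtain ⟨DT, hDT⟩ := DD.exists_tensor (trivDatum k K m)
  let f : A ≃ₐ[k] D ⊗[k] Matrix (Fin m) (Fin m) k := iso.trans (matrixEquivTensor (Fin m) k D)
  let DA' : Datum k K A (d' * m) := DT.congr f
  have hn : n = d' * m := by
    have h1 := CSA.finrank_eq_of_split k A K n DA.φ
    have h2 := CSA.finrank_eq_of_split k A K (d' * m) DA'.φ
    rw [h1] at h2
    exact Nat.mul_self_inj.mp h2
  subst hn
  have h3 : cls k K DA.c = cls k K DD.c := by
    rw [Datum.cls_eq DA DA']
    show cls k K DT.c = _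
    rw [hDT, trivDatum_c, mul_one]
  rw [h3]
  exact DD.cls_pow_size

end Index

end Groth.Agent.H7.Br
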