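import Mathlib
import Groth.Prelude.Def_GSzCSA
import Groth.Agent.Lib.Helper7.Br6

set_option autoImplicit false

namespace Groth.Agent.H7.Br
universe u v w w' x
open scoped TensorProduct MatrixGroups Kronecker
attribute [local instance] CSAGal.matrixAction GpH1.unitsAction

section Restrict
variable {k : Type u} {K : Type v} [Field k] [Field K] [Algebra k K]
variable (L : Type x) [Field L] [Algebra k L] [Algebra L K] [IsScalarTower k L K]
variable {A : Type w} [Ring A] [Algebra k A]

/-- `K ⊗_L (L ⊗_k A) ≃ K ⊗_k A` as `K`-algebras. -/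
noncomputable def cancelNC (k : Type u) (K : Type v) [Field k] [Field K] [Algebra k K]
    (L : Type x) [Field L] [Algebra k L] [Algebra L K] [IsScalarTower k L K]
    (A : Type w) [Ring A] [Algebra k A] : K ⊗[L] (L ⊗[k] A) ≃ₐ[K] K ⊗[k] A :=
  AlgEquiv.symm <| AlgEquiv.ofLinearEquiv
    (TensorProduct.AlgebraTensorModule.cancelBaseChange k L K K A).symm
    (by simp [Algebra.TensorProduct.one_def]) <|
      LinearMap.map_mul_of_map_mul_tmul (fun _ _ _ _ ↦ by simp)

theorem cancelNC_tmul (x : K) (l : L) (a : A) :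
    cancelNC k K L A (x ⊗ₜ (l ⊗ₜ a)) = (l • x) ⊗ₜ a := rfl

/-- restriction of Galois automorphisms. -/
def res (k : Type u) {K : Type v} [Field k] [Field K] [Algebra k K]
    (L : Type x) [Field L] [Algebra k L] [Algebra L K] [IsScalarTower k L K]
    (τ : K ≃ₐ[L] K) : K ≃ₐ[k] K := τ.restrictScalars k

theorem res_apply (τ : K ≃ₐ[L] K) (x : K) : res k L τ x = τ x := rfl

theorem res_mul (σ τ : K ≃ₐ[L] K) : res k L (σ * τ) = res k L σ * res k L τ := by
  ext x; rfl

theorem res_smul_matrix {n : ℕ} (τ : K ≃ₐ[L] K) (M : Matrix (Fin n) (Fin n) K) :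
    res k L τ • M = τ • M := rfl

theorem cancelNC_smul (τ : K ≃ₐ[L] K) (t : K ⊗[L] (L ⊗[k] A)) :
    cancelNC k K L A (τ • t) = res k L τ • cancelNC k K L A t := by
  induction t using TensorProduct.induction_on with
  | zero => simp
  | tmul x s =>
    induction s using TensorProduct.induction_on with
    | zero => simp
    | tmul l a =>
      rw [TensorProduct.smul_tmul', cancelNC_tmul, cancelNC_tmul, TensorProduct.smul_tmul']
      congr 1
      show l • τ x = res k L τ (l • x)
      rw [res_apply, map_smul]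
    | add s s' hs hs' =>
      rw [TensorProduct.tmul_add, smul_add, map_add, map_add, hs, hs', smul_add]
  | add x y hx hy => rw [smul_add, map_add, map_add, hx, hy, smul_add]

/-- restriction of cochains. -/
def resC2 (c : C2 k K) : C2 L K := fun σ τ => c (res k L σ) (res k L τ)

theorem resC2_cob (a : (K ≃ₐ[k] K) → Kˣ) :
    resC2 L (cob k K a) = cob L K (fun τ => a (res k L τ)) := by
  funext σ τ
  simp only [resC2, cob, res_mul]
  rfl

theorem resC2_pow (c : C2 k K) (e : ℕ) : resC2 L (c ^ e) = resC2 L c ^ e := rfl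

theorem cls_resC2_pow_eq_one (c : C2 k K) (e : ℕ) (h : cls k K c ^ e = 1) :
    cls L K (resC2 L c) ^ e = 1 := by
  rw [← cls_pow, cls_eq_one_iff] at h ⊢
  obtain ⟨a, ha⟩ := h
  exact ⟨fun τ => a (res k L τ), by rw [← resC2_pow, ← ha, resC2_cob]⟩

/-- restriction of a datum to an intermediate field. -/
noncomputable def Datum.restrict {n : ℕ} (D : Datum k K A n) : Datum L K (L ⊗[k] A) n where
  φ := (cancelNC k K L A).trans D.φ
  g := fun τ => D.g (res k L τ)
  c := resC2 L D.c
  hφ := fun τ t => by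
    show D.φ (cancelNC k K L A (τ • t)) = _
    rw [cancelNC_smul, D.hφ]
    rfl
  hc := fun σ τ => by
    show (D.g (res k L σ) : Matrix (Fin n) (Fin n) K) *
      res k L σ • (D.g (res k L τ) : Matrix (Fin n) (Fin n) K) = _
    rw [D.hc, res_mul]
    rfl

theorem Datum.restrict_c {n : ℕ} (D : Datum k K A n) : (D.restrict L).c = resC2 L D.c := rfl

end Restrict

end Groth.Agent.H7.Br

namespace Groth.Agent.H7.Br
universe u v w
open scoped TensorProduct MatrixGroups
open Module

/-- **S7746**: primes dividing the index divide every exponent killing the class. -/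
theorem prime_dvd_of_split_tpow (k : Type u) [Field k] (A : Type v) [Ring A] [Algebra k A]
    [Algebra.IsCentral k A] [IsSimpleRing A] [FiniteDimensional k A]
    (D : Type w) [DivisionRing D] [Algebra k D] [Algebra.IsCentral k D] [FiniteDimensional k D]
    (m : ℕ) (iso : A ≃ₐ[k] Matrix (Fin m) (Fin m) D) (d : ℕ) (hd : finrank k D = d ^ 2)
    (e : ℕ) (he : 0 < e) (hsplit : Curves.Splits k (CSAGal.tpow k A e) k)
    (p : ℕ) (hp : p.Prime) (hpd : p ∣ d) : p ∣ e := by
  classical
  by_contra hpe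
  obtain ⟨K, _, _, hfd, hgal, n, hn, ⟨φ⟩⟩ := CSA.exists_finite_galois_split k A
  haveI : NeZero n := ⟨hn⟩
  have hm : m ≠ 0 := by
    rintro rfl
    have : Subsingleton A := iso.toEquiv.subsingleton
    exact not_subsingleton A this
  obtain ⟨DA, -⟩ := exists_datum φ
  have hx : cls k K DA.c ^ e = 1 := (DA.splits_tpow_iff e he).mp hsplit
  haveI : Fact p.Prime := ⟨hp⟩
  let P : Sylow p (K ≃ₐ[k] K) := default
  let L := IntermediateField.fixedField (P : Subgroup (K ≃ₐ[k] K))
  have hKL : finrank L K = Nat.card P := IntermediateField.finrank_fixedField_eq_card _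
  let DL := DA.restrict L
  have hy1 : cls L K DL.c ^ e = 1 := cls_resC2_pow_eq_one L DA.c e hx
  have hy2 : cls L K DL.c ^ Nat.card (K ≃ₐ[L] K) = 1 := DL.cls_pow_card
  rw [IsGalois.card_aut_eq_finrank, hKL] at hy2
  obtain ⟨a, ha⟩ := IsPGroup.iff_card.mp P.isPGroup'
  have hcop : Nat.Coprime e (Nat.card P) := by
    rw [ha]
    exact Nat.Coprime.pow_right _ ((Nat.Prime.coprime_iff_not_dvd hp).mpr hpe).symm
  have hy : cls L K DL.c = 1 := by
    have := pow_gcd_eq_one.mpr ⟨hy1, hy2⟩
    rwa [hcop, pow_one] at this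
  obtain ⟨f⟩ := DL.split_of_cls_eq_one hy
  let e' : L ⊗[k] Matrix (Fin m) (Fin m) D ≃ₐ[L] Matrix (Fin n) (Fin n) L :=
    (Algebra.TensorProduct.congr (AlgEquiv.refl : L ≃ₐ[L] L) iso.symm).trans f
  obtain ⟨d', hd', ⟨φD⟩⟩ := CSA.splits_of_splits_matrix k D L m n hm hn e'
  have hdvd : d ∣ finrank k L := CSA.dvd_finrank_of_split k D d hd L d' hd' φD
  have h1 : finrank k L * finrank L K = finrank k K := Module.finrank_mul_finrank k L K
  have h2 : (P : Subgroup (K ≃ₐ[k] K)).index * Nat.card P = Nat.card (K ≃ₐ[k] K) :=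
    Subgroup.index_mul_card _
  have h3 : finrank k L = (P : Subgroup (K ≃ₐ[k] K)).index := by
    have hP : 0 < Nat.card P := Nat.card_pos
    rw [← IsGalois.card_aut_eq_finrank (F := k) (E := K), ← h2, hKL] at h1
    exact Nat.eq_of_mul_eq_mul_right hP h1
  exact P.not_dvd_index (h3 ▸ (hpd.trans hdvd))

end Groth.Agent.H7.Br
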