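import Mathlib
import Groth.Prelude.Def_GSzCSA
import Groth.Agent.Lib.Helper7.Br7
import Groth.Agent.Lib.Helper7.CSA8

set_option autoImplicit false

namespace Groth.Agent.H7.Br
universe u v w
open scoped TensorProduct MatrixGroups
open Module

/-- unpack `IsIndex` for a central simple algebra. -/
theorem exists_central_of_isIndex (k : Type u) [Field k] (A : Type v) [Ring A] [Algebra k A]
    [Algebra.IsCentral k A] [IsSimpleRing A] [FiniteDimensional k A] (d : ℕ)
    (h : CSAGal.IsIndex k A d) :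
    0 < d ∧ ∃ (m : ℕ) (D : Type v) (_ : DivisionRing D) (_ : Algebra k D)
      (_ : Algebra.IsCentral k D) (_ : FiniteDimensional k D)
      (_ : A ≃ₐ[k] Matrix (Fin m) (Fin m) D), 0 < m ∧ finrank k D = d ^ 2 := by
  obtain ⟨hd, m, D, iD, aD, hm, hfr, ⟨iso⟩⟩ := h
  haveI : NeZero m := ⟨hm.ne'⟩
  haveI : Algebra.IsCentral k (Matrix (Fin m) (Fin m) D) := Algebra.IsCentral.of_algEquiv k A _ iso
  have hc : Algebra.IsCentral k D := CSA.isCentral_of_matrix k D m
  have hf : FiniteDimensional k D := Module.finite_of_finrank_pos (by rw [hfr]; positivity)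
  exact ⟨hd, m, D, iD, aD, hc, hf, iso, hm, hfr⟩

theorem dvd_pow_pred_of_primes (d e : ℕ) (hd : 0 < d) (he : 0 < e)
    (h : ∀ p : ℕ, p.Prime → p ∣ d → p ∣ e) : d ∣ e ^ (d - 1) := by
  rw [← Nat.factorization_le_iff_dvd hd.ne' (pow_ne_zero _ he.ne'), Nat.factorization_pow]
  intro p
  simp only [Finsupp.coe_smul, Pi.smul_apply, smul_eq_mul]
  by_cases hp : p.Prime
  · by_cases hpd : p ∣ d
    · have h1 : 1 ≤ e.factorization p :=
        (hp.dvd_iff_one_le_factorization he.ne').mp (h p hp hpd)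
      have h2 : d.factorization p < d := Nat.factorization_lt p hd.ne'
      calc d.factorization p ≤ (d - 1) * 1 := by omega
        _ ≤ (d - 1) * e.factorization p := Nat.mul_le_mul_left _ h1
    · rw [Nat.factorization_eq_zero_of_not_dvd hpd]; exact Nat.zero_le _
  · rw [Nat.factorization_eq_zero_of_not_prime d hp]; exact Nat.zero_le _

/-- **S13271** -/
theorem period_index (k : Type u) [Field k] (A : Type v) [Ring A] [Algebra k A]
    [Algebra.IsCentral k A] [IsSimpleRing A] [FiniteDimensional k A] (d e : ℕ)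
    (hd : CSAGal.IsIndex k A d) (he : CSAGal.IsPeriod k A e) : e ∣ d ∧ d ∣ e ^ (d - 1) := by
  obtain ⟨hd0, m, D, _, _, _, _, iso, hm, hfr⟩ := exists_central_of_isIndex k A d hd
  obtain ⟨K, _, _, hfd, hgal, n, hn, ⟨φ⟩⟩ := CSA.exists_finite_galois_split k A
  haveI : NeZero n := ⟨hn⟩
  obtain ⟨DA, -⟩ := exists_datum φ
  obtain ⟨he0, hord⟩ := (DA.isPeriod_iff e).mp he
  constructor
  · rw [← hord]
    exact orderOf_dvd_of_pow_eq_one (DA.cls_pow_index D m iso d hfr)
  · apply dvd_pow_pred_of_primes d e hd0 he0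
    intro p hp hpd
    exact prime_dvd_of_split_tpow k A D m iso d hfr e he0 he.2.1 p hp hpd

end Groth.Agent.H7.Br
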