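import Mathlib
import Groth.Prelude.Def_GSzCSA
import Groth.Agent.Lib.Helper7.Br8
import Groth.Agent.Lib.Helper7.Idx1

set_option autoImplicit false

namespace Groth.Agent.H7.Br
universe u v w
open scoped TensorProduct MatrixGroups
open Module

/-- every finite central simple algebra has an index. -/
theorem exists_isIndex (k : Type u) [Field k] (A : Type v) [Ring A] [Algebra k A]
    [Algebra.IsCentral k A] [IsSimpleRing A] [FiniteDimensional k A] :
    ∃ d : ℕ, CSAGal.IsIndex k A d := by
  haveI : IsArtinianRing A := IsArtinianRing.of_finite k A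
  obtain ⟨m, hm, D, iD, aD, hfin, ⟨iso⟩⟩ :=
    IsSimpleRing.exists_algEquiv_matrix_divisionRing_finite k A
  haveI : Algebra.IsCentral k (Matrix (Fin m) (Fin m) D) := Algebra.IsCentral.of_algEquiv k A _ iso
  haveI : Algebra.IsCentral k D := CSA.isCentral_of_matrix k D m
  obtain ⟨r, hr⟩ := CSA.isSquare_finrank k D
  have hpos : 0 < finrank k D := Module.finrank_pos
  have hr0 : 0 < r := by
    rcases Nat.eq_zero_or_pos r with h | h
    · rw [h] at hr; omega
    · exact h
  exact ⟨r, hr0, m, D, iD, aD, Nat.pos_of_ne_zero hm.ne, by rw [hr, pow_two], ⟨iso⟩⟩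

/-- unpack `IsIndex` over a base-changed algebra (no centrality needed). -/
theorem exists_finite_of_isIndex (k : Type u) [Field k] (A : Type v) [Ring A] [Algebra k A] (d : ℕ)
    (h : CSAGal.IsIndex k A d) :
    0 < d ∧ ∃ (m : ℕ) (D : Type v) (_ : DivisionRing D) (_ : Algebra k D)
      (_ : FiniteDimensional k D)
      (_ : A ≃ₐ[k] Matrix (Fin m) (Fin m) D), 0 < m ∧ finrank k D = d ^ 2 := by
  obtain ⟨hd, m, D, iD, aD, hm, hfr, ⟨iso⟩⟩ := h
  have hf : FiniteDimensional k D := Module.finite_of_finrank_pos (by rw [hfr]; positivity)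
  exact ⟨hd, m, D, iD, aD, hf, iso, hm, hfr⟩

/-- comparison of indices under finite base change, in terms of `IsIndex`. -/
theorem isIndex_baseChange (k : Type u) [Field k] (L : Type u) [Field L] [Algebra k L]
    [FiniteDimensional k L] (A : Type v) [Ring A] [Algebra k A]
    [Algebra.IsCentral k A] [IsSimpleRing A] [FiniteDimensional k A] (d d' : ℕ)
    (hd : CSAGal.IsIndex k A d) (hd' : CSAGal.IsIndex L (L ⊗[k] A) d') :
    d' ∣ d ∧ d ∣ finrank k L * d' := by
  obtain ⟨hd0, m, D, _, _, _, _, iso, hm, hfr⟩ := exists_central_of_isIndex k A d hd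
  obtain ⟨hd0', m', D', _, _, _, iso', hm', hfr'⟩ := exists_finite_of_isIndex L (L ⊗[k] A) d' hd'
  exact Idx.index_baseChange k L A D m iso d hfr D' m' iso' d' hfr'

/-- S13840, the nontrivial direction. -/
theorem index_dvd_of_baseChange (k : Type u) [Field k] (L : Type u) [Field L] [Algebra k L]
    [FiniteDimensional k L] (A : Type v) [Ring A] [Algebra k A]
    [Algebra.IsCentral k A] [IsSimpleRing A] [FiniteDimensional k A] (n : ℕ) (hn : 0 < n)
    (hcop : Nat.Coprime n (finrank k L)) (hper : Curves.Splits k (CSAGal.tpow k A n) k)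
    (d d' : ℕ) (hd : CSAGal.IsIndex k A d) (hd' : CSAGal.IsIndex L (L ⊗[k] A) d') (hdn : d' ∣ n) :
    d ∣ n := by
  obtain ⟨-, h2⟩ := isIndex_baseChange k L A d d' hd hd'
  obtain ⟨hd0, m, D, _, _, _, _, iso, hm, hfr⟩ := exists_central_of_isIndex k A d hd
  have hprime : ∀ p : ℕ, p.Prime → p ∣ d → p ∣ n := fun p hp hpd =>
    prime_dvd_of_split_tpow k A D m iso d hfr n hn hper p hp hpd
  have hc : Nat.Coprime d (finrank k L) := by
    by_contra h
    obtain ⟨p, hp, hpg⟩ := Nat.exists_prime_and_dvd h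
    have h3 : p ∣ n := hprime p hp (hpg.trans (Nat.gcd_dvd_left _ _))
    have h4 : p ∣ finrank k L := hpg.trans (Nat.gcd_dvd_right _ _)
    have h5 : p ∣ 1 := by
      have := Nat.dvd_gcd h3 h4
      rwa [hcop] at this
    exact hp.one_lt.ne' (Nat.dvd_one.mp h5)
  have h6 : d ∣ finrank k L * n := h2.trans (Nat.mul_dvd_mul_left _ hdn)
  exact hc.dvd_of_dvd_mul_left h6

end Groth.Agent.H7.Br
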