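import Mathlib
import Groth.Prelude.Def_GSzCSA
import Groth.Agent.Lib.Helper7.Br9
import Groth.Agent.Lib.Helper7.CSA14
import Groth.Agent.Lib.Helper7.CSA7

set_option autoImplicit false

namespace Groth.Agent.H7.Br
universe u v w w'
open scoped TensorProduct MatrixGroups
open Module

section MaxSubfield

/-- a finite-dimensional algebra has a maximal commutative subalgebra. -/
theorem exists_maximal_comm (k : Type u) [Field k] (D : Type v) [Ring D] [Algebra k D]
    [FiniteDimensional k D] :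
    ∃ L : Subalgebra k D, (∀ x ∈ L, ∀ y ∈ L, x * y = y * x) ∧
      ∀ L' : Subalgebra k D, (∀ x ∈ L', ∀ y ∈ L', x * y = y * x) → L ≤ L' → L' = L := by
  classical
  let P : ℕ → Prop := fun n => ∃ L : Subalgebra k D, (∀ x ∈ L, ∀ y ∈ L, x * y = y * x) ∧
    finrank k L = n
  have hbot : P (finrank k (⊥ : Subalgebra k D)) := by
    refine ⟨⊥, ?_, rfl⟩
    intro x hx y hy
    obtain ⟨a, rfl⟩ := Algebra.mem_bot.mp hx
    exact Algebra.commutes a y
  have hle : ∀ L : Subalgebra k D, finrank k L ≤ finrank k D := fun L =>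
    Submodule.finrank_le (Subalgebra.toSubmodule L)
  obtain ⟨L, hL, hLn⟩ := Nat.findGreatest_spec (P := P) (hle ⊥) hbot
  refine ⟨L, hL, fun L' hL' hLL' => ?_⟩
  have h1 : finrank k L' ≤ Nat.findGreatest P (finrank k D) :=
    Nat.le_findGreatest (hle L') ⟨L', hL', rfl⟩
  have h2 : finrank k L ≤ finrank k L' :=
    Submodule.finrank_mono (show Subalgebra.toSubmodule L ≤ Subalgebra.toSubmodule L' from hLL')
  have h3 : finrank k L = finrank k L' := le_antisymm h2 (hLn ▸ h1)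
  have h4 : Subalgebra.toSubmodule L = Subalgebra.toSubmodule L' :=
    Submodule.eq_of_le_of_finrank_eq hLL' h3
  exact (Subalgebra.toSubmodule_injective h4).symm

/-- a commutative subalgebra of a finite-dimensional division algebra is a field. -/
theorem exists_field_of_comm_subalgebra (k : Type u) [Field k] (D : Type v) [DivisionRing D]
    [Algebra k D] [FiniteDimensional k D] (L : Subalgebra k D)
    (hcomm : ∀ x ∈ L, ∀ y ∈ L, x * y = y * x) :
    ∃ (F : Type v) (_ : Field F) (_ : Algebra k F) (_ : F →ₐ[k] D),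
      finrank k F = finrank k L := by
  have hF : IsField L := by
    refine ⟨⟨0, 1, zero_ne_one⟩, fun x y => Subtype.ext (hcomm x x.2 y y.2), fun {x} hx0 => ?_⟩
    have hinj : Function.Injective (LinearMap.mulLeft k x) := by
      intro a b hab
      simp only [LinearMap.mulLeft_apply] at hab
      exact mul_left_cancel₀ hx0 hab
    obtain ⟨y, hy⟩ := (LinearMap.injective_iff_surjective.mp hinj) 1
    exact ⟨y, hy⟩
  exact ⟨L, hF.toField, L.algebra, L.val, rfl⟩

/-- a central division algebra of dimension `d²` contains a subfield of degree `d`. -/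
theorem exists_subfield_degree (k : Type u) [Field k] (D : Type v) [DivisionRing D]
    [Algebra k D] [Algebra.IsCentral k D] [FiniteDimensional k D] (d : ℕ)
    (hd : finrank k D = d ^ 2) :
    ∃ (F : Type v) (_ : Field F) (_ : Algebra k F) (_ : F →ₐ[k] D), finrank k F = d := by
  obtain ⟨L, hL, hmax⟩ := exists_maximal_comm k D
  obtain ⟨F, iF, aF, ι, hF⟩ := exists_field_of_comm_subalgebra k D L hL
  refine ⟨F, iF, aF, ι, ?_⟩
  have h1 := CSA.finrank_eq_sq_of_maximal_comm k D L hL hmax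
  rw [hd] at h1
  rw [hF]
  exact (Nat.pow_left_injective (by norm_num : 2 ≠ 0) h1).symm

end MaxSubfield

section SplitTensor

/-- if `F` splits `A` and `B` it splits `A ⊗ B` (universe-general version). -/
theorem split_tensor' (k : Type u) [Field k] (F : Type v) [Field F] [Algebra k F]
    (A : Type w) [Ring A] [Algebra k A] (B : Type w') [Ring B] [Algebra k B]
    (n m : ℕ) (hn : n ≠ 0) (hm : m ≠ 0)
    (eA : F ⊗[k] A ≃ₐ[F] Matrix (Fin n) (Fin n) F)
    (eB : F ⊗[k] B ≃ₐ[F] Matrix (Fin m) (Fin m) F) :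
    Nonempty (F ⊗[k] (A ⊗[k] B) ≃ₐ[F] Matrix (Fin (n * m)) (Fin (n * m)) F) := by
  obtain ⟨hA1, hA2, hA3⟩ := CSA.csa_of_split (k := k) (A := A) F n hn eA
  obtain ⟨hB1, hB2, hB3⟩ := CSA.csa_of_split (k := k) (A := B) F m hm eB
  have : NeZero (n * m) := ⟨Nat.mul_ne_zero hn hm⟩
  have h1 : IsSimpleRing (A ⊗[k] B) := CSA.isSimpleRing_tensor k A B
  have h2 : Algebra.IsCentral k (A ⊗[k] B) := CSA.isCentral_tensor k A B
  have hdim : finrank k (A ⊗[k] B) = (n * m) * (n * m) := by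
    rw [Module.finrank_tensorProduct, CSA.finrank_eq_of_split k A F n eA,
      CSA.finrank_eq_of_split k B F m eB]
    ring
  let ψA : A →ₐ[k] Matrix (Fin n) (Fin n) F :=
    (eA.toAlgHom.restrictScalars k).comp Algebra.TensorProduct.includeRight
  let ψB : B →ₐ[k] Matrix (Fin m) (Fin m) F :=
    (eB.toAlgHom.restrictScalars k).comp Algebra.TensorProduct.includeRight
  let f : A →ₐ[k] Matrix (Fin (n * m)) (Fin (n * m)) F :=
    ((kronLeft n m).restrictScalars k).comp ψA
  let g : B →ₐ[k] Matrix (Fin (n * m)) (Fin (n * m)) F :=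
    ((kronRight n m).restrictScalars k).comp ψB
  have hf : ∀ a, f a = kron (eA (1 ⊗ₜ a)) (1 : Matrix (Fin m) (Fin m) F) := fun a => rfl
  have hg : ∀ b, g b = kron (1 : Matrix (Fin n) (Fin n) F) (eB (1 ⊗ₜ b)) := fun b => rfl
  have hcomm : ∀ (a : A) (b : B), Commute (f a) (g b) := by
    intro a b
    show f a * g b = g b * f a
    rw [hf, hg, ← kron_mul, ← kron_mul, one_mul, mul_one, one_mul, mul_one]
  exact CSA.split_of_algHom k (A ⊗[k] B) F (n * m) hdim (Algebra.TensorProduct.lift f g hcomm)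

/-- `F ≃ M_1(F)`. -/
noncomputable def fieldEquivMatrixOne (F : Type v) [Field F] :
    F ≃ₐ[F] Matrix (Fin 1) (Fin 1) F :=
  AlgEquiv.ofBijective (Algebra.ofId F (Matrix (Fin 1) (Fin 1) F))
    ⟨(algebraMap F (Matrix (Fin 1) (Fin 1) F)).injective, fun M => ⟨M 0 0, by
      ext i j
      fin_cases i
      fin_cases j
      simp [Algebra.ofId_apply, Matrix.algebraMap_matrix_apply]⟩⟩

/-- if `F` splits `A` it splits all tensor powers of `A`. -/
theorem splits_tpow (k : Type u) [Field k] (F : Type v) [Field F] [Algebra k F]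
    (A : Type w) [Ring A] [Algebra k A] (n : ℕ) (hn : n ≠ 0)
    (eA : F ⊗[k] A ≃ₐ[F] Matrix (Fin n) (Fin n) F) (i : ℕ) :
    ∃ N : ℕ, N ≠ 0 ∧ Nonempty (F ⊗[k] CSAGal.tpow k A i ≃ₐ[F] Matrix (Fin N) (Fin N) F) := by
  induction i with
  | zero =>
    refine ⟨1, one_ne_zero, ⟨?_⟩⟩
    exact ((Algebra.TensorProduct.congr (AlgEquiv.refl : F ≃ₐ[F] F) (tpowZero k A)).trans
      (Algebra.TensorProduct.rid k F F)).trans (fieldEquivMatrixOne F)
  | succ i ih =>
    obtain ⟨N, hN, ⟨e⟩⟩ := ih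
    obtain ⟨e'⟩ := split_tensor' k F (CSAGal.tpow k A i) A N n hN hn e eA
    exact ⟨N * n, Nat.mul_ne_zero hN hn,
      ⟨(Algebra.TensorProduct.congr (AlgEquiv.refl : F ≃ₐ[F] F) (tpowSucc k A i)).trans e'⟩⟩

end SplitTensor

section SameIndex

/-- one half of S13283: if `A^{⊗i}` is Brauer equivalent to `B` then `ind B ∣ ind A`. -/
theorem index_dvd_of_tpow_brauer (k : Type u) [Field k]
    (A : Type v) [Ring A] [Algebra k A] [Algebra.IsCentral k A] [IsSimpleRing A]
    [FiniteDimensional k A]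
    (B : Type v) [Ring B] [Algebra k B] [Algebra.IsCentral k B] [IsSimpleRing B]
    [FiniteDimensional k B]
    (i : ℕ) (n m : ℕ) (hn : n ≠ 0) (hm : m ≠ 0)
    (e₁ : Matrix (Fin n) (Fin n) (CSAGal.tpow k A i) ≃ₐ[k] Matrix (Fin m) (Fin m) B)
    (d dB : ℕ) (hd : CSAGal.IsIndex k A d) (hdB : CSAGal.IsIndex k B dB) : dB ∣ d := by
  obtain ⟨hd0, a, DA, _, _, _, _, isoA, ha, hfrA⟩ := exists_central_of_isIndex k A d hd
  obtain ⟨hdB0, b, DB, _, _, _, _, isoB, hb, hfrB⟩ := exists_central_of_isIndex k B dB hdB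
  obtain ⟨F, _, _, ι, hF⟩ := exists_subfield_degree k DA d hfrA
  haveI : NeZero d := ⟨hd0.ne'⟩
  haveI : FiniteDimensional k F := Module.finite_of_finrank_pos (by rw [hF]; exact hd0)
  -- F splits DA
  obtain ⟨eD⟩ := CSA.split_by_subfield k DA F d (by rw [hfrA, pow_two]) hF ι
  -- F splits A
  obtain ⟨eM⟩ := CSA.splits_matrix_of_splits k DA F a d ha.ne' hd0.ne' eD
  let eA : F ⊗[k] A ≃ₐ[F] Matrix (Fin (a * d)) (Fin (a * d)) F :=
    (Algebra.TensorProduct.congr (AlgEquiv.refl : F ≃ₐ[F] F) isoA).trans eM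
  -- F splits the tensor power
  obtain ⟨N, hN, ⟨eT⟩⟩ := splits_tpow k F A (a * d) (Nat.mul_ne_zero ha.ne' hd0.ne') eA i
  obtain ⟨hT1, hT2, hT3⟩ := CSA.csa_of_split (k := k) (A := CSAGal.tpow k A i) F N hN eT
  -- F splits B
  obtain ⟨N', hN', ⟨eB⟩⟩ := CSA.splits_of_brauer k B (CSAGal.tpow k A i) F m n N hm hn hN e₁.symm eT
  -- F splits DB
  let eB' : F ⊗[k] Matrix (Fin b) (Fin b) DB ≃ₐ[F] Matrix (Fin N') (Fin N') F :=
    (Algebra.TensorProduct.congr (AlgEquiv.refl : F ≃ₐ[F] F) isoB.symm).trans eB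
  obtain ⟨d', hd', ⟨eDB⟩⟩ := CSA.splits_of_splits_matrix k DB F b N' hb.ne' hN' eB'
  have := CSA.dvd_finrank_of_split k DB dB hfrB F d' hd' eDB
  rwa [hF] at this

end SameIndex

end Groth.Agent.H7.Br
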