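import Mathlib
import Groth.Prelude.Def_GSzCSA
import Groth.Agent.Lib.Helper7.Br10

set_option autoImplicit false

namespace Groth.Agent.H7.Br
universe u v w w'
open scoped TensorProduct MatrixGroups
open Module
attribute [local instance] CSAGal.matrixAction GpH1.unitsAction

section Twist
variable {k : Type u} {K : Type v} [Field k] [Field K] [Algebra k K]
variable {X : Type w} [Ring X] [Algebra k X]

theorem coe_smulGL_inv {n : ℕ} (u : Kˣ) (g : GL (Fin n) K) :
    (((smulGL u g)⁻¹ : GL (Fin n) K) : Matrix (Fin n) (Fin n) K) =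
      ((u : K))⁻¹ • ((g⁻¹ : GL (Fin n) K) : Matrix (Fin n) (Fin n) K) := by
  unfold smulGL
  rw [mul_inv_rev, Units.val_mul, ← map_inv, Matrix.GeneralLinearGroup.coe_scalar,
    Matrix.scalar_apply, ← Matrix.smul_eq_mul_diagonal, Units.val_inv_eq_inv_val]

/-- twist a datum by a 1-cochain. -/
def Datum.twist {n : ℕ} (D : Datum k K X n) (a : (K ≃ₐ[k] K) → Kˣ) : Datum k K X n where
  φ := D.φ
  g := fun σ => smulGL (a σ) (D.g σ)
  c := D.c * cob k K a
  hφ := fun σ x => by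
    rw [coe_smulGL, coe_smulGL_inv, D.hφ]
    simp only [Matrix.smul_mul, Matrix.mul_smul, smul_smul, mul_inv_cancel₀ (a σ).ne_zero,
      inv_mul_cancel₀ (a σ).ne_zero, one_smul]
  hc := fun σ τ => by
    rw [coe_smulGL, coe_smulGL, coe_smulGL, smul_smul_matrix, Matrix.smul_mul, Matrix.mul_smul,
      D.hc, smul_smul, smul_smul, smul_smul]
    congr 1
    simp only [Pi.mul_apply, cob, Units.val_mul, coe_sU, Units.val_inv_eq_inv_val]
    have : (a (σ * τ) : K) ≠ 0 := (a (σ * τ)).ne_zero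
    field_simp

theorem Datum.twist_c {n : ℕ} (D : Datum k K X n) (a : (K ≃ₐ[k] K) → Kˣ) :
    (D.twist a).c = D.c * cob k K a := rfl

end Twist

section SameCocycle
variable {k : Type u} {K : Type v} [Field k] [Field K] [Algebra k K]
variable {X : Type w} [Ring X] [Algebra k X] {X' : Type w'} [Ring X'] [Algebra k X']

/-- `g 1` is the scalar `c 1 1`. -/
theorem Datum.g_one {n : ℕ} (D : Datum k K X n) :
    (D.g 1 : Matrix (Fin n) (Fin n) K) = (D.c 1 1 : K) • (1 : Matrix (Fin n) (Fin n) K) := by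
  have h := D.hc 1 1
  rw [one_smul, mul_one] at h
  have h2 := congrArg (fun M => M * (((D.g 1)⁻¹ : GL (Fin n) K) : Matrix (Fin n) (Fin n) K)) h
  simp only [mul_assoc, Units.mul_inv, mul_one, Matrix.smul_mul] at h2
  exact h2

theorem Datum.g_one_inv {n : ℕ} (D : Datum k K X n) :
    (((D.g 1)⁻¹ : GL (Fin n) K) : Matrix (Fin n) (Fin n) K) =
      ((D.c 1 1 : K))⁻¹ • (1 : Matrix (Fin n) (Fin n) K) := by
  have h1 : (D.g 1 : Matrix (Fin n) (Fin n) K) *
      (((D.c 1 1 : K))⁻¹ • (1 : Matrix (Fin n) (Fin n) K)) = 1 := by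
    rw [D.g_one, Matrix.smul_mul, Matrix.mul_smul, one_mul, smul_smul,
      mul_inv_cancel₀ (D.c 1 1).ne_zero, one_smul]
  calc (((D.g 1)⁻¹ : GL (Fin n) K) : Matrix (Fin n) (Fin n) K)
      = (((D.g 1)⁻¹ : GL (Fin n) K) : Matrix (Fin n) (Fin n) K) *
        ((D.g 1 : Matrix (Fin n) (Fin n) K) *
          (((D.c 1 1 : K))⁻¹ • (1 : Matrix (Fin n) (Fin n) K))) := by rw [h1, mul_one]
    _ = _ := by rw [← mul_assoc, Units.inv_mul, one_mul]

theorem Datum.g_mul_inv {n : ℕ} (D : Datum k K X n) (σ τ : K ≃ₐ[k] K) :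
    σ • (((D.g τ)⁻¹ : GL (Fin n) K) : Matrix (Fin n) (Fin n) K) *
      (((D.g σ)⁻¹ : GL (Fin n) K) : Matrix (Fin n) (Fin n) K) =
      ((D.c σ τ : K))⁻¹ • (((D.g (σ * τ))⁻¹ : GL (Fin n) K) : Matrix (Fin n) (Fin n) K) := by
  have h1 : D.g σ * σ • D.g τ = smulGL (D.c σ τ) (D.g (σ * τ)) := by
    apply Units.ext
    rw [coe_smulGL, Units.val_mul]
    exact D.hc σ τ
  have h2 := congrArg (fun u : GL (Fin n) K => ((u⁻¹ : GL (Fin n) K) : Matrix (Fin n) (Fin n) K)) h1
  simp only [mul_inv_rev, Units.val_mul] at h2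
  rw [coe_smulGL_inv] at h2
  exact h2

/-- the twisted semilinear action attached to two data with the same cocycle. -/
def twAct {N : ℕ} (D : Datum k K X N) (D' : Datum k K X' N) (hc : D.c = D'.c) :
    Desc.SemiAct k K (Matrix (Fin N) (Fin N) K) where
  ρ σ :=
    { toFun := fun M => (D'.g σ : Matrix (Fin N) (Fin N) K) * σ • M *
        (((D.g σ)⁻¹ : GL (Fin N) K) : Matrix (Fin N) (Fin N) K)
      map_zero' := by simp
      map_add' := fun M M' => by rw [smul_add, mul_add, add_mul] }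
  smul' σ c M := by
    show (D'.g σ : Matrix (Fin N) (Fin N) K) * σ • (c • M) * _ = σ c • (_ * σ • M * _)
    rw [smul_smul_matrix, Matrix.mul_smul, Matrix.smul_mul]
  one' M := by
    show (D'.g 1 : Matrix (Fin N) (Fin N) K) * (1 : K ≃ₐ[k] K) • M * _ = M
    rw [D'.g_one, D.g_one_inv, one_smul, hc, Matrix.smul_mul, Matrix.mul_smul, one_mul, mul_one,
      smul_smul, inv_mul_cancel₀ (D'.c 1 1).ne_zero, one_smul]
  mul' σ τ M := by
    show (D'.g (σ * τ) : Matrix (Fin N) (Fin N) K) * (σ * τ) • M * _ =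
      (D'.g σ : Matrix (Fin N) (Fin N) K) * σ • ((D'.g τ : Matrix (Fin N) (Fin N) K) * τ • M *
        (((D.g τ)⁻¹ : GL (Fin N) K) : Matrix (Fin N) (Fin N) K)) * _
    rw [smul_mul', smul_mul', ← mul_smul]
    calc (D'.g (σ * τ) : Matrix (Fin N) (Fin N) K) * (σ * τ) • M *
          (((D.g (σ * τ))⁻¹ : GL (Fin N) K) : Matrix (Fin N) (Fin N) K)
        = ((D'.c σ τ : K) • (D'.g (σ * τ) : Matrix (Fin N) (Fin N) K)) * (σ * τ) • M *
          (((D.c σ τ : K))⁻¹ • (((D.g (σ * τ))⁻¹ : GL (Fin N) K) : Matrix (Fin N) (Fin N) K)) := by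
          generalize (σ * τ) • M = Y
          rw [hc]
          simp only [Matrix.smul_mul, Matrix.mul_smul, smul_smul,
            inv_mul_cancel₀ (D'.c σ τ).ne_zero, mul_inv_cancel₀ (D'.c σ τ).ne_zero, one_smul]
      _ = _ := by
          rw [← D'.hc, ← D.g_mul_inv]
          simp only [mul_assoc]

theorem twAct_apply {N : ℕ} (D : Datum k K X N) (D' : Datum k K X' N) (hc : D.c = D'.c)
    (σ : K ≃ₐ[k] K) (M : Matrix (Fin N) (Fin N) K) :
    (twAct D D' hc).ρ σ M = (D'.g σ : Matrix (Fin N) (Fin N) K) * σ • M *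
        (((D.g σ)⁻¹ : GL (Fin N) K) : Matrix (Fin N) (Fin N) K) := rfl

/-- the element `1 ⊗ x` is Galois invariant, in terms of a datum. -/
theorem Datum.hφ_one {n : ℕ} (D : Datum k K X n) (σ : K ≃ₐ[k] K) (x : X) :
    D.φ (1 ⊗ₜ x) = (D.g σ : Matrix (Fin n) (Fin n) K) * σ • D.φ (1 ⊗ₜ x) *
      (((D.g σ)⁻¹ : GL (Fin n) K) : Matrix (Fin n) (Fin n) K) := by
  rw [← D.hφ, TensorProduct.smul_tmul', smul_one]

/-- two algebras with data of the same size and the same cocycle are isomorphic. -/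
theorem Datum.algEquiv_of_c_eq [FiniteDimensional k K] [IsGalois k K] {N : ℕ} [NeZero N]
    (D : Datum k K X N) (D' : Datum k K X' N) (hc : D.c = D'.c) : Nonempty (X ≃ₐ[k] X') := by
  classical
  obtain ⟨hX1, hX2, hX3⟩ := CSA.csa_of_split (k := k) (A := X') K N (NeZero.ne N) D'.φ
  let S := twAct D D' hc
  let W := S.fixed
  have hWdim : finrank k W = N * N := by
    rw [S.finrank_fixed, Module.finrank_matrix]
    simp
  -- left multiplication by X' preserves W
  have hstab : ∀ (x' : X') (w : Matrix (Fin N) (Fin N) K), w ∈ W → D'.φ (1 ⊗ₜ x') * w ∈ W := by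
    intro x' w hw σ
    have hwσ := hw σ
    rw [twAct_apply] at hwσ ⊢
    rw [smul_mul']
    calc (D'.g σ : Matrix (Fin N) (Fin N) K) * (σ • D'.φ (1 ⊗ₜ x') * σ • w) *
          (((D.g σ)⁻¹ : GL (Fin N) K) : Matrix (Fin N) (Fin N) K)
        = ((D'.g σ : Matrix (Fin N) (Fin N) K) * σ • D'.φ (1 ⊗ₜ x') *
            (((D'.g σ)⁻¹ : GL (Fin N) K) : Matrix (Fin N) (Fin N) K)) *
          ((D'.g σ : Matrix (Fin N) (Fin N) K) * σ • w *
            (((D.g σ)⁻¹ : GL (Fin N) K) : Matrix (Fin N) (Fin N) K)) := by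
          simp only [mul_assoc, Units.inv_mul_cancel_left]
      _ = _ := by rw [← D'.hφ_one, hwσ]
  -- the representation of X' on W
  let L : X' →ₐ[k] Module.End k W :=
    AlgHom.ofLinearMap
      { toFun := fun x' =>
          { toFun := fun w => ⟨D'.φ (1 ⊗ₜ x') * w.1, hstab x' w.1 w.2⟩
            map_add' := fun w w' => Subtype.ext (mul_add _ _ _)
            map_smul' := fun c w => Subtype.ext (by
              show D'.φ (1 ⊗ₜ x') * (c • w.1) = c • (D'.φ (1 ⊗ₜ x') * w.1)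
              rw [mul_smul_comm]) }
        map_add' := fun x' y' => by
          apply LinearMap.ext; intro w; apply Subtype.ext
          show D'.φ (1 ⊗ₜ (x' + y')) * w.1 = D'.φ (1 ⊗ₜ x') * w.1 + D'.φ (1 ⊗ₜ y') * w.1
          rw [TensorProduct.tmul_add, map_add, add_mul]
        map_smul' := fun c x' => by
          apply LinearMap.ext; intro w; apply Subtype.ext
          show D'.φ (1 ⊗ₜ (c • x')) * w.1 = c • (D'.φ (1 ⊗ₜ x') * w.1)
          rw [TensorProduct.tmul_smul, ← algebraMap_smul K c ((1 : K) ⊗ₜ[k] x'), map_smul,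
            algebraMap_smul, smul_mul_assoc] }
      (by
        apply LinearMap.ext; intro w; apply Subtype.ext
        show D'.φ (1 ⊗ₜ (1 : X')) * w.1 = w.1
        rw [← Algebra.TensorProduct.one_def, map_one, one_mul])
      (fun x' y' => by
        apply LinearMap.ext; intro w; apply Subtype.ext
        show D'.φ (1 ⊗ₜ (x' * y')) * w.1 = D'.φ (1 ⊗ₜ x') * (D'.φ (1 ⊗ₜ y') * w.1)
        rw [← mul_assoc, ← map_mul, Algebra.TensorProduct.tmul_mul_tmul, one_mul])
  have hL : ∀ (x' : X') (w : W), ((L x' w : W) : Matrix (Fin N) (Fin N) K) =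
      D'.φ (1 ⊗ₜ x') * w.1 := fun x' w => rfl
  -- the regular representation transported to W
  have hdimX' : finrank k X' = N * N := CSA.finrank_eq_of_split k X' K N D'.φ
  have hWfin : FiniteDimensional k W := Module.finite_of_finrank_pos (by
    rw [hWdim]; exact Nat.mul_pos (NeZero.pos N) (NeZero.pos N))
  let e : W ≃ₗ[k] X' := LinearEquiv.ofFinrankEq W X' (by rw [hWdim, hdimX'])
  let Reg : X' →ₐ[k] Module.End k W :=
    ((LinearEquiv.conjAlgEquiv k e.symm : Module.End k X' ≃ₐ[k] Module.End k W) : _ →ₐ[k] _).comp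
      (Algebra.lmul k X')
  have hReg : ∀ (x' : X') (w : W), Reg x' w = e.symm (x' * e w) := fun x' w => rfl
  obtain ⟨T, hT⟩ := CSA.exists_conj L Reg
  let T' : W ≃ₗ[k] X' := T.trans e
  have hT' : ∀ (x' : X') (w : W), T' (L x' w) = x' * T' w := by
    intro x' w
    show e (T (L x' w)) = x' * e (T w)
    rw [hT, hReg, e.apply_symm_apply]
  let B : W := T'.symm 1
  have hgen : ∀ w : W, (w : Matrix (Fin N) (Fin N) K) = D'.φ (1 ⊗ₜ T' w) * B.1 := by
    intro w
    have h1 : L (T' w) B = w := by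
      apply T'.injective
      rw [hT', T'.apply_symm_apply, mul_one]
    rw [← hL, h1]
  -- B is invertible
  have hspan : ∀ M : Matrix (Fin N) (Fin N) K, M ∈ Submodule.span K (W : Set (Matrix (Fin N) (Fin N) K)) →
      ∃ C : Matrix (Fin N) (Fin N) K, M = C * B.1 := by
    intro M hM
    induction hM using Submodule.span_induction with
    | mem w hw => exact ⟨_, hgen ⟨w, hw⟩⟩
    | zero => exact ⟨0, by rw [zero_mul]⟩
    | add M M' _ _ h h' =>
      obtain ⟨C, rfl⟩ := h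
      obtain ⟨C', rfl⟩ := h'
      exact ⟨C + C', by rw [add_mul]⟩
    | smul c M _ h =>
      obtain ⟨C, rfl⟩ := h
      exact ⟨c • C, by rw [smul_mul_assoc]⟩
  obtain ⟨C, hC⟩ := hspan 1 (by rw [S.span_fixed]; trivial)
  let Bu : GL (Fin N) K := ⟨B.1, C, mul_eq_one_comm.mp hC.symm, hC.symm⟩
  have hBu : (Bu : Matrix (Fin N) (Fin N) K) = B.1 := rfl
  have hBfix : ∀ σ : K ≃ₐ[k] K, (D'.g σ : Matrix (Fin N) (Fin N) K) * σ • (Bu : Matrix (Fin N) (Fin N) K) =
      (Bu : Matrix (Fin N) (Fin N) K) * (D.g σ : Matrix (Fin N) (Fin N) K) := by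
    intro σ
    have h1 := B.2 σ
    rw [twAct_apply] at h1
    rw [hBu]
    calc (D'.g σ : Matrix (Fin N) (Fin N) K) * σ • B.1
        = ((D'.g σ : Matrix (Fin N) (Fin N) K) * σ • B.1 *
            (((D.g σ)⁻¹ : GL (Fin N) K) : Matrix (Fin N) (Fin N) K)) *
            (D.g σ : Matrix (Fin N) (Fin N) K) := by
          rw [mul_assoc _ _ (D.g σ : Matrix (Fin N) (Fin N) K), Units.inv_mul, mul_one]
      _ = _ := by rw [h1]
  have hBfix' : ∀ σ : K ≃ₐ[k] K, (((D.g σ)⁻¹ : GL (Fin N) K) : Matrix (Fin N) (Fin N) K) *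
      ((Bu⁻¹ : GL (Fin N) K) : Matrix (Fin N) (Fin N) K) =
      σ • ((Bu⁻¹ : GL (Fin N) K) : Matrix (Fin N) (Fin N) K) *
        (((D'.g σ)⁻¹ : GL (Fin N) K) : Matrix (Fin N) (Fin N) K) := by
    intro σ
    have h1 : D'.g σ * σ • Bu = Bu * D.g σ := by
      apply Units.ext
      rw [Units.val_mul, Units.val_mul]
      exact hBfix σ
    have h2 := congrArg (fun u : GL (Fin N) K => ((u⁻¹ : GL (Fin N) K) : Matrix (Fin N) (Fin N) K)) h1
    simp only [mul_inv_rev, Units.val_mul] at h2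
    exact h2.symm
  let Ψ : K ⊗[k] X ≃ₐ[K] K ⊗[k] X' := D.φ.trans ((PGL.conjAlg Bu).trans D'.φ.symm)
  apply Desc.exists_descend_algEquiv Ψ
  intro σ t
  show D'.φ.symm (PGL.conjAlg Bu (D.φ (σ • t))) = σ • D'.φ.symm (PGL.conjAlg Bu (D.φ t))
  apply D'.φ.injective
  rw [AlgEquiv.apply_symm_apply, D'.hφ, AlgEquiv.apply_symm_apply, PGL.conjAlg_apply,
    PGL.conjAlg_apply, D.hφ, smul_mul', smul_mul']
  calc (Bu : Matrix (Fin N) (Fin N) K) * ((D.g σ : Matrix (Fin N) (Fin N) K) * σ • D.φ t *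
        (((D.g σ)⁻¹ : GL (Fin N) K) : Matrix (Fin N) (Fin N) K)) *
        ((Bu⁻¹ : GL (Fin N) K) : Matrix (Fin N) (Fin N) K)
      = ((Bu : Matrix (Fin N) (Fin N) K) * (D.g σ : Matrix (Fin N) (Fin N) K)) * σ • D.φ t *
        ((((D.g σ)⁻¹ : GL (Fin N) K) : Matrix (Fin N) (Fin N) K) *
        ((Bu⁻¹ : GL (Fin N) K) : Matrix (Fin N) (Fin N) K)) := by simp only [mul_assoc]
    _ = _ := by
      rw [← hBfix, hBfix']
      simp only [mul_assoc]

/-- **Theorem E**: algebras with data of the same size and the same class are isomorphic. -/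
theorem Datum.algEquiv_of_cls_eq [FiniteDimensional k K] [IsGalois k K] {N : ℕ} [NeZero N]
    (D : Datum k K X N) (D' : Datum k K X' N) (h : cls k K D.c = cls k K D'.c) :
    Nonempty (X ≃ₐ[k] X') := by
  obtain ⟨a, ha⟩ := (cls_eq_iff k K D.c D'.c).mp h
  exact (D.twist a).algEquiv_of_c_eq D' (by rw [Datum.twist_c, ha])

theorem Datum.exists_cast {n n' : ℕ} (h : n = n') (D : Datum k K X n) :
    ∃ D' : Datum k K X n', D'.c = D.c := by
  subst h
  exact ⟨D, rfl⟩

/-- data for matrix algebras -/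
theorem Datum.exists_matrix {n : ℕ} [NeZero n] (D : Datum k K X n) (m : ℕ) [NeZero m] :
    ∃ D' : Datum k K (Matrix (Fin m) (Fin m) X) (n * m), D'.c = D.c := by
  obtain ⟨DT, hDT⟩ := D.exists_tensor (trivDatum k K m)
  exact ⟨DT.congr (matrixEquivTensor (Fin m) k X), by
    rw [Datum.congr_c, hDT, trivDatum_c, mul_one]⟩

/-- algebras with data of the same class are Brauer equivalent. -/
theorem Datum.brauer_of_cls_eq [FiniteDimensional k K] [IsGalois k K] {n m : ℕ} [NeZero n]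
    [NeZero m] (D : Datum k K X n) (D' : Datum k K X' m) (h : cls k K D.c = cls k K D'.c) :
    Nonempty (Matrix (Fin m) (Fin m) X ≃ₐ[k] Matrix (Fin n) (Fin n) X') := by
  obtain ⟨E, hE⟩ := D.exists_matrix m
  obtain ⟨E', hE'⟩ := D'.exists_matrix n
  obtain ⟨E'', hE''⟩ := E'.exists_cast (Nat.mul_comm m n)
  haveI : NeZero (n * m) := ⟨Nat.mul_ne_zero (NeZero.ne n) (NeZero.ne m)⟩
  exact E.algEquiv_of_cls_eq E'' (by rw [hE, hE'', hE', h])

/-- Brauer equivalent algebras have data of the same class. -/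
theorem Datum.cls_eq_of_brauer {n m : ℕ} [NeZero n] [NeZero m]
    (D : Datum k K X n) (D' : Datum k K X' m) (r s : ℕ) [NeZero r] [NeZero s]
    (e : Matrix (Fin r) (Fin r) X ≃ₐ[k] Matrix (Fin s) (Fin s) X') :
    cls k K D.c = cls k K D'.c := by
  obtain ⟨E, hE⟩ := D.exists_matrix r
  obtain ⟨E', hE'⟩ := D'.exists_matrix s
  let E₂ : Datum k K (Matrix (Fin r) (Fin r) X) (m * s) := E'.congr e
  have hsz : n * r = m * s := by
    have h1 := CSA.finrank_eq_of_split k _ K (n * r) E.φ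
    have h2 := CSA.finrank_eq_of_split k _ K (m * s) E₂.φ
    rw [h1] at h2
    exact Nat.mul_self_inj.mp h2
  obtain ⟨E₃, hE₃⟩ := E.exists_cast hsz
  haveI : NeZero (m * s) := ⟨Nat.mul_ne_zero (NeZero.ne m) (NeZero.ne s)⟩
  rw [← hE, ← hE₃, Datum.cls_eq E₃ E₂]
  show cls k K E'.c = _
  rw [hE']

end SameCocycle

end Groth.Agent.H7.Br
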