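import Mathlib
import Groth.Prelude.Def_GSzCSA

set_option autoImplicit false

namespace Groth.Agent.H7.Cyc
universe u v w
open Module

/-- a presentation of a cyclic algebra (without the generation / dimension clauses) -/
structure Pres (k : Type u) [Field k] (K : Type v) [Field K] [Algebra k K] (σ : K ≃ₐ[k] K) (b : k)
    (A : Type w) [Ring A] [Algebra k A] where
  ι : K →ₐ[k] A
  y : A
  pow_eq : y ^ Module.finrank k K = algebraMap k A b
  rel : ∀ x : K, ι x * y = y * ι (σ x)

namespace Pres
variable {k : Type u} [Field k] {K : Type v} [Field K] [Algebra k K] {σ : K ≃ₐ[k] K} {b : k}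
  {A : Type w} [Ring A] [Algebra k A] (P : Pres k K σ b A)

theorem rel_pow (i : ℕ) (x : K) : P.ι x * P.y ^ i = P.y ^ i * P.ι ((σ ^ i) x) := by
  induction i generalizing x with
  | zero => simp
  | succ i ih =>
    rw [pow_succ, ← mul_assoc, ih, mul_assoc, P.rel, ← mul_assoc, pow_succ' σ i]
    rfl

/-- the spanning family `yⁱ ι(x)` -/
def g (i : ℕ) (x : K) : A := P.y ^ i * P.ι x

theorem g_mul (i j : ℕ) (x x' : K) : P.g i x * P.g j x' = P.g (i + j) ((σ ^ j) x * x') := by
  unfold g
  rw [mul_assoc, ← mul_assoc (P.ι x), P.rel_pow, pow_add, map_mul]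
  simp only [mul_assoc]

theorem g_add (i : ℕ) (x x' : K) : P.g i (x + x') = P.g i x + P.g i x' := by
  unfold g; rw [map_add, mul_add]

theorem g_smul (i : ℕ) (r : k) (x : K) : P.g i (r • x) = r • P.g i x := by
  unfold g; rw [map_smul, mul_smul_comm]

theorem g_zero' (i : ℕ) : P.g i 0 = 0 := by unfold g; rw [map_zero, mul_zero]

theorem g_add_finrank (i : ℕ) (x : K) : P.g (i + finrank k K) x = b • P.g i x := by
  unfold g
  rw [pow_add, P.pow_eq, mul_assoc, ← Algebra.smul_def, mul_smul_comm]

theorem iota_mul_g (x : K) (i : ℕ) (c : K) : P.ι x * P.g i c = P.g i ((σ ^ i) x * c) := by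
  unfold g
  rw [← mul_assoc, P.rel_pow, mul_assoc, ← map_mul]

theorem g_mul_iota (x : K) (i : ℕ) (c : K) : P.g i c * P.ι x = P.g i (c * x) := by
  unfold g
  rw [mul_assoc, ← map_mul]

theorem y_mul_g (i : ℕ) (c : K) : P.y * P.g i c = P.g (i + 1) c := by
  unfold g
  rw [← mul_assoc, ← pow_succ']

/-- the `k`-linear map `(c_i) ↦ Σ yⁱ ι(c_i)` -/
noncomputable def Θ : (Fin (finrank k K) → K) →ₗ[k] A where
  toFun c := ∑ i : Fin (finrank k K), P.g i (c i)
  map_add' c c' := by
    simp only [Pi.add_apply, g_add, Finset.sum_add_distrib]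
  map_smul' r c := by
    simp only [Pi.smul_apply, g_smul, Finset.smul_sum, RingHom.id_apply]

theorem Θ_apply (c : Fin (finrank k K) → K) : P.Θ c = ∑ i : Fin (finrank k K), P.g i (c i) := rfl

theorem g_mem_range (hpos : 0 < finrank k K) (i : ℕ) (x : K) : P.g i x ∈ LinearMap.range P.Θ := by
  induction i using Nat.strong_induction_on generalizing x with
  | _ i ih =>
    by_cases hi : i < finrank k K
    · refine ⟨Pi.single (⟨i, hi⟩ : Fin (finrank k K)) x, ?_⟩
      rw [Θ_apply, Finset.sum_eq_single (⟨i, hi⟩ : Fin (finrank k K))]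
      · simp
      · intro j _ hj
        rw [Pi.single_eq_of_ne hj, g_zero']
      · intro h; exact absurd (Finset.mem_univ _) h
    · rw [not_lt] at hi
      obtain ⟨j, rfl⟩ := Nat.exists_eq_add_of_le' hi
      rw [g_add_finrank]
      exact Submodule.smul_mem _ _ (ih j (by omega) x)

theorem Θ_surjective (hpos : 0 < finrank k K)
    (hadj : Algebra.adjoin k (Set.range P.ι ∪ {P.y}) = ⊤) : Function.Surjective P.Θ := by
  rw [← LinearMap.range_eq_top, eq_top_iff]
  intro a _
  have ha : a ∈ Subalgebra.toSubmodule (Algebra.adjoin k (Set.range P.ι ∪ {P.y})) := by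
    rw [hadj]; trivial
  rw [Algebra.adjoin_eq_span] at ha
  refine Submodule.span_le.mpr ?_ ha
  intro m hm
  induction hm using Submonoid.closure_induction_left with
  | one =>
    have : (1 : A) = P.g 0 1 := by unfold g; simp
    rw [this]; exact P.g_mem_range hpos 0 1
  | mul_left s hs m hm ih =>
    obtain ⟨c, rfl⟩ := ih
    rcases hs with ⟨x, rfl⟩ | hs
    · rw [Θ_apply, Finset.mul_sum]
      refine Submodule.sum_mem _ fun i _ => ?_
      rw [iota_mul_g]
      exact P.g_mem_range hpos _ _
    · rw [Set.mem_singleton_iff] at hs; subst hs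
      rw [Θ_apply, Finset.mul_sum]
      refine Submodule.sum_mem _ fun i _ => ?_
      rw [y_mul_g]
      exact P.g_mem_range hpos _ _

theorem Θ_bijective [FiniteDimensional k K] (hpos : 0 < finrank k K)
    (hadj : Algebra.adjoin k (Set.range P.ι ∪ {P.y}) = ⊤)
    (hdim : finrank k A = finrank k K ^ 2) : Function.Bijective P.Θ := by
  have hs := P.Θ_surjective hpos hadj
  have : Module.Finite k (Fin (finrank k K) → K) := Module.Finite.pi
  have hA : Module.Finite k A := Module.Finite.of_surjective P.Θ hs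
  have hfr : finrank k (Fin (finrank k K) → K) = finrank k A := by
    rw [Module.finrank_pi_fintype, hdim]
    simp [pow_two]
  exact ⟨(LinearMap.injective_iff_surjective_of_finrank_eq_finrank hfr).mpr hs, hs⟩

theorem iota_mul_Θ (x : K) (c : Fin (finrank k K) → K) :
    P.ι x * P.Θ c = P.Θ (fun i => (σ ^ (i : ℕ)) x * c i) := by
  rw [Θ_apply, Θ_apply, Finset.mul_sum]
  exact Finset.sum_congr rfl fun i _ => P.iota_mul_g x i (c i)

theorem Θ_mul_iota (x : K) (c : Fin (finrank k K) → K) :
    P.Θ c * P.ι x = P.Θ (fun i => c i * x) := by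
  rw [Θ_apply, Θ_apply, Finset.sum_mul]
  exact Finset.sum_congr rfl fun i _ => P.g_mul_iota x i (c i)

theorem isUnit_y (hb : b ≠ 0) (hpos : 0 < finrank k K) : IsUnit P.y := by
  have h1 : IsUnit (P.y ^ finrank k K) := by
    rw [P.pow_eq]
    exact (IsUnit.mk0 b hb).map (algebraMap k A)
  exact (isUnit_pow_iff hpos.ne').mp h1

end Pres

end Groth.Agent.H7.Cyc
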