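import Mathlib
import Groth.Prelude.Def_GSzCSA
import Groth.Agent.Lib.Helper7.Cyc1
import Groth.Agent.Lib.Helper7.CSA14

set_option autoImplicit false

namespace Groth.Agent.H7.Cyc
universe u v w
open Module

section Order
variable {k : Type u} [Field k] {K : Type v} [Field K] [Algebra k K]
  [FiniteDimensional k K] [IsGalois k K] {σ : K ≃ₐ[k] K}

theorem orderOf_eq (hσ : ∀ τ : K ≃ₐ[k] K, τ ∈ Subgroup.zpowers σ) :
    orderOf σ = finrank k K := by
  rw [orderOf_eq_card_of_forall_mem_zpowers hσ, IsGalois.card_aut_eq_finrank]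

theorem pow_ne_pow (hσ : ∀ τ : K ≃ₐ[k] K, τ ∈ Subgroup.zpowers σ)
    (i j : Fin (finrank k K)) (h : i ≠ j) : σ ^ (i : ℕ) ≠ σ ^ (j : ℕ) := by
  intro he
  apply h
  apply Fin.ext
  apply pow_injOn_Iio_orderOf (x := σ)
  · rw [Set.mem_Iio, orderOf_eq hσ]; exact i.2
  · rw [Set.mem_Iio, orderOf_eq hσ]; exact j.2
  · exact he

theorem exists_pow_ne (hσ : ∀ τ : K ≃ₐ[k] K, τ ∈ Subgroup.zpowers σ)
    (i j : Fin (finrank k K)) (h : i ≠ j) : ∃ x : K, (σ ^ (i : ℕ)) x ≠ (σ ^ (j : ℕ)) x := by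
  by_contra hcon
  push Not at hcon
  exact pow_ne_pow hσ i j h (AlgEquiv.ext hcon)

theorem mem_range_of_fixed (hσ : ∀ τ : K ≃ₐ[k] K, τ ∈ Subgroup.zpowers σ) (x : K)
    (hx : σ x = x) : x ∈ Set.range (algebraMap k K) := by
  rw [IsGalois.mem_range_algebraMap_iff_fixed]
  intro τ
  obtain ⟨m, rfl⟩ := Subgroup.mem_zpowers_iff.mp (hσ τ)
  have hinv : σ⁻¹ x = x := by
    rw [AlgEquiv.aut_inv]; exact (σ.symm_apply_eq).mpr hx.symm
  induction m with
  | zero => simp
  | succ m ih =>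
    rw [zpow_add_one]
    show (σ ^ (m : ℤ)) (σ x) = x
    rw [hx]; exact ih
  | pred m ih =>
    rw [zpow_sub_one]
    show (σ ^ (-(m : ℤ))) (σ⁻¹ x) = x
    rw [hinv]; exact ih

end Order

namespace Pres
variable {k : Type u} [Field k] {K : Type v} [Field K] [Algebra k K]
  [FiniteDimensional k K] [IsGalois k K] {σ : K ≃ₐ[k] K} {b : k}
  {A : Type w} [Ring A] [Algebra k A] (P : Pres k K σ b A)

theorem Θ_single (i : Fin (finrank k K)) (x : K) : P.Θ (Pi.single i x) = P.g i x := by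
  rw [Θ_apply, Finset.sum_eq_single i]
  · simp
  · intro j _ hj
    rw [Pi.single_eq_of_ne hj, g_zero']
  · intro h; exact absurd (Finset.mem_univ _) h

open Classical in
theorem one_mem_of_mem (hσ : ∀ τ : K ≃ₐ[k] K, τ ∈ Subgroup.zpowers σ) (hb : b ≠ 0)
    (hpos : 0 < finrank k K) (I : TwoSidedIdeal A) :
    ∀ (m : ℕ) (c : Fin (finrank k K) → K),
      (Finset.univ.filter (fun i => c i ≠ 0)).card = m → c ≠ 0 → P.Θ c ∈ I → (1 : A) ∈ I := by
  intro m
  induction m using Nat.strong_induction_on with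
  | _ m ih =>
    intro c hcard hc hmem
    obtain ⟨i₀, hi₀⟩ : ∃ i₀, c i₀ ≠ 0 := by
      by_contra hcon
      push Not at hcon
      exact hc (funext hcon)
    by_cases hex : ∃ i₁, c i₁ ≠ 0 ∧ i₁ ≠ i₀
    · obtain ⟨i₁, hi₁, hne⟩ := hex
      obtain ⟨x, hx⟩ := exists_pow_ne hσ i₁ i₀ hne
      let c' : Fin (finrank k K) → K := fun i => ((σ ^ (i : ℕ)) x - (σ ^ (i₀ : ℕ)) x) * c i
      have hc'mem : P.Θ c' ∈ I := by
        have h1 : P.Θ c' = P.ι x * P.Θ c - P.Θ c * P.ι ((σ ^ (i₀ : ℕ)) x) := by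
          rw [iota_mul_Θ, Θ_mul_iota, ← map_sub]
          congr 1
          funext i
          simp only [c', Pi.sub_apply]
          ring
        rw [h1]
        exact I.sub_mem (I.mul_mem_left _ _ hmem) (I.mul_mem_right _ _ hmem)
      have hc'ne : c' ≠ 0 := by
        intro h0
        have := congrFun h0 i₁
        simp only [c', Pi.zero_apply, mul_eq_zero, sub_eq_zero] at this
        rcases this with h | h
        · exact hx h
        · exact hi₁ h
      have hsub : (Finset.univ.filter (fun i => c' i ≠ 0)) ⊂ (Finset.univ.filter (fun i => c i ≠ 0)) := by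
        rw [Finset.ssubset_iff_of_subset]
        · refine ⟨i₀, by simp [hi₀], by simp [c']⟩
        · intro i hi
          simp only [Finset.mem_filter, Finset.mem_univ, true_and, c'] at hi ⊢
          exact right_ne_zero_of_mul hi
      exact ih _ (by rw [← hcard]; exact Finset.card_lt_card hsub) c' rfl hc'ne hc'mem
    · push Not at hex
      have hc' : c = Pi.single i₀ (c i₀) := by
        funext i
        by_cases hi : i = i₀
        · subst hi; simp
        · rw [Pi.single_eq_of_ne hi]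
          by_contra h
          exact hi (hex i h)
      rw [hc', Θ_single] at hmem
      have hu : IsUnit (P.g i₀ (c i₀)) := by
        unfold g
        exact ((P.isUnit_y hb hpos).pow _).mul ((IsUnit.mk0 _ hi₀).map P.ι)
      obtain ⟨u, hu'⟩ := hu
      have := I.mul_mem_left (↑u⁻¹ : A) _ hmem
      rwa [← hu', Units.inv_mul] at this

theorem isSimpleRing (hσ : ∀ τ : K ≃ₐ[k] K, τ ∈ Subgroup.zpowers σ) (hb : b ≠ 0)
    (hpos : 0 < finrank k K) (hbij : Function.Bijective P.Θ) [Nontrivial A] : IsSimpleRing A := by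
  refine IsSimpleRing.of_eq_bot_or_eq_top fun I => ?_
  by_cases hI : I = ⊥
  · exact Or.inl hI
  · right
    have : ∃ a ∈ I, a ≠ 0 := by
      by_contra hcon
      push Not at hcon
      apply hI
      rw [eq_bot_iff]
      intro a ha
      rw [TwoSidedIdeal.mem_bot]
      exact hcon a ha
    obtain ⟨a, haI, ha0⟩ := this
    obtain ⟨c, rfl⟩ := hbij.2 a
    have hc : c ≠ 0 := by
      rintro rfl
      exact ha0 (map_zero _)
    rw [← TwoSidedIdeal.one_mem_iff]
    exact P.one_mem_of_mem hσ hb hpos I _ c rfl hc haI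

theorem isCentral (hσ : ∀ τ : K ≃ₐ[k] K, τ ∈ Subgroup.zpowers σ) (hb : b ≠ 0)
    (hpos : 0 < finrank k K) (hbij : Function.Bijective P.Θ) [Nontrivial A] :
    Algebra.IsCentral k A := by
  constructor
  intro z hz
  rw [Subalgebra.mem_center_iff] at hz
  obtain ⟨c, rfl⟩ := hbij.2 z
  have h0 : ∀ i : Fin (finrank k K), (i : ℕ) ≠ 0 → c i = 0 := by
    intro i hi
    let i0 : Fin (finrank k K) := ⟨0, hpos⟩
    have hne : i ≠ i0 := fun h => hi (by rw [h])
    obtain ⟨x, hx⟩ := exists_pow_ne hσ i i0 hne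
    have h1 := hz (P.ι x)
    rw [iota_mul_Θ, Θ_mul_iota] at h1
    have h2 := congrFun (hbij.1 h1) i
    have h3 : ((σ ^ (i : ℕ)) x - x) * c i = 0 := by rw [sub_mul, h2]; ring
    rcases mul_eq_zero.mp h3 with h | h
    · exfalso; apply hx
      rw [sub_eq_zero] at h
      rw [h]; simp [i0]
    · exact h
  let i0 : Fin (finrank k K) := ⟨0, hpos⟩
  have hc : c = Pi.single i0 (c i0) := by
    funext i
    by_cases hi : i = i0
    · subst hi; simp
    · rw [Pi.single_eq_of_ne hi]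
      apply h0
      intro h; exact hi (Fin.ext h)
  rw [hc, Θ_single]
  have hg : P.g i0 (c i0) = P.ι (c i0) := by unfold g; simp [i0]
  rw [hg]
  have hfix : σ (c i0) = c i0 := by
    have h1 := hz P.y
    rw [hc, Θ_single, hg, P.rel] at h1
    have h2 : P.ι (c i0) = P.ι (σ (c i0)) := (P.isUnit_y hb hpos).mul_right_injective h1
    exact (P.ι.toRingHom.injective h2).symm
  obtain ⟨r, hr⟩ := mem_range_of_fixed hσ (c i0) hfix
  rw [← hr, AlgHom.commutes]
  exact Subalgebra.algebraMap_mem _ r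

theorem Θ_injective (hσ : ∀ τ : K ≃ₐ[k] K, τ ∈ Subgroup.zpowers σ) (hb : b ≠ 0)
    (hpos : 0 < finrank k K) [Nontrivial A] : Function.Injective P.Θ := by
  classical
  rw [injective_iff_map_eq_zero]
  intro c hc
  by_contra hne
  have h1 : (1 : A) ∈ (⊥ : TwoSidedIdeal A) :=
    P.one_mem_of_mem hσ hb hpos ⊥ _ c rfl hne (by rw [hc]; exact TwoSidedIdeal.zero_mem _)
  rw [TwoSidedIdeal.mem_bot] at h1
  exact one_ne_zero h1

theorem g_mem_adjoin (i : ℕ) (x : K) : P.g i x ∈ Algebra.adjoin k (Set.range P.ι ∪ {P.y}) := by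
  unfold g
  have hy : P.y ∈ Algebra.adjoin k (Set.range P.ι ∪ {P.y}) :=
    Algebra.subset_adjoin (Or.inr (Set.mem_singleton _))
  have hx : P.ι x ∈ Algebra.adjoin k (Set.range P.ι ∪ {P.y}) :=
    Algebra.subset_adjoin (Or.inl ⟨x, rfl⟩)
  exact mul_mem (pow_mem hy i) hx

theorem adjoin_eq_top (hσ : ∀ τ : K ≃ₐ[k] K, τ ∈ Subgroup.zpowers σ) (hb : b ≠ 0)
    (hpos : 0 < finrank k K) [Nontrivial A] [FiniteDimensional k A]
    (hdim : finrank k A = finrank k K ^ 2) :
    Algebra.adjoin k (Set.range P.ι ∪ {P.y}) = ⊤ := by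
  have hinj := P.Θ_injective hσ hb hpos
  have hfr : finrank k (Fin (finrank k K) → K) = finrank k A := by
    rw [Module.finrank_pi_fintype, hdim]
    simp [pow_two]
  have hsurj : Function.Surjective P.Θ :=
    (LinearMap.injective_iff_surjective_of_finrank_eq_finrank hfr).mp hinj
  rw [eq_top_iff]
  intro a _
  obtain ⟨c, rfl⟩ := hsurj a
  rw [Θ_apply]
  exact Subalgebra.sum_mem _ fun i _ => P.g_mem_adjoin i (c i)

include P in
theorem isCyclicAlg (hσ : ∀ τ : K ≃ₐ[k] K, τ ∈ Subgroup.zpowers σ) (b' : kˣ) (hb' : (b' : k) = b)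
    (hpos : 0 < finrank k K) [Nontrivial A] [FiniteDimensional k A]
    (hdim : finrank k A = finrank k K ^ 2) : CSAGal.IsCyclicAlg k K σ b' A :=
  ⟨P.ι, P.y, by rw [hb']; exact P.pow_eq, P.rel,
    P.adjoin_eq_top hσ (by rw [← hb']; exact b'.ne_zero) hpos hdim, hpos, hdim⟩

end Pres

/-- S13269 -/
theorem csa_of_isCyclicAlg (k : Type u) [Field k] (K : Type v) [Field K] [Algebra k K]
    [FiniteDimensional k K] [IsGalois k K] (σ : K ≃ₐ[k] K)
    (hσ : ∀ τ : K ≃ₐ[k] K, τ ∈ Subgroup.zpowers σ)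
    (b : kˣ) (A : Type w) [Ring A] [Algebra k A] (hA : CSAGal.IsCyclicAlg k K σ b A) :
    Algebra.IsCentral k A ∧ IsSimpleRing A ∧ Curves.Splits k A K := by
  obtain ⟨ι, y, hy, hrel, hadj, hpos, hdim⟩ := hA
  let P : Pres k K σ (b : k) A := ⟨ι, y, hy, hrel⟩
  have hbij := P.Θ_bijective hpos hadj hdim
  have hAfin : Module.Finite k A := Module.Finite.of_surjective P.Θ hbij.2
  have hnt : Nontrivial A := by
    apply Module.nontrivial_of_finrank_pos (R := k)
    rw [hdim]; positivity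
  have h1 := P.isCentral hσ b.ne_zero hpos hbij
  have h2 := P.isSimpleRing hσ b.ne_zero hpos hbij
  refine ⟨h1, h2, finrank k K, hpos.ne', ?_⟩
  have : NeZero (finrank k K) := ⟨hpos.ne'⟩
  exact CSA.split_by_subfield k A K (finrank k K) (by rw [hdim, pow_two]) rfl ι

end Groth.Agent.H7.Cyc
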