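import Mathlib
import Groth.Prelude.Def_GSzCSA
import Groth.Agent.Lib.Helper7.Cyc2
import Groth.Agent.Lib.Helper7.Desc2

set_option autoImplicit false

namespace Groth.Agent.H7.Cyc
universe u v w
open Module
open scoped MatrixGroups
attribute [local instance] CSAGal.matrixAction GpH1.unitsAction

namespace Pres
variable {k : Type u} [Field k] {K : Type v} [Field K] [Algebra k K]
  [FiniteDimensional k K] [IsGalois k K] {σ : K ≃ₐ[k] K} {b : k}
  {A : Type w} [Ring A] [Algebra k A] (P : Pres k K σ b A) (hbij : Function.Bijective P.Θ)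

/-- `Θ` as a linear equivalence. -/
noncomputable def Θe : (Fin (finrank k K) → K) ≃ₗ[k] A := LinearEquiv.ofBijective P.Θ hbij

theorem Θe_apply (c : Fin (finrank k K) → K) : P.Θe hbij c = P.Θ c := rfl

theorem Θ_smul (x : K) (c : Fin (finrank k K) → K) : P.Θ (x • c) = P.Θ c * P.ι x := by
  rw [Θ_mul_iota]
  congr 1
  funext i
  simp [mul_comm]

/-- left multiplication in `Θ`-coordinates. -/
noncomputable def Lmap (a : A) : (Fin (finrank k K) → K) →ₗ[K] (Fin (finrank k K) → K) where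
  toFun c := (P.Θe hbij).symm (a * P.Θ c)
  map_add' c c' := by rw [map_add, mul_add, map_add]
  map_smul' x c := by
    apply hbij.1
    show P.Θ ((P.Θe hbij).symm (a * P.Θ (x • c))) = P.Θ (x • (P.Θe hbij).symm (a * P.Θ c))
    have h1 : ∀ z, P.Θ ((P.Θe hbij).symm z) = z := fun z => (P.Θe hbij).apply_symm_apply z
    rw [Θ_smul, Θ_smul, h1, h1, mul_assoc]

theorem Θ_Lmap (a : A) (c : Fin (finrank k K) → K) : P.Θ (P.Lmap hbij a c) = a * P.Θ c := by
  show P.Θe hbij ((P.Θe hbij).symm (a * P.Θ c)) = _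
  rw [LinearEquiv.apply_symm_apply]

/-- left multiplication in coordinates as an algebra map. -/
noncomputable def Lhom : A →ₐ[k] Module.End K (Fin (finrank k K) → K) :=
  AlgHom.ofLinearMap
    { toFun := fun a => P.Lmap hbij a
      map_add' := fun a a' => by
        apply LinearMap.ext; intro c
        apply hbij.1
        rw [LinearMap.add_apply, map_add, Θ_Lmap, Θ_Lmap, Θ_Lmap, add_mul]
      map_smul' := fun r a => by
        apply LinearMap.ext; intro c
        apply hbij.1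
        rw [LinearMap.smul_apply, RingHom.id_apply, map_smul, Θ_Lmap, Θ_Lmap, smul_mul_assoc] }
    (by
      apply LinearMap.ext; intro c
      apply hbij.1
      show P.Θ (P.Lmap hbij 1 c) = P.Θ c
      rw [Θ_Lmap, one_mul])
    (fun a a' => by
      apply LinearMap.ext; intro c
      apply hbij.1
      show P.Θ (P.Lmap hbij (a * a') c) = P.Θ (P.Lmap hbij a (P.Lmap hbij a' c))
      rw [Θ_Lmap, Θ_Lmap, Θ_Lmap, mul_assoc])

/-- the matrix of left multiplication. -/
noncomputable def Mat : A →ₐ[k] Matrix (Fin (finrank k K)) (Fin (finrank k K)) K :=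
  ((LinearMap.toMatrixAlgEquiv' : Module.End K (Fin (finrank k K) → K) ≃ₐ[K] _).toAlgHom.restrictScalars
    k).comp (P.Lhom hbij)

theorem Mat_mulVec (a : A) (c : Fin (finrank k K) → K) :
    (P.Mat hbij a).mulVec c = P.Lmap hbij a c := by
  show (LinearMap.toMatrix' (P.Lmap hbij a)).mulVec c = _
  rw [LinearMap.toMatrix'_mulVec]

theorem Θ_Mat (a : A) (c : Fin (finrank k K) → K) :
    P.Θ ((P.Mat hbij a).mulVec c) = a * P.Θ c := by
  rw [Mat_mulVec, Θ_Lmap]

theorem eq_of_mulVec_eq {n : ℕ} (M N : Matrix (Fin n) (Fin n) K)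
    (h : ∀ v : Fin n → K, M.mulVec v = N.mulVec v) : M = N := by
  apply Matrix.toLin'.injective
  apply LinearMap.ext
  intro v
  rw [Matrix.toLin'_apply, Matrix.toLin'_apply, h]

/-- the matrix of right multiplication by `y`. -/
noncomputable def U : Matrix (Fin (finrank k K)) (Fin (finrank k K)) K :=
  Matrix.of fun i' i => (P.Θe hbij).symm (P.g ((i : ℕ) + 1) 1) i'

theorem U_mulVec (v : Fin (finrank k K) → K) :
    (P.U hbij).mulVec v = ∑ i, v i • (P.Θe hbij).symm (P.g ((i : ℕ) + 1) 1) := by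
  funext i'
  rw [Finset.sum_apply]
  simp only [Matrix.mulVec, dotProduct, U, Matrix.of_apply, Pi.smul_apply, smul_eq_mul]
  exact Finset.sum_congr rfl fun i _ => mul_comm _ _

theorem Θ_mul_y (c : Fin (finrank k K) → K) :
    P.Θ c * P.y = P.Θ ((P.U hbij).mulVec (fun i => σ (c i))) := by
  have h1 : ∀ z, P.Θ ((P.Θe hbij).symm z) = z := fun z => (P.Θe hbij).apply_symm_apply z
  rw [U_mulVec, map_sum]
  simp only [Θ_smul, h1]
  rw [Θ_apply, Finset.sum_mul]
  refine Finset.sum_congr rfl fun i _ => ?_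
  rw [g_mul_iota, one_mul]
  unfold g
  rw [mul_assoc, P.rel, ← mul_assoc, ← pow_succ]

theorem U_apply_of_lt (i' i : Fin (finrank k K)) (h : (i : ℕ) + 1 < finrank k K) :
    P.U hbij i' i = (Pi.single (⟨(i : ℕ) + 1, h⟩ : Fin (finrank k K)) (1 : K) :
      Fin (finrank k K) → K) i' := by
  have : (P.Θe hbij).symm (P.g ((i : ℕ) + 1) 1) =
      Pi.single (⟨(i : ℕ) + 1, h⟩ : Fin (finrank k K)) (1 : K) := by
    rw [LinearEquiv.symm_apply_eq, Θe_apply, Θ_single]
  show (P.Θe hbij).symm (P.g ((i : ℕ) + 1) 1) i' = _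
  rw [this]

theorem U_apply_of_eq (i' i : Fin (finrank k K)) (h : (i : ℕ) + 1 = finrank k K) :
    P.U hbij i' i = (b • Pi.single (⟨0, i.pos⟩ : Fin (finrank k K)) (1 : K) :
      Fin (finrank k K) → K) i' := by
  have : (P.Θe hbij).symm (P.g ((i : ℕ) + 1) 1) =
      b • Pi.single (⟨0, i.pos⟩ : Fin (finrank k K)) (1 : K) := by
    rw [LinearEquiv.symm_apply_eq, map_smul, Θe_apply, Θ_single, h]
    have := P.g_add_finrank 0 (1 : K)
    rw [zero_add] at this
    exact this
  show (P.Θe hbij).symm (P.g ((i : ℕ) + 1) 1) i' = _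
  rw [this]

theorem smul_U (τ : K ≃ₐ[k] K) : τ • P.U hbij = P.U hbij := by
  ext i' i
  rw [Matrix.smul_apply]
  rcases lt_or_eq_of_le (Nat.succ_le_of_lt i.2) with h | h
  · rw [U_apply_of_lt P hbij i' i h, Pi.single_apply]
    split_ifs
    · exact map_one τ
    · exact map_zero τ
  · rw [U_apply_of_eq P hbij i' i h, Pi.smul_apply, Pi.single_apply]
    split_ifs
    · show τ (b • (1 : K)) = b • (1 : K)
      rw [map_smul, map_one]
    · show τ (b • (0 : K)) = b • (0 : K)
      rw [smul_zero, map_zero]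

theorem smul_U_pow (τ : K ≃ₐ[k] K) (j : ℕ) : τ • (P.U hbij ^ j) = P.U hbij ^ j := by
  rw [smul_pow', smul_U]

theorem Θ_mul_y_pow (c : Fin (finrank k K) → K) (j : ℕ) :
    P.Θ c * P.y ^ j = P.Θ ((P.U hbij ^ j).mulVec (fun i => (σ ^ j) (c i))) := by
  induction j with
  | zero => simp
  | succ j ih =>
    rw [pow_succ, ← mul_assoc, ih, Θ_mul_y P hbij, Desc.smul_mulVec, smul_U_pow,
      Matrix.mulVec_mulVec, ← pow_succ']
    congr 2
    funext i
    rw [pow_succ']
    rfl

theorem Mat_mul_U (a : A) :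
    P.Mat hbij a * P.U hbij = P.U hbij * σ • P.Mat hbij a := by
  apply eq_of_mulVec_eq
  intro v
  apply hbij.1
  have hv : v = fun i => σ ((fun i => σ.symm (v i)) i) := by
    funext i; simp
  rw [hv, ← Matrix.mulVec_mulVec, ← Matrix.mulVec_mulVec, Θ_Mat, ← Θ_mul_y P hbij,
    ← Desc.smul_mulVec, ← Θ_mul_y P hbij, Θ_Mat, mul_assoc]

theorem U_pow_finrank (hσ : ∀ τ : K ≃ₐ[k] K, τ ∈ Subgroup.zpowers σ) :
    P.U hbij ^ finrank k K =
      (algebraMap k K b) • (1 : Matrix (Fin (finrank k K)) (Fin (finrank k K)) K) := by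
  apply eq_of_mulVec_eq
  intro v
  apply hbij.1
  have h1 := P.Θ_mul_y_pow hbij v (finrank k K)
  have h2 : σ ^ finrank k K = 1 := by rw [← orderOf_eq hσ]; exact pow_orderOf_eq_one σ
  rw [h2, P.pow_eq] at h1
  have h3 : (fun i => (1 : K ≃ₐ[k] K) (v i)) = v := rfl
  rw [h3] at h1
  rw [← h1, Matrix.smul_mulVec, Matrix.one_mulVec, algebraMap_smul, map_smul,
    ← Algebra.commutes, Algebra.smul_def]

theorem Mat_mul_U_pow (a : A) (j : ℕ) :
    P.Mat hbij a * P.U hbij ^ j = P.U hbij ^ j * (σ ^ j) • P.Mat hbij a := by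
  induction j with
  | zero => simp
  | succ j ih =>
    have h1 := congrArg (fun M => (σ ^ j) • M) (P.Mat_mul_U hbij a)
    simp only [smul_mul', smul_U, ← mul_smul, ← pow_succ] at h1
    rw [pow_succ, ← mul_assoc, ih, mul_assoc, h1, mul_assoc]

/-- `U` as an invertible matrix. -/
noncomputable def Uu (hb : b ≠ 0) (hpos : 0 < finrank k K)
    (hσ : ∀ τ : K ≃ₐ[k] K, τ ∈ Subgroup.zpowers σ) : GL (Fin (finrank k K)) K where
  val := P.U hbij
  inv := (algebraMap k K b)⁻¹ • P.U hbij ^ (finrank k K - 1)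
  val_inv := by
    have hb' : algebraMap k K b ≠ 0 := by rwa [Ne, map_eq_zero]
    rw [Matrix.mul_smul, ← pow_succ', Nat.sub_add_cancel hpos, U_pow_finrank P hbij hσ, smul_smul,
      inv_mul_cancel₀ hb', one_smul]
  inv_val := by
    have hb' : algebraMap k K b ≠ 0 := by rwa [Ne, map_eq_zero]
    rw [Matrix.smul_mul, ← pow_succ, Nat.sub_add_cancel hpos, U_pow_finrank P hbij hσ, smul_smul,
      inv_mul_cancel₀ hb', one_smul]

theorem coe_Uu (hb : b ≠ 0) (hpos : 0 < finrank k K)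
    (hσ : ∀ τ : K ≃ₐ[k] K, τ ∈ Subgroup.zpowers σ) :
    ((P.Uu hbij hb hpos hσ : GL (Fin (finrank k K)) K) :
      Matrix (Fin (finrank k K)) (Fin (finrank k K)) K) = P.U hbij := rfl

end Pres

end Groth.Agent.H7.Cyc
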