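import Mathlib
import Groth.Prelude.Def_GSzCSA
import Groth.Agent.Lib.Helper7.Br11
import Groth.Agent.Lib.Helper7.Cyc5

set_option autoImplicit false

namespace Groth.Agent.H7.Br
universe u v w w'
open scoped TensorProduct MatrixGroups
open Module
attribute [local instance] CSAGal.matrixAction GpH1.unitsAction

section OfAlgHom
variable {k : Type u} {K : Type v} [Field k] [Field K] [Algebra k K]
variable {A : Type w} [Ring A] [Algebra k A]

/-- a datum from an explicit matrix representation. -/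
theorem exists_datum_of_algHom [Algebra.IsCentral k A] [IsSimpleRing A] [FiniteDimensional k A]
    {n : ℕ} [NeZero n] (hdim : finrank k A = n * n)
    (M : A →ₐ[k] Matrix (Fin n) (Fin n) K) (g : (K ≃ₐ[k] K) → GL (Fin n) K) (c : C2 k K)
    (hM : ∀ (σ : K ≃ₐ[k] K) (a : A), M a = (g σ : Matrix (Fin n) (Fin n) K) * σ • M a *
      (((g σ)⁻¹ : GL (Fin n) K) : Matrix (Fin n) (Fin n) K))
    (hc : ∀ σ τ : K ≃ₐ[k] K, (g σ : Matrix (Fin n) (Fin n) K) *
      σ • (g τ : Matrix (Fin n) (Fin n) K) = (c σ τ : K) • (g (σ * τ) : Matrix (Fin n) (Fin n) K)) :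
    ∃ D : Datum k K A n, D.c = c := by
  have hdim' : finrank k A = finrank K (Matrix (Fin n) (Fin n) K) := by
    rw [hdim, Module.finrank_matrix]; simp
  obtain ⟨Φ, hΦ⟩ := baseChange_equiv_of_algHom' k A K (Matrix (Fin n) (Fin n) K) hdim' M
  have hΦ' : ∀ (l : K) (a : A), Φ (l ⊗ₜ a) = l • M a := by
    intro l a
    have : l ⊗ₜ[k] a = l • ((1 : K) ⊗ₜ[k] a) := by
      rw [TensorProduct.smul_tmul', smul_eq_mul, mul_one]
    rw [this, map_smul, hΦ]
  refine ⟨⟨Φ, g, c, ?_, hc⟩, rfl⟩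
  intro σ x
  induction x using TensorProduct.induction_on with
  | zero => simp
  | tmul l a =>
    rw [TensorProduct.smul_tmul', hΦ', hΦ', smul_smul_matrix, Matrix.mul_smul, Matrix.smul_mul,
      ← hM]
    rfl
  | add x y hx hy => rw [smul_add, map_add, map_add, hx, hy, smul_add, mul_add, add_mul]

end OfAlgHom

section Cyclic
variable {k : Type u} {K : Type v} [Field k] [Field K] [Algebra k K]
  [FiniteDimensional k K] [IsGalois k K] {σ : K ≃ₐ[k] K}

theorem exists_dlog (hσ : ∀ τ : K ≃ₐ[k] K, τ ∈ Subgroup.zpowers σ) (τ : K ≃ₐ[k] K) :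
    ∃ j : ℕ, j < finrank k K ∧ σ ^ j = τ := by
  have hpos : 0 < finrank k K := Module.finrank_pos
  have hord : orderOf σ = finrank k K := Cyc.orderOf_eq hσ
  obtain ⟨n, hn⟩ := Subgroup.mem_zpowers_iff.mp (hσ τ)
  have hm : (0 : ℤ) < (finrank k K : ℤ) := by exact_mod_cast hpos
  refine ⟨(n % (finrank k K : ℤ)).toNat, ?_, ?_⟩
  · have h1 := Int.emod_lt_of_pos n hm
    have h2 := Int.emod_nonneg n hm.ne'
    omega
  · rw [← zpow_natCast, Int.toNat_of_nonneg (Int.emod_nonneg n hm.ne'), ← hord,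
      zpow_mod_orderOf, hn]

/-- discrete logarithm with respect to the generator `σ`. -/
noncomputable def dlog (hσ : ∀ τ : K ≃ₐ[k] K, τ ∈ Subgroup.zpowers σ) (τ : K ≃ₐ[k] K) : ℕ :=
  Classical.choose (exists_dlog hσ τ)

theorem dlog_lt (hσ : ∀ τ : K ≃ₐ[k] K, τ ∈ Subgroup.zpowers σ) (τ : K ≃ₐ[k] K) :
    dlog hσ τ < finrank k K := (Classical.choose_spec (exists_dlog hσ τ)).1

theorem pow_dlog (hσ : ∀ τ : K ≃ₐ[k] K, τ ∈ Subgroup.zpowers σ) (τ : K ≃ₐ[k] K) :
    σ ^ dlog hσ τ = τ := (Classical.choose_spec (exists_dlog hσ τ)).2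

theorem dlog_unique (hσ : ∀ τ : K ≃ₐ[k] K, τ ∈ Subgroup.zpowers σ) (τ : K ≃ₐ[k] K) (j : ℕ)
    (hj : j < finrank k K) (h : σ ^ j = τ) : dlog hσ τ = j := by
  apply pow_injOn_Iio_orderOf (x := σ)
  · rw [Set.mem_Iio, Cyc.orderOf_eq hσ]; exact dlog_lt hσ τ
  · rw [Set.mem_Iio, Cyc.orderOf_eq hσ]; exact hj
  · show σ ^ dlog hσ τ = σ ^ j
    rw [pow_dlog, h]

theorem dlog_mul (hσ : ∀ τ : K ≃ₐ[k] K, τ ∈ Subgroup.zpowers σ) (τ τ' : K ≃ₐ[k] K) :
    dlog hσ (τ * τ') = (dlog hσ τ + dlog hσ τ') % finrank k K := by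
  apply dlog_unique
  · exact Nat.mod_lt _ Module.finrank_pos
  · rw [← Cyc.orderOf_eq hσ, pow_mod_orderOf, pow_add, pow_dlog, pow_dlog]

theorem dlog_mul_of_lt (hσ : ∀ τ : K ≃ₐ[k] K, τ ∈ Subgroup.zpowers σ) (τ τ' : K ≃ₐ[k] K)
    (h : dlog hσ τ + dlog hσ τ' < finrank k K) :
    dlog hσ (τ * τ') = dlog hσ τ + dlog hσ τ' := by
  rw [dlog_mul, Nat.mod_eq_of_lt h]

theorem dlog_mul_of_ge (hσ : ∀ τ : K ≃ₐ[k] K, τ ∈ Subgroup.zpowers σ) (τ τ' : K ≃ₐ[k] K)
    (h : finrank k K ≤ dlog hσ τ + dlog hσ τ') :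
    dlog hσ (τ * τ') + finrank k K = dlog hσ τ + dlog hσ τ' := by
  rw [dlog_mul]
  have h1 := dlog_lt hσ τ
  have h2 := dlog_lt hσ τ'
  have h3 : (dlog hσ τ + dlog hσ τ') % finrank k K = dlog hσ τ + dlog hσ τ' - finrank k K := by
    rw [Nat.mod_eq_sub_mod h, Nat.mod_eq_of_lt (by omega)]
  rw [h3]; omega

/-- the standard cyclic 2-cocycle attached to `b`. -/
noncomputable def cyc (hσ : ∀ τ : K ≃ₐ[k] K, τ ∈ Subgroup.zpowers σ) (b : kˣ) : C2 k K :=
  fun τ τ' => if dlog hσ τ + dlog hσ τ' < finrank k K then 1 else Units.map (algebraMap k K) b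

theorem cyc_mul (hσ : ∀ τ : K ≃ₐ[k] K, τ ∈ Subgroup.zpowers σ) (b b' : kˣ) :
    cyc hσ (b * b') = cyc hσ b * cyc hσ b' := by
  funext τ τ'
  simp only [cyc, Pi.mul_apply]
  split_ifs
  · rw [one_mul]
  · rw [map_mul]

theorem cyc_pow (hσ : ∀ τ : K ≃ₐ[k] K, τ ∈ Subgroup.zpowers σ) (b : kˣ) (e : ℕ) :
    cyc hσ (b ^ e) = cyc hσ b ^ e := by
  induction e with
  | zero =>
    funext τ τ'
    simp [cyc]
  | succ e ih => rw [pow_succ, cyc_mul, ih, pow_succ]

variable {A : Type w} [Ring A] [Algebra k A]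

/-- a cyclic algebra has a datum with the standard cyclic cocycle. -/
theorem exists_datum_of_isCyclicAlg (hσ : ∀ τ : K ≃ₐ[k] K, τ ∈ Subgroup.zpowers σ) (b : kˣ)
    (hA : CSAGal.IsCyclicAlg k K σ b A) :
    ∃ D : Datum k K A (finrank k K), D.c = cyc hσ b := by
  obtain ⟨h1, h2, -⟩ := Cyc.csa_of_isCyclicAlg k K σ hσ b A hA
  obtain ⟨ι, y, hy, hrel, hadj, hpos, hdim⟩ := hA
  let P : Cyc.Pres k K σ (b : k) A := ⟨ι, y, hy, hrel⟩
  have hbij := P.Θ_bijective hpos hadj hdim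
  have hAfin : Module.Finite k A := Module.Finite.of_surjective P.Θ hbij.2
  haveI : NeZero (finrank k K) := ⟨hpos.ne'⟩
  let Uu := P.Uu hbij b.ne_zero hpos hσ
  have hUu : ∀ j : ℕ, ((Uu ^ j : GL (Fin (finrank k K)) K) :
      Matrix (Fin (finrank k K)) (Fin (finrank k K)) K) = P.U hbij ^ j := fun j => by
    rw [Units.val_pow_eq_pow_val]; rfl
  refine exists_datum_of_algHom (by rw [hdim, pow_two]) (P.Mat hbij)
    (fun τ => Uu ^ dlog hσ τ) (cyc hσ b) ?_ ?_
  · intro τ a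
    have h3 := P.Mat_mul_U_pow hbij a (dlog hσ τ)
    rw [pow_dlog] at h3
    rw [hUu, ← h3, mul_assoc, ← hUu, Units.mul_inv, mul_one]
  · intro τ τ'
    rw [hUu, hUu, hUu, Cyc.Pres.smul_U_pow, ← pow_add]
    unfold cyc
    split_ifs with h
    · rw [dlog_mul_of_lt hσ τ τ' h, Units.val_one, one_smul]
    · rw [not_lt] at h
      rw [← dlog_mul_of_ge hσ τ τ' h, pow_add, P.U_pow_finrank hbij hσ, Matrix.mul_smul, mul_one]
      rfl

theorem prod_range_pow_eq_norm (hσ : ∀ τ : K ≃ₐ[k] K, τ ∈ Subgroup.zpowers σ) (x : K) :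
    ∏ i ∈ Finset.range (finrank k K), (σ ^ i) x = algebraMap k K (Algebra.norm k x) := by
  classical
  rw [Algebra.norm_eq_prod_automorphisms]
  refine Finset.prod_bij (fun i _ => σ ^ i) (fun _ _ => Finset.mem_univ _) ?_ ?_ (fun _ _ => rfl)
  · intro i hi j hj h
    apply pow_injOn_Iio_orderOf (x := σ)
    · rw [Set.mem_Iio, Cyc.orderOf_eq hσ]; exact Finset.mem_range.mp hi
    · rw [Set.mem_Iio, Cyc.orderOf_eq hσ]; exact Finset.mem_range.mp hj
    · exact h
  · intro τ _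
    obtain ⟨j, hj, hjτ⟩ := exists_dlog hσ τ
    exact ⟨j, Finset.mem_range.mpr hj, hjτ⟩

theorem sU_pow_dlog (hσ : ∀ τ : K ≃ₐ[k] K, τ ∈ Subgroup.zpowers σ) (τ : K ≃ₐ[k] K) (i : ℕ)
    (u : Kˣ) : sU k K τ (sU k K (σ ^ i) u) = sU k K (σ ^ (dlog hσ τ + i)) u := by
  apply Units.ext
  simp only [coe_sU]
  rw [pow_add, pow_dlog]
  rfl

/-- the standard cyclic cocycle is a coboundary iff `b` is a norm. -/
theorem cls_cyc_eq_one_iff (hσ : ∀ τ : K ≃ₐ[k] K, τ ∈ Subgroup.zpowers σ) (b : kˣ) :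
    cls k K (cyc hσ b) = 1 ↔ ∃ x : K, Algebra.norm k x = (b : k) := by
  classical
  have hpos : 0 < finrank k K := Module.finrank_pos
  have hσm : σ ^ finrank k K = 1 := by rw [← Cyc.orderOf_eq hσ]; exact pow_orderOf_eq_one σ
  rw [cls_eq_one_iff]
  constructor
  · rintro ⟨a, ha⟩
    rcases Nat.lt_or_ge 1 (finrank k K) with hm | hm
    · -- dlog σ = 1
      have hd1 : dlog hσ σ = 1 := dlog_unique hσ σ 1 hm (pow_one σ)
      refine ⟨(a σ : K), ?_⟩
      apply (algebraMap k K).injective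
      rw [Algebra.norm_eq_prod_automorphisms]
      have h1 : ∏ τ : K ≃ₐ[k] K, cob k K a τ σ = ∏ τ : K ≃ₐ[k] K, cyc hσ b τ σ := by rw [ha]
      have h2 : ∏ τ : K ≃ₐ[k] K, cob k K a τ σ = ∏ τ : K ≃ₐ[k] K, sU k K τ (a σ) := by
        simp only [cob]
        rw [Finset.prod_mul_distrib, Finset.prod_mul_distrib, Finset.prod_inv_distrib]
        have h3 : ∏ τ : K ≃ₐ[k] K, a (τ * σ) = ∏ τ : K ≃ₐ[k] K, a τ :=
          Equiv.prod_comp (Equiv.mulRight σ) a
        rw [h3, mul_comm (∏ τ : K ≃ₐ[k] K, a τ), mul_inv_cancel_right]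
      have h4 : ∏ τ : K ≃ₐ[k] K, cyc hσ b τ σ = Units.map (algebraMap k K) b := by
        have h5 : ∀ τ : K ≃ₐ[k] K, cyc hσ b τ σ =
            if τ = σ ^ (finrank k K - 1) then Units.map (algebraMap k K) b else 1 := by
          intro τ
          unfold cyc
          rw [hd1]
          by_cases hτ : τ = σ ^ (finrank k K - 1)
          · have : dlog hσ τ = finrank k K - 1 :=
              dlog_unique hσ τ _ (by omega) hτ.symm
            rw [if_pos hτ, if_neg (by omega)]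
          · rw [if_neg hτ, if_pos]
            by_contra hcon
            apply hτ
            have h6 := dlog_lt hσ τ
            have : dlog hσ τ = finrank k K - 1 := by omega
            rw [← this, pow_dlog]
        simp only [h5]
        rw [Finset.prod_ite_eq' Finset.univ (σ ^ (finrank k K - 1))]
        simp
      have h7 := congrArg (fun u : Kˣ => (u : K)) (h2.symm.trans (h1.trans h4))
      simp only [Units.coe_prod, coe_sU, Units.coe_map, MonoidHom.coe_coe] at h7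
      exact h7
    · have h1 : finrank k K = 1 := by omega
      refine ⟨algebraMap k K b, ?_⟩
      rw [Algebra.norm_algebraMap, h1, pow_one]
  · rintro ⟨x, hx⟩
    have hx0 : x ≠ 0 := by
      rintro rfl
      rw [Algebra.norm_zero] at hx
      exact b.ne_zero hx.symm
    let xu : Kˣ := Units.mk0 x hx0
    have hN : ∏ i ∈ Finset.range (finrank k K), sU k K (σ ^ i) xu = Units.map (algebraMap k K) b := by
      apply Units.ext
      simp only [Units.coe_prod, coe_sU, Units.coe_map, MonoidHom.coe_coe]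
      show ∏ i ∈ Finset.range (finrank k K), (σ ^ i) x = _
      rw [prod_range_pow_eq_norm hσ, hx]
    refine ⟨fun τ => ∏ i ∈ Finset.range (dlog hσ τ), sU k K (σ ^ i) xu, ?_⟩
    funext τ τ'
    simp only [cob]
    rw [map_prod]
    simp only [sU_pow_dlog hσ]
    rw [← Finset.prod_range_add (fun i => sU k K (σ ^ i) xu)]
    unfold cyc
    split_ifs with h
    · rw [dlog_mul_of_lt hσ τ τ' h, mul_inv_cancel]
    · rw [not_lt] at h
      rw [← dlog_mul_of_ge hσ τ τ' h, add_comm (dlog hσ (τ * τ')), Finset.prod_range_add, hN]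
      have h8 : ∀ i : ℕ, sU k K (σ ^ (finrank k K + i)) xu = sU k K (σ ^ i) xu := by
        intro i
        rw [pow_add, hσm, one_mul]
      simp only [h8]
      rw [mul_inv_cancel_right]

end Cyclic

end Groth.Agent.H7.Br
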