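import Mathlib
import Groth.Prelude.Def_GSzCSA
import Groth.Agent.Lib.Helper7.Br11

set_option autoImplicit false

namespace Groth.Agent.H7.Br
universe u v w w'
open scoped TensorProduct MatrixGroups
open Module PiTensorProduct
attribute [local instance] CSAGal.matrixAction GpH1.unitsAction

section PiAlg
variable (k : Type u) [Field k]

/-- reindexing a tensor product of algebras. -/
noncomputable def piReindexAlg {α β : Type*} (e : α ≃ β) (E : β → Type w)
    [∀ b, Ring (E b)] [∀ b, Algebra k (E b)] :
    (⨂[k] b, E b) ≃ₐ[k] ⨂[k] a, E (e a) :=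
  AlgEquiv.ofLinearEquiv
    (PiTensorProduct.reindex k E e.symm : (⨂[k] b, E b) ≃ₗ[k] ⨂[k] a, E (e a))
    (by
      rw [PiTensorProduct.one_def, PiTensorProduct.one_def]
      exact PiTensorProduct.reindex_tprod e.symm _)
    (by
      apply map_mul_of_span
        (PiTensorProduct.reindex k E e.symm : (⨂[k] b, E b) ≃ₗ[k] ⨂[k] a, E (e a)).toLinearMap _
        PiTensorProduct.span_tprod_eq_top
      rintro _ ⟨x, rfl⟩ _ ⟨y, rfl⟩
      simp only [LinearEquiv.coe_coe]
      rw [PiTensorProduct.tprod_mul_tprod]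
      erw [PiTensorProduct.reindex_tprod, PiTensorProduct.reindex_tprod,
        PiTensorProduct.reindex_tprod]
      rw [PiTensorProduct.tprod_mul_tprod]
      rfl)

/-- an empty tensor product of algebras is the base field. -/
noncomputable def piEmptyAlg {α : Type*} [IsEmpty α] (E : α → Type w)
    [∀ b, Ring (E b)] [∀ b, Algebra k (E b)] : (⨂[k] a, E a) ≃ₐ[k] k :=
  AlgEquiv.ofLinearEquiv (PiTensorProduct.isEmptyEquiv α (R := k) (s := E))
    (by rw [PiTensorProduct.one_def, PiTensorProduct.isEmptyEquiv_apply_tprod])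
    (by
      apply map_mul_of_span (PiTensorProduct.isEmptyEquiv α (R := k) (s := E)).toLinearMap _
        PiTensorProduct.span_tprod_eq_top
      rintro _ ⟨x, rfl⟩ _ ⟨y, rfl⟩
      simp only [LinearEquiv.coe_coe]
      rw [PiTensorProduct.tprod_mul_tprod, PiTensorProduct.isEmptyEquiv_apply_tprod,
        PiTensorProduct.isEmptyEquiv_apply_tprod, PiTensorProduct.isEmptyEquiv_apply_tprod,
        mul_one])

/-- splitting off the `none` factor, as a linear equivalence. -/
noncomputable def piOptionLin {α : Type*} (E : Option α → Type w)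
    [∀ b, Ring (E b)] [∀ b, Algebra k (E b)] :
    (⨂[k] o, E o) ≃ₗ[k] (⨂[k] a, E (some a)) ⊗[k] E none :=
  ((PiTensorProduct.reindex k E (Equiv.optionEquivSumPUnit.{0} α)).trans
    (PiTensorProduct.tmulEquivDep k
      (fun s => E ((Equiv.optionEquivSumPUnit.{0} α).symm s))).symm).trans
    (TensorProduct.congr (LinearEquiv.refl k _)
      (PiTensorProduct.subsingletonEquiv (R := k)
        (s := fun u : PUnit.{1} => E ((Equiv.optionEquivSumPUnit.{0} α).symm (Sum.inr u)))
        PUnit.unit))

theorem piOptionLin_tprod {α : Type*} (E : Option α → Type w)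
    [∀ b, Ring (E b)] [∀ b, Algebra k (E b)] (f : ∀ o, E o) :
    piOptionLin k E (tprod k f) = (tprod k fun a => f (some a)) ⊗ₜ[k] f none := by
  unfold piOptionLin
  rw [LinearEquiv.trans_apply, LinearEquiv.trans_apply, PiTensorProduct.reindex_tprod,
    PiTensorProduct.tmulEquivDep_symm_apply, TensorProduct.congr_tmul]
  erw [PiTensorProduct.subsingletonEquiv_apply_tprod]
  rfl

/-- splitting off the `none` factor, as an algebra equivalence. -/
noncomputable def piOptionAlg {α : Type*} (E : Option α → Type w)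
    [∀ b, Ring (E b)] [∀ b, Algebra k (E b)] :
    (⨂[k] o, E o) ≃ₐ[k] (⨂[k] a, E (some a)) ⊗[k] E none :=
  AlgEquiv.ofLinearEquiv (piOptionLin k E)
    (by
      rw [PiTensorProduct.one_def, piOptionLin_tprod, Algebra.TensorProduct.one_def,
        PiTensorProduct.one_def]
      rfl)
    (by
      apply map_mul_of_span (piOptionLin k E).toLinearMap _ PiTensorProduct.span_tprod_eq_top
      rintro _ ⟨x, rfl⟩ _ ⟨y, rfl⟩
      simp only [LinearEquiv.coe_coe]
      rw [PiTensorProduct.tprod_mul_tprod, piOptionLin_tprod, piOptionLin_tprod,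
        piOptionLin_tprod, Algebra.TensorProduct.tmul_mul_tmul, PiTensorProduct.tprod_mul_tprod]
      rfl)

end PiAlg

section PiDatum
variable {k : Type u} {K : Type v} [Field k] [Field K] [Algebra k K]

/-- `k ≃ M_1(k)`-type equivalence for an arbitrary algebra. -/
noncomputable def algEquivMatrixOne (k : Type u) [Field k] (R : Type w) [Ring R] [Algebra k R] :
    R ≃ₐ[k] Matrix (Fin 1) (Fin 1) R :=
  AlgEquiv.ofBijective (Matrix.scalarAlgHom (Fin 1) k)
    ⟨fun a b h => by
      have := congrFun (congrFun h 0) 0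
      simpa using this, fun M => ⟨M 0 0, by
      ext i j
      fin_cases i
      fin_cases j
      simp [Matrix.scalarAlgHom_apply]⟩⟩

/-- the property proved by induction on the index type. -/
def PiProp (k : Type u) (K : Type v) [Field k] [Field K] [Algebra k K] (α : Type) [Fintype α] :
    Prop :=
  ∀ (E : α → Type w) [∀ a, Ring (E a)] [∀ a, Algebra k (E a)] (n : α → ℕ)
      (_ : ∀ a, NeZero (n a)) (D : ∀ a, Datum k K (E a) (n a)),
      ∃ (N : ℕ) (_ : NeZero N) (DT : Datum k K (⨂[k] a, E a) N),
        DT.c = ∏ a, (D a).c ∧ N = ∏ a, n a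

/-- data for a finite tensor product of algebras. -/
theorem exists_datum_piTensor (α : Type) [Fintype α] : PiProp.{u, v, w} k K α := by
  refine Fintype.induction_empty_option (P := fun α _ => PiProp.{u, v, w} k K α) ?_ ?_ ?_ α
  · intro α β _ e ih
    letI : Fintype α := Fintype.ofEquiv β e.symm
    intro E _ _ n hn D
    obtain ⟨N, hN, DT, hc, hNn⟩ := ih (fun a => E (e a)) (fun a => n (e a)) (fun a => hn (e a))
      (fun a => D (e a))
    refine ⟨N, hN, DT.congr (piReindexAlg k e E), ?_, ?_⟩
    · rw [Datum.congr_c, hc]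
      exact Equiv.prod_comp e (fun b => (D b).c)
    · rw [hNn]
      exact Equiv.prod_comp e n
  · intro E _ _ n hn D
    refine ⟨1, ⟨one_ne_zero⟩,
      (trivDatum k K 1).congr ((piEmptyAlg k E).trans (algEquivMatrixOne k k)), ?_, ?_⟩
    · rw [Datum.congr_c, trivDatum_c]
      simp
    · simp
  · intro α _ ih
    intro E _ _ n hn D
    obtain ⟨N, hN, DT, hc, hNn⟩ := ih (fun a => E (some a)) (fun a => n (some a))
      (fun a => hn (some a)) (fun a => D (some a))
    haveI := hN
    haveI := hn none
    obtain ⟨DT', hDT'⟩ := DT.exists_tensor (D none)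
    refine ⟨N * n none, ⟨Nat.mul_ne_zero (NeZero.ne N) (NeZero.ne (n none))⟩,
      DT'.congr (piOptionAlg k E), ?_, ?_⟩
    · rw [Datum.congr_c, hDT', hc, Fintype.prod_option, mul_comm]
    · rw [hNn, Fintype.prod_option, mul_comm]

end PiDatum

end Groth.Agent.H7.Br
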