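import Mathlib
import Groth.Prelude.Def_GSzCSA
import Groth.Agent.Lib.Helper7.Br13
import Groth.Agent.Lib.Helper7.Br12

set_option autoImplicit false

namespace Groth.Agent.H7.Br
universe u v w w'
open scoped TensorProduct MatrixGroups
open Module
attribute [local instance] CSAGal.matrixAction GpH1.unitsAction

section Tools
variable {k : Type u} {K : Type v} [Field k] [Field K] [Algebra k K]
variable {X : Type w} [Ring X] [Algebra k X] {X' : Type w'} [Ring X'] [Algebra k X']

/-- if `X ≅ M_s(X')` then data of `X` and `X'` have the same class. -/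
theorem Datum.cls_eq_of_algEquiv_matrix {n m : ℕ} [NeZero n] [NeZero m]
    (D : Datum k K X n) (D' : Datum k K X' m) (s : ℕ) [NeZero s]
    (e : X ≃ₐ[k] Matrix (Fin s) (Fin s) X') : cls k K D.c = cls k K D'.c := by
  obtain ⟨E', hE'⟩ := D'.exists_matrix s
  let E₂ : Datum k K X (m * s) := E'.congr e
  have hsz : n = m * s := by
    have h1 := CSA.finrank_eq_of_split k _ K n D.φ
    have h2 := CSA.finrank_eq_of_split k _ K (m * s) E₂.φ
    rw [h1] at h2
    exact Nat.mul_self_inj.mp h2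
  obtain ⟨E₃, hE₃⟩ := D.exists_cast hsz
  haveI : NeZero (m * s) := ⟨Nat.mul_ne_zero (NeZero.ne m) (NeZero.ne s)⟩
  rw [← hE₃, Datum.cls_eq E₃ E₂]
  show cls k K E'.c = _
  rw [hE']

end Tools

section IndexTpow

/-- a division algebra has index equal to its degree. -/
theorem isIndex_self (k : Type u) [Field k] (D : Type v) [DivisionRing D] [Algebra k D] (d : ℕ)
    (hd0 : 0 < d) (hd : finrank k D = d ^ 2) : CSAGal.IsIndex k D d :=
  ⟨hd0, 1, D, inferInstance, inferInstance, one_pos, hd, ⟨algEquivMatrixOne k D⟩⟩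

/-- the index of a tensor power divides the index. -/
theorem index_tpow_dvd (k : Type u) [Field k]
    (A : Type v) [Ring A] [Algebra k A] [Algebra.IsCentral k A] [IsSimpleRing A]
    [FiniteDimensional k A] (r : ℕ) (d i : ℕ) (hd : CSAGal.IsIndex k A d)
    (hi : CSAGal.IsIndex k (CSAGal.tpow k A r) i) : i ∣ d := by
  obtain ⟨hd0, a, DA, _, _, _, _, isoA, ha, hfrA⟩ := exists_central_of_isIndex k A d hd
  obtain ⟨hi0, b, DB, _, _, hfin, isoB, hb, hfrB⟩ :=
    exists_finite_of_isIndex k (CSAGal.tpow k A r) i hi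
  obtain ⟨F, _, _, ι, hF⟩ := exists_subfield_degree k DA d hfrA
  haveI : NeZero d := ⟨hd0.ne'⟩
  haveI : FiniteDimensional k F := Module.finite_of_finrank_pos (by rw [hF]; exact hd0)
  obtain ⟨eD⟩ := CSA.split_by_subfield k DA F d (by rw [hfrA, pow_two]) hF ι
  obtain ⟨eM⟩ := CSA.splits_matrix_of_splits k DA F a d ha.ne' hd0.ne' eD
  let eA : F ⊗[k] A ≃ₐ[F] Matrix (Fin (a * d)) (Fin (a * d)) F :=
    (Algebra.TensorProduct.congr (AlgEquiv.refl : F ≃ₐ[F] F) isoA).trans eM
  obtain ⟨N, hN, ⟨eT⟩⟩ := splits_tpow k F A (a * d) (Nat.mul_ne_zero ha.ne' hd0.ne') eA r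
  obtain ⟨hT1, hT2, hT3⟩ := CSA.csa_of_split (k := k) (A := CSAGal.tpow k A r) F N hN eT
  haveI : NeZero b := ⟨hb.ne'⟩
  haveI : Algebra.IsCentral k (Matrix (Fin b) (Fin b) DB) :=
    Algebra.IsCentral.of_algEquiv k _ _ isoB
  haveI : Algebra.IsCentral k DB := CSA.isCentral_of_matrix k DB b
  let eB' : F ⊗[k] Matrix (Fin b) (Fin b) DB ≃ₐ[F] Matrix (Fin N) (Fin N) F :=
    (Algebra.TensorProduct.congr (AlgEquiv.refl : F ≃ₐ[F] F) isoB.symm).trans eT
  obtain ⟨d', hd', ⟨eDB⟩⟩ := CSA.splits_of_splits_matrix k DB F b N hb.ne' hN eB'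
  have := CSA.dvd_finrank_of_split k DB i hfrB F d' hd' eDB
  rwa [hF] at this

end IndexTpow

section DivisionOfClass

/-- centrality transfers along algebra isomorphisms (universe-polymorphic). -/
theorem isCentral_of_algEquiv' {k : Type u} [Field k] {A : Type w} [Ring A] [Algebra k A]
    {B : Type w'} [Ring B] [Algebra k B] (e : A ≃ₐ[k] B) [Algebra.IsCentral k A] :
    Algebra.IsCentral k B := by
  constructor
  intro z hz
  have h1 : e.symm z ∈ Subalgebra.center k A := by
    rw [Subalgebra.mem_center_iff] at hz ⊢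
    intro y
    obtain ⟨y', rfl⟩ := e.symm.surjective y
    rw [← map_mul, ← map_mul, hz]
  obtain ⟨c, hc⟩ := Algebra.mem_bot.mp (Algebra.IsCentral.out h1)
  rw [Algebra.mem_bot]
  refine ⟨c, ?_⟩
  apply e.symm.injective
  rw [AlgEquiv.commutes, hc]

/-- primes dividing the degree of a division algebra divide every exponent killing its class. -/
theorem Datum.prime_dvd_of_cls_pow {k : Type u} {K : Type u} [Field k] [Field K] [Algebra k K]
    [FiniteDimensional k K] [IsGalois k K]
    {E : Type v} [DivisionRing E] [Algebra k E] [Algebra.IsCentral k E] [FiniteDimensional k E]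
    {i : ℕ} [NeZero i] (DE : Datum k K E i) (hfr : finrank k E = i ^ 2) (e : ℕ) (he : 0 < e)
    (h : cls k K DE.c ^ e = 1) (l : ℕ) (hl : l.Prime) (hli : l ∣ i) : l ∣ e :=
  prime_dvd_of_split_tpow k E E 1 (algEquivMatrixOne k E) i hfr e he
    ((DE.splits_tpow_iff e he).mpr h) l hl hli

/-- the division algebra with class `x ^ r`, in the universe of `D`. -/
theorem exists_division_of_class {k : Type u} {K : Type u} [Field k] [Field K] [Algebra k K]
    [FiniteDimensional k K] [IsGalois k K]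
    (D : Type v) [DivisionRing D] [Algebra k D] [Algebra.IsCentral k D] [FiniteDimensional k D]
    (d : ℕ) [NeZero d] (hd : finrank k D = d ^ 2) (DD : Datum k K D d) (r : ℕ) (hr : 1 ≤ r) :
    ∃ (E : Type v) (_ : DivisionRing E) (_ : Algebra k E) (_ : Algebra.IsCentral k E)
      (_ : FiniteDimensional k E) (i : ℕ) (_ : NeZero i) (DE : Datum k K E i),
      finrank k E = i ^ 2 ∧ i ∣ d ∧ cls k K DE.c = cls k K DD.c ^ r := by
  obtain ⟨N, hN, DT, hDT⟩ := DD.exists_tpow r hr
  obtain ⟨hT1, hT2, hT3⟩ := CSA.csa_of_split (k := k) (A := CSAGal.tpow k D r) K N (NeZero.ne N) DT.φ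
  obtain ⟨i, hi⟩ := exists_isIndex k (CSAGal.tpow k D r)
  have hid : i ∣ d := index_tpow_dvd k D r d i (isIndex_self k D d (NeZero.pos d) hd) hi
  obtain ⟨hi0, s, E', _, _, _, _, iso, hs, hfr⟩ := exists_central_of_isIndex k _ i hi
  haveI : NeZero i := ⟨hi0.ne'⟩
  haveI : NeZero s := ⟨hs.ne'⟩
  haveI : Small.{v} k := small_of_injective (algebraMap k D).injective
  haveI : Small.{v} E' := small_of_injective (Module.finBasis k E').equivFun.injective
  let f : Shrink.{v} E' ≃ₐ[k] E' := Shrink.algEquiv k E'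
  haveI : Algebra.IsCentral k (Shrink.{v} E') := isCentral_of_algEquiv' f.symm
  haveI : FiniteDimensional k (Shrink.{v} E') := Module.Finite.equiv f.symm.toLinearEquiv
  -- K splits E'
  let e' : K ⊗[k] Matrix (Fin s) (Fin s) E' ≃ₐ[K] Matrix (Fin N) (Fin N) K :=
    (Algebra.TensorProduct.congr (AlgEquiv.refl : K ≃ₐ[K] K) iso.symm).trans DT.φ
  obtain ⟨i', hi', ⟨φ'⟩⟩ := CSA.splits_of_splits_matrix k E' K s N hs.ne' (NeZero.ne N) e'
  have hii : i' = i := by
    have h1 := CSA.finrank_eq_of_split k E' K i' φ'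
    rw [hfr, pow_two] at h1
    exact (Nat.mul_self_inj.mp h1).symm
  subst hii
  obtain ⟨DE', -⟩ := exists_datum φ'
  refine ⟨Shrink.{v} E', inferInstance, inferInstance, inferInstance, inferInstance, i',
    inferInstance, DE'.congr f, ?_, hid, ?_⟩
  · rw [f.toLinearEquiv.finrank_eq, hfr]
  · rw [Datum.congr_c, ← Datum.cls_eq_of_algEquiv_matrix DT DE' s iso, hDT, cls_pow]

end DivisionOfClass

end Groth.Agent.H7.Br
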