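import Mathlib
import Groth.Agent.Lib.Helper7.Azu10
import Groth.Agent.Lib.Helper7.Br14

set_option autoImplicit false
universe u v w

namespace Groth.Agent.H7.Azu

open scoped TensorProduct

section CancelNC

/-- `K ⊗_L (L ⊗_k A) ≃ K ⊗_k A` as `K`-algebras, for noncommutative `A`. -/
noncomputable def cancelNC' (k : Type*) (K : Type*) [CommRing k] [CommRing K] [Algebra k K]
    (L : Type*) [CommRing L] [Algebra k L] [Algebra L K] [IsScalarTower k L K]
    (A : Type*) [Ring A] [Algebra k A] : K ⊗[L] (L ⊗[k] A) ≃ₐ[K] K ⊗[k] A :=
  AlgEquiv.symm <| AlgEquiv.ofLinearEquiv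
    (TensorProduct.AlgebraTensorModule.cancelBaseChange k L K K A).symm
    (by simp [Algebra.TensorProduct.one_def]) <|
      LinearMap.map_mul_of_map_mul_tmul (fun _ _ _ _ ↦ by simp)

end CancelNC

section Fibre
variable (R : Type u) [CommRing R] (A : Type w) [Ring A] [Algebra R A] [Module.Finite R A]
  [Module.Projective R A]

/-- S5719: Azumaya iff all fibres are central simple. -/
theorem isAzumaya_iff_fibres :
    IsAzumaya R A ↔ ∀ (p : Ideal R) [p.IsPrime],
      Algebra.IsCentral p.ResidueField (p.ResidueField ⊗[R] A) ∧
        IsSimpleRing (p.ResidueField ⊗[R] A) := by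
  constructor
  · intro hA p _
    haveI := isAzumaya_baseChange R p.ResidueField A
    exact ⟨isCentral_of_isAzumaya_field p.ResidueField _,
      isSimpleRing_of_isAzumaya_field p.ResidueField _⟩
  · intro h
    apply isAzumaya_of_localization_maximal R A
    intro m hm
    obtain ⟨hc, hs⟩ := h m
    let e := cancelNC' R m.ResidueField (Localization.AtPrime m) A
    haveI : Module.Free (Localization.AtPrime m) (Localization.AtPrime m ⊗[R] A) :=
      Module.free_of_flat_of_isLocalRing
    haveI : Nontrivial (Localization.AtPrime m ⊗[R] A) := by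
      by_contra hns
      rw [not_nontrivial_iff_subsingleton] at hns
      haveI : Subsingleton (m.ResidueField ⊗[Localization.AtPrime m] (Localization.AtPrime m ⊗[R] A)) :=
        inferInstance
      haveI : Subsingleton (m.ResidueField ⊗[R] A) := e.symm.toEquiv.subsingleton
      exact not_subsingleton _ ‹_›
    refine (isAzumaya_iff_residueField (Localization.AtPrime m) _).mpr ⟨?_, ?_⟩
    · exact Groth.Agent.H7.Br.isCentral_of_algEquiv' e.symm
    · exact IsSimpleRing.of_ringEquiv e.symm.toRingEquiv hs

end Fibre

end Groth.Agent.H7.Azu
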