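import Mathlib

/-! A Hensel-type lemma: if an idempotent of `R[X]/(P)` cuts out exactly the maximal ideals
containing `X - a`, for an approximate simple root `a`, then `P` has a root in `R`. -/

set_option autoImplicit false
open Polynomial

namespace Groth.Agent.H7.Hens

universe u

theorem isUnit_add_of_mem_jacobson {C : Type*} [CommRing C] {u₀ j : C} (hu : IsUnit u₀)
    (hj : j ∈ Ideal.jacobson (⊥ : Ideal C)) : IsUnit (u₀ + j) := by
  obtain ⟨v, rfl⟩ := hu
  have h1 := (Ideal.mem_jacobson_bot.mp hj) (↑v⁻¹ : C)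
  have h2 : (↑v : C) + j = ↑v * (j * ↑v⁻¹ + 1) := by
    rw [mul_add, mul_one, mul_comm j, ← mul_assoc, Units.mul_inv, one_mul, add_comm]
  rw [h2]
  exact v.isUnit.mul h1

variable {R : Type u} [CommRing R]

theorem exists_root_of_idem (P : R[X]) (hP : P.Monic) (a : R)
    (hPa : P.eval a ∈ Ideal.jacobson (⊥ : Ideal R)) (hP'a : IsUnit (P.derivative.eval a))
    (e : AdjoinRoot P) (he : IsIdempotentElem e)
    (h2 : ∀ M : Ideal (AdjoinRoot P), M.IsMaximal → e ∉ M →
      AdjoinRoot.root P - AdjoinRoot.of P a ∈ M)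
    (h3 : ∀ M : Ideal (AdjoinRoot P), M.IsMaximal →
      AdjoinRoot.root P - AdjoinRoot.of P a ∈ M → e ∉ M) :
    ∃ α : R, P.eval α = 0 := by
  classical
  let I : Ideal (AdjoinRoot P) := Ideal.span {1 - e}
  let Cq := AdjoinRoot P ⧸ I
  let π : AdjoinRoot P →+* Cq := Ideal.Quotient.mk I
  have hπ : Function.Surjective π := Ideal.Quotient.mk_surjective
  haveI : Module.Finite R (AdjoinRoot P) := hP.finite_adjoinRoot
  have hπe : π e = 1 := by
    have : π (1 - e) = 0 := Ideal.Quotient.eq_zero_iff_mem.mpr (Ideal.mem_span_singleton_self _)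
    rw [map_sub, map_one, sub_eq_zero] at this
    exact this.symm
  -- Step A
  set δ : Cq := π (AdjoinRoot.root P - AdjoinRoot.of P a) with hδ
  have hδj : δ ∈ Ideal.jacobson (⊥ : Ideal Cq) := by
    rw [Ideal.jacobson, Ideal.mem_sInf]
    rintro M' ⟨-, hM'⟩
    have hM : (M'.comap π).IsMaximal := Ideal.comap_isMaximal_of_surjective π hπ
    have heM : e ∉ M'.comap π := by
      intro h
      have h1 : π e ∈ M' := h
      rw [hπe] at h1
      exact hM'.ne_top ((Ideal.eq_top_iff_one _).mpr h1)
    exact h2 _ hM heM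
  -- Step B
  let Pc : Cq[X] := P.map (algebraMap R Cq)
  have hroot : Pc.eval (π (AdjoinRoot.root P)) = 0 := by
    have h1 : Pc.eval (π (AdjoinRoot.root P)) = π (Polynomial.eval₂ (AdjoinRoot.of P)
        (AdjoinRoot.root P) P) := by
      rw [Polynomial.hom_eval₂, Polynomial.eval_map]
      rfl
    rw [h1, AdjoinRoot.eval₂_root, map_zero]
  have hsplit : π (AdjoinRoot.root P) = algebraMap R Cq a + δ := by
    rw [hδ, map_sub]
    have : π (AdjoinRoot.of P a) = algebraMap R Cq a := rfl
    rw [this]; ring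
  obtain ⟨k, hk⟩ := Polynomial.binomExpansion Pc (algebraMap R Cq a) δ
  rw [← hsplit, hroot] at hk
  have hPca : Pc.eval (algebraMap R Cq a) = algebraMap R Cq (P.eval a) := by
    rw [Polynomial.eval_map, Polynomial.eval₂_at_apply]
  have hPc'a : Pc.derivative.eval (algebraMap R Cq a) = algebraMap R Cq (P.derivative.eval a) := by
    rw [Polynomial.derivative_map, Polynomial.eval_map, Polynomial.eval₂_at_apply]
  rw [hPca, hPc'a] at hk
  have hu : IsUnit (algebraMap R Cq (P.derivative.eval a) + k * δ) :=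
    isUnit_add_of_mem_jacobson (hP'a.map _) (Ideal.mul_mem_left _ k hδj)
  obtain ⟨u, hu⟩ := hu
  have hδeq : δ = algebraMap R Cq (P.eval a) * (-(↑u⁻¹ : Cq)) := by
    have h1 : δ * (↑u : Cq) = -algebraMap R Cq (P.eval a) := by
      rw [hu]; linear_combination -hk
    calc δ = δ * ↑u * ↑u⁻¹ := by rw [mul_assoc, Units.mul_inv, mul_one]
      _ = _ := by rw [h1]; ring
  -- Step C
  haveI : Module.Finite R Cq := Module.Finite.of_surjective
    ((Ideal.Quotient.mkₐ R I).toLinearMap) (Ideal.Quotient.mkₐ_surjective R I)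
  have hsurj : Function.Surjective (algebraMap R Cq) := by
    have hle : (⊤ : Submodule R Cq) ≤ Submodule.span R {(1 : Cq)} := by
      apply Submodule.le_of_le_smul_of_le_jacobson_bot (I := Ideal.span {P.eval a})
        Module.Finite.fg_top
      · rw [Ideal.span_le]
        intro x hx
        rw [Set.mem_singleton_iff.mp hx]
        exact hPa
      · intro c _
        obtain ⟨b, rfl⟩ := hπ c
        obtain ⟨f, rfl⟩ := AdjoinRoot.mk_surjective b
        obtain ⟨g, hg⟩ := Polynomial.X_sub_C_dvd_sub_C_eval (a := a) (p := f)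
        have hf : f = C (f.eval a) + (X - C a) * g := by rw [← hg]; ring
        have h1 : π (AdjoinRoot.mk P f) = algebraMap R Cq (f.eval a) +
            δ * π (AdjoinRoot.mk P g) := by
          conv_lhs => rw [hf]
          rw [map_add, map_mul, map_sub, AdjoinRoot.mk_X, AdjoinRoot.mk_C, map_add, map_mul, hδ]
          rfl
        rw [h1]
        apply Submodule.add_mem_sup
        · rw [Algebra.algebraMap_eq_smul_one]
          exact Submodule.smul_mem _ _ (Submodule.mem_span_singleton_self _)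
        · rw [hδeq, mul_assoc, ← Algebra.smul_def]
          exact Submodule.smul_mem_smul (Ideal.mem_span_singleton_self _) Submodule.mem_top
    intro c
    have hc := hle (Submodule.mem_top : c ∈ ⊤)
    obtain ⟨r, hr⟩ := Submodule.mem_span_singleton.mp hc
    exact ⟨r, by rw [Algebra.algebraMap_eq_smul_one, hr]⟩
  -- Step D
  let pb := AdjoinRoot.powerBasis' hP
  let c : Fin pb.dim → R := fun k => pb.basis.repr e k
  have hc_top : Ideal.span (Set.range c) = ⊤ := by
    by_contra hne
    obtain ⟨𝔪, h𝔪, hle⟩ := Ideal.exists_le_maximal _ hne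
    have hPa𝔪 : P.eval a ∈ 𝔪 := by
      have : Ideal.jacobson (⊥ : Ideal R) ≤ 𝔪 := by
        rw [Ideal.jacobson]
        exact sInf_le ⟨bot_le, h𝔪⟩
      exact this hPa
    let φ : AdjoinRoot P →+* R ⧸ 𝔪 := AdjoinRoot.lift (Ideal.Quotient.mk 𝔪) (Ideal.Quotient.mk 𝔪 a) (by
      rw [Polynomial.eval₂_at_apply]
      exact Ideal.Quotient.eq_zero_iff_mem.mpr hPa𝔪)
    have hφsurj : Function.Surjective φ := by
      intro y
      obtain ⟨r, rfl⟩ := Ideal.Quotient.mk_surjective y
      exact ⟨AdjoinRoot.of P r, AdjoinRoot.lift_of _⟩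
    haveI := h𝔪
    letI : Field (R ⧸ 𝔪) := Ideal.Quotient.field 𝔪
    haveI : (RingHom.ker φ).IsMaximal := RingHom.ker_isMaximal_of_surjective φ hφsurj
    have hmem : AdjoinRoot.root P - AdjoinRoot.of P a ∈ RingHom.ker φ := by
      rw [RingHom.mem_ker, map_sub, AdjoinRoot.lift_root, AdjoinRoot.lift_of, sub_self]
    have h4 := h3 _ inferInstance hmem
    apply h4
    rw [RingHom.mem_ker]
    have hsum : e = ∑ k, c k • pb.basis k := (pb.basis.sum_repr e).symm
    rw [hsum, map_sum]
    apply Finset.sum_eq_zero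
    intro k _
    rw [Algebra.smul_def, map_mul]
    have : φ (algebraMap R (AdjoinRoot P) (c k)) = Ideal.Quotient.mk 𝔪 (c k) := by
      rw [AdjoinRoot.algebraMap_eq]
      exact AdjoinRoot.lift_of _
    rw [this, Ideal.Quotient.eq_zero_iff_mem.mpr (hle (Ideal.subset_span ⟨k, rfl⟩)), zero_mul]
  have hker : ∀ r : R, algebraMap R Cq r = 0 → r = 0 := by
    intro r hr
    have h1 : algebraMap R (AdjoinRoot P) r ∈ I := Ideal.Quotient.eq_zero_iff_mem.mp hr
    obtain ⟨b, hb⟩ := Ideal.mem_span_singleton'.mp h1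
    have h2 : r • e = 0 := by
      rw [Algebra.smul_def, ← hb, mul_assoc, sub_mul, one_mul, he.eq, sub_self, mul_zero]
    have h3 : ∀ k, r * c k = 0 := by
      intro k
      have := congrArg (fun x => pb.basis.repr x k) h2
      simpa [c] using this
    have h1mem : (1 : R) ∈ Ideal.span (Set.range c) := by rw [hc_top]; trivial
    obtain ⟨t, ht⟩ := (Ideal.mem_span_range_iff_exists_fun).mp h1mem
    calc r = r * 1 := (mul_one r).symm
      _ = r * ∑ k, t k * c k := by rw [ht]
      _ = 0 := by
        rw [Finset.mul_sum]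
        apply Finset.sum_eq_zero
        intro k _
        rw [mul_left_comm, h3, mul_zero]
  -- Step E
  obtain ⟨α, hα⟩ := hsurj (π (AdjoinRoot.root P))
  refine ⟨α, hker _ ?_⟩
  rw [← hroot, ← hα, Polynomial.eval_map, Polynomial.eval₂_at_apply]

end Groth.Agent.H7.Hens
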