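import Mathlib
import Groth.Agent.Lib.Helper7.HensL

/-! Étale-local lifting of simple roots along a finite extension (via Stacks 00UL). -/

set_option autoImplicit false
open scoped TensorProduct
open Polynomial

namespace Groth.Agent.H7.Hens

universe u v

section Aux

/-- a maximal ideal of an integral algebra over a local ring contracts to the maximal ideal. -/
theorem comap_eq_maximalIdeal {T : Type*} {L : Type*} [CommRing T] [IsLocalRing T] [CommRing L]
    [Algebra T L] [Algebra.IsIntegral T L] (M : Ideal L) [hM : M.IsMaximal] :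
    M.comap (algebraMap T L) = IsLocalRing.maximalIdeal T := by
  haveI : (M.comap (algebraMap T L)).IsMaximal :=
    Ideal.isMaximal_comap_of_isIntegral_of_isMaximal (R := T) M
  exact IsLocalRing.eq_maximalIdeal inferInstance

end Aux

section Finite

variable {S : Type u} {R : Type v} [CommRing S] [CommRing R] [Algebra S R] [Module.Finite S R]

set_option maxHeartbeats 1600000 in
theorem exists_root_etale_of_finite (q : Ideal S) [q.IsPrime] (P : R[X]) (hP : P.Monic) (a : R)
    (h : ∀ p : Ideal R, p.IsPrime → p.comap (algebraMap S R) = q →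
      P.eval a ∈ p ∧ P.derivative.eval a ∉ p) :
    ∃ (S' : Type u) (_ : CommRing S') (_ : Algebra S S') (_ : Algebra.Etale S S') (q' : Ideal S')
      (_ : q'.IsPrime) (_ : q'.LiesOver q) (α : Localization.AtPrime q' ⊗[S] R),
      P.eval₂ (Algebra.TensorProduct.includeRight (R := S) (A := Localization.AtPrime q')
        (B := R)).toRingHom α = 0 := by
  classical
  haveI : Module.Finite R (AdjoinRoot P) := hP.finite_adjoinRoot
  haveI : Module.Finite S (AdjoinRoot P) := Module.Finite.trans R (AdjoinRoot P)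
  obtain ⟨S', _, _, hét, q', hq'p, hq'o, m, e, he, P', hP'prime, hP'over, -, hne, H⟩ :=
    Algebra.exists_etale_completeOrthogonalIdempotents_forall_liesOver_eq (R := S)
      (S := AdjoinRoot P) q
  refine ⟨S', inferInstance, inferInstance, hét, q', hq'p, hq'o, ?_⟩
  let T := Localization.AtPrime q'
  let RT := T ⊗[S] R
  let inc : R →ₐ[S] RT := Algebra.TensorProduct.includeRight
  let PT : RT[X] := P.map inc.toRingHom
  have hPT : PT.Monic := hP.map _
  let BT := AdjoinRoot PT
  haveI : Module.Finite RT BT := hPT.finite_adjoinRoot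
  haveI : Module.Finite T RT := inferInstance
  haveI : Algebra.IsIntegral T RT := inferInstance
  haveI : Module.Finite T BT := Module.Finite.trans RT BT
  haveI : Algebra.IsIntegral T BT := inferInstance
  -- the comparison map
  let f₁ : S' →ₐ[S] BT := (IsScalarTower.toAlgHom S RT BT).comp
    ((IsScalarTower.toAlgHom S T RT).comp (IsScalarTower.toAlgHom S S' T))
  let f₂ : AdjoinRoot P →ₐ[S] BT := AdjoinRoot.liftAlgHom P
    ((IsScalarTower.toAlgHom S RT BT).comp inc) (AdjoinRoot.root PT) (by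
      have : Polynomial.eval₂ (AdjoinRoot.of PT) (AdjoinRoot.root PT) PT = 0 :=
        AdjoinRoot.eval₂_root PT
      rw [Polynomial.eval₂_map] at this
      exact this)
  let ψ : S' ⊗[S] AdjoinRoot P →ₐ[S] BT :=
    Algebra.TensorProduct.lift f₁ f₂ (fun _ _ => Commute.all _ _)
  -- the distinguished element and index set
  let x₀ : S' ⊗[S] AdjoinRoot P := 1 ⊗ₜ[S] (AdjoinRoot.root P - AdjoinRoot.of P a)
  let I : Finset (Fin m) := Finset.univ.filter (fun i => x₀ ∈ P' i)
  let eI : S' ⊗[S] AdjoinRoot P := ∑ i ∈ I, e i.castSucc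
  have hψx₀ : ψ x₀ = AdjoinRoot.root PT - AdjoinRoot.of PT (inc a) := by
    show Algebra.TensorProduct.lift f₁ f₂ _ (1 ⊗ₜ[S] (AdjoinRoot.root P - AdjoinRoot.of P a)) = _
    rw [Algebra.TensorProduct.lift_tmul, map_one, one_mul, map_sub]
    congr 1
    · exact AdjoinRoot.liftAlgHom_root _ _ _ _
    · exact AdjoinRoot.liftAlgHom_of _ _ _ _ _
  have hψalg : ∀ s : S', ψ (algebraMap S' (S' ⊗[S] AdjoinRoot P) s) =
      algebraMap T BT (algebraMap S' T s) := by
    intro s
    rw [Algebra.TensorProduct.algebraMap_apply]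
    show Algebra.TensorProduct.lift f₁ f₂ _ (_ ⊗ₜ[S] 1) = _
    rw [Algebra.TensorProduct.lift_tmul, map_one, mul_one]
    show algebraMap RT BT (algebraMap T RT (algebraMap S' T s)) = _
    rw [← IsScalarTower.algebraMap_apply T RT BT]
  -- contraction of maximal ideals
  have hover : ∀ M : Ideal BT, M.IsMaximal → (M.comap ψ.toRingHom).LiesOver q' := by
    intro M hM
    refine ⟨?_⟩
    have h1 : M.comap (algebraMap T BT) = IsLocalRing.maximalIdeal T := comap_eq_maximalIdeal M
    ext s
    rw [← IsLocalization.AtPrime.to_map_mem_maximal_iff T q' s, ← h1]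
    simp only [Ideal.under, Ideal.mem_comap]
    rw [← hψalg]
    rfl
  -- key facts about primes over q'
  have K2 : ∀ 𝔓 : Ideal (S' ⊗[S] AdjoinRoot P), 𝔓.IsPrime → 𝔓.LiesOver q' → eI ∉ 𝔓 → x₀ ∈ 𝔓 := by
    intro 𝔓 h𝔓 ho hn
    have : ∃ i ∈ I, e i.castSucc ∉ 𝔓 := by
      by_contra hcon
      push Not at hcon
      exact hn (Ideal.sum_mem _ hcon)
    obtain ⟨i, hiI, hi⟩ := this
    have h𝔓i := (H 𝔓 h𝔓 ho).2 i hi
    rw [h𝔓i]
    exact (Finset.mem_filter.mp hiI).2
  have K1 : ∀ 𝔓 : Ideal (S' ⊗[S] AdjoinRoot P), 𝔓.IsPrime → 𝔓.LiesOver q' → x₀ ∈ 𝔓 → eI ∉ 𝔓 := by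
    intro 𝔓 h𝔓 ho hx
    obtain ⟨hlast, Hi⟩ := H 𝔓 h𝔓 ho
    have : ∃ k, e k ∉ 𝔓 := by
      by_contra hcon
      push Not at hcon
      have h1 : (∑ k, e k) ∈ 𝔓 := Ideal.sum_mem _ (fun k _ => hcon k)
      rw [he.complete] at h1
      exact h𝔓.ne_top ((Ideal.eq_top_iff_one _).mpr h1)
    obtain ⟨k, hk⟩ := this
    have hkl : k ≠ Fin.last m := fun hh => hk (hh ▸ hlast)
    obtain ⟨i, rfl⟩ := Fin.exists_castSucc_eq.mpr hkl
    have h𝔓i := Hi i hk
    have hiI : i ∈ I := Finset.mem_filter.mpr ⟨Finset.mem_univ _, h𝔓i ▸ hx⟩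
    intro heI
    have hrest : ∑ j ∈ I.erase i, e j.castSucc ∈ 𝔓 := by
      apply Ideal.sum_mem
      intro j hj
      have hji : j ≠ i := (Finset.mem_erase.mp hj).1
      have h0 : e j.castSucc * e i.castSucc = 0 :=
        he.ortho (fun hh => hji (Fin.castSucc_injective _ hh))
      have h1 : e j.castSucc * e i.castSucc ∈ 𝔓 := by rw [h0]; exact 𝔓.zero_mem
      rcases h𝔓.mem_or_mem h1 with h2 | h2
      · exact h2
      · exact absurd h2 hk
    have hsum : eI = e i.castSucc + ∑ j ∈ I.erase i, e j.castSucc :=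
      (Finset.add_sum_erase I (fun j => e j.castSucc) hiI).symm
    apply hk
    have : e i.castSucc = eI - ∑ j ∈ I.erase i, e j.castSucc := by rw [hsum]; ring
    rw [this]
    exact 𝔓.sub_mem heI hrest
  -- contraction of maximal ideals of RT to R
  have hcontr : ∀ 𝔪 : Ideal RT, 𝔪.IsMaximal →
      (𝔪.comap inc.toRingHom).comap (algebraMap S R) = q := by
    intro 𝔪 h𝔪
    have h1 : 𝔪.comap (algebraMap T RT) = IsLocalRing.maximalIdeal T := comap_eq_maximalIdeal 𝔪
    have h3 : q'.comap (algebraMap S S') = q := (hq'o.over).symm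
    ext s
    rw [← h3, Ideal.mem_comap, Ideal.mem_comap, Ideal.mem_comap,
      ← IsLocalization.AtPrime.to_map_mem_maximal_iff T q', ← h1, Ideal.mem_comap]
    have : inc.toRingHom (algebraMap S R s) = algebraMap T RT (algebraMap S' T (algebraMap S S' s)) := by
      show inc (algebraMap S R s) = _
      rw [AlgHom.commutes, ← IsScalarTower.algebraMap_apply S S' T,
        ← IsScalarTower.algebraMap_apply S T RT]
    rw [this]
  have hmem : ∀ 𝔪 : Ideal RT, 𝔪.IsMaximal →
      inc (P.eval a) ∈ 𝔪 ∧ inc (P.derivative.eval a) ∉ 𝔪 := by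
    intro 𝔪 h𝔪
    have hpr : (𝔪.comap inc.toRingHom).IsPrime := Ideal.comap_isPrime _ _
    exact h _ hpr (hcontr 𝔪 h𝔪)
  have hPTa : PT.eval (inc a) = inc (P.eval a) := by
    rw [Polynomial.eval_map]
    exact (Polynomial.hom_eval₂ P (RingHom.id R) inc.toRingHom a).symm.trans (by simp)
  have hPT'a : PT.derivative.eval (inc a) = inc (P.derivative.eval a) := by
    rw [Polynomial.derivative_map, Polynomial.eval_map]
    exact (Polynomial.hom_eval₂ P.derivative (RingHom.id R) inc.toRingHom a).symm.trans (by simp)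
  -- apply the lemma
  have hjac : PT.eval (inc a) ∈ Ideal.jacobson (⊥ : Ideal RT) := by
    rw [hPTa, Ideal.jacobson, Ideal.mem_sInf]
    rintro 𝔪 ⟨-, h𝔪⟩
    exact (hmem 𝔪 h𝔪).1
  have hunit : IsUnit (PT.derivative.eval (inc a)) := by
    rw [hPT'a]
    by_contra hnu
    obtain ⟨𝔪, h𝔪, hin⟩ := exists_max_ideal_of_mem_nonunits hnu
    exact (hmem 𝔪 h𝔪).2 hin
  have heI : IsIdempotentElem eI := by
    have h1 : OrthogonalIdempotents (fun i : Fin m => e i.castSucc) :=
      ⟨fun i => he.idem _, fun i j hij => he.ortho (fun hh => hij (Fin.castSucc_injective _ hh))⟩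
    exact h1.isIdempotentElem_sum
  obtain ⟨α, hα⟩ := exists_root_of_idem PT hPT (inc a) hjac hunit (ψ eI) (heI.map ψ)
    (by
      intro M hM hn
      haveI := hover M hM
      have h1 := K2 (M.comap ψ.toRingHom) (Ideal.comap_isPrime _ _) inferInstance hn
      have h2 : ψ x₀ ∈ M := h1
      rwa [hψx₀] at h2)
    (by
      intro M hM hx
      haveI := hover M hM
      have h1 : x₀ ∈ M.comap ψ.toRingHom := by
        show ψ x₀ ∈ M
        rwa [hψx₀]
      exact K1 (M.comap ψ.toRingHom) (Ideal.comap_isPrime _ _) inferInstance h1)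
  refine ⟨α, ?_⟩
  rw [← Polynomial.eval_map]
  exact hα

end Finite

section Integral

variable {S : Type u} {R : Type v} [CommRing S] [CommRing R] [Algebra S R]
  [Algebra.IsIntegral S R]

set_option maxHeartbeats 800000 in
theorem exists_root_etale (q : Ideal S) [q.IsPrime] (P : R[X]) (hP : P.Monic) (a : R)
    (h : ∀ p : Ideal R, p.IsPrime → p.comap (algebraMap S R) = q →
      P.eval a ∈ p ∧ P.derivative.eval a ∉ p) :
    ∃ (S' : Type u) (_ : CommRing S') (_ : Algebra S S') (_ : Algebra.Etale S S') (q' : Ideal S')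
      (_ : q'.IsPrime) (_ : q'.LiesOver q) (α : Localization.AtPrime q' ⊗[S] R),
      P.eval₂ (Algebra.TensorProduct.includeRight (R := S) (A := Localization.AtPrime q')
        (B := R)).toRingHom α = 0 := by
  classical
  let s : Set R := ↑P.coeffs ∪ {a}
  have hsfin : s.Finite := (P.coeffs.finite_toSet).union (Set.finite_singleton a)
  let R₁ : Subalgebra S R := Algebra.adjoin S s
  haveI : Module.Finite S R₁ := ⟨(Subalgebra.toSubmodule R₁).fg_top.mpr <|
    fg_adjoin_of_finite hsfin fun x _ => Algebra.IsIntegral.isIntegral x⟩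
  haveI : Algebra.IsIntegral R₁ R := Algebra.IsIntegral.tower_top (R := S)
  have hlift : P ∈ Polynomial.lifts (algebraMap R₁ R) := by
    rw [Polynomial.lifts_iff_coeffs_subset_range]
    intro c hc
    exact ⟨⟨c, Algebra.subset_adjoin (Or.inl hc)⟩, rfl⟩
  obtain ⟨P₁, hP₁map, -, hP₁⟩ := Polynomial.lifts_and_natDegree_eq_and_monic hlift hP
  let a₁ : R₁ := ⟨a, Algebra.subset_adjoin (Or.inr rfl)⟩
  have hev : P.eval a = algebraMap R₁ R (P₁.eval a₁) := by
    rw [← hP₁map, Polynomial.eval_map]
    exact (Polynomial.hom_eval₂ P₁ (RingHom.id R₁) (algebraMap R₁ R) a₁).symm.trans (by simp)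
  have hev' : P.derivative.eval a = algebraMap R₁ R (P₁.derivative.eval a₁) := by
    rw [← hP₁map, Polynomial.derivative_map, Polynomial.eval_map]
    exact (Polynomial.hom_eval₂ P₁.derivative (RingHom.id R₁) (algebraMap R₁ R) a₁).symm.trans
      (by simp)
  obtain ⟨S', _, _, hét, q', hq'p, hq'o, α₁, hα₁⟩ :=
    exists_root_etale_of_finite (S := S) (R := R₁) q P₁ hP₁ a₁ (by
      intro p₁ hp₁ hp₁q
      obtain ⟨p, -, hp, hpp₁⟩ := Ideal.exists_ideal_over_prime_of_isIntegral (R := R₁) (S := R) p₁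
        ⊥ (by
          intro x hx
          have : algebraMap R₁ R x = 0 := hx
          have hx0 : x = 0 := Subtype.ext this
          rw [hx0]; exact p₁.zero_mem)
      have hpq : p.comap (algebraMap S R) = q := by
        rw [← hp₁q, ← hpp₁, Ideal.comap_comap, ← IsScalarTower.algebraMap_eq]
      obtain ⟨h1, h2⟩ := h p hp hpq
      rw [hev] at h1
      rw [hev'] at h2
      rw [← hpp₁]
      exact ⟨h1, h2⟩)
  refine ⟨S', inferInstance, inferInstance, hét, q', hq'p, hq'o,
    Algebra.TensorProduct.map (AlgHom.id S (Localization.AtPrime q')) R₁.val α₁, ?_⟩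
  let g : Localization.AtPrime q' ⊗[S] R₁ →ₐ[S] Localization.AtPrime q' ⊗[S] R :=
    Algebra.TensorProduct.map (AlgHom.id S (Localization.AtPrime q')) R₁.val
  have h1 : (Algebra.TensorProduct.includeRight (R := S) (A := Localization.AtPrime q')
      (B := R)).toRingHom.comp (algebraMap R₁ R) = g.toRingHom.comp
        (Algebra.TensorProduct.includeRight (R := S) (A := Localization.AtPrime q')
          (B := R₁)).toRingHom := by
    ext x
    simp [g]
  rw [← hP₁map, Polynomial.eval₂_map, h1]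
  have h2 := Polynomial.hom_eval₂ P₁ (Algebra.TensorProduct.includeRight (R := S)
    (A := Localization.AtPrime q') (B := R₁)).toRingHom g.toRingHom α₁
  rw [hα₁, map_zero] at h2
  exact h2.symm

end Integral

end Groth.Agent.H7.Hens
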