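import Mathlib
import Groth.Prelude.Def_AzInv
import Groth.Agent.Lib.Helper7.AzFA
import Groth.Agent.Lib.Helper7.AzFibre
import Groth.Agent.Lib.Helper7.MaxEt
import Groth.Agent.Lib.Helper7.HensT

/-! Tools for the ramified case: base change of the local goal, contraction of maximal ideals,
étale neighbourhoods adjoining a root of a separable polynomial. -/

set_option autoImplicit false
open scoped TensorProduct
open Polynomial

namespace Groth.Agent.H7.AzRam

universe u v w

section LGbc

variable (S : Type u) [CommRing S] (A : Type w) [Ring A] [Algebra S A] (n : ℕ)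

theorem LG_of_bc (S₁ : Type u) [CommRing S₁] [Algebra S S₁] [Algebra.Etale S S₁]
    (q₁ : PrimeSpectrum S₁) (h : AzFA.LG S₁ (S₁ ⊗[S] A) n q₁) :
    AzFA.LG S A n (q₁.comap (algebraMap S S₁)) := by
  obtain ⟨S', _, _, het, ⟨q', hq'⟩, e, he⟩ := h
  letI : Algebra S S' := ((algebraMap S₁ S').comp (algebraMap S S₁)).toAlgebra
  haveI : IsScalarTower S S₁ S' := IsScalarTower.of_algebraMap_eq (fun _ => rfl)
  haveI : Algebra.Etale S S' := Algebra.Etale.comp S S₁ S'
  refine ⟨S', inferInstance, inferInstance, inferInstance, ⟨q', ?_⟩,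
    fun i j => Azu.cancelNC' S S' S₁ A (e i j),
    he.map (Azu.cancelNC' S S' S₁ A).toRingEquiv.toRingHom⟩
  rw [← hq']
  rfl

end LGbc

section Contr

variable {S : Type u} [CommRing S] {S' : Type*} [CommRing S'] [Algebra S S'] (q' : Ideal S')
  [q'.IsPrime] {R : Type v} [CommRing R] [Algebra S R] [Algebra.IsIntegral S R]

theorem comap_of_isMaximal (𝔪 : Ideal (Localization.AtPrime q' ⊗[S] R)) [h𝔪 : 𝔪.IsMaximal] :
    (𝔪.comap (Algebra.TensorProduct.includeRight :
      R →ₐ[S] Localization.AtPrime q' ⊗[S] R).toRingHom).comap (algebraMap S R) =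
      q'.comap (algebraMap S S') := by
  have h1 : 𝔪.comap (algebraMap (Localization.AtPrime q') (Localization.AtPrime q' ⊗[S] R)) =
      IsLocalRing.maximalIdeal (Localization.AtPrime q') := Hens.comap_eq_maximalIdeal 𝔪
  ext s
  rw [Ideal.mem_comap, Ideal.mem_comap, Ideal.mem_comap,
    ← IsLocalization.AtPrime.to_map_mem_maximal_iff (Localization.AtPrime q') q', ← h1,
    Ideal.mem_comap]
  have : (Algebra.TensorProduct.includeRight :
      R →ₐ[S] Localization.AtPrime q' ⊗[S] R).toRingHom (algebraMap S R s) =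
      algebraMap (Localization.AtPrime q') (Localization.AtPrime q' ⊗[S] R)
        (algebraMap S' (Localization.AtPrime q') (algebraMap S S' s)) := by
    show (Algebra.TensorProduct.includeRight :
      R →ₐ[S] Localization.AtPrime q' ⊗[S] R) (algebraMap S R s) = _
    rw [AlgHom.commutes, ← IsScalarTower.algebraMap_apply S S' (Localization.AtPrime q'),
      ← IsScalarTower.algebraMap_apply S (Localization.AtPrime q')
        (Localization.AtPrime q' ⊗[S] R)]
  rw [this]

end Contr

section EtQ

variable {S : Type u} [CommRing S]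

theorem exists_etale_root (q : Ideal S) [hq : q.IsPrime] (Q : S[X]) (hQ : Q.Monic)
    (hdeg : 0 < Q.natDegree)
    (hsep : (Q.map (algebraMap S q.ResidueField)).Separable) :
    ∃ (S'' : Type u) (_ : CommRing S'') (_ : Algebra S S'') (_ : Algebra.Etale S S'')
      (q'' : Ideal S'') (_ : q''.IsPrime) (_ : q''.LiesOver q) (β : S''),
      Polynomial.aeval β Q = 0 ∧ IsUnit (Polynomial.aeval β (derivative Q)) := by
  have hQq : (Q.map (algebraMap S (Localization.AtPrime q))).Separable := by
    apply MaxEt.separable_of_residue (Localization.AtPrime q) _ (hQ.map _)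
    rw [Polynomial.map_map]
    exact hsep
  obtain ⟨f, hf, U, V, hbez⟩ := Spread.exists_bezout_of_separable q Q hQq
  let Sf := Localization.Away f
  let Qf : Sf[X] := Q.map (algebraMap S Sf)
  have hQf : Qf.Monic := hQ.map _
  have hfU : IsUnit (algebraMap S Sf f) := IsLocalization.Away.algebraMap_isUnit f
  have hQfsep : Qf.Separable := Spread.separable_map_of_bezout hbez Sf hfU
  haveI : Algebra.Etale Sf (AdjoinRoot Qf) := MaxEt.etale_adjoinRoot Qf hQf hQfsep
  haveI : Algebra.Etale S Sf := Algebra.Etale.of_isLocalizationAway f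
  haveI : Algebra.Etale S (AdjoinRoot Qf) := Algebra.Etale.comp S Sf (AdjoinRoot Qf)
  -- the prime
  have h1 : (⟨q, hq⟩ : PrimeSpectrum S) ∈ Set.range (PrimeSpectrum.comap (algebraMap S Sf)) := by
    rw [PrimeSpectrum.localization_away_comap_range Sf f]
    exact hf
  obtain ⟨qf, hqf⟩ := h1
  haveI : Nontrivial Sf := qf.nontrivial
  haveI : Module.Finite Sf (AdjoinRoot Qf) := hQf.finite_adjoinRoot
  haveI : Module.Free Sf (AdjoinRoot Qf) := hQf.free_adjoinRoot
  have hfr : Module.finrank Sf (AdjoinRoot Qf) = Q.natDegree := by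
    rw [(AdjoinRoot.powerBasis' hQf).finrank, AdjoinRoot.powerBasis'_dim, hQ.natDegree_map]
  haveI : Nontrivial (AdjoinRoot Qf) :=
    Module.nontrivial_of_finrank_pos (R := Sf) (by rw [hfr]; exact hdeg)
  obtain ⟨q'', hq''⟩ := PrimeSpectrum.comap_surjective_of_faithfullyFlat
    (A := Sf) (B := AdjoinRoot Qf) qf
  have hβ : Polynomial.aeval (AdjoinRoot.root Qf) Q = 0 := by
    have h2 : Polynomial.eval₂ (AdjoinRoot.of Qf) (AdjoinRoot.root Qf) Qf = 0 :=
      AdjoinRoot.eval₂_root Qf
    rw [Polynomial.eval₂_map] at h2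
    rw [Polynomial.aeval_def, IsScalarTower.algebraMap_eq S Sf (AdjoinRoot Qf)]
    exact h2
  refine ⟨AdjoinRoot Qf, inferInstance, inferInstance, inferInstance, q''.asIdeal, q''.isPrime,
    ⟨?_⟩, AdjoinRoot.root Qf, hβ, ?_⟩
  · have h3 : q = (q''.comap (algebraMap S (AdjoinRoot Qf))).asIdeal := by
      rw [IsScalarTower.algebraMap_eq S Sf (AdjoinRoot Qf), PrimeSpectrum.comap_comp]
      show q = ((PrimeSpectrum.comap (algebraMap S Sf)) (PrimeSpectrum.comap (algebraMap Sf _) q'')).asIdeal
      rw [hq'', hqf]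
    exact h3
  · have h4 := congrArg (Polynomial.aeval (AdjoinRoot.root Qf)) hbez
    rw [map_add, map_mul, map_mul, hβ, mul_zero, zero_add, Polynomial.aeval_C] at h4
    have h5 : IsUnit (algebraMap S (AdjoinRoot Qf) f) := by
      rw [IsScalarTower.algebraMap_apply S Sf (AdjoinRoot Qf)]
      exact hfU.map _
    rw [← h4] at h5
    exact isUnit_of_mul_isUnit_right h5

end EtQ

end Groth.Agent.H7.AzRam
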