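import Mathlib

/-! Hermitian matrices over a commutative ring with involution: congruence, elimination. -/

set_option autoImplicit false

namespace Groth.Agent.H7.Herm

open Matrix

universe v

variable {A : Type v} [CommRing A] (lam : A ≃+* A)

/-- conjugate transpose. -/
def ct {m n : Type*} (M : Matrix m n A) : Matrix n m A := (M.map lam).transpose

@[simp] theorem ct_apply {m n : Type*} (M : Matrix m n A) (i : n) (j : m) :
    ct lam M i j = lam (M j i) := rfl

theorem ct_mul {m n k : Type*} [Fintype n] (M : Matrix m n A) (N : Matrix n k A) :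
    ct lam (M * N) = ct lam N * ct lam M := by
  ext i j
  simp only [ct_apply, Matrix.mul_apply, map_sum, map_mul]
  exact Finset.sum_congr rfl fun x _ => mul_comm _ _

theorem ct_ct (hlam : Function.Involutive lam) {m n : Type*} (M : Matrix m n A) :
    ct lam (ct lam M) = M := by
  ext i j
  simp [hlam (M i j)]

theorem ct_one {n : Type*} [DecidableEq n] : ct lam (1 : Matrix n n A) = 1 := by
  ext i j
  simp only [ct_apply, Matrix.one_apply]
  split_ifs with h1 h2 h2
  · exact map_one _
  · exact absurd h1.symm h2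
  · exact absurd h2.symm h1
  · exact map_zero _

theorem ct_zero {m n : Type*} : ct lam (0 : Matrix m n A) = 0 := by
  ext i j; simp

theorem ct_add {m n : Type*} (M N : Matrix m n A) : ct lam (M + N) = ct lam M + ct lam N := by
  ext i j; simp

theorem ct_sub {m n : Type*} (M N : Matrix m n A) : ct lam (M - N) = ct lam M - ct lam N := by
  ext i j; simp

theorem ct_neg {m n : Type*} (M : Matrix m n A) : ct lam (-M) = -ct lam M := by
  ext i j; simp

theorem ct_smul {m n : Type*} (c : A) (M : Matrix m n A) : ct lam (c • M) = lam c • ct lam M := by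
  ext i j; simp

theorem ct_fromBlocks {n l m o : Type*} (P : Matrix n l A) (Q : Matrix n m A) (R : Matrix o l A)
    (S : Matrix o m A) :
    ct lam (fromBlocks P Q R S) = fromBlocks (ct lam P) (ct lam R) (ct lam Q) (ct lam S) := by
  unfold ct
  rw [fromBlocks_map, fromBlocks_transpose]

theorem ct_submatrix {m n k l : Type*} (M : Matrix m n A) (f : k → m) (g : l → n) :
    ct lam (M.submatrix f g) = (ct lam M).submatrix g f := rfl

theorem ct_diagonal {n : Type*} [DecidableEq n] (d : n → A) :
    ct lam (diagonal d) = diagonal (fun i => lam (d i)) := by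
  ext i j
  simp only [ct_apply, diagonal_apply]
  split_ifs with h1 h2 h2
  · rw [h1]
  · exact absurd h1.symm h2
  · exact absurd h2.symm h1
  · exact map_zero _

theorem isUnit_ct {n : Type*} [Fintype n] [DecidableEq n] {v : Matrix n n A} (hv : IsUnit v) :
    IsUnit (ct lam v) := by
  obtain ⟨u, rfl⟩ := hv
  refine ⟨⟨ct lam ↑u, ct lam ↑u⁻¹, ?_, ?_⟩, rfl⟩
  · rw [← ct_mul, Units.inv_mul, ct_one]
  · rw [← ct_mul, Units.mul_inv, ct_one]

section Cong

variable {ι : Type*} [Fintype ι] [DecidableEq ι]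

/-- hermitian congruence. -/
def Cong (h h' : Matrix ι ι A) : Prop :=
  ∃ v : Matrix ι ι A, IsUnit v ∧ ct lam v * h * v = h'

theorem Cong.refl (h : Matrix ι ι A) : Cong lam h h :=
  ⟨1, isUnit_one, by rw [ct_one, one_mul, mul_one]⟩

theorem Cong.trans {h h' h'' : Matrix ι ι A} (h1 : Cong lam h h') (h2 : Cong lam h' h'') :
    Cong lam h h'' := by
  obtain ⟨v, hv, rfl⟩ := h1
  obtain ⟨w, hw, rfl⟩ := h2
  refine ⟨v * w, hv.mul hw, ?_⟩
  rw [ct_mul]
  simp only [Matrix.mul_assoc]

theorem Cong.isUnit {h h' : Matrix ι ι A} (h1 : Cong lam h h') (hu : IsUnit h) : IsUnit h' := by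
  obtain ⟨v, hv, rfl⟩ := h1
  exact ((isUnit_ct lam hv).mul hu).mul hv

theorem Cong.herm {h h' : Matrix ι ι A} (h1 : Cong lam h h') (hlam : Function.Involutive lam)
    (ε : A) (hh : ε • ct lam h = h) : ε • ct lam h' = h' := by
  obtain ⟨v, hv, rfl⟩ := h1
  rw [ct_mul, ct_mul, ct_ct lam hlam, ← Matrix.mul_assoc]
  conv_rhs => rw [← hh]
  rw [Matrix.mul_smul, Matrix.smul_mul]

/-- some congruent matrix has a unit diagonal entry. -/
def Good (h : Matrix ι ι A) : Prop :=
  ∃ h', Cong lam h h' ∧ ∃ i, IsUnit (h' i i)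

/-- diagonalisable by congruence. -/
def Diagble (h : Matrix ι ι A) : Prop :=
  ∃ h', Cong lam h h' ∧ ∃ d : ι → A, h' = diagonal d

theorem Diagble.of_cong {h h' : Matrix ι ι A} (h1 : Cong lam h h') (h2 : Diagble lam h') :
    Diagble lam h := by
  obtain ⟨h'', h3, d, hd⟩ := h2
  exact ⟨h'', h1.trans lam h3, d, hd⟩

theorem Good.of_cong {h h' : Matrix ι ι A} (h1 : Cong lam h h') (h2 : Good lam h') :
    Good lam h := by
  obtain ⟨h'', h3, i, hi⟩ := h2
  exact ⟨h'', h1.trans lam h3, i, hi⟩

end Cong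

section Equiv

variable {ι κ : Type*} [Fintype ι] [DecidableEq ι] [Fintype κ] [DecidableEq κ]

theorem Cong.submatrix {h h' : Matrix ι ι A} (h1 : Cong lam h h') (e : κ ≃ ι) :
    Cong lam (h.submatrix e e) (h'.submatrix e e) := by
  obtain ⟨v, hv, rfl⟩ := h1
  refine ⟨v.submatrix e e, ?_, ?_⟩
  · rw [isUnit_iff_isUnit_det, det_submatrix_equiv_self]
    exact (isUnit_iff_isUnit_det _).mp hv
  · rw [ct_submatrix, submatrix_mul_equiv, submatrix_mul_equiv]

theorem Diagble.submatrix {h : Matrix ι ι A} (h1 : Diagble lam h) (e : κ ≃ ι) :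
    Diagble lam (h.submatrix e e) := by
  obtain ⟨h', h2, d, rfl⟩ := h1
  exact ⟨_, h2.submatrix lam e, d ∘ e, submatrix_diagonal_equiv d e⟩

theorem Good.submatrix {h : Matrix ι ι A} (h1 : Good lam h) (e : κ ≃ ι) :
    Good lam (h.submatrix e e) := by
  obtain ⟨h', h2, i, hi⟩ := h1
  refine ⟨_, h2.submatrix lam e, e.symm i, ?_⟩
  simpa using hi

end Equiv

section Sq

variable {ι : Type*} [Fintype ι]

/-- the sesquilinear form of a matrix. -/
def sq (h : Matrix ι ι A) (x y : ι → A) : A := ∑ i, ∑ j, lam (x i) * h i j * y j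

theorem cong_apply (h w : Matrix ι ι A) (k l : ι) :
    (ct lam w * h * w) k l = sq lam h (fun i => w i k) (fun j => w j l) := by
  simp only [Matrix.mul_apply, ct_apply, sq, Finset.sum_mul]
  exact Finset.sum_comm

theorem sq_add_left (h : Matrix ι ι A) (x x' y : ι → A) :
    sq lam h (x + x') y = sq lam h x y + sq lam h x' y := by
  simp only [sq, Pi.add_apply, map_add, add_mul, Finset.sum_add_distrib]

theorem sq_add_right (h : Matrix ι ι A) (x y y' : ι → A) :
    sq lam h x (y + y') = sq lam h x y + sq lam h x y' := by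
  simp only [sq, Pi.add_apply, mul_add, Finset.sum_add_distrib]

theorem sq_smul_left (h : Matrix ι ι A) (c : A) (x y : ι → A) :
    sq lam h (c • x) y = lam c * sq lam h x y := by
  simp only [sq, Pi.smul_apply, smul_eq_mul, map_mul, Finset.mul_sum, mul_assoc]

theorem sq_smul_right (h : Matrix ι ι A) (c : A) (x y : ι → A) :
    sq lam h x (c • y) = c * sq lam h x y := by
  simp only [sq, Pi.smul_apply, smul_eq_mul, Finset.mul_sum]
  refine Finset.sum_congr rfl fun i _ => Finset.sum_congr rfl fun j _ => ?_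
  ring

theorem sq_neg_left (h : Matrix ι ι A) (x y : ι → A) : sq lam h (-x) y = -sq lam h x y := by
  simp only [sq, Pi.neg_apply, map_neg, neg_mul, Finset.sum_neg_distrib]

theorem sq_neg_right (h : Matrix ι ι A) (x y : ι → A) : sq lam h x (-y) = -sq lam h x y := by
  simp only [sq, Pi.neg_apply, mul_neg, Finset.sum_neg_distrib]

theorem sq_sub_left (h : Matrix ι ι A) (x x' y : ι → A) :
    sq lam h (x - x') y = sq lam h x y - sq lam h x' y := by
  rw [sub_eq_add_neg, sq_add_left, sq_neg_left, ← sub_eq_add_neg]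

theorem sq_sub_right (h : Matrix ι ι A) (x y y' : ι → A) :
    sq lam h x (y - y') = sq lam h x y - sq lam h x y' := by
  rw [sub_eq_add_neg, sq_add_right, sq_neg_right, ← sub_eq_add_neg]

theorem sq_single [DecidableEq ι] (h : Matrix ι ι A) (i j : ι) :
    sq lam h (Pi.single i 1) (Pi.single j 1) = h i j := by
  simp only [sq]
  rw [Finset.sum_eq_single i, Finset.sum_eq_single j]
  · simp
  · intro b _ hb
    simp [Pi.single_eq_of_ne hb]
  · intro hj; exact absurd (Finset.mem_univ j) hj
  · intro b _ hb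
    apply Finset.sum_eq_zero
    intro j' _
    simp [Pi.single_eq_of_ne hb]
  · intro hi; exact absurd (Finset.mem_univ i) hi

/-- `lam (sq h x y) = sq (ct h) y x`. -/
theorem lam_sq (h : Matrix ι ι A) (x y : ι → A) :
    lam (sq lam h x y) = sq lam (ct lam h) y (fun i => lam (lam (x i))) := by
  simp only [sq, map_sum, map_mul, ct_apply]
  rw [Finset.sum_comm]
  refine Finset.sum_congr rfl fun i _ => Finset.sum_congr rfl fun j _ => ?_
  ring

end Sq

section ColMod

variable {ι : Type*} [Fintype ι] [DecidableEq ι]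

/-- replace the `j`-th basis vector by `x`. -/
def colMod (j : ι) (x : ι → A) : Matrix ι ι A := (1 : Matrix ι ι A).updateCol j x

theorem isUnit_colMod (j : ι) (x : ι → A) (hx : IsUnit (x j)) : IsUnit (colMod j x) := by
  rw [isUnit_iff_isUnit_det, colMod, ← cramer_apply, cramer_one]
  exact hx

theorem colMod_col (j : ι) (x : ι → A) (k : ι) :
    (fun i => colMod j x i k) = if k = j then x else Pi.single k 1 := by
  funext i
  by_cases hk : k = j
  · subst hk
    simp [colMod]
  · rw [if_neg hk, colMod, updateCol_ne hk, Matrix.one_apply, Pi.single_apply]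

theorem cong_colMod_apply (h : Matrix ι ι A) (j : ι) (x : ι → A) (k l : ι) :
    (ct lam (colMod j x) * h * colMod j x) k l =
      sq lam h (if k = j then x else Pi.single k 1) (if l = j then x else Pi.single l 1) := by
  rw [cong_apply, colMod_col, colMod_col]

end ColMod

section Elim

variable {α : Type*} [Fintype α] [DecidableEq α]

/-- the elimination matrix. -/
def elimMat (c : α → A) : Matrix (Unit ⊕ α) (Unit ⊕ α) A :=
  fromBlocks 1 (of fun _ l => -c l) 0 1

theorem isUnit_elimMat (c : α → A) : IsUnit (elimMat c) := by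
  rw [isUnit_iff_isUnit_det, elimMat, det_fromBlocks_zero₂₁, det_one, det_one, one_mul]
  exact isUnit_one

theorem elimMat_col_inl (c : α → A) :
    (fun i => elimMat c i (Sum.inl ())) = Pi.single (Sum.inl ()) 1 := by
  funext i
  rcases i with ⟨⟩ | k
  · simp [elimMat]
  · simp [elimMat]

theorem elimMat_col_inr (c : α → A) (l : α) :
    (fun i => elimMat c i (Sum.inr l)) =
      Pi.single (Sum.inr l) 1 - c l • Pi.single (Sum.inl ()) 1 := by
  funext i
  rcases i with ⟨⟩ | k
  · simp [elimMat]
  · simp [elimMat, Matrix.one_apply, Pi.single_apply, eq_comm]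

theorem elim (ε : A) (G : Matrix (Unit ⊕ α) (Unit ⊕ α) A)
    (hG : ε • ct lam G = G) (b₀ : A) (hb₀ : G (Sum.inl ()) (Sum.inl ()) * b₀ = 1) :
    Cong lam G (fromBlocks (of fun _ _ => G (Sum.inl ()) (Sum.inl ())) 0 0
      (of fun k l => G (Sum.inr k) (Sum.inr l) -
        b₀ * G (Sum.inr k) (Sum.inl ()) * G (Sum.inl ()) (Sum.inr l))) := by
  have hGe : ∀ i j, ε * lam (G j i) = G i j := by
    intro i j
    have := congrFun (congrFun hG i) j
    simpa using this
  have hlb : lam b₀ * G (Sum.inl ()) (Sum.inl ()) = ε := by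
    have h1 := hGe (Sum.inl ()) (Sum.inl ())
    calc lam b₀ * G (Sum.inl ()) (Sum.inl ())
        = lam b₀ * (ε * lam (G (Sum.inl ()) (Sum.inl ()))) := by rw [h1]
      _ = ε * lam (G (Sum.inl ()) (Sum.inl ()) * b₀) := by rw [map_mul]; ring
      _ = ε := by rw [hb₀, map_one, mul_one]
  refine ⟨elimMat (fun l => b₀ * G (Sum.inl ()) (Sum.inr l)), isUnit_elimMat _, ?_⟩
  ext i j
  rw [cong_apply]
  rcases i with ⟨⟩ | k <;> rcases j with ⟨⟩ | l
  · rw [elimMat_col_inl, sq_single]
    simp
  · rw [elimMat_col_inl, elimMat_col_inr]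
    simp only [sq_sub_left, sq_sub_right, sq_smul_left, sq_smul_right, sq_single,
      fromBlocks_apply₁₂, Matrix.zero_apply]
    linear_combination (-G (Sum.inl ()) (Sum.inr l)) * hb₀
  · rw [elimMat_col_inl, elimMat_col_inr]
    simp only [sq_sub_left, sq_sub_right, sq_smul_left, sq_smul_right, sq_single,
      fromBlocks_apply₂₁, Matrix.zero_apply, map_mul]
    have h2 := hGe (Sum.inr k) (Sum.inl ())
    linear_combination (-lam (G (Sum.inl ()) (Sum.inr k))) * hlb - h2
  · rw [elimMat_col_inr, elimMat_col_inr]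
    simp only [sq_sub_left, sq_sub_right, sq_smul_left, sq_smul_right, sq_single,
      fromBlocks_apply₂₂, of_apply, map_mul]
    linear_combination (lam b₀ * lam (G (Sum.inl ()) (Sum.inr k)) * G (Sum.inl ()) (Sum.inr l)) * hb₀

end Elim

section Blocks

variable {α : Type*} [Fintype α] [DecidableEq α]

theorem Cong.block (a : Matrix Unit Unit A) {h' h'' : Matrix α α A} (h1 : Cong lam h' h'') :
    Cong lam (fromBlocks a 0 0 h') (fromBlocks a 0 0 h'') := by
  obtain ⟨v, hv, rfl⟩ := h1
  refine ⟨fromBlocks 1 0 0 v, ?_, ?_⟩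
  · rw [isUnit_iff_isUnit_det, det_fromBlocks_zero₂₁, det_one, one_mul]
    exact (isUnit_iff_isUnit_det _).mp hv
  · rw [ct_fromBlocks, ct_one, ct_zero, ct_zero, fromBlocks_multiply, fromBlocks_multiply]
    simp

theorem Diagble.block (a₀ : A) {h' : Matrix α α A} (h1 : Diagble lam h') :
    Diagble lam (fromBlocks (of fun _ _ => a₀ : Matrix Unit Unit A) 0 0 h') := by
  obtain ⟨h'', h2, d, rfl⟩ := h1
  refine ⟨_, h2.block lam _, Sum.elim (fun _ => a₀) d, ?_⟩
  rw [← fromBlocks_diagonal]
  congr 1

theorem isUnit_of_isUnit_block (a : Matrix Unit Unit A) (h' : Matrix α α A)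
    (hu : IsUnit (fromBlocks a 0 0 h')) : IsUnit h' := by
  rw [isUnit_iff_isUnit_det, det_fromBlocks_zero₂₁] at hu
  rw [isUnit_iff_isUnit_det]
  exact isUnit_of_mul_isUnit_right hu

theorem herm_of_herm_block (ε : A) (a : Matrix Unit Unit A) (h' : Matrix α α A)
    (hh : ε • ct lam (fromBlocks a 0 0 h') = fromBlocks a 0 0 h') : ε • ct lam h' = h' := by
  rw [ct_fromBlocks, fromBlocks_smul, fromBlocks_inj] at hh
  exact hh.2.2.2

end Blocks

end Groth.Agent.H7.Herm
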