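import Mathlib
import Groth.Prelude.Def_AzInv

/-! Abstract core for the quadratic étale case: the "Galois" isomorphism
`S' ⊗[S] A ≃ M_n(S') × M_n(S')`. -/

set_option autoImplicit false
open scoped TensorProduct
open AzInv

namespace Groth.Agent.H7.AzQE

universe u v w u'

section Basic

variable {S : Type u} {R : Type v} [CommRing S] [CommRing R] [Algebra S R]
  (lam : R ≃ₐ[S] R)
  {A : Type w} [Ring A] [Algebra S A] [Algebra R A] [IsScalarTower S R A]
  (t : LamInv R A lam)
  (S' : Type u') [CommRing S'] [Algebra S S']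

/-- the base-changed involution is anti-multiplicative. -/
theorem bc_mul (x y : S' ⊗[S] A) :
    t.bc S lam S' (x * y) = t.bc S lam S' y * t.bc S lam S' x := by
  induction x using TensorProduct.induction_on with
  | zero => simp
  | add x₁ x₂ h₁ h₂ => rw [add_mul, map_add, h₁, h₂, map_add, mul_add]
  | tmul s a =>
      induction y using TensorProduct.induction_on with
      | zero => simp
      | add y₁ y₂ h₁ h₂ => rw [mul_add, map_add, h₁, h₂, map_add, add_mul]
      | tmul s' a' =>
          rw [Algebra.TensorProduct.tmul_mul_tmul, LamInv.bc_tmul, LamInv.bc_tmul, LamInv.bc_tmul,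
            Algebra.TensorProduct.tmul_mul_tmul, t.map_mul, mul_comm s s']

theorem bc_bc (hlam : ∀ r, lam (lam r) = r) (x : S' ⊗[S] A) :
    t.bc S lam S' (t.bc S lam S' x) = x := by
  induction x using TensorProduct.induction_on with
  | zero => simp
  | add x₁ x₂ h₁ h₂ => rw [map_add, map_add, h₁, h₂]
  | tmul s a => rw [LamInv.bc_tmul, LamInv.bc_tmul, t.invol]

theorem bc_one : t.bc S lam S' (1 : S' ⊗[S] A) = 1 := by
  rw [Algebra.TensorProduct.one_def, LamInv.bc_tmul, t.map_one]

end Basic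

section Core

variable {S : Type u} {R : Type v} [CommRing S] [CommRing R] [Algebra S R]
  (lam : R ≃ₐ[S] R) (hlam : ∀ r, lam (lam r) = r)
  {A : Type w} [Ring A] [Algebra S A] [Algebra R A] [IsScalarTower S R A]
  (t : LamInv R A lam)
  (S' : Type u') [CommRing S'] [Algebra S S'] [Algebra R S'] [IsScalarTower S R S']
  {n : ℕ} (ρ : A →ₐ[R] Matrix (Fin n) (Fin n) S')

/-- the map `R ⊗[S] R → S' ⊗[S] A`. -/
noncomputable def iota : R ⊗[S] R →ₐ[S] S' ⊗[S] A :=
  Algebra.TensorProduct.map (IsScalarTower.toAlgHom S R S') (IsScalarTower.toAlgHom S R A)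

theorem iota_tmul (x y : R) :
    iota (A := A) S' (x ⊗ₜ[S] y) = algebraMap R S' x ⊗ₜ[S] algebraMap R A y := rfl

theorem iota_commute (z : R ⊗[S] R) (c : S' ⊗[S] A) :
    iota (A := A) S' z * c = c * iota (A := A) S' z := by
  induction z using TensorProduct.induction_on with
  | zero => simp
  | add z₁ z₂ h₁ h₂ => rw [map_add, add_mul, mul_add, h₁, h₂]
  | tmul x y =>
      induction c using TensorProduct.induction_on with
      | zero => simp
      | add c₁ c₂ h₁ h₂ => rw [mul_add, add_mul, h₁, h₂]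
      | tmul s a =>
          rw [iota_tmul, Algebra.TensorProduct.tmul_mul_tmul, Algebra.TensorProduct.tmul_mul_tmul,
            mul_comm s]
          congr 1
          exact Algebra.commutes y a

/-- `ψ : S' ⊗[S] A → M_n(S')`. -/
noncomputable def psi : S' ⊗[S] A →ₐ[S'] Matrix (Fin n) (Fin n) S' :=
  Algebra.TensorProduct.lift (Algebra.ofId S' _) (ρ.restrictScalars S)
    (fun s a => Algebra.commutes s _)

theorem psi_tmul (s : S') (a : A) : psi S' ρ (s ⊗ₜ[S] a) = s • ρ a := by
  rw [psi, Algebra.TensorProduct.lift_tmul, Algebra.ofId_apply, AlgHom.restrictScalars_apply,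
    Algebra.smul_def]

/-- `φ : S' ⊗[R] A → M_n(S')`. -/
noncomputable def phi : S' ⊗[R] A →ₐ[S'] Matrix (Fin n) (Fin n) S' :=
  Algebra.TensorProduct.lift (Algebra.ofId S' _) ρ (fun s a => Algebra.commutes s _)

theorem phi_tmul (s : S') (a : A) : phi S' ρ (s ⊗ₜ[R] a) = s • ρ a := by
  rw [phi, Algebra.TensorProduct.lift_tmul, Algebra.ofId_apply, Algebra.smul_def]

theorem psi_iota (z : R ⊗[S] R) :
    psi S' ρ (iota (A := A) S' z) =
      algebraMap S' (Matrix (Fin n) (Fin n) S') (algebraMap R S' (Algebra.TensorProduct.lmul' S z)) := by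
  induction z using TensorProduct.induction_on with
  | zero => simp
  | add z₁ z₂ h₁ h₂ => rw [map_add, map_add, h₁, h₂, map_add, map_add, map_add]
  | tmul x y =>
      rw [iota_tmul, psi_tmul, AlgHom.commutes, Algebra.TensorProduct.lmul'_apply_tmul, map_mul,
        map_mul, Algebra.smul_def, IsScalarTower.algebraMap_apply R S' (Matrix (Fin n) (Fin n) S') y]

theorem bc_iota_mul (z : R ⊗[S] R) (c : S' ⊗[S] A) :
    t.bc S lam S' (iota (A := A) S' z * c) =
      t.bc S lam S' c * iota (A := A) S' (Algebra.TensorProduct.map (AlgHom.id S R) lam.toAlgHom z) := by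
  rw [bc_mul]
  congr 1
  induction z using TensorProduct.induction_on with
  | zero => simp
  | add z₁ z₂ h₁ h₂ => rw [map_add, map_add, h₁, h₂, map_add, map_add]
  | tmul x y =>
      rw [iota_tmul, LamInv.bc_tmul, t.map_algebraMap, Algebra.TensorProduct.map_tmul, iota_tmul]
      rfl

theorem smul_eq_iota_mul (r : R) (c : S' ⊗[S] A) :
    r • c = iota (A := A) S' (r ⊗ₜ[S] 1) * c := by
  induction c using TensorProduct.induction_on with
  | zero => simp
  | add c₁ c₂ h₁ h₂ => rw [smul_add, h₁, h₂, mul_add]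
  | tmul s a =>
      rw [iota_tmul, Algebra.TensorProduct.tmul_mul_tmul, map_one, one_mul,
        TensorProduct.smul_tmul', Algebra.smul_def]

theorem phi_map (c : S' ⊗[S] A) :
    phi S' ρ (TensorProduct.mapOfCompatibleSMul R S R S' A c) = psi S' ρ c := by
  induction c using TensorProduct.induction_on with
  | zero => simp
  | add c₁ c₂ h₁ h₂ => rw [map_add, map_add, h₁, h₂, map_add]
  | tmul s a => rw [TensorProduct.mapOfCompatibleSMul_tmul, phi_tmul, psi_tmul]

variable (e₀ : R ⊗[S] R)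
  (h1 : ∀ r : R, e₀ * (r ⊗ₜ[S] 1) = e₀ * (1 ⊗ₜ[S] r))
  (h2 : Algebra.TensorProduct.lmul' S e₀ = 1)

include h1 in
theorem e_mul_eq_zero_of_psi (hφ : Function.Injective (phi S' ρ)) (c : S' ⊗[S] A)
    (hc : psi S' ρ c = 0) : iota (A := A) S' e₀ * c = 0 := by
  have hc' : TensorProduct.mapOfCompatibleSMul R S R S' A c = 0 := by
    apply hφ
    rw [phi_map, hc, map_zero]
  have hmem : c ∈ LinearMap.ker (TensorProduct.mapOfCompatibleSMul R S R S' A) := hc'
  rw [TensorProduct.AlgebraTensorModule.ker_mapOfCompatibleSMul (R := S) R S' (N := A)] at hmem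
  clear hc hc'
  induction hmem using Submodule.span_induction with
  | mem x hx =>
      obtain ⟨r, s, a, rfl⟩ := hx
      have e1 : (r • s) ⊗ₜ[S] a = iota (A := A) S' (r ⊗ₜ[S] 1) * (s ⊗ₜ[S] a) := by
        rw [iota_tmul, Algebra.TensorProduct.tmul_mul_tmul, map_one, one_mul, Algebra.smul_def]
      have e2 : s ⊗ₜ[S] (r • a) = iota (A := A) S' (1 ⊗ₜ[S] r) * (s ⊗ₜ[S] a) := by
        rw [iota_tmul, Algebra.TensorProduct.tmul_mul_tmul, map_one, one_mul, Algebra.smul_def]
      rw [e1, e2, ← sub_mul, ← map_sub, ← mul_assoc, ← map_mul, mul_sub, h1 r, sub_self, map_zero,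
        zero_mul]
  | zero => rw [mul_zero]
  | add x y _ _ hx hy => rw [mul_add, hx, hy, add_zero]
  | smul r x _ hx =>
      rw [smul_eq_iota_mul, ← mul_assoc, iota_commute, mul_assoc, hx, mul_zero]

include h2 in
theorem psi_e : psi S' ρ (iota (A := A) S' e₀) = 1 := by
  rw [psi_iota, h2, map_one, map_one]

include h1 h2 in
theorem psi_eq_zero_iff (hφ : Function.Injective (phi S' ρ)) (c : S' ⊗[S] A) :
    psi S' ρ c = 0 ↔ iota (A := A) S' e₀ * c = 0 := by
  refine ⟨e_mul_eq_zero_of_psi S' ρ e₀ h1 hφ c, fun h => ?_⟩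
  have := congrArg (psi S' ρ) h
  rwa [map_mul, psi_e S' ρ e₀ h2, one_mul, map_zero] at this

theorem psi_surjective (hφ : Function.Surjective (phi S' ρ)) :
    Function.Surjective (psi (S := S) S' ρ) := by
  intro X
  obtain ⟨y, rfl⟩ := hφ X
  obtain ⟨c, rfl⟩ := TensorProduct.mapOfCompatibleSMul_surjective R S R S' A y
  exact ⟨c, (phi_map S' ρ c).symm⟩

/-- the `λ`-twist on `R ⊗[S] R`. -/
noncomputable def tw : R ⊗[S] R →ₐ[S] R ⊗[S] R :=
  Algebra.TensorProduct.map (AlgHom.id S R) lam.toAlgHom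

theorem bc_iota_mul' (z : R ⊗[S] R) (c : S' ⊗[S] A) :
    t.bc S lam S' (iota (A := A) S' z * c) = t.bc S lam S' c * iota (A := A) S' (tw lam z) :=
  bc_iota_mul lam t S' z c

/-- the second component `c ↦ (ψ (T c))ᵀ`. -/
noncomputable def psi2 : S' ⊗[S] A →ₐ[S'] Matrix (Fin n) (Fin n) S' :=
  AlgHom.ofLinearMap
    ((Matrix.transposeLinearEquiv (Fin n) (Fin n) S' S').toLinearMap ∘ₗ
      (psi S' ρ).toLinearMap ∘ₗ t.bc S lam S')
    (by
      show Matrix.transpose (psi S' ρ (t.bc S lam S' 1)) = 1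
      rw [bc_one, map_one, Matrix.transpose_one])
    (by
      intro x y
      show Matrix.transpose (psi S' ρ (t.bc S lam S' (x * y))) =
        Matrix.transpose (psi S' ρ (t.bc S lam S' x)) * Matrix.transpose (psi S' ρ (t.bc S lam S' y))
      rw [bc_mul, map_mul, Matrix.transpose_mul])

theorem psi2_apply (c : S' ⊗[S] A) :
    psi2 lam t S' ρ c = Matrix.transpose (psi S' ρ (t.bc S lam S' c)) := rfl

/-- `Θ = (ψ, ψ₂)`. -/
noncomputable def Theta : S' ⊗[S] A →ₐ[S']
    Matrix (Fin n) (Fin n) S' × Matrix (Fin n) (Fin n) S' :=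
  AlgHom.prod (psi S' ρ) (psi2 lam t S' ρ)

theorem Theta_apply (c : S' ⊗[S] A) :
    Theta lam t S' ρ c = (psi S' ρ c, Matrix.transpose (psi S' ρ (t.bc S lam S' c))) := rfl

variable (h3 : Algebra.TensorProduct.lmul' S (tw lam e₀) = 0) (h4 : e₀ + tw lam e₀ = 1)

include h1 h2 h4 hlam in
theorem Theta_injective (hφ : Function.Injective (phi S' ρ)) :
    Function.Injective (Theta lam t S' ρ) := by
  rw [injective_iff_map_eq_zero]
  intro c hc
  rw [Theta_apply, Prod.mk_eq_zero] at hc
  obtain ⟨hc1, hc2⟩ := hc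
  have hc2' : psi S' ρ (t.bc S lam S' c) = 0 := by
    have := congrArg Matrix.transpose hc2
    rwa [Matrix.transpose_transpose, Matrix.transpose_zero] at this
  have k1 := (psi_eq_zero_iff S' ρ e₀ h1 h2 hφ c).mp hc1
  have k2 := (psi_eq_zero_iff S' ρ e₀ h1 h2 hφ _).mp hc2'
  have k3 := congrArg (t.bc S lam S') k2
  rw [bc_iota_mul', bc_bc lam t S' hlam, map_zero, ← iota_commute] at k3
  have : c = iota (A := A) S' (e₀ + tw lam e₀) * c := by rw [h4, map_one, one_mul]
  rw [this, map_add, add_mul, k1, k3, add_zero]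

include h1 h2 h3 hlam in
theorem Theta_surjective (hφ : Function.Surjective (phi S' ρ)) :
    Function.Surjective (Theta lam t S' ρ) := by
  rintro ⟨X, Y⟩
  obtain ⟨c₁, hc₁⟩ := psi_surjective (S := S) S' ρ hφ X
  obtain ⟨c₂, hc₂⟩ := psi_surjective (S := S) S' ρ hφ (Matrix.transpose Y)
  have he' : psi S' ρ (iota (A := A) S' (tw lam e₀)) = 0 := by
    rw [psi_iota, h3, map_zero, map_zero]
  refine ⟨iota (A := A) S' e₀ * c₁ + t.bc S lam S' (iota (A := A) S' e₀ * c₂), ?_⟩
  rw [Theta_apply]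
  congr 1
  · rw [map_add, map_mul, psi_e S' ρ e₀ h2, one_mul, hc₁, bc_iota_mul', map_mul, he', mul_zero,
      add_zero]
  · rw [map_add, bc_bc lam t S' hlam, bc_iota_mul', map_add, map_mul, he', mul_zero, zero_add,
      map_mul, psi_e S' ρ e₀ h2, one_mul, hc₂, Matrix.transpose_transpose]

include hlam in
theorem Theta_bc (c : S' ⊗[S] A) :
    Theta lam t S' ρ (t.bc S lam S' c) =
      (Matrix.transpose (Theta lam t S' ρ c).2, Matrix.transpose (Theta lam t S' ρ c).1) := by
  rw [Theta_apply, Theta_apply, bc_bc lam t S' hlam, Matrix.transpose_transpose]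

theorem Theta_iota_mul (r : R) (c : S' ⊗[S] A) :
    Theta lam t S' ρ (iota (A := A) S' (1 ⊗ₜ[S] r) * c) =
      (algebraMap R S' r • (Theta lam t S' ρ c).1,
        algebraMap R S' (lam r) • (Theta lam t S' ρ c).2) := by
  rw [Theta_apply, Theta_apply]
  congr 1
  · rw [map_mul, psi_iota, Algebra.TensorProduct.lmul'_apply_tmul, one_mul, Algebra.smul_def]
  · rw [bc_iota_mul', map_mul, psi_iota, tw, Algebra.TensorProduct.map_tmul,
      Algebra.TensorProduct.lmul'_apply_tmul, AlgHom.id_apply, one_mul, Matrix.transpose_mul,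
      Algebra.smul_def]
    have htr : ∀ x : S', Matrix.transpose (algebraMap S' (Matrix (Fin n) (Fin n) S') x) =
        algebraMap S' (Matrix (Fin n) (Fin n) S') x := fun x => by
      rw [Algebra.algebraMap_eq_smul_one, Matrix.transpose_smul, Matrix.transpose_one]
    rw [htr]
    rfl

end Core

end Groth.Agent.H7.AzQE
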