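import Mathlib

/-! Gluing étale-local data over finitely many étale neighbourhoods. -/

set_option autoImplicit false
open scoped TensorProduct

namespace Groth.Agent.H7.EtGlue

universe u w

section Glue

variable (S : Type u) [CommRing S]

theorem glue (P : ∀ (S' : Type u) [CommRing S'] [Algebra S S'], Prop)
    (hprod : ∀ (ι : Type u) [Finite ι] (S' : ι → Type u) [∀ i, CommRing (S' i)]
      [∀ i, Algebra S (S' i)], (∀ i, P (S' i)) → P (Π i, S' i))
    (hloc : ∀ q : PrimeSpectrum S, ∃ (S' : Type u) (_ : CommRing S') (_ : Algebra S S')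
      (_ : Algebra.Etale S S'),
      (∃ q' : PrimeSpectrum S', q'.comap (algebraMap S S') = q) ∧ P S') :
    ∃ (S' : Type u) (_ : CommRing S') (_ : Algebra S S') (_ : Algebra.Etale S S')
      (_ : Module.FaithfullyFlat S S'), P S' := by
  classical
  choose S' hc ha het hq' hP using hloc
  letI : ∀ q, CommRing (S' q) := hc
  letI : ∀ q, Algebra S (S' q) := ha
  haveI : ∀ q, Algebra.Etale S (S' q) := het
  have hopen : ∀ q, IsOpen (Set.range (PrimeSpectrum.comap (algebraMap S (S' q)))) := fun q =>
    (PrimeSpectrum.isOpenMap_comap_of_hasGoingDown_of_finitePresentation (R := S)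
      (S := S' q)).isOpen_range
  have hcover : (Set.univ : Set (PrimeSpectrum S)) ⊆
      ⋃ q : PrimeSpectrum S, Set.range (PrimeSpectrum.comap (algebraMap S (S' q))) := by
    intro q _
    exact Set.mem_iUnion.mpr ⟨q, hq' q⟩
  obtain ⟨t, ht⟩ := isCompact_univ.elim_finite_subcover _ hopen hcover
  let T := Π i : t, S' i.1
  haveI hetT : Algebra.Etale S T := inferInstance
  haveI hflatT : Module.Flat S T := inferInstance
  have hsurj : Function.Surjective (PrimeSpectrum.comap (algebraMap S T)) := by
    intro q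
    have hq := ht (Set.mem_univ q)
    simp only [Set.mem_iUnion] at hq
    obtain ⟨p, hpt, q', hq'⟩ := hq
    refine ⟨q'.comap (Pi.evalRingHom (fun i : t => S' i.1) ⟨p, hpt⟩), ?_⟩
    rw [← hq']
    rfl
  haveI hffT : Module.FaithfullyFlat S T := Module.FaithfullyFlat.of_comap_surjective hsurj
  exact ⟨T, inferInstance, inferInstance, hetT, hffT, hprod t (fun i => S' i.1) (fun i => hP i.1)⟩

end Glue

section PiIso

variable (S : Type u) [CommRing S] (A : Type w) [Ring A] [Algebra S A]
  {ι : Type*} (S' : ι → Type*) [∀ i, CommRing (S' i)] [∀ i, Algebra S (S' i)]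

/-- `(Π S_i) ⊗ A ≃ Π (S_i ⊗ A)` for finite index. -/
noncomputable def piIso [DecidableEq ι] [Fintype ι] : (Π i, S' i) ⊗[S] A ≃+* Π i, (S' i ⊗[S] A) :=
  ((Algebra.TensorProduct.comm S (Π i, S' i) A).toRingEquiv.trans
    (Algebra.TensorProduct.piRight S S A S').toRingEquiv).trans
    (RingEquiv.piCongrRight fun i => (Algebra.TensorProduct.comm S A (S' i)).toRingEquiv)

theorem piIso_tmul [DecidableEq ι] [Fintype ι] (t : Π i, S' i) (a : A) (i : ι) :
    piIso S A S' (t ⊗ₜ[S] a) i = t i ⊗ₜ[S] a := by
  simp [piIso]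

end PiIso

end Groth.Agent.H7.EtGlue
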