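import Mathlib
import Groth.Prelude.Def_AzInv
import Groth.Prelude.Def_W4c2azumayainvolQEt
import Groth.Agent.Lib.Helper6.FixedRingBC

/-! Basic facts on a commutative ring with involution over its fixed ring. -/

set_option autoImplicit false
open scoped TensorProduct

namespace Groth.Agent.H7.RInvB

universe u v u'

section Basic

variable {S : Type u} {R : Type v} [CommRing S] [CommRing R] [Algebra S R]
  (lam : R ≃ₐ[S] R) (hlam : ∀ r, lam (lam r) = r) (hfix : RInv.IsFixedRing S R lam.toRingEquiv)

include hfix in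
theorem mem_range_of_fixed (r : R) (hr : lam r = r) : ∃ s : S, algebraMap S R s = r :=
  (hfix.2 r).mp hr

include hlam hfix in
theorem exists_tr (r : R) : ∃ s : S, algebraMap S R s = r + lam r :=
  mem_range_of_fixed lam hfix _ (by rw [map_add, hlam, add_comm])

include hlam hfix in
theorem exists_nm (r : R) : ∃ s : S, algebraMap S R s = r * lam r :=
  mem_range_of_fixed lam hfix _ (by rw [map_mul, hlam, mul_comm])

include hlam hfix in
theorem exists_sq (r : R) : ∃ s : S, algebraMap S R s = (r - lam r) ^ 2 :=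
  mem_range_of_fixed lam hfix _ (by rw [map_pow, map_sub, hlam]; ring)

include hlam hfix in
theorem isIntegral : Algebra.IsIntegral S R := by
  refine ⟨fun r => ?_⟩
  obtain ⟨t, ht⟩ := exists_tr lam hlam hfix r
  obtain ⟨m, hm⟩ := exists_nm lam hlam hfix r
  refine ⟨Polynomial.X ^ 2 - Polynomial.C t * Polynomial.X + Polynomial.C m, ?_, ?_⟩
  · have hdeg : (Polynomial.C t * Polynomial.X - Polynomial.C m : Polynomial S).degree < 2 := by
      refine lt_of_le_of_lt (Polynomial.degree_sub_le _ _) (max_lt ?_ ?_)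
      · exact lt_of_le_of_lt (Polynomial.degree_C_mul_X_le t) (by decide)
      · exact lt_of_le_of_lt Polynomial.degree_C_le (by decide)
    have := Polynomial.monic_X_pow_sub (n := 2) hdeg
    have e : (Polynomial.X ^ 2 - Polynomial.C t * Polynomial.X + Polynomial.C m : Polynomial S) =
        Polynomial.X ^ 2 - (Polynomial.C t * Polynomial.X - Polynomial.C m) := by ring
    rw [e]
    exact this
  · simp only [Polynomial.eval₂_add, Polynomial.eval₂_sub, Polynomial.eval₂_mul,
      Polynomial.eval₂_pow, Polynomial.eval₂_X, Polynomial.eval₂_C, ht, hm]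
    ring

/-- the prime `q` is ramified: `lam` is the identity modulo every prime over `q`. -/
def RamP (q : Ideal S) : Prop :=
  ∀ p : Ideal R, p.IsPrime → p.comap (algebraMap S R) = q → ∀ r : R, r - lam r ∈ p

include hlam hfix in
theorem exists_prime_over (q : Ideal S) [q.IsPrime] :
    ∃ p : Ideal R, p.IsPrime ∧ p.comap (algebraMap S R) = q := by
  haveI := isIntegral lam hlam hfix
  obtain ⟨p, -, hp, hpq⟩ := Ideal.exists_ideal_over_prime_of_isIntegral (R := S) (S := R) q ⊥ (by
    intro x hx
    have h1 : algebraMap S R x = 0 := hx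
    have h2 : x = 0 := hfix.1 (by rw [h1, map_zero])
    rw [h2]; exact q.zero_mem)
  exact ⟨p, hp, hpq⟩

include hlam hfix in
theorem unique_prime_of_ramP (q : Ideal S) (hram : RamP lam q) (p₁ p₂ : Ideal R)
    (hp₁ : p₁.IsPrime) (hp₂ : p₂.IsPrime) (h₁ : p₁.comap (algebraMap S R) = q)
    (h₂ : p₂.comap (algebraMap S R) = q) : p₁ = p₂ := by
  have key : ∀ (P₁ P₂ : Ideal R), P₁.IsPrime → P₂.IsPrime → P₁.comap (algebraMap S R) = q →
      P₂.comap (algebraMap S R) = q → P₁ ≤ P₂ := by
    intro P₁ P₂ hP₁ hP₂ hq₁ hq₂ x hx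
    obtain ⟨m, hm⟩ := exists_nm lam hlam hfix x
    have h1 : algebraMap S R m ∈ P₁ := by rw [hm]; exact P₁.mul_mem_right _ hx
    have h2 : m ∈ q := by rw [← hq₁]; exact h1
    have h3 : algebraMap S R m ∈ P₂ := by
      have : m ∈ P₂.comap (algebraMap S R) := by rw [hq₂]; exact h2
      exact this
    rw [hm] at h3
    rcases hP₂.mem_or_mem h3 with h4 | h4
    · exact h4
    · have h5 := hram P₂ hP₂ hq₂ x
      have : x = (x - lam x) + lam x := by ring
      rw [this]
      exact P₂.add_mem h5 h4
  exact le_antisymm (key p₁ p₂ hp₁ hp₂ h₁ h₂) (key p₂ p₁ hp₂ hp₁ h₂ h₁)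

include hlam hfix in
/-- the dichotomy. -/
theorem ramP_or_exists (q : Ideal S) [q.IsPrime] :
    RamP lam q ∨ ∃ (r : R) (s : S), algebraMap S R s = (r - lam r) ^ 2 ∧ s ∉ q := by
  by_cases h : RamP lam q
  · exact Or.inl h
  · right
    unfold RamP at h
    push Not at h
    obtain ⟨p, hp, hpq, r, hr⟩ := h
    obtain ⟨s, hs⟩ := exists_sq lam hlam hfix r
    refine ⟨r, s, hs, fun hsq => hr ?_⟩
    have h1 : algebraMap S R s ∈ p := by
      have : s ∈ p.comap (algebraMap S R) := by rw [hpq]; exact hsq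
      exact this
    rw [hs] at h1
    exact hp.mem_of_pow_mem 2 h1

end Basic

section BaseChange

variable {S : Type u} {R : Type v} [CommRing S] [CommRing R] [Algebra S R]
  (lam : R ≃ₐ[S] R) (hlam : ∀ r, lam (lam r) = r) (hfix : RInv.IsFixedRing S R lam.toRingEquiv)
  (S' : Type u') [CommRing S'] [Algebra S S']

/-- the base-changed involution. -/
noncomputable def lamBC : S' ⊗[S] R ≃ₐ[S'] S' ⊗[S] R :=
  Algebra.TensorProduct.congr (AlgEquiv.refl : S' ≃ₐ[S'] S') lam

theorem lamBC_tmul (s : S') (r : R) : lamBC lam S' (s ⊗ₜ[S] r) = s ⊗ₜ[S] lam r := rfl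

include hlam in
theorem lamBC_lamBC (x : S' ⊗[S] R) : lamBC lam S' (lamBC lam S' x) = x := by
  induction x using TensorProduct.induction_on with
  | zero => simp
  | add x y hx hy => rw [map_add, map_add, hx, hy]
  | tmul s r => rw [lamBC_tmul, lamBC_tmul, hlam]

include hfix in
theorem isFixedRing_lamBC [Module.Flat S S'] :
    RInv.IsFixedRing S' (S' ⊗[S] R) (lamBC lam S').toRingEquiv := by
  have h := Groth.Agent.H6.FR.isFixedRing_baseChange_of_flat S R S' lam hfix
  refine ⟨h.1, fun x => ?_⟩
  exact h.2 x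

theorem ramP_lamBC (q : Ideal S) (hram : RamP lam q) (q' : Ideal S')
    (hq' : q'.comap (algebraMap S S') = q) : RamP (lamBC lam S') q' := by
  intro p' hp' hp'q' x
  have hpr : (p'.comap (Algebra.TensorProduct.includeRight : R →ₐ[S] S' ⊗[S] R).toRingHom).IsPrime :=
    Ideal.comap_isPrime _ _
  have hover : (p'.comap (Algebra.TensorProduct.includeRight :
      R →ₐ[S] S' ⊗[S] R).toRingHom).comap (algebraMap S R) = q := by
    rw [← hq', ← hp'q', Ideal.comap_comap, Ideal.comap_comap]
    congr 1
    ext s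
    simp [Algebra.TensorProduct.algebraMap_apply, Algebra.algebraMap_eq_smul_one]
  induction x using TensorProduct.induction_on with
  | zero => simp
  | add x y hx hy =>
      have : x + y - lamBC lam S' (x + y) = (x - lamBC lam S' x) + (y - lamBC lam S' y) := by
        rw [map_add]; ring
      rw [this]
      exact p'.add_mem hx hy
  | tmul s r =>
      have h1 : s ⊗ₜ[S] r - lamBC lam S' (s ⊗ₜ[S] r) =
          (s ⊗ₜ[S] (1 : R)) * ((1 : S') ⊗ₜ[S] (r - lam r)) := by
        rw [lamBC_tmul, Algebra.TensorProduct.tmul_mul_tmul, mul_one, one_mul,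
          TensorProduct.tmul_sub]
      rw [h1]
      exact p'.mul_mem_left _ (hram _ hpr hover r)

end BaseChange

end Groth.Agent.H7.RInvB
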