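import Mathlib
import Groth.Prelude.Def_W4c4lgringredgrpLG
import Groth.Prelude.Def_W4c2azumayainvolQEt
import Groth.Agent.Lib.Helper7.RInvB

/-! Semilocal rings are LG rings; rings with involution over a local fixed ring are semilocal. -/

set_option autoImplicit false
open scoped TensorProduct

namespace Groth.Agent.H7.SemiLG

universe u v

theorem isLGRing_of_finite (R : Type u) [CommRing R] [Finite (MaximalSpectrum R)] :
    LGRing.IsLGRing R := by
  classical
  intro n f h
  have h1 : ∀ m : MaximalSpectrum R, ∃ s : Fin n → R, MvPolynomial.eval s f ∉ m.asIdeal := by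
    intro m
    haveI := m.isMaximal
    obtain ⟨s', hs'⟩ := h m.asIdeal
    choose s hs using fun i => Ideal.Quotient.mk_surjective (I := m.asIdeal) (s' i)
    refine ⟨s, fun hmem => ?_⟩
    have e1 : MvPolynomial.aeval (fun i => Ideal.Quotient.mk m.asIdeal (s i)) f =
        Ideal.Quotient.mk m.asIdeal (MvPolynomial.eval s f) := by
      have := MvPolynomial.aeval_algebraMap_apply (R := R) (A := R) (B := R ⧸ m.asIdeal) s f
      rw [MvPolynomial.aeval_eq_eval] at this
      exact this
    rw [show (fun i => Ideal.Quotient.mk m.asIdeal (s i)) = s' from funext hs] at e1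
    rw [e1, Ideal.Quotient.eq_zero_iff_mem.mpr hmem] at hs'
    exact not_isUnit_zero hs'
  choose s hs using h1
  have hcop : Pairwise (Function.onFun IsCoprime fun m : MaximalSpectrum R => m.asIdeal) := by
    intro m m' hne
    rw [Function.onFun, Ideal.isCoprime_iff_sup_eq]
    exact Ideal.IsMaximal.coprime_of_ne m.isMaximal m'.isMaximal
      (fun h => hne (MaximalSpectrum.ext h))
  have h2 : ∀ j : Fin n, ∃ t : R, ∀ m : MaximalSpectrum R, t - s m j ∈ m.asIdeal := fun j =>
    Ideal.exists_forall_sub_mem_ideal hcop (fun m => s m j)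
  choose t ht using h2
  refine ⟨t, ?_⟩
  rw [MvPolynomial.aeval_eq_eval]
  by_contra hnu
  obtain ⟨m, hm, hmem⟩ := exists_max_ideal_of_mem_nonunits hnu
  apply hs ⟨m, hm⟩
  have e2 : ∀ g : Fin n → R, Ideal.Quotient.mk m (MvPolynomial.eval g f) =
      MvPolynomial.eval₂ (Ideal.Quotient.mk m) (fun j => Ideal.Quotient.mk m (g j)) f := by
    intro g
    have := MvPolynomial.eval₂_comp_left (Ideal.Quotient.mk m) (RingHom.id R) g f
    rw [MvPolynomial.eval₂_id] at this
    exact this
  have e3 : (fun j => Ideal.Quotient.mk m (t j)) = fun j => Ideal.Quotient.mk m (s ⟨m, hm⟩ j) := by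
    funext j
    exact Ideal.Quotient.eq.mpr (ht j ⟨m, hm⟩)
  have e4 : Ideal.Quotient.mk m (MvPolynomial.eval (s ⟨m, hm⟩) f) = 0 := by
    rw [e2, ← e3, ← e2]
    exact Ideal.Quotient.eq_zero_iff_mem.mpr hmem
  exact Ideal.Quotient.eq_zero_iff_mem.mp e4

section Invol

variable {T : Type u} {R : Type v} [CommRing T] [CommRing R] [Algebra T R]
  (lam : R ≃ₐ[T] R) (hlam : ∀ r, lam (lam r) = r)
  (hfix : RInv.IsFixedRing T R lam.toRingEquiv)

include hlam hfix in
theorem eq_or_eq_comap [IsLocalRing T] (M M' : Ideal R) [M.IsMaximal] [M'.IsMaximal] :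
    M' = M ∨ M' = M.comap (lam : R →+* R) := by
  haveI := RInvB.isIntegral lam hlam hfix
  by_contra hcon
  push Not at hcon
  obtain ⟨h1, h2⟩ := hcon
  haveI hMc : (M.comap (lam : R →+* R)).IsMaximal :=
    Ideal.comap_isMaximal_of_surjective _ lam.surjective
  have h1' : ¬ M' ≤ M := fun hle =>
    h1 (Ideal.IsMaximal.eq_of_le inferInstance Ideal.IsPrime.ne_top' hle)
  have h2' : ¬ M' ≤ M.comap (lam : R →+* R) := fun hle =>
    h2 (Ideal.IsMaximal.eq_of_le inferInstance Ideal.IsPrime.ne_top' hle)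
  have h3 : ¬ ((M' : Set R) ⊆ (M : Set R) ∪ (M.comap (lam : R →+* R) : Set R)) := by
    rw [Ideal.subset_union]
    push Not
    exact ⟨h1', h2'⟩
  rw [Set.not_subset] at h3
  obtain ⟨x, hxM', hx⟩ := h3
  rw [Set.mem_union, not_or] at hx
  obtain ⟨hx1, hx2⟩ := hx
  obtain ⟨t, ht⟩ := RInvB.exists_nm lam hlam hfix x
  have hM'T : M'.comap (algebraMap T R) = IsLocalRing.maximalIdeal T :=
    IsLocalRing.eq_maximalIdeal (Ideal.isMaximal_comap_of_isIntegral_of_isMaximal M')
  have hMT : M.comap (algebraMap T R) = IsLocalRing.maximalIdeal T :=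
    IsLocalRing.eq_maximalIdeal (Ideal.isMaximal_comap_of_isIntegral_of_isMaximal M)
  have h4 : t ∈ M'.comap (algebraMap T R) := by
    rw [Ideal.mem_comap, ht]
    exact Ideal.mul_mem_right _ _ hxM'
  rw [hM'T, ← hMT, Ideal.mem_comap, ht] at h4
  rcases (inferInstance : M.IsPrime).mem_or_mem h4 with h5 | h5
  · exact hx1 h5
  · exact hx2 h5

include hlam hfix in
theorem finite_maximalSpectrum [IsLocalRing T] : Finite (MaximalSpectrum R) := by
  classical
  rcases isEmpty_or_nonempty (MaximalSpectrum R) with he | ⟨⟨M, hM⟩⟩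
  · infer_instance
  · apply Finite.of_injective (fun M' : MaximalSpectrum R => decide (M'.asIdeal = M))
    intro M₁ M₂ h
    haveI := M₁.isMaximal
    haveI := M₂.isMaximal
    simp only [decide_eq_decide] at h
    apply MaximalSpectrum.ext
    by_cases h1 : M₁.asIdeal = M
    · rw [h1, (h.mp h1)]
    · have h2 : ¬ M₂.asIdeal = M := fun h2 => h1 (h.mpr h2)
      rcases eq_or_eq_comap lam hlam hfix M M₁.asIdeal with h3 | h3
      · exact absurd h3 h1
      · rcases eq_or_eq_comap lam hlam hfix M M₂.asIdeal with h4 | h4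
        · exact absurd h4 h2
        · rw [h3, h4]

include hlam hfix in
theorem isLGRing [IsLocalRing T] : LGRing.IsLGRing R := by
  haveI := finite_maximalSpectrum lam hlam hfix
  exact isLGRing_of_finite R

end Invol

end Groth.Agent.H7.SemiLG
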