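import Mathlib
import Groth.Prelude.Def_AzInv
import Groth.Prelude.Def_W4c2azumayainvolQEt
import Groth.Agent.Lib.Helper7.SemiLG
import Groth.Agent.Lib.Helper7.AzBC
import Groth.Agent.Lib.Helper7.LG.AzInner
import Groth.Agent.Lib.Helper7.EtGlue

/-! Automorphisms of Azumaya algebras over a ring with involution are inner étale-locally
(even Zariski-locally) on the fixed ring. -/

set_option autoImplicit false
open scoped TensorProduct
open AzInv

namespace Groth.Agent.H7.InnLoc

universe u v w u'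

section A

variable (S : Type u) (R : Type v) [CommRing S] [CommRing R] [Algebra S R]
  (lam : R ≃ₐ[S] R) (hlam : ∀ r, lam (lam r) = r)
  (hfix : RInv.IsFixedRing S R lam.toRingEquiv)
  (A : Type w) [Ring A] [Algebra S A] [Algebra R A] [IsScalarTower S R A]

/-- the base change of an `R`-automorphism. -/
noncomputable abbrev bcAut (T : Type u') [CommRing T] [Algebra S T] (ψ : A ≃ₐ[R] A) :
    T ⊗[S] A ≃ₐ[T] T ⊗[S] A :=
  Algebra.TensorProduct.congr (AlgEquiv.refl : T ≃ₐ[T] T) (ψ.restrictScalars S)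

theorem bcAut_tmul (T : Type u') [CommRing T] [Algebra S T] (ψ : A ≃ₐ[R] A) (t : T) (a : A) :
    bcAut S R A T ψ (t ⊗ₜ[S] a) = t ⊗ₜ[S] ψ a := rfl

attribute [local instance] AzBC.algLC

include hlam hfix in
theorem inner_of_local (T : Type u') [CommRing T] [Algebra S T] [Module.Flat S T] [IsLocalRing T]
    (n : ℕ) (hA : IsAzumayaDeg R A n) (ψ : A ≃ₐ[R] A) :
    ∃ u : (T ⊗[S] A)ˣ, ∀ x : T ⊗[S] A, bcAut S R A T ψ x = ↑u * x * ↑u⁻¹ := by
  haveI : IsAzumaya (T ⊗[S] R) (T ⊗[S] A) := (AzBC.isAzumayaDeg_bc S R A T n hA).1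
  have hLG : LGRing.IsLGRing (T ⊗[S] R) :=
    SemiLG.isLGRing (RInvB.lamBC lam T) (RInvB.lamBC_lamBC lam hlam T)
      (RInvB.isFixedRing_lamBC lam hfix T)
  have hcomm : ∀ l : T ⊗[S] R, (bcAut S R A T ψ).toRingEquiv
      (algebraMap (T ⊗[S] R) (T ⊗[S] A) l) = algebraMap (T ⊗[S] R) (T ⊗[S] A) l := by
    intro l
    induction l using TensorProduct.induction_on with
    | zero => simp
    | add x y hx hy => rw [map_add, map_add, hx, hy]
    | tmul t r =>
        show bcAut S R A T ψ (t ⊗ₜ[S] algebraMap R A r) = t ⊗ₜ[S] algebraMap R A r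
        rw [bcAut_tmul, AlgEquiv.commutes]
  let φ : T ⊗[S] A ≃ₐ[T ⊗[S] R] T ⊗[S] A := AlgEquiv.ofRingEquiv hcomm
  obtain ⟨u, hu⟩ := LG.exists_inner_of_isLGRing hLG φ
  exact ⟨u, fun x => hu x⟩

end A

section B

variable (S : Type u) [CommRing S] (M : Type w) [AddCommGroup M] [Module S M]

theorem tmul_eq_of_smul_eq (T : Type u') [CommRing T] [Algebra S T] (c : S)
    (hc : IsUnit (algebraMap S T c)) (x y : M) (h : c • x = c • y) :
    (1 : T) ⊗ₜ[S] x = (1 : T) ⊗ₜ[S] y := by
  obtain ⟨w, hw⟩ := hc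
  have key : ∀ z : M, (1 : T) ⊗ₜ[S] z = (↑w⁻¹ : T) ⊗ₜ[S] (c • z) := by
    intro z
    rw [← TensorProduct.smul_tmul, Algebra.smul_def, ← hw, Units.mul_inv]
  rw [key x, key y, h]

theorem isLocalizedModule_mk (q : Ideal S) [q.IsPrime] :
    IsLocalizedModule q.primeCompl (TensorProduct.mk S (Localization.AtPrime q) M 1) :=
  (isLocalizedModule_iff_isBaseChange q.primeCompl (Localization.AtPrime q) _).mpr
    (TensorProduct.isBaseChange S M _)

end B

section Kill

variable (S : Type u) (R : Type v) [CommRing S] [CommRing R] [Algebra S R]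
  (A : Type w) [AddCommGroup A] [Module R A]
  (N : Type w) [AddCommGroup N] [Module S N] [Module R N] [IsScalarTower S R N]

theorem exists_kill [Module.Finite R A] (q : Ideal S) [q.IsPrime] (D : A →ₗ[R] N)
    (hD : ∀ x : A, (1 : Localization.AtPrime q) ⊗ₜ[S] D x = 0) :
    ∃ d : S, d ∉ q ∧ ∀ x : A, d • D x = 0 := by
  classical
  haveI := isLocalizedModule_mk S N q
  obtain ⟨F, hF⟩ := (Module.Finite.fg_top : (⊤ : Submodule R A).FG)
  have h1 : ∀ a : A, ∃ c : S, c ∉ q ∧ c • D a = 0 := by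
    intro a
    have h0 : TensorProduct.mk S (Localization.AtPrime q) N 1 (D a) =
        TensorProduct.mk S (Localization.AtPrime q) N 1 0 := by
      rw [map_zero]
      exact hD a
    obtain ⟨c, hc⟩ := IsLocalizedModule.exists_of_eq (S := q.primeCompl) h0
    refine ⟨c.1, c.2, ?_⟩
    rw [smul_zero] at hc
    exact hc
  choose c hc1 hc2 using h1
  refine ⟨∏ a ∈ F, c a, ?_, ?_⟩
  · intro hmem
    obtain ⟨a, _, ha⟩ := (Ideal.IsPrime.prod_mem_iff).mp hmem
    exact hc1 a ha
  · intro x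
    have hx : x ∈ Submodule.span R (F : Set A) := by rw [hF]; trivial
    induction hx using Submodule.span_induction with
    | mem a ha =>
        rw [← Finset.mul_prod_erase F c ha, mul_comm, mul_smul, hc2, smul_zero]
    | zero => rw [map_zero, smul_zero]
    | add x y _ _ hx hy => rw [map_add, smul_add, hx, hy, add_zero]
    | smul r x _ hx =>
        rw [map_smul, ← algebraMap_smul R (∏ a ∈ F, c a) (r • D x), smul_smul, mul_comm,
          ← smul_smul, algebraMap_smul, hx, smul_zero]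

end Kill

section Spread

variable (S : Type u) (R : Type v) [CommRing S] [CommRing R] [Algebra S R]
  (A : Type w) [Ring A] [Algebra S A] [Algebra R A] [IsScalarTower S R A]

theorem spread [Module.Finite R A] (q : Ideal S) [q.IsPrime] (ψ : A ≃ₐ[R] A)
    (u : (Localization.AtPrime q ⊗[S] A)ˣ)
    (hu : ∀ x, bcAut S R A (Localization.AtPrime q) ψ x = ↑u * x * ↑u⁻¹) :
    ∃ g : S, g ∉ q ∧ ∃ u' : (Localization.Away g ⊗[S] A)ˣ,
      ∀ x, bcAut S R A (Localization.Away g) ψ x = ↑u' * x * ↑u'⁻¹ := by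
  classical
  haveI := isLocalizedModule_mk S A q
  obtain ⟨⟨a, s⟩, hs⟩ := IsLocalizedModule.surj q.primeCompl
    (TensorProduct.mk S (Localization.AtPrime q) A 1) (u : Localization.AtPrime q ⊗[S] A)
  obtain ⟨⟨b, s'⟩, hs'⟩ := IsLocalizedModule.surj q.primeCompl
    (TensorProduct.mk S (Localization.AtPrime q) A 1)
    ((u⁻¹ : (Localization.AtPrime q ⊗[S] A)ˣ) : Localization.AtPrime q ⊗[S] A)
  simp only [TensorProduct.mk_apply, Submonoid.smul_def] at hs hs'
  have hmul : ∀ x y : A, (1 : Localization.AtPrime q) ⊗ₜ[S] (x * y) =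
      ((1 : Localization.AtPrime q) ⊗ₜ[S] x) * ((1 : Localization.AtPrime q) ⊗ₜ[S] y) := by
    intro x y
    rw [Algebra.TensorProduct.tmul_mul_tmul, one_mul]
  have hone : (1 : Localization.AtPrime q) ⊗ₜ[S] ((s.1 * s'.1) • (1 : A)) =
      (s.1 * s'.1) • (1 : Localization.AtPrime q ⊗[S] A) := by
    rw [TensorProduct.tmul_smul, Algebra.TensorProduct.one_def]
  have hab : TensorProduct.mk S (Localization.AtPrime q) A 1 (a * b) =
      TensorProduct.mk S (Localization.AtPrime q) A 1 ((s.1 * s'.1) • (1 : A)) := by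
    simp only [TensorProduct.mk_apply]
    rw [hmul, ← hs, ← hs', smul_mul_smul_comm, Units.mul_inv, hone]
  have hba : TensorProduct.mk S (Localization.AtPrime q) A 1 (b * a) =
      TensorProduct.mk S (Localization.AtPrime q) A 1 ((s.1 * s'.1) • (1 : A)) := by
    simp only [TensorProduct.mk_apply]
    rw [hmul, ← hs, ← hs', smul_mul_smul_comm, Units.inv_mul, hone, mul_comm s'.1]
  obtain ⟨c, hc⟩ := IsLocalizedModule.exists_of_eq (S := q.primeCompl) hab
  obtain ⟨c', hc'⟩ := IsLocalizedModule.exists_of_eq (S := q.primeCompl) hba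
  simp only [Submonoid.smul_def] at hc hc'
  let D : A →ₗ[R] A := (LinearMap.mulRight R a).comp ψ.toLinearMap - LinearMap.mulLeft R a
  have hDx : ∀ x, D x = ψ x * a - a * x := fun x => rfl
  have hD : ∀ x : A, (1 : Localization.AtPrime q) ⊗ₜ[S] D x = 0 := by
    intro x
    rw [hDx, TensorProduct.tmul_sub, hmul, hmul, ← hs]
    have h1 : (1 : Localization.AtPrime q) ⊗ₜ[S] ψ x =
        ↑u * ((1 : Localization.AtPrime q) ⊗ₜ[S] x) * ↑u⁻¹ := by
      rw [← hu, bcAut_tmul]
    rw [h1, mul_smul_comm, smul_mul_assoc, mul_assoc, mul_assoc, Units.inv_mul, mul_one, sub_self]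
  obtain ⟨d, hd, hdD⟩ := exists_kill S R A A q D hD
  let g : S := s.1 * s'.1 * c.1 * c'.1 * d
  have hg : g ∉ q := by
    intro hmem
    rcases (inferInstance : q.IsPrime).mem_or_mem hmem with h | h
    · rcases (inferInstance : q.IsPrime).mem_or_mem h with h | h
      · rcases (inferInstance : q.IsPrime).mem_or_mem h with h | h
        · rcases (inferInstance : q.IsPrime).mem_or_mem h with h | h
          · exact s.2 h
          · exact s'.2 h
        · exact c.2 h
      · exact c'.2 h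
    · exact hd h
  refine ⟨g, hg, ?_⟩
  have hunit : ∀ e : S, e ∣ g → IsUnit (algebraMap S (Localization.Away g) e) := fun e he =>
    isUnit_of_dvd_unit (map_dvd _ he) (IsLocalization.Away.algebraMap_isUnit g)
  have hmul' : ∀ (t t' : Localization.Away g) (x y : A), (t * t') ⊗ₜ[S] (x * y) =
      (t ⊗ₜ[S] x) * (t' ⊗ₜ[S] y) := by
    intro t t' x y
    rw [Algebra.TensorProduct.tmul_mul_tmul]
  have hab' : (1 : Localization.Away g) ⊗ₜ[S] (a * b) =
      (1 : Localization.Away g) ⊗ₜ[S] ((s.1 * s'.1) • (1 : A)) :=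
    tmul_eq_of_smul_eq S A _ c.1 (hunit _ ⟨s.1 * s'.1 * c'.1 * d, by simp only [g]; ring⟩) _ _ hc
  have hba' : (1 : Localization.Away g) ⊗ₜ[S] (b * a) =
      (1 : Localization.Away g) ⊗ₜ[S] ((s.1 * s'.1) • (1 : A)) :=
    tmul_eq_of_smul_eq S A _ c'.1 (hunit _ ⟨s.1 * s'.1 * c.1 * d, by simp only [g]; ring⟩) _ _ hc'
  have hw := hunit (s.1 * s'.1) ⟨c.1 * c'.1 * d, by simp only [g]; ring⟩
  obtain ⟨w, hw⟩ := hw
  have e1 : ∀ z : A, (↑w⁻¹ : Localization.Away g) ⊗ₜ[S] z =
      (↑w⁻¹ : Localization.Away g) • ((1 : Localization.Away g) ⊗ₜ[S] z) := by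
    intro z
    rw [TensorProduct.smul_tmul', smul_eq_mul, mul_one]
  have e2 : (1 : Localization.Away g) ⊗ₜ[S] ((s.1 * s'.1) • (1 : A)) =
      (w : Localization.Away g) • (1 : Localization.Away g ⊗[S] A) := by
    rw [TensorProduct.tmul_smul, ← Algebra.TensorProduct.one_def,
      ← algebraMap_smul (Localization.Away g) (s.1 * s'.1) (1 : Localization.Away g ⊗[S] A), hw]
  let u' : (Localization.Away g ⊗[S] A)ˣ :=
    ⟨(1 : Localization.Away g) ⊗ₜ[S] a, (↑w⁻¹ : Localization.Away g) ⊗ₜ[S] b, by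
      rw [← hmul', one_mul, e1, hab', e2, smul_smul, Units.inv_mul, one_smul], by
      rw [← hmul', mul_one, e1, hba', e2, smul_smul, Units.inv_mul, one_smul]⟩
  have hconj : ∀ y : Localization.Away g ⊗[S] A,
      bcAut S R A (Localization.Away g) ψ y * ((1 : Localization.Away g) ⊗ₜ[S] a) =
        ((1 : Localization.Away g) ⊗ₜ[S] a) * y := by
    intro y
    induction y using TensorProduct.induction_on with
    | zero => simp
    | add y z hy hz => rw [map_add, add_mul, mul_add, hy, hz]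
    | tmul t x =>
        rw [bcAut_tmul, ← hmul', ← hmul', mul_one, one_mul, ← sub_eq_zero, ← TensorProduct.tmul_sub,
          ← hDx]
        have h0 : (1 : Localization.Away g) ⊗ₜ[S] D x = (1 : Localization.Away g) ⊗ₜ[S] (0 : A) :=
          tmul_eq_of_smul_eq S A _ d (hunit _ ⟨s.1 * s'.1 * c.1 * c'.1, by simp only [g]; ring⟩) _ _
            (by rw [hdD, smul_zero])
        have h1 : t ⊗ₜ[S] D x = t • ((1 : Localization.Away g) ⊗ₜ[S] D x) := by
          rw [TensorProduct.smul_tmul', smul_eq_mul, mul_one]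
        rw [h1, h0, TensorProduct.tmul_zero, smul_zero]
  refine ⟨u', fun y => ?_⟩
  have := hconj y
  calc bcAut S R A (Localization.Away g) ψ y
      = bcAut S R A (Localization.Away g) ψ y * ↑u' * ↑u'⁻¹ := by
        rw [mul_assoc, Units.mul_inv, mul_one]
    _ = ↑u' * y * ↑u'⁻¹ := by rw [show bcAut S R A (Localization.Away g) ψ y * ↑u' = ↑u' * y from this]

end Spread

section Main

variable (S : Type u) (R : Type v) [CommRing S] [CommRing R] [Algebra S R]
  (lam : R ≃ₐ[S] R) (hlam : ∀ r, lam (lam r) = r)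
  (hfix : RInv.IsFixedRing S R lam.toRingEquiv)
  (A : Type w) [Ring A] [Algebra S A] [Algebra R A] [IsScalarTower S R A]

/-- `ψ` becomes inner over `S'`. -/
def InnerOver (ψ : A ≃ₐ[R] A) (S' : Type u') [CommRing S'] [Algebra S S'] : Prop :=
  ∃ u : (S' ⊗[S] A)ˣ, ∀ x : S' ⊗[S] A, bcAut S R A S' ψ x = ↑u * x * ↑u⁻¹

theorem piIso_bcAut (ψ : A ≃ₐ[R] A) {ι : Type*} [Fintype ι] [DecidableEq ι] (S' : ι → Type*)
    [∀ i, CommRing (S' i)] [∀ i, Algebra S (S' i)] (x : (Π i, S' i) ⊗[S] A) (i : ι) :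
    EtGlue.piIso S A S' (bcAut S R A (Π i, S' i) ψ x) i =
      bcAut S R A (S' i) ψ (EtGlue.piIso S A S' x i) := by
  induction x using TensorProduct.induction_on with
  | zero => simp
  | add x y hx hy => simp only [map_add, Pi.add_apply, hx, hy]
  | tmul t a => rw [bcAut_tmul, EtGlue.piIso_tmul, EtGlue.piIso_tmul, bcAut_tmul]

theorem innerOver_pi (ψ : A ≃ₐ[R] A) (ι : Type u) [Finite ι] (S' : ι → Type u)
    [∀ i, CommRing (S' i)] [∀ i, Algebra S (S' i)] (h : ∀ i, InnerOver S R A ψ (S' i)) :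
    InnerOver S R A ψ (Π i, S' i) := by
  classical
  cases nonempty_fintype ι
  choose u hu using h
  let U : (Π i, S' i ⊗[S] A)ˣ := MulEquiv.piUnits.symm u
  refine ⟨Units.map (EtGlue.piIso S A S').symm.toMonoidHom U, fun x => ?_⟩
  apply (EtGlue.piIso S A S').injective
  funext i
  rw [piIso_bcAut, hu, map_mul, map_mul]
  have h1 : (EtGlue.piIso S A S') ↑(Units.map (EtGlue.piIso S A S').symm.toMonoidHom U) = ↑U := by
    show (EtGlue.piIso S A S') ((EtGlue.piIso S A S').symm ↑U) = ↑U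
    rw [RingEquiv.apply_symm_apply]
  have h2 : (EtGlue.piIso S A S') ↑(Units.map (EtGlue.piIso S A S').symm.toMonoidHom U)⁻¹ =
      ↑U⁻¹ := by
    show (EtGlue.piIso S A S') ((EtGlue.piIso S A S').symm ↑U⁻¹) = ↑U⁻¹
    rw [RingEquiv.apply_symm_apply]
  rw [h1, h2]
  rfl

include hlam hfix in
theorem main (n : ℕ) (hn : 0 < n) (hA : IsAzumayaDeg R A n) (ψ : A ≃ₐ[R] A) :
    ∃ (S' : Type u) (_ : CommRing S') (_ : Algebra S S') (_ : Algebra.Etale S S')
      (_ : Module.FaithfullyFlat S S') (u : (S' ⊗[S] A)ˣ),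
      ∀ x : S' ⊗[S] A,
        Algebra.TensorProduct.congr (AlgEquiv.refl : S' ≃ₐ[S'] S') (ψ.restrictScalars S) x =
          ↑u * x * ↑u⁻¹ := by
  haveI : IsAzumaya R A := hA.1
  haveI : Module.Finite R A := inferInstance
  apply EtGlue.glue S (fun S' _ _ => InnerOver S R A ψ S')
  · intro ι _ S' _ _ h
    exact innerOver_pi S R A ψ ι S' h
  · intro q
    obtain ⟨u, hu⟩ := inner_of_local S R lam hlam hfix A (Localization.AtPrime q.asIdeal) n hA ψ
    obtain ⟨g, hg, u', hu'⟩ := spread S R A q.asIdeal ψ u hu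
    refine ⟨Localization.Away g, inferInstance, inferInstance,
      Algebra.Etale.of_isLocalizationAway g, ?_, u', hu'⟩
    have h1 : q ∈ Set.range (PrimeSpectrum.comap (algebraMap S (Localization.Away g))) := by
      rw [PrimeSpectrum.localization_away_comap_range (Localization.Away g) g]
      exact hg
    exact h1

end Main

end Groth.Agent.H7.InnLoc
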