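import Mathlib
import Groth.Prelude.Def_AzInv
import Groth.Prelude.Def_W4c2azumayainvolQEt
import Groth.Agent.Lib.Helper7.InnLoc
import Groth.Agent.Lib.Helper7.AzQE1
import Groth.Agent.Lib.Helper7.LG.AzSep

/-! Automorphisms of Azumaya algebras with involution are conjugation by a unitary element
étale-locally on the fixed ring. -/

set_option autoImplicit false
open scoped TensorProduct
open AzInv

namespace Groth.Agent.H7.UnitLoc

universe u v w u' u''

open InnLoc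

theorem central_inv {M : Type*} [Monoid M] (z z' : M) (h1 : z * z' = 1) (h2 : z' * z = 1)
    (hz : ∀ x, z * x = x * z) : ∀ x, z' * x = x * z' := by
  intro x
  calc z' * x = z' * x * (z * z') := by rw [h1, mul_one]
    _ = z' * (x * z) * z' := by simp only [mul_assoc]
    _ = z' * (z * x) * z' := by rw [hz]
    _ = (z' * z) * x * z' := by simp only [mul_assoc]
    _ = x * z' := by rw [h2, one_mul]

section U1

variable (S : Type u) (R : Type v) [CommRing S] [CommRing R] [Algebra S R]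
  (lam : R ≃ₐ[S] R) (hlam : ∀ r, lam (lam r) = r)
  (hfix : RInv.IsFixedRing S R lam.toRingEquiv)
  (A : Type w) [Ring A] [Algebra S A] [Algebra R A] [IsScalarTower S R A]
  (t : LamInv R A lam) (S' : Type u') [CommRing S'] [Algebra S S']

attribute [local instance] AzBC.algLC

theorem bc_iotaL (l : S' ⊗[S] R) :
    t.bc S lam S' (AzBC.iotaL S R A S' l) = AzBC.iotaL S R A S' (RInvB.lamBC lam S' l) := by
  induction l using TensorProduct.induction_on with
  | zero => simp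
  | add x y hx hy => rw [map_add, map_add, hx, hy, map_add, map_add]
  | tmul s r =>
      rw [AzBC.iotaL_tmul, LamInv.bc_tmul, RInvB.lamBC_tmul, AzBC.iotaL_tmul, t.map_algebraMap]

theorem bcAut_bc (ψ : A ≃ₐ[R] A) (hψ : IsInvHom t t ψ) (x : S' ⊗[S] A) :
    bcAut S R A S' ψ (t.bc S lam S' x) = t.bc S lam S' (bcAut S R A S' ψ x) := by
  induction x using TensorProduct.induction_on with
  | zero => simp
  | add x y hx hy => rw [map_add, map_add, hx, hy, map_add, map_add]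
  | tmul s a => rw [LamInv.bc_tmul, bcAut_tmul, bcAut_tmul, LamInv.bc_tmul, hψ a]

include hfix in
theorem algebraMap_injective [Module.Flat S S'] (n : ℕ) (hA : IsAzumayaDeg R A n) :
    Function.Injective (algebraMap S' (S' ⊗[S] A)) := by
  haveI : IsAzumaya (S' ⊗[S] R) (S' ⊗[S] A) := (AzBC.isAzumayaDeg_bc S R A S' n hA).1
  have h1 : Function.Injective (algebraMap (S' ⊗[S] R) (S' ⊗[S] A)) :=
    FaithfulSMul.algebraMap_injective _ _
  have h2 : Function.Injective (algebraMap S' (S' ⊗[S] R)) :=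
    (RInvB.isFixedRing_lamBC lam hfix S').1
  rw [IsScalarTower.algebraMap_eq S' (S' ⊗[S] R) (S' ⊗[S] A)]
  exact h1.comp h2

include hfix in
/-- central, `t`-fixed elements come from `S'`. -/
theorem exists_of_central_fixed [Module.Flat S S'] (n : ℕ) (hA : IsAzumayaDeg R A n)
    (z : S' ⊗[S] A) (hz : ∀ x, z * x = x * z) (htz : t.bc S lam S' z = z) :
    ∃ s : S', z = algebraMap S' (S' ⊗[S] A) s := by
  haveI : IsAzumaya (S' ⊗[S] R) (S' ⊗[S] A) := (AzBC.isAzumayaDeg_bc S R A S' n hA).1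
  obtain ⟨l, hl⟩ := LG.center_azumaya (S' ⊗[S] R) (S' ⊗[S] A) z hz
  have h1 : Function.Injective (algebraMap (S' ⊗[S] R) (S' ⊗[S] A)) :=
    FaithfulSMul.algebraMap_injective _ _
  have h2 : RInvB.lamBC lam S' l = l := by
    apply h1
    show AzBC.iotaL S R A S' (RInvB.lamBC lam S' l) = AzBC.iotaL S R A S' l
    rw [← bc_iotaL]
    show t.bc S lam S' (algebraMap (S' ⊗[S] R) (S' ⊗[S] A) l) = algebraMap (S' ⊗[S] R) (S' ⊗[S] A) l
    rw [← hl, htz]
  obtain ⟨s, hs⟩ := ((RInvB.isFixedRing_lamBC lam hfix S').2 l).mp h2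
  refine ⟨s, ?_⟩
  rw [hl, ← hs, ← IsScalarTower.algebraMap_apply]

include hlam hfix in
theorem exists_unit_of_commute [Module.Flat S S'] (n : ℕ) (hA : IsAzumayaDeg R A n)
    (ψ : A ≃ₐ[R] A) (hψ : IsInvHom t t ψ) (u : (S' ⊗[S] A)ˣ)
    (hu : ∀ x, bcAut S R A S' ψ x = ↑u * x * ↑u⁻¹) :
    ∃ s : S'ˣ, t.bc S lam S' (↑u : S' ⊗[S] A) * ↑u = algebraMap S' (S' ⊗[S] A) ↑s := by
  have hinv1 : t.bc S lam S' (↑u : S' ⊗[S] A) * t.bc S lam S' (↑u⁻¹ : S' ⊗[S] A) = 1 := by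
    rw [← AzQE.bc_mul, Units.inv_mul, AzQE.bc_one]
  have hinv2 : t.bc S lam S' (↑u⁻¹ : S' ⊗[S] A) * t.bc S lam S' (↑u : S' ⊗[S] A) = 1 := by
    rw [← AzQE.bc_mul, Units.mul_inv, AzQE.bc_one]
  have hcent : ∀ x, (t.bc S lam S' (↑u : S' ⊗[S] A) * ↑u) * x =
      x * (t.bc S lam S' (↑u : S' ⊗[S] A) * ↑u) := by
    intro x
    obtain ⟨y, rfl⟩ : ∃ y, t.bc S lam S' y = x := ⟨t.bc S lam S' x, AzQE.bc_bc lam t S' hlam x⟩
    have h1 : (↑u : S' ⊗[S] A) * t.bc S lam S' y =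
        bcAut S R A S' ψ (t.bc S lam S' y) * ↑u := by
      rw [hu, mul_assoc, Units.inv_mul, mul_one]
    rw [mul_assoc, h1, bcAut_bc S R lam A t S' ψ hψ, hu, AzQE.bc_mul, AzQE.bc_mul]
    simp only [mul_assoc]
    rw [← mul_assoc (t.bc S lam S' (↑u : S' ⊗[S] A)), hinv1, one_mul]
  have hfixz : t.bc S lam S' (t.bc S lam S' (↑u : S' ⊗[S] A) * ↑u) =
      t.bc S lam S' (↑u : S' ⊗[S] A) * ↑u := by
    rw [AzQE.bc_mul, AzQE.bc_bc lam t S' hlam]
  have hcent' : ∀ x, ((↑u⁻¹ : S' ⊗[S] A) * t.bc S lam S' (↑u⁻¹ : S' ⊗[S] A)) * x =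
      x * ((↑u⁻¹ : S' ⊗[S] A) * t.bc S lam S' (↑u⁻¹ : S' ⊗[S] A)) := by
    intro x
    have hzz : (t.bc S lam S' (↑u : S' ⊗[S] A) * ↑u) *
        ((↑u⁻¹ : S' ⊗[S] A) * t.bc S lam S' (↑u⁻¹ : S' ⊗[S] A)) = 1 := by
      rw [mul_assoc, Units.mul_inv_cancel_left, hinv1]
    have hzz' : ((↑u⁻¹ : S' ⊗[S] A) * t.bc S lam S' (↑u⁻¹ : S' ⊗[S] A)) *
        (t.bc S lam S' (↑u : S' ⊗[S] A) * ↑u) = 1 := by
      rw [mul_assoc, ← mul_assoc (t.bc S lam S' (↑u⁻¹ : S' ⊗[S] A)), hinv2, one_mul, Units.inv_mul]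
    exact central_inv _ _ hzz hzz' hcent x
  have hfixz' : t.bc S lam S' ((↑u⁻¹ : S' ⊗[S] A) * t.bc S lam S' (↑u⁻¹ : S' ⊗[S] A)) =
      (↑u⁻¹ : S' ⊗[S] A) * t.bc S lam S' (↑u⁻¹ : S' ⊗[S] A) := by
    rw [AzQE.bc_mul, AzQE.bc_bc lam t S' hlam]
  obtain ⟨s, hs⟩ := exists_of_central_fixed S R lam hfix A t S' n hA _ hcent hfixz
  obtain ⟨s', hs'⟩ := exists_of_central_fixed S R lam hfix A t S' n hA _ hcent' hfixz'
  have hss' : s * s' = 1 := by
    apply algebraMap_injective S R lam hfix A S' n hA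
    rw [map_mul, map_one, ← hs, ← hs', mul_assoc, Units.mul_inv_cancel_left, hinv1]
  exact ⟨⟨s, s', hss', by rw [mul_comm]; exact hss'⟩, hs⟩

end U1

section U2

variable (S : Type u) (R : Type v) [CommRing S] [CommRing R] [Algebra S R]
  (lam : R ≃ₐ[S] R)
  (A : Type w) [Ring A] [Algebra S A] [Algebra R A] [IsScalarTower S R A]
  (t : LamInv R A lam)
  (S₁ : Type u') (S₂ : Type u'') [CommRing S₁] [CommRing S₂] [Algebra S S₁] [Algebra S S₂]
  (f : S₁ →ₐ[S] S₂)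

/-- change of the étale neighbourhood. -/
noncomputable def bcMap : S₁ ⊗[S] A →ₐ[S] S₂ ⊗[S] A :=
  Algebra.TensorProduct.map f (AlgHom.id S A)

theorem bcMap_tmul (s : S₁) (a : A) : bcMap S A S₁ S₂ f (s ⊗ₜ[S] a) = f s ⊗ₜ[S] a := rfl

theorem bcMap_bcAut (ψ : A ≃ₐ[R] A) (x : S₁ ⊗[S] A) :
    bcMap S A S₁ S₂ f (bcAut S R A S₁ ψ x) = bcAut S R A S₂ ψ (bcMap S A S₁ S₂ f x) := by
  induction x using TensorProduct.induction_on with
  | zero => simp
  | add x y hx hy => rw [map_add, map_add, hx, hy, map_add, map_add]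
  | tmul s a => rw [bcAut_tmul, bcMap_tmul, bcMap_tmul, bcAut_tmul]

theorem bcMap_bc (x : S₁ ⊗[S] A) :
    bcMap S A S₁ S₂ f (t.bc S lam S₁ x) = t.bc S lam S₂ (bcMap S A S₁ S₂ f x) := by
  induction x using TensorProduct.induction_on with
  | zero => simp
  | add x y hx hy => rw [map_add, map_add, hx, hy, map_add, map_add]
  | tmul s a => rw [LamInv.bc_tmul, bcMap_tmul, bcMap_tmul, LamInv.bc_tmul]

theorem bcMap_algebraMap (s : S₁) :
    bcMap S A S₁ S₂ f (algebraMap S₁ (S₁ ⊗[S] A) s) = algebraMap S₂ (S₂ ⊗[S] A) (f s) := by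
  rw [Algebra.TensorProduct.algebraMap_apply, Algebra.TensorProduct.algebraMap_apply,
    Algebra.algebraMap_self, RingHom.id_apply, Algebra.algebraMap_self, RingHom.id_apply, bcMap_tmul]

theorem conj_map (ψ : A ≃ₐ[R] A) (u : (S₁ ⊗[S] A)ˣ)
    (hu : ∀ x, bcAut S R A S₁ ψ x = ↑u * x * ↑u⁻¹) (y : S₂ ⊗[S] A) :
    bcAut S R A S₂ ψ y * bcMap S A S₁ S₂ f ↑u = bcMap S A S₁ S₂ f ↑u * y := by
  induction y using TensorProduct.induction_on with
  | zero => simp
  | add x y hx hy => rw [map_add, add_mul, mul_add, hx, hy]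
  | tmul s a =>
      have h1 : ∀ b : A, s ⊗ₜ[S] b =
          algebraMap S₂ (S₂ ⊗[S] A) s * bcMap S A S₁ S₂ f ((1 : S₁) ⊗ₜ[S] b) := by
        intro b
        rw [Algebra.TensorProduct.algebraMap_apply, Algebra.algebraMap_self, RingHom.id_apply,
          bcMap_tmul, map_one, Algebra.TensorProduct.tmul_mul_tmul, mul_one, one_mul]
      have h2 : (1 : S₁) ⊗ₜ[S] ψ a * ↑u = ↑u * (1 : S₁) ⊗ₜ[S] a := by
        rw [← bcAut_tmul, hu, mul_assoc, Units.inv_mul, mul_one]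
      rw [bcAut_tmul, h1 (ψ a), h1 a, mul_assoc, ← map_mul, h2, map_mul, ← mul_assoc, ← mul_assoc,
        Algebra.commutes]

end U2

section Main

variable (S : Type u) (R : Type v) [CommRing S] [CommRing R] [Algebra S R]
  (lam : R ≃ₐ[S] R) (hlam : ∀ r, lam (lam r) = r)
  (hfix : RInv.IsFixedRing S R lam.toRingEquiv)
  (A : Type w) [Ring A] [Algebra S A] [Algebra R A] [IsScalarTower S R A]
  (t : LamInv R A lam)

/-- `ψ` is conjugation by a unitary element over `S'`. -/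
def UnitaryOver (ψ : A ≃ₐ[R] A) (S' : Type u') [CommRing S'] [Algebra S S'] : Prop :=
  ∃ u : (S' ⊗[S] A)ˣ, t.bc S lam S' (↑u : S' ⊗[S] A) * ↑u = 1 ∧
    ∀ x : S' ⊗[S] A, bcAut S R A S' ψ x = ↑u * x * ↑u⁻¹

theorem piIso_bc {ι : Type*} [Fintype ι] [DecidableEq ι] (S' : ι → Type*)
    [∀ i, CommRing (S' i)] [∀ i, Algebra S (S' i)] (x : (Π i, S' i) ⊗[S] A) (i : ι) :
    EtGlue.piIso S A S' (t.bc S lam (Π i, S' i) x) i =
      t.bc S lam (S' i) (EtGlue.piIso S A S' x i) := by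
  induction x using TensorProduct.induction_on with
  | zero => simp
  | add x y hx hy => simp only [map_add, Pi.add_apply, hx, hy]
  | tmul s a => rw [LamInv.bc_tmul, EtGlue.piIso_tmul, EtGlue.piIso_tmul, LamInv.bc_tmul]

theorem unitaryOver_pi (ψ : A ≃ₐ[R] A) (ι : Type u) [Finite ι] (S' : ι → Type u)
    [∀ i, CommRing (S' i)] [∀ i, Algebra S (S' i)] (h : ∀ i, UnitaryOver S R lam A t ψ (S' i)) :
    UnitaryOver S R lam A t ψ (Π i, S' i) := by
  classical
  cases nonempty_fintype ι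
  choose u hu1 hu using h
  let U : (Π i, S' i ⊗[S] A)ˣ := MulEquiv.piUnits.symm u
  have h1 : (EtGlue.piIso S A S') ↑(Units.map (EtGlue.piIso S A S').symm.toMonoidHom U) = ↑U := by
    show (EtGlue.piIso S A S') ((EtGlue.piIso S A S').symm ↑U) = ↑U
    rw [RingEquiv.apply_symm_apply]
  have h2 : (EtGlue.piIso S A S') ↑(Units.map (EtGlue.piIso S A S').symm.toMonoidHom U)⁻¹ =
      ↑U⁻¹ := by
    show (EtGlue.piIso S A S') ((EtGlue.piIso S A S').symm ↑U⁻¹) = ↑U⁻¹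
    rw [RingEquiv.apply_symm_apply]
  refine ⟨Units.map (EtGlue.piIso S A S').symm.toMonoidHom U, ?_, fun x => ?_⟩
  · apply (EtGlue.piIso S A S').injective
    funext i
    rw [map_mul, map_one, Pi.mul_apply, piIso_bc, h1]
    exact hu1 i
  · apply (EtGlue.piIso S A S').injective
    funext i
    rw [piIso_bcAut, hu, map_mul, map_mul, h1, h2]
    rfl

theorem bc_algebraMap (S' : Type u') [CommRing S'] [Algebra S S'] (y : S') :
    t.bc S lam S' (algebraMap S' (S' ⊗[S] A) y) = algebraMap S' (S' ⊗[S] A) y := by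
  rw [Algebra.TensorProduct.algebraMap_apply, Algebra.algebraMap_self, RingHom.id_apply,
    LamInv.bc_tmul, t.map_one]

include hlam hfix in
theorem main
    (hsq : ∀ (S₁ : Type u) [CommRing S₁] [Algebra S S₁] [Algebra.Etale S S₁] (x : S₁ˣ),
      ∃ (S₂ : Type u) (_ : CommRing S₂) (_ : Algebra S₁ S₂) (_ : Algebra.Etale S₁ S₂)
        (_ : Module.FaithfullyFlat S₁ S₂) (y : S₂), y * y = algebraMap S₁ S₂ ↑x)
    (n : ℕ) (hA : IsAzumayaDeg R A n) (ψ : A ≃ₐ[R] A) (hψ : IsInvHom t t ψ) :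
    ∃ (S' : Type u) (_ : CommRing S') (_ : Algebra S S') (_ : Algebra.Etale S S')
      (_ : Module.FaithfullyFlat S S') (u : (S' ⊗[S] A)ˣ),
      t.bc S lam S' (↑u : S' ⊗[S] A) * ↑u = 1 ∧
        ∀ x : S' ⊗[S] A,
          Algebra.TensorProduct.congr (AlgEquiv.refl : S' ≃ₐ[S'] S') (ψ.restrictScalars S) x =
            ↑u * x * ↑u⁻¹ := by
  haveI : IsAzumaya R A := hA.1
  haveI : Module.Finite R A := inferInstance
  apply EtGlue.glue S (fun S' _ _ => UnitaryOver S R lam A t ψ S')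
  · intro ι _ S' _ _ h
    exact unitaryOver_pi S R lam A t ψ ι S' h
  · intro q
    obtain ⟨u, hu⟩ := inner_of_local S R lam hlam hfix A (Localization.AtPrime q.asIdeal) n hA ψ
    obtain ⟨g, hg, u₁, hu₁⟩ := spread S R A q.asIdeal ψ u hu
    haveI : Algebra.Etale S (Localization.Away g) := Algebra.Etale.of_isLocalizationAway g
    obtain ⟨s, hs⟩ := exists_unit_of_commute S R lam hlam hfix A t (Localization.Away g) n hA ψ hψ
      u₁ hu₁
    obtain ⟨S₂, _, _, het₂, hff₂, y, hy⟩ := hsq (Localization.Away g) s⁻¹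
    letI : Algebra S S₂ := ((algebraMap (Localization.Away g) S₂).comp
      (algebraMap S (Localization.Away g))).toAlgebra
    haveI : IsScalarTower S (Localization.Away g) S₂ := IsScalarTower.of_algebraMap_eq (fun _ => rfl)
    haveI : Algebra.Etale S S₂ := Algebra.Etale.comp S (Localization.Away g) S₂
    refine ⟨S₂, inferInstance, inferInstance, inferInstance, ?_, ?_⟩
    · have h1 : q ∈ Set.range (PrimeSpectrum.comap (algebraMap S (Localization.Away g))) := by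
        rw [PrimeSpectrum.localization_away_comap_range (Localization.Away g) g]
        exact hg
      obtain ⟨q₁, hq₁⟩ := h1
      obtain ⟨q₂, hq₂⟩ := PrimeSpectrum.comap_surjective_of_faithfullyFlat
        (A := Localization.Away g) (B := S₂) q₁
      refine ⟨q₂, ?_⟩
      rw [← hq₁, ← hq₂]
      rfl
    · let f : Localization.Away g →ₐ[S] S₂ := IsScalarTower.toAlgHom S (Localization.Away g) S₂
      have hyu : IsUnit y := by
        apply isUnit_of_mul_isUnit_left (y := y)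
        rw [hy]
        exact (Units.isUnit _).map _
      obtain ⟨yu, rfl⟩ := hyu
      let u₂ : (S₂ ⊗[S] A)ˣ := Units.map (algebraMap S₂ (S₂ ⊗[S] A)).toMonoidHom yu *
        Units.map (bcMap S A (Localization.Away g) S₂ f).toRingHom.toMonoidHom u₁
      have hu₂ : (↑u₂ : S₂ ⊗[S] A) = algebraMap S₂ (S₂ ⊗[S] A) ↑yu *
          bcMap S A (Localization.Away g) S₂ f ↑u₁ := rfl
      have hcm : ∀ y' : S₂ ⊗[S] A, bcAut S R A S₂ ψ y' * ↑u₂ = ↑u₂ * y' := by
        intro y'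
        rw [hu₂, ← mul_assoc, ← Algebra.commutes, mul_assoc,
          conj_map S R A (Localization.Away g) S₂ f ψ u₁ hu₁ y', mul_assoc]
      refine ⟨u₂, ?_, fun y' => ?_⟩
      · rw [hu₂, AzQE.bc_mul, bc_algebraMap, ← bcMap_bc, mul_assoc,
          ← mul_assoc (algebraMap S₂ (S₂ ⊗[S] A) ↑yu), ← map_mul, hy, Algebra.commutes, ← mul_assoc,
          ← map_mul, hs, bcMap_algebraMap, ← map_mul]
        show algebraMap S₂ (S₂ ⊗[S] A) (algebraMap (Localization.Away g) S₂ ↑s *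
          algebraMap (Localization.Away g) S₂ ↑s⁻¹) = 1
        rw [← map_mul, Units.mul_inv, map_one, map_one]
      · calc bcAut S R A S₂ ψ y' = bcAut S R A S₂ ψ y' * ↑u₂ * ↑u₂⁻¹ := by
              rw [mul_assoc, Units.mul_inv, mul_one]
          _ = ↑u₂ * y' * ↑u₂⁻¹ := by rw [hcm]

end Main

end Groth.Agent.H7.UnitLoc
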