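import Mathlib
import Groth.Prelude.Def_AzInv
import Groth.Prelude.Def_W4c2azumayainvolQEt
import Groth.Agent.Lib.Helper7.UnitLoc
import Groth.Agent.Lib.Helper7.AzFA
import Groth.Agent.Lib.Helper7.AzRam1
import Groth.Agent.Lib.Helper7.HermBasic

/-! Involutions in standard (hermitian) form with respect to matrix units: base change,
descent along étale maps, gluing. -/

set_option autoImplicit false
open scoped TensorProduct
open AzInv

namespace Groth.Agent.H7.StdInv

universe u v w u' u''

attribute [local instance] AzBC.algLC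

section BcInv

variable (S : Type u) (R : Type v) [CommRing S] [CommRing R] [Algebra S R]
  (lam : R ≃ₐ[S] R) (hlam : ∀ r, lam (lam r) = r)
  (A : Type w) [Ring A] [Algebra S A] [Algebra R A] [IsScalarTower S R A]
  (t : LamInv R A lam) (S' : Type u') [CommRing S'] [Algebra S S']

theorem bc_smul (l : S' ⊗[S] R) (x : S' ⊗[S] A) :
    t.bc S lam S' (l • x) = RInvB.lamBC lam S' l • t.bc S lam S' x := by
  rw [Algebra.smul_def, AzQE.bc_mul, AzBC.algebraMap_LC, UnitLoc.bc_iotaL, Algebra.smul_def,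
    AzBC.algebraMap_LC, ← AzBC.iotaL_commute]

/-- the base-changed involution as a `LamInv` over `S' ⊗ R`. -/
noncomputable def bcInv : LamInv (S' ⊗[S] R) (S' ⊗[S] A) (RInvB.lamBC lam S') where
  toFun := t.bc S lam S'
  map_add' := map_add _
  map_mul' := AzQE.bc_mul lam t S'
  map_smul' := bc_smul S R lam A t S'
  invol' := AzQE.bc_bc lam t S' hlam

theorem bcInv_apply (x : S' ⊗[S] A) : bcInv S R lam hlam A t S' x = t.bc S lam S' x := rfl

end BcInv

section MatIso

variable (S : Type u) (R : Type v) [CommRing S] [CommRing R] [Algebra S R]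
  (lam : R ≃ₐ[S] R)
  (A : Type w) [Ring A] [Algebra S A] [Algebra R A] [IsScalarTower S R A]
  (t : LamInv R A lam) (S' : Type u') [CommRing S'] [Algebra S S'] (n : ℕ)

/-- the isomorphism `M_n(S' ⊗ R) ≃ S' ⊗ A` attached to matrix units. -/
noncomputable def matIso (hn : 0 < n) (hA : IsAzumayaDeg R A n)
    (e : Fin n → Fin n → S' ⊗[S] A) (he : Spread.IsMatUnits e) :
    Matrix (Fin n) (Fin n) (S' ⊗[S] R) ≃ₐ[S' ⊗[S] R] S' ⊗[S] A :=
  haveI hbc := AzBC.isAzumayaDeg_bc S R A S' n hA
  haveI : IsAzumaya (S' ⊗[S] R) (S' ⊗[S] A) := hbc.1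
  haveI : Nonempty (Fin n) := ⟨⟨0, hn⟩⟩
  haveI : IsAzumaya (S' ⊗[S] R) (Matrix (Fin n) (Fin n) (S' ⊗[S] R)) :=
    IsAzumaya.matrix (S' ⊗[S] R) (Fin n)
  AlgEquiv.ofBijective (Spread.algHomOfMatUnits (L := S' ⊗[S] R) e he) (by
    apply Spread.algHom_bijective_of_rankAtStalk
    intro p
    haveI : Nontrivial (S' ⊗[S] R) := p.nontrivial
    rw [hbc.2, Module.rankAtStalk_eq_finrank_of_free]
    simp [Module.finrank_matrix, pow_two])

theorem matIso_apply (hn : 0 < n) (hA : IsAzumayaDeg R A n)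
    (e : Fin n → Fin n → S' ⊗[S] A) (he : Spread.IsMatUnits e)
    (M : Matrix (Fin n) (Fin n) (S' ⊗[S] R)) :
    matIso S R A S' n hn hA e he M = ∑ i, ∑ j, M i j • e i j := rfl

theorem matIso_single (hn : 0 < n) (hA : IsAzumayaDeg R A n)
    (e : Fin n → Fin n → S' ⊗[S] A) (he : Spread.IsMatUnits e) (i j : Fin n) (l : S' ⊗[S] R) :
    matIso S R A S' n hn hA e he (Matrix.single i j l) = l • e i j := by
  rw [matIso_apply, Finset.sum_eq_single i, Finset.sum_eq_single j]
  · simp
  · intro b _ hb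
    simp [Matrix.single_apply, hb.symm]
  · intro h; exact absurd (Finset.mem_univ j) h
  · intro b _ hb
    apply Finset.sum_eq_zero
    intro c _
    simp [Matrix.single_apply, hb.symm]
  · intro h; exact absurd (Finset.mem_univ i) h

/-- the base-changed involution in matrix coordinates. -/
theorem bc_matIso (hn : 0 < n) (hA : IsAzumayaDeg R A n)
    (e : Fin n → Fin n → S' ⊗[S] A) (he : Spread.IsMatUnits e)
    (w : (S' ⊗[S] A)ˣ) (hw : ∀ i j, t.bc S lam S' (e i j) = ↑w * e j i * ↑w⁻¹)
    (M : Matrix (Fin n) (Fin n) (S' ⊗[S] R)) :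
    t.bc S lam S' (matIso S R A S' n hn hA e he M) =
      ↑w * matIso S R A S' n hn hA e he (Herm.ct (RInvB.lamBC lam S').toRingEquiv M) * ↑w⁻¹ := by
  rw [matIso_apply, matIso_apply]
  have hL : t.bc S lam S' (∑ i, ∑ j, M i j • e i j) =
      ∑ i, ∑ j, RInvB.lamBC lam S' (M i j) • (↑w * e j i * ↑w⁻¹) := by
    rw [map_sum]
    refine Finset.sum_congr rfl fun i _ => ?_
    rw [map_sum]
    refine Finset.sum_congr rfl fun j _ => ?_
    rw [bc_smul, hw]
  have hR : ↑w * (∑ i, ∑ j, Herm.ct (RInvB.lamBC lam S').toRingEquiv M i j • e i j) * ↑w⁻¹ =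
      ∑ i, ∑ j, RInvB.lamBC lam S' (M j i) • (↑w * e i j * ↑w⁻¹) := by
    rw [Finset.mul_sum, Finset.sum_mul]
    refine Finset.sum_congr rfl fun i _ => ?_
    rw [Finset.mul_sum, Finset.sum_mul]
    refine Finset.sum_congr rfl fun j _ => ?_
    rw [Herm.ct_apply, mul_smul_comm, smul_mul_assoc]
    rfl
  rw [hL, hR, Finset.sum_comm]

theorem bc_matIso_std (hn : 0 < n) (hA : IsAzumayaDeg R A n)
    (e : Fin n → Fin n → S' ⊗[S] A) (he : Spread.IsMatUnits e)
    (hte : ∀ i j, t.bc S lam S' (e i j) = e j i)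
    (M : Matrix (Fin n) (Fin n) (S' ⊗[S] R)) :
    t.bc S lam S' (matIso S R A S' n hn hA e he M) =
      matIso S R A S' n hn hA e he (Herm.ct (RInvB.lamBC lam S').toRingEquiv M) := by
  have := bc_matIso S R lam A t S' n hn hA e he 1 (by intro i j; simp [hte]) M
  simpa using this

end MatIso

section StdAt

variable (S : Type u) (R : Type v) [CommRing S] [CommRing R] [Algebra S R]
  (lam : R ≃ₐ[S] R) (hlam : ∀ r, lam (lam r) = r)
  (A : Type w) [Ring A] [Algebra S A] [Algebra R A] [IsScalarTower S R A]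
  (t : LamInv R A lam) (n : ℕ)

/-- symmetric matrix units over `S'`. -/
def StdOver (S' : Type u') [CommRing S'] [Algebra S S'] : Prop :=
  ∃ e : Fin n → Fin n → S' ⊗[S] A, Spread.IsMatUnits e ∧ ∀ i j, t.bc S lam S' (e i j) = e j i

/-- symmetric matrix units exist over an étale neighbourhood of `q`. -/
def StdAt (q : PrimeSpectrum S) : Prop :=
  ∃ (S' : Type u) (_ : CommRing S') (_ : Algebra S S') (_ : Algebra.Etale S S'),
    (∃ q' : PrimeSpectrum S', q'.comap (algebraMap S S') = q) ∧ StdOver S R lam A t n S'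

theorem cancel_bc (S₁ : Type u') [CommRing S₁] [Algebra S S₁] (S' : Type u'') [CommRing S']
    [Algebra S S'] [Algebra S₁ S'] [IsScalarTower S S₁ S'] (x : S' ⊗[S₁] (S₁ ⊗[S] A)) :
    Azu.cancelNC' S S' S₁ A ((bcInv S R lam hlam A t S₁).bc S₁ (RInvB.lamBC lam S₁) S' x) =
      t.bc S lam S' (Azu.cancelNC' S S' S₁ A x) := by
  induction x using TensorProduct.induction_on with
  | zero => simp
  | add x y hx hy => rw [map_add, map_add, hx, hy, map_add, map_add]
  | tmul s' y =>
      induction y using TensorProduct.induction_on with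
      | zero => simp
      | add x y hx hy => rw [TensorProduct.tmul_add, map_add, map_add, hx, hy, map_add, map_add]
      | tmul s₁ a =>
          rw [LamInv.bc_tmul, bcInv_apply, LamInv.bc_tmul]
          simp [Azu.cancelNC']

theorem StdAt_of_bc (S₁ : Type u) [CommRing S₁] [Algebra S S₁] [Algebra.Etale S S₁]
    (q₁ : PrimeSpectrum S₁)
    (h : StdAt S₁ (S₁ ⊗[S] R) (RInvB.lamBC lam S₁) (S₁ ⊗[S] A) (bcInv S R lam hlam A t S₁) n q₁) :
    StdAt S R lam A t n (q₁.comap (algebraMap S S₁)) := by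
  obtain ⟨S', _, _, het, ⟨q', hq'⟩, e, he, hte⟩ := h
  letI : Algebra S S' := ((algebraMap S₁ S').comp (algebraMap S S₁)).toAlgebra
  haveI : IsScalarTower S S₁ S' := IsScalarTower.of_algebraMap_eq (fun _ => rfl)
  haveI : Algebra.Etale S S' := Algebra.Etale.comp S S₁ S'
  refine ⟨S', inferInstance, inferInstance, inferInstance, ⟨q', ?_⟩,
    fun i j => Azu.cancelNC' S S' S₁ A (e i j),
    he.map (Azu.cancelNC' S S' S₁ A).toRingEquiv.toRingHom, ?_⟩
  · rw [← hq']
    rfl
  · intro i j
    rw [← cancel_bc S R lam hlam A t S₁ S', hte]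

theorem stdOver_pi (ι : Type u) [Finite ι] (S' : ι → Type u)
    [∀ i, CommRing (S' i)] [∀ i, Algebra S (S' i)] (h : ∀ i, StdOver S R lam A t n (S' i)) :
    StdOver S R lam A t n (Π i, S' i) := by
  classical
  cases nonempty_fintype ι
  choose e he hte using h
  have hmu := AzFA.isMatUnits_pi n (fun i => S' i ⊗[S] A) e he
  refine ⟨fun a b => (EtGlue.piIso S A S').symm (fun i => e i a b),
    hmu.map (EtGlue.piIso S A S').symm.toRingHom, ?_⟩
  intro a b
  apply (EtGlue.piIso S A S').injective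
  funext i
  rw [UnitLoc.piIso_bc, RingEquiv.apply_symm_apply, RingEquiv.apply_symm_apply]
  exact hte i a b

theorem exists_stdOver_of_stdAt (h : ∀ q, StdAt S R lam A t n q) :
    ∃ (S' : Type u) (_ : CommRing S') (_ : Algebra S S') (_ : Algebra.Etale S S')
      (_ : Module.FaithfullyFlat S S'), StdOver S R lam A t n S' := by
  apply EtGlue.glue S (fun S' _ _ => StdOver S R lam A t n S')
  · intro ι _ S' _ _ h
    exact stdOver_pi S R lam A t n ι S' h
  · exact h

end StdAt

section LI

variable (S : Type u) (R : Type v) [CommRing S] [CommRing R] [Algebra S R]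
  (lam : R ≃ₐ[S] R) (hlam : ∀ r, lam (lam r) = r)
  (A : Type w) [Ring A] [Algebra S A] [Algebra R A] [IsScalarTower S R A]
  (A' : Type u'') [Ring A'] [Algebra S A'] [Algebra R A'] [IsScalarTower S R A']
  (t : LamInv R A lam) (t' : LamInv R A' lam) (n : ℕ)

theorem exists_iso_of_std (hn : 0 < n) (hA : IsAzumayaDeg R A n) (hA' : IsAzumayaDeg R A' n)
    (S' : Type u') [CommRing S'] [Algebra S S']
    (h : StdOver S R lam A t n S') (h' : StdOver S R lam A' t' n S') :
    ∃ f : S' ⊗[S] A ≃ₐ[S'] S' ⊗[S] A',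
      (∀ (r : R) (x : S' ⊗[S] A),
        f (((1 : S') ⊗ₜ[S] algebraMap R A r) * x) = ((1 : S') ⊗ₜ[S] algebraMap R A' r) * f x) ∧
      ∀ x : S' ⊗[S] A, f (t.bc S lam S' x) = t'.bc S lam S' (f x) := by
  obtain ⟨e, he, hte⟩ := h
  obtain ⟨e', he', hte'⟩ := h'
  refine ⟨((matIso S R A S' n hn hA e he).symm.trans
    (matIso S R A' S' n hn hA' e' he')).restrictScalars S', ?_, ?_⟩
  · intro r x
    have h1 : ((1 : S') ⊗ₜ[S] algebraMap R A r) * x = ((1 : S') ⊗ₜ[S] r : S' ⊗[S] R) • x := by
      rw [Algebra.smul_def]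
      rfl
    rw [h1]
    show (matIso S R A' S' n hn hA' e' he') ((matIso S R A S' n hn hA e he).symm
      (((1 : S') ⊗ₜ[S] r : S' ⊗[S] R) • x)) = _
    rw [map_smul, map_smul, Algebra.smul_def]
    rfl
  · intro x
    obtain ⟨M, rfl⟩ := (matIso S R A S' n hn hA e he).surjective x
    show (matIso S R A' S' n hn hA' e' he') ((matIso S R A S' n hn hA e he).symm
      (t.bc S lam S' (matIso S R A S' n hn hA e he M))) =
      t'.bc S lam S' ((matIso S R A' S' n hn hA' e' he') ((matIso S R A S' n hn hA e he).symm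
        (matIso S R A S' n hn hA e he M)))
    rw [bc_matIso_std S R lam A t S' n hn hA e he hte, AlgEquiv.symm_apply_apply,
      AlgEquiv.symm_apply_apply, bc_matIso_std S R lam A' t' S' n hn hA' e' he' hte']

/-- the standard matrix algebra with the `lam`-transpose is in standard form. -/
theorem stdOver_matrix (S' : Type u') [CommRing S'] [Algebra S S'] :
    StdOver S R lam (Matrix (Fin n) (Fin n) R) ((LamInv.self lam hlam).matrix (Fin n)) n S' := by
  refine ⟨fun i j => (1 : S') ⊗ₜ[S] Matrix.single i j (1 : R), ⟨?_, ?_⟩, ?_⟩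
  · intro i j k l
    rw [Algebra.TensorProduct.tmul_mul_tmul, one_mul]
    split_ifs with h
    · subst h
      rw [Matrix.single_mul_single_same, mul_one]
    · rw [Matrix.single_mul_single_of_ne (c := (1 : R)) i j k h (1 : R), TensorProduct.tmul_zero]
  · rw [← TensorProduct.tmul_sum, Algebra.TensorProduct.one_def]
    congr 1
    ext a b
    rw [Matrix.sum_apply, Matrix.one_apply]
    simp only [Matrix.single_apply]
    split_ifs with h
    · subst h
      simp
    · apply Finset.sum_eq_zero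
      intro c _
      rw [if_neg]
      rintro ⟨rfl, rfl⟩
      exact h rfl
  · intro i j
    rw [LamInv.bc_tmul]
    congr 1
    ext a b
    simp only [LamInv.matrix_apply, LamInv.self_apply, Matrix.single_apply]
    split_ifs with h1 h2 h2
    · exact map_one _
    · exact absurd ⟨h1.2, h1.1⟩ h2
    · exact absurd ⟨h2.2, h2.1⟩ h1
    · exact map_zero _

include hlam in
/-- symmetric matrix units étale-locally everywhere give a local isomorphism with the standard
matrix algebra. -/
theorem locIsoEt_of_stdAt (hn : 0 < n) (hA : IsAzumayaDeg R A n)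
    (h : ∀ q, StdAt S R lam A t n q) :
    LocIsoEt S lam t ((LamInv.self lam hlam).matrix (Fin n)) := by
  obtain ⟨S', _, _, het, hff, hstd⟩ := exists_stdOver_of_stdAt S R lam A t n h
  have hA' : IsAzumayaDeg R (Matrix (Fin n) (Fin n) R) n := by
    haveI : Nonempty (Fin n) := ⟨⟨0, hn⟩⟩
    refine ⟨IsAzumaya.matrix R (Fin n), fun p => ?_⟩
    haveI : Nontrivial R := p.nontrivial
    rw [Module.rankAtStalk_eq_finrank_of_free]
    simp [Module.finrank_matrix, pow_two]
  obtain ⟨f, hf1, hf2⟩ := exists_iso_of_std S R lam A (Matrix (Fin n) (Fin n) R) t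
    ((LamInv.self lam hlam).matrix (Fin n)) n hn hA hA' S' hstd (stdOver_matrix S R lam hlam n S')
  exact ⟨S', inferInstance, inferInstance, het, hff, f, hf1, hf2⟩

end LI

end Groth.Agent.H7.StdInv
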