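import Mathlib
import Groth.Prelude.Def_AzInv
import Groth.Prelude.Def_W4c2azumayainvolQEt
import Groth.Agent.Lib.Helper7.StdInv

/-! Involutions in signed-permutation standard form with respect to matrix units indexed by an
arbitrary finite type. -/

set_option autoImplicit false
open scoped TensorProduct
open AzInv

namespace Groth.Agent.H7.StdP

universe u v w u' u''

attribute [local instance] AzBC.algLC

section MU

variable {ι : Type} [Fintype ι] [DecidableEq ι]

/-- matrix units indexed by `ι`. -/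
def IsMU {C : Type*} [Ring C] (e : ι → ι → C) : Prop :=
  (∀ i j k l, e i j * e k l = if j = k then e i l else 0) ∧ ∑ i, e i i = 1

theorem isMU_fin {C : Type*} [Ring C] {n : ℕ} (e : Fin n → Fin n → C) :
    IsMU e ↔ Spread.IsMatUnits e := Iff.rfl

theorem IsMU.map {C C' : Type*} [Ring C] [Ring C'] (g : C →+* C') {e : ι → ι → C}
    (he : IsMU e) : IsMU (fun i j => g (e i j)) := by
  constructor
  · intro i j k l
    rw [← map_mul, he.1]
    split_ifs <;> simp
  · rw [← map_sum, he.2, map_one]

theorem IsMU.reindex {κ : Type} [Fintype κ] [DecidableEq κ] {C : Type*} [Ring C] (σ : κ ≃ ι)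
    {e : ι → ι → C} (he : IsMU e) : IsMU (fun i j => e (σ i) (σ j)) := by
  constructor
  · intro i j k l
    rw [he.1]
    by_cases h : j = k
    · rw [if_pos h, if_pos (congrArg σ h)]
    · rw [if_neg h, if_neg (fun h' => h (σ.injective h'))]
  · rw [← he.2]
    exact Equiv.sum_comp σ (fun i => e i i)

theorem IsMU.conj {C : Type*} [Ring C] {e : ι → ι → C} (he : IsMU e) (m m' : C)
    (h1 : m' * m = 1) (h2 : m * m' = 1) : IsMU (fun i j => m * e i j * m') := by
  constructor
  · intro i j k l
    have : m * e i j * m' * (m * e k l * m') = m * (e i j * e k l) * m' := by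
      calc m * e i j * m' * (m * e k l * m') = m * (e i j * ((m' * m) * e k l)) * m' := by
            simp only [mul_assoc]
        _ = m * (e i j * e k l) * m' := by rw [h1, one_mul]
    rw [this, he.1]
    split_ifs
    · rfl
    · rw [mul_zero, zero_mul]
  · rw [← Finset.sum_mul, ← Finset.mul_sum, he.2, mul_one, h2]

theorem isMU_pi {κ : Type*} (C : κ → Type*) [∀ k, Ring (C k)]
    (e : ∀ k, ι → ι → C k) (he : ∀ k, IsMU (e k)) :
    IsMU (fun a b => (fun k => e k a b : ∀ k, C k)) := by
  constructor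
  · intro a b c d
    funext k
    rw [Pi.mul_apply, (he k).1]
    split_ifs <;> rfl
  · funext k
    rw [Finset.sum_apply]
    exact (he k).2

variable {L : Type*} [CommRing L] {C : Type*} [Ring C] [Algebra L C]

/-- matrix units give an algebra map from the matrix algebra. -/
noncomputable def algHomOfMU (e : ι → ι → C) (he : IsMU e) : Matrix ι ι L →ₐ[L] C :=
  AlgHom.ofLinearMap
    { toFun := fun M => ∑ i, ∑ j, M i j • e i j
      map_add' := fun M N => by
        simp only [Matrix.add_apply, add_smul, Finset.sum_add_distrib]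
      map_smul' := fun c M => by
        simp only [Matrix.smul_apply, smul_eq_mul, mul_smul, Finset.smul_sum, RingHom.id_apply] }
    (by
      show ∑ i, ∑ j, (1 : Matrix ι ι L) i j • e i j = 1
      rw [← he.2]
      refine Finset.sum_congr rfl fun i _ => ?_
      rw [Finset.sum_eq_single i]
      · simp
      · intro j _ hj
        rw [Matrix.one_apply_ne hj.symm, zero_smul]
      · intro h; exact absurd (Finset.mem_univ i) h)
    (by
      intro M N
      show ∑ i, ∑ j, (M * N) i j • e i j =
        (∑ i, ∑ j, M i j • e i j) * (∑ k, ∑ l, N k l • e k l)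
      have key : ∀ i j k l, (M i j • e i j) * (N k l • e k l) =
          if j = k then (M i j * N k l) • e i l else 0 := by
        intro i j k l
        rw [smul_mul_smul_comm, he.1]
        split_ifs <;> simp
      rw [Finset.sum_mul]
      refine Finset.sum_congr rfl fun i _ => ?_
      rw [Finset.sum_mul]
      have h1 : ∀ j, (M i j • e i j) * (∑ k, ∑ l, N k l • e k l) =
          ∑ l, (M i j * N j l) • e i l := by
        intro j
        rw [Finset.mul_sum, Finset.sum_eq_single j]
        · rw [Finset.mul_sum]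
          refine Finset.sum_congr rfl fun l _ => ?_
          rw [key, if_pos rfl]
        · intro k _ hk
          rw [Finset.mul_sum]
          refine Finset.sum_eq_zero fun l _ => ?_
          rw [key, if_neg hk.symm]
        · intro h; exact absurd (Finset.mem_univ j) h
      simp_rw [h1]
      rw [Finset.sum_comm]
      refine Finset.sum_congr rfl fun l _ => ?_
      rw [Matrix.mul_apply, Finset.sum_smul])

theorem algHomOfMU_apply (e : ι → ι → C) (he : IsMU e) (M : Matrix ι ι L) :
    algHomOfMU (L := L) e he M = ∑ i, ∑ j, M i j • e i j := rfl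

theorem algHomOfMU_single (e : ι → ι → C) (he : IsMU e) (i j : ι) (l : L) :
    algHomOfMU (L := L) e he (Matrix.single i j l) = l • e i j := by
  rw [algHomOfMU_apply, Finset.sum_eq_single i, Finset.sum_eq_single j]
  · simp
  · intro b _ hb
    simp [Matrix.single_apply, hb.symm]
  · intro h; exact absurd (Finset.mem_univ j) h
  · intro b _ hb
    apply Finset.sum_eq_zero
    intro c _
    simp [Matrix.single_apply, hb.symm]
  · intro h; exact absurd (Finset.mem_univ i) h

end MU

section MatIso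

variable (S : Type u) (R : Type v) [CommRing S] [CommRing R] [Algebra S R]
  (A : Type w) [Ring A] [Algebra S A] [Algebra R A] [IsScalarTower S R A]
  (S' : Type u') [CommRing S'] [Algebra S S'] (n : ℕ)
  {ι : Type} [Fintype ι] [DecidableEq ι]

/-- the isomorphism `M_ι(S' ⊗ R) ≃ S' ⊗ A` attached to matrix units. -/
noncomputable def matIso (hn : 0 < n) (hA : IsAzumayaDeg R A n) (hι : Fintype.card ι = n)
    (e : ι → ι → S' ⊗[S] A) (he : IsMU e) :
    Matrix ι ι (S' ⊗[S] R) ≃ₐ[S' ⊗[S] R] S' ⊗[S] A :=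
  haveI hbc := AzBC.isAzumayaDeg_bc S R A S' n hA
  haveI : IsAzumaya (S' ⊗[S] R) (S' ⊗[S] A) := hbc.1
  haveI : Nonempty ι := Fintype.card_pos_iff.mp (hι ▸ hn)
  haveI : IsAzumaya (S' ⊗[S] R) (Matrix ι ι (S' ⊗[S] R)) := IsAzumaya.matrix (S' ⊗[S] R) ι
  AlgEquiv.ofBijective (algHomOfMU (L := S' ⊗[S] R) e he) (by
    apply Spread.algHom_bijective_of_rankAtStalk
    intro p
    haveI : Nontrivial (S' ⊗[S] R) := p.nontrivial
    rw [hbc.2, Module.rankAtStalk_eq_finrank_of_free]
    simp [Module.finrank_matrix, pow_two, hι])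

theorem matIso_apply (hn : 0 < n) (hA : IsAzumayaDeg R A n) (hι : Fintype.card ι = n)
    (e : ι → ι → S' ⊗[S] A) (he : IsMU e) (M : Matrix ι ι (S' ⊗[S] R)) :
    matIso S R A S' n hn hA hι e he M = ∑ i, ∑ j, M i j • e i j := rfl

theorem matIso_single (hn : 0 < n) (hA : IsAzumayaDeg R A n) (hι : Fintype.card ι = n)
    (e : ι → ι → S' ⊗[S] A) (he : IsMU e) (i j : ι) (l : S' ⊗[S] R) :
    matIso S R A S' n hn hA hι e he (Matrix.single i j l) = l • e i j :=
  algHomOfMU_single e he i j l

end MatIso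

section Std

variable (S : Type u) (R : Type v) [CommRing S] [CommRing R] [Algebra S R]
  (lam : R ≃ₐ[S] R) (hlam : ∀ r, lam (lam r) = r)
  (A : Type w) [Ring A] [Algebra S A] [Algebra R A] [IsScalarTower S R A]
  (t : LamInv R A lam)
  {ι : Type} [Fintype ι] [DecidableEq ι] (π : ι → ι) (sg : ι → ℤ)

/-- matrix units on which the involution acts by the signed permutation `(π, sg)`. -/
def StdOverP (S' : Type u') [CommRing S'] [Algebra S S'] : Prop :=
  ∃ e : ι → ι → S' ⊗[S] A, IsMU e ∧
    ∀ i j, t.bc S lam S' (e i j) = (sg i * sg j) • e (π j) (π i)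

/-- such matrix units exist over an étale neighbourhood of `q`. -/
def StdAtP (q : PrimeSpectrum S) : Prop :=
  ∃ (S' : Type u) (_ : CommRing S') (_ : Algebra S S') (_ : Algebra.Etale S S'),
    (∃ q' : PrimeSpectrum S', q'.comap (algebraMap S S') = q) ∧ StdOverP S R lam A t π sg S'

theorem stdOverP_map (C : Type u') [CommRing C] [Algebra S C] (C' : Type u'') [CommRing C']
    [Algebra S C'] (f : C →ₐ[S] C') (h : StdOverP S R lam A t π sg C) :
    StdOverP S R lam A t π sg C' := by
  obtain ⟨e, he, hte⟩ := h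
  refine ⟨fun i j => UnitLoc.bcMap S A C C' f (e i j),
    he.map (UnitLoc.bcMap S A C C' f).toRingHom, ?_⟩
  intro i j
  rw [← UnitLoc.bcMap_bc, hte, map_zsmul]

theorem stdAtP_of_bc (S₁ : Type u) [CommRing S₁] [Algebra S S₁] [Algebra.Etale S S₁]
    (q₁ : PrimeSpectrum S₁)
    (h : StdAtP S₁ (S₁ ⊗[S] R) (RInvB.lamBC lam S₁) (S₁ ⊗[S] A)
      (StdInv.bcInv S R lam hlam A t S₁) π sg q₁) :
    StdAtP S R lam A t π sg (q₁.comap (algebraMap S S₁)) := by
  obtain ⟨S', _, _, het, ⟨q', hq'⟩, e, he, hte⟩ := h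
  letI : Algebra S S' := ((algebraMap S₁ S').comp (algebraMap S S₁)).toAlgebra
  haveI : IsScalarTower S S₁ S' := IsScalarTower.of_algebraMap_eq (fun _ => rfl)
  haveI : Algebra.Etale S S' := Algebra.Etale.comp S S₁ S'
  refine ⟨S', inferInstance, inferInstance, inferInstance, ⟨q', ?_⟩,
    fun i j => Azu.cancelNC' S S' S₁ A (e i j),
    he.map (Azu.cancelNC' S S' S₁ A).toRingEquiv.toRingHom, ?_⟩
  · rw [← hq']
    rfl
  · intro i j
    rw [← StdInv.cancel_bc S R lam hlam A t S₁ S', hte, map_zsmul]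

theorem stdOverP_pi (κ : Type u) [Finite κ] (S' : κ → Type u)
    [∀ i, CommRing (S' i)] [∀ i, Algebra S (S' i)] (h : ∀ i, StdOverP S R lam A t π sg (S' i)) :
    StdOverP S R lam A t π sg (Π i, S' i) := by
  classical
  cases nonempty_fintype κ
  choose e he hte using h
  have hmu := isMU_pi (fun i => S' i ⊗[S] A) e he
  refine ⟨fun a b => (EtGlue.piIso S A S').symm (fun i => e i a b),
    hmu.map (EtGlue.piIso S A S').symm.toRingHom, ?_⟩
  intro a b
  apply (EtGlue.piIso S A S').injective
  funext i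
  rw [UnitLoc.piIso_bc, RingEquiv.apply_symm_apply, map_zsmul, RingEquiv.apply_symm_apply]
  exact hte i a b

theorem exists_stdOverP_of_stdAtP (h : ∀ q, StdAtP S R lam A t π sg q) :
    ∃ (S' : Type u) (_ : CommRing S') (_ : Algebra S S') (_ : Algebra.Etale S S')
      (_ : Module.FaithfullyFlat S S'), StdOverP S R lam A t π sg S' := by
  apply EtGlue.glue S (fun S' _ _ => StdOverP S R lam A t π sg S')
  · intro κ _ S' _ _ h
    exact stdOverP_pi S R lam A t π sg κ S' h
  · exact h

theorem stdOverP_of_stdOver (n : ℕ) (S' : Type u') [CommRing S'] [Algebra S S']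
    (h : StdInv.StdOver S R lam A t n S') :
    StdOverP S R lam A t (ι := Fin n) id (fun _ => 1) S' := by
  obtain ⟨e, he, hte⟩ := h
  refine ⟨e, he, fun i j => ?_⟩
  rw [hte, mul_one, one_zsmul]
  rfl

theorem stdAtP_of_stdAt (n : ℕ) (q : PrimeSpectrum S) (h : StdInv.StdAt S R lam A t n q) :
    StdAtP S R lam A t (ι := Fin n) id (fun _ => 1) q := by
  obtain ⟨S', _, _, het, hq', hstd⟩ := h
  exact ⟨S', inferInstance, inferInstance, het, hq', stdOverP_of_stdOver S R lam A t n S' hstd⟩

end Std

section LI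

variable (S : Type u) (R : Type v) [CommRing S] [CommRing R] [Algebra S R]
  (lam : R ≃ₐ[S] R) (hlam : ∀ r, lam (lam r) = r)
  (A : Type w) [Ring A] [Algebra S A] [Algebra R A] [IsScalarTower S R A]
  (A' : Type u'') [Ring A'] [Algebra S A'] [Algebra R A'] [IsScalarTower S R A']
  (t : LamInv R A lam) (t' : LamInv R A' lam) (n : ℕ)
  {ι : Type} [Fintype ι] [DecidableEq ι] (π : ι → ι) (sg : ι → ℤ)

/-- the base-changed involution in matrix coordinates. -/
theorem bc_matIso (hn : 0 < n) (hA : IsAzumayaDeg R A n) (hι : Fintype.card ι = n)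
    (S' : Type u') [CommRing S'] [Algebra S S']
    (e : ι → ι → S' ⊗[S] A) (he : IsMU e)
    (hte : ∀ i j, t.bc S lam S' (e i j) = (sg i * sg j) • e (π j) (π i))
    (M : Matrix ι ι (S' ⊗[S] R)) :
    t.bc S lam S' (matIso S R A S' n hn hA hι e he M) =
      matIso S R A S' n hn hA hι e he
        (∑ i, ∑ j, Matrix.single (π j) (π i) ((sg i * sg j) • RInvB.lamBC lam S' (M i j))) := by
  rw [matIso_apply, map_sum, map_sum]
  refine Finset.sum_congr rfl fun i _ => ?_
  rw [map_sum, map_sum]
  refine Finset.sum_congr rfl fun j _ => ?_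
  rw [StdInv.bc_smul, hte, matIso_single, smul_assoc, smul_comm]

theorem exists_iso_of_stdP (hn : 0 < n) (hA : IsAzumayaDeg R A n) (hA' : IsAzumayaDeg R A' n)
    (hι : Fintype.card ι = n)
    (S' : Type u') [CommRing S'] [Algebra S S']
    (h : StdOverP S R lam A t π sg S') (h' : StdOverP S R lam A' t' π sg S') :
    ∃ f : S' ⊗[S] A ≃ₐ[S'] S' ⊗[S] A',
      (∀ (r : R) (x : S' ⊗[S] A),
        f (((1 : S') ⊗ₜ[S] algebraMap R A r) * x) = ((1 : S') ⊗ₜ[S] algebraMap R A' r) * f x) ∧
      ∀ x : S' ⊗[S] A, f (t.bc S lam S' x) = t'.bc S lam S' (f x) := by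
  obtain ⟨e, he, hte⟩ := h
  obtain ⟨e', he', hte'⟩ := h'
  refine ⟨((matIso S R A S' n hn hA hι e he).symm.trans
    (matIso S R A' S' n hn hA' hι e' he')).restrictScalars S', ?_, ?_⟩
  · intro r x
    have h1 : ((1 : S') ⊗ₜ[S] algebraMap R A r) * x = ((1 : S') ⊗ₜ[S] r : S' ⊗[S] R) • x := by
      rw [Algebra.smul_def]
      rfl
    rw [h1]
    show (matIso S R A' S' n hn hA' hι e' he') ((matIso S R A S' n hn hA hι e he).symm
      (((1 : S') ⊗ₜ[S] r : S' ⊗[S] R) • x)) = _
    rw [map_smul, map_smul, Algebra.smul_def]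
    rfl
  · intro x
    obtain ⟨M, rfl⟩ := (matIso S R A S' n hn hA hι e he).surjective x
    show (matIso S R A' S' n hn hA' hι e' he') ((matIso S R A S' n hn hA hι e he).symm
      (t.bc S lam S' (matIso S R A S' n hn hA hι e he M))) =
      t'.bc S lam S' ((matIso S R A' S' n hn hA' hι e' he')
        ((matIso S R A S' n hn hA hι e he).symm (matIso S R A S' n hn hA hι e he M)))
    rw [bc_matIso S R lam A t n π sg hn hA hι S' e he hte, AlgEquiv.symm_apply_apply,
      AlgEquiv.symm_apply_apply, bc_matIso S R lam A' t' n π sg hn hA' hι S' e' he' hte']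

include hlam in
/-- a unit congruating the "Gram element" to the signed permutation element gives standard
matrix units. -/
theorem stdOverP_of_unit (C : Type u') [CommRing C] [Algebra S C]
    (e : ι → ι → C ⊗[S] A) (he : IsMU e) (w w' : C ⊗[S] A) (hww' : w * w' = 1)
    (hte : ∀ i j, t.bc S lam C (e i j) = w * e j i * w')
    (hπ : ∀ i, π (π i) = i) (η : ℤ) (hη : ∀ i, sg (π i) = η * sg i) (hsg : ∀ i, sg i * sg i = 1)
    (hηη : η * η = 1)
    (m m' : C ⊗[S] A) (hmm' : m * m' = 1) (hm'm : m' * m = 1)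
    (hm : m * (∑ i, sg i • e i (π i)) * w' * t.bc S lam C m = 1) :
    StdOverP S R lam A t π sg C := by
  set Ω : C ⊗[S] A := ∑ i, sg i • e i (π i) with hΩ
  set Ω' : C ⊗[S] A := ∑ i, sg i • e (π i) i with hΩ'
  have hΩe : ∀ j i, Ω * e j i = sg (π j) • e (π j) i := by
    intro j i
    rw [hΩ, Finset.sum_mul, Finset.sum_eq_single (π j)]
    · rw [smul_mul_assoc, he.1, if_pos (hπ j)]
    · intro k _ hk
      rw [smul_mul_assoc, he.1, if_neg, smul_zero]
      intro h
      apply hk
      rw [← h, hπ]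
    · intro h; exact absurd (Finset.mem_univ _) h
  have heΩ' : ∀ j i, e j i * Ω' = sg (π i) • e j (π i) := by
    intro j i
    rw [hΩ', Finset.mul_sum, Finset.sum_eq_single (π i)]
    · rw [mul_smul_comm, he.1, if_pos (hπ i).symm]
    · intro k _ hk
      rw [mul_smul_comm, he.1, if_neg, smul_zero]
      intro h
      apply hk
      rw [h, hπ]
    · intro h; exact absurd (Finset.mem_univ _) h
  have hΩΩ' : Ω * Ω' = 1 := by
    rw [← he.2]
    conv_lhs => rw [hΩ, Finset.sum_mul]
    refine Finset.sum_congr rfl fun i _ => ?_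
    rw [smul_mul_assoc, heΩ', hπ, smul_smul, hsg, one_zsmul]
  have hΩ'Ω : Ω' * Ω = 1 := by
    rw [← he.2]
    conv_lhs => rw [hΩ, Finset.mul_sum]
    have : ∀ i, Ω' * (sg i • e i (π i)) = e (π i) (π i) := by
      intro i
      rw [mul_smul_comm, hΩ', Finset.sum_mul, Finset.sum_eq_single i]
      · rw [smul_mul_assoc, he.1, if_pos rfl, smul_smul, hsg, one_zsmul]
      · intro k _ hk
        rw [smul_mul_assoc, he.1, if_neg hk, smul_zero]
      · intro h; exact absurd (Finset.mem_univ _) h
    simp only [this]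
    exact Equiv.sum_comp (Function.Involutive.toPerm π hπ) (fun k => e k k)
  set X : C ⊗[S] A := w' * t.bc S lam C m with hX
  set Y : C ⊗[S] A := t.bc S lam C m' * w with hY
  have hmX : m * Ω * X = 1 := by rw [hX, ← mul_assoc]; exact hm
  have hXeq : X = Ω' * m' := by
    calc X = (Ω' * (m' * m) * Ω) * X := by rw [hm'm, mul_one, hΩ'Ω, one_mul]
      _ = Ω' * m' * (m * Ω * X) := by simp only [mul_assoc]
      _ = Ω' * m' := by rw [hmX, mul_one]
  have hYX : Y * X = 1 := by
    rw [hY, hX]
    calc t.bc S lam C m' * w * (w' * t.bc S lam C m)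
        = t.bc S lam C m' * ((w * w') * t.bc S lam C m) := by simp only [mul_assoc]
      _ = 1 := by rw [hww', one_mul, ← AzQE.bc_mul, hmm', AzQE.bc_one]
  have hXmΩ : X * (m * Ω) = 1 := by
    rw [hXeq]
    calc Ω' * m' * (m * Ω) = Ω' * ((m' * m) * Ω) := by simp only [mul_assoc]
      _ = 1 := by rw [hm'm, one_mul, hΩ'Ω]
  have hYeq : Y = m * Ω := by
    calc Y = Y * (X * (m * Ω)) := by rw [hXmΩ, mul_one]
      _ = m * Ω := by rw [← mul_assoc, hYX, one_mul]
  refine ⟨fun i j => m * e i j * m', he.conj m m' hm'm hmm', ?_⟩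
  intro i j
  rw [AzQE.bc_mul, AzQE.bc_mul, hte]
  have e1 : t.bc S lam C m' * (w * e j i * w' * t.bc S lam C m) = Y * e j i * X := by
    rw [hY, hX]; simp only [mul_assoc]
  rw [e1, hYeq, hXeq]
  calc m * Ω * e j i * (Ω' * m') = m * ((Ω * e j i) * Ω') * m' := by simp only [mul_assoc]
    _ = (sg i * sg j) • (m * e (π j) (π i) * m') := by
        rw [hΩe, smul_mul_assoc, heΩ', smul_smul, mul_smul_comm, smul_mul_assoc, hη, hη]
        congr 1
        calc η * sg j * (η * sg i) = (η * η) * (sg i * sg j) := by ring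
          _ = sg i * sg j := by rw [hηη, one_mul]

end LI

end Groth.Agent.H7.StdP
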