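import Mathlib
import Groth.Agent.Lib.Helper7.Spread1
import Groth.Agent.Lib.Helper7.AzFibre
import Groth.Agent.Lib.Helper7.CSA4

/-! The local construction: matrix units over the localization at a prime. -/

set_option autoImplicit false
open scoped TensorProduct
open Polynomial

namespace Groth.Agent.H7.Spread

universe u v w

section LocalPoly

open IsLocalRing

variable (R : Type u) [CommRing R] [IsLocalRing R] (A : Type u) [Ring A] [Algebra R A]
  [IsAzumaya R A]

/-- a monic polynomial of degree `r` killing a lift of a regular element reduces to the minimal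
polynomial. -/
theorem map_residue_eq_minpoly (r : ℕ) (ξ : A)
    (hdeg : (minpoly (ResidueField R) ((1 : ResidueField R) ⊗ₜ[R] ξ)).natDegree = r)
    (P : R[X]) (hP : P.Monic) (hPd : P.natDegree = r) (hPξ : Polynomial.aeval ξ P = 0) :
    P.map (residue R) = minpoly (ResidueField R) ((1 : ResidueField R) ⊗ₜ[R] ξ) := by
  haveI : Module.Finite (ResidueField R) (ResidueField R ⊗[R] A) := inferInstance
  have hint : IsIntegral (ResidueField R) ((1 : ResidueField R) ⊗ₜ[R] ξ) :=
    Algebra.IsIntegral.isIntegral _
  have h2 : Polynomial.aeval ((1 : ResidueField R) ⊗ₜ[R] ξ) (P.map (residue R)) = 0 := by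
    have h3 := Polynomial.aeval_map_algebraMap (ResidueField R)
      ((1 : ResidueField R) ⊗ₜ[R] ξ) P
    have h4 := Polynomial.aeval_algHom_apply
      (Algebra.TensorProduct.includeRight : A →ₐ[R] ResidueField R ⊗[R] A) ξ P
    rw [hPξ, map_zero, Algebra.TensorProduct.includeRight_apply] at h4
    rw [← h4, ← h3]
    rfl
  have h3 := minpoly.dvd (ResidueField R) _ h2
  refine Polynomial.eq_of_monic_of_dvd_of_natDegree_le (minpoly.monic hint) (hP.map _) h3 ?_
  rw [hP.natDegree_map, hPd, hdeg]

end LocalPoly

section M1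

variable (R : Type u) [CommRing R] (A : Type u) [Ring A] [Algebra R A] [IsAzumaya R A]
  (p : Ideal R) [p.IsPrime]

open IsLocalRing

/-- the rank at a prime is a positive square. -/
theorem exists_rank_sq :
    ∃ r : ℕ, 1 ≤ r ∧ Module.finrank (Localization.AtPrime p) (Localization.AtPrime p ⊗[R] A) =
      r ^ 2 := by
  haveI := Azu.isAzumaya_baseChange R (Localization.AtPrime p) A
  haveI : Module.Free (Localization.AtPrime p) (Localization.AtPrime p ⊗[R] A) :=
    Module.free_of_flat_of_isLocalRing
  haveI := Azu.isAzumaya_baseChange (Localization.AtPrime p)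
    (ResidueField (Localization.AtPrime p)) (Localization.AtPrime p ⊗[R] A)
  haveI := Azu.isSimpleRing_of_isAzumaya_field (ResidueField (Localization.AtPrime p))
    (ResidueField (Localization.AtPrime p) ⊗[Localization.AtPrime p]
      (Localization.AtPrime p ⊗[R] A))
  haveI := Azu.isCentral_of_isAzumaya_field (ResidueField (Localization.AtPrime p))
    (ResidueField (Localization.AtPrime p) ⊗[Localization.AtPrime p]
      (Localization.AtPrime p ⊗[R] A))
  obtain ⟨r, hr⟩ := CSA.isSquare_finrank (ResidueField (Localization.AtPrime p))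
    (ResidueField (Localization.AtPrime p) ⊗[Localization.AtPrime p]
      (Localization.AtPrime p ⊗[R] A))
  have hpos := Module.finrank_pos (R := ResidueField (Localization.AtPrime p))
    (M := ResidueField (Localization.AtPrime p) ⊗[Localization.AtPrime p]
      (Localization.AtPrime p ⊗[R] A))
  rw [hr] at hpos
  rw [Module.finrank_baseChange] at hr
  refine ⟨r, ?_, by rw [hr, pow_two]⟩
  by_contra h
  have hr0 : r = 0 := by omega
  rw [hr0] at hpos
  omega

/-- there are a global element `ξ` and a global monic polynomial `P` of degree `r` such that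
`P(ξ) = 0` at `p`, and `ξ` is regular separable at `p`. -/
theorem exists_global_regular (r : ℕ)
    (hA : Module.finrank (Localization.AtPrime p) (Localization.AtPrime p ⊗[R] A) = r ^ 2) :
    ∃ (ξ : A) (P : R[X]), P.Monic ∧ P.natDegree = r ∧
      Polynomial.aeval ((1 : Localization.AtPrime p) ⊗ₜ[R] ξ) P = 0 ∧
      (minpoly (ResidueField (Localization.AtPrime p))
        ((1 : ResidueField (Localization.AtPrime p)) ⊗ₜ[Localization.AtPrime p]
          ((1 : Localization.AtPrime p) ⊗ₜ[R] ξ))).Separable ∧
      (minpoly (ResidueField (Localization.AtPrime p))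
        ((1 : ResidueField (Localization.AtPrime p)) ⊗ₜ[Localization.AtPrime p]
          ((1 : Localization.AtPrime p) ⊗ₜ[R] ξ))).natDegree = r := by
  haveI := Azu.isAzumaya_baseChange R (Localization.AtPrime p) A
  obtain ⟨ξp, hsep, hdeg⟩ := MaxEt.exists_regular_lift (Localization.AtPrime p)
    (Localization.AtPrime p ⊗[R] A) r hA
  obtain ⟨P₀, hP₀, hP₀d, hP₀ξ, -⟩ := MaxEt.exists_poly (Localization.AtPrime p)
    (Localization.AtPrime p ⊗[R] A) r hA ξp hsep hdeg
  -- first scaling
  set t₁ : R := (IsLocalization.commonDenom p.primeCompl P₀.support P₀.coeff : R) with ht₁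
  have ht₁p : t₁ ∉ p := (IsLocalization.commonDenom p.primeCompl P₀.support P₀.coeff).2
  obtain ⟨P₁, hP₁map, hP₁d, hP₁⟩ := Polynomial.lifts_and_natDegree_eq_and_monic
    (IsLocalization.scaleRoots_commonDenom_mem_lifts p.primeCompl P₀
      (by rw [hP₀.leadingCoeff]; exact one_mem _))
    ((Polynomial.monic_scaleRoots_iff _).mpr hP₀)
  rw [Polynomial.natDegree_scaleRoots, hP₀d] at hP₁d
  have h1 : Polynomial.aeval (t₁ • ξp) P₁ = 0 := by
    have h2 := Polynomial.scaleRoots_aeval_eq_zero (r := algebraMap R (Localization.AtPrime p) t₁)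
      hP₀ξ
    rw [← hP₁map, Polynomial.aeval_map_algebraMap, ← Algebra.smul_def, algebraMap_smul] at h2
    exact h2
  -- second scaling
  obtain ⟨⟨ξ, t₂⟩, ht₂⟩ := IsLocalizedModule.surj p.primeCompl
    (TensorProduct.mk R (Localization.AtPrime p) A 1) (t₁ • ξp)
  simp only [TensorProduct.mk_apply] at ht₂
  have ht₂p : (t₂ : R) ∉ p := t₂.2
  have h2 : Polynomial.aeval ((1 : Localization.AtPrime p) ⊗ₜ[R] ξ) (P₁.scaleRoots (t₂ : R)) =
      0 := by
    have h3 := Polynomial.scaleRoots_aeval_eq_zero (r := (t₂ : R)) h1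
    rw [← Algebra.smul_def] at h3
    have h4 : (t₂ : R) • (t₁ • ξp) = (1 : Localization.AtPrime p) ⊗ₜ[R] ξ := ht₂
    rw [h4] at h3
    exact h3
  refine ⟨ξ, P₁.scaleRoots (t₂ : R), (Polynomial.monic_scaleRoots_iff _).mpr hP₁, ?_, h2, ?_⟩
  · rw [Polynomial.natDegree_scaleRoots, hP₁d]
  -- regularity
  have hc : (1 : ResidueField (Localization.AtPrime p)) ⊗ₜ[Localization.AtPrime p]
      ((1 : Localization.AtPrime p) ⊗ₜ[R] ξ) =
      (residue (Localization.AtPrime p) (algebraMap R (Localization.AtPrime p) ((t₂ : R) * t₁))) •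
        ((1 : ResidueField (Localization.AtPrime p)) ⊗ₜ[Localization.AtPrime p] ξp) := by
    rw [← ht₂, Submonoid.smul_def, smul_smul, ← algebraMap_smul (Localization.AtPrime p)
      ((t₂ : R) * t₁) ξp, TensorProduct.tmul_smul, TensorProduct.smul_tmul']
    congr 1
  have hne : residue (Localization.AtPrime p)
      (algebraMap R (Localization.AtPrime p) ((t₂ : R) * t₁)) ≠ 0 := by
    intro h0
    rw [residue_eq_zero_iff] at h0
    have hu : IsUnit (algebraMap R (Localization.AtPrime p) ((t₂ : R) * t₁)) :=
      IsLocalization.map_units (Localization.AtPrime p)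
        (⟨(t₂ : R) * t₁, mul_mem t₂.2 ht₁p⟩ : p.primeCompl)
    exact (IsLocalRing.notMem_maximalIdeal.mpr hu) h0
  have hint : IsIntegral (ResidueField (Localization.AtPrime p))
      ((1 : ResidueField (Localization.AtPrime p)) ⊗ₜ[Localization.AtPrime p] ξp) :=
    Algebra.IsIntegral.isIntegral _
  have := regular_smul _ hint hsep _ hne
  rw [hc]
  exact ⟨this.1, this.2.trans hdeg⟩

end M1

section M2

variable (R : Type u) [CommRing R] (A : Type u) [Ring A] [Algebra R A] [IsAzumaya R A]
  (p : Ideal R) [p.IsPrime]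

open IsLocalRing

/-- the local splitting at a prime, in the form of matrix units. -/
theorem exists_local_matUnits (r : ℕ)
    (hA : Module.finrank (Localization.AtPrime p) (Localization.AtPrime p ⊗[R] A) = r ^ 2) :
    ∃ P : R[X], P.Monic ∧ P.natDegree = r ∧
      (P.map (algebraMap R (Localization.AtPrime p))).Separable ∧
      ∃ e : Fin r → Fin r → Localization.AtPrime p ⊗[R] (AdjoinRoot P ⊗[R] A), IsMatUnits e := by
  haveI : Nontrivial R := (algebraMap R (Localization.AtPrime p)).domain_nontrivial
  haveI := Azu.isAzumaya_baseChange R (Localization.AtPrime p) A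
  obtain ⟨ξ, P, hP, hPd, hPξ, hsep, hdeg⟩ := exists_global_regular R A p r hA
  have hPξ' : Polynomial.aeval ((1 : Localization.AtPrime p) ⊗ₜ[R] ξ)
      (P.map (algebraMap R (Localization.AtPrime p))) = 0 := by
    rw [Polynomial.aeval_map_algebraMap]; exact hPξ
  have hres := map_residue_eq_minpoly (Localization.AtPrime p) (Localization.AtPrime p ⊗[R] A) r
    ((1 : Localization.AtPrime p) ⊗ₜ[R] ξ) hdeg (P.map (algebraMap R (Localization.AtPrime p)))
    (hP.map _) (by rw [hP.natDegree_map, hPd]) hPξ'
  have hPpsep : (P.map (algebraMap R (Localization.AtPrime p))).Separable :=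
    MaxEt.separable_of_residue (Localization.AtPrime p) _ (hP.map _) (by rw [hres]; exact hsep)
  refine ⟨P, hP, hPd, hPpsep, ?_⟩
  haveI := etale_tensor_adjoinRoot (Localization.AtPrime p) P hP hPpsep
  haveI : Module.Finite R (AdjoinRoot P) := hP.finite_adjoinRoot
  haveI : Module.Free R (AdjoinRoot P) := hP.free_adjoinRoot
  have hEp : Module.finrank (Localization.AtPrime p) (Localization.AtPrime p ⊗[R] AdjoinRoot P) =
      r := by
    rw [Module.finrank_baseChange, (AdjoinRoot.powerBasis' hP).finrank, AdjoinRoot.powerBasis'_dim,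
      hPd]
  -- the map `E → A_p`
  let v : AdjoinRoot P →ₐ[R] Localization.AtPrime p ⊗[R] A :=
    Ideal.Quotient.liftₐ (Ideal.span {P})
      (Polynomial.aeval ((1 : Localization.AtPrime p) ⊗ₜ[R] ξ)) (by
        intro q hq
        obtain ⟨q', rfl⟩ := Ideal.mem_span_singleton.mp hq
        rw [map_mul, hPξ, zero_mul])
  have hv : v (AdjoinRoot.root P) = (1 : Localization.AtPrime p) ⊗ₜ[R] ξ := by
    show Ideal.Quotient.liftₐ (Ideal.span {P}) (Polynomial.aeval _) _ (Ideal.Quotient.mk _ X) = _
    rw [Ideal.Quotient.liftₐ_apply, Ideal.Quotient.lift_mk]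
    simp
  let up : Localization.AtPrime p ⊗[R] AdjoinRoot P →ₐ[Localization.AtPrime p]
      Localization.AtPrime p ⊗[R] A :=
    Algebra.TensorProduct.lift (Algebra.ofId _ _) v (fun x y => by
      rw [Algebra.ofId_apply]
      exact Algebra.commute_algebraMap_left _ _)
  have hup : ∀ e, up ((1 : Localization.AtPrime p) ⊗ₜ[R] e) = v e := by
    intro e
    simp only [up, Algebra.TensorProduct.lift_tmul, map_one, one_mul]
  have hu : Function.Injective (up.toLinearMap.lTensor (ResidueField (Localization.AtPrime p))) := by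
    rw [← LinearMap.baseChange_eq_ltensor]
    let b := ((AdjoinRoot.powerBasis' hP).basis.baseChange (Localization.AtPrime p)).baseChange
      (ResidueField (Localization.AtPrime p))
    apply MaxEt.injective_of_linearIndependent_comp_basis b
    have h1 : (up.toLinearMap.baseChange (ResidueField (Localization.AtPrime p))) ∘ b =
        fun i : Fin P.natDegree => ((1 : ResidueField (Localization.AtPrime p))
          ⊗ₜ[Localization.AtPrime p] ((1 : Localization.AtPrime p) ⊗ₜ[R] ξ)) ^ (i : ℕ) := by
      funext i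
      simp only [Function.comp_apply, b, Module.Basis.baseChange_apply, LinearMap.baseChange_tmul,
        AlgHom.toLinearMap_apply, PowerBasis.basis_eq_pow, AdjoinRoot.powerBasis'_gen, hup,
        map_pow, hv, Algebra.TensorProduct.tmul_pow, one_pow]
    rw [h1]
    have := linearIndependent_pow (K := ResidueField (Localization.AtPrime p))
      ((1 : ResidueField (Localization.AtPrime p)) ⊗ₜ[Localization.AtPrime p]
        ((1 : Localization.AtPrime p) ⊗ₜ[R] ξ))
    rw [show (minpoly (ResidueField (Localization.AtPrime p))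
      ((1 : ResidueField (Localization.AtPrime p)) ⊗ₜ[Localization.AtPrime p]
        ((1 : Localization.AtPrime p) ⊗ₜ[R] ξ))).natDegree = P.natDegree from
      hdeg.trans hPd.symm] at this
    exact this
  -- the module structure
  letI : Module (Localization.AtPrime p ⊗[R] AdjoinRoot P) (Localization.AtPrime p ⊗[R] A) :=
    Module.compHom _ (RingHom.toOpposite up.toRingHom (fun x y => by
      show up x * up y = up y * up x
      rw [← map_mul, ← map_mul, mul_comm]))
  have hmod : ∀ (e : Localization.AtPrime p ⊗[R] AdjoinRoot P)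
      (a : Localization.AtPrime p ⊗[R] A), e • a = a * up e := fun e a => rfl
  obtain ⟨hfree, hfr, ⟨Φ⟩⟩ := SplitEt.free_and_split up hmod r hA hEp hu
  haveI : Nontrivial (Localization.AtPrime p ⊗[R] A) :=
    (FaithfulSMul.algebraMap_injective (Localization.AtPrime p) _).nontrivial
  haveI : Nontrivial (Localization.AtPrime p ⊗[R] AdjoinRoot P) :=
    (up : _ →+* Localization.AtPrime p ⊗[R] A).domain_nontrivial
  haveI := SplitEt.isScalarTower (R := Localization.AtPrime p) up hmod
  haveI : Module.Finite (Localization.AtPrime p ⊗[R] AdjoinRoot P)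
      (Localization.AtPrime p ⊗[R] A) :=
    Module.Finite.of_restrictScalars_finite (Localization.AtPrime p) _ _
  let bA := Module.finBasisOfFinrankEq (Localization.AtPrime p ⊗[R] AdjoinRoot P)
    (Localization.AtPrime p ⊗[R] A) hfr
  let Ψ := LinearMap.toMatrixAlgEquiv bA
  let Θ : Localization.AtPrime p ⊗[R] (AdjoinRoot P ⊗[R] A) ≃+*
      Matrix (Fin r) (Fin r) (Localization.AtPrime p ⊗[R] AdjoinRoot P) :=
    ((Algebra.TensorProduct.assoc R R R (Localization.AtPrime p) (AdjoinRoot P)
      A).symm.toRingEquiv).trans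
      (((Azu.cancelNC' R (Localization.AtPrime p ⊗[R] AdjoinRoot P) (Localization.AtPrime p)
        A).symm.toRingEquiv).trans ((Φ.trans Ψ).toRingEquiv))
  exact ⟨_, isMatUnits_of_ringEquiv Θ⟩

end M2

end Groth.Agent.H7.Spread
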