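import Mathlib
import Groth.Agent.Lib.Helper7.Spread2

/-! Spreading out the local splitting: S5720. -/

set_option autoImplicit false
open scoped TensorProduct
open Polynomial

namespace Groth.Agent.H7.Spread

universe u v w

section Kill

variable {R : Type u} [CommRing R] {B : Type v} [AddCommGroup B] [Module R B]
  {R₁ : Type w} [CommRing R₁] [Algebra R R₁]

theorem tmul_eq_zero_of_smul_eq_zero (T : R) (hT : IsUnit (algebraMap R R₁ T)) (x : B)
    (hx : T • x = 0) (c : R₁) : c ⊗ₜ[R] x = 0 := by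
  obtain ⟨v, hv⟩ := hT.exists_left_inv
  have h1 : c = T • (c * v) := by
    rw [Algebra.smul_def, mul_comm, mul_assoc, hv, mul_one]
  rw [h1, TensorProduct.smul_tmul, hx, TensorProduct.tmul_zero]

theorem tmul_eq_tmul_of_smul_eq_smul (T : R) (hT : IsUnit (algebraMap R R₁ T)) (x y : B)
    (hxy : T • x = T • y) (c : R₁) : c ⊗ₜ[R] x = c ⊗ₜ[R] y := by
  rw [← sub_eq_zero, ← TensorProduct.tmul_sub]
  exact tmul_eq_zero_of_smul_eq_zero T hT _ (by rw [smul_sub, hxy, sub_self]) c

end Kill

section SpreadUnits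

variable {R : Type u} [CommRing R] (p : Ideal R) [p.IsPrime] {B : Type v} [Ring B] [Algebra R B]
  {r : ℕ}

/-- matrix units over the localization at `p` spread out to any `R`-algebra in which a suitable
`g ∉ p` becomes invertible. -/
theorem exists_matUnits_of_local (e : Fin r → Fin r → Localization.AtPrime p ⊗[R] B)
    (he : IsMatUnits e) :
    ∃ g : R, g ∉ p ∧ ∀ (R₁ : Type w) [CommRing R₁] [Algebra R R₁],
      IsUnit (algebraMap R R₁ g) → ∃ e' : Fin r → Fin r → R₁ ⊗[R] B, IsMatUnits e' := by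
  classical
  -- clear denominators
  obtain ⟨s, hs⟩ := IsLocalizedModule.exist_integer_multiples_of_finite p.primeCompl
    (TensorProduct.mk R (Localization.AtPrime p) B 1) (fun ij : Fin r × Fin r => e ij.1 ij.2)
  choose b hb using hs
  have hb' : ∀ i j, (1 : Localization.AtPrime p) ⊗ₜ[R] b (i, j) = (s : R) • e i j := fun i j => hb (i, j)
  -- the relations
  have hrel : ∀ q : (Fin r × Fin r) × (Fin r × Fin r), ∃ t : p.primeCompl,
      t • (b q.1 * b q.2) = t • (if q.1.2 = q.2.1 then (s : R) • b (q.1.1, q.2.2) else 0) := by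
    rintro ⟨⟨i, j⟩, ⟨k, l⟩⟩
    apply IsLocalizedModule.exists_of_eq (S := p.primeCompl)
      (f := TensorProduct.mk R (Localization.AtPrime p) B 1)
    simp only [TensorProduct.mk_apply]
    have h1 : (1 : Localization.AtPrime p) ⊗ₜ[R] (b (i, j) * b (k, l)) =
        ((1 : Localization.AtPrime p) ⊗ₜ[R] b (i, j)) * ((1 : Localization.AtPrime p) ⊗ₜ[R] b (k, l)) := by
      rw [Algebra.TensorProduct.tmul_mul_tmul, one_mul]
    rw [h1, hb', hb', smul_mul_smul_comm, he.1]
    split_ifs with hjk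
    · rw [TensorProduct.tmul_smul, hb', smul_smul]
    · rw [smul_zero, TensorProduct.tmul_zero]
  have hsum : ∃ t : p.primeCompl, t • (∑ i, b (i, i)) = t • ((s : R) • (1 : B)) := by
    apply IsLocalizedModule.exists_of_eq (S := p.primeCompl)
      (f := TensorProduct.mk R (Localization.AtPrime p) B 1)
    simp only [TensorProduct.mk_apply, TensorProduct.tmul_sum, hb', ← Finset.smul_sum, he.2,
      TensorProduct.tmul_smul]
    rfl
  choose t ht using hrel
  obtain ⟨t₀, ht₀⟩ := hsum
  set T : p.primeCompl := t₀ * ∏ q, t q with hT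
  have hTrel : ∀ q : (Fin r × Fin r) × (Fin r × Fin r),
      (T : R) • (b q.1 * b q.2) =
        (T : R) • (if q.1.2 = q.2.1 then (s : R) • b (q.1.1, q.2.2) else 0) := by
    intro q
    have h1 : (T : R) = (t₀ * ∏ q' ∈ Finset.univ.erase q, t q' : p.primeCompl) * (t q : R) := by
      rw [hT, ← Finset.prod_erase_mul _ _ (Finset.mem_univ q)]
      push_cast
      ring
    rw [h1, mul_smul, mul_smul]
    congr 1
    exact ht q
  have hTsum : (T : R) • (∑ i, b (i, i)) = (T : R) • ((s : R) • (1 : B)) := by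
    have h1 : (T : R) = (∏ q, t q : p.primeCompl) * (t₀ : R) := by
      rw [hT]; push_cast; ring
    rw [h1, mul_smul, mul_smul]
    congr 1
  refine ⟨(s : R) * (T : R), ?_, ?_⟩
  · exact (Ideal.IsPrime.mul_mem_iff_mem_or_mem inferInstance).not.mpr (not_or.mpr ⟨s.2, T.2⟩)
  intro R₁ _ _ hg
  rw [map_mul] at hg
  have hsU : IsUnit (algebraMap R R₁ s) := isUnit_of_mul_isUnit_left hg
  have hTU : IsUnit (algebraMap R R₁ T) := isUnit_of_mul_isUnit_right hg
  obtain ⟨v, hv⟩ := hsU.exists_left_inv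
  refine ⟨fun i j => v ⊗ₜ[R] b (i, j), ?_, ?_⟩
  · intro i j k l
    rw [Algebra.TensorProduct.tmul_mul_tmul,
      tmul_eq_tmul_of_smul_eq_smul (T : R) hTU _ _ (hTrel ((i, j), (k, l)))]
    simp only
    split_ifs with hjk
    · rw [TensorProduct.tmul_smul, TensorProduct.smul_tmul', Algebra.smul_def, ← mul_assoc,
        mul_comm (algebraMap R R₁ s), hv, one_mul]
    · rw [TensorProduct.tmul_zero]
  · rw [← TensorProduct.tmul_sum, tmul_eq_tmul_of_smul_eq_smul (T : R) hTU _ _ hTsum,
      TensorProduct.tmul_smul, TensorProduct.smul_tmul', Algebra.smul_def, mul_comm, hv]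
    rfl

end SpreadUnits

section Main

variable (R : Type u) [CommRing R] (A : Type u) [Ring A] [Algebra R A] [IsAzumaya R A]
  (p : Ideal R) [hp : p.IsPrime]

theorem exists_rank_nbhd (n : ℕ) (h : Module.rankAtStalk A ⟨p, hp⟩ = n) :
    ∃ f₀ : R, f₀ ∉ p ∧ ∀ q : PrimeSpectrum R, f₀ ∉ q.asIdeal → Module.rankAtStalk A q = n := by
  haveI : Module.FinitePresentation R A := Module.finitePresentation_of_projective R A
  have hlc := Module.isLocallyConstant_rankAtStalk (R := R) (M := A)
  have hU : IsOpen (Module.rankAtStalk (R := R) A ⁻¹' {n}) := hlc.isOpen_fiber n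
  obtain ⟨v, ⟨f₀, rfl⟩, hpv, hvU⟩ := PrimeSpectrum.isTopologicalBasis_basic_opens.exists_subset_of_mem_open
    (show (⟨p, hp⟩ : PrimeSpectrum R) ∈ Module.rankAtStalk (R := R) A ⁻¹' {n} from h) hU
  refine ⟨f₀, ?_, fun q hq => ?_⟩
  · exact hpv
  · exact hvU hq

/-- S5720 -/
theorem split_near_prime :
    ∃ f : R, f ∉ p ∧ ∃ (R' : Type u) (_ : CommRing R') (_ : Algebra R R')
      (_ : Algebra (Localization.Away f) R') (_ : IsScalarTower R (Localization.Away f) R'),
      Module.Finite (Localization.Away f) R' ∧ Algebra.Etale (Localization.Away f) R' ∧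
      Module.FaithfullyFlat (Localization.Away f) R' ∧
      ∃ r : ℕ, 1 ≤ r ∧ Nonempty ((R' ⊗[R] A) ≃ₐ[R'] Matrix (Fin r) (Fin r) R') := by
  obtain ⟨r, hr1, hA⟩ := exists_rank_sq R A p
  obtain ⟨P, hP, hPd, hPsep, e, he⟩ := exists_local_matUnits R A p r hA
  obtain ⟨g, hg, hspread⟩ := exists_matUnits_of_local.{u, u, u} p e he
  obtain ⟨f₁, hf₁, a, b, hbez⟩ := exists_bezout_of_separable p P hPsep
  have hrank : Module.rankAtStalk A ⟨p, hp⟩ = r ^ 2 := by
    rw [Module.rankAtStalk_eq_finrank_tensorProduct]; exact hA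
  obtain ⟨f₀, hf₀, hnb⟩ := exists_rank_nbhd R A p (r ^ 2) hrank
  have hfp : g * f₁ * f₀ ∉ p := by
    intro h
    rcases hp.mem_or_mem h with h | h
    · rcases hp.mem_or_mem h with h | h
      · exact hg h
      · exact hf₁ h
    · exact hf₀ h
  refine ⟨g * f₁ * f₀, hfp, ?_⟩
  have hfU : IsUnit (algebraMap R (Localization.Away (g * f₁ * f₀)) (g * f₁ * f₀)) :=
    IsLocalization.Away.algebraMap_isUnit _
  rw [map_mul, map_mul] at hfU
  have hf₀U : IsUnit (algebraMap R (Localization.Away (g * f₁ * f₀)) f₀) :=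
    isUnit_of_mul_isUnit_right hfU
  have hgf₁U := isUnit_of_mul_isUnit_left hfU
  have hgU : IsUnit (algebraMap R (Localization.Away (g * f₁ * f₀)) g) :=
    isUnit_of_mul_isUnit_left hgf₁U
  have hf₁U : IsUnit (algebraMap R (Localization.Away (g * f₁ * f₀)) f₁) :=
    isUnit_of_mul_isUnit_right hgf₁U
  haveI : Nontrivial (Localization.Away (g * f₁ * f₀)) := by
    have hfp' : IsUnit (algebraMap R (Localization.AtPrime p) (g * f₁ * f₀)) :=
      IsLocalization.map_units (Localization.AtPrime p) (⟨_, hfp⟩ : p.primeCompl)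
    exact (IsLocalization.Away.lift (g * f₁ * f₀) hfp' :
      Localization.Away (g * f₁ * f₀) →+* Localization.AtPrime p).domain_nontrivial
  haveI : Module.Finite R (AdjoinRoot P) := hP.finite_adjoinRoot
  haveI : Module.Free R (AdjoinRoot P) := hP.free_adjoinRoot
  haveI : Nontrivial R := (algebraMap R (Localization.Away (g * f₁ * f₀))).domain_nontrivial
  have hfrL : Module.finrank (Localization.Away (g * f₁ * f₀))
      (Localization.Away (g * f₁ * f₀) ⊗[R] AdjoinRoot P) = r := by
    rw [Module.finrank_baseChange, (AdjoinRoot.powerBasis' hP).finrank, AdjoinRoot.powerBasis'_dim,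
      hPd]
  haveI : Nontrivial (Localization.Away (g * f₁ * f₀) ⊗[R] AdjoinRoot P) :=
    Module.nontrivial_of_finrank_pos (R := Localization.Away (g * f₁ * f₀)) (by rw [hfrL]; exact hr1)
  refine ⟨Localization.Away (g * f₁ * f₀) ⊗[R] AdjoinRoot P, inferInstance, inferInstance,
    inferInstance, inferInstance, inferInstance, ?_, inferInstance, r, hr1, ?_⟩
  · exact etale_tensor_adjoinRoot _ P hP (separable_map_of_bezout hbez _ hf₁U)
  -- the matrix units
  obtain ⟨e', he'⟩ := hspread (Localization.Away (g * f₁ * f₀)) hgU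
  have he'' := IsMatUnits.map
    (C' := (Localization.Away (g * f₁ * f₀) ⊗[R] AdjoinRoot P) ⊗[R] A)
    ((Algebra.TensorProduct.assoc R R R (Localization.Away (g * f₁ * f₀))
      (AdjoinRoot P) A).symm.toAlgHom.toRingHom) he'
  let ϑ := algHomOfMatUnits (L := Localization.Away (g * f₁ * f₀) ⊗[R] AdjoinRoot P) _ he''
  haveI : Nonempty (Fin r) := ⟨⟨0, hr1⟩⟩
  haveI := IsAzumaya.matrix (Localization.Away (g * f₁ * f₀) ⊗[R] AdjoinRoot P) (Fin r)
  haveI := Azu.isAzumaya_baseChange R (Localization.Away (g * f₁ * f₀) ⊗[R] AdjoinRoot P) A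
  have hbij : Function.Bijective ϑ := by
    refine algHom_bijective_of_rankAtStalk
      (L := Localization.Away (g * f₁ * f₀) ⊗[R] AdjoinRoot P)
      (A₁ := Matrix (Fin r) (Fin r) (Localization.Away (g * f₁ * f₀) ⊗[R] AdjoinRoot P))
      (A₂ := (Localization.Away (g * f₁ * f₀) ⊗[R] AdjoinRoot P) ⊗[R] A) ϑ ?_
    intro q
    have h1 : Module.rankAtStalk (R := Localization.Away (g * f₁ * f₀) ⊗[R] AdjoinRoot P)
        (Matrix (Fin r) (Fin r) (Localization.Away (g * f₁ * f₀) ⊗[R] AdjoinRoot P)) =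
        Module.finrank _ _ := Module.rankAtStalk_eq_finrank_of_free
    have h4 : Module.rankAtStalk A (q.comap (algebraMap R
        (Localization.Away (g * f₁ * f₀) ⊗[R] AdjoinRoot P))) = r ^ 2 := by
      apply hnb
      intro hmem
      have h2 : algebraMap R (Localization.Away (g * f₁ * f₀) ⊗[R] AdjoinRoot P) f₀ ∈ q.asIdeal :=
        hmem
      have h3 : IsUnit (algebraMap R (Localization.Away (g * f₁ * f₀) ⊗[R] AdjoinRoot P) f₀) := by
        rw [IsScalarTower.algebraMap_apply R (Localization.Away (g * f₁ * f₀))]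
        exact hf₀U.map _
      exact q.2.ne_top (Ideal.eq_top_of_isUnit_mem _ h2 h3)
    rw [congrFun h1, Module.rankAtStalk_baseChange, h4, Module.finrank_matrix]
    simp [pow_two]
  exact ⟨(AlgEquiv.ofBijective ϑ hbij).symm⟩

end Main

end Groth.Agent.H7.Spread
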