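import Mathlib
import Groth.Agent.Lib.Helper7.Spread3

/-! A base-change friendly form of the local splitting: a polynomial whose roots split. -/

set_option autoImplicit false
open scoped TensorProduct
open Polynomial

namespace Groth.Agent.H7.Spread

universe u w x y

theorem exists_poly_matUnits (R : Type u) [CommRing R] (A : Type w) [Ring A] [Algebra R A]
    [IsAzumaya R A] (p : Ideal R) [hp : p.IsPrime] (n : ℕ)
    (hrk : Module.rankAtStalk (R := R) A ⟨p, hp⟩ = n ^ 2) :
    ∃ P : R[X], P.Monic ∧ P.natDegree = n ∧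
      (∃ f₁ : R, f₁ ∉ p ∧ ∃ U V : R[X], U * P + V * derivative P = C f₁) ∧
      ∀ (C : Type x) [Ring C] [Algebra R C] (L : Type y) [CommRing L] [Algebra R L]
        (gL : L →ₐ[R] C) (gA : A →ₐ[R] C), (∀ l a, Commute (gL l) (gA a)) →
        (∀ r : R, r ∉ p → IsUnit (algebraMap R L r)) → ∀ α : L, Polynomial.aeval α P = 0 →
        ∃ e : Fin n → Fin n → C, IsMatUnits e := by
  haveI : Small.{u} A := Module.Finite.small R A
  let e₀ : Shrink.{u} A ≃ₐ[R] A := Shrink.algEquiv R A
  haveI : IsAzumaya R (Shrink.{u} A) := IsAzumaya.of_AlgEquiv R A (Shrink.{u} A) e₀.symm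
  have hrk₀ : Module.finrank (Localization.AtPrime p) (Localization.AtPrime p ⊗[R] Shrink.{u} A) =
      n ^ 2 := by
    have h1 := Module.rankAtStalk_eq_finrank_tensorProduct (R := R) (M := Shrink.{u} A) ⟨p, hp⟩
    rw [← h1, ← hrk]
    exact congrFun (Module.rankAtStalk_eq_of_equiv e₀.toLinearEquiv) _
  obtain ⟨P, hP, hPd, hPsep, e, he⟩ := exists_local_matUnits R (Shrink.{u} A) p n hrk₀
  obtain ⟨f₁, hf₁, U, V, hbez⟩ := exists_bezout_of_separable p P hPsep
  refine ⟨P, hP, hPd, ⟨f₁, hf₁, U, V, hbez⟩, ?_⟩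
  intro C _ _ L _ _ gL gA hcomm hunit α hα
  let loc : Localization.AtPrime p →ₐ[R] L :=
    IsLocalization.liftAlgHom (M := p.primeCompl) (f := Algebra.ofId R L)
      (fun y => hunit y.1 y.2)
  let rt : AdjoinRoot P →ₐ[R] L := AdjoinRoot.liftAlgHom P (Algebra.ofId R L) α hα
  let Ξ₁ : AdjoinRoot P ⊗[R] Shrink.{u} A →ₐ[R] C :=
    Algebra.TensorProduct.lift (gL.comp rt) (gA.comp (e₀ : Shrink.{u} A →ₐ[R] A))
      (fun l a => hcomm _ _)
  let Ξ : Localization.AtPrime p ⊗[R] (AdjoinRoot P ⊗[R] Shrink.{u} A) →ₐ[R] C :=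
    Algebra.TensorProduct.lift (gL.comp loc) Ξ₁ (fun l z => by
      induction z using TensorProduct.induction_on with
      | zero => simp
      | add z₁ z₂ h₁ h₂ => rw [map_add]; exact h₁.add_right h₂
      | tmul b a =>
          show Commute _ (Algebra.TensorProduct.lift _ _ _ (b ⊗ₜ[R] a))
          rw [Algebra.TensorProduct.lift_tmul]
          refine Commute.mul_right ?_ (hcomm _ _)
          show Commute (gL (loc l)) (gL (rt b))
          rw [Commute, SemiconjBy, ← map_mul, ← map_mul, mul_comm])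
  exact ⟨_, he.map Ξ.toRingHom⟩

end Groth.Agent.H7.Spread
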