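import Mathlib
import Groth.Prelude.Def_AzInv
import Groth.Agent.Lib.Helper7.AzRam1
import Groth.Agent.Lib.Helper7.RInvB
import Groth.Agent.Lib.Helper7.Spread4

/-! The core of the ramified case: from an approximate root over an étale neighbourhood to the
local goal. -/

set_option autoImplicit false
open scoped TensorProduct
open Polynomial

namespace Groth.Agent.H7.AzRam

universe u v w

attribute [local instance] Algebra.TensorProduct.rightAlgebra

set_option maxHeartbeats 1600000 in
theorem ram_core {S : Type u} {R : Type v} [CommRing S] [CommRing R] [Algebra S R]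
    (lam : R ≃ₐ[S] R) (hlam : ∀ r, lam (lam r) = r)
    (hfix : RInv.IsFixedRing S R lam.toRingEquiv)
    (A : Type w) [Ring A] [Algebra S A] [Algebra R A] [IsScalarTower S R A] (n : ℕ)
    (q : PrimeSpectrum S) (hram : RInvB.RamP lam q.asIdeal)
    (p : Ideal R) [hp : p.IsPrime] (hpq : p.comap (algebraMap S R) = q.asIdeal)
    (P : R[X]) (hP : P.Monic)
    (hD : ∀ (C : Type (max u w)) [Ring C] [Algebra R C] (L : Type (max u v)) [CommRing L]
        [Algebra R L] (gL : L →ₐ[R] C) (gA : A →ₐ[R] C), (∀ l a, Commute (gL l) (gA a)) →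
        (∀ r : R, r ∉ p → IsUnit (algebraMap R L r)) → ∀ α : L, Polynomial.aeval α P = 0 →
        ∃ e : Fin n → Fin n → C, Spread.IsMatUnits e)
    (S'' : Type u) [CommRing S''] [Algebra S S''] [Algebra.Etale S S''] (q'' : Ideal S'')
    [q''.IsPrime] [hq''o : q''.LiesOver q.asIdeal]
    (a : S'' ⊗[S] R)
    (ha : ∀ p'' : Ideal (S'' ⊗[S] R), p''.IsPrime →
      p''.comap (algebraMap S'' (S'' ⊗[S] R)) = q'' →
      (P.map (Algebra.TensorProduct.includeRight : R →ₐ[S] S'' ⊗[S] R).toRingHom).eval a ∈ p'' ∧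
      (P.map (Algebra.TensorProduct.includeRight :
        R →ₐ[S] S'' ⊗[S] R).toRingHom).derivative.eval a ∉ p'') :
    AzFA.LG S A n q := by
  classical
  haveI : Algebra.IsIntegral S R := RInvB.isIntegral lam hlam hfix
  obtain ⟨S', _, _, het', q', hq'p, hq'o, α, hα⟩ := Hens.exists_root_etale (S := S'')
    (R := S'' ⊗[S] R) q'' (P.map (Algebra.TensorProduct.includeRight :
      R →ₐ[S] S'' ⊗[S] R).toRingHom) (hP.map _) a ha
  letI : Algebra S S' := ((algebraMap S'' S').comp (algebraMap S S'')).toAlgebra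
  haveI : IsScalarTower S S'' S' := IsScalarTower.of_algebraMap_eq (fun _ => rfl)
  haveI : Algebra.Etale S S' := Algebra.Etale.comp S S'' S'
  let T' := Localization.AtPrime q'
  haveI : IsScalarTower S S'' T' := IsScalarTower.of_algebraMap_eq (fun s => by
    rw [IsScalarTower.algebraMap_apply S S' T', IsScalarTower.algebraMap_apply S'' S' T']
    rfl)
  have hq'q : q'.comap (algebraMap S S') = q.asIdeal := by
    rw [IsScalarTower.algebraMap_eq S S'' S', ← Ideal.comap_comap]
    have h1 : q'.comap (algebraMap S'' S') = q'' := (hq'o.over).symm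
    rw [h1]
    exact (hq''o.over).symm
  -- the root in `T' ⊗[S] R`
  let cb : T' ⊗[S''] (S'' ⊗[S] R) ≃ₐ[T'] T' ⊗[S] R :=
    Algebra.TensorProduct.cancelBaseChange S S'' T' T' R
  let α₀ : T' ⊗[S] R := cb α
  have hα₀ : Polynomial.aeval α₀ P = 0 := by
    have h1 := congrArg cb hα
    rw [map_zero, Polynomial.eval₂_map] at h1
    have h2 := Polynomial.hom_eval₂ P ((Algebra.TensorProduct.includeRight (R := S'') (A := T')
      (B := S'' ⊗[S] R)).toRingHom.comp (Algebra.TensorProduct.includeRight :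
        R →ₐ[S] S'' ⊗[S] R).toRingHom) (cb : T' ⊗[S''] (S'' ⊗[S] R) →+* T' ⊗[S] R) α
    have h3 : (cb : T' ⊗[S''] (S'' ⊗[S] R) →+* T' ⊗[S] R).comp
        ((Algebra.TensorProduct.includeRight (R := S'') (A := T')
          (B := S'' ⊗[S] R)).toRingHom.comp (Algebra.TensorProduct.includeRight :
            R →ₐ[S] S'' ⊗[S] R).toRingHom) = algebraMap R (T' ⊗[S] R) := by
      ext r
      show cb ((1 : T') ⊗ₜ[S''] ((1 : S'') ⊗ₜ[S] r)) = (1 : T') ⊗ₜ[S] r
      rw [Algebra.TensorProduct.cancelBaseChange_tmul, one_smul]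
    rw [Polynomial.aeval_def, ← h3]
    exact h2.symm.trans h1
  -- units
  have hunit : ∀ r : R, r ∉ p → IsUnit (algebraMap R (T' ⊗[S] R) r) := by
    intro r hr
    by_contra hnu
    obtain ⟨𝔪, h𝔪, hin⟩ := exists_max_ideal_of_mem_nonunits hnu
    haveI := h𝔪
    have h1 := comap_of_isMaximal (S := S) (S' := S') q' (R := R) 𝔪
    rw [hq'q] at h1
    have hpr : (𝔪.comap (Algebra.TensorProduct.includeRight :
        R →ₐ[S] T' ⊗[S] R).toRingHom).IsPrime := Ideal.comap_isPrime _ _
    have h2 := RInvB.unique_prime_of_ramP lam hlam hfix q.asIdeal hram _ p hpr hp h1 hpq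
    apply hr
    rw [← h2]
    exact hin
  -- the target algebra
  letI algC : Algebra R (T' ⊗[S] A) := AzBC.algRC S R A T'
  let gL : T' ⊗[S] R →ₐ[R] T' ⊗[S] A :=
    { (AzBC.iotaL S R A T').toRingHom with commutes' := fun r => rfl }
  let gA : A →ₐ[R] T' ⊗[S] A :=
    { (Algebra.TensorProduct.includeRight : A →ₐ[S] T' ⊗[S] A).toRingHom with
      commutes' := fun r => rfl }
  obtain ⟨e₀, he₀⟩ := hD (T' ⊗[S] A) (T' ⊗[S] R) gL gA
    (fun l a => AzBC.iotaL_commute S R A T' l _) hunit α₀ hα₀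
  -- transport and spread
  let c1 : T' ⊗[S'] (S' ⊗[S] A) ≃ₐ[T'] T' ⊗[S] A := Azu.cancelNC' S T' S' A
  have he₁ : Spread.IsMatUnits (fun i j => c1.symm (e₀ i j)) :=
    he₀.map c1.symm.toRingEquiv.toRingHom
  obtain ⟨g, hg, hspread⟩ := Spread.exists_matUnits_of_local.{u, max u w, u} q' _ he₁
  obtain ⟨e₂, he₂⟩ := hspread (Localization.Away g) (IsLocalization.Away.algebraMap_isUnit g)
  let c2 : Localization.Away g ⊗[S'] (S' ⊗[S] A) ≃ₐ[Localization.Away g]
      Localization.Away g ⊗[S] A := Azu.cancelNC' S (Localization.Away g) S' A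
  have he₃ : Spread.IsMatUnits (fun i j => c2 (e₂ i j)) := he₂.map c2.toRingEquiv.toRingHom
  haveI : Algebra.Etale S' (Localization.Away g) := Algebra.Etale.of_isLocalizationAway g
  haveI : Algebra.Etale S (Localization.Away g) := Algebra.Etale.comp S S' (Localization.Away g)
  have h1 : (⟨q', hq'p⟩ : PrimeSpectrum S') ∈
      Set.range (PrimeSpectrum.comap (algebraMap S' (Localization.Away g))) := by
    rw [PrimeSpectrum.localization_away_comap_range (Localization.Away g) g]
    exact hg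
  obtain ⟨qg, hqg⟩ := h1
  refine ⟨Localization.Away g, inferInstance, inferInstance, inferInstance, ⟨qg, ?_⟩, _, he₃⟩
  rw [IsScalarTower.algebraMap_eq S S' (Localization.Away g), PrimeSpectrum.comap_comp]
  show (PrimeSpectrum.comap (algebraMap S S')) (PrimeSpectrum.comap (algebraMap S' _) qg) = q
  rw [hqg]
  exact PrimeSpectrum.ext hq'q

end Groth.Agent.H7.AzRam
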