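import Mathlib
import Groth.Prelude.Def_AzInv
import Groth.Agent.Lib.Helper7.AzRam2

/-! The ramified case when `2` is invertible. -/

set_option autoImplicit false
open scoped TensorProduct
open Polynomial

namespace Groth.Agent.H7.AzRam

universe u v w

section Aux

theorem eval_mem_of_coeff_mem {B : Type*} [CommRing B] (I : Ideal B) (F : B[X])
    (hF : ∀ i, F.coeff i ∈ I) (x : B) : F.eval x ∈ I := by
  rw [Polynomial.eval_eq_sum_range]
  exact Ideal.sum_mem _ (fun i _ => I.mul_mem_right _ (hF i))

theorem sep_descend {S : Type u} {R : Type v} [CommRing S] [CommRing R] [Algebra S R]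
    (q : Ideal S) [q.IsPrime] (p : Ideal R) [p.IsPrime] (hpq : p.comap (algebraMap S R) = q)
    (Q : S[X])
    (h : ((Q.map (algebraMap S R)).map (algebraMap R p.ResidueField)).Separable) :
    (Q.map (algebraMap S q.ResidueField)).Separable := by
  let φ : q.ResidueField →+* p.ResidueField :=
    Ideal.ResidueField.map q p (algebraMap S R) hpq.symm
  rw [← Polynomial.separable_map φ, Polynomial.map_map]
  rw [Polynomial.map_map] at h
  have : φ.comp (algebraMap S q.ResidueField) =
      (algebraMap R p.ResidueField).comp (algebraMap S R) := by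
    ext s
    exact Ideal.ResidueField.map_algebraMap q p (algebraMap S R) hpq.symm s
  rw [this]
  exact h

theorem exists_monic_of_coeffs {S : Type*} [CommRing S] [Nontrivial S] (n : ℕ) (c : ℕ → S) :
    ∃ Q : S[X], Q.Monic ∧ Q.natDegree = n ∧
      ∀ i, Q.coeff i = if i = n then 1 else if i < n then c i else 0 := by
  have hdeglt : (∑ i : Fin n, C (c i) * X ^ (i : ℕ) : S[X]).degree < n :=
    Polynomial.degree_sum_fin_lt (fun i : Fin n => c i)
  refine ⟨X ^ n + ∑ i : Fin n, C (c i) * X ^ (i : ℕ), Polynomial.monic_X_pow_add hdeglt, ?_, ?_⟩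
  · rw [Polynomial.natDegree_add_eq_left_of_degree_lt, Polynomial.natDegree_X_pow]
    rw [Polynomial.degree_X_pow]
    exact hdeglt
  · intro i
    rw [Polynomial.coeff_add, Polynomial.coeff_X_pow, Polynomial.finset_sum_coeff]
    simp only [Polynomial.coeff_C_mul_X_pow]
    rw [Fin.sum_univ_eq_sum_range (fun j => if i = j then c j else 0) n,
      Finset.sum_ite_eq (Finset.range n) i (fun j => c j)]
    by_cases h1 : i = n
    · rw [if_pos h1, if_pos h1, if_neg (by rw [Finset.mem_range]; omega), add_zero]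
    · rw [if_neg h1, if_neg h1, zero_add]
      simp only [Finset.mem_range]

end Aux

section Core'

variable {S : Type u} {R : Type v} [CommRing S] [CommRing R] [Algebra S R]
  (lam : R ≃ₐ[S] R) (hlam : ∀ r, lam (lam r) = r)
  (hfix : RInv.IsFixedRing S R lam.toRingEquiv)
  (A : Type w) [Ring A] [Algebra S A] [Algebra R A] [IsScalarTower S R A] (n : ℕ)

include hlam hfix in
theorem ram_core' (q : PrimeSpectrum S) (hram : RInvB.RamP lam q.asIdeal)
    (p : Ideal R) [hp : p.IsPrime] (hpq : p.comap (algebraMap S R) = q.asIdeal)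
    (P : R[X]) (hP : P.Monic)
    (hbez : ∃ f₁ : R, f₁ ∉ p ∧ ∃ U V : R[X], U * P + V * derivative P = C f₁)
    (hD : ∀ (C : Type (max u w)) [Ring C] [Algebra R C] (L : Type (max u v)) [CommRing L]
        [Algebra R L] (gL : L →ₐ[R] C) (gA : A →ₐ[R] C), (∀ l a, Commute (gL l) (gA a)) →
        (∀ r : R, r ∉ p → IsUnit (algebraMap R L r)) → ∀ α : L, Polynomial.aeval α P = 0 →
        ∃ e : Fin n → Fin n → C, Spread.IsMatUnits e)
    (S'' : Type u) [CommRing S''] [Algebra S S''] [Algebra.Etale S S''] (q'' : Ideal S'')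
    [q''.IsPrime] [hq''o : q''.LiesOver q.asIdeal]
    (a : S'' ⊗[S] R)
    (ha : ∀ p'' : Ideal (S'' ⊗[S] R), p''.IsPrime →
      p''.comap (algebraMap S'' (S'' ⊗[S] R)) = q'' →
      p''.comap (Algebra.TensorProduct.includeRight : R →ₐ[S] S'' ⊗[S] R).toRingHom = p →
      (P.map (Algebra.TensorProduct.includeRight : R →ₐ[S] S'' ⊗[S] R).toRingHom).eval a ∈ p'') :
    AzFA.LG S A n q := by
  obtain ⟨f₁, hf₁, U, V, hbez⟩ := hbez
  apply ram_core lam hlam hfix A n q hram p hpq P hP hD S'' q'' a
  intro p'' hp'' hp''q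
  have hpr : (p''.comap (Algebra.TensorProduct.includeRight :
      R →ₐ[S] S'' ⊗[S] R).toRingHom).IsPrime := Ideal.comap_isPrime _ _
  have hover : (p''.comap (Algebra.TensorProduct.includeRight :
      R →ₐ[S] S'' ⊗[S] R).toRingHom).comap (algebraMap S R) = q.asIdeal := by
    rw [hq''o.over, ← hp''q, Ideal.under, Ideal.comap_comap, Ideal.comap_comap]
    congr 1
    ext s
    simp [Algebra.algebraMap_eq_smul_one]
  have hpp := RInvB.unique_prime_of_ramP lam hlam hfix q.asIdeal hram _ p hpr hp hover hpq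
  have h1 := ha p'' hp'' hp''q hpp
  refine ⟨h1, fun h2 => hf₁ ?_⟩
  have h3 := congrArg (fun F : R[X] => (F.map (Algebra.TensorProduct.includeRight :
    R →ₐ[S] S'' ⊗[S] R).toRingHom).eval a) hbez
  simp only [Polynomial.map_add, Polynomial.map_mul, Polynomial.eval_add, Polynomial.eval_mul,
    Polynomial.map_C, Polynomial.eval_C] at h3
  rw [Polynomial.derivative_map] at h2
  have h4 : (Algebra.TensorProduct.includeRight : R →ₐ[S] S'' ⊗[S] R).toRingHom f₁ ∈ p'' := by
    rw [← h3]
    exact p''.add_mem (p''.mul_mem_left _ h1) (p''.mul_mem_left _ h2)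
  rw [← hpp]
  exact h4

end Core'

section Unit2

variable {S : Type u} {R : Type v} [CommRing S] [CommRing R] [Algebra S R]
  (lam : R ≃ₐ[S] R) (hlam : ∀ r, lam (lam r) = r)
  (hfix : RInv.IsFixedRing S R lam.toRingEquiv)
  (A : Type w) [Ring A] [Algebra S A] [Algebra R A] [IsScalarTower S R A] (n : ℕ)

/-- common end of the two residue cases: a monic `Q` over `S` of degree `n`, separable at `q`
after mapping to `R`, and a recipe producing an approximate root. -/
theorem sep_of_congr (p : Ideal R) [hp : p.IsPrime] (P : R[X])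
    (hbez : ∃ f₁ : R, f₁ ∉ p ∧ ∃ U V : R[X], U * P + V * derivative P = C f₁)
    (σ : p.ResidueField →+* p.ResidueField) (Q' : R[X])
    (hQ' : ∀ i, algebraMap R p.ResidueField (Q'.coeff i) =
      σ (algebraMap R p.ResidueField (P.coeff i))) :
    (Q'.map (algebraMap R p.ResidueField)).Separable := by
  obtain ⟨f₁, hf₁, U, V, hbez⟩ := hbez
  have h1 : (P.map (algebraMap R p.ResidueField)).Separable := by
    apply Spread.separable_map_of_bezout hbez
    rw [isUnit_iff_ne_zero, Ne, Ideal.algebraMap_residueField_eq_zero]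
    exact hf₁
  have h2 : Q'.map (algebraMap R p.ResidueField) =
      (P.map (algebraMap R p.ResidueField)).map σ := by
    ext i
    rw [Polynomial.coeff_map, Polynomial.coeff_map, Polynomial.coeff_map, hQ']
  rw [h2]
  exact h1.map

include hlam hfix in
theorem ram_LG_unit2 (hA : AzInv.IsAzumayaDeg R A n) (hn : 0 < n) (q : PrimeSpectrum S)
    (hram : RInvB.RamP lam q.asIdeal) (h2 : IsUnit (2 : S)) : AzFA.LG S A n q := by
  classical
  haveI : IsAzumaya R A := hA.1
  obtain ⟨p, hp, hpq⟩ := RInvB.exists_prime_over lam hlam hfix q.asIdeal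
  haveI := hp
  obtain ⟨P, hP, hPd, hbez, hD⟩ :=
    Spread.exists_poly_matUnits.{v, w, max u w, max u v} R A p n (hA.2 ⟨p, hp⟩)
  obtain ⟨half, hhalf⟩ := h2.exists_left_inv
  choose tr htr using fun r : R => RInvB.exists_tr lam hlam hfix r
  let c : ℕ → S := fun i => half * tr (P.coeff i)
  haveI : Nontrivial S := q.nontrivial
  obtain ⟨Q, hQ, hQd, hQc⟩ := exists_monic_of_coeffs n c
  have hhalfR : algebraMap S R half * 2 = 1 := by
    have := congrArg (algebraMap S R) hhalf
    rwa [map_mul, map_ofNat, map_one] at this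
  have hcoeff : ∀ i, P.coeff i - algebraMap S R (Q.coeff i) ∈ p := by
    intro i
    rw [hQc]
    rcases lt_trichotomy i n with hi | hi | hi
    · rw [if_neg (ne_of_lt hi), if_pos hi]
      have e1 : P.coeff i - algebraMap S R (c i) =
          algebraMap S R half * (P.coeff i - lam (P.coeff i)) := by
        simp only [c]
        rw [map_mul, htr]
        linear_combination (-(P.coeff i)) * hhalfR
      rw [e1]
      exact p.mul_mem_left _ (hram p hp hpq _)
    · rw [if_pos hi, map_one, hi, ← hPd]
      have : P.coeff P.natDegree = 1 := hP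
      rw [this, sub_self]
      exact p.zero_mem
    · rw [if_neg (by omega), if_neg (by omega), map_zero, sub_zero,
        Polynomial.coeff_eq_zero_of_natDegree_lt (by rw [hPd]; exact hi)]
      exact p.zero_mem
  have hsep : (Q.map (algebraMap S q.asIdeal.ResidueField)).Separable := by
    apply sep_descend q.asIdeal p hpq
    apply sep_of_congr p P hbez (RingHom.id _)
    intro i
    rw [RingHom.id_apply, Polynomial.coeff_map, eq_comm, ← sub_eq_zero, ← map_sub,
      Ideal.algebraMap_residueField_eq_zero]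
    exact hcoeff i
  obtain ⟨S'', _, _, het, q'', hq''p, hq''o, β, hβ, -⟩ :=
    exists_etale_root q.asIdeal Q hQ (by rw [hQd]; exact hn) hsep
  apply ram_core' lam hlam hfix A n q hram p hpq P hP hbez hD S'' q'' (β ⊗ₜ[S] (1 : R))
  intro p'' hp'' _ hpp
  set inc := (Algebra.TensorProduct.includeRight : R →ₐ[S] S'' ⊗[S] R).toRingHom with hinc
  have hsplit : P.map inc = (P.map inc - Q.map (algebraMap S (S'' ⊗[S] R))) +
      Q.map (algebraMap S (S'' ⊗[S] R)) := by ring
  rw [hsplit, Polynomial.eval_add]
  have hsecond : (Q.map (algebraMap S (S'' ⊗[S] R))).eval (β ⊗ₜ[S] (1 : R)) = 0 := by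
    rw [Polynomial.eval_map, ← Polynomial.aeval_def]
    have := Polynomial.aeval_algHom_apply
      (Algebra.TensorProduct.includeLeft : S'' →ₐ[S] S'' ⊗[S] R) β Q
    rw [hβ, map_zero] at this
    exact this
  rw [hsecond, add_zero]
  apply eval_mem_of_coeff_mem
  intro i
  rw [Polynomial.coeff_sub, Polynomial.coeff_map, Polynomial.coeff_map]
  have e2 : algebraMap S (S'' ⊗[S] R) (Q.coeff i) = inc (algebraMap S R (Q.coeff i)) := by
    rw [hinc]
    exact (AlgHom.commutes _ _).symm
  rw [e2, ← map_sub]
  have : P.coeff i - algebraMap S R (Q.coeff i) ∈ p''.comap inc := by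
    rw [hpp]; exact hcoeff i
  exact this

end Unit2

end Groth.Agent.H7.AzRam
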