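import Mathlib

/-! In characteristic two: a root of the Frobenius twist of `P` with invertible derivative gives
a root of `P`, by an explicit formula. -/

set_option autoImplicit false
open Polynomial

namespace Groth.Agent.H7.Char2

variable {D : Type*} [CommRing D]

theorem even_odd (P : D[X]) :
    P = expand D 2 (contract 2 P) + X * expand D 2 (contract 2 (divX P)) := by
  ext i
  rw [coeff_add, coeff_expand (by norm_num : 0 < 2)]
  rcases i with _ | k
  · rw [coeff_X_mul_zero, add_zero, if_pos (dvd_zero 2), coeff_contract (by norm_num)]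
  · rw [coeff_X_mul, coeff_expand (by norm_num : 0 < 2)]
    rcases Nat.even_or_odd k with hk | hk
    · have h1 : ¬ (2 ∣ k + 1) := by
        obtain ⟨m, rfl⟩ := hk; omega
      have h2 : 2 ∣ k := hk.two_dvd
      rw [if_neg h1, if_pos h2, zero_add, coeff_contract (by norm_num), coeff_divX,
        Nat.div_mul_cancel h2]
    · have h1 : 2 ∣ k + 1 := by
        obtain ⟨m, rfl⟩ := hk; exact ⟨m + 1, by ring⟩
      have h2 : ¬ (2 ∣ k) := by
        obtain ⟨m, rfl⟩ := hk; omega
      rw [if_pos h1, if_neg h2, add_zero, coeff_contract (by norm_num), Nat.div_mul_cancel h1]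

variable [CharP D 2]

theorem twist_eq (P Q : D[X]) (hQ : ∀ i, Q.coeff i = (P.coeff i) ^ 2) :
    Q = (contract 2 P) ^ 2 + X * (contract 2 (divX P)) ^ 2 := by
  haveI : Fact (Nat.Prime 2) := ⟨Nat.prime_two⟩
  haveI : ExpChar D 2 := ExpChar.prime Nat.prime_two
  have hQ' : Q = P.map (frobenius D 2) := by
    ext i
    rw [hQ, coeff_map, frobenius_def]
  apply expand_injective (R := D) (by norm_num : 0 < 2)
  have h1 : expand D 2 Q = P ^ 2 := by
    rw [hQ', ← map_expand, map_frobenius_expand]
  rw [h1]
  conv_lhs => rw [even_odd P]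
  rw [add_pow_char, mul_pow, map_add, map_mul, map_pow, map_pow, expand_X]

theorem derivative_twist (E O : D[X]) :
    derivative (E ^ 2 + X * O ^ 2) = O ^ 2 := by
  have h2 : (2 : D[X]) = 0 := by
    have : ((2 : ℕ) : D[X]) = 0 := CharP.cast_eq_zero D[X] 2
    exact_mod_cast this
  rw [derivative_add, derivative_mul, derivative_X, one_mul, derivative_pow, derivative_pow]
  simp only [Nat.cast_ofNat, h2, map_ofNat, zero_mul, mul_zero, add_zero, zero_add]

theorem root_formula (P Q : D[X]) (hQ : ∀ i, Q.coeff i = (P.coeff i) ^ 2) (b v : D)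
    (hb : Q.eval b = 0) (hv : v * Q.derivative.eval b = 1) :
    P.eval ((contract 2 P).eval b * (contract 2 (divX P)).eval b * v) = 0 := by
  set E := contract 2 P with hE
  set O := contract 2 (divX P) with hO
  have h2 : (2 : D) = 0 := by
    have : ((2 : ℕ) : D) = 0 := CharP.cast_eq_zero D 2
    exact_mod_cast this
  have hQeq := twist_eq P Q hQ
  have hQ' : Q.derivative = O ^ 2 := by rw [hQeq]; exact derivative_twist E O
  have hv' : v * O.eval b ^ 2 = 1 := by rw [hQ', eval_pow] at hv; exact hv
  have hEb : E.eval b ^ 2 = b * O.eval b ^ 2 := by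
    have h3 := hb
    rw [hQeq, eval_add, eval_mul, eval_pow, eval_pow, eval_X] at h3
    linear_combination h3 - (b * O.eval b ^ 2) * h2
  set a := E.eval b * O.eval b * v with ha
  have ha2 : a ^ 2 = b := by
    have : a ^ 2 = E.eval b ^ 2 * (v * O.eval b ^ 2) * v := by rw [ha]; ring
    rw [this, hv', hEb, mul_one, mul_assoc, mul_comm (eval b O ^ 2) v, hv', mul_one]
  have hP : P.eval a = E.eval (a ^ 2) + a * O.eval (a ^ 2) := by
    conv_lhs => rw [even_odd P]
    rw [eval_add, eval_mul, eval_X, expand_eval, expand_eval]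
  rw [hP, ha2, ha]
  have : eval b E + eval b E * eval b O * v * eval b O = eval b E * (1 + v * eval b O ^ 2) := by ring
  rw [this, hv']
  linear_combination (eval b E) * h2

end Groth.Agent.H7.Char2
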