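import Mathlib
import Groth.Prelude.Def_AzInv
import Groth.Agent.Lib.Helper7.AzRam3
import Groth.Agent.Lib.Helper7.Char2Root

/-! The ramified case in residue characteristic two, and the ramified case in general. -/

set_option autoImplicit false
open scoped TensorProduct
open Polynomial

namespace Groth.Agent.H7.AzRam

universe u v w

section Two

variable {S : Type u} {R : Type v} [CommRing S] [CommRing R] [Algebra S R]
  (lam : R ≃ₐ[S] R) (hlam : ∀ r, lam (lam r) = r)
  (hfix : RInv.IsFixedRing S R lam.toRingEquiv)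
  (A : Type w) [Ring A] [Algebra S A] [Algebra R A] [IsScalarTower S R A] (n : ℕ)

theorem divX_map {B B' : Type*} [CommRing B] [CommRing B'] (f : B →+* B') (F : B[X]) :
    (divX F).map f = divX (F.map f) := by
  ext i
  rw [coeff_map, coeff_divX, coeff_divX, coeff_map]

set_option maxHeartbeats 1600000 in
include hlam hfix in
theorem ram_LG_two_mem (hA : AzInv.IsAzumayaDeg R A n) (hn : 0 < n) (q : PrimeSpectrum S)
    (hram : RInvB.RamP lam q.asIdeal) (h2 : (2 : S) ∈ q.asIdeal) : AzFA.LG S A n q := by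
  classical
  haveI : IsAzumaya R A := hA.1
  obtain ⟨p, hp, hpq⟩ := RInvB.exists_prime_over lam hlam hfix q.asIdeal
  haveI := hp
  obtain ⟨P, hP, hPd, hbez, hD⟩ :=
    Spread.exists_poly_matUnits.{v, w, max u w, max u v} R A p n (hA.2 ⟨p, hp⟩)
  have h2p : (2 : R) ∈ p := by
    have : (2 : S) ∈ p.comap (algebraMap S R) := by rw [hpq]; exact h2
    rw [Ideal.mem_comap, map_ofNat] at this
    exact this
  choose nm hnm using fun r : R => RInvB.exists_nm lam hlam hfix r
  let c : ℕ → S := fun i => nm (P.coeff i)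
  haveI : Nontrivial S := q.nontrivial
  obtain ⟨Q, hQ, hQd, hQc⟩ := exists_monic_of_coeffs n c
  have hcoeff : ∀ i, algebraMap S R (Q.coeff i) - (P.coeff i) ^ 2 ∈ p := by
    intro i
    rw [hQc]
    rcases lt_trichotomy i n with hi | hi | hi
    · rw [if_neg (ne_of_lt hi), if_pos hi]
      have e1 : algebraMap S R (c i) - P.coeff i ^ 2 =
          -(P.coeff i) * (P.coeff i - lam (P.coeff i)) := by
        simp only [c]
        rw [hnm]; ring
      rw [e1]
      exact p.mul_mem_left _ (hram p hp hpq _)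
    · rw [if_pos hi, map_one, hi, ← hPd]
      have : P.coeff P.natDegree = 1 := hP
      rw [this, one_pow, sub_self]
      exact p.zero_mem
    · rw [if_neg (by omega), if_neg (by omega), map_zero,
        Polynomial.coeff_eq_zero_of_natDegree_lt (by rw [hPd]; exact hi)]
      simp
  haveI : CharP p.ResidueField 2 := CharTwo.of_one_ne_zero_of_two_eq_zero one_ne_zero (by
    have : algebraMap R p.ResidueField 2 = 0 := Ideal.algebraMap_residueField_eq_zero.mpr h2p
    rwa [map_ofNat] at this)
  have hsep : (Q.map (algebraMap S q.asIdeal.ResidueField)).Separable := by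
    apply sep_descend q.asIdeal p hpq
    apply sep_of_congr p P hbez (frobenius p.ResidueField 2)
    intro i
    rw [frobenius_def, Polynomial.coeff_map, ← map_pow, ← sub_eq_zero, ← map_sub,
      Ideal.algebraMap_residueField_eq_zero]
    exact hcoeff i
  obtain ⟨S'', _, _, het, q'', hq''p, hq''o, β, hβ, hβ'⟩ :=
    exists_etale_root q.asIdeal Q hQ (by rw [hQd]; exact hn) hsep
  obtain ⟨v, hv⟩ := hβ'.exists_left_inv
  set inc := (Algebra.TensorProduct.includeRight : R →ₐ[S] S'' ⊗[S] R).toRingHom with hinc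
  let b : S'' ⊗[S] R := β ⊗ₜ[S] (1 : R)
  let E : R[X] := contract 2 P
  let O : R[X] := contract 2 (divX P)
  let a : S'' ⊗[S] R := (E.map inc).eval b * (O.map inc).eval b * (v ⊗ₜ[S] (1 : R))
  apply ram_core' lam hlam hfix A n q hram p hpq P hP hbez hD S'' q'' a
  intro p'' hp'' _ hpp
  rw [← Ideal.Quotient.eq_zero_iff_mem]
  let π : S'' ⊗[S] R →+* (S'' ⊗[S] R) ⧸ p'' := Ideal.Quotient.mk p''
  let ψ : R →+* (S'' ⊗[S] R) ⧸ p'' := π.comp inc
  have hψp : ∀ r ∈ p, ψ r = 0 := by
    intro r hr
    have : r ∈ p''.comap inc := by rw [hpp]; exact hr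
    exact Ideal.Quotient.eq_zero_iff_mem.mpr this
  haveI : IsDomain ((S'' ⊗[S] R) ⧸ p'') := Ideal.Quotient.isDomain p''
  haveI : CharP ((S'' ⊗[S] R) ⧸ p'') 2 := CharTwo.of_one_ne_zero_of_two_eq_zero one_ne_zero (by
    have := hψp 2 h2p
    rwa [map_ofNat] at this)
  have hincL : ∀ x : S'', ∀ F : S[X], (F.map (algebraMap S (S'' ⊗[S] R))).eval (x ⊗ₜ[S] (1 : R)) =
      (Polynomial.aeval x F) ⊗ₜ[S] (1 : R) := by
    intro x F
    rw [Polynomial.eval_map, ← Polynomial.aeval_def]
    exact Polynomial.aeval_algHom_apply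
      (Algebra.TensorProduct.includeLeft : S'' →ₐ[S] S'' ⊗[S] R) x F
  have key := Char2.root_formula (P.map ψ) (Q.map (π.comp (algebraMap S (S'' ⊗[S] R))))
    (by
      intro i
      rw [Polynomial.coeff_map, Polynomial.coeff_map, ← map_pow, ← sub_eq_zero]
      have e2 : algebraMap S (S'' ⊗[S] R) (Q.coeff i) = inc (algebraMap S R (Q.coeff i)) := by
        rw [hinc]
        exact (AlgHom.commutes _ _).symm
      rw [RingHom.comp_apply, e2]
      show ψ (algebraMap S R (Q.coeff i)) - ψ (P.coeff i ^ 2) = 0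
      rw [← map_sub]
      exact hψp _ (hcoeff i))
    (π b) (π (v ⊗ₜ[S] (1 : R)))
    (by
      rw [← Polynomial.map_map, Polynomial.eval_map, Polynomial.eval₂_at_apply, hincL, hβ,
        TensorProduct.zero_tmul, map_zero])
    (by
      rw [← Polynomial.map_map, Polynomial.derivative_map, Polynomial.derivative_map,
        Polynomial.eval_map, Polynomial.eval₂_at_apply, hincL,
        ← map_mul, Algebra.TensorProduct.tmul_mul_tmul, mul_one, hv]
      exact map_one π)
  have hE : ∀ F : R[X], π ((F.map inc).eval b) = (F.map ψ).eval (π b) := by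
    intro F
    rw [Polynomial.eval_map, Polynomial.hom_eval₂, Polynomial.eval_map]
  have hPa : π ((P.map inc).eval a) = (P.map ψ).eval (π a) := by
    rw [Polynomial.eval_map, Polynomial.hom_eval₂, Polynomial.eval_map]
  show π ((P.map inc).eval a) = 0
  rw [hPa]
  have ha : π a = (contract 2 (P.map ψ)).eval (π b) * (contract 2 (divX (P.map ψ))).eval (π b) *
      π (v ⊗ₜ[S] (1 : R)) := by
    show π ((E.map inc).eval b * (O.map inc).eval b * (v ⊗ₜ[S] (1 : R))) = _
    rw [map_mul, map_mul, hE, hE]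
    congr 2
    · rw [Polynomial.map_contract (by norm_num)]
    · rw [Polynomial.map_contract (by norm_num), divX_map]
  rw [ha]
  exact key

end Two

section General

variable {S : Type u} {R : Type v} [CommRing S] [CommRing R] [Algebra S R]
  (lam : R ≃ₐ[S] R) (hlam : ∀ r, lam (lam r) = r)
  (hfix : RInv.IsFixedRing S R lam.toRingEquiv)
  (A : Type w) [Ring A] [Algebra S A] [Algebra R A] [IsScalarTower S R A] (n : ℕ)

attribute [local instance] AzBC.algLC

include hlam hfix in
theorem ram_LG (hA : AzInv.IsAzumayaDeg R A n) (hn : 0 < n) (q : PrimeSpectrum S)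
    (hram : RInvB.RamP lam q.asIdeal) : AzFA.LG S A n q := by
  by_cases h2 : (2 : S) ∈ q.asIdeal
  · exact ram_LG_two_mem lam hlam hfix A n hA hn q hram h2
  · let S₂ := Localization.Away (2 : S)
    have h1 : q ∈ Set.range (PrimeSpectrum.comap (algebraMap S S₂)) := by
      rw [PrimeSpectrum.localization_away_comap_range S₂ (2 : S)]
      exact h2
    obtain ⟨q₂, hq₂⟩ := h1
    haveI : Algebra.Etale S S₂ := Algebra.Etale.of_isLocalizationAway (2 : S)
    have hunit : IsUnit (2 : S₂) := by
      have := IsLocalization.Away.algebraMap_isUnit (S := S₂) (2 : S)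
      rwa [map_ofNat] at this
    have hq₂' : q₂.asIdeal.comap (algebraMap S S₂) = q.asIdeal := by
      rw [← hq₂]; rfl
    have key := ram_LG_unit2 (S := S₂) (R := S₂ ⊗[S] R) (RInvB.lamBC lam S₂)
      (RInvB.lamBC_lamBC lam hlam S₂) (RInvB.isFixedRing_lamBC lam hfix S₂) (S₂ ⊗[S] A) n
      (AzBC.isAzumayaDeg_bc S R A S₂ n hA) hn q₂
      (RInvB.ramP_lamBC lam S₂ q.asIdeal hram q₂.asIdeal hq₂') hunit
    have := LG_of_bc S A n S₂ q₂ key
    rwa [hq₂] at this

end General

end Groth.Agent.H7.AzRam
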