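import Mathlib
import Groth.Prelude.Def_AzInv
import Groth.Prelude.Def_W4c2azumayainvolQEt
import Groth.Agent.Lib.Helper7.AzQE1

/-! The separability idempotent of a quadratic étale algebra with involution. -/

set_option autoImplicit false
open scoped TensorProduct
open AzInv

namespace Groth.Agent.H7.AzQE

universe u v

section Elem

variable {S : Type u} {R : Type v} [CommRing S] [CommRing R] [Algebra S R]
  [Algebra.FormallyUnramified S R] [Algebra.EssFiniteType S R]

theorem elem_mul_tmul (r : R) :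
    Algebra.FormallyUnramified.elem S R * (r ⊗ₜ[S] 1) =
      Algebra.FormallyUnramified.elem S R * (1 ⊗ₜ[S] r) := by
  rw [mul_comm, mul_comm _ ((1 : R) ⊗ₜ[S] r)]
  exact (Algebra.FormallyUnramified.one_tmul_mul_elem r).symm

theorem one_sub_elem_mem :
    (1 - Algebra.FormallyUnramified.elem S R) ∈
      Ideal.span (Set.range fun s : R => (1 : R) ⊗ₜ[S] s - s ⊗ₜ[S] (1 : R)) := by
  rw [KaehlerDifferential.span_range_eq_ideal]
  show _ ∈ RingHom.ker _
  rw [RingHom.mem_ker, map_sub, map_one, Algebra.FormallyUnramified.lmul_elem, sub_self]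

theorem elem_mul_one_sub :
    Algebra.FormallyUnramified.elem S R * (1 - Algebra.FormallyUnramified.elem S R) = 0 := by
  have h := one_sub_elem_mem (S := S) (R := R)
  generalize (1 - Algebra.FormallyUnramified.elem S R) = w at h
  induction h using Submodule.span_induction with
  | mem x hx =>
      obtain ⟨s, rfl⟩ := hx
      rw [mul_comm]
      exact Algebra.FormallyUnramified.one_tmul_sub_tmul_one_mul_elem s
  | zero => rw [mul_zero]
  | add x y _ _ hx hy => rw [mul_add, hx, hy, add_zero]
  | smul a x _ hx => rw [smul_eq_mul, mul_left_comm, hx, mul_zero]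

end Elem

section Quad

variable {S : Type u} {R : Type v} [CommRing S] [CommRing R] [Algebra S R]
  (lam : R ≃ₐ[S] R) (hlam : ∀ r, lam (lam r) = r)
  (hfix : RInv.IsFixedRing S R lam.toRingEquiv)

theorem tw_tmul (x y : R) : tw lam (x ⊗ₜ[S] y) = x ⊗ₜ[S] lam y := rfl

include hlam in
theorem tw_tw (z : R ⊗[S] R) : tw lam (tw lam z) = z := by
  induction z using TensorProduct.induction_on with
  | zero => simp
  | add z₁ z₂ h₁ h₂ => rw [map_add, map_add, h₁, h₂]
  | tmul x y => rw [tw_tmul, tw_tmul, hlam]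

include hfix in
theorem mem_range_of_fixed (r : R) (hr : lam r = r) : ∃ s : S, algebraMap S R s = r :=
  (hfix.2 r).mp hr

variable [Algebra.FormallyUnramified S R] [Algebra.EssFiniteType S R]

/-- `c = μ_λ(e₀)`. -/
noncomputable def cc : R :=
  Algebra.TensorProduct.lmul' S (tw lam (Algebra.FormallyUnramified.elem S R))

theorem cc_mul_sub (x : R) : cc lam * (x - lam x) = 0 := by
  have h := congrArg (fun z => Algebra.TensorProduct.lmul' S (tw lam z))
    (elem_mul_tmul (S := S) (R := R) x)
  simp only [map_mul, tw_tmul, Algebra.TensorProduct.lmul'_apply_tmul, mul_one, one_mul, map_one]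
    at h
  have h' : cc lam * x = cc lam * lam x := h
  rw [mul_sub, h', sub_self]

theorem elem_idem : Algebra.FormallyUnramified.elem S R * Algebra.FormallyUnramified.elem S R =
    Algebra.FormallyUnramified.elem S R := by
  have h := elem_mul_one_sub (S := S) (R := R)
  rw [mul_sub, mul_one, sub_eq_zero] at h
  exact h.symm

theorem cc_idem : cc lam * cc lam = cc lam := by
  unfold cc
  rw [← map_mul, ← map_mul, elem_idem]

include hlam in
theorem lam_cc : lam (cc lam) = cc lam := by
  have h1 := cc_mul_sub lam (cc lam)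
  rw [mul_sub, cc_idem, sub_eq_zero] at h1
  -- h1 : c = c * lam c
  have h2 := congrArg lam h1
  rw [map_mul, hlam] at h2
  -- h2 : lam c = lam c * c
  rw [h2, mul_comm, ← h1]

section Rank

variable [Module.Finite S R] [Module.Flat S R]
  (hrank : ∀ p : PrimeSpectrum S, Module.rankAtStalk (R := S) R p = 2)

include hlam hfix hrank in
theorem cc_eq_zero : cc lam = 0 := by
  obtain ⟨c₀, hc₀⟩ := mem_range_of_fixed lam hfix (cc lam) (lam_cc lam hlam)
  have hinj := hfix.1
  have hidem : c₀ * c₀ = c₀ := by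
    apply hinj
    rw [map_mul, hc₀, cc_idem]
  by_contra hne
  have hc₀ne : c₀ ≠ 0 := by
    rintro rfl
    exact hne (by rw [← hc₀, map_zero])
  -- a prime not containing c₀
  have hex : ∃ q : PrimeSpectrum S, c₀ ∉ q.asIdeal := by
    by_contra hall
    push Not at hall
    have hnil : c₀ ∈ nilradical S := by
      rw [nilradical_eq_sInf, Ideal.mem_sInf]
      intro I hI
      exact hall ⟨I, hI⟩
    obtain ⟨k, hk⟩ := (mem_nilradical.mp hnil)
    have hpow : ∀ m : ℕ, c₀ ^ (m + 1) = c₀ := by
      intro m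
      induction m with
      | zero => rw [zero_add, pow_one]
      | succ m ih => rw [pow_succ, ih, hidem]
    rcases k with _ | k
    · rw [pow_zero] at hk
      exact hc₀ne (by rw [← mul_one c₀, hk, mul_zero])
    · rw [hpow] at hk
      exact hc₀ne hk
  obtain ⟨q, hq⟩ := hex
  have h1c : (1 - c₀) ∈ q.asIdeal := by
    have : c₀ * (1 - c₀) ∈ q.asIdeal := by
      rw [mul_sub, mul_one, hidem, sub_self]; exact zero_mem _
    exact (q.isPrime.mem_or_mem this).resolve_left hq
  have hk0 : algebraMap S q.asIdeal.ResidueField (1 - c₀) = 0 :=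
    Ideal.algebraMap_residueField_eq_zero.mpr h1c
  have hspan : ∀ w : q.asIdeal.ResidueField ⊗[S] R, ∃ a : q.asIdeal.ResidueField,
      a • ((1 : q.asIdeal.ResidueField) ⊗ₜ[S] (1 : R)) = w := by
    intro w
    induction w using TensorProduct.induction_on with
    | zero => exact ⟨0, zero_smul _ _⟩
    | add w₁ w₂ h₁ h₂ =>
        obtain ⟨a₁, rfl⟩ := h₁
        obtain ⟨a₂, rfl⟩ := h₂
        exact ⟨a₁ + a₂, add_smul _ _ _⟩
    | tmul a x =>
        have hfx : lam (cc lam * x) = cc lam * x := by
          rw [map_mul, lam_cc lam hlam]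
          have := cc_mul_sub lam x
          rw [mul_sub, sub_eq_zero] at this
          exact this.symm
        obtain ⟨y, hy⟩ := mem_range_of_fixed lam hfix _ hfx
        refine ⟨a * algebraMap S q.asIdeal.ResidueField y, ?_⟩
        have hx : x = c₀ • x + (1 - c₀) • x := by rw [← add_smul, add_sub_cancel, one_smul]
        have e1 : c₀ • x = y • (1 : R) := by
          rw [Algebra.smul_def, hc₀, Algebra.smul_def, mul_one, hy]
        have e2 : a ⊗ₜ[S] ((1 - c₀) • x) = 0 := by
          rw [TensorProduct.tmul_smul, TensorProduct.smul_tmul', Algebra.smul_def, hk0, zero_mul,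
            TensorProduct.zero_tmul]
        have eL : (a * algebraMap S q.asIdeal.ResidueField y) •
            ((1 : q.asIdeal.ResidueField) ⊗ₜ[S] (1 : R)) =
            (a * algebraMap S q.asIdeal.ResidueField y) ⊗ₜ[S] (1 : R) := by
          rw [TensorProduct.smul_tmul', smul_eq_mul, mul_one]
        have eR : a ⊗ₜ[S] x = (a * algebraMap S q.asIdeal.ResidueField y) ⊗ₜ[S] (1 : R) := by
          conv_lhs => rw [hx]
          rw [TensorProduct.tmul_add, e2, add_zero, e1, TensorProduct.tmul_smul,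
            TensorProduct.smul_tmul', Algebra.smul_def, mul_comm]
        rw [eL, eR]
  have hle : Module.finrank q.asIdeal.ResidueField (q.asIdeal.ResidueField ⊗[S] R) ≤ 1 :=
    finrank_le_one _ hspan
  have h2 := hrank q
  rw [Module.rankAtStalk_eq] at h2
  have : Module.finrank q.asIdeal.ResidueField (q.asIdeal.ResidueField ⊗[S] R) = 2 := h2
  omega

include hlam hfix hrank in
theorem one_mem_span : (1 : R) ∈ Ideal.span (Set.range fun x : R => x - lam x) := by
  have hkey : ∀ w ∈ Ideal.span (Set.range fun s : R => (1 : R) ⊗ₜ[S] s - s ⊗ₜ[S] (1 : R)),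
      Algebra.TensorProduct.lmul' S (tw lam w) ∈ Ideal.span (Set.range fun x : R => x - lam x) := by
    intro w hw
    induction hw using Submodule.span_induction with
    | mem x hx =>
        obtain ⟨s, rfl⟩ := hx
        rw [map_sub, map_sub, tw_tmul, tw_tmul, Algebra.TensorProduct.lmul'_apply_tmul,
          Algebra.TensorProduct.lmul'_apply_tmul, one_mul, map_one, mul_one]
        have : lam s - s = -(s - lam s) := by ring
        rw [this]
        exact neg_mem (Ideal.subset_span ⟨s, rfl⟩)
    | zero => rw [map_zero, map_zero]; exact zero_mem _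
    | add x y _ _ hx hy => rw [map_add, map_add]; exact add_mem hx hy
    | smul a x _ hx =>
        rw [smul_eq_mul, map_mul, map_mul]
        exact Ideal.mul_mem_left _ _ hx
  have h := hkey _ (one_sub_elem_mem (S := S) (R := R))
  rw [map_sub, map_sub, map_one, map_one] at h
  have hc : Algebra.TensorProduct.lmul' S (tw lam (Algebra.FormallyUnramified.elem S R)) = 0 :=
    cc_eq_zero lam hlam hfix hrank
  rwa [hc, sub_zero] at h

include hlam hfix hrank in
theorem elem_mul_tw : Algebra.FormallyUnramified.elem S R *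
    tw lam (Algebra.FormallyUnramified.elem S R) = 0 := by
  set e := Algebra.FormallyUnramified.elem S R with he
  have hx : ∀ x : R, e * tw lam e * ((x - lam x) ⊗ₜ[S] 1) = 0 := by
    intro x
    have h1 : e * (x ⊗ₜ[S] 1) = e * (1 ⊗ₜ[S] x) := elem_mul_tmul x
    have h2 : tw lam e * (1 ⊗ₜ[S] x) = tw lam e * (lam x ⊗ₜ[S] 1) := by
      have := congrArg (tw lam) (elem_mul_tmul (S := S) (R := R) (lam x))
      rw [map_mul, map_mul, tw_tmul, tw_tmul, hlam, map_one] at this
      exact this.symm
    rw [TensorProduct.sub_tmul, mul_sub, sub_eq_zero]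
    calc e * tw lam e * (x ⊗ₜ[S] 1) = tw lam e * (e * (x ⊗ₜ[S] 1)) := by ring
      _ = tw lam e * (e * (1 ⊗ₜ[S] x)) := by rw [h1]
      _ = e * (tw lam e * (1 ⊗ₜ[S] x)) := by ring
      _ = e * (tw lam e * (lam x ⊗ₜ[S] 1)) := by rw [h2]
      _ = e * tw lam e * (lam x ⊗ₜ[S] 1) := by ring
  have hall : ∀ r ∈ Ideal.span (Set.range fun x : R => x - lam x),
      e * tw lam e * (r ⊗ₜ[S] 1) = 0 := by
    intro r hr
    induction hr using Submodule.span_induction with
    | mem y hy => obtain ⟨x, rfl⟩ := hy; exact hx x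
    | zero => rw [TensorProduct.zero_tmul, mul_zero]
    | add x y _ _ hx hy => rw [TensorProduct.add_tmul, mul_add, hx, hy, add_zero]
    | smul a x _ hx =>
        have : (a • x) ⊗ₜ[S] (1 : R) = (a ⊗ₜ[S] 1) * (x ⊗ₜ[S] 1) := by
          rw [Algebra.TensorProduct.tmul_mul_tmul, mul_one, smul_eq_mul]
        rw [this, mul_left_comm, hx, mul_zero]
  have := hall 1 (one_mem_span lam hlam hfix hrank)
  rwa [← Algebra.TensorProduct.one_def, mul_one] at this

/-- `D σ x = x ⊗ 1 - 1 ⊗ σ x` as an `S`-linear map. -/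
noncomputable def D (σ : R →ₐ[S] R) : R →ₗ[S] R ⊗[S] R :=
  (TensorProduct.mk S R R).flip 1 - (TensorProduct.mk S R R 1) ∘ₗ σ.toLinearMap

omit [Algebra.FormallyUnramified S R] [Algebra.EssFiniteType S R] [Module.Finite S R]
  [Module.Flat S R] in
theorem D_apply (σ : R →ₐ[S] R) (x : R) : D σ x = x ⊗ₜ[S] 1 - 1 ⊗ₜ[S] σ x := rfl

omit [Algebra.FormallyUnramified S R] [Algebra.EssFiniteType S R] [Module.Finite S R]
  [Module.Flat S R] in
theorem D_one (σ : R →ₐ[S] R) : D σ 1 = 0 := by
  rw [D_apply, map_one, sub_self]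

omit [Algebra.FormallyUnramified S R] [Algebra.EssFiniteType S R] [Module.Finite S R]
  [Module.Flat S R] in
theorem D_scale (σ : R →ₐ[S] R) (x z : R) (s₀ a b : S)
    (h : s₀ • x = a • (1 : R) + b • z) : s₀ • D σ x = b • D σ z := by
  have := congrArg (D σ) h
  rwa [map_smul, map_add, map_smul, map_smul, D_one, smul_zero, zero_add] at this

omit [Algebra.FormallyUnramified S R] [Algebra.EssFiniteType S R] [Module.Finite S R]
  [Module.Flat S R] in
include hlam hfix in
theorem D_mul_D (z : R) : D (AlgHom.id S R) z * D lam.toAlgHom z = 0 := by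
  have hτ : lam (z + lam z) = z + lam z := by rw [map_add, hlam, add_comm]
  have hν : lam (z * lam z) = z * lam z := by rw [map_mul, hlam, mul_comm]
  obtain ⟨τ, hτ'⟩ := mem_range_of_fixed lam hfix _ hτ
  obtain ⟨ν, hν'⟩ := mem_range_of_fixed lam hfix _ hν
  rw [D_apply, D_apply]
  have e1 : (z ⊗ₜ[S] (1 : R) - (1 : R) ⊗ₜ[S] (AlgHom.id S R) z) *
      (z ⊗ₜ[S] (1 : R) - (1 : R) ⊗ₜ[S] lam.toAlgHom z) =
      (z * z) ⊗ₜ[S] (1 : R) - z ⊗ₜ[S] (z + lam z) + (1 : R) ⊗ₜ[S] (z * lam z) := by
    rw [sub_mul, mul_sub, mul_sub, Algebra.TensorProduct.tmul_mul_tmul,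
      Algebra.TensorProduct.tmul_mul_tmul, Algebra.TensorProduct.tmul_mul_tmul,
      Algebra.TensorProduct.tmul_mul_tmul, TensorProduct.tmul_add]
    simp only [mul_one, one_mul, AlgHom.id_apply]
    have : lam.toAlgHom z = lam z := rfl
    rw [this]
    abel
  rw [e1, ← hτ', ← hν', Algebra.algebraMap_eq_smul_one, Algebra.algebraMap_eq_smul_one,
    TensorProduct.tmul_smul, TensorProduct.tmul_smul, TensorProduct.smul_tmul',
    TensorProduct.smul_tmul', ← TensorProduct.sub_tmul, ← TensorProduct.add_tmul]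
  have : z * z - τ • z + ν • (1 : R) = 0 := by
    rw [Algebra.smul_def, Algebra.smul_def, hτ', hν']
    ring
  rw [this, TensorProduct.zero_tmul]

omit [Algebra.FormallyUnramified S R] [Algebra.EssFiniteType S R] [Module.Finite S R]
  [Module.Flat S R] in
include hlam hfix in
theorem exists_decomp (x z : R) : ∃ s₀ a b : S,
    algebraMap S R s₀ = (z - lam z) * (z - lam z) ∧ s₀ • x = a • (1 : R) + b • z := by
  have hs : lam ((z - lam z) * (z - lam z)) = (z - lam z) * (z - lam z) := by
    simp only [map_sub, map_mul, hlam]; ring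
  have hβ : lam ((x - lam x) * (z - lam z)) = (x - lam x) * (z - lam z) := by
    simp only [map_sub, map_mul, hlam]; ring
  have hα : lam ((z - lam z) * (z - lam z) * x - (x - lam x) * (z - lam z) * z) =
      (z - lam z) * (z - lam z) * x - (x - lam x) * (z - lam z) * z := by
    simp only [map_sub, map_mul, hlam]; ring
  obtain ⟨s₀, hs₀⟩ := mem_range_of_fixed lam hfix _ hs
  obtain ⟨b, hb⟩ := mem_range_of_fixed lam hfix _ hβ
  obtain ⟨a, ha⟩ := mem_range_of_fixed lam hfix _ hα
  refine ⟨s₀, a, b, hs₀, ?_⟩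
  rw [Algebra.smul_def, Algebra.smul_def, Algebra.smul_def, hs₀, ha, hb]
  ring

include hlam hfix hrank in
theorem D_mul_D' (x y : R) : D (AlgHom.id S R) x * D lam.toAlgHom y = 0 := by
  set w := D (AlgHom.id S R) x * D lam.toAlgHom y with hw
  have hz : ∀ z : R, ((z - lam z) ^ 4) ⊗ₜ[S] (1 : R) * w = 0 := by
    intro z
    obtain ⟨s₀, a, b, hs₀, hdec⟩ := exists_decomp lam hlam hfix x z
    obtain ⟨s₀', a', b', hs₀', hdec'⟩ := exists_decomp lam hlam hfix y z
    have hss : s₀' = s₀ := hfix.1 (hs₀'.trans hs₀.symm)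
    rw [hss] at hdec'
    have h1 := D_scale (AlgHom.id S R) x z s₀ a b hdec
    have h2 := D_scale lam.toAlgHom y z s₀ a' b' hdec'
    have h3 : (s₀ * s₀) • w = 0 := by
      rw [hw, ← smul_mul_smul_comm, h1, h2, smul_mul_smul_comm, D_mul_D lam hlam hfix z, smul_zero]
    have h4 : ((z - lam z) ^ 4) ⊗ₜ[S] (1 : R) = algebraMap S (R ⊗[S] R) (s₀ * s₀) := by
      rw [Algebra.TensorProduct.algebraMap_apply, map_mul, hs₀]
      congr 1
      ring
    rw [h4, ← Algebra.smul_def, h3]
  have htop : Ideal.span ((fun r : R => r ^ 4) '' (Set.range fun x : R => x - lam x)) = ⊤ :=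
    Ideal.span_pow_eq_top _ ((Ideal.eq_top_iff_one _).mpr (one_mem_span lam hlam hfix hrank)) 4
  have hall : ∀ r ∈ Ideal.span ((fun r : R => r ^ 4) '' (Set.range fun x : R => x - lam x)),
      r ⊗ₜ[S] (1 : R) * w = 0 := by
    intro r hr
    induction hr using Submodule.span_induction with
    | mem y hy => obtain ⟨_, ⟨z, rfl⟩, rfl⟩ := hy; exact hz z
    | zero => rw [TensorProduct.zero_tmul, zero_mul]
    | add x y _ _ hx hy => rw [TensorProduct.add_tmul, add_mul, hx, hy, add_zero]
    | smul a x _ hx =>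
        have : (a • x) ⊗ₜ[S] (1 : R) = (a ⊗ₜ[S] 1) * (x ⊗ₜ[S] 1) := by
          rw [Algebra.TensorProduct.tmul_mul_tmul, mul_one, smul_eq_mul]
        rw [this, mul_assoc, hx, mul_zero]
  have := hall 1 (by rw [htop]; trivial)
  rwa [← Algebra.TensorProduct.one_def, one_mul] at this

include hlam hfix hrank in
theorem elem_add_tw : Algebra.FormallyUnramified.elem S R +
    tw lam (Algebra.FormallyUnramified.elem S R) = 1 := by
  set e := Algebra.FormallyUnramified.elem S R with he
  -- (1 - e) * D λ y = 0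
  have h1 : ∀ y : R, (1 - e) * D lam.toAlgHom y = 0 := by
    intro y
    have h := one_sub_elem_mem (S := S) (R := R)
    rw [← he] at h
    generalize (1 - e) = w at h
    induction h using Submodule.span_induction with
    | mem x hx =>
        obtain ⟨s, rfl⟩ := hx
        have : (1 : R) ⊗ₜ[S] s - s ⊗ₜ[S] (1 : R) = -D (AlgHom.id S R) s := by
          rw [D_apply, AlgHom.id_apply, neg_sub]
        show ((1 : R) ⊗ₜ[S] s - s ⊗ₜ[S] (1 : R)) * _ = 0
        rw [this, neg_mul, D_mul_D' lam hlam hfix hrank, neg_zero]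
    | zero => rw [zero_mul]
    | add x y _ _ hx hy => rw [add_mul, hx, hy, add_zero]
    | smul a x _ hx => rw [smul_eq_mul, mul_assoc, hx, mul_zero]
  -- (1 - e) * tw (1 - e) = 0
  have h2' : ∀ w ∈ Ideal.span (Set.range fun s : R => (1 : R) ⊗ₜ[S] s - s ⊗ₜ[S] (1 : R)),
      (1 - e) * tw lam w = 0 := by
    intro w h
    induction h using Submodule.span_induction with
    | mem x hx =>
        obtain ⟨s, rfl⟩ := hx
        have : tw lam ((1 : R) ⊗ₜ[S] s - s ⊗ₜ[S] (1 : R)) = -D lam.toAlgHom s := by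
          rw [map_sub, tw_tmul, tw_tmul, D_apply, map_one, neg_sub]
          rfl
        show (1 - e) * tw lam ((1 : R) ⊗ₜ[S] s - s ⊗ₜ[S] (1 : R)) = 0
        rw [this, mul_neg, h1, neg_zero]
    | zero => rw [map_zero, mul_zero]
    | add x y _ _ hx hy => rw [map_add, mul_add, hx, hy, add_zero]
    | smul a x _ hx => rw [smul_eq_mul, map_mul, mul_left_comm, hx, mul_zero]
  have h2 : (1 - e) * tw lam (1 - e) = 0 := by
    have h := one_sub_elem_mem (S := S) (R := R)
    rw [← he] at h
    exact h2' _ h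
  rw [map_sub, map_one] at h2
  have h3 := elem_mul_tw lam hlam hfix hrank
  rw [← he] at h3
  have : (1 - e) * (1 - tw lam e) = 1 - (e + tw lam e) + e * tw lam e := by ring
  rw [this, h3, add_zero, sub_eq_zero] at h2
  exact h2.symm

end Rank

/-- the package of properties of the separability idempotent. -/
theorem exists_e₀ {S : Type u} {R : Type v} [CommRing S] [CommRing R] [Algebra S R]
    (lam : R ≃ₐ[S] R) (hlam : ∀ r, lam (lam r) = r)
    (hfix : RInv.IsFixedRing S R lam.toRingEquiv) (hq : RInv.IsQuadEtale S R) :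
    ∃ e₀ : R ⊗[S] R, (∀ r : R, e₀ * (r ⊗ₜ[S] 1) = e₀ * (1 ⊗ₜ[S] r)) ∧
      Algebra.TensorProduct.lmul' S e₀ = 1 ∧
      Algebra.TensorProduct.lmul' S (tw lam e₀) = 0 ∧ e₀ + tw lam e₀ = 1 := by
  obtain ⟨hfin, hproj, hunr, hrank⟩ := hq
  haveI := hfin
  haveI := hproj
  haveI := hunr
  exact ⟨Algebra.FormallyUnramified.elem S R, elem_mul_tmul,
    Algebra.FormallyUnramified.lmul_elem, cc_eq_zero lam hlam hfix hrank,
    elem_add_tw lam hlam hfix hrank⟩

end Quad

end Groth.Agent.H7.AzQE
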