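import Mathlib
import Groth.Prelude.Def_AzInv
import Groth.Agent.Lib.Helper7.AzQE1

/-! Comparison of two algebras with involution in the quadratic étale case. -/

set_option autoImplicit false
open scoped TensorProduct
open AzInv

namespace Groth.Agent.H7.AzQE

universe u v w w' u'

section Compare

variable {S : Type u} {R : Type v} [CommRing S] [CommRing R] [Algebra S R]
  (lam : R ≃ₐ[S] R) (hlam : ∀ r, lam (lam r) = r)
  {A : Type w} [Ring A] [Algebra S A] [Algebra R A] [IsScalarTower S R A]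
  (t : LamInv R A lam)
  {A' : Type w'} [Ring A'] [Algebra S A'] [Algebra R A'] [IsScalarTower S R A']
  (t' : LamInv R A' lam)
  (S' : Type u') [CommRing S'] [Algebra S S'] [Algebra R S'] [IsScalarTower S R S']
  {n : ℕ} (ρ : A →ₐ[R] Matrix (Fin n) (Fin n) S') (ρ' : A' →ₐ[R] Matrix (Fin n) (Fin n) S')
  (e₀ : R ⊗[S] R)
  (h1 : ∀ r : R, e₀ * (r ⊗ₜ[S] 1) = e₀ * (1 ⊗ₜ[S] r))
  (h2 : Algebra.TensorProduct.lmul' S e₀ = 1)
  (h3 : Algebra.TensorProduct.lmul' S (tw lam e₀) = 0) (h4 : e₀ + tw lam e₀ = 1)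

include hlam h1 h2 h3 h4 in
theorem exists_iso (hφ : Function.Bijective (phi S' ρ)) (hφ' : Function.Bijective (phi S' ρ')) :
    ∃ f : S' ⊗[S] A ≃ₐ[S'] S' ⊗[S] A',
      (∀ (r : R) (x : S' ⊗[S] A),
        f (((1 : S') ⊗ₜ[S] algebraMap R A r) * x) = ((1 : S') ⊗ₜ[S] algebraMap R A' r) * f x) ∧
      ∀ x : S' ⊗[S] A, f (t.bc S lam S' x) = t'.bc S lam S' (f x) := by
  have hΘ : Function.Bijective (Theta lam t S' ρ) :=
    ⟨Theta_injective lam hlam t S' ρ e₀ h1 h2 h4 hφ.1,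
      Theta_surjective lam hlam t S' ρ e₀ h1 h2 h3 hφ.2⟩
  have hΘ' : Function.Bijective (Theta lam t' S' ρ') :=
    ⟨Theta_injective lam hlam t' S' ρ' e₀ h1 h2 h4 hφ'.1,
      Theta_surjective lam hlam t' S' ρ' e₀ h1 h2 h3 hφ'.2⟩
  let E := AlgEquiv.ofBijective (Theta lam t S' ρ) hΘ
  let E' := AlgEquiv.ofBijective (Theta lam t' S' ρ') hΘ'
  have hE : ∀ x, E' ((E.trans E'.symm) x) = Theta lam t S' ρ x := by
    intro x
    show E' (E'.symm (E x)) = _
    rw [AlgEquiv.apply_symm_apply]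
    rfl
  have hE'app : ∀ y, E' y = Theta lam t' S' ρ' y := fun y => rfl
  refine ⟨E.trans E'.symm, ?_, ?_⟩
  · intro r x
    apply E'.injective
    have e1 : (1 : S') ⊗ₜ[S] algebraMap R A r = iota (A := A) S' (1 ⊗ₜ[S] r) := by
      rw [iota_tmul, map_one]
    have e2 : (1 : S') ⊗ₜ[S] algebraMap R A' r = iota (A := A') S' (1 ⊗ₜ[S] r) := by
      rw [iota_tmul, map_one]
    rw [hE, e1, e2, Theta_iota_mul, hE'app, Theta_iota_mul, ← hE'app, hE]
  · intro x
    apply E'.injective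
    rw [hE, Theta_bc lam hlam, hE'app, Theta_bc lam hlam, ← hE'app, hE]

end Compare

end Groth.Agent.H7.AzQE
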