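import Mathlib
import Groth.Agent.Lib.Helper7.Spread3

/-! Faithfully flat descent of elements, and global faithfully flat splitting of Azumaya algebras
of constant rank. -/

set_option autoImplicit false
open scoped TensorProduct

namespace Groth.Agent.H7.TP

universe u v w

section Descent

/-- faithfully flat descent for elements of a flat module -/
theorem exists_of_rTensor_eq (R : Type u) [CommRing R] (S : Type v) [CommRing S] [Algebra R S]
    [Module.FaithfullyFlat R S] (M : Type w) [AddCommGroup M] [Module R M] [Module.Flat R M]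
    (x : S ⊗[R] M)
    (h : (Algebra.TensorProduct.includeLeft : S →ₐ[R] S ⊗[R] S).toLinearMap.rTensor M x =
      (Algebra.TensorProduct.includeRight : S →ₐ[R] S ⊗[R] S).toLinearMap.rTensor M x) :
    ∃ m : M, x = 1 ⊗ₜ m := by
  have heff : Function.Exact (Algebra.linearMap R S)
      (Algebra.TensorProduct.includeLeftSubRight R S) :=
    Algebra.IsEffective.of_faithfullyFlat R S
  have hex := Module.Flat.rTensor_exact M heff
  have hx : (Algebra.TensorProduct.includeLeftSubRight R S).rTensor M x = 0 := by
    rw [Algebra.TensorProduct.includeLeftSubRight, LinearMap.rTensor_sub, LinearMap.sub_apply, h,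
      sub_self]
  have key : ∀ y : R ⊗[R] M, (Algebra.linearMap R S).rTensor M y =
      (1 : S) ⊗ₜ[R] (TensorProduct.lid R M y) := by
    intro y
    induction y using TensorProduct.induction_on with
    | zero => simp
    | add y₁ y₂ h₁ h₂ => rw [map_add, map_add, TensorProduct.tmul_add, h₁, h₂]
    | tmul r m =>
      rw [LinearMap.rTensor_tmul, TensorProduct.lid_tmul, Algebra.linearMap_apply,
        Algebra.algebraMap_eq_smul_one, TensorProduct.smul_tmul]
  obtain ⟨y, hy⟩ := (hex x).mp hx
  exact ⟨TensorProduct.lid R M y, by rw [← hy, key]⟩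

end Descent

section Global

variable (R : Type u) [CommRing R] (A : Type u) [Ring A] [Algebra R A] [IsAzumaya R A] (n : ℕ)
  (hrk : ∀ p : PrimeSpectrum R, Module.rankAtStalk (R := R) A p = n ^ 2)

include hrk in
theorem exists_local_splitting (p : Ideal R) [hp : p.IsPrime] :
    ∃ f : R, f ∉ p ∧ ∃ (R' : Type u) (_ : CommRing R') (_ : Algebra R R'), Module.Flat R R' ∧
      (∀ q : PrimeSpectrum R, f ∉ q.asIdeal →
        ∃ q' : PrimeSpectrum R', q'.comap (algebraMap R R') = q) ∧
      Nonempty ((R' ⊗[R] A) ≃ₐ[R'] Matrix (Fin n) (Fin n) R') := by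
  obtain ⟨f, hf, R', _, _, _, _, -, -, hff, r, hr, ⟨φ⟩⟩ := Spread.split_near_prime R A p
  refine ⟨f, hf, R', inferInstance, inferInstance, ?_, ?_, ?_⟩
  · haveI : Module.Flat R (Localization.Away f) :=
      IsLocalization.flat (Localization.Away f) (Submonoid.powers f)
    exact Module.Flat.trans R (Localization.Away f) R'
  · intro q hq
    have h1 : q ∈ Set.range (PrimeSpectrum.comap (algebraMap R (Localization.Away f))) := by
      rw [PrimeSpectrum.localization_away_comap_range (Localization.Away f) f]
      exact hq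
    obtain ⟨q₁, rfl⟩ := h1
    obtain ⟨q', rfl⟩ := PrimeSpectrum.comap_surjective_of_faithfullyFlat
      (A := Localization.Away f) (B := R') q₁
    refine ⟨q', ?_⟩
    rw [IsScalarTower.algebraMap_eq R (Localization.Away f) R']
    rfl
  · -- `r = n` by comparing ranks at a prime of `R'`
    have h1 : (⟨p, hp⟩ : PrimeSpectrum R) ∈
        Set.range (PrimeSpectrum.comap (algebraMap R (Localization.Away f))) := by
      rw [PrimeSpectrum.localization_away_comap_range (Localization.Away f) f]
      exact hf
    obtain ⟨q₁, hq₁⟩ := h1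
    obtain ⟨q', rfl⟩ := PrimeSpectrum.comap_surjective_of_faithfullyFlat
      (A := Localization.Away f) (B := R') q₁
    haveI : Nontrivial R' := q'.nontrivial
    have h2 := congrFun (Module.rankAtStalk_eq_of_equiv φ.toLinearEquiv) q'
    rw [Module.rankAtStalk_baseChange, hrk, Module.rankAtStalk_eq_finrank_of_free] at h2
    simp only [Module.finrank_matrix, Fintype.card_fin, Module.finrank_self, mul_one,
      Pi.natCast_apply, Nat.cast_id] at h2
    have h3 : n = r := by
      have : n ^ 2 = r ^ 2 := by rw [h2, pow_two]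
      exact Nat.pow_left_injective (by norm_num : (2 : ℕ) ≠ 0) this
    subst h3
    exact ⟨φ⟩

omit [IsAzumaya R A] in
/-- assemble algebra maps into matrix algebras over the factors into one over the product -/
noncomputable def piMatAlgHom {ι : Type*} (R' : ι → Type*) [∀ i, CommRing (R' i)]
    [∀ i, Algebra R (R' i)] (ψ : ∀ i, A →ₐ[R] Matrix (Fin n) (Fin n) (R' i)) :
    A →ₐ[R] Matrix (Fin n) (Fin n) (Π i, R' i) where
  toFun a := Matrix.of fun j k i => ψ i a j k
  map_one' := by
    ext j k i
    simp only [map_one, Matrix.of_apply, Matrix.one_apply]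
    split_ifs <;> rfl
  map_mul' a b := by
    ext j k i
    simp [Matrix.mul_apply, Finset.sum_apply]
  map_zero' := by
    ext j k i
    simp
  map_add' a b := by
    ext j k i
    simp
  commutes' r := by
    ext j k i
    simp only [AlgHom.commutes, Matrix.of_apply, Matrix.algebraMap_matrix_apply]
    split_ifs <;> rfl

include hrk in
theorem exists_global_splitting (hn : 0 < n) :
    ∃ (S : Type u) (_ : CommRing S) (_ : Algebra R S), Module.FaithfullyFlat R S ∧
      Nonempty ((S ⊗[R] A) ≃ₐ[S] Matrix (Fin n) (Fin n) S) := by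
  classical
  choose f hf R' hR'c hR'a hflat hspec hφ using fun p : PrimeSpectrum R =>
    exists_local_splitting R A n hrk p.asIdeal (hp := p.isPrime)
  have hcover : (Set.univ : Set (PrimeSpectrum R)) ⊆
      ⋃ p : PrimeSpectrum R, (PrimeSpectrum.basicOpen (f p) : Set (PrimeSpectrum R)) := by
    intro p _
    exact Set.mem_iUnion.mpr ⟨p, hf p⟩
  obtain ⟨t, ht⟩ := isCompact_univ.elim_finite_subcover
    (fun p => (PrimeSpectrum.basicOpen (f p) : Set (PrimeSpectrum R)))
    (fun p => (PrimeSpectrum.basicOpen (f p)).isOpen) hcover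
  letI : ∀ p, CommRing (R' p) := hR'c
  letI : ∀ p, Algebra R (R' p) := hR'a
  haveI : ∀ p, Module.Flat R (R' p) := hflat
  let S := Π i : t, R' i.1
  haveI hflatS : Module.Flat R S :=
    Module.Flat.of_linearEquiv (DirectSum.linearEquivFunOnFintype R t (fun i => R' i.1)).symm
  have hsurj : Function.Surjective (PrimeSpectrum.comap (algebraMap R S)) := by
    intro q
    have hq := ht (Set.mem_univ q)
    simp only [Set.mem_iUnion] at hq
    obtain ⟨p, hpt, hqp⟩ := hq
    obtain ⟨q', hq'⟩ := hspec p q hqp
    refine ⟨q'.comap (Pi.evalRingHom (fun i : t => R' i.1) ⟨p, hpt⟩), ?_⟩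
    rw [← hq']
    rfl
  haveI hffS : Module.FaithfullyFlat R S := Module.FaithfullyFlat.of_comap_surjective hsurj
  refine ⟨S, inferInstance, inferInstance, hffS, ?_⟩
  let φ : ∀ i : t, (R' i.1 ⊗[R] A) ≃ₐ[R' i.1] Matrix (Fin n) (Fin n) (R' i.1) :=
    fun i => Classical.choice (hφ i.1)
  let g : A →ₐ[R] Matrix (Fin n) (Fin n) S :=
    piMatAlgHom R A n (fun i : t => R' i.1)
      (fun i => ((φ i : (R' i.1 ⊗[R] A) →ₐ[R' i.1] Matrix (Fin n) (Fin n) (R' i.1)).restrictScalars
        R).comp Algebra.TensorProduct.includeRight)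
  let Φ : S ⊗[R] A →ₐ[S] Matrix (Fin n) (Fin n) S :=
    Algebra.TensorProduct.lift (Algebra.ofId S _) g (fun s a => Algebra.commutes s _)
  haveI : Nonempty (Fin n) := ⟨⟨0, hn⟩⟩
  haveI : IsAzumaya S (Matrix (Fin n) (Fin n) S) := IsAzumaya.matrix S (Fin n)
  haveI : IsAzumaya S (S ⊗[R] A) := Azu.isAzumaya_baseChange R S A
  have hbij : Function.Bijective Φ := by
    apply Spread.algHom_bijective_of_rankAtStalk (L := S) (A₁ := S ⊗[R] A)
      (A₂ := Matrix (Fin n) (Fin n) S) Φ
    intro q
    haveI : Nontrivial S := q.nontrivial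
    rw [Module.rankAtStalk_baseChange, hrk, Module.rankAtStalk_eq_finrank_of_free]
    simp [Module.finrank_matrix, pow_two]
  exact ⟨AlgEquiv.ofBijective Φ hbij⟩

end Global

end Groth.Agent.H7.TP
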