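import Mathlib
import Groth.Prelude.Def_AzInv
import Groth.Agent.Lib.Helper7.TP5
import Groth.Agent.Lib.Helper7.AzQE1

/-! Global étale splitting of Azumaya algebras of constant degree, with universe bookkeeping. -/

set_option autoImplicit false
open scoped TensorProduct
open AzInv

namespace Groth.Agent.H7.AzQE

universe u v w

section SameUniverse

variable (R : Type u) [CommRing R] (A : Type u) [Ring A] [Algebra R A] [IsAzumaya R A] (n : ℕ)
  (hrk : ∀ p : PrimeSpectrum R, Module.rankAtStalk (R := R) A p = n ^ 2)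

include hrk in
theorem exists_local_etale_splitting (p : Ideal R) [hp : p.IsPrime] :
    ∃ f : R, f ∉ p ∧ ∃ (R' : Type u) (_ : CommRing R') (_ : Algebra R R'), Algebra.Etale R R' ∧
      (∀ q : PrimeSpectrum R, f ∉ q.asIdeal →
        ∃ q' : PrimeSpectrum R', q'.comap (algebraMap R R') = q) ∧
      Nonempty ((R' ⊗[R] A) ≃ₐ[R'] Matrix (Fin n) (Fin n) R') := by
  obtain ⟨f, hf, R', _, _, _, _, -, het, hff, r, hr, ⟨φ⟩⟩ := Spread.split_near_prime R A p
  refine ⟨f, hf, R', inferInstance, inferInstance, ?_, ?_, ?_⟩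
  · haveI : Algebra.Etale R (Localization.Away f) := Algebra.Etale.of_isLocalizationAway f
    exact Algebra.Etale.comp R (Localization.Away f) R'
  · intro q hq
    have h1 : q ∈ Set.range (PrimeSpectrum.comap (algebraMap R (Localization.Away f))) := by
      rw [PrimeSpectrum.localization_away_comap_range (Localization.Away f) f]
      exact hq
    obtain ⟨q₁, rfl⟩ := h1
    obtain ⟨q', rfl⟩ := PrimeSpectrum.comap_surjective_of_faithfullyFlat
      (A := Localization.Away f) (B := R') q₁
    refine ⟨q', ?_⟩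
    rw [IsScalarTower.algebraMap_eq R (Localization.Away f) R']
    rfl
  · have h1 : (⟨p, hp⟩ : PrimeSpectrum R) ∈
        Set.range (PrimeSpectrum.comap (algebraMap R (Localization.Away f))) := by
      rw [PrimeSpectrum.localization_away_comap_range (Localization.Away f) f]
      exact hf
    obtain ⟨q₁, hq₁⟩ := h1
    obtain ⟨q', rfl⟩ := PrimeSpectrum.comap_surjective_of_faithfullyFlat
      (A := Localization.Away f) (B := R') q₁
    haveI : Nontrivial R' := q'.nontrivial
    have h2 := congrFun (Module.rankAtStalk_eq_of_equiv φ.toLinearEquiv) q'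
    rw [Module.rankAtStalk_baseChange, hrk, Module.rankAtStalk_eq_finrank_of_free] at h2
    simp only [Module.finrank_matrix, Fintype.card_fin, Module.finrank_self, mul_one,
      Pi.natCast_apply, Nat.cast_id] at h2
    have h3 : n = r := by
      have : n ^ 2 = r ^ 2 := by rw [h2, pow_two]
      exact Nat.pow_left_injective (by norm_num : (2 : ℕ) ≠ 0) this
    subst h3
    exact ⟨φ⟩

include hrk in
theorem exists_global_etale_splitting (hn : 0 < n) :
    ∃ (R' : Type u) (_ : CommRing R') (_ : Algebra R R'), Algebra.Etale R R' ∧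
      Module.FaithfullyFlat R R' ∧
      Nonempty ((R' ⊗[R] A) ≃ₐ[R'] Matrix (Fin n) (Fin n) R') := by
  classical
  choose f hf R' hR'c hR'a het hspec hφ using fun p : PrimeSpectrum R =>
    exists_local_etale_splitting R A n hrk p.asIdeal (hp := p.isPrime)
  have hcover : (Set.univ : Set (PrimeSpectrum R)) ⊆
      ⋃ p : PrimeSpectrum R, (PrimeSpectrum.basicOpen (f p) : Set (PrimeSpectrum R)) := by
    intro p _
    exact Set.mem_iUnion.mpr ⟨p, hf p⟩
  obtain ⟨t, ht⟩ := isCompact_univ.elim_finite_subcover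
    (fun p => (PrimeSpectrum.basicOpen (f p) : Set (PrimeSpectrum R)))
    (fun p => (PrimeSpectrum.basicOpen (f p)).isOpen) hcover
  letI : ∀ p, CommRing (R' p) := hR'c
  letI : ∀ p, Algebra R (R' p) := hR'a
  haveI : ∀ p, Algebra.Etale R (R' p) := het
  let T := Π i : t, R' i.1
  haveI hetT : Algebra.Etale R T := inferInstance
  haveI hflatT : Module.Flat R T := inferInstance
  have hsurj : Function.Surjective (PrimeSpectrum.comap (algebraMap R T)) := by
    intro q
    have hq := ht (Set.mem_univ q)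
    simp only [Set.mem_iUnion] at hq
    obtain ⟨p, hpt, hqp⟩ := hq
    obtain ⟨q', hq'⟩ := hspec p q hqp
    refine ⟨q'.comap (Pi.evalRingHom (fun i : t => R' i.1) ⟨p, hpt⟩), ?_⟩
    rw [← hq']
    rfl
  haveI hffT : Module.FaithfullyFlat R T := Module.FaithfullyFlat.of_comap_surjective hsurj
  refine ⟨T, inferInstance, inferInstance, hetT, hffT, ?_⟩
  let φ : ∀ i : t, (R' i.1 ⊗[R] A) ≃ₐ[R' i.1] Matrix (Fin n) (Fin n) (R' i.1) :=
    fun i => Classical.choice (hφ i.1)
  let g : A →ₐ[R] Matrix (Fin n) (Fin n) T :=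
    TP.piMatAlgHom R A n (fun i : t => R' i.1)
      (fun i => ((φ i : (R' i.1 ⊗[R] A) →ₐ[R' i.1] Matrix (Fin n) (Fin n) (R' i.1)).restrictScalars
        R).comp Algebra.TensorProduct.includeRight)
  let Φ : T ⊗[R] A →ₐ[T] Matrix (Fin n) (Fin n) T :=
    Algebra.TensorProduct.lift (Algebra.ofId T _) g (fun s a => Algebra.commutes s _)
  haveI : Nonempty (Fin n) := ⟨⟨0, hn⟩⟩
  haveI : IsAzumaya T (Matrix (Fin n) (Fin n) T) := IsAzumaya.matrix T (Fin n)
  haveI : IsAzumaya T (T ⊗[R] A) := Azu.isAzumaya_baseChange R T A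
  have hbij : Function.Bijective Φ := by
    apply Spread.algHom_bijective_of_rankAtStalk (L := T) (A₁ := T ⊗[R] A)
      (A₂ := Matrix (Fin n) (Fin n) T) Φ
    intro q
    haveI : Nontrivial T := q.nontrivial
    rw [Module.rankAtStalk_baseChange, hrk, Module.rankAtStalk_eq_finrank_of_free]
    simp [Module.finrank_matrix, pow_two]
  exact ⟨AlgEquiv.ofBijective Φ hbij⟩

end SameUniverse

section Bij

variable {R : Type v} [CommRing R] {A : Type w} [Ring A] [Algebra R A]
  (S' : Type u) [CommRing S'] [Algebra R S'] {n : ℕ}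

theorem phi_bijective_of_azumaya (hn : 0 < n) (hA : IsAzumayaDeg R A n)
    (ρ : A →ₐ[R] Matrix (Fin n) (Fin n) S') : Function.Bijective (phi S' ρ) := by
  haveI : IsAzumaya R A := hA.1
  haveI : Nonempty (Fin n) := ⟨⟨0, hn⟩⟩
  haveI : IsAzumaya S' (Matrix (Fin n) (Fin n) S') := IsAzumaya.matrix S' (Fin n)
  haveI : IsAzumaya S' (S' ⊗[R] A) := Azu.isAzumaya_baseChange R S' A
  apply Spread.algHom_bijective_of_rankAtStalk (L := S') (A₁ := S' ⊗[R] A)
    (A₂ := Matrix (Fin n) (Fin n) S') (phi S' ρ)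
  intro q
  haveI : Nontrivial S' := q.nontrivial
  rw [Module.rankAtStalk_baseChange, hA.2, Module.rankAtStalk_eq_finrank_of_free]
  simp [Module.finrank_matrix, pow_two]

end Bij

section Data

variable (S : Type u) (R : Type v) [CommRing S] [CommRing R] [Algebra S R]
  [Algebra.Etale S R] [Module.FaithfullyFlat S R]
  (A : Type w) [Ring A] [Algebra R A] (n : ℕ)

theorem exists_split_data (hn : 0 < n) (hA : IsAzumayaDeg R A n) :
    ∃ (S' : Type u) (_ : CommRing S') (_ : Algebra S S') (_ : Algebra R S')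
      (_ : IsScalarTower S R S'), Algebra.Etale S S' ∧ Module.FaithfullyFlat S S' ∧
      Nonempty (A →ₐ[R] Matrix (Fin n) (Fin n) S') := by
  haveI : IsAzumaya R A := hA.1
  haveI : Small.{v} A := Module.Finite.small R A
  let e : Shrink.{v} A ≃ₐ[R] A := Shrink.algEquiv R A
  haveI : IsAzumaya R (Shrink.{v} A) := IsAzumaya.of_AlgEquiv R A (Shrink.{v} A) e.symm
  have hrk₀ : ∀ p : PrimeSpectrum R, Module.rankAtStalk (R := R) (Shrink.{v} A) p = n ^ 2 := by
    intro p
    rw [← hA.2 p]
    exact congrFun (Module.rankAtStalk_eq_of_equiv e.toLinearEquiv) p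
  obtain ⟨R', _, _, het, hff, ⟨φ⟩⟩ := exists_global_etale_splitting R (Shrink.{v} A) n hrk₀ hn
  letI : Algebra S R' := ((algebraMap R R').comp (algebraMap S R)).toAlgebra
  haveI : IsScalarTower S R R' := IsScalarTower.of_algebraMap_eq (fun _ => rfl)
  haveI : Algebra.Etale S R' := Algebra.Etale.comp S R R'
  haveI : Module.FaithfullyFlat S R' := Module.FaithfullyFlat.trans S R R'
  haveI : Small.{u} R' := Algebra.FiniteType.small (R := S)
  let σS : Shrink.{u} R' ≃ₐ[S] R' := Shrink.algEquiv S R'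
  let σR : Shrink.{u} R' ≃ₐ[R] R' := Shrink.algEquiv R R'
  have htower : IsScalarTower S R (Shrink.{u} R') := by
    refine IsScalarTower.of_algebraMap_eq (fun s => ?_)
    apply σS.injective
    rw [AlgEquiv.commutes]
    show _ = σR (algebraMap R (Shrink.{u} R') (algebraMap S R s))
    rw [AlgEquiv.commutes]
    rfl
  refine ⟨Shrink.{u} R', inferInstance, inferInstance, inferInstance, htower,
    Algebra.Etale.of_equiv σS.symm,
    Module.FaithfullyFlat.of_linearEquiv S R' σS.toLinearEquiv, ?_⟩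
  exact ⟨((σR.symm : R' →ₐ[R] Shrink.{u} R').mapMatrix).comp
    (((φ : (R' ⊗[R] Shrink.{v} A) →ₐ[R'] Matrix (Fin n) (Fin n) R').restrictScalars R).comp
      ((Algebra.TensorProduct.includeRight : Shrink.{v} A →ₐ[R] R' ⊗[R] Shrink.{v} A).comp
        (e.symm : A →ₐ[R] Shrink.{v} A)))⟩

end Data

end Groth.Agent.H7.AzQE
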