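import Mathlib
import Groth.Prelude.Def_AzInv
import Groth.Prelude.Def_W4c2azumayainvolQEt
import Groth.Agent.Lib.Helper7.AzQE0
import Groth.Agent.Lib.Helper7.AzQE2
import Groth.Agent.Lib.Helper7.AzQE3

/-! The quadratic étale case: a single type (S17354). -/

set_option autoImplicit false
open scoped TensorProduct
open AzInv

namespace Groth.Agent.H7.AzQE

universe u v w

section M1

variable (R : Type v) (A : Type w) [CommRing R] [Ring A] [Algebra R A]

/-- `M₁(A) ≃ A`. -/
def m1Equiv : Matrix (Fin 1) (Fin 1) A ≃ₐ[R] A where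
  toFun M := M 0 0
  invFun a := Matrix.of fun _ _ => a
  left_inv M := by
    ext i j
    fin_cases i; fin_cases j; rfl
  right_inv a := rfl
  map_mul' M N := by simp [Matrix.mul_apply]
  map_add' M N := rfl
  commutes' r := by simp [Matrix.algebraMap_matrix_apply]

end M1

section Inst

variable (S : Type u) (R : Type v) [CommRing S] [CommRing R] [Algebra S R]

theorem etale_of_isQuadEtale (hq : RInv.IsQuadEtale S R) : Algebra.Etale S R := by
  obtain ⟨hfin, hproj, hunr, hrank⟩ := hq
  haveI := hfin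
  haveI := hproj
  haveI := hunr
  haveI : Module.FinitePresentation S R := Module.finitePresentation_of_projective S R
  exact Algebra.Etale.of_formallyUnramified_of_flat

theorem faithfullyFlat_of_isQuadEtale (hq : RInv.IsQuadEtale S R) : Module.FaithfullyFlat S R := by
  obtain ⟨hfin, hproj, hunr, hrank⟩ := hq
  haveI := hfin
  haveI := hproj
  have hsurj : Function.Surjective (PrimeSpectrum.comap (algebraMap S R)) := by
    rw [← PrimeSpectrum.rankAtStalk_pos_iff_comap_surjective]
    intro p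
    rw [hrank p]
    norm_num
  exact Module.FaithfullyFlat.of_comap_surjective hsurj

end Inst

section Main

variable (S : Type u) (R : Type v) [CommRing S] [CommRing R] [Algebra S R]
  (lam : R ≃ₐ[S] R) (hlam : ∀ r, lam (lam r) = r)
  (hfix : RInv.IsFixedRing S R lam.toRingEquiv) (hq : RInv.IsQuadEtale S R)
  (A : Type w) [Ring A] [Algebra S A] [Algebra R A] [IsScalarTower S R A]

include hfix hq in
theorem sameType_self (n : ℕ) (hn : 0 < n) (hA : IsAzumayaDeg R A n) (t : LamInv R A lam) :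
    SameType S lam t (LamInv.self lam hlam) := by
  haveI := etale_of_isQuadEtale S R hq
  haveI := faithfullyFlat_of_isQuadEtale S R hq
  obtain ⟨e₀, h1, h2, h3, h4⟩ := exists_e₀ lam hlam hfix hq
  obtain ⟨S', _, _, _, _, het, hff, ⟨ρ⟩⟩ := exists_split_data S R A n hn hA
  haveI : Nonempty (Fin n) := ⟨⟨0, hn⟩⟩
  -- the two algebras
  have hA₁ : IsAzumayaDeg R (Matrix (Fin 1) (Fin 1) A) n := by
    haveI : IsAzumaya R A := hA.1
    refine ⟨IsAzumaya.of_AlgEquiv R A _ (m1Equiv R A).symm, fun p => ?_⟩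
    rw [← hA.2 p]
    exact congrFun (Module.rankAtStalk_eq_of_equiv (m1Equiv R A).toLinearEquiv) p
  have hA₂ : IsAzumayaDeg R (Matrix (Fin n) (Fin n) R) n := by
    refine ⟨IsAzumaya.matrix R (Fin n), fun p => ?_⟩
    haveI : Nontrivial R := p.nontrivial
    rw [Module.rankAtStalk_eq_finrank_of_free]
    simp [Module.finrank_matrix, pow_two]
  let ρ₁ : Matrix (Fin 1) (Fin 1) A →ₐ[R] Matrix (Fin n) (Fin n) S' :=
    ρ.comp (m1Equiv R A : Matrix (Fin 1) (Fin 1) A →ₐ[R] A)
  let ρ₂ : Matrix (Fin n) (Fin n) R →ₐ[R] Matrix (Fin n) (Fin n) S' :=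
    (Algebra.ofId R S').mapMatrix
  obtain ⟨f, hf1, hf2⟩ := exists_iso lam hlam (t.matrix (Fin 1))
    ((LamInv.self lam hlam).matrix (Fin n)) S' ρ₁ ρ₂ e₀ h1 h2 h3 h4
    (phi_bijective_of_azumaya S' hn hA₁ ρ₁) (phi_bijective_of_azumaya S' hn hA₂ ρ₂)
  exact ⟨1, n, Nat.one_pos, hn, S', inferInstance, inferInstance, het, hff, f, hf1, hf2⟩

end Main

end Groth.Agent.H7.AzQE
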