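import Mathlib
import Groth.Prelude.Def_AzInv
import Groth.Agent.Lib.Helper7.AzQE3
import Groth.Agent.Lib.Helper7.AzQE0

/-! The unramified (quadratic étale) case without an involution on `A`: matrix units from a
linear and a semilinear splitting. -/

set_option autoImplicit false
open scoped TensorProduct
open AzInv

namespace Groth.Agent.H7.AzU

universe u v w u'

section W

variable {S : Type u} {R : Type v} [CommRing S] [CommRing R] [Algebra S R]
  {A : Type w} [Ring A] [Algebra S A] [Algebra R A] [IsScalarTower S R A]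
  (S' : Type u') [CommRing S'] [Algebra S S'] (j : R →ₐ[S] S') {n : ℕ}
  (ρ : A →ₐ[S] Matrix (Fin n) (Fin n) S')

/-- the map `S' ⊗[S] A → M_n(S')` induced by `ρ`. -/
noncomputable def Psi : S' ⊗[S] A →ₐ[S'] Matrix (Fin n) (Fin n) S' :=
  Algebra.TensorProduct.lift (Algebra.ofId S' _) ρ (fun s a => Algebra.commutes s _)

theorem Psi_tmul (s : S') (a : A) : Psi S' ρ (s ⊗ₜ[S] a) = s • ρ a := by
  rw [Psi, Algebra.TensorProduct.lift_tmul, Algebra.ofId_apply, Algebra.smul_def]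

/-- the map `R ⊗[S] R → S' ⊗[S] A` induced by `j`. -/
noncomputable def iotaJ : R ⊗[S] R →ₐ[S] S' ⊗[S] A :=
  Algebra.TensorProduct.map j (IsScalarTower.toAlgHom S R A)

theorem iotaJ_tmul (x y : R) :
    iotaJ (A := A) S' j (x ⊗ₜ[S] y) = j x ⊗ₜ[S] algebraMap R A y := rfl

theorem W (hρ : ∀ (r : R) (a : A), ρ (r • a) = j r • ρ a) (hn : 0 < n)
    (hA : IsAzumayaDeg R A n) (e : R ⊗[S] R)
    (h1 : ∀ r : R, e * (r ⊗ₜ[S] 1) = e * (1 ⊗ₜ[S] r)) :
    Function.Surjective (Psi S' ρ) ∧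
      (∀ c, Psi S' ρ c = 0 → iotaJ (A := A) S' j e * c = 0) ∧
      ∀ z, Psi S' ρ (iotaJ (A := A) S' j z) =
        algebraMap S' (Matrix (Fin n) (Fin n) S') (j (Algebra.TensorProduct.lmul' S z)) := by
  letI : Algebra R S' := j.toRingHom.toAlgebra
  haveI : IsScalarTower S R S' := IsScalarTower.of_algebraMap_eq (fun s => (j.commutes s).symm)
  let ρ' : A →ₐ[R] Matrix (Fin n) (Fin n) S' :=
    { ρ.toRingHom with
      commutes' := fun r => by
        show ρ (algebraMap R A r) = _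
        rw [Algebra.algebraMap_eq_smul_one, hρ, map_one, Algebra.algebraMap_eq_smul_one]
        show j r • (1 : Matrix (Fin n) (Fin n) S') = r • 1
        rw [← algebraMap_smul S' r (1 : Matrix (Fin n) (Fin n) S')]
        rfl }
  have hpsi : ∀ c, AzQE.psi S' ρ' c = Psi S' ρ c := by
    intro c
    induction c using TensorProduct.induction_on with
    | zero => simp
    | add x y hx hy => rw [map_add, map_add, hx, hy]
    | tmul s a => rw [AzQE.psi_tmul, Psi_tmul]; rfl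
  have hiota : ∀ z, AzQE.iota (A := A) S' z = iotaJ (A := A) S' j z := fun z => rfl
  have hφ := AzQE.phi_bijective_of_azumaya S' hn hA ρ'
  refine ⟨?_, ?_, ?_⟩
  · intro X
    obtain ⟨c, hc⟩ := AzQE.psi_surjective (S := S) S' ρ' hφ.2 X
    exact ⟨c, by rw [← hpsi, hc]⟩
  · intro c hc
    rw [← hiota]
    exact AzQE.e_mul_eq_zero_of_psi S' ρ' e h1 hφ.1 c (by rw [hpsi]; exact hc)
  · intro z
    rw [← hpsi, ← hiota, AzQE.psi_iota]
    rfl

end W

section Prod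

theorem isMatUnits_prod {C₁ C₂ : Type*} [Ring C₁] [Ring C₂] {r : ℕ}
    (e₁ : Fin r → Fin r → C₁) (e₂ : Fin r → Fin r → C₂) (h₁ : Spread.IsMatUnits e₁)
    (h₂ : Spread.IsMatUnits e₂) : Spread.IsMatUnits (fun a b => ((e₁ a b, e₂ a b) : C₁ × C₂)) := by
  constructor
  · intro a b c d
    rw [Prod.mk_mul_mk, h₁.1, h₂.1]
    split_ifs <;> rfl
  · rw [Prod.ext_iff]
    constructor
    · rw [Prod.fst_sum]; exact h₁.2
    · rw [Prod.snd_sum]; exact h₂.2

end Prod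

section Theta

variable {S : Type u} {R : Type v} [CommRing S] [CommRing R] [Algebra S R]
  (lam : R ≃ₐ[S] R) (hlam : ∀ r, lam (lam r) = r)
  {A : Type w} [Ring A] [Algebra S A] [Algebra R A] [IsScalarTower S R A]
  (S' : Type u') [CommRing S'] [Algebra S S'] (j : R →ₐ[S] S') {n : ℕ}
  (ρ₁ ρ₂ : A →ₐ[S] Matrix (Fin n) (Fin n) S')
  (e₀ : R ⊗[S] R)
  (h1 : ∀ r : R, e₀ * (r ⊗ₜ[S] 1) = e₀ * (1 ⊗ₜ[S] r))
  (h2 : Algebra.TensorProduct.lmul' S e₀ = 1)
  (h3 : Algebra.TensorProduct.lmul' S (AzQE.tw lam e₀) = 0) (h4 : e₀ + AzQE.tw lam e₀ = 1)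

/-- `λ ⊗ id`. -/
noncomputable def lamL : R ⊗[S] R →ₐ[S] R ⊗[S] R :=
  Algebra.TensorProduct.map lam.toAlgHom (AlgHom.id S R)

/-- `λ ⊗ λ`. -/
noncomputable def lamLam : R ⊗[S] R →ₐ[S] R ⊗[S] R :=
  Algebra.TensorProduct.map lam.toAlgHom lam.toAlgHom

include hlam in
theorem lamL_lamLam (z : R ⊗[S] R) : lamL lam (lamLam lam z) = AzQE.tw lam z := by
  induction z using TensorProduct.induction_on with
  | zero => simp
  | add x y hx hy => rw [map_add, map_add, map_add, hx, hy]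
  | tmul x y =>
      show (lam (lam x)) ⊗ₜ[S] lam y = x ⊗ₜ[S] lam y
      rw [hlam]

include hlam in
theorem lamL_lamL (z : R ⊗[S] R) : lamL lam (lamL lam z) = z := by
  induction z using TensorProduct.induction_on with
  | zero => simp
  | add x y hx hy => rw [map_add, map_add, hx, hy]
  | tmul x y =>
      show (lam (lam x)) ⊗ₜ[S] y = x ⊗ₜ[S] y
      rw [hlam]

theorem lmul'_lamLam (z : R ⊗[S] R) :
    Algebra.TensorProduct.lmul' S (lamLam lam z) = lam (Algebra.TensorProduct.lmul' S z) := by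
  induction z using TensorProduct.induction_on with
  | zero => simp
  | add x y hx hy => rw [map_add, map_add, map_add, hx, hy, map_add]
  | tmul x y =>
      show Algebra.TensorProduct.lmul' S (lam x ⊗ₜ[S] lam y) = _
      rw [Algebra.TensorProduct.lmul'_apply_tmul, Algebra.TensorProduct.lmul'_apply_tmul, map_mul]

include hlam in
theorem lam_lmul'_lamL (z : R ⊗[S] R) :
    lam (Algebra.TensorProduct.lmul' S (lamL lam z)) =
      Algebra.TensorProduct.lmul' S (AzQE.tw lam z) := by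
  induction z using TensorProduct.induction_on with
  | zero => simp
  | add x y hx hy => rw [map_add, map_add, map_add, hx, hy, map_add, map_add]
  | tmul x y =>
      show lam (Algebra.TensorProduct.lmul' S (lam x ⊗ₜ[S] y)) =
        Algebra.TensorProduct.lmul' S (x ⊗ₜ[S] lam y)
      rw [Algebra.TensorProduct.lmul'_apply_tmul, Algebra.TensorProduct.lmul'_apply_tmul, map_mul,
        hlam]

theorem iotaJ_comp (z : R ⊗[S] R) :
    iotaJ (A := A) S' (j.comp lam.toAlgHom) z = iotaJ (A := A) S' j (lamL lam z) := by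
  induction z using TensorProduct.induction_on with
  | zero => simp
  | add x y hx hy => rw [map_add, map_add, map_add, hx, hy]
  | tmul x y => rfl

include hlam h1 h2 h3 h4 in
theorem exists_matUnits_of_two (hn : 0 < n) (hA : IsAzumayaDeg R A n)
    (hρ₁ : ∀ (r : R) (a : A), ρ₁ (r • a) = j r • ρ₁ a)
    (hρ₂ : ∀ (r : R) (a : A), ρ₂ (r • a) = j (lam r) • ρ₂ a) :
    ∃ e : Fin n → Fin n → S' ⊗[S] A, Spread.IsMatUnits e := by
  classical
  set j₂ : R →ₐ[S] S' := j.comp lam.toAlgHom with hj₂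
  have h1' : ∀ r : R, lamLam lam e₀ * (r ⊗ₜ[S] 1) = lamLam lam e₀ * (1 ⊗ₜ[S] r) := by
    intro r
    have e1 : (r ⊗ₜ[S] (1 : R)) = lamLam lam (lam r ⊗ₜ[S] 1) := by
      show _ = lam (lam r) ⊗ₜ[S] lam 1
      rw [hlam, map_one]
    have e2 : ((1 : R) ⊗ₜ[S] r) = lamLam lam (1 ⊗ₜ[S] lam r) := by
      show _ = lam 1 ⊗ₜ[S] lam (lam r)
      rw [hlam, map_one]
    rw [e1, e2, ← map_mul, ← map_mul, h1]
  obtain ⟨hs₁, hk₁, hi₁⟩ := W S' j ρ₁ hρ₁ hn hA e₀ h1
  obtain ⟨hs₂, hk₂, hi₂⟩ := W S' j₂ ρ₂ (fun r a => hρ₂ r a) hn hA (lamLam lam e₀) h1'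
  set ε₁ : S' ⊗[S] A := iotaJ (A := A) S' j e₀ with hε₁
  set ε₂ : S' ⊗[S] A := iotaJ (A := A) S' j (AzQE.tw lam e₀) with hε₂
  have hε₂' : iotaJ (A := A) S' j₂ (lamLam lam e₀) = ε₂ := by
    rw [hj₂, iotaJ_comp, lamL_lamLam lam hlam]
  have hε₁' : iotaJ (A := A) S' j₂ (lamL lam e₀) = ε₁ := by
    rw [hj₂, iotaJ_comp, lamL_lamL lam hlam]
  have hsum : ε₁ + ε₂ = 1 := by rw [hε₁, hε₂, ← map_add, h4, map_one]
  have p11 : Psi S' ρ₁ ε₁ = 1 := by rw [hε₁, hi₁, h2, map_one, map_one]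
  have p12 : Psi S' ρ₁ ε₂ = 0 := by rw [hε₂, hi₁, h3, map_zero, map_zero]
  have p22 : Psi S' ρ₂ ε₂ = 1 := by
    rw [← hε₂', hi₂, lmul'_lamLam, h2, map_one, map_one, map_one]
  have p21 : Psi S' ρ₂ ε₁ = 0 := by
    rw [← hε₁', hi₂]
    show algebraMap S' _ (j (lam (Algebra.TensorProduct.lmul' S (lamL lam e₀)))) = 0
    rw [lam_lmul'_lamL lam hlam, h3, map_zero, map_zero]
  let Θ : S' ⊗[S] A →ₐ[S'] Matrix (Fin n) (Fin n) S' × Matrix (Fin n) (Fin n) S' :=
    AlgHom.prod (Psi S' ρ₁) (Psi S' ρ₂)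
  have hΘ : Function.Bijective Θ := by
    constructor
    · rw [injective_iff_map_eq_zero]
      intro c hc
      have hc1 : Psi S' ρ₁ c = 0 := congrArg Prod.fst hc
      have hc2 : Psi S' ρ₂ c = 0 := congrArg Prod.snd hc
      have k1 := hk₁ c hc1
      have k2 := hk₂ c hc2
      rw [hε₂'] at k2
      have : c = (ε₁ + ε₂) * c := by rw [hsum, one_mul]
      rw [this, add_mul, k1, k2, add_zero]
    · rintro ⟨X, Y⟩
      obtain ⟨c₁, hc₁⟩ := hs₁ X
      obtain ⟨c₂, hc₂⟩ := hs₂ Y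
      refine ⟨ε₁ * c₁ + ε₂ * c₂, ?_⟩
      show (Psi S' ρ₁ (ε₁ * c₁ + ε₂ * c₂), Psi S' ρ₂ (ε₁ * c₁ + ε₂ * c₂)) = (X, Y)
      rw [map_add, map_add, map_mul, map_mul, map_mul, map_mul, p11, p12, p21, p22, hc₁, hc₂]
      simp
  let Θe : S' ⊗[S] A ≃+* Matrix (Fin n) (Fin n) S' × Matrix (Fin n) (Fin n) S' :=
    (AlgEquiv.ofBijective Θ hΘ).toRingEquiv
  have hstd : Spread.IsMatUnits (fun a b => (Matrix.single a b (1 : S') :
      Matrix (Fin n) (Fin n) S')) :=
    Spread.isMatUnits_of_ringEquiv (RingEquiv.refl (Matrix (Fin n) (Fin n) S'))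
  exact ⟨_, (isMatUnits_prod _ _ hstd hstd).map Θe.symm.toRingHom⟩

end Theta

end Groth.Agent.H7.AzU
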