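import Mathlib
import Groth.Prelude.Def_AzInv
import Groth.Agent.Lib.Helper7.AzU1
import Groth.Agent.Lib.Helper7.AzQE4
import Groth.Agent.Lib.Helper7.AzBC

/-! The quadratic étale case: étale-local matrix units over the fixed ring. -/

set_option autoImplicit false
open scoped TensorProduct
open AzInv

namespace Groth.Agent.H7.AzU

universe u v w

theorem exists_split_data₁ (R : Type u) [CommRing R] (A : Type w) [Ring A] [Algebra R A] (n : ℕ)
    (hn : 0 < n) (hA : IsAzumayaDeg R A n) :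
    ∃ (R' : Type u) (_ : CommRing R') (_ : Algebra R R'), Algebra.Etale R R' ∧
      Module.FaithfullyFlat R R' ∧ Nonempty (A →ₐ[R] Matrix (Fin n) (Fin n) R') := by
  haveI : IsAzumaya R A := hA.1
  haveI : Small.{u} A := Module.Finite.small R A
  let e : Shrink.{u} A ≃ₐ[R] A := Shrink.algEquiv R A
  haveI : IsAzumaya R (Shrink.{u} A) := IsAzumaya.of_AlgEquiv R A (Shrink.{u} A) e.symm
  have hrk₀ : ∀ p : PrimeSpectrum R, Module.rankAtStalk (R := R) (Shrink.{u} A) p = n ^ 2 := by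
    intro p
    rw [← hA.2 p]
    exact congrFun (Module.rankAtStalk_eq_of_equiv e.toLinearEquiv) p
  obtain ⟨R', _, _, het, hff, ⟨φ⟩⟩ :=
    AzQE.exists_global_etale_splitting R (Shrink.{u} A) n hrk₀ hn
  refine ⟨R', inferInstance, inferInstance, het, hff, ?_⟩
  exact ⟨((φ : (R' ⊗[R] Shrink.{u} A) →ₐ[R'] Matrix (Fin n) (Fin n) R').restrictScalars R).comp
    ((Algebra.TensorProduct.includeRight : Shrink.{u} A →ₐ[R] R' ⊗[R] Shrink.{u} A).comp
      (e.symm : A →ₐ[R] Shrink.{u} A))⟩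

/-- a copy of a ring (to carry a second algebra structure). -/
def Cp (X : Type*) := X

instance (X : Type*) [CommRing X] : CommRing (Cp X) := inferInstanceAs (CommRing X)

instance (S X : Type*) [CommSemiring S] [CommRing X] [Algebra S X] : Algebra S (Cp X) :=
  inferInstanceAs (Algebra S X)

section QE

variable {S : Type u} {R : Type v} [CommRing S] [CommRing R] [Algebra S R]
  (lam : R ≃ₐ[S] R) (hlam : ∀ r, lam (lam r) = r)
  (hfix : RInv.IsFixedRing S R lam.toRingEquiv)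
  (A : Type w) [Ring A] [Algebra S A] [Algebra R A] [IsScalarTower S R A] (n : ℕ)

set_option maxHeartbeats 1600000 in
include hlam hfix in
theorem qe_matUnits (hq : RInv.IsQuadEtale S R) (hn : 0 < n) (hA : IsAzumayaDeg R A n) :
    ∃ (S' : Type u) (_ : CommRing S') (_ : Algebra S S'), Algebra.Etale S S' ∧
      Module.FaithfullyFlat S S' ∧ ∃ e : Fin n → Fin n → S' ⊗[S] A, Spread.IsMatUnits e := by
  haveI := AzQE.etale_of_isQuadEtale S R hq
  haveI := AzQE.faithfullyFlat_of_isQuadEtale S R hq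
  obtain ⟨e₀, h1, h2, h3, h4⟩ := AzQE.exists_e₀ lam hlam hfix hq
  obtain ⟨S₁, _, _, _, _, het₁, hff₁, ⟨ρ₁⟩⟩ := AzQE.exists_split_data S R A n hn hA
  haveI : Algebra.Etale S (Cp S₁) := het₁
  haveI : Module.FaithfullyFlat S (Cp S₁) := hff₁
  haveI : IsScalarTower S S₁ (Cp S₁) := IsScalarTower.of_algebraMap_eq (fun _ => rfl)
  -- the second projection
  let toCp : S₁ →ₐ[S₁] Cp S₁ := Algebra.ofId S₁ (Cp S₁)
  let π₂ : S₁ ⊗[S] R →ₐ[S₁] Cp S₁ := Algebra.TensorProduct.lift toCp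
    (((toCp.restrictScalars S).comp (IsScalarTower.toAlgHom S R S₁)).comp lam.toAlgHom)
    (fun _ _ => Commute.all _ _)
  have hπ₂ : ∀ (x : S₁) (r : R), π₂ (x ⊗ₜ[S] r) = toCp x * toCp (algebraMap R S₁ (lam r)) := by
    intro x r
    show Algebra.TensorProduct.lift _ _ _ (x ⊗ₜ[S] r) = _
    rw [Algebra.TensorProduct.lift_tmul]
    rfl
  letI algLS : Algebra (S₁ ⊗[S] R) (Cp S₁) := π₂.toRingHom.toAlgebra
  letI algLC : Algebra (S₁ ⊗[S] R) (S₁ ⊗[S] A) := AzBC.algLC S R A S₁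
  have hbc := AzBC.isAzumayaDeg_bc S R A S₁ n hA
  haveI : IsAzumaya (S₁ ⊗[S] R) (S₁ ⊗[S] A) := hbc.1
  have hC' : IsAzumayaDeg (Cp S₁) (Cp S₁ ⊗[S₁ ⊗[S] R] (S₁ ⊗[S] A)) n :=
    ⟨Azu.isAzumaya_baseChange (S₁ ⊗[S] R) (Cp S₁) (S₁ ⊗[S] A), fun p => by
      rw [Module.rankAtStalk_baseChange, hbc.2]⟩
  obtain ⟨S₂, _, _, het₂, hff₂, ⟨ρC⟩⟩ :=
    exists_split_data₁ (Cp S₁) (Cp S₁ ⊗[S₁ ⊗[S] R] (S₁ ⊗[S] A)) n hn hC'
  letI : Algebra S S₂ := ((algebraMap (Cp S₁) S₂).comp (algebraMap S (Cp S₁))).toAlgebra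
  haveI : IsScalarTower S (Cp S₁) S₂ := IsScalarTower.of_algebraMap_eq (fun _ => rfl)
  haveI : Algebra.Etale S S₂ := Algebra.Etale.comp S (Cp S₁) S₂
  haveI : Module.FaithfullyFlat S S₂ := Module.FaithfullyFlat.trans S (Cp S₁) S₂
  refine ⟨S₂, inferInstance, inferInstance, inferInstance, inferInstance, ?_⟩
  let k : S₁ →ₐ[S] S₂ := (IsScalarTower.toAlgHom S (Cp S₁) S₂).comp (toCp.restrictScalars S)
  let j : R →ₐ[S] S₂ := k.comp (IsScalarTower.toAlgHom S R S₁)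
  let ρ₁' : A →ₐ[S] Matrix (Fin n) (Fin n) S₂ := (k.mapMatrix).comp (ρ₁.restrictScalars S)
  let incC : A →+* Cp S₁ ⊗[S₁ ⊗[S] R] (S₁ ⊗[S] A) :=
    (Algebra.TensorProduct.includeRight :
      (S₁ ⊗[S] A) →ₐ[S₁ ⊗[S] R] Cp S₁ ⊗[S₁ ⊗[S] R] (S₁ ⊗[S] A)).toRingHom.comp
      (Algebra.TensorProduct.includeRight : A →ₐ[S] S₁ ⊗[S] A).toRingHom
  have hincC : ∀ (r : R) (a : A), incC (r • a) = toCp (algebraMap R S₁ (lam r)) • incC a := by
    intro r a
    show (1 : Cp S₁) ⊗ₜ[S₁ ⊗[S] R] ((1 : S₁) ⊗ₜ[S] (r • a)) =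
      toCp (algebraMap R S₁ (lam r)) • ((1 : Cp S₁) ⊗ₜ[S₁ ⊗[S] R] ((1 : S₁) ⊗ₜ[S] a))
    have e1 : (1 : S₁) ⊗ₜ[S] (r • a) = ((1 : S₁) ⊗ₜ[S] r : S₁ ⊗[S] R) • ((1 : S₁) ⊗ₜ[S] a) := by
      rw [Algebra.smul_def]
      show _ = AzBC.iotaL S R A S₁ ((1 : S₁) ⊗ₜ[S] r) * _
      rw [AzBC.iotaL_tmul, Algebra.TensorProduct.tmul_mul_tmul, one_mul]
    rw [e1, ← TensorProduct.smul_tmul, TensorProduct.smul_tmul']
    congr 1
    show π₂ ((1 : S₁) ⊗ₜ[S] r) * 1 = toCp (algebraMap R S₁ (lam r)) • (1 : Cp S₁)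
    rw [hπ₂, map_one, one_mul, mul_one, smul_eq_mul, mul_one]
  let ρ₂ : A →ₐ[S] Matrix (Fin n) (Fin n) S₂ :=
    { (ρC : Cp S₁ ⊗[S₁ ⊗[S] R] (S₁ ⊗[S] A) →+* Matrix (Fin n) (Fin n) S₂).comp incC with
      commutes' := fun s => by
        show ρC (incC (algebraMap S A s)) = _
        have e1 : algebraMap S A s = (algebraMap S R s) • (1 : A) := by
          rw [Algebra.smul_def, mul_one, ← IsScalarTower.algebraMap_apply]
        rw [e1, hincC, map_one, map_smul, map_one, AlgEquiv.commutes,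
          ← IsScalarTower.algebraMap_apply S R S₁]
        show algebraMap S (Cp S₁) s • (1 : Matrix (Fin n) (Fin n) S₂) = _
        rw [algebraMap_smul, ← Algebra.algebraMap_eq_smul_one] }
  apply exists_matUnits_of_two lam hlam S₂ j ρ₁' ρ₂ e₀ h1 h2 h3 h4 hn hA
  · intro r a
    show (ρ₁ (r • a)).map k = j r • (ρ₁ a).map k
    rw [map_smul]
    ext x y
    simp only [Matrix.map_apply, Matrix.smul_apply]
    rw [Algebra.smul_def, map_mul, smul_eq_mul]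
    rfl
  · intro r a
    show ρC (incC (r • a)) = j (lam r) • ρC (incC a)
    rw [hincC, map_smul]
    ext x y
    simp only [Matrix.smul_apply]
    rw [Algebra.smul_def, smul_eq_mul]
    rfl

end QE

end Groth.Agent.H7.AzU
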