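import Mathlib
import Groth.Prelude.Def_W4c2azumayainvolQEt
universe u v

namespace Groth.Agent.H7.T15573

/-- decomposition of elements w.r.t. `1, r`. -/
theorem decomp (S : Type u) (R : Type v) [CommRing S] [CommRing R]
    [Algebra S R] (lam : R ≃+* R) (hlam : Function.Involutive lam) (hS : RInv.IsFixedRing S R lam)
    (r : R) (hr : IsUnit (r - lam r)) (x : R) :
    ∃ s t : S, x = algebraMap S R s + algebraMap S R t * r := by
  obtain ⟨hinj, hfix⟩ := hS
  obtain ⟨w, hw⟩ := hr.exists_left_inv
  -- w * (r - lam r) = 1; lam w = - w
  have hlw : lam w = -w := by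
    have h1 : lam w * (lam r - r) = 1 := by
      have := congrArg lam hw
      rwa [map_mul, map_sub, hlam r, map_one] at this
    calc lam w = lam w * (w * (r - lam r)) := by rw [hw, mul_one]
      _ = -(lam w * (lam r - r)) * w := by ring
      _ = -w := by rw [h1]; ring
  set b := (x - lam x) * w with hb
  have hbfix : lam b = b := by
    rw [hb, map_mul, map_sub, hlam x, hlw]; ring
  obtain ⟨t, ht⟩ := (hfix b).mp hbfix
  have hafix : lam (x - b * r) = x - b * r := by
    rw [map_sub, map_mul, hbfix]
    have : b * (r - lam r) = x - lam x := by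
      rw [hb, mul_assoc, hw, mul_one]
    linear_combination this
  obtain ⟨s, hs⟩ := (hfix _).mp hafix
  refine ⟨s, t, ?_⟩
  rw [hs, ht]; ring

theorem main (S : Type u) (R : Type v) [CommRing S] [CommRing R]
    [Algebra S R] (lam : R ≃+* R) (hlam : Function.Involutive lam) (hS : RInv.IsFixedRing S R lam)
    (h : ∃ r : R, IsUnit (r - lam r)) : RInv.IsQuadEtale S R := by
  obtain ⟨r, hr⟩ := h
  have hdec := decomp S R lam hlam hS r hr
  obtain ⟨hinj, hfix⟩ := hS
  have hfixS : ∀ s : S, lam (algebraMap S R s) = algebraMap S R s := fun s => (hfix _).mpr ⟨s, rfl⟩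
  -- basis
  have hli : LinearIndependent S ![(1 : R), r] := by
    rw [LinearIndependent.pair_iff]
    intro s t hst
    rw [Algebra.smul_def, Algebra.smul_def, mul_one] at hst
    have h1 : algebraMap S R s + algebraMap S R t * lam r = 0 := by
      have := congrArg lam hst
      rwa [map_add, map_mul, hfixS, hfixS, map_zero] at this
    have h2 : algebraMap S R t * (r - lam r) = 0 := by linear_combination hst - h1
    have h3 : algebraMap S R t = 0 := (hr.mul_left_eq_zero).mp h2
    have ht : t = 0 := hinj (by rw [h3, map_zero])
    rw [h3, zero_mul, add_zero] at hst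
    exact ⟨hinj (by rw [hst, map_zero]), ht⟩
  have hsp : ⊤ ≤ Submodule.span S (Set.range ![(1 : R), r]) := by
    intro x _
    obtain ⟨s, t, rfl⟩ := hdec x
    apply Submodule.add_mem
    · have : algebraMap S R s = s • (1 : R) := by rw [Algebra.smul_def, mul_one]
      rw [this]
      exact Submodule.smul_mem _ _ (Submodule.subset_span ⟨0, rfl⟩)
    · rw [← Algebra.smul_def]
      exact Submodule.smul_mem _ _ (Submodule.subset_span ⟨1, rfl⟩)
  let bas : Module.Basis (Fin 2) S R := Module.Basis.mk hli hsp
  have hfree : Module.Free S R := Module.Free.of_basis bas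
  have hfin : Module.Finite S R := Module.Finite.of_basis bas
  refine ⟨hfin, inferInstance, ?_, ?_⟩
  · -- formally unramified
    constructor
    have hD0 : ∀ s : S, KaehlerDifferential.D S R (algebraMap S R s) = 0 :=
      fun s => Derivation.map_algebraMap _ s
    obtain ⟨τ, hτ⟩ := (hfix (r + lam r)).mp (by rw [map_add, hlam r, add_comm])
    obtain ⟨ν, hν⟩ := (hfix (r * lam r)).mp (by rw [map_mul, hlam r, mul_comm])
    have hrel : r * r = algebraMap S R τ * r - algebraMap S R ν := by
      rw [hτ, hν]; ring
    have hDr : (r - lam r) • KaehlerDifferential.D S R r = 0 := by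
      have h1 := congrArg (KaehlerDifferential.D S R) hrel
      rw [map_sub, Derivation.leibniz, Derivation.leibniz, hD0, hD0, smul_zero, add_zero,
        sub_zero, hτ] at h1
      have h2 : (r - lam r) • KaehlerDifferential.D S R r =
          (r • KaehlerDifferential.D S R r + r • KaehlerDifferential.D S R r) -
            (r + lam r) • KaehlerDifferential.D S R r := by
        rw [sub_smul, add_smul]; abel
      rw [h2, h1, sub_self]
    have hDr0 : KaehlerDifferential.D S R r = 0 := by
      obtain ⟨w, hw⟩ := hr.exists_left_inv
      calc KaehlerDifferential.D S R r = (w * (r - lam r)) • KaehlerDifferential.D S R r := by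
            rw [hw, one_smul]
        _ = 0 := by rw [mul_smul, hDr, smul_zero]
    have hDx : ∀ x : R, KaehlerDifferential.D S R x = 0 := by
      intro x
      obtain ⟨s, t, rfl⟩ := hdec x
      rw [map_add, Derivation.leibniz, hD0, hD0, hDr0, smul_zero, smul_zero, add_zero, add_zero]
    have htop : (⊤ : Submodule R (Ω[R⁄S])) = ⊥ := by
      rw [← KaehlerDifferential.span_range_derivation, Submodule.span_eq_bot]
      rintro _ ⟨x, rfl⟩
      exact hDx x
    exact (Submodule.subsingleton_iff R).mp (subsingleton_of_bot_eq_top htop.symm)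
  · intro p
    have : Nontrivial S := p.nontrivial
    rw [Module.rankAtStalk_eq_finrank_of_free, Pi.natCast_apply, Module.finrank_eq_card_basis bas]
    simp

end Groth.Agent.H7.T15573
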