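import Mathlib
import Groth.Prelude.Def_AzInv
import Groth.Prelude.Def_W4c2azumayainvolQEt
import Groth.Agent.Lib.Helper7.AzRam4
import Groth.Agent.Lib.Helper7.AzU2
import Groth.Agent.Lib.Helper7.T15573

/-! Azumaya algebras over a ring with involution split étale-locally over the fixed ring. -/

set_option autoImplicit false
open scoped TensorProduct
open AzInv

namespace Groth.Agent.H7.AzSplit

universe u v w

variable (S : Type u) (R : Type v) [CommRing S] [CommRing R] [Algebra S R]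
  (lam : R ≃ₐ[S] R) (hlam : ∀ r, lam (lam r) = r)
  (hfix : RInv.IsFixedRing S R lam.toRingEquiv)
  (A : Type w) [Ring A] [Algebra S A] [Algebra R A] [IsScalarTower S R A] (n : ℕ)

attribute [local instance] AzBC.algLC

include hlam hfix in
theorem LG_all (hn : 0 < n) (hA : IsAzumayaDeg R A n) (q : PrimeSpectrum S) :
    AzFA.LG S A n q := by
  rcases RInvB.ramP_or_exists lam hlam hfix q.asIdeal with hram | ⟨r₀, s, hs, hsq⟩
  · exact AzRam.ram_LG lam hlam hfix A n hA hn q hram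
  · let S₁ := Localization.Away s
    have h1 : q ∈ Set.range (PrimeSpectrum.comap (algebraMap S S₁)) := by
      rw [PrimeSpectrum.localization_away_comap_range S₁ s]
      exact hsq
    obtain ⟨q₁, hq₁⟩ := h1
    haveI : Algebra.Etale S S₁ := Algebra.Etale.of_isLocalizationAway s
    have hfix₁ := RInvB.isFixedRing_lamBC lam hfix S₁
    have hlam₁ := RInvB.lamBC_lamBC lam hlam S₁
    have hunit : IsUnit ((1 : S₁) ⊗ₜ[S] r₀ - (RInvB.lamBC lam S₁).toRingEquiv ((1 : S₁) ⊗ₜ[S] r₀)) := by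
      have e1 : (1 : S₁) ⊗ₜ[S] r₀ - (RInvB.lamBC lam S₁).toRingEquiv ((1 : S₁) ⊗ₜ[S] r₀) =
          (1 : S₁) ⊗ₜ[S] (r₀ - lam r₀) := by
        show (1 : S₁) ⊗ₜ[S] r₀ - RInvB.lamBC lam S₁ ((1 : S₁) ⊗ₜ[S] r₀) = _
        rw [RInvB.lamBC_tmul, TensorProduct.tmul_sub]
      rw [e1, ← isUnit_pow_iff (two_ne_zero), Algebra.TensorProduct.tmul_pow, one_pow, ← hs]
      have e2 : (1 : S₁) ⊗ₜ[S] algebraMap S R s =
          algebraMap S₁ (S₁ ⊗[S] R) (algebraMap S S₁ s) := by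
        rw [Algebra.TensorProduct.algebraMap_apply, Algebra.algebraMap_eq_smul_one s,
          Algebra.algebraMap_eq_smul_one (A := S₁) s, Algebra.algebraMap_self, RingHom.id_apply,
          TensorProduct.smul_tmul]
      rw [e2]
      exact (IsLocalization.Away.algebraMap_isUnit s).map _
    have hqe : RInv.IsQuadEtale S₁ (S₁ ⊗[S] R) :=
      Groth.Agent.H7.T15573.main S₁ (S₁ ⊗[S] R) (RInvB.lamBC lam S₁).toRingEquiv
        (fun x => hlam₁ x) hfix₁ ⟨_, hunit⟩
    obtain ⟨S', _, _, het, hff, e, he⟩ := AzU.qe_matUnits (S := S₁) (R := S₁ ⊗[S] R)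
      (RInvB.lamBC lam S₁) hlam₁ hfix₁ (S₁ ⊗[S] A) n hqe hn (AzBC.isAzumayaDeg_bc S R A S₁ n hA)
    obtain ⟨q', hq'⟩ := PrimeSpectrum.comap_surjective_of_faithfullyFlat (A := S₁) (B := S') q₁
    have key : AzFA.LG S₁ (S₁ ⊗[S] A) n q₁ := ⟨S', inferInstance, inferInstance, het, ⟨q', hq'⟩, e, he⟩
    have := AzRam.LG_of_bc S A n S₁ q₁ key
    rwa [hq₁] at this

include hlam hfix in
theorem main (hn : 0 < n) (hA : IsAzumayaDeg R A n) :
    ∃ (S' : Type u) (_ : CommRing S') (_ : Algebra S S') (_ : Algebra.Etale S S')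
      (_ : Module.FaithfullyFlat S S') (f : S' ⊗[S] A ≃ₐ[S'] Matrix (Fin n) (Fin n) (S' ⊗[S] R)),
      ∀ (r : R) (x : S' ⊗[S] A),
        f (((1 : S') ⊗ₜ[S] algebraMap R A r) * x) =
          Matrix.scalar (Fin n) ((1 : S') ⊗ₜ[S] r) * f x :=
  AzFA.exists_global_of_LG S R A n hn hA (LG_all S R lam hlam hfix A n hn hA)

end Groth.Agent.H7.AzSplit
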