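import Mathlib
import Groth.Prelude.Def_W4c2azumayainvolQEt
import Groth.Agent.Lib.Helper7.T15573
universe u v

namespace Groth.Agent.H7.T15576

section
variable (S : Type u) (R : Type v) [CommRing S] [CommRing R]
    [Algebra S R] (lam : R ≃+* R) (hlam : Function.Involutive lam) (hS : RInv.IsFixedRing S R lam)
    [IsLocalRing S]

include hlam hS in
/-- elements of the maximal ideal of `S` lie in every maximal ideal of `R`. -/
theorem map_mem_of_mem_maximalIdeal (M : Ideal R) (hM : M.IsMaximal) (n : S)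
    (hn : n ∈ IsLocalRing.maximalIdeal S) : algebraMap S R n ∈ M := by
  obtain ⟨hinj, hfix⟩ := hS
  by_contra hnot
  obtain ⟨y, m, hm, hym⟩ := hM.exists_inv hnot
  -- y * n + m = 1
  obtain ⟨t, ht⟩ := (hfix (y + lam y)).mp (by rw [map_add, hlam y, add_comm])
  obtain ⟨ν, hν⟩ := (hfix (y * lam y)).mp (by rw [map_mul, hlam y, mul_comm])
  have hfixn : lam (algebraMap S R n) = algebraMap S R n := (hfix _).mpr ⟨n, rfl⟩
  have hm' : m = 1 - y * algebraMap S R n := by rw [← hym]; ring
  have hN : m * lam m = algebraMap S R (1 - n * t + n ^ 2 * ν) := by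
    rw [hm', map_sub, map_one, map_mul, hfixn, map_add, map_sub, map_one, map_mul, map_mul,
      map_pow, ht, hν]
    ring
  have hunit : IsUnit (1 - n * t + n ^ 2 * ν) := by
    have h1 : n * t - n ^ 2 * ν ∈ IsLocalRing.maximalIdeal S := by
      apply Ideal.sub_mem
      · exact Ideal.mul_mem_right _ _ hn
      · rw [pow_two, mul_assoc]
        exact Ideal.mul_mem_right _ _ hn
    have h2 := IsLocalRing.isUnit_one_sub_self_of_mem_nonunits _ h1
    convert h2 using 1
    ring
  have hmu : IsUnit (m * lam m) := by rw [hN]; exact hunit.map _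
  have : IsUnit m := isUnit_of_mul_isUnit_left hmu
  exact hM.ne_top (Ideal.eq_top_of_isUnit_mem _ hm this)

include hlam hS in
theorem isUnit_of_notMem (M : Ideal R) (hM : M.IsMaximal) (z : R) (hz : z ∉ M)
    (hz' : lam z ∉ M) : IsUnit z := by
  have hN : z * lam z ∉ M := fun h => (hM.isPrime.mem_or_mem h).elim hz hz'
  obtain ⟨n, hn⟩ := (hS.2 (z * lam z)).mp (by rw [map_mul, hlam z, mul_comm])
  have hnu : IsUnit n := by
    by_contra hnn
    apply hN
    rw [← hn]
    exact map_mem_of_mem_maximalIdeal S R lam hlam hS M hM n hnn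
  have : IsUnit (z * lam z) := by rw [← hn]; exact hnu.map _
  exact isUnit_of_mul_isUnit_left this

include hlam hS in
theorem exists_unit_sub (h : ∃ r : R, lam r - r ∉ Ring.jacobson R) :
    ∃ r : R, IsUnit (r - lam r) := by
  obtain ⟨r, hr⟩ := h
  rw [← Ideal.jacobson_bot, Ideal.jacobson, Ideal.mem_sInf] at hr
  push Not at hr
  obtain ⟨M, ⟨-, hM⟩, hrM⟩ := hr
  by_cases hA : ∀ x ∈ M, lam x ∈ M
  · refine ⟨-r, ?_⟩
    have hz : -r - lam (-r) = lam r - r := by rw [map_neg]; ring
    rw [hz]
    apply isUnit_of_notMem S R lam hlam hS M hM _ hrM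
    intro h1
    apply hrM
    have := hA _ h1
    rwa [hlam] at this
  · push Not at hA
    obtain ⟨x, hxM, hlx⟩ := hA
    obtain ⟨y, m, hm, hym⟩ := hM.exists_inv hlx
    refine ⟨m, ?_⟩
    have hm' : m = 1 - y * lam x := by rw [← hym]; ring
    have hlm : lam m = 1 - lam y * x := by rw [hm', map_sub, map_one, map_mul, hlam x]
    have hz : m - lam m ∉ M := by
      intro h1
      have h2 : (1 : R) ∈ M := by
        have h3 : (1 : R) = lam y * x - (m - lam m) + m := by rw [hlm]; ring
        rw [h3]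
        exact Ideal.add_mem _ (Ideal.sub_mem _ (Ideal.mul_mem_left _ _ hxM) h1) hm
      exact hM.ne_top ((Ideal.eq_top_iff_one _).mpr h2)
    apply isUnit_of_notMem S R lam hlam hS M hM _ hz
    intro h1
    apply hz
    have h2 : m - lam m = -(lam (m - lam m)) := by rw [map_sub, hlam m]; ring
    rw [h2]
    exact Ideal.neg_mem_iff _ |>.mpr h1

include hlam hS in
theorem main (h : ∃ r : R, lam r - r ∉ Ring.jacobson R) : RInv.IsQuadEtale S R :=
  Groth.Agent.H7.T15573.main S R lam hlam hS (exists_unit_sub S R lam hlam hS h)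

end

end Groth.Agent.H7.T15576
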