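import Mathlib
import Groth.Prelude.Def_W4c2azumayainvolQEt
import Groth.Agent.Lib.Helper7.T15576
import Groth.Agent.Lib.Helper7.AzQE0
import Groth.Agent.Lib.Helper7.RInvB
import Groth.Agent.Lib.Helper7.SemiLG

/-! Small facts on rings with involution over a local fixed ring (RingEquiv formulation). -/

set_option autoImplicit false
open scoped TensorProduct

namespace Groth.Agent.H7.RInvT1

universe u v

section Conv

variable (S : Type u) (R : Type v) [CommRing S] [CommRing R]
    [Algebra S R] (lam : R ≃+* R) (hlam : Function.Involutive lam) (hS : RInv.IsFixedRing S R lam)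

include hS in
theorem lam_algebraMap (s : S) : lam (algebraMap S R s) = algebraMap S R s :=
  (hS.2 _).mpr ⟨s, rfl⟩

/-- the involution as an `S`-algebra automorphism. -/
def lamA (hS : RInv.IsFixedRing S R lam) : R ≃ₐ[S] R :=
  AlgEquiv.ofRingEquiv (f := lam) (lam_algebraMap S R lam hS)

theorem lamA_apply (r : R) : lamA S R lam hS r = lam r := rfl

include hlam in
theorem lamA_lamA (r : R) : lamA S R lam hS (lamA S R lam hS r) = r := hlam r

theorem isFixedRing_lamA : RInv.IsFixedRing S R (lamA S R lam hS).toRingEquiv :=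
  ⟨hS.1, fun r => hS.2 r⟩

end Conv

section Local

variable (S : Type u) (R : Type v) [CommRing S] [CommRing R]
    [Algebra S R] (lam : R ≃+* R) (hlam : Function.Involutive lam) (hS : RInv.IsFixedRing S R lam)
    [IsLocalRing S]

include hS in
theorem nontrivial_R : Nontrivial R := hS.1.nontrivial

include hlam hS in
/-- S15574 -/
theorem exists_unit_sub_of_isQuadEtale (hq : RInv.IsQuadEtale S R) : ∃ r : R, IsUnit (r - lam r) := by
  apply T15576.exists_unit_sub S R lam hlam hS
  by_contra hcon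
  push Not at hcon
  obtain ⟨hfin, hproj, hunr, hrank⟩ := hq
  haveI := hfin
  haveI := hproj
  haveI := hunr
  haveI : Nontrivial R := nontrivial_R S R lam hS
  have h1 := AzQE.one_mem_span (lamA S R lam hS) (lamA_lamA S R lam hlam hS)
    (isFixedRing_lamA S R lam hS) hrank
  have h2 : Ideal.span (Set.range fun x : R => x - lamA S R lam hS x) ≤ Ring.jacobson R := by
    rw [Ideal.span_le]
    rintro _ ⟨x, rfl⟩
    have := hcon x
    have e : x - lamA S R lam hS x = -(lam x - x) := by rw [lamA_apply]; ring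
    show x - lamA S R lam hS x ∈ Ring.jacobson R
    rw [e]
    exact (Ring.jacobson R).neg_mem this
  have h3 : (1 : R) ∈ Ring.jacobson R := h2 h1
  rw [← Ideal.jacobson_bot] at h3
  have h4 : Ideal.jacobson (⊥ : Ideal R) = ⊤ := (Ideal.eq_top_iff_one _).mpr h3
  rw [Ideal.jacobson_eq_top_iff] at h4
  exact bot_ne_top h4

include hlam hS in
/-- S15577 -/
theorem isLocalRing_and_not_isQuadEtale (h : ∀ r : R, lam r - r ∈ Ring.jacobson R) :
    IsLocalRing R ∧ ¬ RInv.IsQuadEtale S R := by
  haveI : Nontrivial R := nontrivial_R S R lam hS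
  constructor
  · obtain ⟨M, hM⟩ := Ideal.exists_maximal R
    apply IsLocalRing.of_unique_max_ideal
    refine ⟨M, hM, ?_⟩
    intro M' hM'
    haveI := hM
    haveI := hM'
    have hle : M ≤ M.comap ((lamA S R lam hS : R ≃ₐ[S] R) : R →+* R) := by
      intro x hx
      rw [Ideal.mem_comap]
      have h1 : lam x - x ∈ M := by
        have := h x
        rw [← Ideal.jacobson_bot, Ideal.jacobson, Ideal.mem_sInf] at this
        exact this ⟨bot_le, hM⟩
      have : lam x = (lam x - x) + x := by ring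
      show lam x ∈ M
      rw [this]
      exact M.add_mem h1 hx
    haveI hMc : (M.comap ((lamA S R lam hS : R ≃ₐ[S] R) : R →+* R)).IsMaximal :=
      Ideal.comap_isMaximal_of_surjective _ (lamA S R lam hS).surjective
    have heq : M.comap ((lamA S R lam hS : R ≃ₐ[S] R) : R →+* R) = M :=
      (Ideal.IsMaximal.eq_of_le hM Ideal.IsPrime.ne_top' hle).symm
    rcases SemiLG.eq_or_eq_comap (lamA S R lam hS) (lamA_lamA S R lam hlam hS)
      (isFixedRing_lamA S R lam hS) M M' with h1 | h1
    · exact h1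
    · rw [h1, heq]
  · intro hq
    obtain ⟨r, hr⟩ := exists_unit_sub_of_isQuadEtale S R lam hlam hS hq
    have h1 : r - lam r ∈ Ring.jacobson R := by
      have := (Ring.jacobson R).neg_mem (h r)
      rwa [neg_sub] at this
    rw [← Ideal.jacobson_bot] at h1
    have h4 : Ideal.jacobson (⊥ : Ideal R) = ⊤ := Ideal.eq_top_of_isUnit_mem _ h1 hr
    rw [Ideal.jacobson_eq_top_iff] at h4
    exact bot_ne_top h4

include hlam hS in
/-- S15580 (Hilbert 90) -/
theorem exists_units_eq_inv_mul_map (hq : RInv.IsQuadEtale S R) (r : Rˣ) (hr : lam r * r = 1) :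
    ∃ a : Rˣ, (r : R) = (a⁻¹ : Rˣ) * lam a := by
  haveI : Nontrivial R := nontrivial_R S R lam hS
  obtain ⟨c₀, hc₀⟩ := exists_unit_sub_of_isQuadEtale S R lam hlam hS hq
  obtain ⟨M, hM⟩ := Ideal.exists_maximal R
  have key : ∀ c : R, c + lam (r * c) ∉ M → ∃ a : Rˣ, (r : R) = (a⁻¹ : Rˣ) * lam a := by
    intro c hc
    have hla : lam (c + lam (r * c)) = r * (c + lam (r * c)) := by
      rw [map_add, hlam (r * c), map_mul, mul_add, ← mul_assoc, mul_comm (r : R) (lam r), hr, one_mul]
      ring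
    have hu : IsUnit (c + lam (r * c)) := by
      apply T15576.isUnit_of_notMem S R lam hlam hS M hM _ hc
      rw [hla]
      intro h1
      rcases hM.isPrime.mem_or_mem h1 with h2 | h2
      · exact hM.ne_top (Ideal.eq_top_of_isUnit_mem _ h2 r.isUnit)
      · exact hc h2
    obtain ⟨a, ha⟩ := hu
    refine ⟨a, ?_⟩
    rw [ha, hla, ← ha, ← mul_assoc, mul_comm _ (r : R), mul_assoc, Units.inv_mul, mul_one]
  by_cases h1 : (1 : R) + lam (r * 1) ∈ M
  · apply key c₀
    intro h2
    have h3 : c₀ - lam c₀ ∈ M := by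
      have e : c₀ - lam c₀ = (c₀ + lam (r * c₀)) - (1 + lam (r * 1)) * lam c₀ := by
        rw [map_mul, map_mul, map_one]; ring
      rw [e]
      exact M.sub_mem h2 (M.mul_mem_right _ h1)
    exact hM.ne_top (Ideal.eq_top_of_isUnit_mem _ h3 hc₀)
  · exact key 1 h1

end Local

section Branch

variable (S : Type u) (R : Type v) [CommRing S] [CommRing R]
    [Algebra S R] (lam : R ≃ₐ[S] R) (hlam : ∀ r, lam (lam r) = r)
    (hfix : RInv.IsFixedRing S R lam.toRingEquiv)

include hlam hfix in
/-- where `(r₀ - lam r₀)^2` is invertible, `R` is quadratic étale. -/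
theorem isQuadEtale_of_isUnit_sq (r₀ : R) (s : S) (hs : algebraMap S R s = (r₀ - lam r₀) ^ 2)
    (S₁ : Type u) [CommRing S₁] [Algebra S S₁] [Module.Flat S S₁]
    (hu : IsUnit (algebraMap S S₁ s)) : RInv.IsQuadEtale S₁ (S₁ ⊗[S] R) := by
  have hfix₁ := RInvB.isFixedRing_lamBC lam hfix S₁
  have hlam₁ := RInvB.lamBC_lamBC lam hlam S₁
  have hunit : IsUnit ((1 : S₁) ⊗ₜ[S] r₀ - (RInvB.lamBC lam S₁).toRingEquiv ((1 : S₁) ⊗ₜ[S] r₀)) := by
    have e1 : (1 : S₁) ⊗ₜ[S] r₀ - (RInvB.lamBC lam S₁).toRingEquiv ((1 : S₁) ⊗ₜ[S] r₀) =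
        (1 : S₁) ⊗ₜ[S] (r₀ - lam r₀) := by
      show (1 : S₁) ⊗ₜ[S] r₀ - RInvB.lamBC lam S₁ ((1 : S₁) ⊗ₜ[S] r₀) = _
      rw [RInvB.lamBC_tmul, TensorProduct.tmul_sub]
    rw [e1, ← isUnit_pow_iff (two_ne_zero), Algebra.TensorProduct.tmul_pow, one_pow, ← hs]
    have e2 : (1 : S₁) ⊗ₜ[S] algebraMap S R s =
        algebraMap S₁ (S₁ ⊗[S] R) (algebraMap S S₁ s) := by
      rw [Algebra.TensorProduct.algebraMap_apply, Algebra.algebraMap_eq_smul_one s,
        Algebra.algebraMap_eq_smul_one (A := S₁) s, Algebra.algebraMap_self, RingHom.id_apply,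
        TensorProduct.smul_tmul]
    rw [e2]
    exact hu.map _
  exact T15573.main S₁ (S₁ ⊗[S] R) (RInvB.lamBC lam S₁).toRingEquiv
    (fun x => hlam₁ x) hfix₁ ⟨_, hunit⟩

include hlam hfix in
theorem not_isQuadEtale_atPrime_of_ramP (p : Ideal S) [p.IsPrime] (hram : RInvB.RamP lam p) :
    ¬ RInv.IsQuadEtale (Localization.AtPrime p) (Localization.AtPrime p ⊗[S] R) := by
  intro hq
  have hfix₁ := RInvB.isFixedRing_lamBC lam hfix (Localization.AtPrime p)
  have hlam₁ := RInvB.lamBC_lamBC lam hlam (Localization.AtPrime p)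
  obtain ⟨r', hr'⟩ := exists_unit_sub_of_isQuadEtale (Localization.AtPrime p)
    (Localization.AtPrime p ⊗[S] R) (RInvB.lamBC lam (Localization.AtPrime p)).toRingEquiv
    (fun x => hlam₁ x) hfix₁ hq
  have hcomap : (IsLocalRing.maximalIdeal (Localization.AtPrime p)).comap
      (algebraMap S (Localization.AtPrime p)) = p := IsLocalization.AtPrime.comap_maximalIdeal _ p
  have hram' := RInvB.ramP_lamBC lam (Localization.AtPrime p) p hram _ hcomap
  obtain ⟨p', hp', hp'q⟩ := RInvB.exists_prime_over (RInvB.lamBC lam (Localization.AtPrime p))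
    hlam₁ hfix₁ (IsLocalRing.maximalIdeal (Localization.AtPrime p))
  have h1 := hram' p' hp' hp'q r'
  exact hp'.ne_top (Ideal.eq_top_of_isUnit_mem _ h1 hr')

include hlam hfix in
/-- S15575 -/
theorem exists_isQuadEtale_away (p : Ideal S) [p.IsPrime]
    (hp : RInv.IsQuadEtale (Localization.AtPrime p) (Localization.AtPrime p ⊗[S] R)) :
    ∃ s : S, s ∉ p ∧ RInv.IsQuadEtale (Localization.Away s) (Localization.Away s ⊗[S] R) := by
  rcases RInvB.ramP_or_exists lam hlam hfix p with hram | ⟨r₀, s, hs, hsp⟩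
  · exact absurd hp (not_isQuadEtale_atPrime_of_ramP S R lam hlam hfix p hram)
  · exact ⟨s, hsp, isQuadEtale_of_isUnit_sq S R lam hlam hfix r₀ s hs (Localization.Away s)
      (IsLocalization.Away.algebraMap_isUnit s)⟩

include hlam hfix in
theorem not_isQuadEtale_atPrime_iff_ramP (p : Ideal S) [p.IsPrime] :
    ¬ RInv.IsQuadEtale (Localization.AtPrime p) (Localization.AtPrime p ⊗[S] R) ↔
      RInvB.RamP lam p := by
  constructor
  · intro h
    rcases RInvB.ramP_or_exists lam hlam hfix p with hram | ⟨r₀, s, hs, hsp⟩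
    · exact hram
    · exfalso
      apply h
      apply isQuadEtale_of_isUnit_sq S R lam hlam hfix r₀ s hs (Localization.AtPrime p)
      exact IsLocalization.map_units (M := p.primeCompl) (Localization.AtPrime p) ⟨s, hsp⟩
  · exact not_isQuadEtale_atPrime_of_ramP S R lam hlam hfix p

include hlam hfix in
/-- S15587 -/
theorem not_isQuadEtale_atPrime_iff (p : PrimeSpectrum S) :
    ¬ RInv.IsQuadEtale (Localization.AtPrime p.asIdeal) (Localization.AtPrime p.asIdeal ⊗[S] R) ↔
      ∃ q : PrimeSpectrum R, q.asIdeal.comap (algebraMap S R) = p.asIdeal ∧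
        (∀ q' : PrimeSpectrum R, q'.asIdeal.comap (algebraMap S R) = p.asIdeal → q' = q) ∧
        ∀ r : R, lam r - r ∈ q.asIdeal := by
  rw [not_isQuadEtale_atPrime_iff_ramP S R lam hlam hfix p.asIdeal]
  constructor
  · intro hram
    obtain ⟨q, hq, hqp⟩ := RInvB.exists_prime_over lam hlam hfix p.asIdeal
    refine ⟨⟨q, hq⟩, hqp, ?_, ?_⟩
    · intro q' hq'
      apply PrimeSpectrum.ext
      exact RInvB.unique_prime_of_ramP lam hlam hfix p.asIdeal hram q'.asIdeal q q'.isPrime hq hq' hqp
    · intro r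
      have := hram q hq hqp r
      have e : lam r - r = -(r - lam r) := by ring
      rw [e]
      exact q.neg_mem this
  · rintro ⟨q, hqp, huniq, hid⟩ P hP hPp r
    have : (⟨P, hP⟩ : PrimeSpectrum R) = q := huniq ⟨P, hP⟩ hPp
    have hPq : P = q.asIdeal := congrArg PrimeSpectrum.asIdeal this
    rw [hPq]
    have e : r - lam r = -(lam r - r) := by ring
    rw [e]
    exact q.asIdeal.neg_mem (hid r)

end Branch

end Groth.Agent.H7.RInvT1
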