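import Mathlib
import Groth.Prelude.Def_W4c2azumayainvolQEt
import Groth.Agent.Lib.Helper7.HermBasic
import Groth.Agent.Lib.Helper7.AltDet
import Groth.Agent.Lib.Helper7.RInvT1

/-! Diagonalisation of hermitian matrices over a ring with involution whose fixed ring is local. -/

set_option autoImplicit false

namespace Groth.Agent.H7.Herm

open Matrix

universe u v

section NU

variable (B : Type u) (A : Type v) [CommRing B] [CommRing A]
    [Algebra B A] (lam : A ≃+* A) (hlam : Function.Involutive lam) (hB : RInv.IsFixedRing B A lam)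
    [IsLocalRing B]

include hlam hB in
/-- (anti)symmetric non-units lie in the Jacobson radical. -/
theorem mem_jacobson_of_not_isUnit (ν : A) (ε : A) (hε : ε = 1 ∨ ε = -1) (hν : lam ν = ε * ν)
    (hnu : ¬ IsUnit ν) : ν ∈ Ring.jacobson A := by
  rw [← Ideal.jacobson_bot, Ideal.jacobson, Ideal.mem_sInf]
  rintro M ⟨-, hM⟩
  by_contra hmem
  apply hnu
  apply T15576.isUnit_of_notMem B A lam hlam hB M hM ν hmem
  rw [hν]
  rcases hε with rfl | rfl
  · rwa [one_mul]
  · rw [neg_one_mul]
    intro h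
    exact hmem ((Ideal.neg_mem_iff _).mp h)

include hB in
theorem jacobson_ne_top : Ring.jacobson A ≠ ⊤ := by
  haveI : Nontrivial A := RInvT1.nontrivial_R B A lam hB
  rw [← Ideal.jacobson_bot]
  intro h
  rw [Ideal.jacobson_eq_top_iff] at h
  exact bot_ne_top h

end NU

section Exist

variable (B : Type u) (A : Type v) [CommRing B] [CommRing A]
    [Algebra B A] (lam : A ≃+* A) (hlam : Function.Involutive lam) (hB : RInv.IsFixedRing B A lam)
    [IsLocalRing B] (ε : A) (hε : ε = 1 ∨ ε = -1)
    {ι : Type} [Fintype ι] [DecidableEq ι]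

include hlam in
theorem lam_sq_self (h : Matrix ι ι A) (hh : ε • ct lam h = h) (hε : ε = 1 ∨ ε = -1) (x : ι → A) :
    lam (sq lam h x x) = ε * sq lam h x x := by
  have hct : ct lam h = ε • h := by
    conv_rhs => rw [← hh, smul_smul]
    rcases hε with rfl | rfl <;> simp
  rw [lam_sq, hct]
  simp only [hlam _]
  simp only [sq, Matrix.smul_apply, smul_eq_mul, Finset.mul_sum]
  refine Finset.sum_congr rfl fun i _ => Finset.sum_congr rfl fun j _ => ?_
  ring

include hlam hB hε in
/-- if `h` is not good, all "norms" of vectors with a unit coordinate lie in the radical. -/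
theorem sq_mem_of_not_good (h : Matrix ι ι A) (hh : ε • ct lam h = h) (hng : ¬ Good lam h)
    (x : ι → A) (j : ι) (hx : IsUnit (x j)) : sq lam h x x ∈ Ring.jacobson A := by
  apply mem_jacobson_of_not_isUnit B A lam hlam hB _ ε hε (lam_sq_self A lam hlam ε h hh hε x)
  intro hu
  apply hng
  refine ⟨_, ⟨colMod j x, isUnit_colMod j x hx, rfl⟩, j, ?_⟩
  rw [cong_colMod_apply, if_pos rfl]
  exact hu

include hlam hB hε in
theorem diag_mem_of_not_good (h : Matrix ι ι A) (hh : ε • ct lam h = h) (hng : ¬ Good lam h)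
    (i : ι) : h i i ∈ Ring.jacobson A := by
  have := sq_mem_of_not_good B A lam hlam hB ε hε h hh hng (Pi.single i 1) i (by simp)
  rwa [sq_single] at this

include hlam hB hε in
theorem cross_mem_of_not_good (h : Matrix ι ι A) (hh : ε • ct lam h = h) (hng : ¬ Good lam h)
    (i j : ι) (hij : i ≠ j) (c : A) : c * h i j + lam c * h j i ∈ Ring.jacobson A := by
  have h1 := sq_mem_of_not_good B A lam hlam hB ε hε h hh hng
    (Pi.single i 1 + c • Pi.single j 1) i (by simp [Pi.single_eq_of_ne hij])
  simp only [sq_add_left, sq_add_right, sq_smul_left, sq_smul_right, sq_single] at h1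
  have h2 := diag_mem_of_not_good B A lam hlam hB ε hε h hh hng i
  have h3 := diag_mem_of_not_good B A lam hlam hB ε hε h hh hng j
  have h1' : h i i + c * h i j + lam c * h j i + (lam c * c) * h j j ∈ Ring.jacobson A := by
    convert h1 using 1
    ring
  have e : c * h i j + lam c * h j i =
      (h i i + c * h i j + lam c * h j i + (lam c * c) * h j j) - h i i - (lam c * c) * h j j := by
    ring
  rw [e]
  exact Ideal.sub_mem _ (Ideal.sub_mem _ h1' h2) (Ideal.mul_mem_left _ _ h3)

include hB in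
theorem not_isUnit_of_forall_mem [Nonempty ι] (h : Matrix ι ι A)
    (hall : ∀ i j, h i j ∈ Ring.jacobson A) : ¬ IsUnit h := by
  intro hu
  obtain ⟨v, hv⟩ := hu.exists_right_inv
  obtain ⟨i⟩ := (inferInstance : Nonempty ι)
  have h1 : (h * v) i i = 1 := by rw [hv, one_apply_eq]
  rw [Matrix.mul_apply] at h1
  have h2 : (1 : A) ∈ Ring.jacobson A := by
    rw [← h1]
    exact Ideal.sum_mem _ fun k _ => Ideal.mul_mem_right _ _ (hall i k)
  exact jacobson_ne_top B A lam hB ((Ideal.eq_top_iff_one _).mpr h2)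

include hlam hB hε in
/-- (Q1a) -/
theorem good_of_exists_unit_sub [Nonempty ι] (c₀ : A) (hc₀ : IsUnit (c₀ - lam c₀))
    (h : Matrix ι ι A) (hu : IsUnit h) (hh : ε • ct lam h = h) : Good lam h := by
  by_contra hng
  apply not_isUnit_of_forall_mem B A lam hB h _ hu
  intro i j
  by_cases hij : i = j
  · subst hij
    exact diag_mem_of_not_good B A lam hlam hB ε hε h hh hng i
  · have h1 := cross_mem_of_not_good B A lam hlam hB ε hε h hh hng i j hij c₀
    have h2 := cross_mem_of_not_good B A lam hlam hB ε hε h hh hng i j hij 1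
    rw [map_one, one_mul, one_mul] at h2
    have h3 : (c₀ - lam c₀) * h i j ∈ Ring.jacobson A := by
      have e : (c₀ - lam c₀) * h i j = (c₀ * h i j + lam c₀ * h j i) - lam c₀ * (h i j + h j i) := by
        ring
      rw [e]
      exact Ideal.sub_mem _ h1 (Ideal.mul_mem_left _ _ h2)
    obtain ⟨w, hw⟩ := hc₀.exists_left_inv
    have e : h i j = w * ((c₀ - lam c₀) * h i j) := by rw [← mul_assoc, hw, one_mul]
    rw [e]
    exact Ideal.mul_mem_left _ _ h3

include hlam hB in
/-- (Q1b) -/
theorem good_of_two [Nonempty ι] (h2u : IsUnit (2 : A))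
    (hid : ∀ a : A, lam a - a ∈ Ring.jacobson A)
    (h : Matrix ι ι A) (hu : IsUnit h) (hh : (1 : A) • ct lam h = h) : Good lam h := by
  by_contra hng
  apply not_isUnit_of_forall_mem B A lam hB h _ hu
  intro i j
  by_cases hij : i = j
  · subst hij
    exact diag_mem_of_not_good B A lam hlam hB 1 (Or.inl rfl) h hh hng i
  · have h2 := cross_mem_of_not_good B A lam hlam hB 1 (Or.inl rfl) h hh hng i j hij 1
    rw [map_one, one_mul, one_mul] at h2
    have hji : h j i = lam (h i j) := by
      have := congrFun (congrFun hh j) i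
      simpa using this.symm
    have h3 : 2 * h i j ∈ Ring.jacobson A := by
      have e : 2 * h i j = (h i j + h j i) - (lam (h i j) - h i j) := by rw [hji]; ring
      rw [e]
      exact Ideal.sub_mem _ h2 (hid _)
    obtain ⟨w, hw⟩ := h2u.exists_left_inv
    have e : h i j = w * (2 * h i j) := by rw [← mul_assoc, hw, one_mul]
    rw [e]
    exact Ideal.mul_mem_left _ _ h3

include hlam hB hε in
/-- (Q3) -/
theorem good_of_odd (hodd : Odd (Fintype.card ι))
    (h : Matrix ι ι A) (hu : IsUnit h) (hh : ε • ct lam h = h) : Good lam h := by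
  by_contra hng
  have hd : ∀ i, h i i ∈ Ring.jacobson A :=
    diag_mem_of_not_good B A lam hlam hB ε hε h hh hng
  have hs : ∀ i j, h i j + h j i ∈ Ring.jacobson A := by
    intro i j
    by_cases hij : i = j
    · subst hij
      exact Ideal.add_mem _ (hd i) (hd i)
    · have h2 := cross_mem_of_not_good B A lam hlam hB ε hε h hh hng i j hij 1
      rwa [map_one, one_mul, one_mul] at h2
  let π := Ideal.Quotient.mk (Ring.jacobson A)
  have hdet : (h.map π).det = 0 := by
    apply AltDet.det_eq_zero_of_alt' hodd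
    · intro i
      exact Ideal.Quotient.eq_zero_iff_mem.mpr (hd i)
    · intro i j
      rw [map_apply, map_apply, ← map_add]
      exact Ideal.Quotient.eq_zero_iff_mem.mpr (hs i j)
  have h3 : (h.map π).det = π h.det := (RingHom.map_det π h).symm
  rw [h3] at hdet
  have h4 : h.det ∈ Ring.jacobson A := Ideal.Quotient.eq_zero_iff_mem.mp hdet
  have h5 : IsUnit h.det := (isUnit_iff_isUnit_det _).mp hu
  exact jacobson_ne_top B A lam hB (Ideal.eq_top_of_isUnit_mem _ h4 h5)

end Exist

section Trick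

variable (A : Type v) [CommRing A] (lam : A ≃+* A) (hlam : Function.Involutive lam) (ε : A)

theorem isUnit_add_of_not_isUnit [IsLocalRing A] (a t : A) (ha : IsUnit a) (ht : ¬ IsUnit t) :
    IsUnit (a + t) := by
  by_contra hcon
  have h1 : a + t ∈ IsLocalRing.maximalIdeal A := (IsLocalRing.mem_maximalIdeal _).mpr hcon
  have h2 : t ∈ IsLocalRing.maximalIdeal A := (IsLocalRing.mem_maximalIdeal _).mpr ht
  have h3 : a ∈ IsLocalRing.maximalIdeal A := by
    have e : a = (a + t) - t := by ring
    rw [e]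
    exact Ideal.sub_mem _ h1 h2
  exact (IsLocalRing.mem_maximalIdeal _).mp h3 ha

include hlam in
theorem exists_good_complement [IsLocalRing A] {α : Type} [Fintype α] [DecidableEq α] [Nonempty α]
    (a₀ : A) (ha₀ : IsUnit a₀) (h' : Matrix α α A)
    (hu : IsUnit (fromBlocks (of fun _ _ => a₀ : Matrix Unit Unit A) 0 0 h'))
    (hh : ε • ct lam (fromBlocks (of fun _ _ => a₀ : Matrix Unit Unit A) 0 0 h') =
      fromBlocks (of fun _ _ => a₀ : Matrix Unit Unit A) 0 0 h') :
    ∃ (a₁ : A) (h'' : Matrix α α A),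
      Cong lam (fromBlocks (of fun _ _ => a₀ : Matrix Unit Unit A) 0 0 h')
        (fromBlocks (of fun _ _ => a₁ : Matrix Unit Unit A) 0 0 h'') ∧ Good lam h'' := by
  by_cases hex : ∃ k, IsUnit (h' k k)
  · obtain ⟨k, hk⟩ := hex
    exact ⟨a₀, h', Cong.refl lam _, h', Cong.refl lam _, k, hk⟩
  push Not at hex
  have hu' : IsUnit h' := isUnit_of_isUnit_block _ h' hu
  obtain ⟨e⟩ := (inferInstance : Nonempty α)
  obtain ⟨v, hv⟩ := hu'.exists_right_inv
  have hexf : ∃ f, IsUnit (h' e f) := by
    by_contra hcon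
    push Not at hcon
    have h1 : (h' * v) e e = 1 := by rw [hv, one_apply_eq]
    rw [Matrix.mul_apply] at h1
    have h2 : (1 : A) ∈ IsLocalRing.maximalIdeal A := by
      rw [← h1]
      exact Ideal.sum_mem _ fun k _ => Ideal.mul_mem_right _ _
        ((IsLocalRing.mem_maximalIdeal _).mpr (hcon k))
    exact (IsLocalRing.mem_maximalIdeal _).mp h2 isUnit_one
  obtain ⟨f, hf⟩ := hexf
  have hfe : f ≠ e := fun h => hex e (h ▸ hf)
  obtain ⟨b, hb⟩ := hf.exists_right_inv
  set c : A := a₀ * b with hc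
  have hcu : IsUnit c := ha₀.mul (IsUnit.of_mul_eq_one _ (by rw [mul_comm]; exact hb))
  set G₀ : Matrix (Unit ⊕ α) (Unit ⊕ α) A := fromBlocks (of fun _ _ => a₀ : Matrix Unit Unit A) 0 0 h'
    with hG₀
  have g00 : G₀ (Sum.inl ()) (Sum.inl ()) = a₀ := rfl
  have g0r : ∀ k, G₀ (Sum.inl ()) (Sum.inr k) = 0 := fun k => rfl
  have gr0 : ∀ k, G₀ (Sum.inr k) (Sum.inl ()) = 0 := fun k => rfl
  have grr : ∀ k l, G₀ (Sum.inr k) (Sum.inr l) = h' k l := fun k l => rfl
  set x₁ : Unit ⊕ α → A := Pi.single (Sum.inl ()) 1 - c • Pi.single (Sum.inr f) 1 with hx₁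
  have hx₁f : IsUnit (x₁ (Sum.inr f)) := by
    have : x₁ (Sum.inr f) = -c := by simp [hx₁]
    rw [this]
    exact hcu.neg
  set G₁ := ct lam (colMod (Sum.inr f) x₁) * G₀ * colMod (Sum.inr f) x₁ with hG₁
  have hc01 : Cong lam G₀ G₁ := ⟨_, isUnit_colMod _ _ hx₁f, rfl⟩
  set x₂ : Unit ⊕ α → A := Pi.single (Sum.inl ()) 1 + Pi.single (Sum.inr e) 1 with hx₂
  have hx₂0 : IsUnit (x₂ (Sum.inl ())) := by
    have : x₂ (Sum.inl ()) = 1 := by simp [hx₂]
    rw [this]
    exact isUnit_one
  set G₂ := ct lam (colMod (Sum.inl ()) x₂) * G₁ * colMod (Sum.inl ()) x₂ with hG₂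
  have hc12 : Cong lam G₁ G₂ := ⟨_, isUnit_colMod _ _ hx₂0, rfl⟩
  have hc02 : Cong lam G₀ G₂ := hc01.trans lam hc12
  have hherm₂ : ε • ct lam G₂ = G₂ := hc02.herm lam hlam ε hh
  have ne1 : (Sum.inl () : Unit ⊕ α) ≠ Sum.inr f := Sum.inl_ne_inr
  have ne2 : (Sum.inr e : Unit ⊕ α) ≠ Sum.inr f := fun h => hfe (Sum.inr_injective h).symm
  have ne3 : (Sum.inr f : Unit ⊕ α) ≠ Sum.inl () := Sum.inr_ne_inl
  have ne4 : (Sum.inr e : Unit ⊕ α) ≠ Sum.inl () := Sum.inr_ne_inl
  -- entries of G₁
  have e1_00 : G₁ (Sum.inl ()) (Sum.inl ()) = a₀ := by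
    rw [hG₁, cong_colMod_apply, if_neg ne1, sq_single, g00]
  have e1_0e : G₁ (Sum.inl ()) (Sum.inr e) = 0 := by
    rw [hG₁, cong_colMod_apply, if_neg ne1, if_neg ne2, sq_single, g0r]
  have e1_e0 : G₁ (Sum.inr e) (Sum.inl ()) = 0 := by
    rw [hG₁, cong_colMod_apply, if_neg ne1, if_neg ne2, sq_single, gr0]
  have e1_ee : G₁ (Sum.inr e) (Sum.inr e) = h' e e := by
    rw [hG₁, cong_colMod_apply, if_neg ne2, sq_single, grr]
  have e1_0f : G₁ (Sum.inl ()) (Sum.inr f) = a₀ := by
    rw [hG₁, cong_colMod_apply, if_neg ne1, if_pos rfl, hx₁]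
    simp only [sq_sub_right, sq_smul_right, sq_single, g00, g0r]
    ring
  have e1_ef : G₁ (Sum.inr e) (Sum.inr f) = -(c * h' e f) := by
    rw [hG₁, cong_colMod_apply, if_neg ne2, if_pos rfl, hx₁]
    simp only [sq_sub_right, sq_smul_right, sq_single, gr0, grr]
    ring
  have e1_ff : G₁ (Sum.inr f) (Sum.inr f) = a₀ + lam c * c * h' f f := by
    rw [hG₁, cong_colMod_apply, if_pos rfl, hx₁]
    simp only [sq_sub_right, sq_smul_right, sq_sub_left, sq_smul_left, sq_single, g00, g0r, gr0, grr]
    ring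
  -- entries of G₂
  have e2_00 : G₂ (Sum.inl ()) (Sum.inl ()) = a₀ + h' e e := by
    rw [hG₂, cong_colMod_apply, if_pos rfl, hx₂]
    simp only [sq_add_left, sq_add_right, sq_single, e1_00, e1_0e, e1_e0, e1_ee]
    ring
  have e2_0f : G₂ (Sum.inl ()) (Sum.inr f) = 0 := by
    rw [hG₂, cong_colMod_apply, if_pos rfl, if_neg ne3, hx₂]
    simp only [sq_add_left, sq_single, e1_0f, e1_ef, hc]
    linear_combination (-a₀) * hb
  have e2_ff : G₂ (Sum.inr f) (Sum.inr f) = a₀ + lam c * c * h' f f := by
    rw [hG₂, cong_colMod_apply, if_neg ne3, sq_single, e1_ff]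
  have hu00 : IsUnit (G₂ (Sum.inl ()) (Sum.inl ())) := by
    rw [e2_00]
    exact isUnit_add_of_not_isUnit A _ _ ha₀ (hex e)
  have huff : IsUnit (G₂ (Sum.inr f) (Sum.inr f)) := by
    rw [e2_ff]
    apply isUnit_add_of_not_isUnit A _ _ ha₀
    intro h1
    exact hex f (isUnit_of_mul_isUnit_right h1)
  obtain ⟨b₁, hb₁⟩ := hu00.exists_right_inv
  have hel := elim lam ε G₂ hherm₂ b₁ hb₁
  refine ⟨_, _, hc02.trans lam hel, _, Cong.refl lam _, f, ?_⟩
  rw [of_apply, e2_0f, mul_zero, sub_zero]
  exact huff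

end Trick

section Induction

variable (A : Type v) [CommRing A] (lam : A ≃+* A) (hlam : Function.Involutive lam) (ε : A)

/-- hypothesis of the inductive step. -/
def StepHyp : Prop :=
  (∀ (κ : Type) [Fintype κ] [DecidableEq κ] [Nonempty κ] (g : Matrix κ κ A),
    IsUnit g → ε • ct lam g = g → Good lam g) ∨ IsLocalRing A

theorem herm_submatrix {ι κ : Type*} (h : Matrix ι ι A) (hh : ε • ct lam h = h) (e : κ → ι) :
    ε • ct lam (h.submatrix e e) = h.submatrix e e := by
  conv_rhs => rw [← hh]
  rfl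

include hlam in
theorem step {α : Type} [Fintype α] [DecidableEq α] (hstep : StepHyp A lam ε)
    (IH : ∀ h' : Matrix α α A, IsUnit h' → ε • ct lam h' = h' → (IsEmpty α ∨ Good lam h') →
      Diagble lam h')
    (h : Matrix (Unit ⊕ α) (Unit ⊕ α) A) (hu : IsUnit h) (hh : ε • ct lam h = h)
    (hg : Good lam h) : Diagble lam h := by
  obtain ⟨h₁, hc1, i, hi⟩ := hg
  apply Diagble.of_cong lam hc1
  have hu₁ := hc1.isUnit lam hu
  have hh₁ := hc1.herm lam hlam ε hh
  set σ : Unit ⊕ α ≃ Unit ⊕ α := Equiv.swap (Sum.inl ()) i with hσ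
  set G := h₁.submatrix σ σ with hG
  have hback : G.submatrix σ σ = h₁ := by
    ext k l
    simp [hG, hσ]
  rw [← hback]
  apply Diagble.submatrix lam _ σ
  have huG : IsUnit G := by
    rw [isUnit_iff_isUnit_det, hG, det_submatrix_equiv_self]
    exact (isUnit_iff_isUnit_det _).mp hu₁
  have hhG : ε • ct lam G = G := herm_submatrix A lam ε h₁ hh₁ σ
  have hG00 : IsUnit (G (Sum.inl ()) (Sum.inl ())) := by
    have : G (Sum.inl ()) (Sum.inl ()) = h₁ i i := by
      simp [hG, hσ]
    rw [this]
    exact hi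
  obtain ⟨b₀, hb₀⟩ := hG00.exists_right_inv
  have hel := elim lam ε G hhG b₀ hb₀
  apply Diagble.of_cong lam hel
  have hub := hel.isUnit lam huG
  have hhb := hel.herm lam hlam ε hhG
  rcases isEmpty_or_nonempty α with hemp | hne
  · exact Diagble.block lam _ (IH _ (isUnit_of_isUnit_block _ _ hub)
      (herm_of_herm_block lam ε _ _ hhb) (Or.inl hemp))
  · rcases hstep with hq | hloc
    · exact Diagble.block lam _ (IH _ (isUnit_of_isUnit_block _ _ hub)
        (herm_of_herm_block lam ε _ _ hhb)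
        (Or.inr (hq α _ (isUnit_of_isUnit_block _ _ hub) (herm_of_herm_block lam ε _ _ hhb))))
    · haveI := hloc
      obtain ⟨a₁, h'', hc, hgood⟩ := exists_good_complement A lam hlam ε _ hG00 _ hub hhb
      apply Diagble.of_cong lam hc
      have hub' := hc.isUnit lam hub
      have hhb' := hc.herm lam hlam ε hhb
      exact Diagble.block lam _ (IH _ (isUnit_of_isUnit_block _ _ hub')
        (herm_of_herm_block lam ε _ _ hhb') (Or.inr hgood))

/-- `Unit ⊕ Fin n ≃ Fin (n+1)`. -/
def finEquiv (n : ℕ) : Unit ⊕ Fin n ≃ Fin (n + 1) :=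
  ((Equiv.sumComm Unit (Fin n)).trans (Equiv.optionEquivSumPUnit (Fin n)).symm).trans
    (finSuccEquiv n).symm

include hlam in
theorem diagble_fin (hstep : StepHyp A lam ε) (n : ℕ) :
    ∀ h : Matrix (Fin n) (Fin n) A, IsUnit h → ε • ct lam h = h → (n = 0 ∨ Good lam h) →
      Diagble lam h := by
  induction n with
  | zero =>
      intro h _ _ _
      exact ⟨h, Cong.refl lam h, fun i => i.elim0, by ext i; exact i.elim0⟩
  | succ n ih =>
      intro h hu hh hg
      have hg' : Good lam h := by
        rcases hg with h0 | hg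
        · exact absurd h0 (Nat.succ_ne_zero n)
        · exact hg
      set e := finEquiv n with he
      have hback : (h.submatrix e e).submatrix e.symm e.symm = h := by
        ext k l
        simp
      rw [← hback]
      apply Diagble.submatrix lam _ e.symm
      apply step A lam hlam ε hstep
      · intro h' hu' hh' hg''
        apply ih h' hu' hh'
        rcases hg'' with hemp | hg''
        · left
          by_contra hn
          obtain ⟨m, rfl⟩ := Nat.exists_eq_succ_of_ne_zero hn
          exact hemp.false 0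
        · exact Or.inr hg''
      · rw [isUnit_iff_isUnit_det, det_submatrix_equiv_self]
        exact (isUnit_iff_isUnit_det _).mp hu
      · exact herm_submatrix A lam ε h hh e
      · exact hg'.submatrix lam e

end Induction

section Main

variable (B : Type u) (A : Type v) [CommRing B] [CommRing A]
    [Algebra B A] (lam : A ≃+* A) (hlam : Function.Involutive lam) (hB : RInv.IsFixedRing B A lam)
    [IsLocalRing B]

include hlam hB in
/-- S15583 -/
theorem main (n : ℕ) (ε : A) (hε : ε = 1 ∨ ε = -1) (h : Matrix (Fin n) (Fin n) A)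
    (hh : IsUnit h) (herm : ε • (h.map lam).transpose = h)
    (hcase : (∃ a : A, lam a - a ∉ Ring.jacobson A) ∨ ε + 1 ∉ Ring.jacobson A ∨ Odd n) :
    ∃ v : Matrix (Fin n) (Fin n) A, IsUnit v ∧
      ∃ d : Fin n → A, (v.map lam).transpose * h * v = Matrix.diagonal d := by
  have key : Diagble lam h := by
    by_cases hid : ∀ a : A, lam a - a ∈ Ring.jacobson A
    · have hloc : IsLocalRing A := (RInvT1.isLocalRing_and_not_isQuadEtale B A lam hlam hB hid).1
      apply diagble_fin A lam hlam ε (Or.inr hloc) n h hh herm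
      rcases Nat.eq_zero_or_pos n with h0 | hpos
      · exact Or.inl h0
      · right
        haveI : Nonempty (Fin n) := ⟨⟨0, hpos⟩⟩
        rcases hcase with ⟨a, ha⟩ | hε1 | hodd
        · exact absurd (hid a) ha
        · have hε' : ε = 1 := by
            rcases hε with h1 | h1
            · exact h1
            · exfalso
              apply hε1
              rw [h1, neg_add_cancel]
              exact Ideal.zero_mem _
          subst hε'
          have h2 : (2 : A) ∉ Ring.jacobson A := by
            have : (2 : A) = 1 + 1 := by norm_num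
            rw [this]; exact hε1
          have h2u : IsUnit (2 : A) := by
            rw [← Ideal.jacobson_bot, IsLocalRing.jacobson_eq_maximalIdeal ⊥ bot_ne_top] at h2
            by_contra hnu
            exact h2 ((IsLocalRing.mem_maximalIdeal _).mpr hnu)
          exact good_of_two B A lam hlam hB h2u hid h hh herm
        · exact good_of_odd B A lam hlam hB ε hε (by rw [Fintype.card_fin]; exact hodd) h hh herm
    · push Not at hid
      obtain ⟨c₀, hc₀⟩ := T15576.exists_unit_sub B A lam hlam hB hid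
      have hq : StepHyp A lam ε := Or.inl (fun κ _ _ _ g hg hhg =>
        good_of_exists_unit_sub B A lam hlam hB ε hε c₀ hc₀ g hg hhg)
      apply diagble_fin A lam hlam ε hq n h hh herm
      rcases Nat.eq_zero_or_pos n with h0 | hpos
      · exact Or.inl h0
      · right
        haveI : Nonempty (Fin n) := ⟨⟨0, hpos⟩⟩
        exact good_of_exists_unit_sub B A lam hlam hB ε hε c₀ hc₀ h hh herm
  obtain ⟨h', ⟨v, hv, rfl⟩, d, hd⟩ := key
  exact ⟨v, hv, d, hd⟩

end Main

end Groth.Agent.H7.Herm
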