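import Mathlib
import Groth.Prelude.Def_AzInv
import Groth.Prelude.Def_W4c2azumayainvolQEt
import Groth.Agent.Lib.Helper7.StdInv
import Groth.Agent.Lib.Helper7.HermDiag

/-! From a diagonalised hermitian form to symmetric matrix units. -/

set_option autoImplicit false
open scoped TensorProduct
open AzInv

namespace Groth.Agent.H7.HermStd

universe u v w u' u''

section DiagData

variable (S : Type u) (R : Type v) [CommRing S] [CommRing R] [Algebra S R]
  (lam : R ≃ₐ[S] R)
  (A : Type w) [Ring A] [Algebra S A] [Algebra R A] [IsScalarTower S R A]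
  (t : LamInv R A lam) (n : ℕ) (e₀ : Fin n → Fin n → A) (w : Aˣ)

/-- explicit diagonalisation data over `C`. -/
def DiagDataX (C : Type u') [CommRing C] [Algebra S C] (p p' : C ⊗[S] A) (d d' : Fin n → C) : Prop :=
  p * p' = 1 ∧ p' * p = 1 ∧ (∀ i, d i * d' i = 1) ∧
    p * (∑ i, d i • ((1 : C) ⊗ₜ[S] e₀ i i)) * ((1 : C) ⊗ₜ[S] (↑w⁻¹ : A)) * t.bc S lam C p = 1

/-- diagonalisation data over `C`. -/
def DiagData (C : Type u') [CommRing C] [Algebra S C] : Prop :=
  ∃ (p p' : C ⊗[S] A) (d d' : Fin n → C), DiagDataX S R lam A t n e₀ w C p p' d d'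

theorem diagDataX_map (C : Type u') [CommRing C] [Algebra S C] (C' : Type u'') [CommRing C']
    [Algebra S C'] (f : C →ₐ[S] C') (p p' : C ⊗[S] A) (d d' : Fin n → C)
    (h : DiagDataX S R lam A t n e₀ w C p p' d d') :
    DiagDataX S R lam A t n e₀ w C' (UnitLoc.bcMap S A C C' f p) (UnitLoc.bcMap S A C C' f p')
      (fun i => f (d i)) (fun i => f (d' i)) := by
  obtain ⟨h1, h2, h3, h4⟩ := h
  refine ⟨?_, ?_, ?_, ?_⟩
  · rw [← map_mul, h1, map_one]
  · rw [← map_mul, h2, map_one]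
  · intro i
    rw [← map_mul, h3, map_one]
  · have := congrArg (UnitLoc.bcMap S A C C' f) h4
    rw [map_mul, map_mul, map_mul, map_one, UnitLoc.bcMap_bc, map_sum] at this
    have e1 : ∀ i, UnitLoc.bcMap S A C C' f (d i • ((1 : C) ⊗ₜ[S] e₀ i i)) =
        f (d i) • ((1 : C') ⊗ₜ[S] e₀ i i) := by
      intro i
      rw [Algebra.smul_def, Algebra.smul_def, map_mul, UnitLoc.bcMap_algebraMap,
        UnitLoc.bcMap_tmul, map_one]
    have e2 : UnitLoc.bcMap S A C C' f ((1 : C) ⊗ₜ[S] (↑w⁻¹ : A)) = (1 : C') ⊗ₜ[S] (↑w⁻¹ : A) := by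
      rw [UnitLoc.bcMap_tmul, map_one]
    simp only [e1, e2] at this
    exact this

theorem stdOver_of_diagDataX (he₀ : Spread.IsMatUnits e₀)
    (hw : ∀ i j, t (e₀ i j) = ↑w * e₀ j i * ↑w⁻¹)
    (C : Type u') [CommRing C] [Algebra S C] (p p' : C ⊗[S] A) (d d' : Fin n → C)
    (h : DiagDataX S R lam A t n e₀ w C p p' d d')
    (y : Fin n → C) (hy : ∀ i, y i * y i = d i) : StdInv.StdOver S R lam A t n C := by
  classical
  obtain ⟨h1, h2, h3, h4⟩ := h
  set E : Fin n → Fin n → C ⊗[S] A := fun i j => (1 : C) ⊗ₜ[S] e₀ i j with hE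
  have hEmu : Spread.IsMatUnits E :=
    he₀.map (Algebra.TensorProduct.includeRight : A →ₐ[S] C ⊗[S] A).toRingHom
  set W : C ⊗[S] A := (1 : C) ⊗ₜ[S] (↑w : A) with hW
  set W' : C ⊗[S] A := (1 : C) ⊗ₜ[S] (↑w⁻¹ : A) with hW'
  have hWW' : W * W' = 1 := by
    rw [hW, hW', Algebra.TensorProduct.tmul_mul_tmul, one_mul, Units.mul_inv,
      Algebra.TensorProduct.one_def]
  have hW'W : W' * W = 1 := by
    rw [hW, hW', Algebra.TensorProduct.tmul_mul_tmul, one_mul, Units.inv_mul,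
      Algebra.TensorProduct.one_def]
  have htE : ∀ i j, t.bc S lam C (E i j) = W * E j i * W' := by
    intro i j
    rw [hE, hW, hW', LamInv.bc_tmul, hw, Algebra.TensorProduct.tmul_mul_tmul,
      Algebra.TensorProduct.tmul_mul_tmul, one_mul, one_mul]
  set δ : C ⊗[S] A := ∑ i, d i • E i i with hδ
  set δ' : C ⊗[S] A := ∑ i, d' i • E i i with hδ'
  have hδE : ∀ j i, δ * E j i = d j • E j i := by
    intro j i
    rw [hδ, Finset.sum_mul, Finset.sum_eq_single j]
    · rw [smul_mul_assoc, hEmu.1, if_pos rfl]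
    · intro b _ hb
      rw [smul_mul_assoc, hEmu.1, if_neg hb, smul_zero]
    · intro hj; exact absurd (Finset.mem_univ j) hj
  have hEδ' : ∀ j i, E j i * δ' = d' i • E j i := by
    intro j i
    rw [hδ', Finset.mul_sum, Finset.sum_eq_single i]
    · rw [mul_smul_comm, hEmu.1, if_pos rfl]
    · intro b _ hb
      rw [mul_smul_comm, hEmu.1, if_neg hb.symm, smul_zero]
    · intro hi; exact absurd (Finset.mem_univ i) hi
  have hδδ' : δ * δ' = 1 := by
    rw [← hEmu.2]
    conv_lhs => rw [hδ', Finset.mul_sum]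
    refine Finset.sum_congr rfl fun i _ => ?_
    rw [mul_smul_comm, hδE, smul_smul, mul_comm, h3, one_smul]
  have hδ'δ : δ' * δ = 1 := by
    rw [← hEmu.2]
    conv_lhs => rw [hδ, Finset.mul_sum]
    refine Finset.sum_congr rfl fun i _ => ?_
    rw [mul_smul_comm, hδ', Finset.sum_mul, Finset.sum_eq_single i]
    · rw [smul_mul_assoc, hEmu.1, if_pos rfl, smul_smul, h3, one_smul]
    · intro b _ hb
      rw [smul_mul_assoc, hEmu.1, if_neg hb, smul_zero]
    · intro hi; exact absurd (Finset.mem_univ i) hi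
  have htp : t.bc S lam C p = W * δ' * p' := by
    have e1 : (W * δ' * p') * (p * δ * W' * t.bc S lam C p) = t.bc S lam C p := by
      calc (W * δ' * p') * (p * δ * W' * t.bc S lam C p)
          = W * (δ' * ((p' * p) * δ)) * W' * t.bc S lam C p := by simp only [mul_assoc]
        _ = t.bc S lam C p := by rw [h2, one_mul, hδ'δ, mul_one, hWW', one_mul]
    rw [← e1, h4, mul_one]
  have htp' : t.bc S lam C p' = p * δ * W' := by
    have e1 : t.bc S lam C p' * t.bc S lam C p = 1 := by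
      rw [← AzQE.bc_mul, h1, AzQE.bc_one]
    have e2 : t.bc S lam C p * (p * δ * W') = 1 := by
      rw [htp]
      calc W * δ' * p' * (p * δ * W') = W * (δ' * ((p' * p) * δ)) * W' := by simp only [mul_assoc]
        _ = 1 := by rw [h2, one_mul, hδ'δ, mul_one, hWW']
    calc t.bc S lam C p' = t.bc S lam C p' * (t.bc S lam C p * (p * δ * W')) := by rw [e2, mul_one]
      _ = p * δ * W' := by rw [← mul_assoc, e1, one_mul]
  have hyy' : ∀ i, y i * (y i * d' i) = 1 := by
    intro i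
    rw [← mul_assoc, hy, h3]
  refine ⟨fun i j => (y i * (y j * d' j)) • (p * E i j * p'), ⟨?_, ?_⟩, ?_⟩
  · intro i j k l
    rw [smul_mul_smul_comm]
    have e1 : p * E i j * p' * (p * E k l * p') = p * (E i j * E k l) * p' := by
      calc p * E i j * p' * (p * E k l * p') = p * (E i j * ((p' * p) * E k l)) * p' := by
            simp only [mul_assoc]
        _ = p * (E i j * E k l) * p' := by rw [h2, one_mul]
    rw [e1, hEmu.1]
    split_ifs with hjk
    · subst hjk
      congr 1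
      calc y i * (y j * d' j) * (y j * (y l * d' l))
          = (y j * (y j * d' j)) * (y i * (y l * d' l)) := by ring
        _ = y i * (y l * d' l) := by rw [hyy', one_mul]
    · rw [mul_zero, zero_mul, smul_zero]
  · have e1 : ∀ i, (y i * (y i * d' i)) • (p * E i i * p') = p * E i i * p' := by
      intro i
      rw [hyy', one_smul]
    simp only [e1]
    rw [← Finset.sum_mul, ← Finset.mul_sum, hEmu.2, mul_one, h1]
  · intro i j
    rw [map_smul, AzQE.bc_mul, AzQE.bc_mul, htp, htp', htE]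
    have e1 : p * δ * W' * (W * E j i * W' * (W * δ' * p')) = (d j * d' i) • (p * E j i * p') := by
      calc p * δ * W' * (W * E j i * W' * (W * δ' * p'))
          = p * (δ * ((W' * W) * (E j i * ((W' * W) * δ')))) * p' := by simp only [mul_assoc]
        _ = p * (δ * (E j i * δ')) * p' := by rw [hW'W, one_mul, one_mul]
        _ = (d j * d' i) • (p * E j i * p') := by
            rw [hEδ', mul_smul_comm, hδE, smul_smul, mul_smul_comm, smul_mul_assoc, mul_comm]
    rw [e1, smul_smul]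
    congr 1
    calc y i * (y j * d' j) * (d j * d' i) = (d j * d' j) * (y j * (y i * d' i)) := by ring
      _ = y j * (y i * d' i) := by rw [h3, one_mul]

theorem diagData_spread (q : Ideal S) [q.IsPrime]
    (h : DiagData S R lam A t n e₀ w (Localization.AtPrime q)) :
    ∃ g : S, g ∉ q ∧ DiagData S R lam A t n e₀ w (Localization.Away g) := by
  classical
  obtain ⟨p, p', d, d', h1, h2, h3, h4⟩ := h
  haveI := InnLoc.isLocalizedModule_mk S A q
  obtain ⟨⟨y, s⟩, hs⟩ := IsLocalizedModule.surj q.primeCompl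
    (TensorProduct.mk S (Localization.AtPrime q) A 1) p
  obtain ⟨⟨y', s'⟩, hs'⟩ := IsLocalizedModule.surj q.primeCompl
    (TensorProduct.mk S (Localization.AtPrime q) A 1) p'
  simp only [TensorProduct.mk_apply, Submonoid.smul_def] at hs hs'
  obtain ⟨σ, hσ⟩ := IsLocalization.exist_integer_multiples_of_finite q.primeCompl d
  obtain ⟨σ', hσ'⟩ := IsLocalization.exist_integer_multiples_of_finite q.primeCompl d'
  choose a ha using hσ
  choose a' ha' using hσ'
  have hmul : ∀ x z : A, (1 : Localization.AtPrime q) ⊗ₜ[S] (x * z) =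
      ((1 : Localization.AtPrime q) ⊗ₜ[S] x) * ((1 : Localization.AtPrime q) ⊗ₜ[S] z) := by
    intro x z
    rw [Algebra.TensorProduct.tmul_mul_tmul, one_mul]
  have hone : ∀ r : S, (1 : Localization.AtPrime q) ⊗ₜ[S] (r • (1 : A)) =
      r • (1 : Localization.AtPrime q ⊗[S] A) := by
    intro r
    rw [TensorProduct.tmul_smul, Algebra.TensorProduct.one_def]
  -- equation 1
  have hab : TensorProduct.mk S (Localization.AtPrime q) A 1 (y * y') =
      TensorProduct.mk S (Localization.AtPrime q) A 1 ((s.1 * s'.1) • (1 : A)) := by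
    simp only [TensorProduct.mk_apply]
    rw [hmul, ← hs, ← hs', smul_mul_smul_comm, h1, hone]
  have hba : TensorProduct.mk S (Localization.AtPrime q) A 1 (y' * y) =
      TensorProduct.mk S (Localization.AtPrime q) A 1 ((s.1 * s'.1) • (1 : A)) := by
    simp only [TensorProduct.mk_apply]
    rw [hmul, ← hs, ← hs', smul_mul_smul_comm, h2, hone, mul_comm s'.1]
  obtain ⟨c₁, hc₁⟩ := IsLocalizedModule.exists_of_eq (S := q.primeCompl) hab
  obtain ⟨c₂, hc₂⟩ := IsLocalizedModule.exists_of_eq (S := q.primeCompl) hba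
  simp only [Submonoid.smul_def] at hc₁ hc₂
  -- equation 3
  have h3' : ∀ i, ∃ c : q.primeCompl, (c : S) * (a i * a' i) = (c : S) * (σ.1 * σ'.1) := by
    intro i
    have e1 : algebraMap S (Localization.AtPrime q) (a i * a' i) =
        algebraMap S (Localization.AtPrime q) (σ.1 * σ'.1) := by
      rw [map_mul, ha, ha', Algebra.smul_def, Algebra.smul_def, map_mul]
      calc algebraMap S (Localization.AtPrime q) σ.1 * d i *
            (algebraMap S (Localization.AtPrime q) σ'.1 * d' i)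
          = algebraMap S (Localization.AtPrime q) σ.1 *
            algebraMap S (Localization.AtPrime q) σ'.1 * (d i * d' i) := by ring
        _ = _ := by rw [h3, mul_one]
    exact (IsLocalization.eq_iff_exists q.primeCompl (Localization.AtPrime q)).mp e1
  choose c₃ hc₃ using h3'
  -- equation 4
  have hδ : ∑ i, (algebraMap S (Localization.AtPrime q) σ.1 * d i) •
      ((1 : Localization.AtPrime q) ⊗ₜ[S] e₀ i i) =
      (1 : Localization.AtPrime q) ⊗ₜ[S] (∑ i, a i • e₀ i i) := by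
    rw [TensorProduct.tmul_sum]
    refine Finset.sum_congr rfl fun i _ => ?_
    rw [← Algebra.smul_def, ← ha, algebraMap_smul, TensorProduct.tmul_smul]
  have h4' : TensorProduct.mk S (Localization.AtPrime q) A 1
      (y * (∑ i, a i • e₀ i i) * (↑w⁻¹ : A) * t y) =
      TensorProduct.mk S (Localization.AtPrime q) A 1 ((s.1 * s.1 * σ.1) • (1 : A)) := by
    simp only [TensorProduct.mk_apply]
    rw [hmul, hmul, hmul, ← hδ, ← hs, hone]
    have e1 : (1 : Localization.AtPrime q) ⊗ₜ[S] t y = s.1 • t.bc S lam (Localization.AtPrime q) p := by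
      rw [← LamInv.bc_tmul, ← hs, ← algebraMap_smul (Localization.AtPrime q) s.1 p, map_smul,
        algebraMap_smul]
    rw [e1]
    have e2 : ∑ i, (algebraMap S (Localization.AtPrime q) σ.1 * d i) •
        ((1 : Localization.AtPrime q) ⊗ₜ[S] e₀ i i) =
        σ.1 • ∑ i, d i • ((1 : Localization.AtPrime q) ⊗ₜ[S] e₀ i i) := by
      rw [Finset.smul_sum]
      refine Finset.sum_congr rfl fun i _ => ?_
      rw [mul_smul, algebraMap_smul]
    rw [e2]
    simp only [smul_mul_assoc, mul_smul_comm, smul_smul]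
    rw [h4]
    congr 1
    ring
  obtain ⟨c₄, hc₄⟩ := IsLocalizedModule.exists_of_eq (S := q.primeCompl) h4'
  simp only [Submonoid.smul_def] at hc₄
  -- the element g
  let g : S := s.1 * s'.1 * σ.1 * σ'.1 * c₁.1 * c₂.1 * (∏ i, (c₃ i).1) * c₄.1
  have hg : g ∉ q := by
    have : g ∈ q.primeCompl := by
      refine Submonoid.mul_mem _ (Submonoid.mul_mem _ (Submonoid.mul_mem _ (Submonoid.mul_mem _
        (Submonoid.mul_mem _ (Submonoid.mul_mem _ (Submonoid.mul_mem _ s.2 s'.2) σ.2) σ'.2) c₁.2)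
        c₂.2) ?_) c₄.2
      exact Submonoid.prod_mem _ fun i _ => (c₃ i).2
    exact this
  refine ⟨g, hg, ?_⟩
  have hunit : ∀ e : S, e ∣ g → IsUnit (algebraMap S (Localization.Away g) e) := fun e he =>
    isUnit_of_dvd_unit (map_dvd _ he) (IsLocalization.Away.algebraMap_isUnit g)
  have hmul' : ∀ (x z : A), (1 : Localization.Away g) ⊗ₜ[S] (x * z) =
      ((1 : Localization.Away g) ⊗ₜ[S] x) * ((1 : Localization.Away g) ⊗ₜ[S] z) := by
    intro x z
    rw [Algebra.TensorProduct.tmul_mul_tmul, one_mul]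
  have hone' : ∀ r : S, (1 : Localization.Away g) ⊗ₜ[S] (r • (1 : A)) =
      algebraMap S (Localization.Away g) r • (1 : Localization.Away g ⊗[S] A) := by
    intro r
    rw [TensorProduct.tmul_smul, Algebra.TensorProduct.one_def, algebraMap_smul]
  obtain ⟨su, hsu⟩ := hunit s.1 ⟨s'.1 * σ.1 * σ'.1 * c₁.1 * c₂.1 * (∏ i, (c₃ i).1) * c₄.1, by
    simp only [g]; ring⟩
  obtain ⟨su', hsu'⟩ := hunit s'.1 ⟨s.1 * σ.1 * σ'.1 * c₁.1 * c₂.1 * (∏ i, (c₃ i).1) * c₄.1, by
    simp only [g]; ring⟩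
  obtain ⟨σu, hσu⟩ := hunit σ.1 ⟨s.1 * s'.1 * σ'.1 * c₁.1 * c₂.1 * (∏ i, (c₃ i).1) * c₄.1, by
    simp only [g]; ring⟩
  obtain ⟨σu', hσu'⟩ := hunit σ'.1 ⟨s.1 * s'.1 * σ.1 * c₁.1 * c₂.1 * (∏ i, (c₃ i).1) * c₄.1, by
    simp only [g]; ring⟩
  have hab' : (1 : Localization.Away g) ⊗ₜ[S] (y * y') =
      (1 : Localization.Away g) ⊗ₜ[S] ((s.1 * s'.1) • (1 : A)) :=
    InnLoc.tmul_eq_of_smul_eq S A _ c₁.1 (hunit _ ⟨s.1 * s'.1 * σ.1 * σ'.1 * c₂.1 *
      (∏ i, (c₃ i).1) * c₄.1, by simp only [g]; ring⟩) _ _ hc₁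
  have hba' : (1 : Localization.Away g) ⊗ₜ[S] (y' * y) =
      (1 : Localization.Away g) ⊗ₜ[S] ((s.1 * s'.1) • (1 : A)) :=
    InnLoc.tmul_eq_of_smul_eq S A _ c₂.1 (hunit _ ⟨s.1 * s'.1 * σ.1 * σ'.1 * c₁.1 *
      (∏ i, (c₃ i).1) * c₄.1, by simp only [g]; ring⟩) _ _ hc₂
  have h4'' : (1 : Localization.Away g) ⊗ₜ[S] (y * (∑ i, a i • e₀ i i) * (↑w⁻¹ : A) * t y) =
      (1 : Localization.Away g) ⊗ₜ[S] ((s.1 * s.1 * σ.1) • (1 : A)) :=
    InnLoc.tmul_eq_of_smul_eq S A _ c₄.1 (hunit _ ⟨s.1 * s'.1 * σ.1 * σ'.1 * c₁.1 * c₂.1 *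
      (∏ i, (c₃ i).1), by simp only [g]; ring⟩) _ _ hc₄
  have h3'' : ∀ i, algebraMap S (Localization.Away g) (a i * a' i) =
      algebraMap S (Localization.Away g) (σ.1 * σ'.1) := by
    intro i
    have hu := hunit (c₃ i).1 (Dvd.dvd.mul_right (Dvd.dvd.mul_left
      (Finset.dvd_prod_of_mem (fun i => (c₃ i).1) (Finset.mem_univ i)) _) _)
    have e1 := congrArg (algebraMap S (Localization.Away g)) (hc₃ i)
    rw [map_mul, map_mul _ (c₃ i).1] at e1
    exact hu.mul_left_cancel e1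
  refine ⟨(↑su⁻¹ : Localization.Away g) • ((1 : Localization.Away g) ⊗ₜ[S] y),
    (↑su'⁻¹ : Localization.Away g) • ((1 : Localization.Away g) ⊗ₜ[S] y'),
    fun i => ↑σu⁻¹ * algebraMap S (Localization.Away g) (a i),
    fun i => ↑σu'⁻¹ * algebraMap S (Localization.Away g) (a' i), ?_, ?_, ?_, ?_⟩
  · rw [smul_mul_smul_comm, ← hmul', hab', hone', smul_smul, map_mul, ← hsu, ← hsu']
    have : (↑su⁻¹ : Localization.Away g) * ↑su'⁻¹ * (↑su * ↑su') = 1 := by
      rw [mul_mul_mul_comm, Units.inv_mul, Units.inv_mul, one_mul]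
    rw [this, one_smul]
  · rw [smul_mul_smul_comm, ← hmul', hba', hone', smul_smul, map_mul, ← hsu, ← hsu']
    have : (↑su'⁻¹ : Localization.Away g) * ↑su⁻¹ * (↑su * ↑su') = 1 := by
      rw [mul_comm (↑su'⁻¹ : Localization.Away g), mul_mul_mul_comm, Units.inv_mul, Units.inv_mul,
        one_mul]
    rw [this, one_smul]
  · intro i
    calc (↑σu⁻¹ : Localization.Away g) * algebraMap S (Localization.Away g) (a i) *
          (↑σu'⁻¹ * algebraMap S (Localization.Away g) (a' i))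
        = ↑σu⁻¹ * ↑σu'⁻¹ * algebraMap S (Localization.Away g) (a i * a' i) := by
          rw [map_mul]; ring
      _ = 1 := by
          rw [h3'', map_mul, ← hσu, ← hσu', mul_mul_mul_comm, Units.inv_mul, Units.inv_mul, one_mul]
  · have e1 : ∑ i, (↑σu⁻¹ * algebraMap S (Localization.Away g) (a i)) •
        ((1 : Localization.Away g) ⊗ₜ[S] e₀ i i) =
        (↑σu⁻¹ : Localization.Away g) • ((1 : Localization.Away g) ⊗ₜ[S] (∑ i, a i • e₀ i i)) := by
      rw [TensorProduct.tmul_sum, Finset.smul_sum]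
      refine Finset.sum_congr rfl fun i _ => ?_
      rw [mul_smul, algebraMap_smul, TensorProduct.tmul_smul]
    rw [e1, map_smul, LamInv.bc_tmul]
    simp only [smul_mul_assoc, mul_smul_comm, smul_smul]
    rw [← hmul', ← hmul', ← hmul', h4'', hone', smul_smul, map_mul, map_mul, ← hsu, ← hσu]
    have : (↑su⁻¹ : Localization.Away g) * (↑σu⁻¹ * ↑su⁻¹) * (↑su * ↑su * ↑σu) = 1 := by
      calc (↑su⁻¹ : Localization.Away g) * (↑σu⁻¹ * ↑su⁻¹) * (↑su * ↑su * ↑σu)
          = (↑su⁻¹ * ↑su) * (↑su⁻¹ * ↑su) * (↑σu⁻¹ * ↑σu) := by ring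
        _ = 1 := by rw [Units.inv_mul, Units.inv_mul, one_mul, one_mul]
    rw [this, one_smul]

end DiagData

section Local

variable (S : Type u) (R : Type v) [CommRing S] [CommRing R] [Algebra S R]
  (lam : R ≃ₐ[S] R) (hlam : ∀ r, lam (lam r) = r)
  (hfix : RInv.IsFixedRing S R lam.toRingEquiv)
  (A : Type w) [Ring A] [Algebra S A] [Algebra R A] [IsScalarTower S R A]
  (t : LamInv R A lam) (n : ℕ) (e₀ : Fin n → Fin n → A) (w : Aˣ)

attribute [local instance] AzBC.algLC

include hlam hfix in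
theorem diagData_local (hn : 0 < n) (hA : IsAzumayaDeg R A n) (he₀ : Spread.IsMatUnits e₀)
    (hw : ∀ i j, t (e₀ i j) = ↑w * e₀ j i * ↑w⁻¹) (hwt : t (↑w : A) = ↑w)
    (T : Type u') [CommRing T] [Algebra S T] [Module.Flat S T] [IsLocalRing T]
    (hcase : (∃ a : T ⊗[S] R, (RInvB.lamBC lam T).toRingEquiv a - a ∉ Ring.jacobson (T ⊗[S] R)) ∨
      (1 : T ⊗[S] R) + 1 ∉ Ring.jacobson (T ⊗[S] R) ∨ Odd n) :
    DiagData S R lam A t n e₀ w T := by
  classical
  have hfixT := RInvB.isFixedRing_lamBC lam hfix T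
  have hlamT : Function.Involutive (RInvB.lamBC lam T).toRingEquiv :=
    fun x => RInvB.lamBC_lamBC lam hlam T x
  set E : Fin n → Fin n → T ⊗[S] A := fun i j => (1 : T) ⊗ₜ[S] e₀ i j with hE
  have hEmu : Spread.IsMatUnits E :=
    he₀.map (Algebra.TensorProduct.includeRight : A →ₐ[S] T ⊗[S] A).toRingHom
  set G := StdInv.matIso S R A T n hn hA E hEmu with hG
  let wT : (T ⊗[S] A)ˣ :=
    Units.map (Algebra.TensorProduct.includeRight : A →ₐ[S] T ⊗[S] A).toRingHom.toMonoidHom w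
  have hwT : (↑wT : T ⊗[S] A) = (1 : T) ⊗ₜ[S] (↑w : A) := rfl
  have hwT' : (↑wT⁻¹ : T ⊗[S] A) = (1 : T) ⊗ₜ[S] (↑w⁻¹ : A) := rfl
  have hwE : ∀ i j, t.bc S lam T (E i j) = ↑wT * E j i * ↑wT⁻¹ := by
    intro i j
    rw [hE, hwT, hwT', LamInv.bc_tmul, hw, Algebra.TensorProduct.tmul_mul_tmul,
      Algebra.TensorProduct.tmul_mul_tmul, one_mul, one_mul]
  have hbc := StdInv.bc_matIso S R lam A t T n hn hA E hEmu wT hwE
  set Wm : Matrix (Fin n) (Fin n) (T ⊗[S] R) := G.symm ↑wT with hWm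
  have hGW : G Wm = ↑wT := G.apply_symm_apply _
  have hWu : IsUnit Wm := (wT.isUnit).map G.symm
  have htw : t.bc S lam T (↑wT : T ⊗[S] A) = ↑wT := by
    rw [hwT, LamInv.bc_tmul, hwt]
  have hherm : Herm.ct (RInvB.lamBC lam T).toRingEquiv Wm = Wm := by
    apply G.injective
    have h1 := hbc Wm
    rw [hGW, htw] at h1
    calc G (Herm.ct (RInvB.lamBC lam T).toRingEquiv Wm)
        = ↑wT⁻¹ * (↑wT * G (Herm.ct (RInvB.lamBC lam T).toRingEquiv Wm) * ↑wT⁻¹) * ↑wT := by
          simp only [mul_assoc, Units.inv_mul_cancel_left, Units.inv_mul, mul_one]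
      _ = G Wm := by rw [← h1, Units.inv_mul, one_mul, hGW]
  obtain ⟨v, hv, dd, hD⟩ := Herm.main T (T ⊗[S] R) (RInvB.lamBC lam T).toRingEquiv hlamT hfixT n 1
    (Or.inl rfl) Wm hWu (by rw [one_smul]; exact hherm) hcase
  have hD' : Herm.ct (RInvB.lamBC lam T).toRingEquiv v * Wm * v = Matrix.diagonal dd := hD
  -- the diagonal entries are fixed
  have hddfix : ∀ i, (RInvB.lamBC lam T).toRingEquiv (dd i) = dd i := by
    have h1 : Herm.ct (RInvB.lamBC lam T).toRingEquiv (Matrix.diagonal dd) = Matrix.diagonal dd := by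
      rw [← hD', Herm.ct_mul, Herm.ct_mul, Herm.ct_ct _ hlamT, hherm, Matrix.mul_assoc]
    intro i
    have := congrFun (congrFun h1 i) i
    simpa using this
  have hDu : IsUnit (Matrix.diagonal dd) := by
    rw [← hD']
    exact ((Herm.isUnit_ct _ hv).mul hWu).mul hv
  have hddu : ∀ i, IsUnit (dd i) := by
    intro i
    rw [Matrix.isUnit_iff_isUnit_det, Matrix.det_diagonal] at hDu
    exact isUnit_of_dvd_unit (Finset.dvd_prod_of_mem dd (Finset.mem_univ i)) hDu
  have hdT : ∀ i, ∃ d : T, algebraMap T (T ⊗[S] R) d = dd i := fun i =>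
    (hfixT.2 (dd i)).mp (hddfix i)
  choose d hd using hdT
  have hd'T : ∀ i, ∃ d' : T, d i * d' = 1 := by
    intro i
    obtain ⟨x, hx⟩ := (hddu i).exists_right_inv
    have hxfix : (RInvB.lamBC lam T).toRingEquiv x = x := by
      have h1 : dd i * (RInvB.lamBC lam T).toRingEquiv x = 1 := by
        have := congrArg (RInvB.lamBC lam T).toRingEquiv hx
        rwa [map_mul, hddfix, map_one] at this
      calc (RInvB.lamBC lam T).toRingEquiv x
          = (x * dd i) * (RInvB.lamBC lam T).toRingEquiv x := by rw [mul_comm x, hx, one_mul]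
        _ = x := by rw [mul_assoc, h1, mul_one]
    obtain ⟨d', hd'⟩ := (hfixT.2 x).mp hxfix
    refine ⟨d', hfixT.1 ?_⟩
    rw [map_mul, hd, hd', hx, map_one]
  choose d' hd' using hd'T
  -- the matrix `P`
  obtain ⟨vu, hvu⟩ := hv
  obtain ⟨cu, hcu⟩ := Herm.isUnit_ct (RInvB.lamBC lam T).toRingEquiv (⟨vu, hvu⟩ : IsUnit v)
  set Pm : Matrix (Fin n) (Fin n) (T ⊗[S] R) := ↑cu⁻¹ with hPm
  set Pm' : Matrix (Fin n) (Fin n) (T ⊗[S] R) := ↑cu with hPm'
  set Vm' : Matrix (Fin n) (Fin n) (T ⊗[S] R) := ↑vu⁻¹ with hVm'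
  have hPP' : Pm * Pm' = 1 := by rw [hPm, hPm', Units.inv_mul]
  have hP'P : Pm' * Pm = 1 := by rw [hPm, hPm', Units.mul_inv]
  have hvV : v * Vm' = 1 := by rw [← hvu, hVm', Units.mul_inv]
  have hVv : Vm' * v = 1 := by rw [← hvu, hVm', Units.inv_mul]
  have hcuv : Pm' = Herm.ct (RInvB.lamBC lam T).toRingEquiv v := hcu
  have hctP : Herm.ct (RInvB.lamBC lam T).toRingEquiv Pm = Vm' := by
    have h1 : Herm.ct (RInvB.lamBC lam T).toRingEquiv Pm * v = 1 := by
      conv_lhs => rw [← Herm.ct_ct (RInvB.lamBC lam T).toRingEquiv hlamT v, ← Herm.ct_mul, ← hcuv,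
        hP'P, Herm.ct_one]
    calc Herm.ct (RInvB.lamBC lam T).toRingEquiv Pm
        = Herm.ct (RInvB.lamBC lam T).toRingEquiv Pm * (v * Vm') := by rw [hvV, mul_one]
      _ = Vm' := by rw [← mul_assoc, h1, one_mul]
  have hWP : Wm = Pm * Matrix.diagonal dd * Vm' := by
    rw [← hD', ← hcuv]
    calc Wm = (Pm * Pm') * Wm * (v * Vm') := by rw [hPP', hvV, one_mul, mul_one]
      _ = Pm * (Pm' * Wm * v) * Vm' := by simp only [mul_assoc]
  have hδ : G (Matrix.diagonal dd) = ∑ i, d i • E i i := by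
    rw [hG, StdInv.matIso_apply]
    refine Finset.sum_congr rfl fun i _ => ?_
    rw [Finset.sum_eq_single i]
    · rw [Matrix.diagonal_apply_eq, ← hd, algebraMap_smul]
    · intro j _ hj
      rw [Matrix.diagonal_apply_ne _ hj.symm, zero_smul]
    · intro hi; exact absurd (Finset.mem_univ i) hi
  refine ⟨G Pm, G Pm', d, d', ?_, ?_, hd', ?_⟩
  · rw [← map_mul, hPP', map_one]
  · rw [← map_mul, hP'P, map_one]
  · rw [← hδ, ← hwT', hbc, hctP]
    calc G Pm * G (Matrix.diagonal dd) * ↑wT⁻¹ * (↑wT * G Vm' * ↑wT⁻¹)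
        = G (Pm * Matrix.diagonal dd * Vm') * ↑wT⁻¹ := by
          rw [map_mul, map_mul]
          simp only [mul_assoc, Units.inv_mul_cancel_left]
      _ = 1 := by rw [← hWP, hGW, Units.mul_inv]

end Local

end Groth.Agent.H7.HermStd
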