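import Mathlib
import Groth.Prelude.Def_AzInv
import Groth.Prelude.Def_W4c2azumayainvolQEt
import Groth.Agent.Lib.Helper7.HermStd
import Groth.Agent.Lib.Helper7.AzSplit

/-! Involutions on Azumaya algebras of odd degree are étale-locally standard. -/

set_option autoImplicit false
open scoped TensorProduct
open AzInv

namespace Groth.Agent.H7.OddStd

universe u v w u' u''

section Sqrt

/-- units of étale algebras have square roots étale-locally. -/
def HasSqrt (S : Type u) [CommRing S] : Prop :=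
  ∀ (S₁ : Type u) [CommRing S₁] [Algebra S S₁] [Algebra.Etale S S₁] (x : S₁ˣ),
    ∃ (S₂ : Type u) (_ : CommRing S₂) (_ : Algebra S₁ S₂) (_ : Algebra.Etale S₁ S₂)
      (_ : Module.FaithfullyFlat S₁ S₂) (y : S₂), y * y = algebraMap S₁ S₂ ↑x

variable (S : Type u) [CommRing S]

theorem hasSqrt_bc (hsq : HasSqrt S) (S₁ : Type u) [CommRing S₁] [Algebra S S₁]
    [Algebra.Etale S S₁] : HasSqrt S₁ := by
  intro C _ _ _ x
  letI : Algebra S C := ((algebraMap S₁ C).comp (algebraMap S S₁)).toAlgebra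
  haveI : IsScalarTower S S₁ C := IsScalarTower.of_algebraMap_eq (fun _ => rfl)
  haveI : Algebra.Etale S C := Algebra.Etale.comp S S₁ C
  exact hsq C x

theorem exists_sqrt_family (hsq : HasSqrt S) (m : ℕ) :
    ∀ (S₁ : Type u) [CommRing S₁] [Algebra S S₁] [Algebra.Etale S S₁] (x : Fin m → S₁ˣ),
    ∃ (S₂ : Type u) (_ : CommRing S₂) (_ : Algebra S₁ S₂) (_ : Algebra.Etale S₁ S₂)
      (_ : Module.FaithfullyFlat S₁ S₂) (y : Fin m → S₂),
      ∀ i, y i * y i = algebraMap S₁ S₂ ↑(x i) := by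
  induction m with
  | zero =>
      intro S₁ _ _ _ x
      exact ⟨S₁, inferInstance, Algebra.id S₁, inferInstance, inferInstance, fun i => i.elim0,
        fun i => i.elim0⟩
  | succ m ih =>
      intro S₁ _ _ _ x
      obtain ⟨S₂, _, _, het₂, hff₂, y, hy⟩ := ih S₁ (fun i => x i.castSucc)
      letI : Algebra S S₂ := ((algebraMap S₁ S₂).comp (algebraMap S S₁)).toAlgebra
      haveI : IsScalarTower S S₁ S₂ := IsScalarTower.of_algebraMap_eq (fun _ => rfl)
      haveI : Algebra.Etale S S₂ := Algebra.Etale.comp S S₁ S₂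
      obtain ⟨S₃, _, _, het₃, hff₃, y₀, hy₀⟩ := hsq S₂ (Units.map (algebraMap S₁ S₂).toMonoidHom
        (x (Fin.last m)))
      letI : Algebra S₁ S₃ := ((algebraMap S₂ S₃).comp (algebraMap S₁ S₂)).toAlgebra
      haveI : IsScalarTower S₁ S₂ S₃ := IsScalarTower.of_algebraMap_eq (fun _ => rfl)
      haveI : Algebra.Etale S₁ S₃ := Algebra.Etale.comp S₁ S₂ S₃
      haveI : Module.FaithfullyFlat S₁ S₃ := Module.FaithfullyFlat.trans S₁ S₂ S₃
      refine ⟨S₃, inferInstance, inferInstance, inferInstance, inferInstance,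
        Fin.lastCases y₀ (fun i => algebraMap S₂ S₃ (y i)), ?_⟩
      intro i
      refine Fin.lastCases ?_ (fun j => ?_) i
      · simp only [Fin.lastCases_last]
        rw [hy₀]
        rfl
      · simp only [Fin.lastCases_castSucc]
        rw [← map_mul, hy j]
        rfl

end Sqrt

section Global

variable (S : Type u) (R : Type v) [CommRing S] [CommRing R] [Algebra S R]
  (lam : R ≃ₐ[S] R) (hlam : ∀ r, lam (lam r) = r)
  (A : Type w) [Ring A] [Algebra S A] [Algebra R A] [IsScalarTower S R A]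
  (t : LamInv R A lam) (n : ℕ)

/-- the isomorphism `M_n(R) ≃ A` attached to global matrix units. -/
noncomputable def matIso₀ (hn : 0 < n) (hA : IsAzumayaDeg R A n)
    (e : Fin n → Fin n → A) (he : Spread.IsMatUnits e) :
    Matrix (Fin n) (Fin n) R ≃ₐ[R] A :=
  haveI : IsAzumaya R A := hA.1
  haveI : Nonempty (Fin n) := ⟨⟨0, hn⟩⟩
  haveI : IsAzumaya R (Matrix (Fin n) (Fin n) R) := IsAzumaya.matrix R (Fin n)
  AlgEquiv.ofBijective (Spread.algHomOfMatUnits (L := R) e he) (by
    apply Spread.algHom_bijective_of_rankAtStalk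
    intro p
    haveI : Nontrivial R := p.nontrivial
    rw [hA.2, Module.rankAtStalk_eq_finrank_of_free]
    simp [Module.finrank_matrix, pow_two])

theorem matIso₀_apply (hn : 0 < n) (hA : IsAzumayaDeg R A n)
    (e : Fin n → Fin n → A) (he : Spread.IsMatUnits e) (M : Matrix (Fin n) (Fin n) R) :
    matIso₀ R A n hn hA e he M = ∑ i, ∑ j, M i j • e i j := rfl

theorem matIso₀_single (hn : 0 < n) (hA : IsAzumayaDeg R A n)
    (e : Fin n → Fin n → A) (he : Spread.IsMatUnits e) (i j : Fin n) (l : R) :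
    matIso₀ R A n hn hA e he (Matrix.single i j l) = l • e i j := by
  rw [matIso₀_apply, Finset.sum_eq_single i, Finset.sum_eq_single j]
  · simp
  · intro b _ hb
    simp [Matrix.single_apply, hb.symm]
  · intro h; exact absurd (Finset.mem_univ j) h
  · intro b _ hb
    apply Finset.sum_eq_zero
    intro c _
    simp [Matrix.single_apply, hb.symm]
  · intro h; exact absurd (Finset.mem_univ i) h

theorem t_matIso₀ (hn : 0 < n) (hA : IsAzumayaDeg R A n)
    (e : Fin n → Fin n → A) (he : Spread.IsMatUnits e)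
    (w : Aˣ) (hw : ∀ i j, t (e i j) = ↑w * e j i * ↑w⁻¹) (M : Matrix (Fin n) (Fin n) R) :
    t (matIso₀ R A n hn hA e he M) =
      ↑w * matIso₀ R A n hn hA e he (Herm.ct lam.toRingEquiv M) * ↑w⁻¹ := by
  rw [matIso₀_apply, matIso₀_apply]
  have hL : t (∑ i, ∑ j, M i j • e i j) = ∑ i, ∑ j, lam (M i j) • (↑w * e j i * ↑w⁻¹) := by
    rw [← LamInv.toAddMonoidHom_apply, map_sum]
    refine Finset.sum_congr rfl fun i _ => ?_
    rw [map_sum]
    refine Finset.sum_congr rfl fun j _ => ?_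
    rw [LamInv.toAddMonoidHom_apply, t.map_smul, hw]
  have hR : ↑w * (∑ i, ∑ j, Herm.ct lam.toRingEquiv M i j • e i j) * ↑w⁻¹ =
      ∑ i, ∑ j, lam (M j i) • (↑w * e i j * ↑w⁻¹) := by
    rw [Finset.mul_sum, Finset.sum_mul]
    refine Finset.sum_congr rfl fun i _ => ?_
    rw [Finset.mul_sum, Finset.sum_mul]
    refine Finset.sum_congr rfl fun j _ => ?_
    rw [Herm.ct_apply, mul_smul_comm, smul_mul_assoc]
    rfl
  rw [hL, hR, Finset.sum_comm]

include hlam in
/-- normalisation of the hermitian unit in odd degree. -/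
theorem exists_symmetric_unit (hodd : Odd n) (hA : IsAzumayaDeg R A n)
    (e : Fin n → Fin n → A) (he : Spread.IsMatUnits e)
    (w : Aˣ) (hw : ∀ i j, t (e i j) = ↑w * e j i * ↑w⁻¹) :
    ∃ w₁ : Aˣ, (∀ i j, t (e i j) = ↑w₁ * e j i * ↑w₁⁻¹) ∧ t (↑w₁ : A) = ↑w₁ := by
  have hn : 0 < n := hodd.pos
  haveI : IsAzumaya R A := hA.1
  set G := matIso₀ R A n hn hA e he with hG
  have htG : ∀ M, t (G M) = ↑w * G (Herm.ct lam.toRingEquiv M) * ↑w⁻¹ :=
    t_matIso₀ S R lam A t n hn hA e he w hw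
  have hlamI : Function.Involutive lam.toRingEquiv := fun x => hlam x
  -- `z = w⁻¹ t(w)` is central
  have htwinv : t (↑w⁻¹ : A) * t (↑w : A) = 1 := t.map_units_inv w
  have htwinv' : t (↑w : A) * t (↑w⁻¹ : A) = 1 := t.map_units_inv' w
  have hz : ∀ x : A, ((↑w⁻¹ : A) * t ↑w) * x = x * ((↑w⁻¹ : A) * t ↑w) := by
    intro x
    obtain ⟨M, rfl⟩ := G.surjective x
    have h1 : t (t (G M)) = G M := t.invol _
    rw [htG, t.map_mul, t.map_mul, htG, Herm.ct_ct _ hlamI] at h1
    -- h1 : t w⁻¹ * (w * G M * w⁻¹) * t w = G M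
    calc (↑w⁻¹ : A) * t ↑w * G M
        = (↑w⁻¹ : A) * t ↑w * (t (↑w⁻¹ : A) * (↑w * G M * ↑w⁻¹ * t ↑w)) := by rw [h1]
      _ = (↑w⁻¹ : A) * ((t ↑w * t (↑w⁻¹ : A)) * (↑w * (G M * (↑w⁻¹ * t ↑w)))) := by
          simp only [mul_assoc]
      _ = G M * ((↑w⁻¹ : A) * t ↑w) := by
          rw [htwinv', one_mul, ← mul_assoc, Units.inv_mul, one_mul]
  obtain ⟨ε, hε⟩ := LG.center_azumaya R A _ hz
  have htw : t (↑w : A) = ε • (↑w : A) := by
    have : (↑w : A) * ((↑w⁻¹ : A) * t ↑w) = t ↑w := by rw [← mul_assoc, Units.mul_inv, one_mul]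
    rw [← this, hε, Algebra.smul_def, Algebra.commutes]
  have hinj : Function.Injective (algebraMap R A) := FaithfulSMul.algebraMap_injective R A
  have hεε : lam ε * ε = 1 := by
    have h1 : t (t (↑w : A)) = ↑w := t.invol _
    rw [htw, t.map_smul, htw, smul_smul] at h1
    apply hinj
    rw [map_one]
    have h2 : algebraMap R A (lam ε * ε) * ↑w = 1 * ↑w := by
      rw [one_mul, ← Algebra.smul_def]
      exact h1
    exact w.isUnit.mul_left_injective h2
  -- the matrix `W`
  set W : Matrix (Fin n) (Fin n) R := G.symm ↑w with hW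
  have hGW : G W = ↑w := G.apply_symm_apply _
  have hWu : IsUnit W := (w.isUnit).map G.symm
  have hctW : Herm.ct lam.toRingEquiv W = ε • W := by
    apply G.injective
    have h1 := htG W
    rw [hGW, htw] at h1
    rw [map_smul, hGW]
    calc G (Herm.ct lam.toRingEquiv W)
        = (↑w⁻¹ : A) * (↑w * G (Herm.ct lam.toRingEquiv W) * ↑w⁻¹) * ↑w := by
          simp only [mul_assoc, Units.inv_mul_cancel_left, Units.inv_mul, mul_one]
      _ = ε • (↑w : A) := by
          rw [← h1, mul_smul_comm, Units.inv_mul, smul_mul_assoc, one_mul]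
  have hdet : lam W.det = ε ^ n * W.det := by
    have h1 : (Herm.ct lam.toRingEquiv W).det = lam W.det := by
      unfold Herm.ct
      rw [Matrix.det_transpose]
      exact ((lam : R →+* R).map_det W).symm
    rw [← h1, hctW, Matrix.det_smul, Fintype.card_fin]
  have hδu : IsUnit W.det := (Matrix.isUnit_iff_isUnit_det _).mp hWu
  have hεu : IsUnit ε := IsUnit.of_mul_eq_one (lam ε) (by rw [mul_comm]; exact hεε)
  obtain ⟨k, hk⟩ := hodd
  have hpow : ε ^ n = ε ^ (2 * k + 1) := congrArg (fun m => ε ^ m) hk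
  have hc₀ : lam (W.det * ε ^ k) = ε * (W.det * ε ^ k) := by
    rw [map_mul, hdet, map_pow, hpow]
    have h1 : ε ^ (2 * k + 1) * W.det * lam ε ^ k = ε ^ (k + 1) * W.det * (lam ε * ε) ^ k := by
      rw [mul_pow]; ring
    rw [h1, hεε, one_pow]
    ring
  obtain ⟨cu, hcu⟩ := hδu.mul (hεu.pow k)
  have hc : lam (↑cu⁻¹ : R) * ε = ↑cu⁻¹ := by
    have h1 : lam (↑cu⁻¹ : R) * ε * ↑cu = 1 := by
      calc lam (↑cu⁻¹ : R) * ε * ↑cu = lam (↑cu⁻¹ : R) * (ε * ↑cu) := by ring
        _ = lam (↑cu⁻¹ : R) * lam ↑cu := by rw [hcu, hc₀]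
        _ = 1 := by rw [← map_mul, Units.inv_mul, map_one]
    calc lam (↑cu⁻¹ : R) * ε = lam (↑cu⁻¹ : R) * ε * (↑cu * ↑cu⁻¹) := by
          rw [Units.mul_inv, mul_one]
      _ = ↑cu⁻¹ := by rw [← mul_assoc, h1, one_mul]
  let cA : Aˣ := Units.map (algebraMap R A).toMonoidHom cu⁻¹
  have hcA : (↑cA : A) = algebraMap R A ↑cu⁻¹ := rfl
  have hcA' : (↑cA⁻¹ : A) = algebraMap R A ↑cu := by
    have : cA⁻¹ = Units.map (algebraMap R A).toMonoidHom cu := by
      rw [← map_inv, inv_inv]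
    rw [this]
    rfl
  refine ⟨w * cA, ?_, ?_⟩
  · intro i j
    rw [hw, mul_inv_rev, Units.val_mul, Units.val_mul, hcA, hcA']
    calc (↑w : A) * e j i * ↑w⁻¹
        = ↑w * (algebraMap R A (↑cu⁻¹ * ↑cu) * e j i) * ↑w⁻¹ := by
          rw [Units.inv_mul, map_one, one_mul]
      _ = ↑w * algebraMap R A ↑cu⁻¹ * e j i * (algebraMap R A ↑cu * ↑w⁻¹) := by
          rw [map_mul, mul_assoc (algebraMap R A ↑cu⁻¹), Algebra.commutes (↑cu : R) (e j i)]
          simp only [mul_assoc]
  · rw [Units.val_mul, t.map_mul, hcA, t.map_algebraMap, htw, ← Algebra.commutes, ← Algebra.smul_def,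
      ← Algebra.smul_def, smul_smul, hc]

include hlam in
/-- symmetric global data ⟹ standard étale-locally. -/
theorem core (hfix : RInv.IsFixedRing S R lam.toRingEquiv) (hsq : HasSqrt S) (hodd : Odd n)
    (hA : IsAzumayaDeg R A n) (e₀ : Fin n → Fin n → A) (he₀ : Spread.IsMatUnits e₀) (w : Aˣ)
    (hw : ∀ i j, t (e₀ i j) = ↑w * e₀ j i * ↑w⁻¹) (hwt : t (↑w : A) = ↑w)
    (q : PrimeSpectrum S) : StdInv.StdAt S R lam A t n q := by
  have hn : 0 < n := hodd.pos
  have hloc := HermStd.diagData_local S R lam hlam hfix A t n e₀ w hn hA he₀ hw hwt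
    (Localization.AtPrime q.asIdeal) (Or.inr (Or.inr hodd))
  obtain ⟨g, hg, p, p', d, d', hD⟩ := HermStd.diagData_spread S R lam A t n e₀ w q.asIdeal hloc
  haveI : Algebra.Etale S (Localization.Away g) := Algebra.Etale.of_isLocalizationAway g
  let du : Fin n → (Localization.Away g)ˣ := fun i =>
    ⟨d i, d' i, hD.2.2.1 i, by rw [mul_comm]; exact hD.2.2.1 i⟩
  obtain ⟨S₂, _, _, het₂, hff₂, y, hy⟩ := exists_sqrt_family S hsq n (Localization.Away g) du
  letI : Algebra S S₂ := ((algebraMap (Localization.Away g) S₂).comp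
    (algebraMap S (Localization.Away g))).toAlgebra
  haveI : IsScalarTower S (Localization.Away g) S₂ := IsScalarTower.of_algebraMap_eq (fun _ => rfl)
  haveI : Algebra.Etale S S₂ := Algebra.Etale.comp S (Localization.Away g) S₂
  refine ⟨S₂, inferInstance, inferInstance, inferInstance, ?_, ?_⟩
  · have h1 : q ∈ Set.range (PrimeSpectrum.comap (algebraMap S (Localization.Away g))) := by
      rw [PrimeSpectrum.localization_away_comap_range (Localization.Away g) g]
      exact hg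
    obtain ⟨q₁, hq₁⟩ := h1
    obtain ⟨q₂, hq₂⟩ := PrimeSpectrum.comap_surjective_of_faithfullyFlat
      (A := Localization.Away g) (B := S₂) q₁
    refine ⟨q₂, ?_⟩
    rw [← hq₁, ← hq₂]
    rfl
  · let f : Localization.Away g →ₐ[S] S₂ := IsScalarTower.toAlgHom S (Localization.Away g) S₂
    exact HermStd.stdOver_of_diagDataX S R lam A t n e₀ w he₀ hw S₂ _ _ _ _
      (HermStd.diagDataX_map S R lam A t n e₀ w (Localization.Away g) S₂ f p p' d d' hD) y hy

theorem isMatUnits_t (e₀ : Fin n → Fin n → A) (he₀ : Spread.IsMatUnits e₀) :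
    Spread.IsMatUnits (fun i j => t (e₀ j i)) := by
  refine ⟨?_, ?_⟩
  · intro i j k l
    show t (e₀ j i) * t (e₀ l k) = _
    rw [← t.map_mul, he₀.1]
    split_ifs with h1 h2 h2
    · rfl
    · exact absurd h1.symm h2
    · exact absurd h2.symm h1
    · exact t.map_zero
  · show ∑ i, t (e₀ i i) = 1
    have : t (∑ i, e₀ i i) = ∑ i, t (e₀ i i) := by
      rw [← LamInv.toAddMonoidHom_apply, map_sum]
      rfl
    rw [← this, he₀.2, t.map_one]

end Global

section Split

attribute [local instance] AzBC.algLC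

variable (S : Type u) (R : Type v) [CommRing S] [CommRing R] [Algebra S R]
  (lam : R ≃ₐ[S] R) (hlam : ∀ r, lam (lam r) = r)
  (A : Type w) [Ring A] [Algebra S A] [Algebra R A] [IsScalarTower S R A]
  (t : LamInv R A lam) (n : ℕ)

include hlam in
/-- global matrix units ⟹ standard étale-locally. -/
theorem split (hfix : RInv.IsFixedRing S R lam.toRingEquiv) (hsq : HasSqrt S) (hodd : Odd n)
    (hA : IsAzumayaDeg R A n) (e₀ : Fin n → Fin n → A) (he₀ : Spread.IsMatUnits e₀)
    (q : PrimeSpectrum S) : StdInv.StdAt S R lam A t n q := by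
  have hn : 0 < n := hodd.pos
  haveI : IsAzumaya R A := hA.1
  haveI : Module.Finite R A := inferInstance
  have he' : Spread.IsMatUnits (fun i j => t (e₀ j i)) := isMatUnits_t S R lam A t n e₀ he₀
  let ψ : A ≃ₐ[R] A := (matIso₀ R A n hn hA e₀ he₀).symm.trans
    (matIso₀ R A n hn hA (fun i j => t (e₀ j i)) he')
  have hψ : ∀ i j, ψ (e₀ i j) = t (e₀ j i) := by
    intro i j
    have h1 : matIso₀ R A n hn hA e₀ he₀ (Matrix.single i j 1) = e₀ i j := by
      rw [matIso₀_single, one_smul]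
    show matIso₀ R A n hn hA (fun i j => t (e₀ j i)) he'
      ((matIso₀ R A n hn hA e₀ he₀).symm (e₀ i j)) = _
    rw [← h1, AlgEquiv.symm_apply_apply, matIso₀_single, one_smul]
  obtain ⟨u, hu⟩ := InnLoc.inner_of_local S R lam hlam hfix A (Localization.AtPrime q.asIdeal) n
    hA ψ
  obtain ⟨g, hg, u₁, hu₁⟩ := InnLoc.spread S R A q.asIdeal ψ u hu
  haveI : Algebra.Etale S (Localization.Away g) := Algebra.Etale.of_isLocalizationAway g
  have hA₁ := AzBC.isAzumayaDeg_bc S R A (Localization.Away g) n hA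
  have hlam₁ := RInvB.lamBC_lamBC lam hlam (Localization.Away g)
  have hfix₁ := RInvB.isFixedRing_lamBC lam hfix (Localization.Away g)
  have hE : Spread.IsMatUnits (fun i j => (1 : Localization.Away g) ⊗ₜ[S] e₀ i j) :=
    he₀.map (Algebra.TensorProduct.includeRight : A →ₐ[S] Localization.Away g ⊗[S] A).toRingHom
  have hEt : ∀ i j, StdInv.bcInv S R lam hlam A t (Localization.Away g)
      ((1 : Localization.Away g) ⊗ₜ[S] e₀ i j) =
      ↑u₁ * ((1 : Localization.Away g) ⊗ₜ[S] e₀ j i) * ↑u₁⁻¹ := by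
    intro i j
    rw [StdInv.bcInv_apply, LamInv.bc_tmul, ← hψ, ← InnLoc.bcAut_tmul S R A, hu₁]
  obtain ⟨w₁, hw₁, hw₁t⟩ := exists_symmetric_unit (Localization.Away g)
    (Localization.Away g ⊗[S] R) (RInvB.lamBC lam (Localization.Away g)) hlam₁
    (Localization.Away g ⊗[S] A) (StdInv.bcInv S R lam hlam A t (Localization.Away g)) n hodd hA₁
    (fun i j => (1 : Localization.Away g) ⊗ₜ[S] e₀ i j) hE u₁ hEt
  have h1 : q ∈ Set.range (PrimeSpectrum.comap (algebraMap S (Localization.Away g))) := by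
    rw [PrimeSpectrum.localization_away_comap_range (Localization.Away g) g]
    exact hg
  obtain ⟨q₁, hq₁⟩ := h1
  have h2 := core (Localization.Away g)
    (Localization.Away g ⊗[S] R) (RInvB.lamBC lam (Localization.Away g)) hlam₁
    (Localization.Away g ⊗[S] A) (StdInv.bcInv S R lam hlam A t (Localization.Away g)) n hfix₁
    (hasSqrt_bc S hsq (Localization.Away g)) hodd hA₁
    (fun i j => (1 : Localization.Away g) ⊗ₜ[S] e₀ i j) hE w₁ hw₁ hw₁t q₁
  have h3 := StdInv.StdAt_of_bc S R lam hlam A t n (Localization.Away g) q₁ h2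
  rwa [hq₁] at h3

include hlam in
/-- odd degree ⟹ standard étale-locally. -/
theorem thm (hfix : RInv.IsFixedRing S R lam.toRingEquiv) (hsq : HasSqrt S) (hodd : Odd n)
    (hA : IsAzumayaDeg R A n) (q : PrimeSpectrum S) : StdInv.StdAt S R lam A t n q := by
  have hn : 0 < n := hodd.pos
  obtain ⟨S', _, _, het, ⟨q', hq'⟩, e, he⟩ := AzSplit.LG_all S R lam hlam hfix A n hn hA q
  have hA₁ := AzBC.isAzumayaDeg_bc S R A S' n hA
  have hlam₁ := RInvB.lamBC_lamBC lam hlam S'
  have hfix₁ := RInvB.isFixedRing_lamBC lam hfix S'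
  have h2 := split S' (S' ⊗[S] R) (RInvB.lamBC lam S') hlam₁ (S' ⊗[S] A)
    (StdInv.bcInv S R lam hlam A t S') n hfix₁ (hasSqrt_bc S hsq S') hodd hA₁ e he q'
  have h3 := StdInv.StdAt_of_bc S R lam hlam A t n S' q' h2
  rwa [hq'] at h3

/-- `M_1(A) ≃ A`. -/
def mat1 : Matrix (Fin 1) (Fin 1) A ≃ₐ[R] A where
  toFun M := M 0 0
  invFun a := Matrix.of (fun _ _ => a)
  left_inv M := by
    ext i j
    fin_cases i; fin_cases j; rfl
  right_inv a := rfl
  map_mul' M N := by simp [Matrix.mul_apply]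
  map_add' M N := rfl
  commutes' r := by simp [Matrix.algebraMap_matrix_apply]

include hlam in
theorem main (hfix : RInv.IsFixedRing S R lam.toRingEquiv) (hsq : HasSqrt S) (hodd : Odd n)
    (hA : IsAzumayaDeg R A n) : SameType S lam t (LamInv.self lam hlam) := by
  have hn : 0 < n := hodd.pos
  have hA1 : IsAzumayaDeg R (Matrix (Fin 1) (Fin 1) A) n := by
    haveI : IsAzumaya R A := hA.1
    refine ⟨IsAzumaya.of_AlgEquiv R A _ (mat1 R A).symm, fun p => ?_⟩
    rw [← hA.2 p]
    exact congrFun (Module.rankAtStalk_eq_of_equiv (mat1 R A).toLinearEquiv) p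
  refine ⟨1, n, Nat.one_pos, hn, ?_⟩
  exact StdInv.locIsoEt_of_stdAt S R lam hlam (Matrix (Fin 1) (Fin 1) A) (t.matrix (Fin 1)) n hn hA1
    (fun q => thm S R lam hlam (Matrix (Fin 1) (Fin 1) A) (t.matrix (Fin 1)) n hfix hsq hodd hA1 q)

end Split

end Groth.Agent.H7.OddStd
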