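import Mathlib
import Groth.Agent.Lib.Helper7.HermBasic

/-! Hermitian congruence: functoriality, permutations, general block elimination. -/

set_option autoImplicit false

namespace Groth.Agent.H7.Herm

open Matrix

universe v v'

variable {A : Type v} [CommRing A] (lam : A ≃+* A)

section Map

variable {A' : Type v'} [CommRing A'] (lam' : A' ≃+* A') (φ : A →+* A')
  (hφ : ∀ a, φ (lam a) = lam' (φ a))

include hφ in
theorem ct_map {m n : Type*} (M : Matrix m n A) : ct lam' (M.map φ) = (ct lam M).map φ := by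
  ext i j
  simp [hφ]

include hφ in
theorem Cong.map {ι : Type*} [Fintype ι] [DecidableEq ι] {h h' : Matrix ι ι A}
    (h1 : Cong lam h h') : Cong lam' (h.map φ) (h'.map φ) := by
  obtain ⟨v, hv, rfl⟩ := h1
  refine ⟨v.map φ, ?_, ?_⟩
  · obtain ⟨u, rfl⟩ := hv
    exact ⟨⟨(↑u : Matrix ι ι A).map φ, (↑u⁻¹ : Matrix ι ι A).map φ,
      by rw [← Matrix.map_mul, Units.mul_inv, Matrix.map_one _ (map_zero φ) (map_one φ)],
      by rw [← Matrix.map_mul, Units.inv_mul, Matrix.map_one _ (map_zero φ) (map_one φ)]⟩, rfl⟩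
  · rw [ct_map lam lam' φ hφ, Matrix.map_mul, Matrix.map_mul]

end Map

section Perm

variable {ι : Type*} [Fintype ι] [DecidableEq ι]

theorem Cong.submatrix_self (h : Matrix ι ι A) (e : ι ≃ ι) : Cong lam h (h.submatrix e e) := by
  refine ⟨(1 : Matrix ι ι A).submatrix id e, ?_, ?_⟩
  · refine ⟨⟨(1 : Matrix ι ι A).submatrix id e, (1 : Matrix ι ι A).submatrix e id, ?_, ?_⟩, rfl⟩
    · rw [Matrix.submatrix_mul_equiv, Matrix.mul_one, Matrix.submatrix_id_id]
    · have := Matrix.submatrix_mul_equiv (1 : Matrix ι ι A) (1 : Matrix ι ι A) e (Equiv.refl ι) e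
      rw [Matrix.mul_one, Matrix.submatrix_one_equiv] at this
      exact this
  · rw [ct_submatrix, ct_one]
    have h1 : (1 : Matrix ι ι A).submatrix e id * h = h.submatrix e id := by
      have := Matrix.submatrix_mul_equiv (1 : Matrix ι ι A) h e (Equiv.refl ι) id
      rw [Matrix.one_mul] at this
      simpa using this
    rw [h1]
    have := Matrix.submatrix_mul_equiv h (1 : Matrix ι ι A) e (Equiv.refl ι) e
    rw [Matrix.mul_one] at this
    simpa using this

theorem Cong.symm {h h' : Matrix ι ι A} (hlam : Function.Involutive lam) (h1 : Cong lam h h') :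
    Cong lam h' h := by
  obtain ⟨v, hv, rfl⟩ := h1
  obtain ⟨u, rfl⟩ := hv
  refine ⟨↑u⁻¹, (u⁻¹).isUnit, ?_⟩
  have h2 : ct lam (↑u⁻¹ : Matrix ι ι A) * ct lam (↑u : Matrix ι ι A) = 1 := by
    rw [← ct_mul, Units.mul_inv, ct_one]
  calc ct lam (↑u⁻¹ : Matrix ι ι A) * (ct lam (↑u : Matrix ι ι A) * h * ↑u) * ↑u⁻¹
      = (ct lam (↑u⁻¹ : Matrix ι ι A) * ct lam (↑u : Matrix ι ι A)) * h * (↑u * ↑u⁻¹) := by
        simp only [Matrix.mul_assoc]
    _ = h := by rw [h2, Units.mul_inv, Matrix.one_mul, Matrix.mul_one]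

end Perm

section Block2

variable {β α : Type*} [Fintype β] [DecidableEq β] [Fintype α] [DecidableEq α]

theorem Cong.block₂ (H : Matrix β β A) {h' h'' : Matrix α α A} (h1 : Cong lam h' h'') :
    Cong lam (fromBlocks H 0 0 h') (fromBlocks H 0 0 h'') := by
  obtain ⟨v, hv, rfl⟩ := h1
  refine ⟨fromBlocks 1 0 0 v, ?_, ?_⟩
  · rw [isUnit_iff_isUnit_det, det_fromBlocks_zero₂₁, det_one, one_mul]
    exact (isUnit_iff_isUnit_det _).mp hv
  · rw [ct_fromBlocks, ct_one, ct_zero, ct_zero, fromBlocks_multiply, fromBlocks_multiply]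
    simp

theorem Cong.block₁ {H H₂ : Matrix β β A} (D : Matrix α α A) (h1 : Cong lam H H₂) :
    Cong lam (fromBlocks H 0 0 D) (fromBlocks H₂ 0 0 D) := by
  obtain ⟨v, hv, rfl⟩ := h1
  refine ⟨fromBlocks v 0 0 1, ?_, ?_⟩
  · rw [isUnit_iff_isUnit_det, det_fromBlocks_zero₂₁, det_one, mul_one]
    exact (isUnit_iff_isUnit_det _).mp hv
  · rw [ct_fromBlocks, ct_one, ct_zero, ct_zero, fromBlocks_multiply, fromBlocks_multiply]
    simp

theorem isUnit_of_isUnit_block₂ (H : Matrix β β A) (h' : Matrix α α A)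
    (hu : IsUnit (fromBlocks H 0 0 h')) : IsUnit h' := by
  rw [isUnit_iff_isUnit_det, det_fromBlocks_zero₂₁] at hu
  rw [isUnit_iff_isUnit_det]
  exact isUnit_of_mul_isUnit_right hu

theorem herm_of_herm_block₂ (ε : A) (H : Matrix β β A) (h' : Matrix α α A)
    (hh : ε • ct lam (fromBlocks H 0 0 h') = fromBlocks H 0 0 h') : ε • ct lam h' = h' := by
  rw [ct_fromBlocks, fromBlocks_smul, fromBlocks_inj] at hh
  exact hh.2.2.2

/-- block elimination with an invertible pivot block. -/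
theorem elimB (ε : A) (hεε : ε * ε = 1) (H H' : Matrix β β A) (hHH' : H * H' = 1)
    (hH'H : H' * H = 1) (B : Matrix β α A) (C : Matrix α β A) (D : Matrix α α A)
    (hG : ε • ct lam (fromBlocks H B C D) = fromBlocks H B C D) :
    Cong lam (fromBlocks H B C D) (fromBlocks H 0 0 (D - C * H' * B)) := by
  rw [ct_fromBlocks, fromBlocks_smul, fromBlocks_inj] at hG
  obtain ⟨hH, hC, hB, hD⟩ := hG
  -- `ct H' = ε • H'`
  have hctH : ct lam H = ε • H := by
    calc ct lam H = (ε * ε) • ct lam H := by rw [hεε, one_smul]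
      _ = ε • (ε • ct lam H) := by rw [smul_smul]
      _ = ε • H := by rw [hH]
  have hctH' : ct lam H' = ε • H' := by
    have h1 : ct lam H' * ct lam H = 1 := by rw [← ct_mul, hHH', ct_one]
    have e1 : ct lam H * (ε • H') = 1 := by
      rw [hctH, Matrix.smul_mul, Matrix.mul_smul, smul_smul, hεε, one_smul, hHH']
    calc ct lam H' = ct lam H' * (ct lam H * (ε • H')) := by rw [e1, Matrix.mul_one]
      _ = ε • H' := by rw [← Matrix.mul_assoc, h1, Matrix.one_mul]
  have hkey : ct lam B * ct lam H' = C * H' := by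
    rw [hctH', Matrix.mul_smul, ← Matrix.smul_mul, hB]
  refine ⟨fromBlocks 1 (-(H' * B)) 0 1, ?_, ?_⟩
  · rw [isUnit_iff_isUnit_det, det_fromBlocks_zero₂₁, det_one, det_one, one_mul]
    exact isUnit_one
  · rw [ct_fromBlocks, ct_one, ct_one, ct_zero, ct_neg, ct_mul, hkey, fromBlocks_multiply,
      fromBlocks_multiply]
    congr 1
    · simp
    · simp only [Matrix.one_mul, Matrix.zero_mul, add_zero, Matrix.mul_neg, Matrix.mul_one]
      rw [← Matrix.mul_assoc, hHH', Matrix.one_mul, neg_add_cancel]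
    · simp only [Matrix.neg_mul, Matrix.one_mul, Matrix.mul_one, Matrix.mul_zero, add_zero]
      rw [Matrix.mul_assoc, hH'H, Matrix.mul_one, neg_add_cancel]
    · simp only [Matrix.neg_mul, Matrix.one_mul, Matrix.mul_one, Matrix.mul_neg]
      rw [Matrix.mul_assoc C H' H, hH'H, Matrix.mul_one, neg_add_cancel, Matrix.zero_mul,
        neg_zero, zero_add, sub_eq_neg_add, Matrix.mul_assoc]

end Block2

section BD

variable {κ : Type*} [Fintype κ] [DecidableEq κ]

/-- index bookkeeping for a block-diagonal matrix with one more block. -/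
def bdEquiv (κ : Type*) : Fin 2 ⊕ (Fin 2 × κ) ≃ Fin 2 × (Unit ⊕ κ) where
  toFun := Sum.elim (fun x => (x, Sum.inl ())) (fun p => (p.1, Sum.inr p.2))
  invFun p := Sum.elim (fun _ => Sum.inl p.1) (fun a => Sum.inr (p.1, a)) p.2
  left_inv := by rintro (x | ⟨x, a⟩) <;> rfl
  right_inv := by rintro ⟨x, (⟨⟩ | a)⟩ <;> rfl

theorem blockDiagonal_bdEquiv (H₁ : Matrix (Fin 2) (Fin 2) A) (H : κ → Matrix (Fin 2) (Fin 2) A) :
    (blockDiagonal (Sum.elim (fun _ : Unit => H₁) H)).submatrix (bdEquiv κ) (bdEquiv κ) =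
      fromBlocks H₁ 0 0 (blockDiagonal H) := by
  ext i j
  rcases i with x | ⟨x, a⟩ <;> rcases j with y | ⟨y, b⟩
  · simp [bdEquiv, blockDiagonal_apply]
  · simp [bdEquiv, blockDiagonal_apply]
  · simp [bdEquiv, blockDiagonal_apply]
  · simp [bdEquiv, blockDiagonal_apply]

end BD

end Groth.Agent.H7.Herm
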