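import Mathlib
import Groth.Agent.Lib.Helper7.HermBlock

/-! Skew-hermitian forms: explicit normalisation of a `2 × 2` block and the algebraic induction
step. -/

set_option autoImplicit false

namespace Groth.Agent.H7.Herm

open Matrix

universe v

variable {L : Type v} [CommRing L] (lam : L ≃+* L)

/-- the standard alternating `2 × 2` matrix. -/
def J2 : Matrix (Fin 2) (Fin 2) L := !![0, 1; -1, 0]

theorem ct_fin_two (a b c d : L) : ct lam !![a, b; c, d] = !![lam a, lam c; lam b, lam d] := by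
  ext i j
  fin_cases i <;> fin_cases j <;> rfl

section TwoByTwo

variable (α δ σ σ' c h₂ : L) (hα : lam α = -α) (hδ : lam δ = -δ) (hσ' : lam σ' = σ')
  (hc : lam c = c) (hh : lam h₂ = h₂)
  (h1 : σ * σ' = 1) (h2 : σ * σ = 1 + α * δ) (h3 : c * (1 + σ) = -1) (h4 : 2 * h₂ = 1)

include hα hδ hσ' hc hh h1 h2 h3 h4 in
theorem two_by_two : Cong lam !![α, 1; -1, δ] (J2 : Matrix (Fin 2) (Fin 2) L) := by
  obtain ⟨z, hz⟩ : ∃ z, z = δ * h₂ * σ' := ⟨_, rfl⟩
  obtain ⟨p, hp⟩ : ∃ p, p = 1 + z * c * α := ⟨_, rfl⟩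
  have hlz : lam z = -z := by rw [hz, map_mul, map_mul, hδ, hh, hσ']; ring
  have hlp : lam p = p := by rw [hp, map_add, map_one, map_mul, map_mul, hlz, hc, hα]; ring
  have D1 : c * (α * δ) = 1 - σ := by linear_combination (-c) * h2 + (σ - 1) * h3
  have D2 : 2 * z = δ * σ' := by rw [hz]; linear_combination (δ * σ') * h4
  have D3 : 2 * p = 1 + σ' := by
    rw [hp]; linear_combination (c * α) * D2 + σ' * D1 - h1
  refine ⟨!![1, z * σ'; c * α, p * σ'], ?_, ?_⟩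
  · rw [isUnit_iff_isUnit_det, det_fin_two_of]
    have : 1 * (p * σ') - z * σ' * (c * α) = σ' := by rw [hp]; ring
    rw [this]
    exact IsUnit.of_mul_eq_one σ (by rw [mul_comm]; exact h1)
  · rw [ct_fin_two, map_one, map_mul, map_mul, map_mul, hlz, hσ', hc, hα, hlp, Matrix.mul_fin_two,
      Matrix.mul_fin_two, J2]
    have e11 : (1 * α + c * -α * -1) * 1 + (1 * 1 + c * -α * δ) * (c * α) = 0 := by
      linear_combination (-(c * α)) * D1 + α * h3
    have k12 : 2 * ((1 * α + c * -α * -1) * (z * σ') + (1 * 1 + c * -α * δ) * (p * σ')) = 2 := by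
      linear_combination ((α + c * α) * σ') * D2 + ((1 - c * α * δ) * σ') * D3 - σ' * D1
        - σ' ^ 2 * h2 + (σ * σ' + 2) * h1
    have e12 : (1 * α + c * -α * -1) * (z * σ') + (1 * 1 + c * -α * δ) * (p * σ') = 1 := by
      linear_combination h₂ * k12 -
        (((1 * α + c * -α * -1) * (z * σ') + (1 * 1 + c * -α * δ) * (p * σ')) - 1) * h4
    have e21 : (-z * σ' * α + p * σ' * -1) * 1 + (-z * σ' * 1 + p * σ' * δ) * (c * α) = -1 := by
      linear_combination (-1 : L) * e12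
    have k22 : 4 * ((-z * σ' * α + p * σ' * -1) * (z * σ') +
        (-z * σ' * 1 + p * σ' * δ) * (p * σ')) = 0 := by
      linear_combination (σ' ^ 2 * (δ * (2 * p + 1 + σ') - 2 * δ * σ')) * D3 +
        (σ' ^ 2 * (-2 * (2 * p) - α * (2 * z + δ * σ'))) * D2 - (σ' ^ 2 * δ * (σ * σ' + 1)) * h1 +
        (σ' ^ 2 * δ * σ' ^ 2) * h2
    have e22 : (-z * σ' * α + p * σ' * -1) * (z * σ') +
        (-z * σ' * 1 + p * σ' * δ) * (p * σ') = 0 := by
      linear_combination (h₂ * h₂) * k22 -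
        (((-z * σ' * α + p * σ' * -1) * (z * σ') + (-z * σ' * 1 + p * σ' * δ) * (p * σ')) *
          (2 * h₂ + 1)) * h4
    rw [e11, e12, e21, e22]

end TwoByTwo

section Pivot

variable {ι : Type} [Fintype ι] [DecidableEq ι]

/-- scale a unit pivot to `1`. -/
theorem scale_pivot (W : Matrix ι ι L) (i₀ j₀ : ι) (hij : i₀ ≠ j₀) (b' : L)
    (hb : W i₀ j₀ * b' = 1) : ∃ W', Cong lam W W' ∧ W' i₀ j₀ = 1 := by
  refine ⟨_, ⟨diagonal (fun k => if k = j₀ then b' else 1), ?_, rfl⟩, ?_⟩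
  · rw [isUnit_iff_isUnit_det, det_diagonal, Finset.prod_ite_eq' Finset.univ j₀ (fun _ => b')]
    simp only [Finset.mem_univ, if_true]
    exact IsUnit.of_mul_eq_one (W i₀ j₀) (by rw [mul_comm]; exact hb)
  · rw [ct_diagonal, Matrix.mul_assoc, diagonal_mul, mul_diagonal, if_neg hij, if_pos rfl, map_one,
      one_mul, hb]

/-- splitting the index set at a pair of distinct indices. -/
def pivotEquiv (i₀ j₀ : ι) (hij : i₀ ≠ j₀) : Fin 2 ⊕ {x : ι // x ≠ i₀ ∧ x ≠ j₀} ≃ ι where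
  toFun := Sum.elim ![i₀, j₀] Subtype.val
  invFun x := if h1 : x = i₀ then Sum.inl 0 else if h2 : x = j₀ then Sum.inl 1 else
    Sum.inr ⟨x, h1, h2⟩
  left_inv := by
    rintro (x | ⟨x, h1, h2⟩)
    · fin_cases x
      · simp
      · simp [hij.symm]
    · simp [h1, h2]
  right_inv := by
    intro x
    by_cases h1 : x = i₀
    · simp [h1]
    · by_cases h2 : x = j₀
      · subst h2
        simp [h1]
      · simp [h1, h2]

theorem pivotEquiv_inl0 (i₀ j₀ : ι) (hij : i₀ ≠ j₀) : pivotEquiv i₀ j₀ hij (Sum.inl 0) = i₀ := rfl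

theorem pivotEquiv_inl1 (i₀ j₀ : ι) (hij : i₀ ≠ j₀) : pivotEquiv i₀ j₀ hij (Sum.inl 1) = j₀ := rfl

theorem card_pivot (i₀ j₀ : ι) (hij : i₀ ≠ j₀) :
    Fintype.card {x : ι // x ≠ i₀ ∧ x ≠ j₀} + 2 = Fintype.card ι := by
  have := Fintype.card_congr (pivotEquiv i₀ j₀ hij)
  rw [Fintype.card_sum, Fintype.card_fin] at this
  omega

theorem skew_apply (W : Matrix ι ι L) (hskew : (-1 : L) • ct lam W = W) (i j : ι) :
    lam (W i j) = -W j i := by
  have := congrFun (congrFun hskew j) i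
  simp only [Matrix.smul_apply, ct_apply, smul_eq_mul] at this
  rw [← this]; ring

/-- the algebraic induction step: split off a standard hyperbolic plane. -/
theorem alg_step (hlam : Function.Involutive lam) (W : Matrix ι ι L) (hW : IsUnit W)
    (hskew : (-1 : L) • ct lam W = W) (i₀ j₀ : ι) (hij : i₀ ≠ j₀) (h01 : W i₀ j₀ = 1)
    (σ σ' c h₂ : L) (hσ' : lam σ' = σ') (hc : lam c = c) (hh : lam h₂ = h₂)
    (h1 : σ * σ' = 1) (h2 : σ * σ = 1 + W i₀ i₀ * W j₀ j₀) (h3 : c * (1 + σ) = -1)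
    (h4 : 2 * h₂ = 1) :
    ∃ D' : Matrix {x : ι // x ≠ i₀ ∧ x ≠ j₀} {x : ι // x ≠ i₀ ∧ x ≠ j₀} L,
      IsUnit D' ∧ (-1 : L) • ct lam D' = D' ∧
      Cong lam (W.submatrix (pivotEquiv i₀ j₀ hij) (pivotEquiv i₀ j₀ hij))
        (fromBlocks J2 0 0 D') := by
  set e₁ := pivotEquiv i₀ j₀ hij with he₁
  set W₁ := W.submatrix e₁ e₁ with hW₁
  have hW₁u : IsUnit W₁ := by
    rw [isUnit_iff_isUnit_det, hW₁, det_submatrix_equiv_self]
    exact (isUnit_iff_isUnit_det _).mp hW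
  have hskew₁ : (-1 : L) • ct lam W₁ = W₁ := by
    conv_rhs => rw [hW₁, ← hskew]
    rfl
  have hα : lam (W i₀ i₀) = -W i₀ i₀ := skew_apply lam W hskew i₀ i₀
  have hδ : lam (W j₀ j₀) = -W j₀ j₀ := skew_apply lam W hskew j₀ j₀
  have h10 : W j₀ i₀ = -1 := by
    have := skew_apply lam W hskew i₀ j₀
    rw [h01, map_one] at this
    rw [← neg_neg (W j₀ i₀), ← this]
  have hH : W₁.toBlocks₁₁ = !![W i₀ i₀, 1; -1, W j₀ j₀] := by
    ext i j
    fin_cases i <;> fin_cases j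
    · rfl
    · exact h01
    · exact h10
    · rfl
  have hdec : W₁ = fromBlocks !![W i₀ i₀, 1; -1, W j₀ j₀] W₁.toBlocks₁₂ W₁.toBlocks₂₁
      W₁.toBlocks₂₂ := by
    rw [← hH, fromBlocks_toBlocks]
  have hss : σ' * σ' * (1 + W i₀ i₀ * W j₀ j₀) = 1 := by
    rw [← h2]
    calc σ' * σ' * (σ * σ) = (σ * σ') * (σ * σ') := by ring
      _ = 1 := by rw [h1, one_mul]
  have hHH' : !![W i₀ i₀, 1; -1, W j₀ j₀] *
      !![σ' * σ' * W j₀ j₀, -(σ' * σ'); σ' * σ', σ' * σ' * W i₀ i₀] = 1 := by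
    rw [Matrix.mul_fin_two, Matrix.one_fin_two]
    have e11 : W i₀ i₀ * (σ' * σ' * W j₀ j₀) + 1 * (σ' * σ') = 1 := by linear_combination hss
    have e12 : W i₀ i₀ * -(σ' * σ') + 1 * (σ' * σ' * W i₀ i₀) = 0 := by ring
    have e21 : -1 * (σ' * σ' * W j₀ j₀) + W j₀ j₀ * (σ' * σ') = 0 := by ring
    have e22 : -1 * -(σ' * σ') + W j₀ j₀ * (σ' * σ' * W i₀ i₀) = 1 := by linear_combination hss
    rw [e11, e12, e21, e22]
  have hH'H : !![σ' * σ' * W j₀ j₀, -(σ' * σ'); σ' * σ', σ' * σ' * W i₀ i₀] *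
      !![W i₀ i₀, 1; -1, W j₀ j₀] = 1 := by
    rw [Matrix.mul_fin_two, Matrix.one_fin_two]
    have e11 : σ' * σ' * W j₀ j₀ * W i₀ i₀ + -(σ' * σ') * -1 = 1 := by linear_combination hss
    have e12 : σ' * σ' * W j₀ j₀ * 1 + -(σ' * σ') * W j₀ j₀ = 0 := by ring
    have e21 : σ' * σ' * W i₀ i₀ + σ' * σ' * W i₀ i₀ * -1 = 0 := by ring
    have e22 : σ' * σ' * 1 + σ' * σ' * W i₀ i₀ * W j₀ j₀ = 1 := by linear_combination hss
    rw [e11, e12, e21, e22]
  have hc1 := elimB lam (-1 : L) (by ring) _ _ hHH' hH'H W₁.toBlocks₁₂ W₁.toBlocks₂₁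
    W₁.toBlocks₂₂ (by rw [← hdec]; exact hskew₁)
  have hc2 := two_by_two lam (W i₀ i₀) (W j₀ j₀) σ σ' c h₂ hα hδ hσ' hc hh h1 h2 h3 h4
  have hc3 := (hc1.trans lam
    (Cong.block₁ lam (W₁.toBlocks₂₂ - W₁.toBlocks₂₁ *
      !![σ' * σ' * W j₀ j₀, -(σ' * σ'); σ' * σ', σ' * σ' * W i₀ i₀] * W₁.toBlocks₁₂) hc2))
  rw [← hdec] at hc3
  refine ⟨_, ?_, ?_, hc3⟩
  · exact isUnit_of_isUnit_block₂ _ _ (hc3.isUnit lam hW₁u)
  · exact herm_of_herm_block₂ lam (-1 : L) _ _ (hc3.herm lam hlam (-1 : L) hskew₁)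

end Pivot

end Groth.Agent.H7.Herm
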