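import Mathlib
import Groth.Prelude.Def_AzInv
import Groth.Prelude.Def_W4c2azumayainvolQEt
import Groth.Agent.Lib.Helper7.SkewAlg
import Groth.Agent.Lib.Helper7.OddStd

/-! Skew-hermitian forms at a ramified prime are étale-locally standard alternating. -/

set_option autoImplicit false
open scoped TensorProduct
open AzInv

namespace Groth.Agent.H7.SkewStd

universe u v

section Defs

variable (S : Type u) (R : Type v) [CommRing S] [CommRing R] [Algebra S R] (lam : R ≃ₐ[S] R)

/-- the inclusion `R → S' ⊗ R`. -/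
noncomputable abbrev inc (S' : Type*) [CommRing S'] [Algebra S S'] : R →+* S' ⊗[S] R :=
  (Algebra.TensorProduct.includeRight : R →ₐ[S] S' ⊗[S] R).toRingHom

theorem inc_lam (S' : Type*) [CommRing S'] [Algebra S S'] (r : R) :
    inc S R S' (lam r) = (RInvB.lamBC lam S').toRingEquiv (inc S R S' r) := rfl

/-- the standard alternating block matrix. -/
def BDJ (L : Type*) [CommRing L] (κ : Type) [DecidableEq κ] : Matrix (Fin 2 × κ) (Fin 2 × κ) L :=
  Matrix.blockDiagonal fun _ : κ => (Herm.J2 : Matrix (Fin 2) (Fin 2) L)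

theorem J2_map {L L' : Type*} [CommRing L] [CommRing L'] (φ : L →+* L') :
    (Herm.J2 : Matrix (Fin 2) (Fin 2) L).map φ = Herm.J2 := by
  ext i j
  fin_cases i <;> fin_cases j <;> simp [Herm.J2]

theorem BDJ_map {L L' : Type*} [CommRing L] [CommRing L'] (φ : L →+* L') (κ : Type)
    [DecidableEq κ] : (BDJ L κ).map φ = BDJ L' κ := by
  unfold BDJ
  rw [Matrix.blockDiagonal_map _ _ (map_zero φ)]
  congr 1
  funext _
  exact J2_map φ

variable {ι : Type} [Fintype ι] [DecidableEq ι]

/-- `W` becomes congruent to the standard alternating form on an étale neighbourhood of `q`. -/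
def SkewStdAt (W : Matrix ι ι R) (q : PrimeSpectrum S) : Prop :=
  ∃ (S' : Type u) (_ : CommRing S') (_ : Algebra S S') (_ : Algebra.Etale S S'),
    (∃ q' : PrimeSpectrum S', q'.comap (algebraMap S S') = q) ∧
    ∃ (κ : Type) (_ : Fintype κ) (_ : DecidableEq κ) (e : ι ≃ Fin 2 × κ),
      Herm.Cong (RInvB.lamBC lam S').toRingEquiv (W.map (inc S R S'))
        ((BDJ (S' ⊗[S] R) κ).submatrix e e)

theorem SkewStdAt.of_cong {W W' : Matrix ι ι R} (hc : Herm.Cong lam.toRingEquiv W W')
    (q : PrimeSpectrum S) (h : SkewStdAt S R lam W' q) : SkewStdAt S R lam W q := by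
  obtain ⟨S', _, _, het, hq', κ, _, _, e, hc'⟩ := h
  refine ⟨S', inferInstance, inferInstance, het, hq', κ, inferInstance, inferInstance, e, ?_⟩
  exact (hc.map lam.toRingEquiv (RInvB.lamBC lam S').toRingEquiv (inc S R S')
    (inc_lam S R lam S')).trans _ hc'

theorem cancel_lamBC (S₁ : Type*) [CommRing S₁] [Algebra S S₁] (S' : Type*) [CommRing S']
    [Algebra S S'] [Algebra S₁ S'] [IsScalarTower S S₁ S'] (x : S' ⊗[S₁] (S₁ ⊗[S] R)) :
    Azu.cancelNC' S S' S₁ R (RInvB.lamBC (RInvB.lamBC lam S₁) S' x) =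
      RInvB.lamBC lam S' (Azu.cancelNC' S S' S₁ R x) := by
  induction x using TensorProduct.induction_on with
  | zero => simp
  | add x y hx hy => rw [map_add, map_add, hx, hy, map_add, map_add]
  | tmul s' y =>
      induction y using TensorProduct.induction_on with
      | zero => simp
      | add x y hx hy => rw [TensorProduct.tmul_add, map_add, map_add, hx, hy, map_add, map_add]
      | tmul s₁ r =>
          rw [RInvB.lamBC_tmul, RInvB.lamBC_tmul]
          simp [Azu.cancelNC', RInvB.lamBC_tmul]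

theorem SkewStdAt.of_bc (S₁ : Type u) [CommRing S₁] [Algebra S S₁] [Algebra.Etale S S₁]
    (W : Matrix ι ι R) (q₁ : PrimeSpectrum S₁)
    (h : SkewStdAt S₁ (S₁ ⊗[S] R) (RInvB.lamBC lam S₁) (W.map (inc S R S₁)) q₁) :
    SkewStdAt S R lam W (q₁.comap (algebraMap S S₁)) := by
  obtain ⟨S', _, _, het, ⟨q', hq'⟩, κ, _, _, e, hc⟩ := h
  letI : Algebra S S' := ((algebraMap S₁ S').comp (algebraMap S S₁)).toAlgebra
  haveI : IsScalarTower S S₁ S' := IsScalarTower.of_algebraMap_eq (fun _ => rfl)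
  haveI : Algebra.Etale S S' := Algebra.Etale.comp S S₁ S'
  refine ⟨S', inferInstance, inferInstance, inferInstance, ⟨q', ?_⟩, κ, inferInstance,
    inferInstance, e, ?_⟩
  · rw [← hq']
    rfl
  · have h1 := hc.map (RInvB.lamBC (RInvB.lamBC lam S₁) S').toRingEquiv
      (RInvB.lamBC lam S').toRingEquiv
      ((Azu.cancelNC' S S' S₁ R).toRingEquiv.toRingHom)
      (fun x => cancel_lamBC S R lam S₁ S' x)
    have e1 : ((W.map (inc S R S₁)).map (inc S₁ (S₁ ⊗[S] R) S')).map
        ((Azu.cancelNC' S S' S₁ R).toRingEquiv.toRingHom) = W.map (inc S R S') := by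
      ext i j
      simp [Azu.cancelNC']
    have e2 : ((BDJ (S' ⊗[S₁] (S₁ ⊗[S] R)) κ).submatrix e e).map
        ((Azu.cancelNC' S S' S₁ R).toRingEquiv.toRingHom) =
        (BDJ (S' ⊗[S] R) κ).submatrix e e := by
      rw [← Matrix.submatrix_map, BDJ_map]
    rw [e1, e2] at h1
    exact h1

end Defs

section Ram

variable {S : Type u} {R : Type v} [CommRing S] [CommRing R] [Algebra S R] (lam : R ≃ₐ[S] R)

theorem norm_notMem (q : Ideal S) (P : Ideal R) [hPp : P.IsPrime]
    (hP : P.comap (algebraMap S R) = q) (hram : RInvB.RamP lam q) (x : R) (hx : x ∉ P) (s : S)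
    (hs : algebraMap S R s = x * lam x) : s ∉ q := by
  intro hsq
  have h1 : algebraMap S R s ∈ P := by
    rw [← hP] at hsq
    exact hsq
  rw [hs] at h1
  rcases hPp.mem_or_mem h1 with h | h
  · exact hx h
  · apply hx
    have h2 := hram P hPp hP x
    have : x = (x - lam x) + lam x := by ring
    rw [this]
    exact P.add_mem h2 h

theorem exists_inv_away (x : R) (s : S) (hs : algebraMap S R s = x * lam x) :
    ∃ b' : Localization.Away s ⊗[S] R, inc S R (Localization.Away s) x * b' = 1 := by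
  refine ⟨IsLocalization.Away.invSelf s ⊗ₜ[S] lam x, ?_⟩
  show ((1 : Localization.Away s) ⊗ₜ[S] x) * (IsLocalization.Away.invSelf s ⊗ₜ[S] lam x) = 1
  rw [Algebra.TensorProduct.tmul_mul_tmul, one_mul, ← hs, Algebra.algebraMap_eq_smul_one,
    ← TensorProduct.smul_tmul, Algebra.smul_def, IsLocalization.Away.mul_invSelf,
    Algebra.TensorProduct.one_def]

theorem anti_mem (h2 : IsUnit (2 : S)) (q : Ideal S) (P : Ideal R) [hPp : P.IsPrime]
    (hP : P.comap (algebraMap S R) = q) (hram : RInvB.RamP lam q) (x : R) (hx : lam x = -x) :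
    x ∈ P := by
  have h1 := hram P hPp hP x
  rw [hx, sub_neg_eq_add, ← two_mul] at h1
  rcases hPp.mem_or_mem h1 with h | h
  · exfalso
    have h2R : IsUnit (2 : R) := by
      have := h2.map (algebraMap S R)
      rwa [map_ofNat] at this
    exact hPp.ne_top (Ideal.eq_top_of_isUnit_mem _ h h2R)
  · exact h

end Ram

section Induction

/-- the statement proved by induction on the size. -/
def Q (N : ℕ) : Prop :=
  ∀ (S : Type u) (R : Type (max u v)) [CommRing S] [CommRing R] [Algebra S R] (lam : R ≃ₐ[S] R)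
    (_ : ∀ r, lam (lam r) = r) (_ : RInv.IsFixedRing S R lam.toRingEquiv) (_ : IsUnit (2 : S))
    (_ : OddStd.HasSqrt S) (ι : Type) [Fintype ι] [DecidableEq ι] (_ : Fintype.card ι = N)
    (W : Matrix ι ι R) (_ : IsUnit W) (_ : (-1 : R) • Herm.ct lam.toRingEquiv W = W)
    (q : PrimeSpectrum S) (_ : RInvB.RamP lam q.asIdeal), SkewStdAt S R lam W q

theorem fromBlocks_submatrix_sumCongr {L : Type*} [CommRing L] {α κ : Type*}
    (H : Matrix (Fin 2) (Fin 2) L) (X : Matrix κ κ L) (e' : α ≃ κ) :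
    (Matrix.fromBlocks H 0 0 X).submatrix (Equiv.sumCongr (Equiv.refl (Fin 2)) e')
      (Equiv.sumCongr (Equiv.refl (Fin 2)) e') = Matrix.fromBlocks H 0 0 (X.submatrix e' e') := by
  ext i j
  rcases i with i | i <;> rcases j with j | j <;> rfl

theorem step3 (N : ℕ) (IH : ∀ M < N, Q.{u, v} M)
    (S : Type u) (R : Type (max u v)) [CommRing S] [CommRing R] [Algebra S R] (lam : R ≃ₐ[S] R)
    (hlam : ∀ r, lam (lam r) = r) (hfix : RInv.IsFixedRing S R lam.toRingEquiv)
    (h2 : IsUnit (2 : S)) (hsq : OddStd.HasSqrt S) (ι : Type) [Fintype ι] [DecidableEq ι]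
    (hι : Fintype.card ι = N) (W : Matrix ι ι R) (hW : IsUnit W)
    (hskew : (-1 : R) • Herm.ct lam.toRingEquiv W = W)
    (q : PrimeSpectrum S) (hram : RInvB.RamP lam q.asIdeal)
    (i₀ j₀ : ι) (hij : i₀ ≠ j₀) (h01 : W i₀ j₀ = 1)
    (σ σ' c h₂ : S) (h1 : σ * σ' = 1) (hσ : algebraMap S R (σ * σ) = 1 + W i₀ i₀ * W j₀ j₀)
    (h3 : c * (1 + σ) = -1) (h4 : 2 * h₂ = 1) : SkewStdAt S R lam W q := by
  have hinv : ∀ s : S, lam.toRingEquiv (algebraMap S R s) = algebraMap S R s := fun s =>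
    lam.commutes s
  obtain ⟨D', hD'u, hD'skew, hc⟩ := Herm.alg_step lam.toRingEquiv (fun x => hlam x) W hW hskew
    i₀ j₀ hij h01 (algebraMap S R σ) (algebraMap S R σ') (algebraMap S R c) (algebraMap S R h₂)
    (hinv σ') (hinv c) (hinv h₂) (by rw [← map_mul, h1, map_one])
    (by rw [← map_mul, hσ]) (by rw [← map_one (algebraMap S R), ← map_add, ← map_mul, h3, map_neg])
    (by rw [← map_ofNat (algebraMap S R) 2, ← map_mul, h4, map_one])
  have hcard := Herm.card_pivot i₀ j₀ hij
  have hlt : Fintype.card {x : ι // x ≠ i₀ ∧ x ≠ j₀} < N := by omega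
  obtain ⟨S', _, _, het, hq', κ', _, _, e', hc'⟩ := IH _ hlt S R lam hlam hfix h2 hsq
    {x : ι // x ≠ i₀ ∧ x ≠ j₀} rfl D' hD'u hD'skew q hram
  refine ⟨S', inferInstance, inferInstance, het, hq', Unit ⊕ κ', inferInstance, inferInstance,
    (Herm.pivotEquiv i₀ j₀ hij).symm.trans
      ((Equiv.sumCongr (Equiv.refl (Fin 2)) e').trans (Herm.bdEquiv κ')), ?_⟩
  have c1 := hc.map lam.toRingEquiv (RInvB.lamBC lam S').toRingEquiv (inc S R S')
    (inc_lam S R lam S')
  rw [← Matrix.submatrix_map, Matrix.fromBlocks_map, J2_map, Matrix.map_zero _ (map_zero _),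
    Matrix.map_zero _ (map_zero _)] at c1
  have c2 := c1.trans _ (Herm.Cong.block₂ (RInvB.lamBC lam S').toRingEquiv
    (Herm.J2 : Matrix (Fin 2) (Fin 2) (S' ⊗[S] R)) hc')
  have c3 : Matrix.fromBlocks (Herm.J2 : Matrix (Fin 2) (Fin 2) (S' ⊗[S] R)) 0 0
      ((BDJ (S' ⊗[S] R) κ').submatrix e' e') =
      ((BDJ (S' ⊗[S] R) (Unit ⊕ κ')).submatrix (Herm.bdEquiv κ') (Herm.bdEquiv κ')).submatrix
        (Equiv.sumCongr (Equiv.refl (Fin 2)) e') (Equiv.sumCongr (Equiv.refl (Fin 2)) e') := by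
    have : (BDJ (S' ⊗[S] R) (Unit ⊕ κ')) = Matrix.blockDiagonal
        (Sum.elim (fun _ : Unit => (Herm.J2 : Matrix (Fin 2) (Fin 2) (S' ⊗[S] R)))
          (fun _ : κ' => Herm.J2)) := by
      unfold BDJ
      congr 1
      funext x
      rcases x with x | x <;> rfl
    rw [this, Herm.blockDiagonal_bdEquiv, fromBlocks_submatrix_sumCongr]
    rfl
  rw [c3] at c2
  have c4 := c2.submatrix (RInvB.lamBC lam S').toRingEquiv (Herm.pivotEquiv i₀ j₀ hij).symm
  rw [Matrix.submatrix_submatrix, Matrix.submatrix_submatrix, Matrix.submatrix_submatrix] at c4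
  simp only [Equiv.self_comp_symm, Matrix.submatrix_id_id] at c4
  exact c4

theorem isUnit_map_inc {S : Type u} {R : Type v} [CommRing S] [CommRing R] [Algebra S R]
    {ι : Type} [Fintype ι] [DecidableEq ι] (S' : Type*) [CommRing S'] [Algebra S S']
    (W : Matrix ι ι R) (hW : IsUnit W) : IsUnit (W.map (inc S R S')) := by
  have := hW.map (inc S R S').mapMatrix
  rwa [RingHom.mapMatrix_apply] at this

theorem skew_map_inc {S : Type u} {R : Type v} [CommRing S] [CommRing R] [Algebra S R]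
    (lam : R ≃ₐ[S] R) {ι : Type} [Fintype ι] [DecidableEq ι] (S' : Type*) [CommRing S']
    [Algebra S S'] (W : Matrix ι ι R) (hskew : (-1 : R) • Herm.ct lam.toRingEquiv W = W) :
    (-1 : S' ⊗[S] R) • Herm.ct (RInvB.lamBC lam S').toRingEquiv (W.map (inc S R S')) =
      W.map (inc S R S') := by
  rw [Herm.ct_map lam.toRingEquiv (RInvB.lamBC lam S').toRingEquiv (inc S R S')
    (inc_lam S R lam S')]
  conv_rhs => rw [← hskew]
  ext i j
  simp [TensorProduct.neg_tmul, TensorProduct.tmul_neg]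

theorem step2 (N : ℕ) (IH : ∀ M < N, Q.{u, v} M)
    (S : Type u) (R : Type (max u v)) [CommRing S] [CommRing R] [Algebra S R] (lam : R ≃ₐ[S] R)
    (hlam : ∀ r, lam (lam r) = r) (hfix : RInv.IsFixedRing S R lam.toRingEquiv)
    (h2 : IsUnit (2 : S)) (hsq : OddStd.HasSqrt S) (ι : Type) [Fintype ι] [DecidableEq ι]
    (hι : Fintype.card ι = N) (W : Matrix ι ι R) (hW : IsUnit W)
    (hskew : (-1 : R) • Herm.ct lam.toRingEquiv W = W)
    (q : PrimeSpectrum S) (hram : RInvB.RamP lam q.asIdeal)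
    (i₀ j₀ : ι) (hij : i₀ ≠ j₀) (h01 : W i₀ j₀ = 1) : SkewStdAt S R lam W q := by
  haveI := q.isPrime
  obtain ⟨P, hPp, hP⟩ := RInvB.exists_prime_over lam hlam hfix q.asIdeal
  have hα : lam (W i₀ i₀) = -W i₀ i₀ := Herm.skew_apply lam.toRingEquiv W hskew i₀ i₀
  have hδ : lam (W j₀ j₀) = -W j₀ j₀ := Herm.skew_apply lam.toRingEquiv W hskew j₀ j₀
  have hαP : W i₀ i₀ ∈ P := anti_mem lam h2 q.asIdeal P hP hram _ hα
  have hinv : lam.toRingEquiv (1 + W i₀ i₀ * W j₀ j₀) = 1 + W i₀ i₀ * W j₀ j₀ := by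
    show lam (1 + W i₀ i₀ * W j₀ j₀) = _
    rw [map_add, map_one, map_mul, hα, hδ]; ring
  obtain ⟨ŝ, hŝ⟩ := (hfix.2 _).mp hinv
  have hŝq : ŝ ∉ q.asIdeal := by
    intro hmem
    have h1 : algebraMap S R ŝ ∈ P := by
      rw [← hP] at hmem
      exact hmem
    rw [hŝ] at h1
    apply hPp.ne_top
    rw [Ideal.eq_top_iff_one]
    have : (1 : R) = (1 + W i₀ i₀ * W j₀ j₀) - W i₀ i₀ * W j₀ j₀ := by ring
    rw [this]
    exact P.sub_mem h1 (P.mul_mem_right _ hαP)
  -- the tower of étale extensions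
  haveI : Algebra.Etale S (Localization.Away ŝ) := Algebra.Etale.of_isLocalizationAway ŝ
  have h1 : q ∈ Set.range (PrimeSpectrum.comap (algebraMap S (Localization.Away ŝ))) := by
    rw [PrimeSpectrum.localization_away_comap_range (Localization.Away ŝ) ŝ]
    exact hŝq
  obtain ⟨q₂, hq₂⟩ := h1
  obtain ⟨S₃, _, _, het₃, hff₃, y, hy⟩ := hsq (Localization.Away ŝ)
    (IsLocalization.Away.algebraMap_isUnit ŝ).unit
  letI : Algebra S S₃ := ((algebraMap (Localization.Away ŝ) S₃).comp
    (algebraMap S (Localization.Away ŝ))).toAlgebra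
  haveI : IsScalarTower S (Localization.Away ŝ) S₃ := IsScalarTower.of_algebraMap_eq (fun _ => rfl)
  haveI : Algebra.Etale S S₃ := Algebra.Etale.comp S (Localization.Away ŝ) S₃
  obtain ⟨q₃, hq₃⟩ := PrimeSpectrum.comap_surjective_of_faithfullyFlat
    (A := Localization.Away ŝ) (B := S₃) q₂
  have h2S₃ : IsUnit (2 : S₃) := by
    have := h2.map (algebraMap S S₃)
    rwa [map_ofNat] at this
  have hyy : y * y = algebraMap S S₃ ŝ := by
    rw [hy]
    rfl
  obtain ⟨y', hy'2, hy'q⟩ : ∃ y' : S₃, y' * y' = algebraMap S S₃ ŝ ∧ 1 + y' ∉ q₃.asIdeal := by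
    by_cases hy1 : 1 + y ∈ q₃.asIdeal
    · refine ⟨-y, by rw [neg_mul_neg, hyy], ?_⟩
      intro hy2
      apply q₃.isPrime.ne_top
      have : (2 : S₃) = (1 + y) + (1 + -y) := by ring
      exact Ideal.eq_top_of_isUnit_mem _ (this ▸ q₃.asIdeal.add_mem hy1 hy2) h2S₃
    · exact ⟨y, hyy, hy1⟩
  haveI : Algebra.Etale S₃ (Localization.Away (1 + y')) :=
    Algebra.Etale.of_isLocalizationAway (1 + y')
  haveI : Algebra.Etale S (Localization.Away (1 + y')) :=
    Algebra.Etale.comp S S₃ (Localization.Away (1 + y'))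
  have h3 : q₃ ∈ Set.range (PrimeSpectrum.comap (algebraMap S₃ (Localization.Away (1 + y')))) := by
    rw [PrimeSpectrum.localization_away_comap_range (Localization.Away (1 + y')) (1 + y')]
    exact hy'q
  obtain ⟨q₄, hq₄⟩ := h3
  have hq₄q : q₄.comap (algebraMap S (Localization.Away (1 + y'))) = q := by
    rw [← hq₂, ← hq₃, ← hq₄, IsScalarTower.algebraMap_eq S S₃ (Localization.Away (1 + y'))]
    rfl
  rw [← hq₄q]
  apply SkewStdAt.of_bc S R lam (Localization.Away (1 + y')) W q₄
  -- the data over `S₄`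
  have hσσ : algebraMap S₃ (Localization.Away (1 + y')) y' *
      algebraMap S₃ (Localization.Away (1 + y')) y' =
      algebraMap S (Localization.Away (1 + y')) ŝ := by
    rw [← map_mul, hy'2]
    exact (IsScalarTower.algebraMap_apply S S₃ (Localization.Away (1 + y')) ŝ).symm
  have hŝu : IsUnit (algebraMap S (Localization.Away (1 + y')) ŝ) := by
    have h := (IsLocalization.Away.algebraMap_isUnit (S := Localization.Away ŝ) ŝ).map
      (algebraMap (Localization.Away ŝ) S₃)
    have h' := h.map (algebraMap S₃ (Localization.Away (1 + y')))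
    rw [IsScalarTower.algebraMap_apply S S₃ (Localization.Away (1 + y'))]
    exact h'
  have hσu : IsUnit (algebraMap S₃ (Localization.Away (1 + y')) y') := by
    apply isUnit_of_mul_isUnit_left (y := algebraMap S₃ (Localization.Away (1 + y')) y')
    rw [hσσ]
    exact hŝu
  obtain ⟨σ', hσ'⟩ := hσu.exists_right_inv
  have h1σu : IsUnit (1 + algebraMap S₃ (Localization.Away (1 + y')) y') := by
    have := IsLocalization.Away.algebraMap_isUnit (S := Localization.Away (1 + y')) (1 + y')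
    rwa [map_add, map_one] at this
  obtain ⟨c₀, hc₀⟩ := h1σu.exists_right_inv
  have h2S₄ : IsUnit (2 : Localization.Away (1 + y')) := by
    have := h2.map (algebraMap S (Localization.Away (1 + y')))
    rwa [map_ofNat] at this
  obtain ⟨h₂, hh₂⟩ := h2S₄.exists_right_inv
  refine step3 N IH (Localization.Away (1 + y')) (Localization.Away (1 + y') ⊗[S] R)
    (RInvB.lamBC lam (Localization.Away (1 + y')))
    (RInvB.lamBC_lamBC lam hlam (Localization.Away (1 + y')))
    (RInvB.isFixedRing_lamBC lam hfix (Localization.Away (1 + y'))) h2S₄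
    (OddStd.hasSqrt_bc S hsq (Localization.Away (1 + y'))) ι hι
    (W.map (inc S R (Localization.Away (1 + y'))))
    (isUnit_map_inc (Localization.Away (1 + y')) W hW)
    (skew_map_inc lam (Localization.Away (1 + y')) W hskew) q₄
    (RInvB.ramP_lamBC lam (Localization.Away (1 + y')) q.asIdeal hram q₄.asIdeal
      (congrArg PrimeSpectrum.asIdeal hq₄q))
    i₀ j₀ hij (by rw [Matrix.map_apply, h01, map_one])
    (algebraMap S₃ (Localization.Away (1 + y')) y') σ' (-c₀) h₂ hσ' ?_
    (by rw [neg_mul, mul_comm, hc₀]) hh₂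
  rw [hσσ, Matrix.map_apply, Matrix.map_apply, ← map_mul, ← map_one (inc S R _), ← map_add, ← hŝ]
  show algebraMap (Localization.Away (1 + y')) (Localization.Away (1 + y') ⊗[S] R)
    (algebraMap S (Localization.Away (1 + y')) ŝ) = (1 : Localization.Away (1 + y')) ⊗ₜ[S]
      algebraMap S R ŝ
  rw [Algebra.TensorProduct.algebraMap_apply, Algebra.algebraMap_self, RingHom.id_apply,
    Algebra.algebraMap_eq_smul_one (A := Localization.Away (1 + y')) ŝ,
    Algebra.algebraMap_eq_smul_one (A := R) ŝ, TensorProduct.smul_tmul]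

theorem step1 (N : ℕ) (IH : ∀ M < N, Q.{u, v} M) : Q.{u, v} N := by
  intro S R _ _ _ lam hlam hfix h2 hsq ι _ _ hι W hW hskew q hram
  by_cases hempty : IsEmpty ι
  · refine ⟨S, inferInstance, inferInstance, inferInstance, ⟨q, ?_⟩, PEmpty, inferInstance,
      inferInstance, Equiv.equivOfIsEmpty _ _, ⟨1, isUnit_one, ?_⟩⟩
    · rw [Algebra.algebraMap_self]
      rfl
    · ext i
      exact isEmptyElim i
  rw [not_isEmpty_iff] at hempty
  obtain ⟨i₀⟩ := hempty
  haveI := q.isPrime
  obtain ⟨P, hPp, hP⟩ := RInvB.exists_prime_over lam hlam hfix q.asIdeal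
  -- a pivot
  have hpiv : ∃ j₀, W i₀ j₀ ∉ P := by
    by_contra hcon
    push Not at hcon
    obtain ⟨V, hV⟩ := hW.exists_right_inv
    have h1 : (W * V) i₀ i₀ = 1 := by rw [hV, Matrix.one_apply_eq]
    rw [Matrix.mul_apply] at h1
    apply hPp.ne_top
    rw [Ideal.eq_top_iff_one, ← h1]
    exact P.sum_mem fun j _ => P.mul_mem_right _ (hcon j)
  obtain ⟨j₀, hj₀⟩ := hpiv
  have hij : i₀ ≠ j₀ := by
    intro h
    apply hj₀
    rw [← h]
    exact anti_mem lam h2 q.asIdeal P hP hram _ (Herm.skew_apply lam.toRingEquiv W hskew i₀ i₀)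
  obtain ⟨s, hs⟩ := RInvB.exists_nm lam hlam hfix (W i₀ j₀)
  have hsq' : s ∉ q.asIdeal := norm_notMem lam q.asIdeal P hP hram _ hj₀ s hs
  haveI : Algebra.Etale S (Localization.Away s) := Algebra.Etale.of_isLocalizationAway s
  have h1 : q ∈ Set.range (PrimeSpectrum.comap (algebraMap S (Localization.Away s))) := by
    rw [PrimeSpectrum.localization_away_comap_range (Localization.Away s) s]
    exact hsq'
  obtain ⟨q₁, hq₁⟩ := h1
  rw [← hq₁]
  apply SkewStdAt.of_bc S R lam (Localization.Away s) W q₁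
  obtain ⟨b', hb'⟩ := exists_inv_away lam (W i₀ j₀) s hs
  have hW₁u := isUnit_map_inc (S := S) (Localization.Away s) W hW
  have hW₁s := skew_map_inc lam (Localization.Away s) W hskew
  obtain ⟨W', hc, hW'⟩ := Herm.scale_pivot (RInvB.lamBC lam (Localization.Away s)).toRingEquiv
    (W.map (inc S R (Localization.Away s))) i₀ j₀ hij b' (by rw [Matrix.map_apply]; exact hb')
  apply SkewStdAt.of_cong _ _ _ hc
  exact step2 N IH (Localization.Away s) (Localization.Away s ⊗[S] R)
    (RInvB.lamBC lam (Localization.Away s)) (RInvB.lamBC_lamBC lam hlam (Localization.Away s))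
    (RInvB.isFixedRing_lamBC lam hfix (Localization.Away s))
    (by have := h2.map (algebraMap S (Localization.Away s)); rwa [map_ofNat] at this)
    (OddStd.hasSqrt_bc S hsq (Localization.Away s)) ι hι W' (hc.isUnit _ hW₁u)
    (hc.herm _ (fun x => RInvB.lamBC_lamBC lam hlam (Localization.Away s) x) _ hW₁s) q₁
    (RInvB.ramP_lamBC lam (Localization.Away s) q.asIdeal hram q₁.asIdeal
      (congrArg PrimeSpectrum.asIdeal hq₁)) i₀ j₀ hij hW'

theorem main (N : ℕ) : Q.{u, v} N := by
  induction N using Nat.strong_induction_on with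
  | _ N ih => exact step1 N ih

end Induction

end Groth.Agent.H7.SkewStd
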