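import Mathlib
import Groth.Prelude.Def_AzInv
import Groth.Prelude.Def_W4c2azumayainvolQEt
import Groth.Agent.Lib.Helper7.SkewStd
import Groth.Agent.Lib.Helper7.StdP

/-! From a skew-hermitian unit to symplectic standard matrix units. -/

set_option autoImplicit false
open scoped TensorProduct
open AzInv

namespace Groth.Agent.H7.SympStd

universe u v w

attribute [local instance] AzBC.algLC

section Sig

/-- the permutation of the symplectic signature. -/
def flip (κ : Type) : Fin 2 × κ → Fin 2 × κ := fun p => (Fin.rev p.1, p.2)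

/-- the signs of the symplectic signature. -/
def sgJ (κ : Type) : Fin 2 × κ → ℤ := fun p => if p.1 = 0 then 1 else -1

theorem flip_flip (κ : Type) (p : Fin 2 × κ) : flip κ (flip κ p) = p := by
  unfold flip
  simp

theorem sgJ_flip (κ : Type) (p : Fin 2 × κ) : sgJ κ (flip κ p) = -1 * sgJ κ p := by
  obtain ⟨x, a⟩ := p
  fin_cases x <;> simp [sgJ, flip, Fin.rev]

theorem sgJ_mul_self (κ : Type) (p : Fin 2 × κ) : sgJ κ p * sgJ κ p = 1 := by
  unfold sgJ
  split_ifs <;> simp

theorem BDJ_apply {L : Type*} [CommRing L] (κ : Type) [DecidableEq κ] (p q : Fin 2 × κ) :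
    SkewStd.BDJ L κ p q = if q = flip κ p then ((sgJ κ p : ℤ) : L) else 0 := by
  obtain ⟨x, a⟩ := p
  obtain ⟨y, b⟩ := q
  unfold SkewStd.BDJ
  rw [Matrix.blockDiagonal_apply]
  by_cases hab : a = b
  · subst hab
    fin_cases x <;> fin_cases y <;> simp [Herm.J2, flip, sgJ, Fin.rev]
  · rw [if_neg hab, if_neg]
    intro h
    apply hab
    have := congrArg Prod.snd h
    exact this.symm

end Sig

section Core

variable (S : Type u) (R : Type (max u v)) [CommRing S] [CommRing R] [Algebra S R]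
  (lam : R ≃ₐ[S] R) (hlam : ∀ r, lam (lam r) = r) (hfix : RInv.IsFixedRing S R lam.toRingEquiv)
  (A : Type w) [Ring A] [Algebra S A] [Algebra R A] [IsScalarTower S R A]
  (t : LamInv R A lam) (n : ℕ)

theorem inc_smul (S' : Type*) [CommRing S'] [Algebra S S'] (r : R) (a : A) :
    (SkewStd.inc S R S' r) • ((1 : S') ⊗ₜ[S] a) = (1 : S') ⊗ₜ[S] (r • a) := by
  rw [Algebra.smul_def, AzBC.algebraMap_LC]
  show AzBC.iotaL S R A S' ((1 : S') ⊗ₜ[S] r) * _ = _
  rw [AzBC.iotaL_tmul, Algebra.TensorProduct.tmul_mul_tmul, one_mul, ← Algebra.smul_def]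

include hlam hfix in
theorem coreK (h2 : IsUnit (2 : S)) (hsq : OddStd.HasSqrt S) (hn : 0 < n)
    (hA : IsAzumayaDeg R A n) (e₀ : Fin n → Fin n → A) (he₀ : Spread.IsMatUnits e₀) (w : Aˣ)
    (hw : ∀ i j, t (e₀ i j) = ↑w * e₀ j i * ↑w⁻¹) (hwt : t (↑w : A) = -↑w)
    (q : PrimeSpectrum S) (hram : RInvB.RamP lam q.asIdeal) :
    ∃ (κ : Type) (_ : Fintype κ) (_ : DecidableEq κ), 2 * Fintype.card κ = n ∧
      StdP.StdAtP S R lam A t (flip κ) (sgJ κ) q := by
  classical
  set G₀ := OddStd.matIso₀ R A n hn hA e₀ he₀ with hG₀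
  have htG : ∀ M, t (G₀ M) = ↑w * G₀ (Herm.ct lam.toRingEquiv M) * ↑w⁻¹ :=
    OddStd.t_matIso₀ S R lam A t n hn hA e₀ he₀ w hw
  set W : Matrix (Fin n) (Fin n) R := G₀.symm ↑w with hW
  have hGW : G₀ W = ↑w := G₀.apply_symm_apply _
  have hWu : IsUnit W := (w.isUnit).map G₀.symm
  have hskew : (-1 : R) • Herm.ct lam.toRingEquiv W = W := by
    have h1 := htG W
    rw [hGW, hwt] at h1
    have h3 : G₀ (Herm.ct lam.toRingEquiv W) = -↑w := by
      calc G₀ (Herm.ct lam.toRingEquiv W)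
          = (↑w⁻¹ : A) * (↑w * G₀ (Herm.ct lam.toRingEquiv W) * ↑w⁻¹) * ↑w := by
            simp only [mul_assoc, Units.inv_mul_cancel_left, Units.inv_mul, mul_one]
        _ = -↑w := by rw [← h1, mul_neg, Units.inv_mul, neg_mul, one_mul]
    have h4 : Herm.ct lam.toRingEquiv W = -W := by
      apply G₀.injective
      rw [h3, map_neg, hGW]
    rw [h4, neg_smul, one_smul, neg_neg]
  obtain ⟨S', _, _, het, hq', κ, _, _, e, V, hVu, hV⟩ :=
    SkewStd.main.{u, v} n S R lam hlam hfix h2 hsq (Fin n) (Fintype.card_fin n) W hWu hskew q hram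
  refine ⟨κ, inferInstance, inferInstance, ?_, S', inferInstance, inferInstance, het, hq', ?_⟩
  · have := Fintype.card_congr e
    rw [Fintype.card_fin, Fintype.card_prod, Fintype.card_fin] at this
    exact this.symm
  -- data over `S'`
  have hlamI : Function.Involutive (RInvB.lamBC lam S').toRingEquiv :=
    fun x => RInvB.lamBC_lamBC lam hlam S' x
  set E : Fin n → Fin n → S' ⊗[S] A := fun i j => (1 : S') ⊗ₜ[S] e₀ i j with hE
  have hEmu : Spread.IsMatUnits E :=
    he₀.map (Algebra.TensorProduct.includeRight : A →ₐ[S] S' ⊗[S] A).toRingHom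
  let wS : (S' ⊗[S] A)ˣ :=
    Units.map (Algebra.TensorProduct.includeRight : A →ₐ[S] S' ⊗[S] A).toRingHom.toMonoidHom w
  have hwS : (↑wS : S' ⊗[S] A) = (1 : S') ⊗ₜ[S] (↑w : A) := rfl
  have hwS' : (↑wS⁻¹ : S' ⊗[S] A) = (1 : S') ⊗ₜ[S] (↑w⁻¹ : A) := rfl
  have hEt : ∀ i j, t.bc S lam S' (E i j) = ↑wS * E j i * ↑wS⁻¹ := by
    intro i j
    rw [hE, hwS, hwS', LamInv.bc_tmul, hw, Algebra.TensorProduct.tmul_mul_tmul,
      Algebra.TensorProduct.tmul_mul_tmul, one_mul, one_mul]
  set G := StdInv.matIso S R A S' n hn hA E hEmu with hG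
  have hbc := StdInv.bc_matIso S R lam A t S' n hn hA E hEmu wS hEt
  have hGW' : G (W.map (SkewStd.inc S R S')) = ↑wS := by
    rw [hG, StdInv.matIso_apply, hwS, ← hGW, hG₀, OddStd.matIso₀_apply, TensorProduct.tmul_sum]
    refine Finset.sum_congr rfl fun i _ => ?_
    rw [TensorProduct.tmul_sum]
    refine Finset.sum_congr rfl fun j _ => ?_
    rw [Matrix.map_apply, hE]
    exact inc_smul S R A S' (W i j) (e₀ i j)
  obtain ⟨vu, hvu⟩ := hVu
  set V' : Matrix (Fin n) (Fin n) (S' ⊗[S] R) := ↑vu⁻¹ with hV'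
  have hVV' : V * V' = 1 := by rw [← hvu, hV', Units.mul_inv]
  have hV'V : V' * V = 1 := by rw [← hvu, hV', Units.inv_mul]
  -- reindexed matrix units
  have he₁ : StdP.IsMU (fun p q : Fin 2 × κ => E (e.symm p) (e.symm q)) :=
    StdP.IsMU.reindex e.symm ((StdP.isMU_fin E).mpr hEmu)
  have hΩ : ∑ p, sgJ κ p • E (e.symm p) (e.symm (flip κ p)) =
      G ((SkewStd.BDJ (S' ⊗[S] R) κ).submatrix e e) := by
    rw [hG, StdInv.matIso_apply]
    have h1 : ∀ i, ∑ j, ((SkewStd.BDJ (S' ⊗[S] R) κ).submatrix e e) i j • E i j =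
        sgJ κ (e i) • E i (e.symm (flip κ (e i))) := by
      intro i
      rw [Finset.sum_eq_single (e.symm (flip κ (e i)))]
      · rw [Matrix.submatrix_apply, BDJ_apply, Equiv.apply_symm_apply, if_pos rfl,
          Int.cast_smul_eq_zsmul]
      · intro j _ hj
        rw [Matrix.submatrix_apply, BDJ_apply, if_neg, zero_smul]
        intro h
        apply hj
        rw [← h, Equiv.symm_apply_apply]
      · intro h; exact absurd (Finset.mem_univ _) h
    simp only [h1]
    rw [← Equiv.sum_comp e]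
    refine Finset.sum_congr rfl fun i _ => ?_
    rw [Equiv.symm_apply_apply]
  apply StdP.stdOverP_of_unit S R lam hlam A t (flip κ) (sgJ κ) S'
    (fun p q : Fin 2 × κ => E (e.symm p) (e.symm q)) he₁ ↑wS ↑wS⁻¹ (Units.mul_inv wS)
    (fun p q => hEt _ _) (flip_flip κ) (-1) (sgJ_flip κ) (sgJ_mul_self κ) (by norm_num)
    (G (Herm.ct (RInvB.lamBC lam S').toRingEquiv V'))
    (G (Herm.ct (RInvB.lamBC lam S').toRingEquiv V))
  · rw [← map_mul, ← Herm.ct_mul, hVV', Herm.ct_one, map_one]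
  · rw [← map_mul, ← Herm.ct_mul, hV'V, Herm.ct_one, map_one]
  · rw [hΩ, ← hV, hbc, Herm.ct_ct _ hlamI]
    calc G (Herm.ct (RInvB.lamBC lam S').toRingEquiv V') *
          G (Herm.ct (RInvB.lamBC lam S').toRingEquiv V * W.map (SkewStd.inc S R S') * V) *
          ↑wS⁻¹ * (↑wS * G V' * ↑wS⁻¹)
        = G ((Herm.ct (RInvB.lamBC lam S').toRingEquiv V' *
            Herm.ct (RInvB.lamBC lam S').toRingEquiv V) * W.map (SkewStd.inc S R S') *
            (V * V')) * ↑wS⁻¹ := by
          simp only [map_mul, mul_assoc, Units.inv_mul_cancel_left]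
      _ = 1 := by
          rw [← Herm.ct_mul, hVV', Herm.ct_one, Matrix.one_mul, Matrix.mul_one, hGW',
            Units.mul_inv]

end Core

end Groth.Agent.H7.SympStd
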