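import Mathlib
import Groth.Prelude.Def_AzInv
import Groth.Prelude.Def_W4c2azumayainvolQEt
import Groth.Agent.Lib.Helper7.StdP
import Groth.Agent.Lib.Helper7.SympStd
import Groth.Agent.Lib.Helper7.Azu9

/-! Matrix algebras over an Azumaya algebra with involution: degree, amplification of normal
forms, reindexing. -/

set_option autoImplicit false
open scoped TensorProduct
open AzInv

namespace Groth.Agent.H7.Ampl

universe u v w u'

section Deg

variable (R : Type v) [CommRing R] (A : Type w) [Ring A] [Algebra R A]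

theorem isAzumayaDeg_matrix (m n : ℕ) (hm : 0 < m) (hA : IsAzumayaDeg R A n) :
    IsAzumayaDeg R (Matrix (Fin m) (Fin m) A) (m * n) := by
  haveI : IsAzumaya R A := hA.1
  haveI : Nonempty (Fin m) := ⟨⟨0, hm⟩⟩
  haveI : IsAzumaya R (Matrix (Fin m) (Fin m) R) := IsAzumaya.matrix R (Fin m)
  haveI : IsAzumaya R (A ⊗[R] Matrix (Fin m) (Fin m) R) := Azu.isAzumaya_tensor R A _
  refine ⟨IsAzumaya.of_AlgEquiv R _ _ (matrixEquivTensor (Fin m) R A).symm, fun p => ?_⟩
  haveI : Nontrivial R := p.nontrivial
  have h1 := congrFun (Module.rankAtStalk_eq_of_equiv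
    (matrixEquivTensor (Fin m) R A).toLinearEquiv) p
  rw [h1, Module.rankAtStalk_tensorProduct, Pi.mul_apply, hA.2,
    Module.rankAtStalk_eq_finrank_of_free]
  simp [Module.finrank_matrix, pow_two]
  ring

end Deg

section Amp

variable (S : Type u) (R : Type v) [CommRing S] [CommRing R] [Algebra S R]
  (lam : R ≃ₐ[S] R)
  (A : Type w) [Ring A] [Algebra S A] [Algebra R A] [IsScalarTower S R A]
  (t : LamInv R A lam)
  (C : Type u') [CommRing C] [Algebra S C]
  {μ : Type} [Fintype μ] [DecidableEq μ]

/-- the base change of the inclusion of `A` at position `(a, b)` of the matrix algebra. -/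
noncomputable def E (a b : μ) : C ⊗[S] A →ₗ[C] C ⊗[S] Matrix μ μ A :=
  LinearMap.baseChange C (Matrix.singleLinearMap S a b)

theorem E_tmul (a b : μ) (c : C) (x : A) :
    E S A C a b (c ⊗ₜ[S] x) = c ⊗ₜ[S] Matrix.single a b x := rfl

theorem E_mul (a b c d : μ) (x y : C ⊗[S] A) :
    E S A C a b x * E S A C c d y = if b = c then E S A C a d (x * y) else 0 := by
  induction x using TensorProduct.induction_on with
  | zero => simp
  | add x x' hx hx' =>
      rw [map_add, add_mul, hx, hx', add_mul]
      split_ifs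
      · rw [map_add]
      · rw [add_zero]
  | tmul s x =>
      induction y using TensorProduct.induction_on with
      | zero => simp
      | add y y' hy hy' =>
          rw [map_add, mul_add, hy, hy', mul_add]
          split_ifs
          · rw [map_add]
          · rw [add_zero]
      | tmul s' y =>
          rw [E_tmul, E_tmul, Algebra.TensorProduct.tmul_mul_tmul,
            Algebra.TensorProduct.tmul_mul_tmul]
          split_ifs with h
          · subst h
            rw [E_tmul, Matrix.single_mul_single_same]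
          · rw [Matrix.single_mul_single_of_ne (c := x) a b c h y, TensorProduct.tmul_zero]

theorem sum_E_one : ∑ a : μ, E S A C a a (1 : C ⊗[S] A) = 1 := by
  simp only [Algebra.TensorProduct.one_def, E_tmul]
  rw [← TensorProduct.tmul_sum]
  congr 1
  ext i j
  rw [Matrix.sum_apply, Matrix.one_apply]
  simp only [Matrix.single_apply]
  split_ifs with h
  · subst h
    simp
  · apply Finset.sum_eq_zero
    intro c _
    rw [if_neg]
    rintro ⟨rfl, rfl⟩
    exact h rfl

theorem E_bc (a b : μ) (x : C ⊗[S] A) :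
    (t.matrix μ).bc S lam C (E S A C a b x) = E S A C b a (t.bc S lam C x) := by
  induction x using TensorProduct.induction_on with
  | zero => simp
  | add x y hx hy => rw [map_add, map_add, hx, hy, map_add, map_add]
  | tmul s x =>
      rw [E_tmul, LamInv.bc_tmul, LamInv.bc_tmul, E_tmul]
      congr 1
      ext i j
      simp only [LamInv.matrix_apply, Matrix.single_apply]
      split_ifs with h1 h2 h2
      · rfl
      · exact absurd ⟨h1.2, h1.1⟩ h2
      · exact absurd ⟨h2.2, h2.1⟩ h1
      · exact t.map_zero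

variable {ι : Type} [Fintype ι] [DecidableEq ι] (π : ι → ι) (sg : ι → ℤ)

/-- amplification of a normal form to the matrix algebra. -/
theorem stdOverP_matrix (h : StdP.StdOverP S R lam A t π sg C) :
    StdP.StdOverP S R lam (Matrix μ μ A) (t.matrix μ) (ι := μ × ι)
      (Prod.map id π) (fun p => sg p.2) C := by
  obtain ⟨e, he, hte⟩ := h
  refine ⟨fun p q => E S A C p.1 q.1 (e p.2 q.2), ⟨?_, ?_⟩, ?_⟩
  · rintro ⟨a, i⟩ ⟨b, j⟩ ⟨c, k⟩ ⟨d, l⟩
    simp only
    rw [E_mul, he.1]
    by_cases h1 : b = c
    · by_cases h2 : j = k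
      · rw [if_pos h1, if_pos h2, if_pos (by rw [h1, h2])]
      · rw [if_pos h1, if_neg h2, map_zero, if_neg]
        intro h
        exact h2 (Prod.mk.inj h).2
    · rw [if_neg h1, if_neg]
      intro h
      exact h1 (Prod.mk.inj h).1
  · rw [Fintype.sum_prod_type]
    simp only
    have : ∀ a : μ, ∑ i : ι, E S A C a a (e i i) = E S A C a a 1 := by
      intro a
      rw [← map_sum, he.2]
    simp only [this]
    exact sum_E_one S A C
  · rintro ⟨a, i⟩ ⟨b, j⟩
    simp only [Prod.map, id]
    rw [E_bc, hte, map_zsmul]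

end Amp

section Reindex

variable (S : Type u) (R : Type v) [CommRing S] [CommRing R] [Algebra S R]
  (lam : R ≃ₐ[S] R)
  (A : Type w) [Ring A] [Algebra S A] [Algebra R A] [IsScalarTower S R A]
  (t : LamInv R A lam)
  (C : Type u') [CommRing C] [Algebra S C]
  {ι : Type} [Fintype ι] [DecidableEq ι] (π : ι → ι) (sg : ι → ℤ)
  {κ : Type} [Fintype κ] [DecidableEq κ]

theorem stdOverP_reindex (σ : κ ≃ ι) (π' : κ → κ) (sg' : κ → ℤ)
    (hπ' : ∀ k, σ (π' k) = π (σ k)) (hsg' : ∀ k, sg' k = sg (σ k))
    (h : StdP.StdOverP S R lam A t π sg C) : StdP.StdOverP S R lam A t π' sg' C := by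
  obtain ⟨e, he, hte⟩ := h
  refine ⟨fun i j => e (σ i) (σ j), he.reindex σ, ?_⟩
  intro i j
  show t.bc S lam C (e (σ i) (σ j)) = (sg' i * sg' j) • e (σ (π' j)) (σ (π' i))
  rw [hte, hπ', hπ', hsg', hsg']

end Reindex

end Groth.Agent.H7.Ampl
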