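import Mathlib
import Groth.Prelude.Def_AlgSp3
import Groth.Agent.Lib.Helper5.AlgSp.RelDiag
import Groth.Agent.Lib.Helper5.AlgSp.PointsTop
import Groth.Agent.Lib.Helper5.Descent.AffineMorDescent

set_option autoImplicit false
universe u
open CategoryTheory CategoryTheory.Limits AlgebraicGeometry Opposite

namespace Groth.Agent.H7.ArtAff

open _root_.AlgSp Groth.Agent.H5.AlgSp

/-- A quasi-compact morphism from a scheme with discrete underlying space is affine. -/
theorem isAffineHom_of_discrete {T U : Scheme.{u}} (τ : T ⟶ U) [QuasiCompact τ]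
    [DiscreteTopology ↥T] : IsAffineHom τ := by
  refine ⟨fun V hV => ?_⟩
  have hc : IsCompact ((τ ⁻¹ᵁ V : T.Opens) : Set ↥T) := QuasiCompact.isCompact_preimage _ V.2 hV.isCompact
  haveI : CompactSpace ↥(τ ⁻¹ᵁ V : T.Opens) := isCompact_iff_compactSpace.1 hc
  haveI : DiscreteTopology ↥(τ ⁻¹ᵁ V : T.Opens) := inferInstance
  haveI hfin : Finite ↥(τ ⁻¹ᵁ V : T.Opens) := finite_of_compact_of_discrete
  change IsAffine ((τ ⁻¹ᵁ V : T.Opens) : Scheme)
  haveI : Finite ↥((τ ⁻¹ᵁ V : T.Opens) : Scheme) := hfin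
  haveI : DiscreteTopology ↥((τ ⁻¹ᵁ V : T.Opens) : Scheme) :=
    (inferInstance : DiscreteTopology ↥(τ ⁻¹ᵁ V : T.Opens))
  infer_instance

/-- A scheme etale over an Artinian ring has discrete underlying space. -/
theorem discreteTopology_of_etale_artinian {T : Scheme.{u}} {A : Type u} [CommRing A] [IsArtinianRing A]
    (ε : T ⟶ Spec (CommRingCat.of A)) [Etale ε] : DiscreteTopology ↥T := by
  haveI : LocallyQuasiFinite ε := locallyQuasiFinite_of_etale ε
  haveI : DiscreteTopology ↥(Spec (CommRingCat.of A)) :=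
    inferInstanceAs (DiscreteTopology (PrimeSpectrum A))
  have h := Scheme.Hom.isDiscrete_preimage ε (s := Set.univ) (isDiscrete_univ_iff.2 inferInstance)
  rw [Set.preimage_univ] at h
  exact isDiscrete_univ_iff.1 h

theorem S9945_main {S : Scheme.{u}} [QuasiSeparatedSpace ↥S] (X : AlgSp.Space S)
    (hX : AlgSp.IsQuasiSeparatedSp X.obj) (A : Type u) [CommRing A] [IsArtinianRing A]
    (str : Spec (CommRingCat.of A) ⟶ S) (a : (AlgSp.yon S).obj (Over.mk str) ⟶ X.obj) :
    AlgSp.IsAffineMor a := by
  obtain ⟨U, q, hqe, hqs⟩ := X.property.atlas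
  let T : Over S := hqe.rep.pullback a
  let τ : T ⟶ U := hqe.rep.fst' a
  let ε : T ⟶ Over.mk str := hqe.rep.snd a
  have sq : IsPullback ((yon S).map τ) ((yon S).map ε) q a := hqe.rep.isPullback' a
  haveI hε : Etale ε.left := hqe.property_snd a
  haveI : DiscreteTopology ↥T.left := discreteTopology_of_etale_artinian (A := A) ε.left
  -- quasi-compactness
  have hqc1 : QuasiCompact (prod.lift τ ε).left := prop_prodLift_of_repWith_diag hX sq
  have hqc2 : QuasiCompact (prod.fst : U ⨯ Over.mk str ⟶ U).left := by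
    rw [← Over.prodLeftIsoPullback_hom_fst]
    haveI : QuasiCompact (Over.mk str).hom := by
      change QuasiCompact str
      infer_instance
    infer_instance
  haveI hqc : QuasiCompact τ.left := by
    have h : τ.left = (prod.lift τ ε).left ≫ (prod.fst : U ⨯ Over.mk str ⟶ U).left := by
      rw [← Over.comp_left, prod.lift_fst]
    rw [h]
    infer_instance
  have haff : IsAffineHom τ.left := isAffineHom_of_discrete τ.left
  have h1 : IsAffineMor ((yon S).map τ) :=
    isAffineMor_of_repWith ((repWith_yon_map_iff @IsAffineHom τ).2 haff)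
  exact Groth.Agent.H5.Descent.isAffineMor_of_baseChange_etale hqe hqs sq.flip h1

end Groth.Agent.H7.ArtAff
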