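import Mathlib

/-! Signed permutation involutions on `ι → K`: bounds on the rank of the fixed space. -/

set_option autoImplicit false

namespace Groth.Agent.H7.SgnPerm

variable {K : Type*} [CommRing K] {ι : Type*}

/-- signed permutation operator -/
def op (π : ι → ι) (ε : ι → K) : (ι → K) →ₗ[K] (ι → K) where
  toFun x := fun p => ε p * x (π p)
  map_add' x y := by funext p; simp [mul_add]
  map_smul' c x := by funext p; simp [mul_left_comm]

@[simp] theorem op_apply (π : ι → ι) (ε : ι → K) (x : ι → K) (p : ι) :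
    op π ε x p = ε p * x (π p) := rfl

variable [DecidableEq ι]

/-- the standard fixed vectors -/
def w (π : ι → ι) (ε : ι → K) (p : ι) : ι → K :=
  Pi.single p 1 + ε p • Pi.single (π p) 1

theorem op_w (π : ι → ι) (ε : ι → K) (hπ : ∀ p, π (π p) = p) (hε : ∀ p, ε (π p) = ε p)
    (hε2 : ∀ p, ε p * ε p = 1) (p : ι) : op π ε (w π ε p) = w π ε p := by
  funext q
  simp only [op_apply, w, Pi.add_apply, Pi.smul_apply, Pi.single_apply, smul_eq_mul]
  by_cases h1 : q = π p
  · subst h1
    rw [hπ, hε]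
    by_cases h2 : π p = p
    · simp only [h2, if_true, mul_one]
      rw [mul_add, mul_one, hε2, add_comm]
    · simp [h2, Ne.symm h2]
  · have h1' : π q ≠ p := fun h => h1 (by rw [← h, hπ])
    by_cases h2 : q = p
    · subst h2
      simp [h1, h1', hε2]
    · have h2' : π q ≠ π p := fun h => h2 (by rw [← hπ q, h, hπ])
      simp [h1, h1', h2, h2']

theorem linearIndependent_w [Fintype ι] (π : ι → ι) (ε : ι → K) (h2 : IsUnit (2 : K)) (D : Set ι)
    (hD1 : ∀ p ∈ D, π p = p → ε p = 1) (hD2 : ∀ p ∈ D, π p ≠ p → π p ∉ D) :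
    LinearIndependent K (fun p : D => w π ε (p : ι)) := by
  classical
  haveI : Fintype D := Fintype.ofFinite D
  rw [Fintype.linearIndependent_iff]
  intro g hg p'
  have h := congrFun hg (p' : ι)
  simp only [Finset.sum_apply, Pi.smul_apply, w, Pi.add_apply, Pi.single_apply, smul_eq_mul,
    Pi.zero_apply] at h
  rw [Finset.sum_eq_single p'] at h
  · by_cases hfix : π (p' : ι) = p'
    · rw [hD1 _ p'.2 hfix] at h
      simp only [hfix, if_true, one_mul] at h
      have h' : g p' * 2 = 0 := by rw [← h]; ring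
      exact (h2.mul_left_eq_zero).mp h'
    · have : (p' : ι) ≠ π (p' : ι) := fun h => hfix h.symm
      simp only [if_true, this, if_false, mul_zero, add_zero, mul_one] at h
      exact h
  · intro p _ hp
    have h1 : (p' : ι) ≠ (p : ι) := fun h => hp (Subtype.ext h.symm)
    have h3 : (p' : ι) ≠ π (p : ι) := by
      intro h
      have hne : π (p : ι) ≠ p := fun h' => h1 (h.trans h')
      exact hD2 _ p.2 hne (h ▸ p'.2)
    simp [h1, h3]
  · intro h; exact absurd (Finset.mem_univ _) h

theorem eq_zero_of_fixed (π : ι → ι) (ε : ι → K) (h2 : IsUnit (2 : K)) (D' : Set ι)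
    (hD' : ∀ p, p ∉ D' → π p ∈ D' ∨ (π p = p ∧ ε p = -1))
    (x : ι → K) (hx : op π ε x = x) (h0 : ∀ p ∈ D', x p = 0) : x = 0 := by
  funext p
  by_cases hp : p ∈ D'
  · exact h0 p hp
  · have hxp := congrFun hx p
    simp only [op_apply] at hxp
    rcases hD' p hp with h | ⟨h1, h3⟩
    · rw [h0 _ h, mul_zero] at hxp
      exact hxp.symm
    · rw [h1, h3] at hxp
      have : x p * 2 = 0 := by linear_combination -hxp
      exact (h2.mul_left_eq_zero).mp this

/-- The rank comparison: a linear injection intertwining two signed permutations. -/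
theorem card_le [Nontrivial K] {ι₂ : Type*} [Fintype ι] [Fintype ι₂] [DecidableEq ι₂]
    (π : ι → ι) (ε : ι → K) (π₂ : ι₂ → ι₂) (ε₂ : ι₂ → K) (h2 : IsUnit (2 : K))
    (hπ : ∀ p, π (π p) = p) (hε : ∀ p, ε (π p) = ε p) (hε2 : ∀ p, ε p * ε p = 1)
    (D : Set ι) (hD1 : ∀ p ∈ D, π p = p → ε p = 1) (hD2 : ∀ p ∈ D, π p ≠ p → π p ∉ D)
    (D' : Set ι₂) (hD' : ∀ p, p ∉ D' → π₂ p ∈ D' ∨ (π₂ p = p ∧ ε₂ p = -1))
    (F : (ι → K) →ₗ[K] (ι₂ → K)) (hF : Function.Injective F)
    (hFop : ∀ x, F (op π ε x) = op π₂ ε₂ (F x)) :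
    Nat.card D ≤ Nat.card D' := by
  classical
  haveI : Fintype D := Fintype.ofFinite D
  haveI : Fintype D' := Fintype.ofFinite D'
  have hli := linearIndependent_w π ε h2 D hD1 hD2
  have hli2 : LinearIndependent K (fun p : D => F (w π ε (p : ι))) :=
    hli.map' F (LinearMap.ker_eq_bot.mpr hF)
  -- restriction to D'
  let ρ : (ι₂ → K) →ₗ[K] (D' → K) :=
    { toFun := fun x p => x p
      map_add' := fun x y => rfl
      map_smul' := fun c x => rfl }
  have hfix : ∀ x ∈ Submodule.span K (Set.range fun p : D => F (w π ε (p : ι))),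
      op π₂ ε₂ x = x := by
    intro x hx
    induction hx using Submodule.span_induction with
    | mem y hy =>
        obtain ⟨p, rfl⟩ := hy
        show op π₂ ε₂ (F (w π ε (p : ι))) = _
        rw [← hFop, op_w π ε hπ hε hε2]
    | zero => exact map_zero _
    | add x y _ _ hx hy => rw [map_add, hx, hy]
    | smul c x _ hx => rw [map_smul, hx]
  have hli3 : LinearIndependent K (fun p : D => ρ (F (w π ε (p : ι)))) := by
    refine hli2.map (f := ρ) ?_
    rw [disjoint_iff, eq_bot_iff]
    rintro x ⟨hx1, hx2⟩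
    have hx0 : ρ x = 0 := hx2
    have := eq_zero_of_fixed π₂ ε₂ h2 D' hD' x (hfix x hx1) (fun p hp => congrFun hx0 ⟨p, hp⟩)
    rw [this]; exact Submodule.zero_mem _
  have := hli3.fintype_card_le_finrank
  rw [Module.finrank_fintype_fun_eq_card] at this
  rwa [Nat.card_eq_fintype_card, Nat.card_eq_fintype_card]

end Groth.Agent.H7.SgnPerm
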