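import Mathlib
import Groth.Prelude.Def_AzInv
import Groth.Agent.Lib.Helper7.SgnPerm

/-! Orthogonal and symplectic types differ (S17360). -/

set_option autoImplicit false
open scoped TensorProduct
open AzInv

namespace Groth.Agent.H7.AzOrthSymp

universe u

section Coord

variable {R : Type u} [CommRing R] {V : Type*} [AddCommGroup V] [Module R V]
  {ι : Type*} [Finite ι] (e : V ≃ₗ[R] (ι → R)) (S' : Type*) [CommRing S'] [Algebra R S']

/-- coordinates on a base change. -/
noncomputable def coord : S' ⊗[R] V ≃ₗ[S'] (ι → S') :=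
  haveI := Fintype.ofFinite ι
  ((Module.Basis.ofEquivFun e).baseChange S').equivFun

theorem coord_tmul (s : S') (X : V) (p : ι) : coord e S' (s ⊗ₜ[R] X) p = e X p • s := by
  unfold coord
  simp [Module.Basis.equivFun_apply]

end Coord

section Transport

variable {R : Type u} [CommRing R] {V : Type*} [Ring V] [Algebra R V]
  {ι : Type*} [Finite ι] (e : V ≃ₗ[R] (ι → R)) (S' : Type u) [CommRing S'] [Algebra R S']
  (τ : LamInv R V (AlgEquiv.refl : R ≃ₐ[R] R)) (π : ι → ι) (εR : ι → R)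

theorem coord_bc (hτ : ∀ X p, e (τ X) p = εR p * e X (π p)) (x : S' ⊗[R] V) :
    coord e S' (τ.bc R (AlgEquiv.refl : R ≃ₐ[R] R) S' x) =
      SgnPerm.op π (fun p => algebraMap R S' (εR p)) (coord e S' x) := by
  induction x using TensorProduct.induction_on with
  | zero => simp
  | add x y hx hy => rw [map_add, map_add, hx, hy, map_add, map_add]
  | tmul s X =>
      funext p
      rw [LamInv.bc_tmul, coord_tmul, SgnPerm.op_apply, coord_tmul, hτ, Algebra.smul_def,
        Algebra.smul_def, map_mul]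
      ring

end Transport

section Concrete

variable (R : Type u) [CommRing R]

/-- coordinates on matrices. -/
def e₁ (n : ℕ) : Matrix (Fin n) (Fin n) R ≃ₗ[R] (Fin n × Fin n → R) where
  toFun M p := M p.1 p.2
  invFun x := Matrix.of fun i j => x (i, j)
  map_add' _ _ := rfl
  map_smul' _ _ := rfl
  left_inv _ := rfl
  right_inv _ := by funext ⟨i, j⟩; rfl

/-- coordinates on matrices of 2 × 2 matrices. -/
def e₂ (n : ℕ) : Matrix (Fin n) (Fin n) (Matrix (Fin 2) (Fin 2) R) ≃ₗ[R]
    ((Fin n × Fin n) × (Fin 2 × Fin 2) → R) where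
  toFun X p := X p.1.1 p.1.2 p.2.1 p.2.2
  invFun x := Matrix.of fun i j => Matrix.of fun a b => x ((i, j), (a, b))
  map_add' _ _ := rfl
  map_smul' _ _ := rfl
  left_inv _ := rfl
  right_inv _ := by funext ⟨⟨i, j⟩, ⟨a, b⟩⟩; rfl

/-- the index involution for the symplectic case. -/
def π₂ (n : ℕ) : (Fin n × Fin n) × (Fin 2 × Fin 2) → (Fin n × Fin n) × (Fin 2 × Fin 2) :=
  fun p => ((p.1.2, p.1.1), (1 - p.2.2, 1 - p.2.1))

/-- the signs for the symplectic case. -/
def ε₂ (n : ℕ) : (Fin n × Fin n) × (Fin 2 × Fin 2) → R :=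
  fun p => if p.2.1 = p.2.2 then 1 else -1

variable {R}

theorem symp_apply (hlam : ∀ r : R, (AlgEquiv.refl : R ≃ₐ[R] R) ((AlgEquiv.refl : R ≃ₐ[R] R) r) = r)
    (J : (Matrix (Fin 2) (Fin 2) R)ˣ)
    (hJ : (↑J : Matrix (Fin 2) (Fin 2) R) = Matrix.of ![![0, -1], ![1, 0]])
    (hJt : LamInv.transpose (AlgEquiv.refl : R ≃ₐ[R] R) (Fin 2) hlam
      (↑J : Matrix (Fin 2) (Fin 2) R) = (-1 : R) • (↑J : Matrix (Fin 2) (Fin 2) R))
    (hneg : (AlgEquiv.refl : R ≃ₐ[R] R) (-1) * (-1) = 1) (y : Matrix (Fin 2) (Fin 2) R)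
    (a b : Fin 2) :
    ((LamInv.transpose (AlgEquiv.refl : R ≃ₐ[R] R) (Fin 2) hlam).conj J (-1) hJt hneg) y a b =
      (if a = b then 1 else -1) * y (1 - b) (1 - a) := by
  have hJinv : (↑J⁻¹ : Matrix (Fin 2) (Fin 2) R) = Matrix.of ![![0, 1], ![-1, 0]] := by
    have h1 : (↑J : Matrix (Fin 2) (Fin 2) R) * Matrix.of ![![0, 1], ![-1, 0]] = 1 := by
      rw [hJ]
      ext i j
      fin_cases i <;> fin_cases j <;> simp [Matrix.mul_apply, Fin.sum_univ_two]
    calc (↑J⁻¹ : Matrix (Fin 2) (Fin 2) R) = ↑J⁻¹ * (↑J * Matrix.of ![![0, 1], ![-1, 0]]) := by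
          rw [h1, mul_one]
      _ = _ := by rw [← mul_assoc, Units.inv_mul, one_mul]
  rw [LamInv.conj_apply, hJ, hJinv]
  have ht : ∀ i j, (LamInv.transpose (AlgEquiv.refl : R ≃ₐ[R] R) (Fin 2) hlam) y i j = y j i :=
    fun i j => rfl
  fin_cases a <;> fin_cases b <;>
    simp [Matrix.mul_apply, Fin.sum_univ_two, Matrix.vecMul, dotProduct] <;> rfl

end Concrete

section Count

theorem two_mul_choose_two (m : ℕ) : 2 * Nat.choose m 2 = m * (m - 1) := by
  rw [Nat.choose_two_right]
  exact Nat.mul_div_cancel' (Nat.even_mul_pred_self m).two_dvd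

theorem card_D (n : ℕ) :
    Nat.card {p : Fin n × Fin n | p.1 ≤ p.2} = Nat.choose n 2 + n := by
  classical
  rw [Nat.card_eq_fintype_card, Fintype.card_subtype]
  have h1 : (Finset.univ.filter fun p : Fin n × Fin n => p ∈ {p : Fin n × Fin n | p.1 ≤ p.2}) =
      (Finset.univ.filter fun p : Fin n × Fin n => p.1 < p.2) ∪
        (Finset.univ.filter fun p : Fin n × Fin n => p.1 = p.2) := by
    ext p
    simp only [Set.mem_setOf_eq, Finset.mem_filter, Finset.mem_univ, true_and, Finset.mem_union]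
    exact le_iff_lt_or_eq
  rw [h1, Finset.card_union_of_disjoint]
  · congr 1
    · have := Finset.card_product_filter_lt (s := (Finset.univ : Finset (Fin n)))
      rw [Finset.univ_product_univ, Finset.card_univ, Fintype.card_fin] at this
      exact this
    · have := Finset.diag_card (Finset.univ : Finset (Fin n))
      rw [Finset.card_univ, Fintype.card_fin] at this
      have h4 : (Finset.univ.filter fun p : Fin n × Fin n => p.1 = p.2) =
          (Finset.univ : Finset (Fin n)).diag := by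
        ext p
        simp [Finset.mem_diag]
      rw [h4, this]
  · rw [Finset.disjoint_filter]
    intro p _ h1 h2
    exact absurd h2 (ne_of_lt h1)

theorem card_D' (n : ℕ) :
    Nat.card {p : (Fin n × Fin n) × (Fin 2 × Fin 2) |
      p.1.1 < p.1.2 ∨ (p.1.1 = p.1.2 ∧ p.2 = (0, 0))} ≤ Nat.choose n 2 * 4 + n := by
  classical
  rw [Nat.card_eq_fintype_card, Fintype.card_subtype]
  have h1 : (Finset.univ.filter fun p : (Fin n × Fin n) × (Fin 2 × Fin 2) =>
      p ∈ {p : (Fin n × Fin n) × (Fin 2 × Fin 2) |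
        p.1.1 < p.1.2 ∨ (p.1.1 = p.1.2 ∧ p.2 = (0, 0))}) =
      ((Finset.univ.filter fun p : Fin n × Fin n => p.1 < p.2) ×ˢ
        (Finset.univ : Finset (Fin 2 × Fin 2))) ∪
      ((Finset.univ.filter fun p : Fin n × Fin n => p.1 = p.2) ×ˢ
        ({(0, 0)} : Finset (Fin 2 × Fin 2))) := by
    ext p
    simp only [Set.mem_setOf_eq, Finset.mem_filter, Finset.mem_univ, true_and, Finset.mem_union,
      Finset.mem_product, and_true, Finset.mem_singleton]
  rw [h1]
  refine (Finset.card_union_le _ _).trans ?_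
  rw [Finset.card_product, Finset.card_product, Finset.card_singleton, mul_one]
  have h2 := Finset.card_product_filter_lt (s := (Finset.univ : Finset (Fin n)))
  rw [Finset.univ_product_univ, Finset.card_univ, Fintype.card_fin] at h2
  have h3 := Finset.diag_card (Finset.univ : Finset (Fin n))
  rw [Finset.card_univ, Fintype.card_fin] at h3
  have h4 : (Finset.univ.filter fun p : Fin n × Fin n => p.1 = p.2) =
      (Finset.univ : Finset (Fin n)).diag := by
    ext p
    simp [Finset.mem_diag]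
  rw [h2, h4, h3]
  simp

end Count

section Main

variable (R : Type u) [CommRing R] [Nontrivial R]

theorem main (hlam : ∀ r : R, (AlgEquiv.refl : R ≃ₐ[R] R) ((AlgEquiv.refl : R ≃ₐ[R] R) r) = r)
    (h2 : IsUnit (2 : R))
    (J : (Matrix (Fin 2) (Fin 2) R)ˣ)
    (hJ : (↑J : Matrix (Fin 2) (Fin 2) R) = Matrix.of ![![0, -1], ![1, 0]])
    (hJt : LamInv.transpose (AlgEquiv.refl : R ≃ₐ[R] R) (Fin 2) hlam
      (↑J : Matrix (Fin 2) (Fin 2) R) = (-1 : R) • (↑J : Matrix (Fin 2) (Fin 2) R))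
    (hneg : (AlgEquiv.refl : R ≃ₐ[R] R) (-1) * (-1) = 1) :
    ¬ SameType R (AlgEquiv.refl : R ≃ₐ[R] R) (LamInv.self (AlgEquiv.refl : R ≃ₐ[R] R) hlam)
      ((LamInv.transpose (AlgEquiv.refl : R ≃ₐ[R] R) (Fin 2) hlam).conj J (-1) hJt hneg) := by
  classical
  rintro ⟨n, n', hn, hn', S', _, _, _, _, f, -, hf⟩
  haveI : Nontrivial S' := (TensorProduct.rid R S').symm.toEquiv.nontrivial
  have h2' : IsUnit (2 : S') := by
    have := h2.map (algebraMap R S')
    rwa [map_ofNat] at this
  have hτ₁ : ∀ (X : Matrix (Fin n) (Fin n) R) (p : Fin n × Fin n),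
      e₁ R n (((LamInv.self (AlgEquiv.refl : R ≃ₐ[R] R) hlam).matrix (Fin n)) X) p =
        (fun _ => (1 : R)) p * e₁ R n X (Prod.swap p) := by
    intro X p
    rw [one_mul]
    rfl
  have hτ₂ : ∀ (X : Matrix (Fin n') (Fin n') (Matrix (Fin 2) (Fin 2) R))
      (p : (Fin n' × Fin n') × (Fin 2 × Fin 2)),
      e₂ R n' ((((LamInv.transpose (AlgEquiv.refl : R ≃ₐ[R] R) (Fin 2) hlam).conj J (-1) hJt
        hneg).matrix (Fin n')) X) p = ε₂ R n' p * e₂ R n' X (π₂ n' p) := by
    intro X p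
    show (((LamInv.transpose (AlgEquiv.refl : R ≃ₐ[R] R) (Fin 2) hlam).conj J (-1) hJt
        hneg).matrix (Fin n')) X p.1.1 p.1.2 p.2.1 p.2.2 = _
    rw [LamInv.matrix_apply, symp_apply hlam J hJ hJt hneg]
    rfl
  let F : (Fin n × Fin n → S') ≃ₗ[S'] ((Fin n' × Fin n') × (Fin 2 × Fin 2) → S') :=
    ((coord (e₁ R n) S').symm.trans f.toLinearEquiv).trans (coord (e₂ R n') S')
  have hFop : ∀ x, F (SgnPerm.op Prod.swap (fun p => algebraMap R S' ((fun _ => (1 : R)) p)) x) =
      SgnPerm.op (π₂ n') (fun p => algebraMap R S' (ε₂ R n' p)) (F x) := by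
    intro x
    obtain ⟨y, rfl⟩ := (coord (e₁ R n) S').surjective x
    rw [← coord_bc (e₁ R n) S' _ Prod.swap (fun _ => (1 : R)) hτ₁]
    show coord (e₂ R n') S' (f ((coord (e₁ R n) S').symm (coord (e₁ R n) S' _))) =
      SgnPerm.op (π₂ n') _ (coord (e₂ R n') S' (f ((coord (e₁ R n) S').symm (coord (e₁ R n) S' y))))
    rw [LinearEquiv.symm_apply_apply, LinearEquiv.symm_apply_apply, hf,
      coord_bc (e₂ R n') S' _ (π₂ n') (ε₂ R n') hτ₂]
  have hcard := SgnPerm.card_le (K := S') Prod.swap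
    (fun p => algebraMap R S' ((fun _ => (1 : R)) p)) (π₂ n')
    (fun p => algebraMap R S' (ε₂ R n' p)) h2'
    (fun p => Prod.swap_swap p) (fun p => rfl) (fun p => by simp)
    {p : Fin n × Fin n | p.1 ≤ p.2} (fun p _ _ => by simp)
    (by
      rintro ⟨i, j⟩ hp hne hmem
      simp only [Set.mem_setOf_eq, Prod.swap_prod_mk] at hp hmem
      exact hne (by rw [Prod.swap_prod_mk, le_antisymm hp hmem]))
    {p : (Fin n' × Fin n') × (Fin 2 × Fin 2) | p.1.1 < p.1.2 ∨ (p.1.1 = p.1.2 ∧ p.2 = (0, 0))}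
    (by
      rintro ⟨⟨i, j⟩, ⟨a, b⟩⟩ hp
      simp only [Set.mem_setOf_eq, not_or, not_and, not_lt] at hp
      obtain ⟨hji, hab⟩ := hp
      rcases lt_or_eq_of_le hji with h | h
      · left
        left
        exact h
      · subst h
        have hab' := hab rfl
        fin_cases a <;> fin_cases b
        · exact absurd rfl hab'
        · right
          refine ⟨rfl, ?_⟩
          simp [ε₂]
        · right
          refine ⟨rfl, ?_⟩
          simp [ε₂]
        · left
          right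
          exact ⟨rfl, rfl⟩)
    F.toLinearMap F.injective hFop
  rw [card_D] at hcard
  have hcard' := hcard.trans (card_D' n')
  -- ranks
  have hrk := F.finrank_eq
  rw [Module.finrank_fintype_fun_eq_card, Module.finrank_fintype_fun_eq_card] at hrk
  simp only [Fintype.card_prod, Fintype.card_fin] at hrk
  have hnn : n = 2 * n' := by nlinarith
  subst hnn
  have h5 := two_mul_choose_two (2 * n')
  have h6 := two_mul_choose_two n'
  obtain ⟨k, rfl⟩ : ∃ k, n' = k + 1 := ⟨n' - 1, by omega⟩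
  have e1 : 2 * (k + 1) - 1 = 2 * k + 1 := by omega
  have e2 : k + 1 - 1 = k := by omega
  rw [e1] at h5
  rw [e2] at h6
  nlinarith

end Main

end Groth.Agent.H7.AzOrthSymp
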