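import Mathlib
import Groth.Prelude.Def_AzInv

/-! Sign (orthogonal/symplectic) of an involution at ramified primes: local constancy. -/

set_option autoImplicit false
open scoped TensorProduct

namespace Groth.Agent.H7.AzSign

universe v w

variable {R : Type v} {A : Type w} [CommRing R] [Ring A] [Algebra R A] {lam : R → R}
  (t : AzInv.LamInv R A lam)

/-- span of the images of the symmetric elements in the fibre. -/
noncomputable def symSpan (P : PrimeSpectrum R) :
    Submodule P.asIdeal.ResidueField (P.asIdeal.ResidueField ⊗[R] A) :=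
  Submodule.span P.asIdeal.ResidueField
    (Set.range fun a : {a : A // t a = a} => (1 : P.asIdeal.ResidueField) ⊗ₜ[R] (a : A))

/-- span of the images of the skew elements in the fibre. -/
noncomputable def skewSpan (P : PrimeSpectrum R) :
    Submodule P.asIdeal.ResidueField (P.asIdeal.ResidueField ⊗[R] A) :=
  Submodule.span P.asIdeal.ResidueField
    (Set.range fun a : {a : A // t a = -a} => (1 : P.asIdeal.ResidueField) ⊗ₜ[R] (a : A))

theorem one_tmul_mem_sup (h2 : IsUnit (2 : R)) (P : PrimeSpectrum R) (a : A) :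
    (1 : P.asIdeal.ResidueField) ⊗ₜ[R] a ∈ symSpan t P ⊔ skewSpan t P := by
  have h2k : IsUnit (2 : P.asIdeal.ResidueField) := by
    have := h2.map (algebraMap R P.asIdeal.ResidueField)
    rwa [map_ofNat] at this
  have hs : (1 : P.asIdeal.ResidueField) ⊗ₜ[R] (a + t a) ∈ symSpan t P :=
    Submodule.subset_span ⟨⟨a + t a, by rw [t.map_add, t.invol, add_comm]⟩, rfl⟩
  have hk : (1 : P.asIdeal.ResidueField) ⊗ₜ[R] (a - t a) ∈ skewSpan t P :=
    Submodule.subset_span ⟨⟨a - t a, by rw [t.map_sub, t.invol, neg_sub]⟩, rfl⟩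
  have h : (2 : P.asIdeal.ResidueField) • ((1 : P.asIdeal.ResidueField) ⊗ₜ[R] a) =
      (1 : P.asIdeal.ResidueField) ⊗ₜ[R] (a + t a) + (1 : P.asIdeal.ResidueField) ⊗ₜ[R] (a - t a) := by
    rw [← TensorProduct.tmul_add, two_smul, ← TensorProduct.tmul_add]
    congr 1
    abel
  have h3 : (1 : P.asIdeal.ResidueField) ⊗ₜ[R] a =
      ((2 : P.asIdeal.ResidueField)⁻¹) • ((2 : P.asIdeal.ResidueField) •
        ((1 : P.asIdeal.ResidueField) ⊗ₜ[R] a)) := by
    rw [smul_smul, inv_mul_cancel₀ h2k.ne_zero, one_smul]
  rw [h3, h]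
  exact Submodule.smul_mem _ _ (Submodule.add_mem_sup hs hk)

theorem sup_eq_top (h2 : IsUnit (2 : R)) (P : PrimeSpectrum R) :
    symSpan t P ⊔ skewSpan t P = ⊤ := by
  rw [eq_top_iff]
  intro x hx
  clear hx
  induction x using TensorProduct.induction_on with
  | zero => exact Submodule.zero_mem _
  | add x y hx hy => exact Submodule.add_mem _ hx hy
  | tmul c a =>
      have : c ⊗ₜ[R] a = c • ((1 : P.asIdeal.ResidueField) ⊗ₜ[R] a) := by
        rw [TensorProduct.smul_tmul', smul_eq_mul, mul_one]
      rw [this]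
      exact Submodule.smul_mem _ _ (one_tmul_mem_sup t h2 P a)

section Ram

variable (P : PrimeSpectrum R) (hP : ∀ r, lam r - r ∈ P.asIdeal)

include hP in
theorem algebraMap_lam (r : R) :
    algebraMap R P.asIdeal.ResidueField (lam r) = algebraMap R P.asIdeal.ResidueField r := by
  have := (Ideal.algebraMap_residueField_eq_zero).mpr (hP r)
  rwa [map_sub, sub_eq_zero] at this

/-- the `R`-linear map `a ↦ 1 ⊗ t a` at a ramified prime. -/
noncomputable def tR : A →ₗ[R] P.asIdeal.ResidueField ⊗[R] A where
  toFun a := (1 : P.asIdeal.ResidueField) ⊗ₜ[R] t a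
  map_add' a b := by rw [t.map_add, TensorProduct.tmul_add]
  map_smul' r a := by
    rw [t.map_smul, RingHom.id_apply, TensorProduct.tmul_smul,
      ← algebraMap_smul P.asIdeal.ResidueField (lam r), ← algebraMap_smul P.asIdeal.ResidueField r,
      algebraMap_lam P hP]

/-- the induced linear involution of the fibre at a ramified prime. -/
noncomputable def T : P.asIdeal.ResidueField ⊗[R] A →ₗ[P.asIdeal.ResidueField]
    P.asIdeal.ResidueField ⊗[R] A :=
  LinearMap.liftBaseChange P.asIdeal.ResidueField (tR t P hP)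

theorem T_tmul (c : P.asIdeal.ResidueField) (a : A) : T t P hP (c ⊗ₜ[R] a) = c ⊗ₜ[R] t a := by
  rw [T, LinearMap.liftBaseChange_tmul]
  show c • ((1 : P.asIdeal.ResidueField) ⊗ₜ[R] t a) = _
  rw [TensorProduct.smul_tmul', smul_eq_mul, mul_one]

theorem T_sym (x : P.asIdeal.ResidueField ⊗[R] A) (hx : x ∈ symSpan t P) : T t P hP x = x := by
  induction hx using Submodule.span_induction with
  | mem y hy =>
      obtain ⟨a, rfl⟩ := hy
      show T t P hP (1 ⊗ₜ[R] (a : A)) = _
      rw [T_tmul, a.2]
  | zero => exact map_zero _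
  | add x y _ _ hx hy => rw [map_add, hx, hy]
  | smul c x _ hx => rw [map_smul, hx]

theorem T_skew (x : P.asIdeal.ResidueField ⊗[R] A) (hx : x ∈ skewSpan t P) : T t P hP x = -x := by
  induction hx using Submodule.span_induction with
  | mem y hy =>
      obtain ⟨a, rfl⟩ := hy
      show T t P hP (1 ⊗ₜ[R] (a : A)) = _
      rw [T_tmul, a.2, TensorProduct.tmul_neg]
  | zero => rw [map_zero, neg_zero]
  | add x y _ _ hx hy => rw [map_add, hx, hy, neg_add]
  | smul c x _ hx => rw [map_smul, hx, smul_neg]

include hP in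
theorem inf_eq_bot (h2 : IsUnit (2 : R)) : symSpan t P ⊓ skewSpan t P = ⊥ := by
  rw [eq_bot_iff]
  rintro x ⟨hx1, hx2⟩
  have h1 := T_sym t P hP x hx1
  have h2' := T_skew t P hP x hx2
  have h2k : IsUnit (2 : P.asIdeal.ResidueField) := by
    have := h2.map (algebraMap R P.asIdeal.ResidueField)
    rwa [map_ofNat] at this
  have h3 : (2 : P.asIdeal.ResidueField) • x = 0 := by
    rw [two_smul]
    nth_rewrite 1 [← h1]
    rw [h2', neg_add_cancel]
  have : x = ((2 : P.asIdeal.ResidueField)⁻¹) • ((2 : P.asIdeal.ResidueField) • x) := by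
    rw [smul_smul, inv_mul_cancel₀ h2k.ne_zero, one_smul]
  rw [this, h3, smul_zero]
  exact Submodule.zero_mem _

include hP in
theorem finrank_add [Module.Finite R A] (h2 : IsUnit (2 : R)) :
    Module.finrank P.asIdeal.ResidueField (symSpan t P) +
      Module.finrank P.asIdeal.ResidueField (skewSpan t P) =
      Module.finrank P.asIdeal.ResidueField (P.asIdeal.ResidueField ⊗[R] A) := by
  have h := Submodule.finrank_sup_add_finrank_inf_eq (symSpan t P) (skewSpan t P)
  rw [sup_eq_top t h2 P, inf_eq_bot t P hP h2, finrank_bot, add_zero, finrank_top] at h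
  exact h.symm

end Ram

/-- spreading out a basis of the fibre. -/
theorem exists_nbhd_linearIndependent [Module.Finite R A] {ι : Type*} [Fintype ι] (v : ι → A)
    (q : PrimeSpectrum R)
    (hspan : Submodule.span q.asIdeal.ResidueField
      (Set.range fun i => (1 : q.asIdeal.ResidueField) ⊗ₜ[R] v i) = ⊤) :
    ∃ f : R, f ∉ q.asIdeal ∧ ∀ P : PrimeSpectrum R, f ∉ P.asIdeal →
      Module.finrank P.asIdeal.ResidueField (P.asIdeal.ResidueField ⊗[R] A) = Fintype.card ι →
      LinearIndependent P.asIdeal.ResidueField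
        (fun i => (1 : P.asIdeal.ResidueField) ⊗ₜ[R] v i) := by
  classical
  set N : Submodule R A := Submodule.span R (Set.range v) with hN
  -- the quotient has trivial fibre at q
  have hsub : Subsingleton (q.asIdeal.ResidueField ⊗[R] (A ⧸ N)) := by
    have hsurj : Function.Surjective (N.mkQ.baseChange q.asIdeal.ResidueField) :=
      LinearMap.lTensor_surjective _ N.mkQ_surjective
    have hzero : ∀ x, N.mkQ.baseChange q.asIdeal.ResidueField x = 0 := by
      intro x
      have hx : x ∈ Submodule.span q.asIdeal.ResidueField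
          (Set.range fun i => (1 : q.asIdeal.ResidueField) ⊗ₜ[R] v i) := by
        rw [hspan]; trivial
      induction hx using Submodule.span_induction with
      | mem y hy =>
          obtain ⟨i, rfl⟩ := hy
          show N.mkQ.baseChange q.asIdeal.ResidueField (1 ⊗ₜ[R] v i) = 0
          rw [LinearMap.baseChange_tmul]
          have : N.mkQ (v i) = 0 := by
            rw [Submodule.mkQ_apply, Submodule.Quotient.mk_eq_zero]
            exact Submodule.subset_span ⟨i, rfl⟩
          rw [this, TensorProduct.tmul_zero]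
      | zero => exact map_zero _
      | add x y _ _ hx hy => rw [map_add, hx, hy, add_zero]
      | smul c x _ hx => rw [map_smul, hx, smul_zero]
    refine ⟨fun x y => ?_⟩
    obtain ⟨x', rfl⟩ := hsurj x
    obtain ⟨y', rfl⟩ := hsurj y
    rw [hzero, hzero]
  have hnotsupp : q ∉ Module.support R (A ⧸ N) := by
    rw [Module.mem_support_iff_nontrivial_residueField_tensorProduct]
    exact not_nontrivial _
  rw [Module.mem_support_iff_of_finite] at hnotsupp
  obtain ⟨f, hfann, hfq⟩ := SetLike.not_le_iff_exists.mp hnotsupp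
  refine ⟨f, hfq, fun P hfP hcard => ?_⟩
  have hfmem : ∀ a : A, f • a ∈ N := by
    intro a
    have := Module.mem_annihilator.mp hfann (N.mkQ a)
    rw [← map_smul, Submodule.mkQ_apply, Submodule.Quotient.mk_eq_zero] at this
    exact this
  have hfk : algebraMap R P.asIdeal.ResidueField f ≠ 0 := by
    intro h
    exact hfP (Ideal.algebraMap_residueField_eq_zero.mp h)
  -- spanning at P
  have hspanP : ⊤ ≤ Submodule.span P.asIdeal.ResidueField
      (Set.range fun i => (1 : P.asIdeal.ResidueField) ⊗ₜ[R] v i) := by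
    intro x hx
    clear hx
    induction x using TensorProduct.induction_on with
    | zero => exact Submodule.zero_mem _
    | add x y hx hy => exact Submodule.add_mem _ hx hy
    | tmul c a =>
        have h1 : c ⊗ₜ[R] a = (c * (algebraMap R P.asIdeal.ResidueField f)⁻¹) •
            ((1 : P.asIdeal.ResidueField) ⊗ₜ[R] (f • a)) := by
          rw [TensorProduct.tmul_smul, ← algebraMap_smul P.asIdeal.ResidueField f, smul_smul,
            mul_assoc, inv_mul_cancel₀ hfk, mul_one, TensorProduct.smul_tmul', smul_eq_mul, mul_one]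
        rw [h1]
        refine Submodule.smul_mem _ _ ?_
        have h2 : ∀ y ∈ N, (1 : P.asIdeal.ResidueField) ⊗ₜ[R] y ∈
            Submodule.span P.asIdeal.ResidueField
              (Set.range fun i => (1 : P.asIdeal.ResidueField) ⊗ₜ[R] v i) := by
          intro y hy
          induction hy using Submodule.span_induction with
          | mem y hy =>
              obtain ⟨i, rfl⟩ := hy
              exact Submodule.subset_span ⟨i, rfl⟩
          | zero => rw [TensorProduct.tmul_zero]; exact Submodule.zero_mem _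
          | add x y _ _ hx hy => rw [TensorProduct.tmul_add]; exact Submodule.add_mem _ hx hy
          | smul r x _ hx =>
              rw [TensorProduct.tmul_smul, ← algebraMap_smul P.asIdeal.ResidueField r]
              exact Submodule.smul_mem _ _ hx
        exact h2 _ (hfmem a)
  exact linearIndependent_of_top_le_span_of_card_eq_finrank hspanP hcard.symm

theorem main [Module.Finite R A] (h2 : IsUnit (2 : R)) (N : ℕ)
    (hrank : ∀ P : PrimeSpectrum R,
      Module.finrank P.asIdeal.ResidueField (P.asIdeal.ResidueField ⊗[R] A) = N)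
    (q : PrimeSpectrum R) (hq : ∀ r, lam r - r ∈ q.asIdeal) :
    ∃ f : R, f ∉ q.asIdeal ∧ ∀ q' : PrimeSpectrum R, (∀ r, lam r - r ∈ q'.asIdeal) →
      f ∉ q'.asIdeal →
      Module.finrank q'.asIdeal.ResidueField (symSpan t q') =
        Module.finrank q.asIdeal.ResidueField (symSpan t q) := by
  classical
  obtain ⟨b, hbsub, hbspan, hbli⟩ := exists_linearIndependent q.asIdeal.ResidueField
    (Set.range fun a : {a : A // t a = a} => (1 : q.asIdeal.ResidueField) ⊗ₜ[R] (a : A))
  obtain ⟨b', hb'sub, hb'span, hb'li⟩ := exists_linearIndependent q.asIdeal.ResidueField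
    (Set.range fun a : {a : A // t a = -a} => (1 : q.asIdeal.ResidueField) ⊗ₜ[R] (a : A))
  haveI : Fintype b := hbli.setFinite.fintype
  haveI : Fintype b' := hb'li.setFinite.fintype
  have hg : ∀ x : b, ∃ a : {a : A // t a = a}, (1 : q.asIdeal.ResidueField) ⊗ₜ[R] (a : A) = x :=
    fun x => hbsub x.2
  have hg' : ∀ x : b', ∃ a : {a : A // t a = -a},
      (1 : q.asIdeal.ResidueField) ⊗ₜ[R] (a : A) = x := fun x => hb'sub x.2
  choose g hg using hg
  choose g' hg' using hg'
  let v : b ⊕ b' → A := Sum.elim (fun x => (g x : A)) (fun x => (g' x : A))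
  have hv : (fun i => (1 : q.asIdeal.ResidueField) ⊗ₜ[R] v i) =
      Sum.elim (fun x : b => (x : q.asIdeal.ResidueField ⊗[R] A))
        (fun x : b' => (x : q.asIdeal.ResidueField ⊗[R] A)) := by
    funext i
    rcases i with x | x
    · exact hg x
    · exact hg' x
  have hsb : Submodule.span q.asIdeal.ResidueField
      (Set.range (fun x : b => (x : q.asIdeal.ResidueField ⊗[R] A))) = symSpan t q := by
    rw [Subtype.range_coe]; exact hbspan
  have hsb' : Submodule.span q.asIdeal.ResidueField
      (Set.range (fun x : b' => (x : q.asIdeal.ResidueField ⊗[R] A))) = skewSpan t q := by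
    rw [Subtype.range_coe]; exact hb'span
  have hli : LinearIndependent q.asIdeal.ResidueField
      (fun i => (1 : q.asIdeal.ResidueField) ⊗ₜ[R] v i) := by
    rw [hv]
    refine LinearIndependent.sum_type hbli hb'li ?_
    rw [hsb, hsb', disjoint_iff]
    exact inf_eq_bot t q hq h2
  have hspan : Submodule.span q.asIdeal.ResidueField
      (Set.range fun i => (1 : q.asIdeal.ResidueField) ⊗ₜ[R] v i) = ⊤ := by
    rw [hv, Set.Sum.elim_range, Submodule.span_union, hsb, hsb']
    exact sup_eq_top t h2 q
  have hcard : Fintype.card (b ⊕ b') = N := by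
    rw [← hrank q]
    exact (Module.finrank_eq_card_basis (Module.Basis.mk hli hspan.ge)).symm
  have hcb : Module.finrank q.asIdeal.ResidueField (symSpan t q) = Fintype.card b := by
    rw [← hsb]; exact finrank_span_eq_card hbli
  obtain ⟨f, hfq, hf⟩ := exists_nbhd_linearIndependent v q hspan
  refine ⟨f, hfq, fun q' hq' hfq' => ?_⟩
  have hli' := hf q' hfq' ((hrank q').trans hcard.symm)
  -- the two halves
  let w : b → symSpan t q' := fun x => ⟨(1 : q'.asIdeal.ResidueField) ⊗ₜ[R] (g x : A),
    Submodule.subset_span ⟨g x, rfl⟩⟩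
  let w' : b' → skewSpan t q' := fun x => ⟨(1 : q'.asIdeal.ResidueField) ⊗ₜ[R] (g' x : A),
    Submodule.subset_span ⟨g' x, rfl⟩⟩
  have hw : LinearIndependent q'.asIdeal.ResidueField w := by
    refine LinearIndependent.of_comp (symSpan t q').subtype ?_
    exact hli'.comp Sum.inl Sum.inl_injective
  have hw' : LinearIndependent q'.asIdeal.ResidueField w' := by
    refine LinearIndependent.of_comp (skewSpan t q').subtype ?_
    exact hli'.comp Sum.inr Sum.inr_injective
  have h1 := hw.fintype_card_le_finrank
  have h2' := hw'.fintype_card_le_finrank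
  have h3 := finrank_add t q' hq' h2
  rw [hrank q', ← hcard, Fintype.card_sum] at h3
  rw [hcb]
  omega

theorem main' {S : Type*} [CommRing S] [Algebra S R]
    (lam' : R ≃ₐ[S] R) (h2 : IsUnit (2 : S)) (n : ℕ) (hA : AzInv.IsAzumayaDeg R A n)
    (t : AzInv.LamInv R A lam')
    (q : PrimeSpectrum R) (hq : ∀ r : R, lam' r - r ∈ q.asIdeal) :
    ∃ f : R, f ∉ q.asIdeal ∧ ∀ q' : PrimeSpectrum R, (∀ r : R, lam' r - r ∈ q'.asIdeal) →
      f ∉ q'.asIdeal →
      (Module.finrank q'.asIdeal.ResidueField
          (Submodule.span q'.asIdeal.ResidueField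
            (Set.range fun a : {a : A // t a = a} =>
              (1 : q'.asIdeal.ResidueField) ⊗ₜ[R] (a : A))) = Nat.choose (n + 1) 2 ↔
        Module.finrank q.asIdeal.ResidueField
            (Submodule.span q.asIdeal.ResidueField
              (Set.range fun a : {a : A // t a = a} =>
                (1 : q.asIdeal.ResidueField) ⊗ₜ[R] (a : A))) = Nat.choose (n + 1) 2) := by
  haveI : IsAzumaya R A := hA.1
  have h2R : IsUnit (2 : R) := by
    have := h2.map (algebraMap S R)
    rwa [map_ofNat] at this
  have hrank : ∀ P : PrimeSpectrum R,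
      Module.finrank P.asIdeal.ResidueField (P.asIdeal.ResidueField ⊗[R] A) = n ^ 2 := by
    intro P
    rw [← hA.2 P, Module.rankAtStalk_eq]
  obtain ⟨f, hfq, hf⟩ := main t h2R (n ^ 2) hrank q hq
  refine ⟨f, hfq, fun q' hq' hfq' => ?_⟩
  have := hf q' hq' hfq'
  unfold symSpan at this
  rw [this]

end Groth.Agent.H7.AzSign
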