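import Mathlib
import Groth.Prelude.Def_EtMil
import Groth.Agent.Lib.Helper7.Azu4
universe u v w

namespace Groth.Agent.H7.Azu

open TensorProduct MulOpposite

section Glue
open Groth.Agent.H7.Milnor
variable {B' B A' A : Type u} [CommRing B'] [CommRing B] [CommRing A'] [CommRing A]
  [Algebra B' B] [Algebra B' A'] [Algebra B A] [Algebra A' A] [Algebra B' A]
  [IsScalarTower B' B A] [IsScalarTower B' A' A]

theorem S14965 (hsq : EtMil.IsFibreSquare B' B A' A)
    (N : Type u) [Ring N] [Algebra B N] [Algebra B' N] [IsScalarTower B' B N] [IsAzumaya B N]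
    (M' : Type u) [Ring M'] [Algebra A' M'] [Algebra B' M'] [IsScalarTower B' A' M']
    [IsAzumaya A' M']
    (φ : A ⊗[B] N ≃ₐ[A] A ⊗[A'] M')
    (D' : Type u) [Ring D'] [Algebra B' D'] (π₁ : D' →ₐ[B'] N) (π₂ : D' →ₐ[B'] M')
    (hinj : ∀ d : D', π₁ d = 0 → π₂ d = 0 → d = 0)
    (himg : ∀ (n : N) (m' : M'), φ ((1 : A) ⊗ₜ[B] n) = (1 : A) ⊗ₜ[A'] m' ↔
      ∃ d : D', π₁ d = n ∧ π₂ d = m') :
    IsAzumaya B' D' := by
  rw [S14956 hsq D']
  set φl : A ⊗[B] N ≃ₗ[A] A ⊗[A'] M' := φ.toLinearEquiv with hφl
  -- D' ≃ glue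
  have hmem : ∀ d : D', (LinearMap.prod π₁.toLinearMap π₂.toLinearMap) d ∈ EtMil.glue B' φl := by
    intro d
    exact (himg (π₁ d) (π₂ d)).mpr ⟨d, rfl, rfl⟩
  set e₀ : D' →ₗ[B'] EtMil.glue B' φl :=
    LinearMap.codRestrict _ (LinearMap.prod π₁.toLinearMap π₂.toLinearMap) hmem with he₀
  have he₀b : Function.Bijective e₀ := by
    constructor
    · rw [injective_iff_map_eq_zero]
      intro d hd
      have h1 := congrArg (fun x : EtMil.glue B' φl => x.1.1) hd
      have h2 := congrArg (fun x : EtMil.glue B' φl => x.1.2) hd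
      exact hinj d h1 h2
    · rintro ⟨⟨n, m'⟩, hx⟩
      obtain ⟨d, hd1, hd2⟩ := (himg n m').mp hx
      refine ⟨d, ?_⟩
      apply Subtype.ext
      exact Prod.ext hd1 hd2
  set e : D' ≃ₗ[B'] EtMil.glue B' φl := LinearEquiv.ofBijective e₀ he₀b with he
  constructor
  · -- B side
    set f₁ : B ⊗[B'] D' →ₐ[B] N :=
      Algebra.TensorProduct.lift (Algebra.ofId B N) π₁
        (fun b d => Algebra.commute_algebraMap_left b (π₁ d)) with hf₁
    have hfun : ∀ x : B ⊗[B'] D', f₁ x =
        LinearMap.liftBaseChange B (EtMil.glueFst B' φl) (e.baseChange B' B _ _ x) := by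
      intro x
      induction x using TensorProduct.induction_on with
      | zero => simp
      | tmul b d =>
        rw [hf₁, Algebra.TensorProduct.lift_tmul, LinearEquiv.baseChange_tmul,
          LinearMap.liftBaseChange_tmul, Algebra.ofId_apply, ← Algebra.smul_def]
        rfl
      | add x y hx hy => rw [map_add, map_add, map_add, hx, hy]
    have hbij : Function.Bijective f₁ := by
      have : (f₁ : B ⊗[B'] D' → N) =
          (LinearMap.liftBaseChange B (EtMil.glueFst B' φl)) ∘ (e.baseChange B' B _ _) := by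
        funext x; exact hfun x
      rw [this]
      exact (S2019_fst hsq φl).comp (e.baseChange B' B _ _).bijective
    exact IsAzumaya.of_AlgEquiv _ _ _ (AlgEquiv.ofBijective f₁ hbij).symm
  · set f₂ : A' ⊗[B'] D' →ₐ[A'] M' :=
      Algebra.TensorProduct.lift (Algebra.ofId A' M') π₂
        (fun b d => Algebra.commute_algebraMap_left b (π₂ d)) with hf₂
    have hfun : ∀ x : A' ⊗[B'] D', f₂ x =
        LinearMap.liftBaseChange A' (EtMil.glueSnd B' φl) (e.baseChange B' A' _ _ x) := by
      intro x
      induction x using TensorProduct.induction_on with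
      | zero => simp
      | tmul b d =>
        rw [hf₂, Algebra.TensorProduct.lift_tmul, LinearEquiv.baseChange_tmul,
          LinearMap.liftBaseChange_tmul, Algebra.ofId_apply, ← Algebra.smul_def]
        rfl
      | add x y hx hy => rw [map_add, map_add, map_add, hx, hy]
    have hbij : Function.Bijective f₂ := by
      have : (f₂ : A' ⊗[B'] D' → M') =
          (LinearMap.liftBaseChange A' (EtMil.glueSnd B' φl)) ∘ (e.baseChange B' A' _ _) := by
        funext x; exact hfun x
      rw [this]
      exact (S2019_snd hsq φl).comp (e.baseChange B' A' _ _).bijective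
    exact IsAzumaya.of_AlgEquiv _ _ _ (AlgEquiv.ofBijective f₂ hbij).symm

end Glue

end Groth.Agent.H7.Azu
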