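import Mathlib
import Groth.Agent.Lib.Helper7.Azu3
universe u v w

namespace Groth.Agent.H7.Azu

open TensorProduct MulOpposite

section FFDescent
variable (R : Type u) [CommRing R] (S : Type v) [CommRing S] [Algebra R S]
  [Module.FaithfullyFlat R S]

/-- finite presentation of modules descends along faithfully flat maps. -/
theorem finitePresentation_of_faithfullyFlat (M : Type w) [AddCommGroup M] [Module R M]
    [Module.FinitePresentation S (S ⊗[R] M)] : Module.FinitePresentation R M := by
  have : Module.Finite R M := Module.Finite.of_finite_tensorProduct_of_faithfullyFlat S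
  obtain ⟨n, p, hp⟩ := Module.Finite.exists_fin' R M
  set k := (LinearMap.ker p).subtype with hk
  have hex : Function.Exact k p := by
    intro x
    constructor
    · intro h; exact ⟨⟨x, h⟩, rfl⟩
    · rintro ⟨⟨y, hy⟩, rfl⟩; exact hy
  have hk' : Function.Injective (k.baseChange S) :=
    Module.Flat.lTensor_preserves_injective_linearMap k (Submodule.injective_subtype _)
  have hp' : Function.Surjective (p.baseChange S) := LinearMap.lTensor_surjective S hp
  have hex' : Function.Exact (k.baseChange S) (p.baseChange S) := lTensor_exact S hex hp
  have hfg : (LinearMap.ker (p.baseChange S)).FG :=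
    Module.FinitePresentation.fg_ker (p.baseChange S) hp'
  rw [LinearMap.exact_iff.mp hex'] at hfg
  have : Module.Finite S (LinearMap.range (k.baseChange S)) := Module.Finite.iff_fg.mpr hfg
  have : Module.Finite S (S ⊗[R] (LinearMap.ker p)) :=
    Module.Finite.equiv (LinearEquiv.ofInjective (k.baseChange S) hk').symm
  have : Module.Finite R (LinearMap.ker p) :=
    Module.Finite.of_finite_tensorProduct_of_faithfullyFlat S
  exact Module.finitePresentation_of_free_of_surjective p hp (Module.Finite.iff_fg.mp inferInstance)

/-- S14967: Azumaya descends along faithfully flat maps. -/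
theorem isAzumaya_of_faithfullyFlat (B : Type w) [Ring B] [Algebra R B]
    [IsAzumaya S (S ⊗[R] B)] : IsAzumaya R B := by
  have : Module.Finite R B := Module.Finite.of_finite_tensorProduct_of_faithfullyFlat S
  have : Module.FinitePresentation S (S ⊗[R] B) := Module.finitePresentation_of_projective _ _
  have : Module.FinitePresentation R B := finitePresentation_of_faithfullyFlat R S B
  have : Module.Flat R B := Module.Flat.of_flat_tensorProduct R B S
  have hproj : Module.Projective R B := Module.Flat.projective_of_finitePresentation
  have hfaith : FaithfulSMul R B := by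
    constructor
    intro r₁ r₂ h
    apply FaithfulSMul.algebraMap_injective R S
    apply FaithfulSMul.eq_of_smul_eq_smul (α := S ⊗[R] B)
    intro x
    induction x using TensorProduct.induction_on with
    | zero => rw [smul_zero, smul_zero]
    | tmul s b =>
      rw [TensorProduct.smul_tmul', TensorProduct.smul_tmul', smul_eq_mul, smul_eq_mul,
        ← Algebra.smul_def, ← Algebra.smul_def, TensorProduct.smul_tmul, TensorProduct.smul_tmul,
        h b]
    | add x y hx hy => rw [smul_add, smul_add, hx, hy]
  refine { toProjective := hproj, toFaithfulSMul := hfaith, toFinite := inferInstance, bij := ?_ }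
  have h1 := baseChange_mulLeftRight_bijective R S B IsAzumaya.bij
  exact (Module.FaithfullyFlat.lTensor_bijective_iff_bijective R S
    (AlgHom.mulLeftRight R B).toLinearMap).mp h1

end FFDescent

end Groth.Agent.H7.Azu
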