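import Mathlib
import Groth.Agent.Lib.Helper7.BF2
import Groth.Agent.Lib.Helper7.RN1
import Groth.Prelude

set_option autoImplicit false

namespace Groth.Agent.H7.BF
universe u v
open Polynomial Module TensorProduct

section Norm
variable (K : Type u) [Field K] (A : Type v) [DivisionRing A] [Algebra K A]
  [FiniteDimensional K A] [Algebra.IsCentral K A]

/-- reduced norm of an element with binomial minimal polynomial. -/
theorem redNorm_of_binomial (n : ℕ) (hn : finrank K A = n ^ 2)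
    (N : A →* K) (hN : CSAGal.IsRedNorm K A N) (x : A) (r t : ℕ) (a : K)
    (hrt : n = r * t) (hmin : minpoly K x = X ^ r - C a) :
    N x = (-1) ^ n * (-a) ^ t := by
  obtain ⟨F, _, _, _, ι, y, hy, hF, hcp⟩ := exists_subfield K A x
  obtain ⟨K₁, _, _, _, n₁, φ₁, h₁⟩ := hN
  have hnn : n₁ = n := by
    have h1 := CSA.finrank_eq_of_split K A K₁ n₁ φ₁
    rw [hn, pow_two] at h1
    exact (Nat.mul_self_inj.mp h1).symm
  subst hnn
  have hn0 : n₁ ≠ 0 := by
    rintro rfl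
    have := Module.finrank_pos (R := K) (M := A)
    omega
  have hr0 : r ≠ 0 := by
    rintro rfl
    apply hn0
    rw [hrt, zero_mul]
  have hdeg : (minpoly K x).natDegree = r := by
    rw [hmin]; exact natDegree_X_pow_sub_C
  have h1 := RN.map_charpoly_mulLeft K A K₁ n₁ φ₁ x
  have h2 := RN.charpoly_mulLeft_subfield K A F ι (t * n₁)
    (by rw [hn, hF, hdeg, pow_two]; nth_rewrite 1 [hrt]; ring) y
  rw [hy, hcp, pow_mul] at h2
  rw [h2, Polynomial.map_pow] at h1
  have hmon : (minpoly K x).Monic := minpoly.monic (Algebra.IsIntegral.isIntegral x)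
  have h3 := RN.monic_pow_inj ((hmon.pow t).map _) (Matrix.charpoly_monic _) n₁ hn0 h1
  apply (algebraMap K K₁).injective
  rw [h₁, Matrix.det_eq_sign_charpoly_coeff, ← h3, Polynomial.coeff_map, Fintype.card_fin, hmin,
    Polynomial.coeff_zero_eq_eval_zero, eval_pow, eval_sub, eval_pow, eval_X, eval_C, zero_pow hr0, zero_sub]
  simp

end Norm

section Arith
variable {K : Type u} [Field K] (p : ℕ) [Fact p.Prime] [CharP K p]

/-- `X^r - a` with `p ∣ r` and `a` a `p`-th power is reducible. -/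
theorem not_irreducible_of_pow (r : ℕ) (hr : 0 < r) (hpr : p ∣ r) (a₁ : K) :
    ¬ Irreducible (X ^ r - C (a₁ ^ p) : K[X]) := by
  obtain ⟨r', rfl⟩ := hpr
  have hr' : 0 < r' := Nat.pos_of_mul_pos_left (by rwa [mul_comm] at hr)
  have h1 : (X ^ (p * r') - C (a₁ ^ p) : K[X]) = (X ^ r' - C a₁) ^ p := by
    rw [sub_pow_char, ← pow_mul, mul_comm, C_pow]
  rw [h1]
  intro hirr
  have hp : 2 ≤ p := (Fact.out : p.Prime).two_le
  have hne : ¬ IsUnit (X ^ r' - C a₁ : K[X]) := by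
    intro hu
    have := natDegree_eq_zero_of_isUnit hu
    rw [natDegree_X_pow_sub_C] at this
    omega
  obtain ⟨q, hq⟩ : ∃ q, p = q + 2 := ⟨p - 2, by omega⟩
  rw [hq, pow_succ] at hirr
  rcases hirr.isUnit_or_isUnit rfl with h | h
  · exact hne (isUnit_of_mul_isUnit_right (by rwa [pow_succ] at h))
  · exact hne h

/-- `a^t₁ ∈ K^p` with `t₁` prime to `p` implies `a ∈ K^p`. -/
theorem exists_pow_eq_of_coprime (a c : K) (ha : a ≠ 0) (t₁ : ℕ) (ht : ¬ p ∣ t₁)
    (h : a ^ t₁ = c ^ p) : ∃ a₁ : K, a = a₁ ^ p := by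
  have hp : p.Prime := Fact.out
  have hcop : Nat.Coprime t₁ p := (Nat.Coprime.symm ((Nat.Prime.coprime_iff_not_dvd hp).mpr ht))
  have hbez := Int.gcd_eq_gcd_ab t₁ p
  rw [Int.gcd_natCast_natCast, hcop, Nat.cast_one] at hbez
  refine ⟨c ^ (Int.gcdA t₁ p) * a ^ (Int.gcdB t₁ p), ?_⟩
  have h1 : a = a ^ (1 : ℤ) := (zpow_one a).symm
  rw [mul_pow, ← zpow_natCast, ← zpow_natCast, ← zpow_mul, ← zpow_mul]
  nth_rewrite 1 [h1, hbez]
  rw [zpow_add₀ ha, zpow_mul, zpow_natCast, h, ← zpow_natCast, ← zpow_mul,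
    mul_comm (p : ℤ), mul_comm (p : ℤ)]

/-- the sign `±1` is its own `p^m`-th power. -/
theorem sign_pow (e m : ℕ) : (((-1 : K) ^ e) ^ (p ^ m)) = (-1) ^ e := by
  rw [← pow_mul, mul_comm, pow_mul, neg_one_pow_char_pow]

end Arith

section Main
variable (K : Type u) [Field K] (p : ℕ) [Fact p.Prime] [CharP K p]
  (A : Type v) [DivisionRing A] [Algebra K A] [FiniteDimensional K A] [Algebra.IsCentral K A]

/-- **S15185** -/
theorem pow_coprime_mem (hK : ∀ n : ℕ, 0 < n → (X ^ n - 1 : K[X]).Splits)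
    (n n' m : ℕ) (hA : Module.finrank K A = n ^ 2) (hn : n = n' * p ^ m) (hn' : ¬ p ∣ n')
    (N : A →* K) (hN : CSAGal.IsRedNorm K A N)
    (x : A) (hx : x ≠ 0) (hxr : ∃ r : ℕ, 0 < r ∧ x ^ r ∈ (algebraMap K A).range)
    (hNx : ∃ b : K, b ≠ 0 ∧ N x = b ^ (p ^ m)) :
    x ^ n' ∈ (algebraMap K A).range := by
  have hp : p.Prime := Fact.out
  obtain ⟨r, a, hr0, ⟨t, ht⟩, ha0, hmin, hxr'⟩ := exists_minpoly_binomial K A hK n hA x hx hxr
  obtain ⟨b, hb0, hNb⟩ := hNx
  have hnorm := redNorm_of_binomial K A n hA N hN x r t a ht hmin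
  have hirr : Irreducible (X ^ r - C a : K[X]) := by
    rw [← hmin]; exact minpoly.irreducible (Algebra.IsIntegral.isIntegral x)
  have hn0 : n ≠ 0 := by
    rintro rfl
    have := Module.finrank_pos (R := K) (M := A)
    omega
  have ht0 : t ≠ 0 := by
    rintro rfl
    apply hn0
    rw [ht, mul_zero]
  -- key claim: p ∤ r
  have hpr : ¬ p ∣ r := by
    intro hpr
    -- a^t = (ε b)^(p^m)
    have h1 : a ^ t = ((-1) ^ (n + t) * b) ^ (p ^ m) := by
      rw [mul_pow, sign_pow, ← hNb, hnorm, neg_pow a t, ← mul_assoc, ← mul_assoc, ← pow_add,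
        ← pow_add]
      have h2 : n + t + n + t = 2 * (n + t) := by ring
      rw [h2, pow_mul]
      simp
    -- write t = p^s * t₁
    obtain ⟨s, t₁, ht₁, hts⟩ := Nat.exists_eq_pow_mul_and_not_dvd ht0 p hp.ne_one
    -- s < m
    have hsm : s < m := by
      by_contra hsm
      push Not at hsm
      obtain ⟨r', rfl⟩ := hpr
      have h2 : p ^ (m + 1) ∣ n' * p ^ m := by
        rw [← hn, ht, hts]
        obtain ⟨d, rfl⟩ := Nat.exists_eq_add_of_le hsm
        refine ⟨r' * p ^ d * t₁, ?_⟩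
        ring
      rw [pow_succ, mul_comm n'] at h2
      exact hn' (Nat.dvd_of_mul_dvd_mul_left (pow_pos hp.pos m) h2)
    obtain ⟨d, rfl⟩ := Nat.exists_eq_add_of_lt hsm
    have h2 : (a ^ t₁) ^ (p ^ s) = ((((-1) ^ (n + t) * b) ^ (p ^ d)) ^ p) ^ (p ^ s) := by
      rw [← pow_mul, ← pow_mul, ← pow_mul, mul_comm t₁, ← hts, h1]
      congr 1
      ring
    have h3 := iterateFrobenius_inj K p s (by simpa [iterateFrobenius_def] using h2)
    obtain ⟨a₁, rfl⟩ := exists_pow_eq_of_coprime p a _ ha0 t₁ ht₁ h3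
    exact not_irreducible_of_pow p r hr0 hpr a₁ hirr
  have hrn' : r ∣ n' := by
    have h1 : r ∣ n' * p ^ m := ⟨t, by rw [← hn, ht]⟩
    exact (Nat.Coprime.dvd_of_dvd_mul_right
      (Nat.Coprime.pow_right m ((Nat.Prime.coprime_iff_not_dvd hp).mpr hpr).symm) h1)
  obtain ⟨e, rfl⟩ := hrn'
  exact ⟨a ^ e, by rw [map_pow, ← hxr', ← pow_mul]⟩

end Main

end Groth.Agent.H7.BF
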