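import Mathlib
import Groth.Agent.Lib.Helper7.CSA9
import Groth.Agent.Lib.Helper7.Br2
import Groth.Agent.Lib.Helper7.RN1

set_option autoImplicit false

/-! reduced characteristic polynomial of a central simple algebra, by Galois descent. -/

namespace Groth.Agent.H7.RC
universe u v w
open Polynomial Module TensorProduct
open scoped MatrixGroups
attribute [local instance] CSAGal.matrixAction GpH1.unitsAction

theorem sub_dvd_aeval_sub {R : Type*} {S : Type*} [CommRing R] [Ring S] [Algebra R S] (x y : S)
    (h : Commute x y) (μ : R[X]) :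
    ∃ G : S, aeval x μ - aeval y μ = (x - y) * G := by
  induction μ using Polynomial.induction_on' with
  | add p q hp hq =>
    obtain ⟨G₁, h₁⟩ := hp
    obtain ⟨G₂, h₂⟩ := hq
    exact ⟨G₁ + G₂, by rw [map_add, map_add, mul_add, ← h₁, ← h₂]; abel⟩
  | monomial n a =>
    refine ⟨a • ∑ i ∈ Finset.range n, x ^ i * y ^ (n - 1 - i), ?_⟩
    rw [aeval_monomial, aeval_monomial, mul_smul_comm, h.mul_geom_sum₂, ← Algebra.smul_def,
      ← Algebra.smul_def, smul_sub]

/-- the characteristic polynomial divides a power of any annihilating polynomial. -/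
theorem charpoly_dvd_pow {R : Type*} [CommRing R] {ι : Type*} [Fintype ι] [DecidableEq ι]
    (M : Matrix ι ι R) (μ : R[X]) (h : aeval M μ = 0) : M.charpoly ∣ μ ^ Fintype.card ι := by
  let S := Matrix ι ι R[X]
  let x : S := algebraMap R[X] S X
  let ψ : Matrix ι ι R →ₐ[R] S := (Algebra.ofId R R[X]).mapMatrix
  let y : S := ψ M
  have hxy : Commute x y := Algebra.commute_algebraMap_left _ _
  obtain ⟨G, hG⟩ := sub_dvd_aeval_sub (R := R) x y hxy μ
  have h1 : aeval x μ = algebraMap R[X] S μ := by
    rw [aeval_algebraMap_apply, aeval_X_left_apply]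
  have h2 : aeval y μ = 0 := by rw [aeval_algHom_apply, h, map_zero]
  have h3 : x - y = Matrix.charmatrix M := by
    ext i j
    by_cases hij : i = j
    · subst hij
      simp [x, y, ψ, S, Matrix.charmatrix_apply, Matrix.algebraMap_matrix_apply, Algebra.ofId_apply]
    · simp [x, y, ψ, S, Matrix.charmatrix_apply, Matrix.algebraMap_matrix_apply, Algebra.ofId_apply,
        hij]
  rw [h1, h2, sub_zero, h3] at hG
  have h4 := congrArg Matrix.det hG
  rw [Matrix.det_mul, Algebra.algebraMap_eq_smul_one, Matrix.det_smul, Matrix.det_one, mul_one]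
    at h4
  exact ⟨G.det, h4⟩

section Descent
variable (k : Type u) [Field k] (A : Type v) [Ring A] [Algebra k A]
  [Algebra.IsCentral k A] [IsSimpleRing A] [FiniteDimensional k A]

/-- the reduced characteristic polynomial exists over the base field. -/
theorem exists_redCharpoly (n : ℕ) (hn : finrank k A = n ^ 2) (a : A) :
    ∃ P : k[X], P.Monic ∧ P.natDegree = n ∧ P ^ n = (LinearMap.mulLeft k a).charpoly ∧
      ∀ μ : k[X], aeval a μ = 0 → P ∣ μ ^ n := by
  obtain ⟨K, _, _, hfd, hgal, n', hn', ⟨φ⟩⟩ := CSA.exists_finite_galois_split k A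
  have hnn : n' = n := by
    have h1 := CSA.finrank_eq_of_split k A K n' φ
    rw [hn, pow_two] at h1
    exact (Nat.mul_self_inj.mp h1).symm
  subst hnn
  haveI : NeZero n' := ⟨hn'⟩
  obtain ⟨D, hD⟩ := Br.exists_datum (k := k) (K := K) (A := A) φ
  set M := φ (1 ⊗ₜ[k] a) with hM
  -- invariance of the charpoly
  have hinv : ∀ σ : K ≃ₐ[k] K, M.charpoly.map (σ : K →+* K) = M.charpoly := by
    intro σ
    have h1 := D.hφ σ (1 ⊗ₜ[k] a)
    rw [TensorProduct.smul_tmul', smul_one, hD, ← hM] at h1
    have h2 : σ • M = M.map (σ : K →+* K) := rfl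
    rw [← Matrix.charpoly_map, ← h2]
    conv_rhs => rw [h1]
    rw [Matrix.coe_units_inv]
    exact (Matrix.charpoly_units_conj (D.g σ) (σ • M)).symm
  have hlift : M.charpoly ∈ Polynomial.lifts (algebraMap k K) := by
    rw [Polynomial.lifts_iff_coeff_lifts]
    intro i
    rw [IsGalois.mem_range_algebraMap_iff_fixed]
    intro σ
    have h1 := congrArg (fun q => q.coeff i) (hinv σ)
    simpa [Polynomial.coeff_map] using h1
  obtain ⟨P, hP, hdeg, hmon⟩ := Polynomial.lifts_and_natDegree_eq_and_monic hlift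
    (Matrix.charpoly_monic M)
  refine ⟨P, hmon, ?_, ?_, ?_⟩
  · rw [hdeg, Matrix.charpoly_natDegree_eq_dim, Fintype.card_fin]
  · apply Polynomial.map_injective (algebraMap k K) (algebraMap k K).injective
    rw [Polynomial.map_pow, hP, RN.map_charpoly_mulLeft k A K n' φ a]
  · intro μ hμ
    rw [← Polynomial.map_dvd_map' (algebraMap k K), hP, Polynomial.map_pow]
    have h1 := charpoly_dvd_pow M (μ.map (algebraMap k K)) ?_
    · rwa [Fintype.card_fin] at h1
    · let ψ : A →ₐ[k] Matrix (Fin n') (Fin n') K :=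
        (φ.restrictScalars k).toAlgHom.comp (Algebra.TensorProduct.includeRight)
      have h2 : ψ a = M := rfl
      rw [aeval_map_algebraMap, ← h2, aeval_algHom_apply, hμ, map_zero]

end Descent

end Groth.Agent.H7.RC
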