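import Mathlib
import Groth.Agent.Lib.Helper7.BF1
import Groth.Agent.Lib.Helper7.RC1

set_option autoImplicit false

namespace Groth.Agent.H7.BF
universe u v
open Polynomial Module

section
variable {K : Type u} [Field K]

theorem exists_multiset_of_forall (r : ℕ) (t : Multiset K[X])
    (h : ∀ q ∈ t, ∃ a : K, q = X ^ r - C a) :
    ∃ s : Multiset K, t = s.map fun a : K => (X ^ r - C a : K[X]) := by
  induction t using Multiset.induction_on with
  | empty => exact ⟨0, by simp⟩
  | cons q t ih =>
    obtain ⟨s, hs⟩ := ih (fun q' hq' => h q' (Multiset.mem_cons_of_mem hq'))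
    obtain ⟨a, ha⟩ := h q (Multiset.mem_cons_self q t)
    exact ⟨a ::ₘ s, by rw [Multiset.map_cons, ← hs, ← ha]⟩

/-- a monic divisor of a power of `X^m - c` is a product of binomials `X^r - a`. -/
theorem exists_multiset_of_dvd_pow (r : ℕ) (μ : K[X])
    (hfac : ∀ q : K[X], Irreducible q → q.Monic → q ∣ μ → ∃ a : K, q = X ^ r - C a)
    (Q : K[X]) (hQ : Q.Monic) (N : ℕ) (hdvd : Q ∣ μ ^ N) :
    ∃ s : Multiset K, Q = (s.map fun a : K => (X ^ r - C a : K[X])).prod := by
  classical
  have hQ0 : Q ≠ 0 := hQ.ne_zero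
  have hmonic : ∀ q ∈ UniqueFactorizationMonoid.normalizedFactors Q, q.Monic := by
    intro q hq
    have hirr := UniqueFactorizationMonoid.irreducible_of_normalized_factor q hq
    have := Polynomial.monic_normalize hirr.ne_zero
    rwa [UniqueFactorizationMonoid.normalize_normalized_factor q hq] at this
  have h1 : (UniqueFactorizationMonoid.normalizedFactors Q).prod = Q := by
    have hassoc := UniqueFactorizationMonoid.prod_normalizedFactors hQ0
    refine Polynomial.eq_of_monic_of_associated ?_ hQ hassoc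
    have := Polynomial.monic_multiset_prod_of_monic
      (UniqueFactorizationMonoid.normalizedFactors Q) id hmonic
    rwa [Multiset.map_id] at this
  obtain ⟨s, hs⟩ := exists_multiset_of_forall r (UniqueFactorizationMonoid.normalizedFactors Q) (by
    intro q hq
    have hirr := UniqueFactorizationMonoid.irreducible_of_normalized_factor q hq
    have hmon : q.Monic := hmonic q hq
    have hd : q ∣ μ ^ N :=
      (UniqueFactorizationMonoid.dvd_of_mem_normalizedFactors hq).trans hdvd
    exact hfac q hirr hmon (hirr.prime.dvd_of_dvd_pow hd))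
  exact ⟨s, by rw [← hs, h1]⟩

theorem natDegree_prod_binomial (r : ℕ) (hr : 0 < r) (s : Multiset K) :
    (s.map fun a : K => (X ^ r - C a : K[X])).prod.natDegree = Multiset.card s * r := by
  rw [Polynomial.natDegree_multiset_prod_of_monic]
  · rw [Multiset.map_map]
    have : ((fun q : K[X] => q.natDegree) ∘ fun a : K => (X ^ r - C a : K[X])) = fun _ => r := by
      funext a
      exact natDegree_X_pow_sub_C
    rw [this, Multiset.map_const', Multiset.sum_replicate, smul_eq_mul]
  · intro q hq
    obtain ⟨a, -, rfl⟩ := Multiset.mem_map.mp hq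
    exact monic_X_pow_sub_C a hr.ne'

end

section Main
variable (K : Type u) [Field K] (A : Type v) [Ring A] [Algebra K A] [Algebra.IsCentral K A]
  [IsSimpleRing A] [FiniteDimensional K A]

/-- **S15167** -/
theorem minpoly_eq_prod (hK : ∀ n : ℕ, 0 < n → (X ^ n - 1 : K[X]).Splits)
    (n : ℕ) (hn : Module.finrank K A = n ^ 2)
    (x : A) (hx : IsUnit x) (hxm : ∃ m : ℕ, 0 < m ∧ x ^ m ∈ (algebraMap K A).range) :
    ∃ r : ℕ, 0 < r ∧ r ∣ n ∧ ∃ s : Multiset K,
      minpoly K x = (s.map fun a : K => (X ^ r - C a : K[X])).prod := by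
  obtain ⟨m, hm, c, hc⟩ := hxm
  have hc0 : c ≠ 0 := by
    rintro rfl
    rw [map_zero] at hc
    have h1 : IsUnit (x ^ m) := hx.pow m
    rw [← hc] at h1
    exact not_isUnit_zero h1
  obtain ⟨r, hr, hfac⟩ := exists_degree hK m hm c hc0
  have hann : aeval x (X ^ m - C c : K[X]) = 0 := by
    rw [map_sub, map_pow, aeval_X, aeval_C, hc, sub_self]
  have hint : IsIntegral K x := Algebra.IsIntegral.isIntegral x
  obtain ⟨s, hs⟩ := exists_multiset_of_dvd_pow r (X ^ m - C c) hfac (minpoly K x)
    (minpoly.monic hint) 1 (by rw [pow_one]; exact minpoly.dvd K x hann)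
  obtain ⟨P, hPmon, hPdeg, -, hPdvd⟩ := RC.exists_redCharpoly K A n hn x
  obtain ⟨s', hs'⟩ := exists_multiset_of_dvd_pow r (X ^ m - C c) hfac P hPmon n (hPdvd _ hann)
  refine ⟨r, hr, ⟨Multiset.card s', ?_⟩, s, hs⟩
  rw [← hPdeg, hs', natDegree_prod_binomial r hr, mul_comm]

end Main

end Groth.Agent.H7.BF
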