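import Mathlib
import Groth.Prelude.Def_BigSite
import Groth.Agent.Lib.Helper7.BS1

set_option autoImplicit false

universe v' u' u

open CategoryTheory CategoryTheory.Limits Opposite AlgebraicGeometry

namespace Groth.Agent.H7.BS

set_option backward.isDefEq.respectTransparency.types false in
/-- `f_big,*` then restriction to the small étale site = restriction then `f_small,*`. -/
noncomputable def pushBigResEt (K : Precoverage Scheme.{u}) {S T : Scheme.{u}} (f : T ⟶ S)
    [BigSite.AEtCont K S] [BigSite.AEtCont K T] [EtCoh.BCCont f] :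
    BigSite.pushBig K f AddCommGrpCat.{u + 1} ⋙ BigSite.resEt K S ≅
      BigSite.resEt K T ⋙ EtCoh.push f :=
  haveI : (EtCoh.bc f ⋙ EtFppf.a T).IsContinuous S.smallEtaleTopology (QuotSh.J K T) :=
    Functor.isContinuous_comp _ _ _ T.smallEtaleTopology _
  Functor.sheafPushforwardContinuousComp' (F := EtFppf.a S) (G := Over.pullback f)
      (FG := EtCoh.bc f ⋙ EtFppf.a T)
      ((MorphismProperty.Over.pullbackCompForgetIso (P := EtCoh.etaleMP) (Q := ⊤) f).symm)
      AddCommGrpCat.{u + 1} S.smallEtaleTopology (QuotSh.J K S) (QuotSh.J K T) ≪≫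
    (Functor.sheafPushforwardContinuousComp (EtCoh.bc f) (EtFppf.a T) AddCommGrpCat.{u + 1}
      S.smallEtaleTopology T.smallEtaleTopology (QuotSh.J K T)).symm

theorem S12465_main {S T S' T' : Scheme.{u}} (f : T ⟶ S) (g : S' ⟶ S) (g' : T' ⟶ T)
    (f' : T' ⟶ S') (hsq : IsPullback g' f' f g) [EtCoh.BCCont f'] :
    Nonempty (BigSite.pushBig Scheme.etalePrecoverage f AddCommGrpCat.{u + 1} ⋙
        BigSite.resEtAlong Scheme.etalePrecoverage g ≅
      BigSite.resEtAlong Scheme.etalePrecoverage g' ⋙ EtCoh.push f') :=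
  ⟨(Functor.associator _ _ _).symm ≪≫
    Functor.isoWhiskerRight (bigBaseChange Scheme.etalePrecoverage hsq AddCommGrpCat.{u + 1}) _ ≪≫
    Functor.associator _ _ _ ≪≫
    Functor.isoWhiskerLeft _ (pushBigResEt Scheme.etalePrecoverage f') ≪≫
    (Functor.associator _ _ _).symm⟩

end Groth.Agent.H7.BS
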