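import Mathlib
import Groth.Prelude.Def_BigSite
import Groth.Agent.Lib.Helper7.GT1
import Groth.Agent.Lib.Helper7.GT2

set_option autoImplicit false

universe u

open CategoryTheory CategoryTheory.Limits Opposite AlgebraicGeometry

namespace Groth.Agent.H7.BS

open Groth.Agent.H7.GT

section General

variable {C : Type*} [Category C] {X Y : C} (f : X ⟶ Y)

theorem preservesConnected_overMap (K : Type) [SmallCategory K] [IsConnected K] :
    PreservesLimitsOfShape K (Over.map f) := by
  have h1 : PreservesLimitsOfShape K (Over.map f ⋙ Over.forget Y) := by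
    change PreservesLimitsOfShape K (Over.forget X)
    infer_instance
  exact preservesLimitsOfShape_of_reflects_of_preserves _ (Over.forget Y)

end General

theorem shriekAb_preservesFiniteLimits {X Y : Scheme.{u}} (f : X ⟶ Y)
    (K : Precoverage Scheme.{u}) :
    PreservesFiniteLimits (BigSite.shriekAb K f) := by
  haveI := preservesConnected_overMap f WalkingCospan
  haveI := preservesConnected_overMap f WalkingParallelPair
  exact sheafPullback_preservesFiniteLimits (Over.map f) AddCommGrpCat.{u + 1}
    (QuotSh.J K X) (QuotSh.J K Y)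

theorem S6638_main {X Y : Scheme.{u}} (f : X ⟶ Y)
    (K : Precoverage Scheme.{u}) (_hK : K = Scheme.zariskiPrecoverage ∨ K = Scheme.etalePrecoverage ∨
      K = Scheme.precoverage @Smooth ∨ K = Scheme.fppfPrecoverage) :
    PreservesFiniteLimits (BigSite.shriekAb K f) :=
  shriekAb_preservesFiniteLimits f K

/-- `π_S⁻¹` is exact. -/
theorem piEtPull_preservesFiniteLimits (K : Precoverage Scheme.{u}) (S : Scheme.{u})
    [BigSite.AEtCont K S] :
    PreservesFiniteLimits (BigSite.piEtPull K S) := by
  haveI : PreservesFiniteLimits (EtFppf.a S) :=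
    inferInstanceAs (PreservesFiniteLimits (Scheme.Etale.forget S))
  exact sheafPullback_preservesFiniteLimits (EtFppf.a S) AddCommGrpCat.{u + 1}
    S.smallEtaleTopology (QuotSh.J K S)

end Groth.Agent.H7.BS
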