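import Mathlib
import Groth.Prelude.Def_BigSite
import Groth.Agent.Lib.Helper7.BS5

set_option autoImplicit false

universe u

open CategoryTheory CategoryTheory.Limits Opposite AlgebraicGeometry

namespace Groth.Agent.H7.BS

instance resEt_preservesInjectiveObjects (K : Precoverage Scheme.{u}) (S : Scheme.{u})
    [BigSite.AEtCont K S] : (BigSite.resEt K S).PreservesInjectiveObjects := by
  haveI := piEtPull_preservesFiniteLimits K S
  exact Functor.preservesInjectiveObjects_of_adjunction_of_preservesMonomorphisms
    (BigSite.piEtAdj K S)

instance pullBig_preservesInjectiveObjects (K : Precoverage Scheme.{u}) {X Y : Scheme.{u}}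
    (f : X ⟶ Y) : (BigSite.pullBig K f AddCommGrpCat.{u + 1}).PreservesInjectiveObjects := by
  haveI := shriekAb_preservesFiniteLimits f K
  exact Functor.preservesInjectiveObjects_of_adjunction_of_preservesMonomorphisms
    (BigSite.shriekAbAdj K f)

instance resEtAlong_preservesInjectiveObjects (K : Precoverage Scheme.{u}) {S T : Scheme.{u}}
    (f : T ⟶ S) [BigSite.AEtCont K T] :
    (BigSite.resEtAlong K f).PreservesInjectiveObjects :=
  Functor.preservesInjectiveObjects_comp _ _

theorem S6685_main (S : Scheme.{u}) (I : BigSite.Ab Scheme.etalePrecoverage S) [Injective I]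
    {T : Scheme.{u}} (f : T ⟶ S) :
    Injective ((BigSite.resEt Scheme.etalePrecoverage S).obj I) ∧
      Injective ((BigSite.resEtAlong Scheme.etalePrecoverage f).obj I) :=
  ⟨Functor.injective_obj _ _, Functor.injective_obj _ _⟩

end Groth.Agent.H7.BS
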