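import Mathlib
import Groth.Prelude.Def_BigSite
import Groth.Agent.Lib.Helper7.BS6
import Groth.Agent.Lib.Lead.EZ.ExtAdj

set_option autoImplicit false

universe u

open CategoryTheory CategoryTheory.Limits Opposite AlgebraicGeometry Abelian

namespace Groth.Agent.H7.BS

/-- The terminal object of the small étale site. -/
noncomputable def topIsTerminal (X : Scheme.{u}) : IsTerminal (EtCoh.top X) :=
  IsTerminal.isTerminalOfObj (Scheme.Etale.forget X) _ Over.mkIdTerminal

section

variable (K : Precoverage Scheme.{u}) (X : Scheme.{u}) [BigSite.AEtCont K X]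

/-- `π_X⁻¹` of a constant sheaf is the constant sheaf. -/
noncomputable def piEtPullConstantIso :
    constantSheaf X.smallEtaleTopology AddCommGrpCat.{u + 1} ⋙ BigSite.piEtPull K X ≅
      constantSheaf (QuotSh.J K X) AddCommGrpCat.{u + 1} :=
  ((constantSheafAdj X.smallEtaleTopology AddCommGrpCat.{u + 1} (topIsTerminal X)).comp
    (BigSite.piEtAdj K X)).leftAdjointUniq
    ((constantSheafAdj (QuotSh.J K X) AddCommGrpCat.{u + 1}
      (Over.mkIdTerminal (X := X))).ofNatIsoRight (Iso.refl _))

end

end Groth.Agent.H7.BS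

namespace Groth.Agent.H7.BS

section

variable (X : Scheme.{u})

instance resEt_preservesFiniteLimits (K : Precoverage Scheme.{u}) [BigSite.AEtCont K X] :
    PreservesFiniteLimits (BigSite.resEt K X) := by
  haveI : PreservesLimitsOfSize.{0, 0} (BigSite.resEt K X) :=
    (BigSite.piEtAdj K X).rightAdjoint_preservesLimits
  exact PreservesLimitsOfSize.preservesFiniteLimits _

instance resEt_preservesEpimorphisms_etale :
    (BigSite.resEt Scheme.etalePrecoverage X).PreservesEpimorphisms :=
  Functor.preservesEpimorphisms_of_adjunction (BigSite.iEtAdj Scheme.etalePrecoverage X)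

theorem S6185_main (F : BigSite.Ab Scheme.etalePrecoverage X) (p : ℕ) :
    Nonempty (EtCoh.H X ((BigSite.resEt Scheme.etalePrecoverage X).obj F) p ≃+
      BigSite.H Scheme.etalePrecoverage X F p) := by
  obtain ⟨e1⟩ := Groth.Agent.LD.EZ.nonempty_ext_equiv_of_adj.{u + 1, u + 1}
    (BigSite.piEtAdj Scheme.etalePrecoverage X)
    ((constantSheaf X.smallEtaleTopology AddCommGrpCat.{u + 1}).obj (AddCommGrpCat.of (ULift ℤ)))
    F p
  let e2 := (piEtPullConstantIso Scheme.etalePrecoverage X).app (AddCommGrpCat.of (ULift ℤ))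
  let e3 := (((extFunctor.{u + 1} p).mapIso e2.op).app F).addCommGroupIsoToAddEquiv
  exact ⟨e1.symm.trans e3.symm⟩

end

end Groth.Agent.H7.BS
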