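import Mathlib
import Groth.Prelude.Def_BigSite
import Groth.Agent.Lib.Helper7.BS1
import Groth.Agent.Lib.Helper7.BS2
import Groth.Agent.Lib.Helper7.BS6
import Groth.Agent.Lib.Helper7.BS8
import Groth.Agent.Lib.Helper7.RD1
import Groth.Agent.Lib.Lead.SC.MapRes

set_option autoImplicit false

universe u

open CategoryTheory CategoryTheory.Limits Opposite AlgebraicGeometry Abelian

namespace Groth.Agent.H7.BS

section General

variable {C : Type*} [Category C] [Abelian C] [HasInjectiveResolutions C]
  {D : Type*} [Category D] [Abelian D] [HasInjectiveResolutions D]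
  {E : Type*} [Category E] [Abelian E]

/-- Pre-composition with an exact functor preserving injectives commutes with right derived
functors (objectwise). -/
noncomputable def rightDerivedPrecompIso (G : C ⥤ D) [G.Additive] [PreservesFiniteLimits G]
    [PreservesFiniteColimits G] [G.PreservesInjectiveObjects]
    (H : D ⥤ E) [H.Additive] (GH : C ⥤ E) [GH.Additive] (e : G ⋙ H ≅ GH) (Z : C) (p : ℕ) :
    (H.rightDerived p).obj (G.obj Z) ≅ (GH.rightDerived p).obj Z :=
  Groth.Agent.LD.SC.rightDerivedCompIso (injectiveResolution Z) G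
    (fun n => by
      haveI := (injectiveResolution Z).injective n
      exact Functor.injective_obj G _)
    (fun n => (((injectiveResolution Z).cocomplex_exactAt_succ n).map G :
      (((injectiveResolution Z).cocomplex.sc (n + 1)).map G).Exact))
    H GH e p

end General

instance pullBig_preservesFiniteLimits (K : Precoverage Scheme.{u}) {X Y : Scheme.{u}} (f : X ⟶ Y) :
    PreservesFiniteLimits (BigSite.pullBig K f AddCommGrpCat.{u + 1}) := by
  haveI : PreservesLimitsOfSize.{0, 0} (BigSite.pullBig K f AddCommGrpCat.{u + 1}) :=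
    (BigSite.shriekAbAdj K f).rightAdjoint_preservesLimits
  exact PreservesLimitsOfSize.preservesFiniteLimits _

instance pullBig_preservesFiniteColimits (K : Precoverage Scheme.{u}) {X Y : Scheme.{u}} (f : X ⟶ Y) :
    PreservesFiniteColimits (BigSite.pullBig K f AddCommGrpCat.{u + 1}) := by
  haveI : PreservesColimitsOfSize.{0, 0} (BigSite.pullBig K f AddCommGrpCat.{u + 1}) :=
    (BigSite.bigAdj K f AddCommGrpCat.{u + 1}).leftAdjoint_preservesColimits
  exact PreservesColimitsOfSize.preservesFiniteColimits _

instance resEt_preservesFiniteColimits_etale (X : Scheme.{u}) :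
    PreservesFiniteColimits (BigSite.resEt Scheme.etalePrecoverage X) := by
  haveI : PreservesColimitsOfSize.{0, 0} (BigSite.resEt Scheme.etalePrecoverage X) :=
    (BigSite.iEtAdj Scheme.etalePrecoverage X).leftAdjoint_preservesColimits
  exact PreservesColimitsOfSize.preservesFiniteColimits _

theorem S6696_main {T S T' S' : Scheme.{u}} (f : T ⟶ S) (g : S' ⟶ S)
    (g' : T' ⟶ T) (f' : T' ⟶ S') (c : IsPullback g' f' f g)
    (F : BigSite.Ab Scheme.etalePrecoverage T) (q : ℕ) :
    Nonempty ((BigSite.pullBig Scheme.etalePrecoverage g AddCommGrpCat.{u + 1}).obj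
        ((BigSite.RpushBig Scheme.etalePrecoverage f q).obj F) ≅
      (BigSite.RpushBig Scheme.etalePrecoverage f' q).obj
        ((BigSite.pullBig Scheme.etalePrecoverage g' AddCommGrpCat.{u + 1}).obj F)) := by
  let e1 := RD.rightDerivedPostcompIso (BigSite.pushBig Scheme.etalePrecoverage f AddCommGrpCat.{u + 1})
    (BigSite.pullBig Scheme.etalePrecoverage g AddCommGrpCat.{u + 1}) _ (Iso.refl _) F q
  let e2 := rightDerivedPrecompIso (BigSite.pullBig Scheme.etalePrecoverage g' AddCommGrpCat.{u + 1})
    (BigSite.pushBig Scheme.etalePrecoverage f' AddCommGrpCat.{u + 1})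
    (BigSite.pushBig Scheme.etalePrecoverage f AddCommGrpCat.{u + 1} ⋙
      BigSite.pullBig Scheme.etalePrecoverage g AddCommGrpCat.{u + 1})
    (bigBaseChange Scheme.etalePrecoverage c AddCommGrpCat.{u + 1}).symm F q
  exact ⟨e1.symm ≪≫ e2.symm⟩

theorem S6686_main {T S T' S' : Scheme.{u}} (f : T ⟶ S) (g : S' ⟶ S)
    (g' : T' ⟶ T) (f' : T' ⟶ S') (c : IsPullback g' f' f g)
    (F : BigSite.Ab Scheme.etalePrecoverage T) (q : ℕ) :
    Nonempty ((BigSite.resEtAlong Scheme.etalePrecoverage g).obj
        ((BigSite.RpushBig Scheme.etalePrecoverage f q).obj F) ≅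
      (EtCoh.Rpush f' q).obj ((BigSite.resEtAlong Scheme.etalePrecoverage g').obj F)) := by
  obtain ⟨e⟩ := S12465_main f g g' f' c
  haveI : PreservesFiniteLimits (BigSite.resEtAlong Scheme.etalePrecoverage g) :=
    comp_preservesFiniteLimits _ _
  haveI : PreservesFiniteColimits (BigSite.resEtAlong Scheme.etalePrecoverage g) :=
    comp_preservesFiniteColimits _ _
  haveI : PreservesFiniteLimits (BigSite.resEtAlong Scheme.etalePrecoverage g') :=
    comp_preservesFiniteLimits _ _
  haveI : PreservesFiniteColimits (BigSite.resEtAlong Scheme.etalePrecoverage g') :=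
    comp_preservesFiniteColimits _ _
  let e1 := RD.rightDerivedPostcompIso (BigSite.pushBig Scheme.etalePrecoverage f AddCommGrpCat.{u + 1})
    (BigSite.resEtAlong Scheme.etalePrecoverage g) _ (Iso.refl _) F q
  let e2 := rightDerivedPrecompIso (BigSite.resEtAlong Scheme.etalePrecoverage g')
    (EtCoh.push f')
    (BigSite.pushBig Scheme.etalePrecoverage f AddCommGrpCat.{u + 1} ⋙
      BigSite.resEtAlong Scheme.etalePrecoverage g)
    e.symm F q
  exact ⟨e1.symm ≪≫ e2.symm⟩

end Groth.Agent.H7.BS
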