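import Mathlib
import Groth.Prelude.Def_BigSite
import Groth.Agent.Lib.Helper7.BS5
import Groth.Agent.Lib.Helper7.KInj

set_option autoImplicit false

universe u

open CategoryTheory CategoryTheory.Limits Opposite AlgebraicGeometry

namespace Groth.Agent.H7.BS

theorem S6697_main (S : Scheme.{u})
    (I : CochainComplex (BigSite.Ab Scheme.etalePrecoverage S) ℤ) [I.IsKInjective]
    {T : Scheme.{u}} (f : T ⟶ S) :
    CochainComplex.IsKInjective (((BigSite.resEt Scheme.etalePrecoverage S).mapHomologicalComplex
        (ComplexShape.up ℤ)).obj I) ∧
      CochainComplex.IsKInjective (((BigSite.resEtAlong Scheme.etalePrecoverage f).mapHomologicalComplex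
        (ComplexShape.up ℤ)).obj I) := by
  constructor
  · haveI := piEtPull_preservesFiniteLimits Scheme.etalePrecoverage S
    haveI : (BigSite.piEtPull Scheme.etalePrecoverage S).Additive :=
      (BigSite.piEtAdj Scheme.etalePrecoverage S).left_adjoint_additive
    exact KInj.isKInjective_map (BigSite.piEtAdj Scheme.etalePrecoverage S) I
  · haveI := piEtPull_preservesFiniteLimits Scheme.etalePrecoverage T
    haveI := shriekAb_preservesFiniteLimits f Scheme.etalePrecoverage
    haveI : (BigSite.piEtPull Scheme.etalePrecoverage T).Additive :=
      (BigSite.piEtAdj Scheme.etalePrecoverage T).left_adjoint_additive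
    haveI : (BigSite.shriekAb Scheme.etalePrecoverage f).Additive :=
      (BigSite.shriekAbAdj Scheme.etalePrecoverage f).left_adjoint_additive
    haveI : PreservesFiniteLimits (BigSite.piEtPull Scheme.etalePrecoverage T ⋙
        BigSite.shriekAb Scheme.etalePrecoverage f) := comp_preservesFiniteLimits _ _
    exact KInj.isKInjective_map ((BigSite.piEtAdj Scheme.etalePrecoverage T).comp
      (BigSite.shriekAbAdj Scheme.etalePrecoverage f)) I

end Groth.Agent.H7.BS
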