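import Mathlib
import Groth.Prelude.Def_BigSite
import Groth.Agent.Lib.Helper7.BS2
import Groth.Agent.Lib.Helper7.BS3
import Groth.Agent.Lib.Helper7.BS8

set_option autoImplicit false

universe u

open CategoryTheory CategoryTheory.Limits Opposite AlgebraicGeometry Abelian

namespace Groth.Agent.H7.BS

section

variable (X : Scheme.{u})

/-- `i_* ⋙ restriction ≅ id` on the small étale site (étale precoverage). -/
noncomputable def iEtPushResEtIso :
    BigSite.iEtPush Scheme.etalePrecoverage X ⋙ BigSite.resEt Scheme.etalePrecoverage X ≅ 𝟭 _ := by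
  haveI : (EtFppf.a X).Full := inferInstanceAs (Scheme.Etale.forget X).Full
  haveI : (EtFppf.a X).Faithful := inferInstanceAs (Scheme.Etale.forget X).Faithful
  haveI : IsIso (BigSite.iEtAdj Scheme.etalePrecoverage X).counit :=
    isIso_counit_cocont (EtFppf.a X) AddCommGrpCat.{u + 1} X.smallEtaleTopology
      (QuotSh.J Scheme.etalePrecoverage X)
  exact asIso (BigSite.iEtAdj Scheme.etalePrecoverage X).counit

end

section

variable {T S : Scheme.{u}} (f : T ⟶ S)

/-- The right adjoint of `π_S⁻¹ ⋙ i_f⁻¹` is `f_small,*`. -/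
noncomputable def rightAdjIso :
    (BigSite.iEtPush Scheme.etalePrecoverage T ⋙
      BigSite.pushBig Scheme.etalePrecoverage f AddCommGrpCat.{u + 1}) ⋙
        BigSite.resEt Scheme.etalePrecoverage S ≅ EtCoh.push f :=
  Functor.associator _ _ _ ≪≫
    Functor.isoWhiskerLeft _ (pushBigResEt Scheme.etalePrecoverage f) ≪≫
    (Functor.associator _ _ _).symm ≪≫
    Functor.isoWhiskerRight (iEtPushResEtIso T) _ ≪≫ Functor.leftUnitor _

/-- The restriction of `π_S⁻¹ F` to the small étale site of `T` is `f⁻¹ F`. -/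
noncomputable def piEtPullResEtAlongIso :
    BigSite.piEtPull Scheme.etalePrecoverage S ⋙ BigSite.resEtAlong Scheme.etalePrecoverage f ≅
      EtCoh.pull f :=
  (((BigSite.piEtAdj Scheme.etalePrecoverage S).comp
    ((BigSite.bigAdj Scheme.etalePrecoverage f AddCommGrpCat.{u + 1}).comp
      (BigSite.iEtAdj Scheme.etalePrecoverage T))).ofNatIsoRight (rightAdjIso f)).leftAdjointUniq
    (EtCoh.pullPushAdj f)

theorem S6687_main (n : ℕ) (F : EtCoh.Ab S) :
    Nonempty (BigSite.HU Scheme.etalePrecoverage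
        ((BigSite.piEtPull Scheme.etalePrecoverage S).obj F) n (Over.mk f) ≃+
      EtCoh.H T ((EtCoh.pull f).obj F) n) := by
  obtain ⟨e1⟩ := S6185_main T
    ((BigSite.pullBig Scheme.etalePrecoverage f AddCommGrpCat.{u + 1}).obj
      ((BigSite.piEtPull Scheme.etalePrecoverage S).obj F)) n
  let e2 := (piEtPullResEtAlongIso f).app F
  let e3 := (((extFunctor.{u + 1} n).obj
    (op ((constantSheaf T.smallEtaleTopology AddCommGrpCat.{u + 1}).obj
      (AddCommGrpCat.of (ULift ℤ))))).mapIso e2).addCommGroupIsoToAddEquiv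
  exact ⟨e1.symm.trans e3⟩

end

end Groth.Agent.H7.BS
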