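import Mathlib

set_option autoImplicit false
universe u
open Cardinal

namespace Groth.Agent.H7.BigField

/-- A field extension of an algebraically closed field `K` which is generated as a `K`-algebra by
a set of cardinality `< #K` together with finitely many elements is trivial. -/
theorem algebraMap_bijective_of_small_generators {K L : Type u} [Field K] [IsAlgClosed K] [Field L]
    [Algebra K L] (G : Set L) (hG : #G < #K) (F : Finset L)
    (hgen : Algebra.adjoin K (G ∪ (F : Set L)) = ⊤) :
    Function.Bijective (algebraMap K L) := by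
  suffices h : Algebra.IsAlgebraic K L by
    haveI := h
    exact IsAlgClosed.algebraMap_bijective_of_isIntegral
  by_contra hna
  rw [← Algebra.transcendental_iff_not_isAlgebraic] at hna
  have hrank : Module.rank K L = #L := Algebra.Transcendental.rank_eq_cardinalMk K L
  have hKL : #K ≤ #L := Cardinal.mk_le_of_injective (algebraMap K L).injective
  -- surjection from the polynomial ring
  let T : Set L := G ∪ (F : Set L)
  have hsurj : Function.Surjective (MvPolynomial.aeval (R := K) (fun t : T => (t : L))) := by
    rw [← AlgHom.range_eq_top, ← Algebra.adjoin_range_eq_range_aeval, Subtype.range_coe, hgen]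
  have hle : Module.rank K L ≤ Module.rank K (MvPolynomial T K) :=
    LinearMap.rank_le_of_surjective (MvPolynomial.aeval (R := K) (fun t : T => (t : L))).toLinearMap hsurj
  rw [MvPolynomial.rank_eq_lift, Cardinal.lift_id] at hle
  have hT : #T ≤ #G + #(F : Set L) := Cardinal.mk_union_le _ _
  have hFfin : #(F : Set L) < ℵ₀ := Cardinal.lt_aleph0_of_finite _
  by_cases hK : ℵ₀ < #K
  · -- cardinality argument
    have h1 : #T < #K := lt_of_le_of_lt hT (Cardinal.add_lt_of_lt hK.le hG (hFfin.trans hK))
    have h2 : #(T →₀ ℕ) < #K := by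
      by_cases hTe : Nonempty T
      · rw [Cardinal.mk_finsupp_nat]
        exact max_lt h1 hK
      · rw [not_nonempty_iff] at hTe
        have : #(T →₀ ℕ) = 1 := by
          rw [Cardinal.eq_one_iff_unique]
          exact ⟨inferInstance, ⟨0⟩⟩
        rw [this]
        exact lt_of_lt_of_le Cardinal.one_lt_aleph0 hK.le
    exact absurd (hKL.trans (hrank ▸ hle)) (not_le.2 h2)
  · -- `K` countable: `G` is finite, Zariski's lemma
    rw [not_lt] at hK
    have hGfin : #G < ℵ₀ := lt_of_lt_of_le hG hK
    have hTfin : Finite T := by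
      rw [← Cardinal.lt_aleph0_iff_finite]
      exact lt_of_le_of_lt hT (Cardinal.add_lt_aleph0 hGfin hFfin)
    have hft : Algebra.FiniteType K L := by
      refine ⟨⟨(Set.toFinite T).toFinset, ?_⟩⟩
      rw [Set.Finite.coe_toFinset]; exact hgen
    have hfin : Module.Finite K L := finite_of_finite_type_of_isJacobsonRing K L
    have : Algebra.IsAlgebraic K L := Algebra.IsAlgebraic.of_finite K L
    exact (Algebra.transcendental_iff_not_isAlgebraic.1 hna) this

/-- The ring-theoretic core: a nonzero `K`-algebra generated by a small set and finitely many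
elements has a `K`-point. -/
theorem exists_algHom_of_small_generators {K B : Type u} [Field K] [IsAlgClosed K] [CommRing B]
    [Nontrivial B] [Algebra K B] (G : Set B) (hG : #G < #K) (F : Finset B)
    (hgen : Algebra.adjoin K (G ∪ (F : Set B)) = ⊤) :
    Nonempty (B →ₐ[K] K) := by
  classical
  obtain ⟨m, hm⟩ := Ideal.exists_maximal B
  letI : Field (B ⧸ m) := Ideal.Quotient.field m
  let π : B →ₐ[K] B ⧸ m := Ideal.Quotient.mkₐ K m
  have hπ : Function.Surjective π := Ideal.Quotient.mkₐ_surjective K m
  have hgen' : Algebra.adjoin K ((π '' G) ∪ ((F.image π : Finset (B ⧸ m)) : Set (B ⧸ m))) = ⊤ := by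
    have : (π '' G) ∪ ((F.image π : Finset (B ⧸ m)) : Set (B ⧸ m)) = π '' (G ∪ (F : Set B)) := by
      rw [Set.image_union, Finset.coe_image]
    rw [this, ← AlgHom.map_adjoin, hgen, Algebra.map_top, AlgHom.range_eq_top]
    exact hπ
  have hG' : #(π '' G) < #K := lt_of_le_of_lt Cardinal.mk_image_le hG
  have hbij := algebraMap_bijective_of_small_generators (K := K) (L := B ⧸ m) (π '' G) hG'
    (F.image π) hgen'
  let e : K ≃ₐ[K] (B ⧸ m) := AlgEquiv.ofBijective (Algebra.ofId K (B ⧸ m)) hbij
  exact ⟨e.symm.toAlgHom.comp π⟩

end Groth.Agent.H7.BigField
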