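import Mathlib
import Groth.Agent.Lib.Helper7.BigField

set_option autoImplicit false
universe u
open Cardinal CategoryTheory CategoryTheory.Limits AlgebraicGeometry

namespace Groth.Agent.H7.BigPt

/-- pasting a pullback square with a monomorphism -/
lemma isPullback_comp_mono {C : Type*} [Category C] {P X Y Z W : C} {fst : P ⟶ X} {snd : P ⟶ Y}
    {f : X ⟶ Z} {g : Y ⟶ Z} (h : IsPullback fst snd f g) (i : Z ⟶ W) [Mono i] :
    IsPullback fst snd (f ≫ i) (g ≫ i) := by
  refine ⟨⟨by rw [← Category.assoc, h.w, Category.assoc]⟩, ⟨?_⟩⟩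
  exact PullbackCone.isLimitOfCompMono f g i _ h.isLimit

/-- Two field points of a scheme with the same image factor through a common residue field. -/
lemma exists_common_residue {S : Scheme.{u}} {κ K : Type u} [Field κ] [Field K]
    (g₁ : Spec (.of κ) ⟶ S) (g₂ : Spec (.of K) ⟶ S)
    (h : g₁ (IsLocalRing.closedPoint κ) = g₂ (IsLocalRing.closedPoint K)) :
    ∃ (k₀ : CommRingCat.{u}) (i₁ : k₀ ⟶ .of κ) (i₂ : k₀ ⟶ .of K) (m : Spec k₀ ⟶ S),
      Mono m ∧ Spec.map i₁ ≫ m = g₁ ∧ Spec.map i₂ ≫ m = g₂ := by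
  refine ⟨S.residueField (g₂ (IsLocalRing.closedPoint K)),
    (S.residueFieldCongr h).inv ≫ Scheme.descResidueField (Scheme.stalkClosedPointTo g₁),
    Scheme.descResidueField (Scheme.stalkClosedPointTo g₂),
    S.fromSpecResidueField (g₂ (IsLocalRing.closedPoint K)), inferInstance, ?_, ?_⟩
  · rw [Spec.map_comp, Category.assoc, Scheme.residueFieldCongr_inv,
      Scheme.residueFieldCongr_fromSpecResidueField]
    exact Scheme.descResidueField_stalkClosedPointTo_fromSpecResidueField κ S g₁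
  · exact Scheme.descResidueField_stalkClosedPointTo_fromSpecResidueField K S g₂

/-- ring-level: generation over `K` -/
lemma adjoin_eq_top_of_pushout {k₀ κ K A B : CommRingCat.{u}} {i₁ : k₀ ⟶ κ} {i₂ : k₀ ⟶ K}
    {inl : κ ⟶ A} {inr : K ⟶ A} (hpo : IsPushout i₁ i₂ inl inr) (ψ : A ⟶ B)
    (hψ : ψ.hom.FiniteType) :
    letI : Algebra K B := (inr ≫ ψ).hom.toAlgebra
    ∃ F : Finset B, Algebra.adjoin K (Set.range (inl ≫ ψ).hom ∪ (F : Set B)) = ⊤ := by
  letI : Algebra K B := (inr ≫ ψ).hom.toAlgebra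
  letI : Algebra A B := ψ.hom.toAlgebra
  obtain ⟨F, hF⟩ := (hψ : Algebra.FiniteType A B).out
  refine ⟨F, ?_⟩
  set A' := Algebra.adjoin K (Set.range (inl ≫ ψ).hom ∪ (F : Set B)) with hA'
  have hcl := CommRingCat.closure_range_union_range_eq_top_of_isPushout hpo
  have h1 : ∀ a : A, ψ.hom a ∈ A' := by
    intro a
    have ha : a ∈ Subring.closure (Set.range inl ∪ Set.range inr) := by rw [hcl]; trivial
    induction ha using Subring.closure_induction with
    | mem x hx =>
      rcases hx with ⟨y, rfl⟩ | ⟨y, rfl⟩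
      · exact Algebra.subset_adjoin (Or.inl ⟨y, rfl⟩)
      · exact A'.algebraMap_mem y
    | zero => rw [map_zero]; exact zero_mem _
    | one => rw [map_one]; exact one_mem _
    | add x y _ _ hx hy => rw [map_add]; exact add_mem hx hy
    | neg x _ hx => rw [map_neg]; exact neg_mem hx
    | mul x y _ _ hx hy => rw [map_mul]; exact mul_mem hx hy
  rw [eq_top_iff]
  intro b hb0
  clear hb0
  have hb : b ∈ Algebra.adjoin A (F : Set B) := by rw [hF]; trivial
  induction hb using Algebra.adjoin_induction with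
  | mem x hx => exact Algebra.subset_adjoin (Or.inr hx)
  | algebraMap r => exact h1 r
  | add x y _ _ hx hy => exact add_mem hx hy
  | mul x y _ _ hx hy => exact mul_mem hx hy


/-- **Scheme-level core.** A nonempty scheme `R` with a morphism locally of finite type to
`Spec κ ×_S Spec K`, with `K` algebraically closed of cardinality bigger than `κ`, has a
`K`-point over `Spec K`. -/
theorem exists_section_of_small {S : Scheme.{u}} {κ K : Type u} [Field κ] [Field K] [IsAlgClosed K]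
    (hκ : #κ < #K) (g₁ : Spec (.of κ) ⟶ S) (g₂ : Spec (.of K) ⟶ S) {R : Scheme.{u}} [Nonempty ↥R]
    (t : R ⟶ Spec (.of κ)) (s : R ⟶ Spec (.of K)) (w : t ≫ g₁ = s ≫ g₂)
    (hlft : LocallyOfFiniteType (pullback.lift t s w)) :
    ∃ σ : Spec (.of K) ⟶ R, σ ≫ s = 𝟙 _ := by
  classical
  obtain ⟨r⟩ := ‹Nonempty ↥R›
  have hpt : g₁ (IsLocalRing.closedPoint κ) = g₂ (IsLocalRing.closedPoint K) := by
    have h1 : t r = IsLocalRing.closedPoint κ := Subsingleton.elim _ _
    have h2 : s r = IsLocalRing.closedPoint K := Subsingleton.elim _ _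
    rw [← h1, ← h2, ← Scheme.Hom.comp_apply, ← Scheme.Hom.comp_apply, w]
  obtain ⟨k₀, i₁, i₂, m, hm, rfl, rfl⟩ := exists_common_residue g₁ g₂ hpt
  -- the pullback is `Spec` of the pushout
  have hpo : IsPushout i₁ i₂ (pushout.inl i₁ i₂) (pushout.inr i₁ i₂) := IsPushout.of_hasPushout _ _
  have hpb : IsPullback (Spec.map (pushout.inl i₁ i₂)) (Spec.map (pushout.inr i₁ i₂))
      (Spec.map i₁ ≫ m) (Spec.map i₂ ≫ m) :=
    isPullback_comp_mono (isPullback_SpecMap_pushout i₁ i₂) m
  obtain ⟨A, hA⟩ : ∃ A : CommRingCat.{u}, A = pushout i₁ i₂ := ⟨_, rfl⟩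
  let e := hpb.isoPullback
  let h' : R ⟶ Spec (pushout i₁ i₂) := pullback.lift t s w ≫ e.inv
  have hh' : LocallyOfFiniteType h' := by
    dsimp only [h']; infer_instance
  have hfst : h' ≫ Spec.map (pushout.inl i₁ i₂) = t := by
    dsimp only [h', e]
    rw [Category.assoc, IsPullback.isoPullback_inv_fst, pullback.lift_fst]
  have hsnd : h' ≫ Spec.map (pushout.inr i₁ i₂) = s := by
    dsimp only [h', e]
    rw [Category.assoc, IsPullback.isoPullback_inv_snd, pullback.lift_snd]
  -- affine open around `r`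
  obtain ⟨W, hW, hrW, -⟩ := TopologicalSpace.Opens.isBasis_iff_nbhd.mp R.isBasis_affineOpens
    (TopologicalSpace.Opens.mem_top r)
  have hWaff : IsAffineOpen W := hW
  let ψ : pushout i₁ i₂ ⟶ Γ(R, W) := Spec.preimage (hWaff.fromSpec ≫ h')
  have hψ : Spec.map ψ = hWaff.fromSpec ≫ h' := Spec.map_preimage _
  have hlftψ : LocallyOfFiniteType (Spec.map ψ) := by rw [hψ]; infer_instance
  have hft : ψ.hom.FiniteType := (HasRingHomProperty.Spec_iff (P := @LocallyOfFiniteType)).1 hlftψ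
  letI : Algebra K Γ(R, W) := (pushout.inr i₁ i₂ ≫ ψ).hom.toAlgebra
  obtain ⟨F, hF⟩ := adjoin_eq_top_of_pushout hpo ψ hft
  have hcard : #(Set.range (pushout.inl i₁ i₂ ≫ ψ).hom) < #K :=
    lt_of_le_of_lt Cardinal.mk_range_le hκ
  haveI : Nontrivial Γ(R, W) := @Scheme.component_nontrivial R W ⟨⟨r, hrW⟩⟩
  obtain ⟨θ⟩ := BigField.exists_algHom_of_small_generators (K := K) (B := Γ(R, W)) _ hcard F hF
  refine ⟨Spec.map (CommRingCat.ofHom θ.toRingHom) ≫ hWaff.fromSpec, ?_⟩
  rw [← hsnd, Category.assoc, ← Category.assoc hWaff.fromSpec, ← hψ, ← Spec.map_comp,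
    ← Spec.map_comp, ← Spec.map_id]
  congr 1
  ext x
  exact θ.commutes x

end Groth.Agent.H7.BigPt
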