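import Mathlib
import Groth.Prelude.Def_AlgSpDec
import Groth.Agent.Lib.Helper7.BigPt
import Groth.Agent.Lib.Helper5.AlgSp.Points
import Groth.Agent.Lib.Helper5.AlgSp.RelDiag

set_option autoImplicit false
universe u
open Cardinal CategoryTheory CategoryTheory.Limits AlgebraicGeometry Opposite

namespace Groth.Agent.H7.BigPt

open _root_.AlgSp Groth.Agent.H5.AlgSp

theorem S10000_main {S : Scheme.{u}} {X Y : AlgSp.Space S} (f : X ⟶ Y)
    {U : Over S} (a : (AlgSp.yon S).obj U ⟶ X.obj) (ha : AlgSp.RepWith @Etale a) (has : AlgSp.RepWith @Surjective a)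
    (ybar : AlgSp.FieldPt Y.obj) (hy : ybar.IsGeometric)
    (hk : ∀ u : ↥U.left, Cardinal.mk ↥(U.left.residueField u) < Cardinal.mk ybar.K)
    (x : AlgSp.Points X.obj) (hx : AlgSp.Points.map f.hom x = AlgSp.Points.mk ybar) :
    ∃ xbar : (AlgSp.yon S).obj ybar.pt ⟶ X.obj, xbar ≫ f.hom = ybar.toHom ∧
      AlgSp.Points.ofPt xbar (IsLocalRing.closedPoint ybar.K) = x := by
  obtain ⟨u, rfl⟩ := ofPt_surjective_of_repWith has x
  haveI : IsAlgClosed ybar.K := hy
  -- the field point of `X` at `u`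
  let Tu : Over S := Over.mk (U.left.fromSpecResidueField u ≫ U.hom)
  let ξ : (yon S).obj Tu ⟶ X.obj :=
    (yon S).map (Over.homMk (U.left.fromSpecResidueField u) rfl : Tu ⟶ U) ≫ a
  have hxu : Points.ofPt a u = Points.mk (fpOfHom (K := ↥(U.left.residueField u))
      (U.left.fromSpecResidueField u ≫ U.hom) ξ) := ofPt_eq_mk a u
  have hη : ybar.toHom = fpHom ybar := rfl
  -- the fibre product
  have hb : Representable (ξ ≫ f.hom) := Y.property.representable_from_yon _
  let R : Over S := hb.pullback ybar.toHom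
  let t : R ⟶ Tu := hb.fst' ybar.toHom
  let s : R ⟶ ybar.pt := hb.snd ybar.toHom
  have sq : IsPullback ((yon S).map t) ((yon S).map s) (ξ ≫ f.hom) ybar.toHom :=
    hb.isPullback' ybar.toHom
  -- nonempty
  have hne : Nonempty ↥R.left := by
    rw [hxu, map_mk_fpOfHom] at hx
    have hy' : Points.mk ybar = Points.mk (fpOfHom ybar.str (fpHom ybar)) := by
      rw [fpOfHom_fpHom]
    rw [hy', mk_fpOfHom_eq_iff] at hx
    obtain ⟨Ω, _, w, a', b', hab⟩ := hx
    obtain ⟨c, hc⟩ := (yon S).map_surjective (sq.lift ((yon S).map a') ((yon S).map b') hab)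
    exact ⟨c.left (IsLocalRing.closedPoint Ω)⟩
  -- the diagonal
  have hlft : LocallyOfFiniteType (prod.lift t s).left :=
    prop_prodLift_of_repWith_diag (repWith_diag_of_isAlgSpace Y.property).1 sq
  have hw : t.left ≫ Tu.hom = s.left ≫ ybar.pt.hom := by rw [Over.w t, Over.w s]
  have hlft' : LocallyOfFiniteType (pullback.lift t.left s.left hw) := by
    rw [← prodLift_left_comp_iso]
    infer_instance
  obtain ⟨σ₀, hσ₀⟩ := exists_section_of_small (hk u) Tu.hom ybar.str t.left s.left hw hlft'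
  have hσw : σ₀ ≫ R.hom = ybar.str := by
    have := Over.w s
    change s.left ≫ ybar.str = R.hom at this
    rw [← this, ← Category.assoc, hσ₀, Category.id_comp]
  let σ : ybar.pt ⟶ R := Over.homMk σ₀ hσw
  have hσ : σ ≫ s = 𝟙 _ := by
    apply Over.OverMorphism.ext
    exact hσ₀
  refine ⟨(yon S).map (σ ≫ t) ≫ ξ, ?_, ?_⟩
  · rw [Functor.map_comp, Category.assoc, Category.assoc, sq.w, ← Category.assoc,
      ← Functor.map_comp, hσ, CategoryTheory.Functor.map_id, Category.id_comp]
  · rw [ofPt_closedPoint ybar.str, hxu]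
    exact mk_fpOfHom_comp _ _ (σ ≫ t) ξ

end Groth.Agent.H7.BigPt
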