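import Mathlib
import Groth.Prelude.Def_AlgSp4
import Groth.Prelude.Def_W4stk3decentspacesp2Birat
import Groth.Agent.Lib.Helper3.Decent.Sober

set_option autoImplicit false
universe u
open CategoryTheory CategoryTheory.Limits AlgebraicGeometry Opposite

namespace Groth.Agent.H7.BiratDom

open _root_.AlgSp Groth.Agent.H5.AlgSp

lemma dense_of_generic_mem {Y : Type*} [TopologicalSpace Y] [QuasiSober Y] (s : Set Y)
    (hs : ∀ η : Y, closure {η} ∈ irreducibleComponents Y → η ∈ s) : Dense s := by
  intro y
  have h1 : IsIrreducible (irreducibleComponent y) := isIrreducible_irreducibleComponent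
  have h2 : IsClosed (irreducibleComponent y) := isClosed_irreducibleComponent
  obtain ⟨ξ, hξ⟩ := QuasiSober.sober h1 h2
  have h3 : closure {ξ} ∈ irreducibleComponents Y := by
    rw [hξ.def]; exact irreducibleComponent_mem_irreducibleComponents y
  have h4 : y ∈ closure {ξ} := by rw [hξ.def]; exact mem_irreducibleComponent
  exact closure_mono (Set.singleton_subset_iff.mpr (hs ξ h3)) h4

theorem S10439_main {S : Scheme.{u}} {X Y : AlgSp.Space S} (f : X ⟶ Y)
    (hY : AlgSp.IsDecent Y.obj)
    (hf : W4stk3decentspacesp2.IsBirational f.hom) : AlgSp.IsDominantMor f.hom := by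
  haveI := Groth.Agent.H3.Decent.quasiSober_points_of_isDecent Y.property hY
  apply dense_of_generic_mem
  intro η hη
  have hη' : η ∈ genericPoints (Points Y.obj) := hη
  obtain ⟨ξ, -, rfl⟩ := hf.bijOn.surjOn hη'
  exact ⟨ξ, rfl⟩

end Groth.Agent.H7.BiratDom
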