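import Mathlib
import Groth.Prelude

set_option autoImplicit false
universe u
open CategoryTheory CategoryTheory.Limits AlgebraicGeometry Opposite TopologicalSpace

namespace Groth.Agent.H7.CatSp

/-- a function on a poset dropping by exactly one along covering relations computes heights in
upper sets. -/
theorem delta_eq_add_height {P : Type*} [PartialOrder P] (δ : P → ℤ)
    (h2 : ∀ a b : P, a ⋖ b → δ a = δ b + 1) (a : P) (s : Set P) (hs : ∀ z, z ∈ s ↔ a ≤ z) :
    ∀ (n : ℕ) (b : s), Order.height b = n → δ a = δ b.1 + n := by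
  intro n
  induction n with
  | zero =>
    intro b hb
    have hmin : IsMin b := Order.height_eq_zero.mp (by simpa using hb)
    have ha : a ∈ s := (hs a).2 le_rfl
    have h1 : (⟨a, ha⟩ : s) ≤ b := (hs b.1).1 b.2
    have h3 : b.1 ≤ a := hmin h1
    have : b.1 = a := le_antisymm h3 ((hs b.1).1 b.2)
    simp [this]
  | succ n ih =>
    intro b hb
    have hb' : Order.height b = (n : ℕ∞) + 1 := by
      rw [hb]; push_cast; rfl
    obtain ⟨-, ⟨y, hyb, hy⟩, hall⟩ := Order.height_eq_coe_add_one_iff.mp hb'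
    have hcov : y.1 ⋖ b.1 := by
      refine ⟨hyb, ?_⟩
      intro z hyz hzb
      have hzs : z ∈ s := (hs z).2 (((hs y.1).1 y.2).trans hyz.le)
      have h3 : Order.height y + 1 ≤ Order.height (⟨z, hzs⟩ : s) :=
        Order.height_add_one_le (show y < ⟨z, hzs⟩ from hyz)
      have h4 := hall ⟨z, hzs⟩ (show (⟨z, hzs⟩ : s) < b from hzb)
      rw [hy] at h3
      have h5 : ((n : ℕ∞) + 1) ≤ n := h3.trans h4
      have h6 : ((n + 1 : ℕ) : ℕ∞) ≤ (n : ℕ) := by exact_mod_cast h5
      have h7 : n + 1 ≤ n := by exact_mod_cast h6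
      omega
    have e1 := ih y hy
    have e2 := h2 _ _ hcov
    rw [e1, e2]
    push_cast
    ring

end Groth.Agent.H7.CatSp

namespace Groth.Agent.H7.CatSp

/-- a dimension function on the spectrum of a Noetherian ring computes the heights of primes in
quotient domains. -/
theorem primeSpectrum_height_eq (R : Type u) [CommRing R] [IsNoetherianRing R]
    (δ : PrimeSpectrum R → ℤ) (hδ : PtTop.IsDimensionFunction δ)
    (q' q : PrimeSpectrum R) (hle : q' ≤ q) :
    ∃ n : ℕ, (q.asIdeal.map (Ideal.Quotient.mk q'.asIdeal)).height = n ∧ δ q' = δ q + n := by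
  have hle' : q'.asIdeal ≤ q.asIdeal := hle
  have hker : RingHom.ker (Ideal.Quotient.mk q'.asIdeal) ≤ q.asIdeal := by
    rw [Ideal.mk_ker]; exact hle'
  haveI hQ : (q.asIdeal.map (Ideal.Quotient.mk q'.asIdeal)).IsPrime :=
    Ideal.map_isPrime_of_surjective Ideal.Quotient.mk_surjective hker
  have hfin : (q.asIdeal.map (Ideal.Quotient.mk q'.asIdeal)).height ≠ ⊤ :=
    (Ideal.height_lt_top hQ.ne_top).ne
  obtain ⟨n, hn⟩ := ENat.ne_top_iff_exists.mp hfin
  refine ⟨n, hn.symm, ?_⟩
  let e := q'.asIdeal.primeSpectrumQuotientOrderIsoZeroLocus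
  have he : e ⟨q.asIdeal.map (Ideal.Quotient.mk q'.asIdeal), hQ⟩ =
      ⟨q, hle'⟩ := by
    apply Subtype.ext
    apply PrimeSpectrum.ext
    change Ideal.comap (Ideal.Quotient.mk q'.asIdeal)
      (q.asIdeal.map (Ideal.Quotient.mk q'.asIdeal)) = q.asIdeal
    exact Ideal.comap_map_mk hle'
  have hh : Order.height (⟨q, hle'⟩ : PrimeSpectrum.zeroLocus (q'.asIdeal : Set R)) = n := by
    rw [← he, Order.height_orderIso, hn]
    exact (PrimeSpectrum.height_eq_orderHeight
      (⟨q.asIdeal.map (Ideal.Quotient.mk q'.asIdeal), hQ⟩ : PrimeSpectrum (R ⧸ q'.asIdeal))).symm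
  have key := delta_eq_add_height δ (fun a b hab => by
      apply hδ.2
      refine ⟨(PrimeSpectrum.le_iff_specializes _ _).1 hab.le, hab.lt.ne, ?_⟩
      intro z hz1 hz2
      have h1 := (PrimeSpectrum.le_iff_specializes _ _).2 hz1
      have h2 := (PrimeSpectrum.le_iff_specializes _ _).2 hz2
      rcases hab.eq_or_eq h1 h2 with h | h
      · exact Or.inl h
      · exact Or.inr h) q' (PrimeSpectrum.zeroLocus (q'.asIdeal : Set R))
    (fun z => Iff.rfl) n ⟨q, hle'⟩ hh
  exact key

end Groth.Agent.H7.CatSp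

namespace Groth.Agent.H7.CatSp

theorem height_quot_eq (R : Type u) [CommRing R] (q' q : PrimeSpectrum R) (hle : q' ≤ q) :
    (q.asIdeal.map (Ideal.Quotient.mk q'.asIdeal)).height =
      Order.height (⟨q, hle⟩ : PrimeSpectrum.zeroLocus (q'.asIdeal : Set R)) := by
  have hle' : q'.asIdeal ≤ q.asIdeal := hle
  have hker : RingHom.ker (Ideal.Quotient.mk q'.asIdeal) ≤ q.asIdeal := by
    rw [Ideal.mk_ker]; exact hle'
  haveI hQ : (q.asIdeal.map (Ideal.Quotient.mk q'.asIdeal)).IsPrime :=
    Ideal.map_isPrime_of_surjective Ideal.Quotient.mk_surjective hker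
  let e := q'.asIdeal.primeSpectrumQuotientOrderIsoZeroLocus
  have he : e ⟨q.asIdeal.map (Ideal.Quotient.mk q'.asIdeal), hQ⟩ =
      ⟨q, hle'⟩ := by
    apply Subtype.ext
    apply PrimeSpectrum.ext
    change Ideal.comap (Ideal.Quotient.mk q'.asIdeal)
      (q.asIdeal.map (Ideal.Quotient.mk q'.asIdeal)) = q.asIdeal
    exact Ideal.comap_map_mk hle'
  rw [← he, Order.height_orderIso]
  exact (PrimeSpectrum.height_eq_orderHeight
      (⟨q.asIdeal.map (Ideal.Quotient.mk q'.asIdeal), hQ⟩ : PrimeSpectrum (R ⧸ q'.asIdeal)))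

theorem height_quot_pos (R : Type u) [CommRing R] (q' q : PrimeSpectrum R) (hlt : q' < q) :
    1 ≤ (q.asIdeal.map (Ideal.Quotient.mk q'.asIdeal)).height := by
  rw [height_quot_eq R q' q hlt.le]
  have h := Order.height_add_one_le
    (show (⟨q', le_refl q'⟩ : PrimeSpectrum.zeroLocus (q'.asIdeal : Set R)) < ⟨q, hlt.le⟩ from hlt)
  exact le_trans (by simp) h

theorem height_quot_eq_one (R : Type u) [CommRing R] (q' q : PrimeSpectrum R) (hcov : q' ⋖ q) :
    (q.asIdeal.map (Ideal.Quotient.mk q'.asIdeal)).height = 1 := by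
  apply le_antisymm _ (height_quot_pos R q' q hcov.lt)
  rw [height_quot_eq R q' q hcov.le, Order.height_eq_iSup_lt_height]
  refine iSup₂_le fun z hz => ?_
  have hz1 : q' ≤ z.1 := z.2
  have hz2 : z.1 < q := hz
  have hzq : z.1 = q' := by
    rcases hcov.eq_or_eq hz1 hz2.le with h | h
    · exact h
    · exact absurd h hz2.ne
  have hmin : IsMin z := by
    intro w hw
    have hw1 : q' ≤ w.1 := w.2
    show z.1 ≤ w.1
    rw [hzq]; exact hw1
  rw [Order.height_eq_zero.mpr hmin]
  simp

end Groth.Agent.H7.CatSp
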