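import Mathlib
import Groth.Prelude
import Groth.Agent.Lib.Helper7.CatSp1
import Groth.Agent.Lib.Helper1.DimLocG
import Groth.Agent.Lib.Helper2.IdlN

set_option autoImplicit false
universe u
open CategoryTheory CategoryTheory.Limits AlgebraicGeometry Opposite TopologicalSpace

namespace Groth.Agent.H7.CatSp

/-- transport of dimension functions along homeomorphisms. -/
theorem isDimensionFunction_comp_symm {A B : Type u} [TopologicalSpace A] [TopologicalSpace B]
    (φ : A ≃ₜ B) (δ : A → ℤ) (h : PtTop.IsDimensionFunction δ) :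
    PtTop.IsDimensionFunction (fun b => δ (φ.symm b)) := by
  constructor
  · intro x y hxy hne
    exact h.1 _ _ (hxy.map φ.symm.continuous) (fun e => hne (φ.symm.injective e))
  · rintro x y ⟨hxy, hne, him⟩
    apply h.2
    refine ⟨hxy.map φ.symm.continuous, fun e => hne (φ.symm.injective e), ?_⟩
    intro z hz1 hz2
    have h1 : x ⤳ φ z := by
      have := hz1.map φ.continuous
      simpa using this
    have h2 : φ z ⤳ y := by
      have := hz2.map φ.continuous
      simpa using this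
    rcases him (φ z) h1 h2 with e | e
    · left; rw [← e]; simp
    · right; rw [← e]; simp

/-- restriction of a dimension function to an open subset. -/
theorem isDimensionFunction_restrict {A : Type u} [TopologicalSpace A] (W W' : Opens A)
    (hWW' : W' ≤ W) (δ : W → ℤ) (h : PtTop.IsDimensionFunction δ) :
    PtTop.IsDimensionFunction (fun b : W' => δ ⟨b.1, hWW' b.2⟩) := by
  constructor
  · intro x y hxy hne
    have hxy' : (x : A) ⤳ (y : A) := (subtype_specializes_iff x y).1 hxy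
    refine h.1 ⟨x.1, hWW' x.2⟩ ⟨y.1, hWW' y.2⟩ ((subtype_specializes_iff _ _).2 hxy') ?_
    intro e
    have e' : x.1 = y.1 := congrArg (fun w : W => w.1) e
    exact hne (Subtype.ext e')
  · rintro x y ⟨hxy, hne, him⟩
    have hxy' : (x : A) ⤳ (y : A) := (subtype_specializes_iff x y).1 hxy
    refine h.2 ⟨x.1, hWW' x.2⟩ ⟨y.1, hWW' y.2⟩ ⟨(subtype_specializes_iff _ _).2 hxy', ?_, ?_⟩
    · intro e
      have e' : x.1 = y.1 := congrArg (fun w : W => w.1) e
      exact hne (Subtype.ext e')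
    intro z hz1 hz2
    have hz2' : (z : A) ⤳ (y : A) := (subtype_specializes_iff z ⟨y.1, hWW' y.2⟩).1 hz2
    have hz1' : (x : A) ⤳ (z : A) := (subtype_specializes_iff ⟨x.1, hWW' x.2⟩ z).1 hz1
    have hzW' : (z : A) ∈ W' := hz2'.mem_open W'.isOpen y.2
    rcases him ⟨z.1, hzW'⟩ ((subtype_specializes_iff _ _).2 hz1')
      ((subtype_specializes_iff _ _).2 hz2') with e | e
    · left
      have e' : z.1 = x.1 := congrArg (fun w : W' => w.1) e
      exact Subtype.ext e'
    · right
      have e' : z.1 = y.1 := congrArg (fun w : W' => w.1) e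
      exact Subtype.ext e'

variable {U S : Scheme.{u}}

/-- the residue transcendence degree as a natural number. -/
noncomputable def tdeg (f : U ⟶ S) (u : U) : ℕ := Cardinal.toNat (Dual3.resTrdeg f u)

theorem resTrdeg_eq_tdeg (f : U ⟶ S) [LocallyOfFiniteType f] (u : U) :
    Dual3.resTrdeg f u = (tdeg f u : Cardinal.{u}) := by
  obtain ⟨t, ht, -⟩ := Groth.Agent.H2.Idl.exists_resTrdeg_eq_dim_closure f u
  unfold tdeg
  rw [ht]
  simp

/-- the points of an affine open and the primes of its ring of sections. -/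
noncomputable def affHomeo {X : Scheme.{u}} {W : X.Opens} (hW : IsAffineOpen W) :
    ↥W ≃ₜ PrimeSpectrum Γ(X, W) :=
  hW.isoSpec.hom.homeomorph

theorem affHomeo_apply {X : Scheme.{u}} {W : X.Opens} (hW : IsAffineOpen W) (x : W) :
    affHomeo hW x = hW.primeIdealOf x := rfl

theorem primeIdealOf_le_iff' {X : Scheme.{u}} {W : X.Opens} (hW : IsAffineOpen W) (x y : W) :
    hW.primeIdealOf x ≤ hW.primeIdealOf y ↔ (x : X) ⤳ (y : X) := by
  rw [PrimeSpectrum.le_iff_specializes, ← affHomeo_apply, ← affHomeo_apply]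
  rw [(affHomeo hW).isInducing.specializes_iff, subtype_specializes_iff]

end Groth.Agent.H7.CatSp

namespace Groth.Agent.H7.CatSp

variable {U S : Scheme.{u}}

/-- the basic relation: heights of primes upstairs computed by a dimension function downstairs
and residue transcendence degrees. -/
theorem scheme_relation [IsLocallyNoetherian S] (f : U ⟶ S) [LocallyOfFiniteType f]
    (hS : ∀ s : S, CAlg.IsUniversallyCatenary (S.presheaf.stalk s))
    (V : S.Opens) (hV : IsAffineOpen V) (δ : V → ℤ) (hδ : PtTop.IsDimensionFunction δ)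
    (hfV : ∀ u : U, f u ∈ V) (W : U.Opens) (hW : IsAffineOpen W) (u u' : U) (hu : u ∈ W)
    (hu' : u' ∈ W) (hsp : u' ⤳ u) :
    ∃ m : ℕ, ((hW.primeIdealOf ⟨u, hu⟩).asIdeal.map
        (Ideal.Quotient.mk (hW.primeIdealOf ⟨u', hu'⟩).asIdeal)).height = m ∧
      δ ⟨f u', hfV u'⟩ + tdeg f u' = δ ⟨f u, hfV u⟩ + tdeg f u + m := by
  have e : W ≤ f ⁻¹ᵁ V := fun x _ => hfV x
  have key := Groth.Agent.H1.DimLoc.chart_relative_eq_enat f hW hV e u u' hu hu' hsp (hS (f u))
    (tdeg f u) (tdeg f u') (resTrdeg_eq_tdeg f u) (resTrdeg_eq_tdeg f u')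
  haveI : IsNoetherianRing Γ(S, V) := IsLocallyNoetherian.component_noetherian ⟨V, hV⟩
  have hle : hV.primeIdealOf ⟨f u', e hu'⟩ ≤ hV.primeIdealOf ⟨f u, e hu⟩ :=
    (primeIdealOf_le_iff' hV _ _).2 (hsp.map f.continuous)
  obtain ⟨n, hn, hδn⟩ := primeSpectrum_height_eq Γ(S, V) (fun b => δ ((affHomeo hV).symm b))
    (isDimensionFunction_comp_symm (affHomeo hV) δ hδ) _ _ hle
  rw [← affHomeo_apply, ← affHomeo_apply] at hδn
  simp only [Homeomorph.symm_apply_apply] at hδn
  rw [hn] at key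
  have hfin : ((hW.primeIdealOf ⟨u, hu⟩).asIdeal.map
      (Ideal.Quotient.mk (hW.primeIdealOf ⟨u', hu'⟩).asIdeal)).height ≠ ⊤ := by
    intro htop
    rw [htop, top_add] at key
    exact ENat.top_ne_coe _ (by exact_mod_cast key)
  obtain ⟨m, hm⟩ := ENat.ne_top_iff_exists.mp hfin
  refine ⟨m, hm.symm, ?_⟩
  rw [← hm] at key
  have key' : m + tdeg f u = n + tdeg f u' := by exact_mod_cast key
  omega

end Groth.Agent.H7.CatSp

namespace Groth.Agent.H7.CatSp

variable {U S : Scheme.{u}}

/-- **the standard dimension function** on a scheme locally of finite type over a universally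
catenary base with a dimension function. -/
theorem scheme_dimFun [IsLocallyNoetherian S] (f : U ⟶ S) [LocallyOfFiniteType f]
    (hS : ∀ s : S, CAlg.IsUniversallyCatenary (S.presheaf.stalk s))
    (V : S.Opens) (hV : IsAffineOpen V) (δ : V → ℤ) (hδ : PtTop.IsDimensionFunction δ)
    (hfV : ∀ u : U, f u ∈ V) :
    PtTop.IsDimensionFunction (fun u : U => δ ⟨f u, hfV u⟩ + tdeg f u) := by
  have haff : ∀ u : U, ∃ W : U.Opens, IsAffineOpen W ∧ u ∈ W := by
    intro u
    obtain ⟨W, hW, hu, -⟩ := U.isBasis_affineOpens.exists_subset_of_mem_open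
      (Set.mem_univ u) isOpen_univ
    obtain ⟨W', hW', rfl⟩ := hW
    exact ⟨W', hW', hu⟩
  have hlt : ∀ (W : U.Opens) (hW : IsAffineOpen W) (u u' : U) (hu : u ∈ W) (hu' : u' ∈ W),
      u' ⤳ u → u' ≠ u → hW.primeIdealOf ⟨u', hu'⟩ < hW.primeIdealOf ⟨u, hu⟩ := by
    intro W hW u u' hu hu' hsp hne
    refine lt_of_le_of_ne ((primeIdealOf_le_iff' hW _ _).2 hsp) ?_
    intro e
    rw [← affHomeo_apply, ← affHomeo_apply] at e
    exact hne (congrArg Subtype.val ((affHomeo hW).injective e))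
  constructor
  · intro u' u hsp hne
    obtain ⟨W, hW, hu⟩ := haff u
    have hu' : u' ∈ W := hsp.mem_open W.isOpen hu
    obtain ⟨m, hm, heq⟩ := scheme_relation f hS V hV δ hδ hfV W hW u u' hu hu' hsp
    have h1 := height_quot_pos Γ(U, W) _ _ (hlt W hW u u' hu hu' hsp hne)
    rw [hm] at h1
    have h2 : 1 ≤ m := by exact_mod_cast h1
    show δ ⟨f u, hfV u⟩ + tdeg f u < δ ⟨f u', hfV u'⟩ + tdeg f u'
    omega
  · rintro u' u ⟨hsp, hne, him⟩
    obtain ⟨W, hW, hu⟩ := haff u
    have hu' : u' ∈ W := hsp.mem_open W.isOpen hu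
    obtain ⟨m, hm, heq⟩ := scheme_relation f hS V hV δ hδ hfV W hW u u' hu hu' hsp
    have hcov : hW.primeIdealOf ⟨u', hu'⟩ ⋖ hW.primeIdealOf ⟨u, hu⟩ := by
      refine ⟨hlt W hW u u' hu hu' hsp hne, ?_⟩
      intro z hz1 hz2
      obtain ⟨z', hz'⟩ : ∃ z' : W, affHomeo hW z' = z := (affHomeo hW).surjective z
      rw [affHomeo_apply] at hz'
      rw [← hz'] at hz1 hz2
      have s1 : u' ⤳ (z' : U) := (primeIdealOf_le_iff' hW ⟨u', hu'⟩ z').1 hz1.le
      have s2 : (z' : U) ⤳ u := (primeIdealOf_le_iff' hW z' ⟨u, hu⟩).1 hz2.le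
      rcases him z'.1 s1 s2 with e | e
      · have : z' = ⟨u', hu'⟩ := Subtype.ext e
        rw [this] at hz1
        exact lt_irrefl _ hz1
      · have : z' = ⟨u, hu⟩ := Subtype.ext e
        rw [this] at hz2
        exact lt_irrefl _ hz2
    have h1 := height_quot_eq_one Γ(U, W) _ _ hcov
    rw [hm] at h1
    have h2 : m = 1 := by exact_mod_cast h1
    show δ ⟨f u', hfV u'⟩ + tdeg f u' = δ ⟨f u, hfV u⟩ + tdeg f u + 1
    omega

end Groth.Agent.H7.CatSp
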