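import Groth.Agent.Lib.Helper1.DimIneqE
import Groth.Agent.Lib.Helper7.CatSp2
import Mathlib

/-!
# No specializations in fibres at points with algebraic residue field extension
-/

set_option autoImplicit false
universe u

open AlgebraicGeometry CategoryTheory Limits Topology

namespace Groth.Agent.H7.BiratFib

section algebra

/-- two comparable primes over the same prime, the smaller with algebraic residue extension,
are equal. -/
theorem ideal_eq_of_le_of_isAlgebraic {B A : Type*} [CommRing B] [CommRing A] [Algebra B A]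
    (q : Ideal B) (p p' : Ideal A) [p.IsPrime] [p'.IsPrime] [p.LiesOver q] [p'.LiesOver q]
    (hle : p ≤ p') (halg : Algebra.IsAlgebraic (B ⧸ q) (A ⧸ p)) : p = p' := by
  by_contra hne
  have hlt : p < p' := lt_of_le_of_ne hle hne
  obtain ⟨a, ha', ha⟩ := Set.exists_of_ssubset hlt
  let I : Ideal (A ⧸ p) := p'.map (Ideal.Quotient.mk p)
  have hx0 : Ideal.Quotient.mk p a ≠ 0 := by
    rw [Ne, Ideal.Quotient.eq_zero_iff_mem]; exact ha
  have hxI : Ideal.Quotient.mk p a ∈ I := Ideal.mem_map_of_mem _ ha'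
  have h1 := Ideal.comap_ne_bot_of_algebraic_mem (R := B ⧸ q) hx0 hxI
    (Algebra.IsAlgebraic.isAlgebraic _)
  apply h1
  rw [eq_bot_iff]
  intro b hb
  obtain ⟨b, rfl⟩ := Ideal.Quotient.mk_surjective b
  rw [Ideal.mem_comap] at hb
  have h2 : algebraMap (B ⧸ q) (A ⧸ p) (Ideal.Quotient.mk q b) =
      Ideal.Quotient.mk p (algebraMap B A b) := rfl
  rw [h2] at hb
  have h3 : algebraMap B A b ∈ p' := by
    have := (Ideal.mem_map_iff_of_surjective (Ideal.Quotient.mk p)
      Ideal.Quotient.mk_surjective).1 hb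
    obtain ⟨c, hc, hcb⟩ := this
    have h4 : c - algebraMap B A b ∈ p := by
      rw [← Ideal.Quotient.eq_zero_iff_mem, map_sub, hcb, sub_self]
    have h5 : algebraMap B A b = c - (c - algebraMap B A b) := by ring
    rw [h5]
    exact p'.sub_mem hc (hle h4)
  have h6 : b ∈ q := by
    rw [Ideal.LiesOver.over (p := q) (P := p'), Ideal.under_def, Ideal.mem_comap]
    exact h3
  rw [Ideal.mem_bot, Ideal.Quotient.eq_zero_iff_mem]
  exact h6

end algebra

section scheme

open Groth.Agent.H1.DimIneq Groth.Agent.H7.CatSp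

/-- in a fibre of a morphism of schemes, a point with algebraic residue field extension has no
proper specialization. -/
theorem eq_of_specializes_of_resTrdeg_eq_zero {W V : Scheme.{u}} (h : W ⟶ V) (w w' : W)
    (hsp : w ⤳ w') (he : h w = h w') (h0 : Dual3.resTrdeg h w = 0) : w = w' := by
  obtain ⟨V₀, hV₀, hv, -⟩ := exists_isAffineOpen_mem_and_subset
    (show h w' ∈ (⊤ : V.Opens) from trivial)
  have hw'pre : w' ∈ h ⁻¹ᵁ V₀ := hv
  obtain ⟨U₀, hU₀, hw'U, hUV⟩ := exists_isAffineOpen_mem_and_subset hw'pre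
  have e : U₀ ≤ h ⁻¹ᵁ V₀ := hUV
  have hwU : w ∈ U₀ := hsp.mem_open U₀.2 hw'U
  letI := (h.appLE V₀ U₀ e).hom.toAlgebra
  haveI l1 := liesOver_primeIdealOf h hU₀ hV₀ e w hwU
  haveI l2 := liesOver_primeIdealOf h hU₀ hV₀ e w' hw'U
  have hq : hV₀.primeIdealOf ⟨h w, e hwU⟩ = hV₀.primeIdealOf ⟨h w', e hw'U⟩ := by
    congr 1
    exact Subtype.ext he
  rw [← hq] at l2
  have hle : (hU₀.primeIdealOf ⟨w, hwU⟩).asIdeal ≤ (hU₀.primeIdealOf ⟨w', hw'U⟩).asIdeal :=
    (primeIdealOf_le_iff' hU₀ ⟨w, hwU⟩ ⟨w', hw'U⟩).2 hsp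
  have htr := resTrdeg_eq_trdeg_quotient h hU₀ hV₀ e w hwU
  rw [h0] at htr
  have halg := trdeg_eq_zero_iff.1 htr.symm
  have hpp := ideal_eq_of_le_of_isAlgebraic (hV₀.primeIdealOf ⟨h w, e hwU⟩).asIdeal
    (hU₀.primeIdealOf ⟨w, hwU⟩).asIdeal (hU₀.primeIdealOf ⟨w', hw'U⟩).asIdeal hle halg
  have h7 : hU₀.primeIdealOf ⟨w, hwU⟩ = hU₀.primeIdealOf ⟨w', hw'U⟩ := PrimeSpectrum.ext hpp
  have h8 := (affHomeo hU₀).injective h7
  exact congrArg Subtype.val h8

end scheme

end Groth.Agent.H7.BiratFib
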