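import Mathlib
import Groth.Prelude.Def_AlgSp4
import Groth.Agent.Lib.Helper7.FinCoprod
import Groth.Agent.Lib.Helper5.AlgSp.Points

set_option autoImplicit false
universe u
open CategoryTheory CategoryTheory.Limits AlgebraicGeometry Opposite

namespace Groth.Agent.H7.OpenUnion

open _root_.AlgSp Groth.Agent.H5.AlgSp Groth.Agent.H3.AlgSpCov Groth.Agent.H7.FinCoprod

variable {S : Scheme.{u}}

/-- The morphism from a finite disjoint union of schemes to a sheaf induced by open immersions
with pairwise disjoint images is an open immersion. -/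
theorem repWith_isOpenImmersion_desc {n : ℕ} (W : Fin n → Over S) {F : Sp S}
    (a : ∀ i, (yon S).obj (W i) ⟶ F) (ha : ∀ i, RepWith @IsOpenImmersion (a i))
    (hdisj : ∀ i j, i ≠ j →
      Disjoint (Set.range (Points.ofPt (a i))) (Set.range (Points.ofPt (a j)))) :
    RepWith @IsOpenImmersion (Cofan.IsColimit.desc (yonCofan_isColimit W) a) := by
  apply MorphismProperty.relative.of_exists
  intro T ξ
  have hau : IsUniversalColimit (yonCofan W) :=
    (FinitaryExtensive.isVanKampen_finiteCoproducts (yonCofan_isColimit W)).isUniversal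
  obtain ⟨Ti, fst, snd, hsq, hoi⟩ : ∃ (Ti : Fin n → Over S)
      (fst : ∀ i, (yon S).obj (Ti i) ⟶ (yon S).obj (W i)) (snd : ∀ i, Ti i ⟶ T),
      (∀ i, IsPullback (fst i) ((yon S).map (snd i)) (a i) ξ) ∧
        ∀ i, IsOpenImmersion (snd i).left :=
    ⟨fun i => (ha i).rep.pullback ξ, fun i => (ha i).rep.fst ξ, fun i => (ha i).rep.snd ξ,
      fun i => (ha i).rep.isPullback ξ, fun i => (ha i).property_snd ξ⟩
  have hd' := yonCofan_isColimit Ti
  have sq := hau.isPullback_of_isColimit_right a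
    (Cofan.IsColimit.desc (yonCofan_isColimit W) a) ξ fst
    (fun i => (yon S).map (snd i)) hsq hd' (fun i => Cofan.IsColimit.fac _ _ i)
  let Ttot : Over S := sigmaOver fun i : ULift.{u} (Fin n) => Ti i.down
  let stot : Ttot ⟶ T :=
    sigmaOverDesc (fun i : ULift.{u} (Fin n) => Ti i.down) (fun i => snd i.down)
  have hk : Cofan.IsColimit.desc hd' (fun i => (yon S).map (snd i)) = (yon S).map stot := by
    apply Cofan.IsColimit.hom_ext hd'
    intro i
    rw [Cofan.IsColimit.fac]
    change _ = (yon S).map (sigmaOverι (fun i : ULift.{u} (Fin n) => Ti i.down) ⟨i⟩) ≫ _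
    rw [← Functor.map_comp, sigmaOverι_desc]
  rw [hk] at sq
  refine ⟨Ttot, _, stot, sq, ?_⟩
  change IsOpenImmersion (Sigma.desc fun i : ULift.{u} (Fin n) => (snd i.down).left)
  haveI : ∀ i : ULift.{u} (Fin n), IsOpenImmersion ((snd i.down).left) := fun i => hoi i.down
  apply isOpenImmersion_sigmaDesc
  intro i j hij
  rw [Function.onFun, Set.disjoint_left]
  rintro t ⟨v, hv⟩ ⟨v', hv'⟩
  have hne : i.down ≠ j.down := fun h => hij (ULift.ext _ _ h)
  obtain ⟨φ, hφ⟩ := (yon S).map_surjective (fst i.down)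
  obtain ⟨φ', hφ'⟩ := (yon S).map_surjective (fst j.down)
  have h1 : Points.ofPt ξ t = Points.ofPt (a i.down) (φ.left v) := by
    rw [← hv, ← ofPt_yon_map_comp, ← (hsq i.down).w, ← hφ, ofPt_yon_map_comp]
  have h2 : Points.ofPt ξ t = Points.ofPt (a j.down) (φ'.left v') := by
    rw [← hv', ← ofPt_yon_map_comp, ← (hsq j.down).w, ← hφ', ofPt_yon_map_comp]
  exact Set.disjoint_left.1 (hdisj _ _ hne) ⟨_, h1.symm⟩ ⟨_, h2.symm⟩

/-- The points of the image of the morphism from a disjoint union. -/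
theorem range_ofPt_desc {n : ℕ} (W : Fin n → Over S) {F : Sp S}
    (a : ∀ i, (yon S).obj (W i) ⟶ F) (i : Fin n) :
    Set.range (Points.ofPt (a i)) ⊆
      Set.range (Points.ofPt (Cofan.IsColimit.desc (yonCofan_isColimit W) a)) := by
  rintro _ ⟨w, rfl⟩
  refine ⟨(sigmaOverι (fun i : ULift.{u} (Fin n) => W i.down) ⟨i⟩).left w, ?_⟩
  rw [← ofPt_yon_map_comp]
  congr 1
  exact Cofan.IsColimit.fac (yonCofan_isColimit W) a i

end Groth.Agent.H7.OpenUnion
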