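import Mathlib
import Groth.Prelude.Def_AlgSp4
import Groth.Prelude.Def_AlgSpDec
import Groth.Prelude.Def_AlgSpSub
import Groth.Prelude.Def_W4stk3decentspacesp2Birat
import Groth.Agent.Lib.Helper7.OpenUnion
import Groth.Agent.Lib.Helper1.Birat2
import Groth.Agent.Lib.Helper3.Decent.Sober
import Groth.Agent.Lib.Helper3.AlgSpCov.RedNoeth
import Groth.Agent.Lib.Helper5.AlgSp.DecentT0
import Groth.Agent.Lib.Helper5.AlgSp.ImmersionTop
import Groth.Agent.Lib.Helper5.AlgSp.LocalRep
import Groth.Agent.Lib.Helper5.AlgSp.EtaleMor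

set_option autoImplicit false
universe u
open CategoryTheory CategoryTheory.Limits AlgebraicGeometry Opposite Topology

namespace Groth.Agent.H7.BiratIso

open _root_.AlgSp Groth.Agent.H5.AlgSp Groth.Agent.H3.AlgSpCov Groth.Agent.H7.FinCoprod
  Groth.Agent.H7.OpenUnion Groth.Agent.H1.Birat

variable {S : Scheme.{u}}

lemma isOpenImmersion_le_etale :
    (@IsOpenImmersion : MorphismProperty Scheme.{u}) ≤ @Etale := fun _ _ f hf => by
  have : IsOpenImmersion f := hf
  exact (inferInstance : Etale f)

/-- A chart which is an open immersion is an open embedding on points. -/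
theorem isOpenEmbedding_ofPt {F : Sp S} {U : Over S} {a : (yon S).obj U ⟶ F}
    (ha : RepWith @IsOpenImmersion a) : IsOpenEmbedding (Points.ofPt a) := by
  have hm : Mono a := mono_of_repWith LocalRep.isOpenImmersion_le_mono ha
  refine .of_continuous_injective_isOpenMap (Points.continuous_ofPt a) ?_
    (isOpenMap_ofPt_of_etale (repWith_mono isOpenImmersion_le_etale ha))
  intro u u' h
  rw [Points.ofPt_eq_map_ofScheme, Points.ofPt_eq_map_ofScheme] at h
  exact (Points.schemeHomeo U).injective (points_map_injective_of_mono a h)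

/-- The local construction at a generic point. -/
theorem exists_local {X Y : Sp S} (f : X ⟶ Y)
    (hlft : LocP @LocallyOfFiniteType f)
    (h : IsReducedSp Y ∨ LocP @LocallyOfFinitePresentation f)
    (OX : Set (Points X)) (hOX : IsOpen OX) (OY : Set (Points Y)) (hOY : IsOpen OY)
    (hOYirr : IsPreirreducible OY)
    (x : Points X) (hx : x ∈ OX) (hfx : Points.map f x ∈ OY)
    {U V : Over S} (a : (yon S).obj U ⟶ X) (b : (yon S).obj V ⟶ Y) (g : U ⟶ V) (u : ↥U.left)
    (ha : RepWith @IsOpenImmersion a) (hb : RepWith @IsOpenImmersion b)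
    (comm : a ≫ f = (yon S).map g ≫ b) (hu : Points.ofPt a u = x)
    (hiso : IsIso (g.left.stalkMap u)) :
    ∃ (T : Over S) (a' : (yon S).obj T ⟶ X) (b' : (yon S).obj T ⟶ Y),
      RepWith @IsOpenImmersion a' ∧ RepWith @IsOpenImmersion b' ∧ a' ≫ f = b' ∧
        x ∈ Set.range (Points.ofPt a') ∧ Set.range (Points.ofPt a') ⊆ OX ∧
          Set.range (Points.ofPt b') ⊆ OY := by
  have hae : RepWith @Etale a := repWith_mono isOpenImmersion_le_etale ha
  have hbe : RepWith @Etale b := repWith_mono isOpenImmersion_le_etale hb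
  have hg : LocallyOfFiniteType g.left := hlft a b g hae hbe comm
  have hbv : Points.ofPt b (g.left u) = Points.map f x := by
    rw [← ofPt_yon_map_comp, ← comm, ← hu]
    rfl
  have Hsp : LocallyOfFinitePresentation g.left ∨ V.left.IsGermInjectiveAt (g.left u) := by
    rcases h with hYr | hfp
    · right
      let W : V.left.Opens := ⟨Points.ofPt b ⁻¹' OY, hOY.preimage (Points.continuous_ofPt b)⟩
      have hv : g.left u ∈ W := by
        change Points.ofPt b (g.left u) ∈ OY
        rw [hbv]; exact hfx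
      have hVr : AlgebraicGeometry.IsReduced V.left :=
        Groth.Agent.H3.AlgSpCov.isReduced_of_etale_of_isReducedSp hYr b hbe
      have hWr : AlgebraicGeometry.IsReduced (W : Scheme.{u}) := inferInstance
      have hWirr : IrreducibleSpace ↥(W : Scheme.{u}) := by
        have h1 : IsIrreducible (W : Set ↥V.left) :=
          ⟨⟨g.left u, hv⟩, hOYirr.preimage (isOpenEmbedding_ofPt hb)⟩
        exact (isIrreducible_iff_irreducibleSpace (s := (W : Set ↥V.left))).1 h1
      have hWint : IsIntegral (W : Scheme.{u}) := isIntegral_of_irreducibleSpace_of_isReduced _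
      have h2 : (W : Scheme.{u}).IsGermInjectiveAt ⟨g.left u, hv⟩ := inferInstance
      have h3 : V.left.IsGermInjectiveAt (W.ι ⟨g.left u, hv⟩) := inferInstance
      exact h3
    · left
      exact hfp a b g hae hbe comm
  obtain ⟨T₀, α, β, hα, hβ, hαβ, t₀, ht₀⟩ := exists_local_iso g.left u Hsp
  let W₀ : T₀.Opens := ⟨{t | Points.ofPt a (α t) ∈ OX ∧ Points.ofPt b (β t) ∈ OY},
    ((hOX.preimage (Points.continuous_ofPt a)).preimage α.continuous).inter
      ((hOY.preimage (Points.continuous_ofPt b)).preimage β.continuous)⟩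
  have hβ' : β = α ≫ g.left := hαβ.symm
  let T : Over S := Over.mk (W₀.ι ≫ α ≫ U.hom)
  let αT : T ⟶ U := Over.homMk (W₀.ι ≫ α) (by simp [T])
  let βT : T ⟶ V := Over.homMk (W₀.ι ≫ β) (by
    simp only [T, Over.mk_hom, Category.assoc, hβ']
    rw [Over.w g])
  have hαβT : αT ≫ g = βT := by
    apply Over.OverMorphism.ext
    simp [αT, βT, hβ']
  have hαo : IsOpenImmersion αT.left := by
    change IsOpenImmersion (W₀.ι ≫ α)
    infer_instance
  have hβo : IsOpenImmersion βT.left := by
    change IsOpenImmersion (W₀.ι ≫ β)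
    infer_instance
  refine ⟨T, (yon S).map αT ≫ a, (yon S).map βT ≫ b,
    MorphismProperty.comp_mem _ _ _ ((repWith_yon_map_iff @IsOpenImmersion _).2 hαo) ha,
    MorphismProperty.comp_mem _ _ _ ((repWith_yon_map_iff @IsOpenImmersion _).2 hβo) hb, ?_, ?_, ?_, ?_⟩
  · rw [Category.assoc, comm, ← Category.assoc, ← Functor.map_comp, hαβT]
  · have hβt₀ : β t₀ = g.left u := by
      rw [hβ', Scheme.Hom.comp_apply, ht₀]
    have hmem : t₀ ∈ W₀ := by
      refine ⟨?_, ?_⟩
      · change Points.ofPt a (α t₀) ∈ OX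
        rw [ht₀, hu]; exact hx
      · change Points.ofPt b (β t₀) ∈ OY
        rw [hβt₀, hbv]; exact hfx
    refine ⟨⟨t₀, hmem⟩, ?_⟩
    rw [ofPt_yon_map_comp]
    change Points.ofPt a (α t₀) = x
    rw [ht₀, hu]
  · rintro _ ⟨t, rfl⟩
    rw [ofPt_yon_map_comp]
    exact t.2.1
  · rintro _ ⟨t, rfl⟩
    rw [ofPt_yon_map_comp]
    exact t.2.2

section Top

variable {Y : Type*} [TopologicalSpace Y]

lemma finite_genericPoints [T0Space Y] (hfin : (irreducibleComponents Y).Finite) :
    (genericPoints Y).Finite := by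
  refine Set.Finite.of_injOn (f := fun x : Y => closure {x}) (fun x hx => hx) ?_ hfin
  intro x _ y _ hxy
  exact ((inseparable_iff_closure_eq).2 hxy).eq

lemma isPreirreducible_compOpen (hfin : (irreducibleComponents Y).Finite) {η : Y}
    (hη : closure {η} ∈ irreducibleComponents Y) :
    IsPreirreducible (compOpen hfin η : Set Y) :=
  hη.1.isPreirreducible.open_subset (compOpen hfin η).2 (compOpen_subset hfin)

end Top

theorem S10435_main {X Y : AlgSp.Space S} (f : X ⟶ Y)
    (hX : AlgSp.IsDecent X.obj) (hY : AlgSp.IsDecent Y.obj)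
    (hXf : (irreducibleComponents (AlgSp.Points X.obj)).Finite)
    (hYf : (irreducibleComponents (AlgSp.Points Y.obj)).Finite)
    (hf : W4stk3decentspacesp2.IsBirational f.hom)
    (h : (AlgSp.LocP @LocallyOfFiniteType f.hom ∧ AlgSp.EtaleLocally (fun T => IsReduced T) Y.obj) ∨
      AlgSp.LocP @LocallyOfFinitePresentation f.hom) :
    ∃ (U V : Over S) (a : (AlgSp.yon S).obj U ⟶ X.obj) (b : (AlgSp.yon S).obj V ⟶ Y.obj) (g : U ⟶ V),
      AlgSp.RepWith @IsOpenImmersion a ∧ AlgSp.RepWith @IsOpenImmersion b ∧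
        Dense (Set.range (AlgSp.Points.ofPt a)) ∧ Dense (Set.range (AlgSp.Points.ofPt b)) ∧
          a ≫ f.hom = (AlgSp.yon S).map g ≫ b ∧ IsIso g.left := by
  haveI : T0Space (Points X.obj) := t0Space_points_of_isDecent X.property hX
  haveI : T0Space (Points Y.obj) := t0Space_points_of_isDecent Y.property hY
  haveI : QuasiSober (Points X.obj) :=
    Groth.Agent.H3.Decent.quasiSober_points_of_isDecent X.property hX
  haveI : QuasiSober (Points Y.obj) :=
    Groth.Agent.H3.Decent.quasiSober_points_of_isDecent Y.property hY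
  have hlft : LocP @LocallyOfFiniteType f.hom := by
    rcases h with h | h
    · exact h.1
    · exact locP_mono (fun _ _ g hg => by
        have : LocallyOfFinitePresentation g := hg
        exact (inferInstance : LocallyOfFiniteType g)) h
  have h' : IsReducedSp Y.obj ∨ LocP @LocallyOfFinitePresentation f.hom := by
    rcases h with h | h
    · exact Or.inl h.2
    · exact Or.inr h
  -- enumerate the generic points
  have hGfin : (genericPoints (Points X.obj)).Finite := finite_genericPoints hXf
  haveI : Finite ↥(genericPoints (Points X.obj)) := hGfin.to_subtype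
  obtain ⟨n, ⟨e⟩⟩ := Finite.exists_equiv_fin ↥(genericPoints (Points X.obj))
  have hxg : ∀ i : Fin n, closure {(e.symm i).1} ∈ irreducibleComponents (Points X.obj) :=
    fun i => (e.symm i).2
  have hyg : ∀ i : Fin n,
      closure {Points.map f.hom (e.symm i).1} ∈ irreducibleComponents (Points Y.obj) :=
    fun i => hf.bijOn.mapsTo (e.symm i).2
  have key : ∀ i : Fin n, ∃ (T : Over S) (a' : (yon S).obj T ⟶ X.obj)
      (b' : (yon S).obj T ⟶ Y.obj),
      RepWith @IsOpenImmersion a' ∧ RepWith @IsOpenImmersion b' ∧ a' ≫ f.hom = b' ∧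
        (e.symm i).1 ∈ Set.range (Points.ofPt a') ∧
          Set.range (Points.ofPt a') ⊆ (compOpen hXf (e.symm i).1 : Set (Points X.obj)) ∧
          Set.range (Points.ofPt b') ⊆
            (compOpen hYf (Points.map f.hom (e.symm i).1) : Set (Points Y.obj)) := by
    intro i
    obtain ⟨U, V, a, b, g, u, ha, hb, comm, hu, hiso⟩ := hf.stalkIso _ (e.symm i).2
    exact exists_local f.hom hlft h' _ (compOpen hXf (e.symm i).1).2 _
      (compOpen hYf (Points.map f.hom (e.symm i).1)).2
      (isPreirreducible_compOpen hYf (hyg i)) _ (mem_compOpen hXf (hxg i))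
      (mem_compOpen hYf (hyg i)) a b g u ha hb comm hu hiso
  choose T a' b' ha' hb' hab hxa hra hrb using key
  have hne : ∀ i j : Fin n, i ≠ j → (e.symm i).1 ≠ (e.symm j).1 := fun i j hij h =>
    hij (e.symm.injective (Subtype.ext h))
  have hneY : ∀ i j : Fin n, i ≠ j →
      Points.map f.hom (e.symm i).1 ≠ Points.map f.hom (e.symm j).1 := fun i j hij h =>
    hne i j hij (hf.bijOn.injOn (e.symm i).2 (e.symm j).2 h)
  have hdX : ∀ i j, i ≠ j →
      Disjoint (Set.range (Points.ofPt (a' i))) (Set.range (Points.ofPt (a' j))) :=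
    fun i j hij => (disjoint_compOpen hXf (hxg i) (hne i j hij)).mono (hra i) (hra j)
  have hdY : ∀ i j, i ≠ j →
      Disjoint (Set.range (Points.ofPt (b' i))) (Set.range (Points.ofPt (b' j))) :=
    fun i j hij => (disjoint_compOpen hYf (hyg i) (hneY i j hij)).mono (hrb i) (hrb j)
  refine ⟨_, _, Cofan.IsColimit.desc (yonCofan_isColimit T) a',
    Cofan.IsColimit.desc (yonCofan_isColimit T) b', 𝟙 _,
    repWith_isOpenImmersion_desc T a' ha' hdX, repWith_isOpenImmersion_desc T b' hb' hdY,
    ?_, ?_, ?_, ?_⟩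
  · apply dense_of_generic_mem
    intro η hη
    obtain ⟨i, hi⟩ := e.symm.surjective ⟨η, hη⟩
    have : η = (e.symm i).1 := by rw [hi]
    rw [this]
    exact range_ofPt_desc T a' i (hxa i)
  · apply dense_of_generic_mem
    intro η hη
    obtain ⟨x, hx, rfl⟩ := hf.bijOn.surjOn hη
    obtain ⟨i, hi⟩ := e.symm.surjective ⟨x, hx⟩
    have : x = (e.symm i).1 := by rw [hi]
    rw [this]
    obtain ⟨t, ht⟩ := hxa i
    apply range_ofPt_desc T b' i
    refine ⟨t, ?_⟩
    rw [← ht, Points.map_ofPt, hab i]
  · have h1 : Cofan.IsColimit.desc (yonCofan_isColimit T) a' ≫ f.hom =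
        Cofan.IsColimit.desc (yonCofan_isColimit T) b' := by
      apply Cofan.IsColimit.hom_ext (yonCofan_isColimit T)
      intro i
      rw [← Category.assoc, Cofan.IsColimit.fac, Cofan.IsColimit.fac, hab i]
    refine h1.trans ?_
    rw [CategoryTheory.Functor.map_id]
    exact (Category.id_comp _).symm
  · infer_instance

end Groth.Agent.H7.BiratIso
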