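import Groth.Agent.Lib.Helper7.FOSp2
import Groth.Agent.Lib.Helper7.EDSq
import Groth.Agent.Lib.Helper5.AlgSp.MonoDesc
import Mathlib

/-!
# Gluing framework for infinitesimal lifting along first order thickenings of algebraic spaces
-/

set_option autoImplicit false
universe u

open AlgebraicGeometry CategoryTheory Limits MorphismProperty

namespace Groth.Agent.H7.FOSp3

open _root_.AlgSp Groth.Agent.H5.AlgSp Groth.Agent.H7.FOSp1 Groth.Agent.H7.FOSp2
  Groth.Agent.H7.EDSq

variable {S : Scheme.{u}}

/-- the sieve on which two sections agree. -/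
def eqSieve {F : Sp S} {V : Over S} (x y : (yon S).obj V ⟶ F) : Sieve V where
  arrows T' g := (yon S).map g ≫ x = (yon S).map g ≫ y
  downward_closed := by
    intro T1 T2 g hg k
    rw [Functor.map_comp, Category.assoc, Category.assoc, hg]

/-- sections agreeing on an fppf covering family agree. -/
theorem hom_ext_of_family {F : Sp S} {V : Over S} {ι : Type*} (A : ι → Over S)
    (a : ∀ k, A k ⟶ V) (hfl : ∀ k, Flat (a k).left)
    (hlfp : ∀ k, LocallyOfFinitePresentation (a k).left)
    (hsurj : ∀ t : ↥V.left, ∃ k, t ∈ Set.range (a k).left)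
    (x y : (yon S).obj V ⟶ F) (h : ∀ k, (yon S).map (a k) ≫ x = (yon S).map (a k) ≫ y) :
    x = y :=
  yon_hom_ext_of_mem_J (mem_J_of_family A a hfl hlfp hsurj (eqSieve x y) h) x y
    (fun _ _ hg => hg)

/-- glue sections along an fppf covering family. -/
theorem exists_glue {F : Sp S} {V : Over S} {ι : Type*} (A : ι → Over S) (a : ∀ k, A k ⟶ V)
    (hfl : ∀ k, Flat (a k).left) (hlfp : ∀ k, LocallyOfFinitePresentation (a k).left)
    (hsurj : ∀ t : ↥V.left, ∃ k, t ∈ Set.range (a k).left)
    (s : ∀ k, (yon S).obj (A k) ⟶ F)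
    (hs : ∀ k l (Z : Over S) (gk : Z ⟶ A k) (gl : Z ⟶ A l), gk ≫ a k = gl ≫ a l →
      (yon S).map gk ≫ s k = (yon S).map gl ≫ s l) :
    ∃ t : (yon S).obj V ⟶ F, ∀ k, (yon S).map (a k) ≫ t = s k := by
  have hF : Presieve.IsSheaf (J S) F.obj := (isSheaf_iff_isSheaf_of_type _ _).1 F.property
  have h1 := hF _ (mem_J_of_family A a hfl hlfp hsurj (Sieve.generate (Presieve.ofArrows A a))
    (fun k => (Sieve.le_generate (Presieve.ofArrows A a)) _ _ (Presieve.ofArrows.mk k)))
  rw [← Presieve.isSheafFor_iff_generate, Presieve.isSheafFor_arrows_iff] at h1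
  obtain ⟨t, ht, -⟩ := h1 (fun k => yEquiv F (A k) (s k)) (by
    intro i j Z gi gj h
    have e := hs i j Z gi gj h
    have n1 := (J S).uliftYonedaEquiv_naturality (s i) gi
    have n2 := (J S).uliftYonedaEquiv_naturality (s j) gj
    exact n1.trans ((congrArg (yEquiv F Z) e).trans n2.symm))
  refine ⟨(yEquiv F V).symm t, fun k => ?_⟩
  apply (yEquiv F (A k)).injective
  rw [← ht k]
  have := (J S).uliftYonedaEquiv_naturality ((yEquiv F V).symm t) (a k)
  rw [Equiv.apply_symm_apply] at this
  exact this.symm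

section AffCover

variable (V : Over S)

/-- the affine open cover of a scheme over `S`, as objects over `S`. -/
noncomputable def affObj (k : V.left.affineCover.I₀) : Over S :=
  Over.mk (V.left.affineCover.f k ≫ V.hom)

noncomputable def affHom (k : V.left.affineCover.I₀) : affObj V k ⟶ V :=
  Over.homMk (V.left.affineCover.f k) rfl

instance (k : V.left.affineCover.I₀) : IsAffine (affObj V k).left := by
  change IsAffine (V.left.affineCover.X k); infer_instance

instance (k : V.left.affineCover.I₀) : IsOpenImmersion (affHom V k).left := by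
  change IsOpenImmersion (V.left.affineCover.f k); infer_instance

lemma affHom_surj (t : ↥V.left) : ∃ k, t ∈ Set.range (affHom V k).left :=
  ⟨V.left.affineCover.idx t, V.left.affineCover.covers t⟩

end AffCover

/-- the left part of a pullback projection in `Over S`. -/
lemma isPullback_left {V W A : Over S} (snd : W ⟶ V) (a : A ⟶ V) :
    IsPullback (pullback.fst snd a).left (pullback.snd snd a).left snd.left a.left :=
  (IsPullback.of_hasPullback snd a).map (Over.forget S)

lemma FOThick_pullback_snd {V W A : Over S} (snd : W ⟶ V) (a : A ⟶ V)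
    (h : FOThick snd.left) : FOThick (pullback.snd snd a).left :=
  FOThick.of_isPullback (isPullback_left snd a) h

lemma isOpenImmersion_pullback_fst {V W A : Over S} (snd : W ⟶ V) (a : A ⟶ V)
    [IsOpenImmersion a.left] : IsOpenImmersion (pullback.fst snd a).left :=
  MorphismProperty.of_isPullback (P := @IsOpenImmersion) (isPullback_left snd a).flip
    inferInstance

lemma pullback_fst_surj {V W : Over S} (snd : W ⟶ V) {ι : Type*} (A : ι → Over S)
    (a : ∀ k, A k ⟶ V) (hsurj : ∀ t : ↥V.left, ∃ k, t ∈ Set.range (a k).left) (w : ↥W.left) :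
    ∃ k, w ∈ Set.range (pullback.fst snd (a k)).left := by
  obtain ⟨k, v, hv⟩ := hsurj (snd.left w)
  refine ⟨k, ?_⟩
  have sq := isPullback_left snd (a k)
  obtain ⟨z, hz1, -⟩ := Scheme.Pullback.exists_preimage_pullback w v hv.symm
  refine ⟨sq.isoPullback.inv z, ?_⟩
  rw [← Scheme.Hom.comp_apply, sq.isoPullback_inv_fst]
  exact hz1

section Frame

variable {X Y : Sp S} (f : X ⟶ Y) (C : ∀ ⦃G : Sp S⦄, (G ⟶ X) → Prop)

/-- uniqueness of lifts along affine first order thickenings. -/
def AffUniq : Prop := ∀ ⦃V W : Over S⦄ (snd : W ⟶ V), IsAffine V.left → FOThick snd.left →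
    ∀ l l' : (yon S).obj V ⟶ X, C ((yon S).map snd ≫ l) →
      (yon S).map snd ≫ l = (yon S).map snd ≫ l' → l ≫ f = l' ≫ f → l = l'

/-- existence of lifts along affine first order thickenings. -/
def AffLift : Prop := ∀ ⦃V W : Over S⦄ (snd : W ⟶ V), IsAffine V.left → FOThick snd.left →
    ∀ (top : (yon S).obj W ⟶ X) (bot : (yon S).obj V ⟶ Y), C top →
      top ≫ f = (yon S).map snd ≫ bot →
      ∃ l : (yon S).obj V ⟶ X, (yon S).map snd ≫ l = top ∧ l ≫ f = bot

/-- stability of the class of top arrows under precomposition. -/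
def Stable : Prop := ∀ ⦃G G' : Sp S⦄ (g : G' ⟶ G) (t : G ⟶ X), C t → C (g ≫ t)

variable {f C}

theorem sch_uniq (hC : Stable C) (HU : AffUniq f C) {V W : Over S} (snd : W ⟶ V)
    (hfo : FOThick snd.left) (l l' : (yon S).obj V ⟶ X) (hCl : C ((yon S).map snd ≫ l))
    (h1 : (yon S).map snd ≫ l = (yon S).map snd ≫ l') (h2 : l ≫ f = l' ≫ f) : l = l' := by
  refine hom_ext_of_family (affObj V) (affHom V) (fun k => inferInstance)
    (fun k => inferInstance) (affHom_surj V) l l' (fun k => ?_)
  have hw : (yon S).map (pullback.snd snd (affHom V k)) ≫ (yon S).map (affHom V k) =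
      (yon S).map (pullback.fst snd (affHom V k)) ≫ (yon S).map snd := by
    rw [← Functor.map_comp, ← Functor.map_comp, pullback.condition]
  refine HU (pullback.snd snd (affHom V k)) inferInstance
    (FOThick_pullback_snd snd _ hfo) _ _ ?_ ?_ ?_
  · rw [← Category.assoc, hw, Category.assoc]
    exact hC _ _ hCl
  · rw [← Category.assoc, ← Category.assoc, hw, Category.assoc, Category.assoc, h1]
  · rw [Category.assoc, Category.assoc, h2]

theorem sch_lift (hC : Stable C) (HU : AffUniq f C) (HE : AffLift f C) {V W : Over S}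
    (snd : W ⟶ V) (hfo : FOThick snd.left) (top : (yon S).obj W ⟶ X)
    (bot : (yon S).obj V ⟶ Y) (hCt : C top) (comm : top ≫ f = (yon S).map snd ≫ bot) :
    ∃ l : (yon S).obj V ⟶ X, (yon S).map snd ≫ l = top ∧ l ≫ f = bot := by
  have hw : ∀ k, (yon S).map (pullback.snd snd (affHom V k)) ≫ (yon S).map (affHom V k) =
      (yon S).map (pullback.fst snd (affHom V k)) ≫ (yon S).map snd := by
    intro k
    rw [← Functor.map_comp, ← Functor.map_comp, pullback.condition]
  have hloc : ∀ k, ∃ l : (yon S).obj (affObj V k) ⟶ X,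
      (yon S).map (pullback.snd snd (affHom V k)) ≫ l =
        (yon S).map (pullback.fst snd (affHom V k)) ≫ top ∧
      l ≫ f = (yon S).map (affHom V k) ≫ bot := by
    intro k
    refine HE (pullback.snd snd (affHom V k)) inferInstance (FOThick_pullback_snd snd _ hfo)
      _ _ (hC _ _ hCt) ?_
    rw [Category.assoc, comm, ← Category.assoc, ← hw, Category.assoc]
  choose lk hlk1 hlk2 using hloc
  obtain ⟨l, hl⟩ := exists_glue (affObj V) (affHom V) (fun k => inferInstance)
    (fun k => inferInstance) (affHom_surj V) lk (by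
    intro k k' Z gk gl hg
    -- the thickening over `Z`
    have key : ∀ (m : V.left.affineCover.I₀) (gm : Z ⟶ affObj V m) (gV : Z ⟶ V),
        gm ≫ affHom V m = gV →
        (yon S).map (pullback.snd snd gV) ≫ (yon S).map gm ≫ lk m =
          (yon S).map (pullback.fst snd gV) ≫ top := by
      rintro m gm _ rfl
      let u : pullback snd (gm ≫ affHom V m) ⟶ pullback snd (affHom V m) :=
        pullback.lift (pullback.fst _ _) (pullback.snd _ _ ≫ gm)
          (by rw [pullback.condition, Category.assoc])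
      have hu1 : u ≫ pullback.fst _ _ = pullback.fst _ _ := pullback.lift_fst _ _ _
      have hu2 : u ≫ pullback.snd _ _ = pullback.snd _ _ ≫ gm := pullback.lift_snd _ _ _
      rw [← Category.assoc, ← Functor.map_comp, ← hu2, Functor.map_comp, Category.assoc,
        hlk1, ← Category.assoc, ← Functor.map_comp, hu1]
    have k1 := key k gk _ rfl
    have k2 := key k' gl _ hg.symm
    refine sch_uniq hC HU (pullback.snd snd (gk ≫ affHom V k)) (FOThick_pullback_snd snd _ hfo)
      _ _ ?_ (k1.trans k2.symm) ?_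
    · rw [k1]; exact hC _ _ hCt
    · rw [Category.assoc, Category.assoc, hlk2, hlk2, ← Category.assoc, ← Category.assoc,
        ← Functor.map_comp, ← Functor.map_comp, hg])
  refine ⟨l, ?_, ?_⟩
  · refine hom_ext_of_family (fun k => pullback snd (affHom V k))
      (fun k => pullback.fst snd (affHom V k))
      (fun k => ?_) (fun k => ?_) (pullback_fst_surj snd _ _ (affHom_surj V)) _ _ (fun k => ?_)
    · haveI := isOpenImmersion_pullback_fst snd (affHom V k); infer_instance
    · haveI := isOpenImmersion_pullback_fst snd (affHom V k); infer_instance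
    · rw [← Category.assoc, ← hw, Category.assoc, hl, hlk1]
  · refine hom_ext_of_family (affObj V) (affHom V) (fun k => inferInstance)
      (fun k => inferInstance) (affHom_surj V) _ _ (fun k => ?_)
    rw [← Category.assoc, hl, hlk2]

theorem sp_uniq (hC : Stable C) (HU : AffUniq f C) {T T' : Sp S} (hT' : IsAlgSpace T')
    (j : T ⟶ T') (hj : RepWith FOThick j) (l l' : T' ⟶ X) (hCl : C (j ≫ l))
    (h1 : j ≫ l = j ≫ l') (h2 : l ≫ f = l' ≫ f) : l = l' := by
  obtain ⟨U, c, hce, hcs⟩ := hT'.atlas
  haveI := isLocallySurjective_of_etale_surjective c hce hcs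
  rw [← cancel_epi c]
  have sq := hj.1.isPullback c
  refine sch_uniq hC HU (hj.1.snd c) (hj.2 _ _ _ sq) _ _ ?_ ?_ ?_
  · rw [← Category.assoc, ← sq.w, Category.assoc]; exact hC _ _ hCl
  · rw [← Category.assoc, ← Category.assoc, ← sq.w, Category.assoc, Category.assoc, h1]
  · rw [Category.assoc, Category.assoc, h2]

theorem sp_lift (hC : Stable C) (HU : AffUniq f C) (HE : AffLift f C) {T T' : Sp S}
    (hT' : IsAlgSpace T') (j : T ⟶ T') (hj : RepWith FOThick j) (top : T ⟶ X) (bot : T' ⟶ Y)
    (hCt : C top) (comm : top ≫ f = j ≫ bot) :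
    ∃ l : T' ⟶ X, j ≫ l = top ∧ l ≫ f = bot := by
  obtain ⟨U, c, hce, hcs⟩ := hT'.atlas
  haveI := isLocallySurjective_of_etale_surjective c hce hcs
  have sq := hj.1.isPullback c
  obtain ⟨lU, hlU1, hlU2⟩ := sch_lift hC HU HE (hj.1.snd c) (hj.2 _ _ _ sq)
    (hj.1.fst c ≫ top) (c ≫ bot) (hC _ _ hCt)
    (by rw [Category.assoc, comm, ← Category.assoc, sq.w, Category.assoc])
  obtain ⟨l, hl⟩ := exists_desc_of_epi c lU (by
    intro T₀ x y hxy
    have sq₀ := hj.1.isPullback (x ≫ c)
    have key : ∀ z : (yon S).obj T₀ ⟶ (yon S).obj U, z ≫ c = x ≫ c →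
        (yon S).map (hj.1.snd (x ≫ c)) ≫ z ≫ lU = hj.1.fst (x ≫ c) ≫ top := by
      intro z hz
      have hw : hj.1.fst (x ≫ c) ≫ j = ((yon S).map (hj.1.snd (x ≫ c)) ≫ z) ≫ c := by
        rw [sq₀.w, Category.assoc, hz]
      have e1 : (yon S).map (hj.1.snd (x ≫ c)) ≫ z =
          sq.lift _ _ hw ≫ (yon S).map (hj.1.snd c) := (sq.lift_snd _ _ hw).symm
      rw [← Category.assoc, e1, Category.assoc, hlU1, ← Category.assoc, sq.lift_fst]
    obtain ⟨gx, rfl⟩ := (yon S).map_surjective x
    have k1 := key _ rfl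
    have k2 := key y hxy.symm
    refine sch_uniq hC HU (hj.1.snd ((yon S).map gx ≫ c)) (hj.2 _ _ _ sq₀) _ _ ?_
      (k1.trans k2.symm) ?_
    · rw [k1]; exact hC _ _ hCt
    · rw [Category.assoc, Category.assoc, hlU2, ← Category.assoc, ← Category.assoc, hxy])
  have hfe : RepWith @Etale (hj.1.fst c) :=
    (RepWith (S := S) @Etale).of_isPullback sq.flip hce
  have hfs : RepWith @Surjective (hj.1.fst c) :=
    (RepWith (S := S) @Surjective).of_isPullback sq.flip hcs
  haveI := isLocallySurjective_of_etale_surjective _ hfe hfs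
  refine ⟨l, ?_, ?_⟩
  · rw [← cancel_epi (hj.1.fst c), ← Category.assoc, sq.w, Category.assoc, hl, hlU1]
  · rw [← cancel_epi c, ← Category.assoc, hl, hlU2]

end Frame

end Groth.Agent.H7.FOSp3
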