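import Groth.Agent.Lib.Helper7.NilLiftSch
import Groth.Agent.Lib.Helper7.FOSp3
import Groth.Agent.Lib.Helper5.AlgSp.Points
import Groth.Agent.Lib.Helper5.AlgSp.PointsTop
import Groth.Agent.Lib.Helper5.AlgSp.FibreProduct
import Mathlib

/-!
# Smooth morphisms of algebraic spaces lift etale locally along thickenings (S10615)
-/

set_option autoImplicit false
universe u

open AlgebraicGeometry CategoryTheory Limits MorphismProperty

namespace Groth.Agent.H7.SmLift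

open _root_.AlgSp Groth.Agent.H5.AlgSp Groth.Agent.H7.FOSp3 Groth.Agent.H7.NilLiftSch

variable {S : Scheme.{u}}

/-- affine etale charts through a given point of an algebraic space. -/
theorem exists_affine_chart_at {F : Sp S} (hF : IsAlgSpace F) (x : Points F) :
    ∃ (U : Over S) (a : (yon S).obj U ⟶ F) (u : ↥U.left),
      IsAffine U.left ∧ RepWith @Etale a ∧ Points.ofPt a u = x := by
  obtain ⟨U₀, p, hpe, hps⟩ := hF.atlas
  obtain ⟨u₀, rfl⟩ := ofPt_surjective_of_repWith hps x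
  obtain ⟨κ, z, hz⟩ := affHom_surj U₀ u₀
  refine ⟨affObj U₀ κ, (yon S).map (affHom U₀ κ) ≫ p, z, inferInstance, ?_, ?_⟩
  · exact (RepWith (S := S) @Etale).comp_mem _ _
      ((repWith_yon_map_iff @Etale _).2 inferInstance) hpe
  · rw [ofPt_yon_map_comp, hz]

end Groth.Agent.H7.SmLift

namespace Groth.Agent.H7.SmLift

open _root_.AlgSp Groth.Agent.H5.AlgSp Groth.Agent.H7.FOSp3 Groth.Agent.H7.NilLiftSch

variable {S : Scheme.{u}}

/-- compatible affine etale charts of `T'` and `Y` at a point. -/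
theorem exists_compatible_charts {T' Y : Sp S} (hT' : IsAlgSpace T') (hY : IsAlgSpace Y)
    (b : T' ⟶ Y) (t' : Points T') :
    ∃ (W' Y₁ : Over S) (e₁ : (yon S).obj W' ⟶ T') (cY : (yon S).obj Y₁ ⟶ Y) (β : W' ⟶ Y₁)
      (w' : ↥W'.left), IsAffine W'.left ∧ IsAffine Y₁.left ∧ RepWith @Etale e₁ ∧
        RepWith @Etale cY ∧ Points.ofPt e₁ w' = t' ∧ (yon S).map β ≫ cY = e₁ ≫ b := by
  obtain ⟨W'₀, e₀, w'₀, hW'₀, he₀, hw'₀⟩ := exists_affine_chart_at hT' t'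
  obtain ⟨Y₁, cY, y₁, hY₁, hcY, hy₁⟩ := exists_affine_chart_at hY (Points.map b t')
  obtain ⟨Q, φ, ψ, sq, hψ⟩ : ∃ (Q : Over S) (φ : Q ⟶ Y₁) (ψ : Q ⟶ W'₀),
      IsPullback ((yon S).map φ) ((yon S).map ψ) cY (e₀ ≫ b) ∧ Etale ψ.left :=
    ⟨_, hcY.1.fst' _, hcY.1.snd _, hcY.1.isPullback' _, hcY.2 _ _ _ (hcY.1.isPullback _)⟩
  have hpt : Points.map cY (Points.ofScheme Y₁ y₁) = Points.ofPt (e₀ ≫ b) w'₀ := by
    rw [← Points.map_ofPt, hw'₀, ← hy₁]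
    rfl
  obtain ⟨v, hv, -⟩ := exists_point_of_isPullback sq (Points.ofScheme Y₁ y₁) w'₀ hpt
  obtain ⟨κ, z, hz⟩ := affHom_surj Q v
  refine ⟨affObj Q κ, Y₁, (yon S).map (affHom Q κ ≫ ψ) ≫ e₀, cY, affHom Q κ ≫ φ, z,
    inferInstance, hY₁, ?_, hcY, ?_, ?_⟩
  · refine (RepWith (S := S) @Etale).comp_mem _ _ ((repWith_yon_map_iff @Etale _).2 ?_) he₀
    rw [Over.comp_left]
    infer_instance
  · rw [ofPt_yon_map_comp, Over.comp_left, Scheme.Hom.comp_apply, hz, hv, hw'₀]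
  · rw [Functor.map_comp, Category.assoc, sq.w, Functor.map_comp, Category.assoc, Category.assoc]

end Groth.Agent.H7.SmLift

namespace Groth.Agent.H7.SmLift

open _root_.AlgSp Groth.Agent.H5.AlgSp Groth.Agent.H7.FOSp3 Groth.Agent.H7.NilLiftSch

variable {S : Scheme.{u}}

/-- the local lifting over compatible charts. -/
theorem exists_lift_chart {X Y : Sp S} (hX : IsAlgSpace X) (hY : IsAlgSpace Y) (f : X ⟶ Y)
    (hf : LocP @Smooth f) {Y₁ W' W : Over S} (hY₁ : IsAffine Y₁.left) (hW' : IsAffine W'.left)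
    (cY : (yon S).obj Y₁ ⟶ Y) (hcY : RepWith @Etale cY) (β : W' ⟶ Y₁) (t : W ⟶ W')
    (ht : thick t.left) (aW : (yon S).obj W ⟶ X)
    (haW : aW ≫ f = (yon S).map (t ≫ β) ≫ cY) (w : ↥W.left) :
    ∃ (V V₀ : Over S) (q : V ⟶ W') (i₀ : V₀ ⟶ V) (r : V₀ ⟶ W) (ℓ : (yon S).obj V ⟶ X)
      (v₀ : ↥V₀.left), Etale q.left ∧ IsPullback i₀ r q t ∧ r.left v₀ = w ∧
        ℓ ≫ f = (yon S).map (q ≫ β) ≫ cY ∧ (yon S).map i₀ ≫ ℓ = (yon S).map r ≫ aW := by
  have sqX := IsPullback.of_hasPullback f cY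
  have hX₁ : IsAlgSpace (pullback f cY) :=
    isAlgSpace_pullback hY.diag hX (IsAlgSpace.yon_obj Y₁) sqX
  have hfst : RepWith @Etale (pullback.fst f cY) := (RepWith @Etale).of_isPullback sqX.flip hcY
  obtain ⟨a₁, ha₁f, ha₁s⟩ : ∃ a₁ : (yon S).obj W ⟶ pullback f cY,
      a₁ ≫ pullback.fst f cY = aW ∧ a₁ ≫ pullback.snd f cY = (yon S).map (t ≫ β) :=
    ⟨pullback.lift aW ((yon S).map (t ≫ β)) haW, pullback.lift_fst _ _ _, pullback.lift_snd _ _ _⟩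
  obtain ⟨U, aU, u, hU, haU, hu⟩ := exists_affine_chart_at hX₁ (Points.ofPt a₁ w)
  obtain ⟨h, hh⟩ := (yon S).map_surjective (aU ≫ pullback.snd f cY)
  have hsm : Smooth h.left := hf (aU ≫ pullback.fst f cY) cY h
    ((RepWith (S := S) @Etale).comp_mem _ _ haU hfst) hcY (by
      rw [Category.assoc, pullback.condition, ← Category.assoc, hh])
  obtain ⟨Q, g, p, sqQ, hp⟩ : ∃ (Q : Over S) (g : Q ⟶ U) (p : Q ⟶ W),
      IsPullback ((yon S).map g) ((yon S).map p) aU a₁ ∧ Etale p.left :=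
    ⟨_, haU.1.fst' _, haU.1.snd _, haU.1.isPullback' _, haU.2 _ _ _ (haU.1.isPullback _)⟩
  have hpt : Points.map aU (Points.ofScheme U u) = Points.ofPt a₁ w := by
    rw [← hu]; rfl
  obtain ⟨w₂, hw₂, -⟩ := exists_point_of_isPullback sqQ (Points.ofScheme U u) w hpt
  haveI := hW'
  haveI := hp
  obtain ⟨V, V₀, q, i₀, r₀, hV, hV₀, hq, hr₀, ⟨v₀, hv₀⟩, hpb⟩ :=
    exists_local_etale_lift_thick t.left ht p.left w₂
  have hgh : g ≫ h = p ≫ t ≫ β := by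
    apply (yon S).map_injective
    rw [Functor.map_comp, hh, ← Category.assoc, sqQ.w, Category.assoc, ha₁s, ← Functor.map_comp]
  have e1 : g.left ≫ h.left = p.left ≫ t.left ≫ β.left := by
    rw [← Over.comp_left, hgh]; rfl
  have hthick : thick i₀ := thick.of_isPullback hpb.flip ht
  haveI := hU
  haveI := hY₁
  haveI := hV
  haveI := hsm
  obtain ⟨l, hl1, hl2⟩ := exists_affine_smooth_lift h.left i₀ hthick (r₀ ≫ g.left) (q ≫ β.left)
    (by rw [Category.assoc, e1, ← Category.assoc i₀, hpb.w]; simp only [Category.assoc])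
  have hw₀ : i₀ ≫ q ≫ W'.hom = r₀ ≫ Q.hom := by
    rw [← Over.w p, ← Over.w t, ← Category.assoc, hpb.w]; simp only [Category.assoc]
  have hlo : l ≫ U.hom = q ≫ W'.hom := by
    rw [← Over.w h, ← Category.assoc, hl1, Category.assoc, Over.w β]
  let Vo : Over S := Over.mk (q ≫ W'.hom)
  let V₀o : Over S := Over.mk (r₀ ≫ Q.hom)
  let qo : Vo ⟶ W' := Over.homMk q rfl
  let io : V₀o ⟶ Vo := Over.homMk i₀ hw₀
  let ro : V₀o ⟶ Q := Over.homMk r₀ rfl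
  let lo : Vo ⟶ U := Over.homMk l hlo
  have hcomm : io ≫ qo = (ro ≫ p) ≫ t := Over.OverMorphism.ext hpb.w
  have sqO : IsPullback io (ro ≫ p) qo t := IsPullback.of_map (Over.forget S) hcomm hpb
  have hlo1 : lo ≫ h = qo ≫ β := Over.OverMorphism.ext hl1
  have hlo2 : io ≫ lo = ro ≫ g := Over.OverMorphism.ext hl2
  refine ⟨Vo, V₀o, qo, io, ro ≫ p, (yon S).map lo ≫ aU ≫ pullback.fst f cY, v₀, hq, sqO,
    ?_, ?_, ?_⟩
  · change p.left (r₀ v₀) = w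
    rw [hv₀, hw₂]
  · rw [Category.assoc, Category.assoc, pullback.condition, ← Category.assoc aU, ← hh,
      ← Category.assoc, ← Functor.map_comp, hlo1]
  · rw [← Category.assoc, ← Functor.map_comp, hlo2, Functor.map_comp, Category.assoc,
      ← Category.assoc ((yon S).map g), sqQ.w, Category.assoc, ha₁f, Functor.map_comp,
      Category.assoc]

end Groth.Agent.H7.SmLift

namespace Groth.Agent.H7.SmLift

open _root_.AlgSp Groth.Agent.H5.AlgSp Groth.Agent.H7.FOSp3 Groth.Agent.H7.NilLiftSch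

variable {S : Scheme.{u}}

theorem S10615_sheaf {X Y T T' : Sp S} (hX : IsAlgSpace X) (hY : IsAlgSpace Y)
    (hT' : IsAlgSpace T') (f : X ⟶ Y) (hf : LocP @Smooth f) (i : T ⟶ T') (hi : IsThickMor i)
    (a : T ⟶ X) (b : T' ⟶ Y) (w : a ≫ f = i ≫ b) (t' : Points T') :
    ∃ (V : Over S) (e : (yon S).obj V ⟶ T') (ℓ : (yon S).obj V ⟶ X),
      RepWith @Etale e ∧ t' ∈ Set.range (Points.ofPt e) ∧ ℓ ≫ f = e ≫ b ∧
      ∀ (P : Sp S) (p₁ : P ⟶ T) (p₂ : P ⟶ (yon S).obj V),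
        IsPullback p₁ p₂ i e → p₂ ≫ ℓ = p₁ ≫ a := by
  obtain ⟨W', Y₁, e₁, cY, β, w', hW', hY₁, he₁, hcY, hw', hβ⟩ :=
    exists_compatible_charts hT' hY b t'
  obtain ⟨W, wT, t, sqW, ht⟩ : ∃ (W : Over S) (wT : (yon S).obj W ⟶ T) (t : W ⟶ W'),
      IsPullback wT ((yon S).map t) i e₁ ∧ thick t.left :=
    ⟨_, hi.1.fst _, hi.1.snd _, hi.1.isPullback _, hi.2 _ _ _ (hi.1.isPullback _)⟩
  haveI : Surjective t.left := ht.2
  obtain ⟨w₀, hw₀⟩ := t.left.surjective w'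
  have haW : (wT ≫ a) ≫ f = (yon S).map (t ≫ β) ≫ cY := by
    rw [Category.assoc, w, ← Category.assoc, sqW.w, Category.assoc, ← hβ, Functor.map_comp,
      Category.assoc]
  obtain ⟨V, V₀, q, i₀, r, ℓ, v₀, hq, sqV, hv₀, hℓ1, hℓ2⟩ :=
    exists_lift_chart hX hY f hf hY₁ hW' cY hcY β t ht (wT ≫ a) haW w₀
  have sqBig : IsPullback ((yon S).map r ≫ wT) ((yon S).map i₀) i ((yon S).map q ≫ e₁) :=
    (sqV.flip.map (yon S)).paste_horiz sqW
  refine ⟨V, (yon S).map q ≫ e₁, ℓ, ?_, ⟨i₀.left v₀, ?_⟩, ?_, ?_⟩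
  · exact (RepWith (S := S) @Etale).comp_mem _ _ ((repWith_yon_map_iff @Etale _).2 hq) he₁
  · rw [ofPt_yon_map_comp, ← Scheme.Hom.comp_apply, ← Over.comp_left, sqV.w, Over.comp_left,
      Scheme.Hom.comp_apply, hv₀, hw₀, hw']
  · rw [hℓ1, Functor.map_comp, Category.assoc, hβ, Category.assoc]
  · intro P p₁ p₂ sq
    obtain ⟨φ, hφ1, hφ2⟩ : ∃ φ : P ⟶ (yon S).obj V₀, φ ≫ ((yon S).map r ≫ wT) = p₁ ∧
        φ ≫ (yon S).map i₀ = p₂ :=
      ⟨sqBig.lift p₁ p₂ sq.w, sqBig.lift_fst _ _ _, sqBig.lift_snd _ _ _⟩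
    rw [← hφ2, Category.assoc, hℓ2, ← hφ1, Category.assoc, Category.assoc]

theorem S10615_main {X Y T T' : AlgSp.Space S} (f : X ⟶ Y)
    (hf : AlgSp.LocP @Smooth f.hom) (i : T ⟶ T')
    (hi : AlgSp.IsThickMor i.hom)
    (a : T ⟶ X) (b : T' ⟶ Y) (w : a ≫ f = i ≫ b) (t' : AlgSp.Points T'.obj) :
    ∃ (V : Over S) (e : (AlgSp.yon S).obj V ⟶ T'.obj) (ℓ : (AlgSp.yon S).obj V ⟶ X.obj),
      AlgSp.RepWith @Etale e ∧ t' ∈ Set.range (AlgSp.Points.ofPt e) ∧ ℓ ≫ f.hom = e ≫ b.hom ∧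
      ∀ (P : AlgSp.Sp S) (p₁ : P ⟶ T.obj) (p₂ : P ⟶ (AlgSp.yon S).obj V),
        IsPullback p₁ p₂ i.hom e → p₂ ≫ ℓ = p₁ ≫ a.hom :=
  S10615_sheaf X.property Y.property T'.property f.hom hf i.hom hi a.hom b.hom
    (congrArg (fun m => m.hom) w) t'

end Groth.Agent.H7.SmLift
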