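import Groth.Agent.Lib.Helper7.BiratFib1
import Groth.Agent.Lib.Helper7.BiratIso
import Groth.Agent.Lib.Helper7.SmLift
import Groth.Agent.Lib.Helper1.AlgSpDim
import Groth.Agent.Lib.Helper5.AlgSp.DecentGen
import Mathlib

/-!
# The fibre of a birational morphism over a generic point
-/

set_option autoImplicit false
universe u

open AlgebraicGeometry CategoryTheory Limits Topology

namespace Groth.Agent.H7.BiratFib

section topology

variable {T : Type*} [TopologicalSpace T]

/-- every point of a quasi-sober space is a specialization of a generic point of an irreducible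
component. -/
theorem exists_genericPoints_specializes [QuasiSober T] (t : T) :
    ∃ η ∈ genericPoints T, η ⤳ t := by
  obtain ⟨Z, hZ, hzZ⟩ := exists_mem_irreducibleComponents_subset_of_isIrreducible
    ({t} : Set T) isIrreducible_singleton
  have hZirr : IsIrreducible Z := hZ.1
  have hZcl : IsClosed Z := isClosed_of_mem_irreducibleComponents Z hZ
  obtain ⟨g, hg⟩ := QuasiSober.sober hZirr hZcl
  refine ⟨g, ?_, ?_⟩
  · change closure {g} ∈ irreducibleComponents T
    rw [hg.def]; exact hZ
  · rw [specializes_iff_mem_closure, hg.def]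
    exact hzZ rfl

/-- a generic point of an irreducible component has no proper generization. -/
theorem eq_of_specializes_genericPoints [T0Space T] {η η' : T} (hη : η ∈ genericPoints T)
    (h : η' ⤳ η) : η' = η := by
  have h1 : closure ({η} : Set T) ⊆ closure {η'} := specializes_iff_closure_subset.1 h
  have h2 : IsIrreducible (closure ({η'} : Set T)) := isIrreducible_singleton.closure
  have hη' : closure ({η} : Set T) ∈ irreducibleComponents T := hη
  have h3 : closure ({η'} : Set T) ⊆ closure {η} := hη'.2 h2 h1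
  have h4 : η ⤳ η' := by
    rw [specializes_iff_mem_closure]
    exact h3 (subset_closure rfl)
  exact (h.antisymm h4).eq

end topology

section algsp

open _root_.AlgSp Groth.Agent.H5.AlgSp

variable {S : Scheme.{u}}

/-- a stalk isomorphism has residue transcendence degree zero. -/
theorem resTrdeg_eq_zero_of_isIso_stalkMap {U V : Scheme.{u}} (g : U ⟶ V) (u : U)
    [IsIso (g.stalkMap u)] : Dual3.resTrdeg g u = 0 := by
  unfold Dual3.resTrdeg
  letI := (g.residueFieldMap u).hom.toAlgebra
  have hiso : IsIso (g.residueFieldMap u) :=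
    (IsLocalRing.ResidueField.mapEquiv
      (asIso (g.stalkMap u)).commRingCatIsoToRingEquiv).toCommRingCatIso.isIso_hom
  have hs : Function.Surjective (algebraMap (V.residueField (g u)) (U.residueField u)) :=
    ((ConcreteCategory.isIso_iff_bijective (g.residueFieldMap u)).1 hiso).2
  haveI : Algebra.IsIntegral (V.residueField (g u)) (U.residueField u) :=
    Algebra.isIntegral_of_surjective hs
  exact trdeg_eq_zero

/-- the fibre of a birational morphism of decent spaces over a generic point consists of generic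
points. -/
theorem fibre_genericPoints {X Y : Sp S} (hX : IsAlgSpace X) (hY : IsAlgSpace Y) (f : X ⟶ Y)
    (hXd : IsDecent X) (hYd : IsDecent Y) (hf : W4stk3decentspacesp2.IsBirational f)
    (y : Points Y) (hy : y ∈ genericPoints (Points Y)) (x' : Points X)
    (hx' : Points.map f x' = y) : x' ∈ genericPoints (Points X) := by
  haveI : T0Space (Points X) := t0Space_points_of_isDecent hX hXd
  haveI : T0Space (Points Y) := t0Space_points_of_isDecent hY hYd
  haveI : QuasiSober (Points X) := Groth.Agent.H3.Decent.quasiSober_points_of_isDecent hX hXd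
  obtain ⟨x, hx, hxx'⟩ := exists_genericPoints_specializes x'
  have hfx : Points.map f x = y := by
    apply eq_of_specializes_genericPoints hy
    rw [← hx']
    exact hxx'.map (Points.continuous_map f)
  suffices x' = x by rw [this]; exact hx
  obtain ⟨U, V, a, b, g, u, ha, hb, comm, hu, hiso⟩ := hf.stalkIso x hx
  have hae : RepWith @Etale a := repWith_mono BiratIso.isOpenImmersion_le_etale ha
  have hbe : RepWith @Etale b := repWith_mono BiratIso.isOpenImmersion_le_etale hb
  haveI : Mono b := mono_of_repWith LocalRep.isOpenImmersion_le_mono hb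
  obtain ⟨W, aW, w', hWaff, haW, hw'⟩ := Groth.Agent.H7.SmLift.exists_affine_chart_at hX x'
  obtain ⟨w, hww', hw⟩ := exists_specializes_ofPt_of_fieldPt hxx' (hXd x) aW haW w' hw'
  -- the open part of `W` mapping into `V`
  let W₀ : Over S := hb.rep.pullback (aW ≫ f)
  let k₀ : W₀ ⟶ W := hb.rep.snd (aW ≫ f)
  let h : W₀ ⟶ V := hb.rep.fst' (aW ≫ f)
  have sq₀ : IsPullback ((yon S).map h) ((yon S).map k₀) b (aW ≫ f) := hb.rep.isPullback' _
  have hk₀ : IsOpenImmersion k₀.left := hb.property_snd (aW ≫ f)
  have hbv : Points.ofPt b (g.left u) = y := by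
    rw [← ofPt_yon_map_comp, ← comm, ← hfx, ← hu]; rfl
  obtain ⟨w₀, hw₀1, hw₀2⟩ := exists_point_of_isPullback sq₀ (Points.ofScheme V (g.left u)) w (by
    rw [← Points.ofPt_eq_map_ofScheme, hbv, ← Points.map_ofPt, hw, hfx])
  obtain ⟨w₀', hw₀'1, hw₀'2⟩ := exists_point_of_isPullback sq₀ (Points.ofScheme V (g.left u)) w' (by
    rw [← Points.ofPt_eq_map_ofScheme, hbv, ← Points.map_ofPt, hw', hx'])
  -- specialization and images in `W₀`
  have hsp₀ : w₀ ⤳ w₀' := by
    rw [← k₀.left.isOpenEmbedding.isInducing.specializes_iff, hw₀1, hw₀'1]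
    exact hww'
  have hofPt : ∀ t : ↥W₀.left, Points.ofPt ((yon S).map h) t = Points.ofScheme V (g.left u) →
      h.left t = g.left u := by
    intro t ht
    have h2 := congrArg (Points.toScheme V) ht
    rwa [Points.toScheme_ofPt, Points.toScheme_ofScheme] at h2
  have he₀ : h.left w₀ = h.left w₀' := (hofPt w₀ hw₀2).trans (hofPt w₀' hw₀'2).symm
  -- the open part of `W₀` over `U`
  have hφ₁ : RepWith @Etale ((yon S).map k₀ ≫ aW) :=
    (repWith_isMultiplicative (S := S) @Etale).comp_mem _ _
      ((repWith_yon_map_iff @Etale k₀).2 (inferInstance : Etale k₀.left)) haW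
  let W₁ : Over S := ha.rep.pullback ((yon S).map k₀ ≫ aW)
  let j₁ : W₁ ⟶ W₀ := ha.rep.snd ((yon S).map k₀ ≫ aW)
  let e : W₁ ⟶ U := ha.rep.fst' ((yon S).map k₀ ≫ aW)
  have sq₁ : IsPullback ((yon S).map e) ((yon S).map j₁) a ((yon S).map k₀ ≫ aW) :=
    ha.rep.isPullback' _
  have hj₁ : IsOpenImmersion j₁.left := ha.property_snd _
  have he : Etale e.left := by
    have h1 : RepWith @Etale ((yon S).map e) :=
      MorphismProperty.of_isPullback (P := RepWith (S := S) @Etale) sq₁.flip hφ₁
    exact (repWith_yon_map_iff @Etale e).1 h1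
  have hcomm : j₁ ≫ h = e ≫ g := by
    apply (yon S).map_injective
    rw [← cancel_mono b, Functor.map_comp, Functor.map_comp, Category.assoc, Category.assoc,
      sq₀.w, ← comm, ← Category.assoc, ← Category.assoc ((yon S).map e), sq₁.w]
    simp only [Category.assoc]
  obtain ⟨w₁, hw₁1, hw₁2⟩ := exists_point_of_isPullback sq₁ (Points.ofScheme U u) w₀ (by
    rw [← Points.ofPt_eq_map_ofScheme, hu, ofPt_yon_map_comp, hw₀1, hw])
  have hew₁ : e.left w₁ = u := by
    have h2 := congrArg (Points.toScheme U) hw₁2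
    rwa [Points.toScheme_ofPt, Points.toScheme_ofScheme] at h2
  have hcl : j₁.left ≫ h.left = e.left ≫ g.left := by
    rw [← Over.comp_left, ← Over.comp_left, hcomm]
  haveI : IsIso (g.left.stalkMap (e.left w₁)) := by rw [hew₁]; exact hiso
  have hr1 : Dual3.resTrdeg (j₁.left ≫ h.left) w₁ = Dual3.resTrdeg g.left (e.left w₁) :=
    Groth.Agent.H1.AlgSpDim.resTrdeg_eq_of_etale_square g.left (j₁.left ≫ h.left) e.left (𝟙 _)
      (by rw [Category.comp_id, hcl]) w₁
  have hr2 : Dual3.resTrdeg (j₁.left ≫ h.left) w₁ = Dual3.resTrdeg h.left (j₁.left w₁) :=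
    Groth.Agent.H1.AlgSpDim.resTrdeg_eq_of_etale_square h.left (j₁.left ≫ h.left) j₁.left (𝟙 _)
      (by rw [Category.comp_id]) w₁
  have h0 : Dual3.resTrdeg h.left w₀ = 0 := by
    rw [← hw₁1, ← hr2, hr1]
    exact resTrdeg_eq_zero_of_isIso_stalkMap g.left (e.left w₁)
  have hfin := eq_of_specializes_of_resTrdeg_eq_zero h.left w₀ w₀' hsp₀ he₀ h0
  rw [← hw', ← hw, ← hw₀1, ← hw₀'1, hfin]

end algsp

end Groth.Agent.H7.BiratFib
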