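import Groth.Agent.Lib.Helper7.BiratFib2
import Groth.Agent.Lib.Helper7.BiratDom
import Groth.Agent.Lib.Helper2.QCClosure
import Groth.Agent.Lib.Helper5.AlgSp.SpecializeImage
import Groth.Agent.Lib.Helper5.AlgSp.RedInduced
import Groth.Agent.Lib.Helper5.AlgSp.OpenSub
import Groth.Agent.Lib.Helper5.AlgSp.FibreProduct
import Mathlib

/-!
# Birational morphisms which are isomorphisms over a dense open (S10436)
-/

set_option autoImplicit false
universe u

open AlgebraicGeometry CategoryTheory Limits Topology

namespace Groth.Agent.H7.BiratFib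

section topology

variable {T : Type*} [TopologicalSpace T]

open Groth.Agent.H1.Birat in
/-- in a space with finitely many irreducible components, a dense open contains all generic
points. -/
theorem genericPoints_subset_of_dense (hfin : (irreducibleComponents T).Finite) {O : Set T}
    (hO : IsOpen O) (hd : Dense O) : genericPoints T ⊆ O := by
  intro η hη
  obtain ⟨t, ht1, ht2⟩ := hd.inter_open_nonempty (compOpen hfin η : Set T) (compOpen hfin η).2
    ⟨η, mem_compOpen hfin hη⟩
  have h1 : η ⤳ t := specializes_iff_mem_closure.2 (compOpen_subset hfin ht1)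
  exact h1.mem_open hO ht2

end topology

section algsp

open _root_.AlgSp Groth.Agent.H5.AlgSp

variable {S : Scheme.{u}}

/-- points in the closure of the image of a closed set under a quasi-compact morphism of
algebraic spaces are specializations of points of the image. -/
theorem exists_specializes_of_mem_closure_image {X Y : Sp S} (hY : IsAlgSpace Y) {f : X ⟶ Y}
    (hf : IsQuasiCompactMor f) (C : Set (Points X)) (hC : IsClosed C) (y : Points Y)
    (hy : y ∈ closure (Points.map f '' C)) : ∃ x' ∈ C, Points.map f x' ⤳ y := by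
  obtain ⟨V, p, v, hVaff, hp, hv⟩ := Groth.Agent.H7.SmLift.exists_affine_chart_at hY y
  have sq := IsPullback.of_hasPullback f p
  have hq : IsQuasiCompactSp (pullback f p) :=
    hf (IsAlgSpace.yon_obj _) ((isQuasiCompactSp_yon_iff _).2 inferInstance) _ _ _ sq
  obtain ⟨U₀, b₀, hbe, hbs, hU₀⟩ := hq
  haveI : CompactSpace ↥U₀.left := hU₀
  obtain ⟨g₀, hg₀⟩ := (yon S).map_surjective (b₀ ≫ pullback.snd f p)
  haveI : QuasiCompact g₀.left := HasAffineProperty.iff_of_isAffine.mpr (by infer_instance)
  have hsurj := ofPt_surjective_of_repWith hbs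
  let C₀ : Set ↥U₀.left := Points.ofPt (b₀ ≫ pullback.fst f p) ⁻¹' C
  have hC₀ : IsClosed C₀ := hC.preimage (Points.continuous_ofPt _)
  have hopen : IsOpenMap (Points.ofPt p) := isOpenMap_ofPt_of_etale hp
  have h1 : v ∈ closure (Points.ofPt p ⁻¹' (Points.map f '' C)) := by
    rw [← hopen.preimage_closure_eq_closure_preimage (Points.continuous_ofPt p)]
    change Points.ofPt p v ∈ closure (Points.map f '' C)
    rw [hv]; exact hy
  have h2 : Points.ofPt p ⁻¹' (Points.map f '' C) ⊆ g₀.left '' C₀ := by
    rintro v' ⟨c, hc, hcv⟩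
    obtain ⟨z, hz1, hz2⟩ := points_pullback_surjective sq c (Points.ofScheme V v') (by
      rw [hcv, Points.ofPt_eq_map_ofScheme])
    obtain ⟨u₀, rfl⟩ := hsurj z
    refine ⟨u₀, ?_, ?_⟩
    · change Points.ofPt (b₀ ≫ pullback.fst f p) u₀ ∈ C
      rw [← Points.map_ofPt, hz1]; exact hc
    · have h3 : Points.ofPt ((yon S).map g₀) u₀ = Points.ofScheme V v' := by
        rw [hg₀, ← Points.map_ofPt, hz2]
      have h4 := congrArg (Points.toScheme V) h3
      rwa [Points.toScheme_ofPt, Points.toScheme_ofScheme] at h4
  obtain ⟨c₀, hc₀, hsp⟩ := Groth.Agent.H2.exists_specializes_of_mem_closure_image g₀.left hC₀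
    (closure_mono h2 h1)
  refine ⟨Points.ofPt (b₀ ≫ pullback.fst f p) c₀, hc₀, ?_⟩
  have h5 : Points.map f (Points.ofPt (b₀ ≫ pullback.fst f p) c₀) =
      Points.ofPt p (g₀.left c₀) := by
    rw [Points.map_ofPt, Category.assoc, pullback.condition, ← Category.assoc, ← hg₀,
      ofPt_yon_map_comp]
  rw [h5, ← hv]
  exact hsp.map (Points.continuous_ofPt p)

/-- a section of a separated morphism is a closed immersion. -/
theorem repWith_isClosedImmersion_of_section {P B : Sp S} (q : P ⟶ B) (hq : IsSeparatedMor q)
    (s : B ⟶ P) (hs : s ≫ q = 𝟙 B) : RepWith @IsClosedImmersion s := by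
  haveI : (RepWith (S := S) @IsClosedImmersion).HasOfPostcompProperty
      (RepWith (S := S) @IsClosedImmersion).diagonal :=
    MorphismProperty.hasOfPostcompProperty_iff_le_diagonal.2 le_rfl
  refine MorphismProperty.of_postcomp (W := RepWith (S := S) @IsClosedImmersion)
    (W' := (RepWith (S := S) @IsClosedImmersion).diagonal) s q hq ?_
  rw [hs]
  exact (repWith_isMultiplicative (S := S) @IsClosedImmersion).id_mem _

/-- the key step: over an open of the target whose preimage lies in the image of the section
chart, the base change of `f` is an isomorphism. -/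
theorem isIso_snd_of_preimage_subset {X Y : Sp S} (f : X ⟶ Y) {V : Over S}
    (a : (yon S).obj V ⟶ X) (b : (yon S).obj V ⟶ Y) (ha : RepWith @IsOpenImmersion a)
    (hb : RepWith @IsOpenImmersion b) (hab : a ≫ f = b)
    (hpre : Points.map f ⁻¹' Set.range (Points.ofPt b) ⊆ Set.range (Points.ofPt a))
    {P : Sp S} (fst : P ⟶ X) (snd : P ⟶ (yon S).obj V) (sq : IsPullback fst snd f b) :
    IsIso snd := by
  haveI : Mono b := mono_of_repWith LocalRep.isOpenImmersion_le_mono hb
  haveI : Mono fst := sq.mono_fst_of_mono
  let s : (yon S).obj V ⟶ P := sq.lift a (𝟙 _) (by rw [hab, Category.id_comp])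
  have hs1 : s ≫ fst = a := sq.lift_fst _ _ _
  have hs2 : s ≫ snd = 𝟙 _ := sq.lift_snd _ _ _
  have hsq : IsPullback (𝟙 ((yon S).obj V)) s a fst := by
    rw [← hs1]
    exact IsPullback.of_vert_isIso_mono ⟨by rw [Category.id_comp]⟩ |>.flip
  have hso : RepWith @IsOpenImmersion s :=
    MorphismProperty.of_isPullback (P := RepWith (S := S) @IsOpenImmersion) hsq ha
  have hsurj : Function.Surjective (Points.map s) := by
    intro z
    have h1 : Points.map fst z ∈ Points.map f ⁻¹' Set.range (Points.ofPt b) := by
      obtain ⟨t, ht⟩ := (Points.schemeHomeo V).surjective (Points.map snd z)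
      refine ⟨t, ?_⟩
      rw [← Points.map_comp, sq.w, Points.map_comp, ← ht, Points.ofPt_eq_map_ofScheme]
      rfl
    obtain ⟨t, ht⟩ := hpre h1
    refine ⟨Points.ofScheme V t, ?_⟩
    apply points_map_injective_of_mono fst
    rw [← Points.map_comp, hs1, ← Points.ofPt_eq_map_ofScheme, ht]
  haveI : IsIso s := isIso_of_isOpenImmersion_of_points_surjective hso hsurj
  have : snd = inv s := by
    rw [← cancel_epi s, hs2, IsIso.hom_inv_id]
  rw [this]
  infer_instance

end algsp

end Groth.Agent.H7.BiratFib
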