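import Groth.Agent.Lib.Helper7.BiratFib3
import Groth.Agent.Lib.Helper5.AlgSp.PointsTop
import Mathlib

/-!
# S10436
-/

set_option autoImplicit false
universe u

open AlgebraicGeometry CategoryTheory Limits Topology

namespace Groth.Agent.H7.BiratFib

open _root_.AlgSp Groth.Agent.H5.AlgSp

variable {S : Scheme.{u}}

/-- restricting the two charts to an open of the target with small preimage. -/
theorem exists_of_open {X Y : Sp S} (f : X ⟶ Y) {V : Over S}
    (a : (yon S).obj V ⟶ X) (b : (yon S).obj V ⟶ Y) (ha : RepWith @IsOpenImmersion a)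
    (hb : RepWith @IsOpenImmersion b) (hab : a ≫ f = b) (W : Set (Points Y)) (hW : IsOpen W)
    (hWb : W ⊆ Set.range (Points.ofPt b)) (hWd : Dense W)
    (hpre : Points.map f ⁻¹' W ⊆ Set.range (Points.ofPt a)) :
    ∃ (V' : Over S) (b' : (yon S).obj V' ⟶ Y), RepWith @IsOpenImmersion b' ∧
      Dense (Set.range (Points.ofPt b')) ∧
        ∀ ⦃P : Sp S⦄ (fst : P ⟶ X) (snd : P ⟶ (yon S).obj V'),
          IsPullback fst snd f b' → IsIso snd := by
  let V'' : V.left.Opens := ⟨Points.ofPt b ⁻¹' W, hW.preimage (Points.continuous_ofPt b)⟩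
  have hι : RepWith @IsOpenImmersion ((yon S).map (overOpenι V V'')) :=
    repWith_overOpenι @IsOpenImmersion (fun _ _ => inferInstance) V V''
  have ha' : RepWith @IsOpenImmersion ((yon S).map (overOpenι V V'') ≫ a) :=
    (repWith_isMultiplicative (S := S) @IsOpenImmersion).comp_mem _ _ hι ha
  have hb' : RepWith @IsOpenImmersion ((yon S).map (overOpenι V V'') ≫ b) :=
    (repWith_isMultiplicative (S := S) @IsOpenImmersion).comp_mem _ _ hι hb
  have hrange : Set.range (Points.ofPt ((yon S).map (overOpenι V V'') ≫ b)) = W := by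
    rw [range_ofPt_restrict]
    ext y
    constructor
    · rintro ⟨v, hv, rfl⟩
      exact hv
    · intro hy
      obtain ⟨v, rfl⟩ := hWb hy
      exact ⟨v, hy, rfl⟩
  refine ⟨overOpen V V'', (yon S).map (overOpenι V V'') ≫ b, hb', ?_, ?_⟩
  · rw [hrange]; exact hWd
  · intro P fst snd sq
    refine isIso_snd_of_preimage_subset f ((yon S).map (overOpenι V V'') ≫ a)
      ((yon S).map (overOpenι V V'') ≫ b) ha' hb' (by rw [Category.assoc, hab]) ?_ fst snd sq
    rw [hrange, range_ofPt_restrict]
    intro x' hx'
    obtain ⟨v, rfl⟩ := hpre hx'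
    refine ⟨v, ?_, rfl⟩
    change Points.ofPt b v ∈ W
    have : Points.map f (Points.ofPt a v) = Points.ofPt b v := by
      rw [Points.map_ofPt, hab]
    rw [← this]
    exact hx'

/-- S10436. -/
theorem S10436_main {X Y : AlgSp.Space S} (f : X ⟶ Y)
    (hX : AlgSp.IsDecent X.obj) (hY : AlgSp.IsDecent Y.obj)
    (hXf : (irreducibleComponents (AlgSp.Points X.obj)).Finite)
    (hYf : (irreducibleComponents (AlgSp.Points Y.obj)).Finite)
    (hf : W4stk3decentspacesp2.IsBirational f.hom)
    (h₁ : AlgSp.IsQuasiCompactMor f.hom ∨ AlgSp.IsSeparatedMor f.hom)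
    (h₂ : (AlgSp.LocP @LocallyOfFiniteType f.hom ∧
      AlgSp.EtaleLocally (fun T => IsReduced T) Y.obj) ∨
      AlgSp.LocP @LocallyOfFinitePresentation f.hom) :
    ∃ (V : Over S) (b : (AlgSp.yon S).obj V ⟶ Y.obj), AlgSp.RepWith @IsOpenImmersion b ∧
      Dense (Set.range (AlgSp.Points.ofPt b)) ∧
        ∀ ⦃P : AlgSp.Sp S⦄ (fst : P ⟶ X.obj) (snd : P ⟶ (AlgSp.yon S).obj V),
          IsPullback fst snd f.hom b → IsIso snd := by
  haveI : T0Space (Points X.obj) := t0Space_points_of_isDecent X.property hX
  haveI : T0Space (Points Y.obj) := t0Space_points_of_isDecent Y.property hY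
  haveI : QuasiSober (Points X.obj) :=
    Groth.Agent.H3.Decent.quasiSober_points_of_isDecent X.property hX
  haveI : QuasiSober (Points Y.obj) :=
    Groth.Agent.H3.Decent.quasiSober_points_of_isDecent Y.property hY
  obtain ⟨U, V, a, b, g, ha, hb, hda, hdb, comm, hg⟩ :=
    BiratIso.S10435_main f hX hY hXf hYf hf h₂
  haveI : IsIso ((Over.forget S).map g) := hg
  haveI : IsIso g := isIso_of_reflects_iso g (Over.forget S)
  -- the chart of `X` reparametrized by `V`
  let a₀ : (yon S).obj V ⟶ X.obj := (yon S).map (inv g) ≫ a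
  have ha₀ : RepWith @IsOpenImmersion a₀ :=
    (repWith_isMultiplicative (S := S) @IsOpenImmersion).comp_mem _ _
      ((repWith_yon_map_iff @IsOpenImmersion (inv g)).2
        (by haveI : IsIso (inv g).left := (inferInstance : IsIso ((Over.forget S).map (inv g)))
            infer_instance)) ha
  have hab : a₀ ≫ f.hom = b := by
    change ((yon S).map (inv g) ≫ a) ≫ f.hom = b
    rw [Category.assoc, comm, ← Category.assoc, ← Functor.map_comp, IsIso.inv_hom_id]
    erw [(yon S).map_id V]
    exact Category.id_comp _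
  have hrange : Set.range (Points.ofPt a₀) = Set.range (Points.ofPt a) := by
    ext x
    constructor
    · rintro ⟨v, rfl⟩
      exact ⟨(inv g).left v, (ofPt_yon_map_comp _ _ _).symm⟩
    · rintro ⟨u, rfl⟩
      refine ⟨g.left u, ?_⟩
      change Points.ofPt ((yon S).map (inv g) ≫ a) (g.left u) = _
      rw [ofPt_yon_map_comp]
      congr 1
      have : (g ≫ inv g).left u = u := by rw [IsIso.hom_inv_id]; rfl
      exact this
  have hda₀ : Dense (Set.range (Points.ofPt a₀)) := by rw [hrange]; exact hda
  have hae₀ : RepWith @Etale a₀ := repWith_mono BiratIso.isOpenImmersion_le_etale ha₀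
  have hbe : RepWith @Etale b := repWith_mono BiratIso.isOpenImmersion_le_etale hb
  have hoa : IsOpen (Set.range (Points.ofPt a₀)) := (isOpenMap_ofPt_of_etale hae₀).isOpen_range
  have hob : IsOpen (Set.range (Points.ofPt b)) := (isOpenMap_ofPt_of_etale hbe).isOpen_range
  rcases h₁ with hqc | hsep
  · -- quasi-compact case
    let C : Set (Points X.obj) := (Set.range (Points.ofPt a₀))ᶜ
    have hC : IsClosed C := hoa.isClosed_compl
    let W : Set (Points Y.obj) :=
      Set.range (Points.ofPt b) ∩ (closure (Points.map f.hom '' C))ᶜ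
    have hW : IsOpen W := hob.inter isClosed_closure.isOpen_compl
    have hgen : ∀ η : Points Y.obj, closure {η} ∈ irreducibleComponents (Points Y.obj) →
        η ∈ W := by
      intro η hη
      have hη' : η ∈ genericPoints (Points Y.obj) := hη
      refine ⟨genericPoints_subset_of_dense hYf hob hdb hη', ?_⟩
      intro hcl
      obtain ⟨x', hx'C, hsp⟩ := exists_specializes_of_mem_closure_image Y.property hqc C hC η hcl
      have h1 : Points.map f.hom x' = η := eq_of_specializes_genericPoints hη' hsp
      have h2 := fibre_genericPoints X.property Y.property f.hom hX hY hf η hη' x' h1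
      exact hx'C (genericPoints_subset_of_dense hXf hoa hda₀ h2)
    refine exists_of_open f.hom a₀ b ha₀ hb hab W hW Set.inter_subset_left
      (BiratDom.dense_of_generic_mem W hgen) ?_
    intro x' hx'
    by_contra hcon
    exact hx'.2 (subset_closure ⟨x', hcon, rfl⟩)
  · -- separated case
    refine exists_of_open f.hom a₀ b ha₀ hb hab _ hob le_rfl hdb ?_
    have sq₀ := IsPullback.of_hasPullback f.hom b
    have hP₀ : IsAlgSpace (pullback f.hom b) :=
      isAlgSpace_pullback Y.property.diag X.property (IsAlgSpace.yon_obj V) sq₀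
    let s₀ : (yon S).obj V ⟶ pullback f.hom b :=
      pullback.lift a₀ (𝟙 _) (by rw [hab, Category.id_comp])
    have hs1 : s₀ ≫ pullback.fst f.hom b = a₀ := pullback.lift_fst _ _ _
    have hs2 : s₀ ≫ pullback.snd f.hom b = 𝟙 _ := pullback.lift_snd _ _ _
    have hsnd : IsSeparatedMor (pullback.snd f.hom b) :=
      MorphismProperty.of_isPullback
        (P := (RepWith (S := S) @IsClosedImmersion).diagonal) sq₀ hsep
    have hcl := repWith_isClosedImmersion_of_section _ hsnd s₀ hs2
    have hclosed : IsClosed (Set.range (Points.map s₀)) :=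
      isClosed_range_points_map_of_isClosedImmersion hP₀ s₀ hcl
    have hfst : RepWith @IsOpenImmersion (pullback.fst f.hom b) :=
      MorphismProperty.of_isPullback (P := RepWith (S := S) @IsOpenImmersion) sq₀.flip hb
    have hfsto : IsOpenMap (Points.map (pullback.fst f.hom b)) :=
      isOpenMap_points_map_of_etale (repWith_mono BiratIso.isOpenImmersion_le_etale hfst)
    haveI : Mono b := mono_of_repWith LocalRep.isOpenImmersion_le_mono hb
    haveI : Mono (pullback.fst f.hom b) := sq₀.mono_fst_of_mono
    have hdense : Dense (Set.range (Points.map s₀)) := by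
      rw [dense_iff_inter_open]
      intro O hO hOne
      have h1 : IsOpen (Points.map (pullback.fst f.hom b) '' O) := hfsto O hO
      obtain ⟨x, ⟨z', hz'O, rfl⟩, ⟨v, hv⟩⟩ :=
        hda₀.inter_open_nonempty _ h1 (hOne.image _)
      refine ⟨z', hz'O, Points.ofScheme V v, ?_⟩
      apply points_map_injective_of_mono (pullback.fst f.hom b)
      rw [← Points.map_comp, hs1, ← Points.ofPt_eq_map_ofScheme, hv]
    have hall : Set.range (Points.map s₀) = Set.univ := by
      rw [← hclosed.closure_eq]; exact hdense.closure_eq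
    intro x' hx'
    obtain ⟨t, ht⟩ := hx'
    obtain ⟨z, hz1, -⟩ := points_pullback_surjective sq₀ x' (Points.ofScheme V t) (by
      rw [← Points.ofPt_eq_map_ofScheme]; exact ht.symm)
    have hz : z ∈ Set.range (Points.map s₀) := by rw [hall]; trivial
    obtain ⟨q, rfl⟩ := hz
    obtain ⟨t', rfl⟩ := (Points.schemeHomeo V).surjective q
    refine ⟨t', ?_⟩
    rw [← hz1, ← Points.map_comp, hs1, Points.ofPt_eq_map_ofScheme]
    rfl

end Groth.Agent.H7.BiratFib
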