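import Mathlib

/-!
# Lifting a morphism through the spectrum of a local ring of a scheme
-/

set_option autoImplicit false
universe u

open AlgebraicGeometry CategoryTheory Limits Topology

namespace Groth.Agent.H7.BiratFib

/-- affine case of `exists_lift_fromSpecStalk`. -/
theorem exists_lift_fromSpecStalk_of_isAffine {T X : Scheme.{u}} [IsAffine X] (m : T ⟶ X) (x : X)
    (h : ∀ t, m t ⤳ x) : ∃ φ : T ⟶ Spec (X.presheaf.stalk x), φ ≫ X.fromSpecStalk x = m := by
  have hU : IsAffineOpen (⊤ : X.Opens) := isAffineOpen_top X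
  letI : Algebra Γ(X, ⊤) (X.presheaf.stalk x) :=
    TopCat.Presheaf.algebra_section_stalk X.presheaf (⟨x, trivial⟩ : (⊤ : X.Opens))
  haveI hloc : IsLocalization.AtPrime (X.presheaf.stalk x)
      (hU.primeIdealOf ⟨x, trivial⟩).asIdeal := hU.isLocalization_stalk ⟨x, trivial⟩
  have hunit : ∀ s : (hU.primeIdealOf ⟨x, trivial⟩).asIdeal.primeCompl,
      IsUnit (m.appTop.hom (s : Γ(X, ⊤))) := by
    intro s
    have h1 : IsUnit (algebraMap Γ(X, ⊤) (X.presheaf.stalk x) s) :=
      IsLocalization.map_units (X.presheaf.stalk x) s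
    have h2 : x ∈ X.basicOpen (s : Γ(X, ⊤)) := by
      rw [Scheme.mem_basicOpen_top]
      exact h1
    apply T.toRingedSpace.isUnit_of_isUnit_germ ⊤
    intro t ht
    have h3 : m t ∈ X.basicOpen (s : Γ(X, ⊤)) := (h t).mem_open (X.basicOpen _).2 h2
    have h4 : t ∈ m ⁻¹ᵁ X.basicOpen (s : Γ(X, ⊤)) := h3
    rw [Scheme.preimage_basicOpen_top] at h4
    exact (Scheme.mem_basicOpen_top _ _ _).1 h4
  let χ : X.presheaf.stalk x →+* Γ(T, ⊤) :=
    IsLocalization.lift (M := (hU.primeIdealOf ⟨x, trivial⟩).asIdeal.primeCompl) hunit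
  have hχ : χ.comp (algebraMap Γ(X, ⊤) (X.presheaf.stalk x)) = m.appTop.hom :=
    IsLocalization.lift_comp _
  refine ⟨T.toSpecΓ ≫ Spec.map (CommRingCat.ofHom χ), ?_⟩
  rw [← cancel_mono X.toSpecΓ, Category.assoc, Category.assoc, Scheme.fromSpecStalk_toSpecΓ,
    ← Spec.map_comp, Scheme.toSpecΓ_naturality]
  congr 2
  ext : 1
  exact hχ

/-- a morphism all of whose points are generizations of `x` factors through `Spec 𝒪_{X,x}`. -/
theorem exists_lift_fromSpecStalk {T X : Scheme.{u}} (m : T ⟶ X) (x : X)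
    (h : ∀ t, m t ⤳ x) : ∃ φ : T ⟶ Spec (X.presheaf.stalk x), φ ≫ X.fromSpecStalk x = m := by
  obtain ⟨U, hU, hxU, -⟩ := exists_isAffineOpen_mem_and_subset (X := X) (x := x) (U := ⊤) trivial
  have hrange : Set.range m ⊆ Set.range U.ι := by
    rintro _ ⟨t, rfl⟩
    rw [Scheme.Opens.range_ι]
    exact (h t).mem_open U.2 hxU
  have hm₀ : IsOpenImmersion.lift U.ι m hrange ≫ U.ι = m := IsOpenImmersion.lift_fac _ _ _
  haveI : IsAffine U.toScheme := hU
  obtain ⟨x₀, hx₀⟩ : ∃ x₀ : U.toScheme, U.ι x₀ = x := ⟨⟨x, hxU⟩, rfl⟩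
  subst hx₀
  obtain ⟨φ₀, hφ₀⟩ := exists_lift_fromSpecStalk_of_isAffine (IsOpenImmersion.lift U.ι m hrange)
    x₀ (by
      intro t
      have h1 := h t
      rw [← hm₀] at h1
      exact (U.ι.isOpenEmbedding.isInducing.specializes_iff).1 h1)
  refine ⟨φ₀ ≫ Spec.map (U.ι.stalkMap x₀), ?_⟩
  have key : Spec.map (U.ι.stalkMap x₀) ≫ X.fromSpecStalk (U.ι x₀) =
      U.toScheme.fromSpecStalk x₀ ≫ U.ι :=
    Scheme.SpecMap_stalkMap_fromSpecStalk (f := U.ι) (x := x₀)
  rw [Category.assoc, key, ← Category.assoc, hφ₀, hm₀]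

/-- if `Λ ≅ Spec 𝒪_{V',g u}` over `V'`, `g` induces an isomorphism of local rings at `u`, and `u`
is the only point of `U` over the image of `Λ`, then `U ×_{V'} Λ ⟶ Λ` is an isomorphism. -/
theorem isIso_pullback_snd_of_stalk {U V' L : Scheme.{u}} (g : U ⟶ V') (u : U)
    [IsIso (g.stalkMap u)] (l : L ⟶ V') (ρ : L ⟶ Spec (V'.presheaf.stalk (g u))) [IsIso ρ]
    (hρ : ρ ≫ V'.fromSpecStalk (g u) = l)
    (hfib : ∀ u', g u' ∈ Set.range l → u' = u) : IsIso (pullback.snd g l) := by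
  haveI : Mono l := by rw [← hρ]; infer_instance
  let θ : Spec (U.presheaf.stalk u) ⟶ L := Spec.map (g.stalkMap u) ≫ inv ρ
  haveI : IsIso θ := by dsimp only [θ]; infer_instance
  have hθ : θ ≫ l = U.fromSpecStalk u ≫ g := by
    dsimp only [θ]
    rw [Category.assoc, ← hρ, IsIso.inv_hom_id_assoc, Scheme.SpecMap_stalkMap_fromSpecStalk]
  let σ : Spec (U.presheaf.stalk u) ⟶ pullback g l := pullback.lift (U.fromSpecStalk u) θ hθ.symm
  have hσ1 : σ ≫ pullback.fst g l = U.fromSpecStalk u := pullback.lift_fst _ _ _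
  have hσ2 : σ ≫ pullback.snd g l = θ := pullback.lift_snd _ _ _
  obtain ⟨φ, hφ⟩ := exists_lift_fromSpecStalk (pullback.fst g l) u (by
    intro t
    have : pullback.fst g l t = u := by
      apply hfib
      refine ⟨pullback.snd g l t, ?_⟩
      rw [← Scheme.Hom.comp_apply, ← pullback.condition, Scheme.Hom.comp_apply]
    rw [this])
  have hφθ : φ ≫ θ = pullback.snd g l := by
    rw [← cancel_mono l, Category.assoc, hθ, ← Category.assoc, hφ, pullback.condition]
  refine ⟨inv θ ≫ σ, ?_, ?_⟩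
  · apply pullback.hom_ext
    · rw [Category.assoc, Category.assoc, hσ1, Category.id_comp, ← hφθ, Category.assoc,
        IsIso.hom_inv_id_assoc, hφ]
    · rw [Category.assoc, Category.assoc, hσ2, IsIso.inv_hom_id, Category.comp_id,
        Category.id_comp]
  · rw [Category.assoc, hσ2, IsIso.inv_hom_id]

end Groth.Agent.H7.BiratFib
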