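import Groth.Agent.Lib.Helper7.NASA1
import Mathlib

/-!
# Relative normalization of algebraic spaces, part A5: the ring-level base change lemma, in a form
adapted to global sections of fibre products
-/

set_option autoImplicit false

universe u

open TensorProduct

namespace Groth.Agent.H7.NAS

section

variable {A A₁ B B₂ C B₁ B₂₁ C₁ : Type u} [CommRing A] [CommRing A₁] [CommRing B] [CommRing B₂]
  [CommRing C] [CommRing B₁] [CommRing B₂₁] [CommRing C₁]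
  [Algebra A A₁] [Algebra A B] [Algebra A B₂] [Algebra A C]

/-- the `A₁`-algebra homomorphism attached to a ring isomorphism `A₁ ⊗ B ≃ B₁` given on pure
tensors by `a ⊗ b ↦ φ₁ a * β b`. -/
lemma ringEquiv_comp_map {B' B'₁ : Type u} [CommRing B'] [CommRing B'₁] [Algebra A B']
    (g : B →ₐ[A] B') (φ₁ : A₁ →+* B₁) (β : B →+* B₁) (ψB : A₁ ⊗[A] B ≃+* B₁)
    (hψB : ∀ a b, ψB (a ⊗ₜ b) = φ₁ a * β b)
    (φ'₁ : A₁ →+* B'₁) (β' : B' →+* B'₁) (ψB' : A₁ ⊗[A] B' ≃+* B'₁)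
    (hψB' : ∀ a b, ψB' (a ⊗ₜ b) = φ'₁ a * β' b)
    (g₁ : B₁ →+* B'₁) (h1 : g₁.comp φ₁ = φ'₁) (h2 : g₁.comp β = β'.comp g.toRingHom)
    (x : A₁ ⊗[A] B) :
    g₁ (ψB x) = ψB' (Algebra.TensorProduct.map (AlgHom.id A₁ A₁) g x) := by
  induction x using TensorProduct.induction_on with
  | zero => simp
  | tmul a b =>
    rw [hψB, Algebra.TensorProduct.map_tmul, hψB', map_mul]
    have e1 := congrArg (fun ψ => ψ a) h1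
    have e2 := congrArg (fun ψ => ψ b) h2
    simp only [RingHom.coe_comp, Function.comp_apply] at e1 e2
    rw [e1, e2]
    rfl
  | add y z hy hz => simp only [map_add, hy, hz]

lemma isIntegral_of_ringEquiv (φ₁ : A₁ →+* B₁) (β : B →+* B₁) (ψB : A₁ ⊗[A] B ≃+* B₁)
    (hψB : ∀ a b, ψB (a ⊗ₜ b) = φ₁ a * β b) (x : A₁ ⊗[A] B)
    (hx : φ₁.IsIntegralElem (ψB x)) : IsIntegral A₁ x := by
  obtain ⟨p, hp, hpx⟩ := hx
  refine ⟨p, hp, ?_⟩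
  apply ψB.injective
  rw [map_zero]
  have h1 : (ψB : A₁ ⊗[A] B →+* B₁).comp (algebraMap A₁ (A₁ ⊗[A] B)) = φ₁ := by
    ext a
    simp only [RingHom.coe_comp, Function.comp_apply, RingHom.coe_coe]
    rw [Algebra.TensorProduct.algebraMap_apply]
    have : (algebraMap A₁ A₁ a ⊗ₜ[A] (1 : B)) = a ⊗ₜ[A] (1 : B) := rfl
    rw [this, hψB, map_one, mul_one]
  have h2 := Polynomial.hom_eval₂ p (algebraMap A₁ (A₁ ⊗[A] B)) (ψB : A₁ ⊗[A] B →+* B₁) x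
  rw [h1] at h2
  exact h2.trans hpx

/-- **Base change of the characterization of the normalization.** -/
theorem ring_bc [Algebra.Smooth A A₁] (δ₀ δ₁ : B →ₐ[A] B₂) (κ : C →ₐ[A] B)
    (φ₁ : A₁ →+* B₁) (β : B →+* B₁) (ψB : A₁ ⊗[A] B ≃+* B₁)
    (hψB : ∀ a b, ψB (a ⊗ₜ b) = φ₁ a * β b)
    (φ₂₁ : A₁ →+* B₂₁) (β₂ : B₂ →+* B₂₁) (ψB₂ : A₁ ⊗[A] B₂ ≃+* B₂₁)
    (hψB₂ : ∀ a b, ψB₂ (a ⊗ₜ b) = φ₂₁ a * β₂ b)
    (ψ₁ : A₁ →+* C₁) (γ : C →+* C₁) (ψC : A₁ ⊗[A] C ≃+* C₁)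
    (hψC : ∀ a c, ψC (a ⊗ₜ c) = ψ₁ a * γ c)
    (δ₀₁ δ₁₁ : B₁ →+* B₂₁)
    (h01 : δ₀₁.comp φ₁ = φ₂₁) (h02 : δ₀₁.comp β = β₂.comp δ₀.toRingHom)
    (h11 : δ₁₁.comp φ₁ = φ₂₁) (h12 : δ₁₁.comp β = β₂.comp δ₁.toRingHom)
    (κ₁ : C₁ →+* B₁) (hk1 : κ₁.comp ψ₁ = φ₁) (hk2 : κ₁.comp γ = β.comp κ.toRingHom)
    (hκ : Function.Injective κ)
    (hκr : ∀ b : B, δ₀ b = δ₁ b → IsIntegral A b → b ∈ Set.range κ) :
    Function.Injective κ₁ ∧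
      ∀ x : B₁, δ₀₁ x = δ₁₁ x → φ₁.IsIntegralElem x → x ∈ Set.range κ₁ := by
  have hflat : Module.Flat A A₁ := inferInstance
  have hK : ∀ y : A₁ ⊗[A] C, κ₁ (ψC y) = ψB (Algebra.TensorProduct.map (AlgHom.id A₁ A₁) κ y) :=
    ringEquiv_comp_map κ ψ₁ γ ψC hψC φ₁ β ψB hψB κ₁ hk1 hk2
  have hD0 := ringEquiv_comp_map δ₀ φ₁ β ψB hψB φ₂₁ β₂ ψB₂ hψB₂ δ₀₁ h01 h02
  have hD1 := ringEquiv_comp_map δ₁ φ₁ β ψB hψB φ₂₁ β₂ ψB₂ hψB₂ δ₁₁ h11 h12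
  constructor
  · intro y y' hyy'
    obtain ⟨z, rfl⟩ := ψC.surjective y
    obtain ⟨z', rfl⟩ := ψC.surjective y'
    rw [hK, hK] at hyy'
    rw [tensor_map_injective κ hκ (ψB.injective hyy')]
  · intro x hx hxi
    obtain ⟨x', rfl⟩ := ψB.surjective x
    rw [hD0, hD1] at hx
    have hx' := ψB₂.injective hx
    have hxi' : IsIntegral A₁ x' := isIntegral_of_ringEquiv φ₁ β ψB hψB x' hxi
    obtain ⟨y, hy⟩ := mem_range_tensor_map δ₀ δ₁ κ hκr x' hx' hxi'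
    exact ⟨ψC y, by rw [hK, hy]⟩

end

end Groth.Agent.H7.NAS
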