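import Groth.Agent.Lib.Helper7.NASA4
import Groth.Agent.Lib.Helper7.NASA5
import Groth.Agent.Lib.Helper3.IQA.OpensBC
import Groth.Agent.H4.UBF1
import Mathlib

/-!
# Relative normalization of algebraic spaces, part A6: geometric preliminaries for base change
-/

set_option autoImplicit false

universe u

open CategoryTheory CategoryTheory.Limits AlgebraicGeometry Opposite TensorProduct

namespace Groth.Agent.H7.NAS

open _root_.AlgSp Groth.Agent.H5.AlgSp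

variable {S : Scheme.{u}}

/-- Flat base change for global sections of a quasi-compact quasi-separated scheme over an affine
base, in tensor product form. -/
theorem exists_ringEquiv_top {X Y T₀ T₁ : Scheme.{u}} {f : T₁ ⟶ T₀} {g : Y ⟶ X} {iX : X ⟶ T₀}
    {iY : Y ⟶ T₁} (H : IsPullback g iY iX f) [Flat f] [IsAffine T₀] [IsAffine T₁]
    [CompactSpace X] [QuasiSeparatedSpace X]
    [Algebra Γ(T₀, ⊤) Γ(T₁, ⊤)] [Algebra Γ(T₀, ⊤) Γ(X, ⊤)]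
    (h₁ : algebraMap Γ(T₀, ⊤) Γ(T₁, ⊤) = f.appTop.hom)
    (h₂ : algebraMap Γ(T₀, ⊤) Γ(X, ⊤) = iX.appTop.hom) :
    ∃ ψ : Γ(T₁, ⊤) ⊗[Γ(T₀, ⊤)] Γ(X, ⊤) ≃+* Γ(Y, ⊤),
      ∀ a b, ψ (a ⊗ₜ b) = iY.appTop.hom a * g.appTop.hom b := by
  have hc : IsCompact ((⊤ : X.Opens) : Set X) := isCompact_univ
  have hqs : IsQuasiSeparated ((⊤ : X.Opens) : Set X) := isQuasiSeparated_univ
  have h₂' : algebraMap Γ(T₀, ⊤) Γ(X, ⊤) = (iX.appLE ⊤ ⊤ le_top).hom := by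
    rw [h₂]
    have : iX.appLE ⊤ ⊤ le_top = iX.appTop := iX.appLE_eq_app (U := ⊤)
    rw [this]
  obtain ⟨ψ, hψ⟩ := Groth.Agent.H3.IQA.exists_ringEquiv_opens H ⊤ hc hqs h₁ h₂'
  have e1 : iY.appLE ⊤ (g ⁻¹ᵁ ⊤) le_top = iY.appTop := iY.appLE_eq_app (U := ⊤)
  have e2 : g.appLE ⊤ (g ⁻¹ᵁ ⊤) le_rfl = g.appTop := g.appLE_eq_app (U := ⊤)
  rw [e1, e2] at hψ
  exact ⟨ψ, hψ⟩

/-- The kernel pair of a base change is the base change of the kernel pair. -/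
theorem isPullback_kernelPair_baseChange {C : Type*} [Category C] {Y Y₁ V V₁ V₂ V₂₁ : C}
    {v : V ⟶ Y} {a : Y₁ ⟶ Y} {p₁ : V₁ ⟶ V} {v₁ : V₁ ⟶ Y₁} (sqV : IsPullback p₁ v₁ v a)
    {d₀ d₁ : V₂ ⟶ V} (kp : IsPullback d₀ d₁ v v) {q : V₂₁ ⟶ V₂} {d₀₁ d₁₁ : V₂₁ ⟶ V₁}
    (sq0 : IsPullback q d₀₁ d₀ p₁) (h1 : d₁₁ ≫ p₁ = q ≫ d₁) (h2 : d₁₁ ≫ v₁ = d₀₁ ≫ v₁) :
    IsPullback d₀₁ d₁₁ v₁ v₁ := by
  refine ⟨⟨h2.symm⟩, ⟨PullbackCone.IsLimit.mk _ (fun s => ?_) (fun s => ?_) (fun s => ?_)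
    (fun s m hm1 hm2 => ?_)⟩⟩
  · refine sq0.lift (kp.lift (s.fst ≫ p₁) (s.snd ≫ p₁) ?_) s.fst (kp.lift_fst _ _ _)
    rw [Category.assoc, Category.assoc, sqV.w, ← Category.assoc, ← Category.assoc, s.condition]
  · exact sq0.lift_snd _ _ _
  · apply sqV.hom_ext
    · rw [Category.assoc, h1, ← Category.assoc, sq0.lift_fst, kp.lift_snd]
    · rw [Category.assoc, h2, ← Category.assoc, sq0.lift_snd, s.condition]
  · apply sq0.hom_ext
    · rw [sq0.lift_fst]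
      apply kp.hom_ext
      · rw [kp.lift_fst, Category.assoc, sq0.w, ← Category.assoc, hm1]
      · rw [kp.lift_snd, Category.assoc, ← h1, ← Category.assoc, hm2]
    · rw [sq0.lift_snd, hm1]

/-- Pullback squares in `Over S` give pullback squares of schemes. -/
lemma isPullback_left {P X Y Z : Over S} {fst : P ⟶ X} {snd : P ⟶ Y} {f : X ⟶ Z} {g : Y ⟶ Z}
    (sq : IsPullback fst snd f g) : IsPullback fst.left snd.left f.left g.left :=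
  sq.map (Over.forget S)

lemma isPullback_yon {P X Y Z : Over S} {fst : P ⟶ X} {snd : P ⟶ Y} {f : X ⟶ Z} {g : Y ⟶ Z}
    (sq : IsPullback fst snd f g) :
    IsPullback ((yon S).map fst) ((yon S).map snd) ((yon S).map f) ((yon S).map g) :=
  (Groth.Agent.H4.UBF.isPullback_yon_map_iff fst snd f g).2 sq

end Groth.Agent.H7.NAS
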