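import Groth.Agent.Lib.Helper7.BiratFib5
import Groth.Agent.Lib.Helper7.BiratFib4
import Groth.Agent.Lib.Helper7.NASA6
import Groth.Agent.Lib.Helper5.AlgSp.OpenSub
import Mathlib

/-!
# S10434: base change of a birational morphism to the local ring at a generic point
-/

set_option autoImplicit false
universe u

open AlgebraicGeometry CategoryTheory Limits Topology

namespace Groth.Agent.H7.BiratFib

open _root_.AlgSp Groth.Agent.H5.AlgSp

variable {S : Scheme.{u}}

/-- composing both legs of a pullback square with a monomorphism. -/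
theorem isPullback_comp_mono {C : Type*} [Category C] {P A B X X' : C} {fst : P ⟶ A}
    {snd : P ⟶ B} {f : A ⟶ X'} {g : B ⟶ X'} (j : X' ⟶ X) [Mono j]
    (sq : IsPullback fst snd f g) : IsPullback fst snd (f ≫ j) (g ≫ j) :=
  ⟨⟨by rw [reassoc_of% sq.w]⟩, ⟨PullbackCone.IsLimit.mk _
    (fun s => sq.lift s.fst s.snd ((cancel_mono j).1 (by simpa using s.condition)))
    (fun s => sq.lift_fst _ _ _) (fun s => sq.lift_snd _ _ _)
    (fun s m h1 h2 => sq.hom_ext (by simpa using h1) (by simpa using h2))⟩⟩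

/-- a morphism from a scheme whose points land in an open subscheme factors through it. -/
theorem exists_lift_of_open {Y : Sp S} {V T : Over S} (b : (yon S).obj V ⟶ Y)
    (hb : RepWith @IsOpenImmersion b) (m : (yon S).obj T ⟶ Y)
    (hm : ∀ t, Points.ofPt m t ∈ Set.range (Points.ofPt b)) :
    ∃ m' : T ⟶ V, (yon S).map m' ≫ b = m := by
  obtain ⟨g, hg⟩ := (factors_through_open_iff b hb m).2 (by
    rintro _ ⟨z, rfl⟩
    obtain ⟨t, rfl⟩ := (Points.schemeHomeo T).surjective z
    obtain ⟨w, hw⟩ := hm t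
    refine ⟨Points.ofScheme V w, ?_⟩
    rw [← Points.ofPt_eq_map_ofScheme, hw, Points.ofPt_eq_map_ofScheme]
    rfl)
  obtain ⟨m', rfl⟩ := (yon S).map_surjective g
  exact ⟨m', hg⟩

/-- cancelling a monomorphic chart. -/
theorem eq_of_yon_map_comp_eq {Y : Sp S} {V T : Over S} (b : (yon S).obj V ⟶ Y) [Mono b]
    (α β : T ⟶ V) (h : (yon S).map α ≫ b = (yon S).map β ≫ b) : α = β :=
  (yon S).map_injective ((cancel_mono b).1 h)

/-- S10434. -/
theorem S10434_main {X Y : AlgSp.Space S} (f : X ⟶ Y)
    (hX : AlgSp.IsDecent X.obj) (hY : AlgSp.IsDecent Y.obj)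
    (hf : W4stk3decentspacesp2.IsBirational f.hom) {V : Over S} (b : (AlgSp.yon S).obj V ⟶ Y.obj)
    (hb : AlgSp.RepWith @IsOpenImmersion b) (v : ↥V.left)
    (hv : AlgSp.Points.ofPt b v ∈ genericPoints (AlgSp.Points Y.obj)) {P : AlgSp.Sp S}
    (fst : P ⟶ X.obj)
    (snd : P ⟶ (AlgSp.yon S).obj (Over.mk (V.left.fromSpecStalk v ≫ V.hom)))
    (hP : IsPullback fst snd f.hom
      ((AlgSp.yon S).map (Over.homMk (V.left.fromSpecStalk v) rfl) ≫ b)) :
    IsIso snd := by
  haveI : T0Space (Points X.obj) := t0Space_points_of_isDecent X.property hX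
  haveI : T0Space (Points Y.obj) := t0Space_points_of_isDecent Y.property hY
  obtain ⟨x, hx, hfx⟩ := hf.bijOn.surjOn hv
  obtain ⟨U, V', a, b', g, u, ha, hb', comm, hau, hiso⟩ := hf.stalkIso x hx
  haveI : Mono b := mono_of_repWith LocalRep.isOpenImmersion_le_mono hb
  haveI : Mono b' := mono_of_repWith LocalRep.isOpenImmersion_le_mono hb'
  have hinjb : Function.Injective (Points.ofPt b) := (BiratIso.isOpenEmbedding_ofPt hb).injective
  have hinjb' : Function.Injective (Points.ofPt b') :=
    (BiratIso.isOpenEmbedding_ofPt hb').injective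
  have hinja : Function.Injective (Points.ofPt a) := (BiratIso.isOpenEmbedding_ofPt ha).injective
  -- the point `g u` lies over `y`
  have hgu : Points.ofPt b' (g.left u) = Points.ofPt b v := by
    rw [← ofPt_yon_map_comp, ← comm, ← Points.map_ofPt, hau, hfx]
  -- the fibre of `f` over `y` is `{x}`
  have hfib : ∀ x' : Points X.obj, Points.map f.hom x' = Points.ofPt b v → x' = x := by
    intro x' hx'
    have h1 := fibre_genericPoints X.property Y.property f.hom hX hY hf _ hv x' hx'
    exact hf.bijOn.injOn h1 hx (hx'.trans hfx.symm)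
  have hfibU : ∀ u' : U.left, g.left u' = g.left u → u' = u := by
    intro u' hu'
    apply hinja
    rw [hau]
    apply hfib
    rw [Points.map_ofPt, comm, ofPt_yon_map_comp, hu', hgu]
  -- every point of `Spec 𝒪_{V,v}` lies over `y`
  have hL : ∀ z : ((Over.mk (V.left.fromSpecStalk v ≫ V.hom) : Over S)).left,
      Points.ofPt ((yon S).map (Over.homMk (V.left.fromSpecStalk v) rfl :
        (Over.mk (V.left.fromSpecStalk v ≫ V.hom) : Over S) ⟶ V) ≫ b) z = Points.ofPt b v := by
    intro z
    rw [ofPt_yon_map_comp]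
    apply eq_of_specializes_genericPoints hv
    apply Specializes.map _ (Points.continuous_ofPt b)
    have : V.left.fromSpecStalk v z ∈ Set.range (V.left.fromSpecStalk v) := ⟨z, rfl⟩
    rw [Scheme.range_fromSpecStalk] at this
    exact this
  -- every point of `Spec 𝒪_{V',g u}` lies over `y`
  have hO : ∀ z : ((Over.mk (V'.left.fromSpecStalk (g.left u) ≫ V'.hom) : Over S)).left,
      Points.ofPt ((yon S).map (Over.homMk (V'.left.fromSpecStalk (g.left u)) rfl :
        (Over.mk (V'.left.fromSpecStalk (g.left u) ≫ V'.hom) : Over S) ⟶ V') ≫ b') z =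
        Points.ofPt b v := by
    intro z
    rw [ofPt_yon_map_comp]
    apply eq_of_specializes_genericPoints hv
    rw [← hgu]
    apply Specializes.map _ (Points.continuous_ofPt b')
    have : V'.left.fromSpecStalk (g.left u) z ∈ Set.range (V'.left.fromSpecStalk (g.left u)) :=
      ⟨z, rfl⟩
    rw [Scheme.range_fromSpecStalk] at this
    exact this
  -- the lifts
  obtain ⟨l, hl⟩ := exists_lift_of_open b' hb' _ (fun z => ⟨g.left u, by rw [hL z, hgu]⟩)
  obtain ⟨m₂, hm₂⟩ := exists_lift_of_open b hb _ (fun z => ⟨v, by rw [hO z]⟩)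
  have hlpt : ∀ z, l.left z = g.left u := by
    intro z
    apply hinjb'
    rw [← ofPt_yon_map_comp, hl, hL z, hgu]
  have hmpt : ∀ z, m₂.left z = v := by
    intro z
    apply hinjb
    rw [← ofPt_yon_map_comp, hm₂, hO z]
  obtain ⟨ρ, hρ⟩ := exists_lift_fromSpecStalk l.left (g.left u) (fun z => by rw [hlpt z])
  obtain ⟨μ, hμ⟩ := exists_lift_fromSpecStalk m₂.left v (fun z => by rw [hmpt z])
  -- `ρ` and `μ` are mutually inverse
  let ρ' : (Over.mk (V.left.fromSpecStalk v ≫ V.hom) : Over S) ⟶
      (Over.mk (V'.left.fromSpecStalk (g.left u) ≫ V'.hom) : Over S) := Over.homMk ρ (by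
    change ρ ≫ V'.left.fromSpecStalk (g.left u) ≫ V'.hom = V.left.fromSpecStalk v ≫ V.hom
    rw [reassoc_of% hρ]
    exact Over.w l)
  have hρ' : ρ' ≫ (Over.homMk (V'.left.fromSpecStalk (g.left u)) rfl :
      (Over.mk (V'.left.fromSpecStalk (g.left u) ≫ V'.hom) : Over S) ⟶ V') = l :=
    Over.OverMorphism.ext hρ
  let μ' : (Over.mk (V'.left.fromSpecStalk (g.left u) ≫ V'.hom) : Over S) ⟶
      (Over.mk (V.left.fromSpecStalk v ≫ V.hom) : Over S) := Over.homMk μ (by
    change μ ≫ V.left.fromSpecStalk v ≫ V.hom = V'.left.fromSpecStalk (g.left u) ≫ V'.hom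
    rw [reassoc_of% hμ]
    exact Over.w m₂)
  have hμ' : μ' ≫ (Over.homMk (V.left.fromSpecStalk v) rfl :
      (Over.mk (V.left.fromSpecStalk v ≫ V.hom) : Over S) ⟶ V) = m₂ :=
    Over.OverMorphism.ext hμ
  have h8a : ρ' ≫ m₂ = (Over.homMk (V.left.fromSpecStalk v) rfl :
      (Over.mk (V.left.fromSpecStalk v ≫ V.hom) : Over S) ⟶ V) :=
    eq_of_yon_map_comp_eq b _ _ (by
      rw [Functor.map_comp, Category.assoc, hm₂, ← Category.assoc, ← Functor.map_comp, hρ', hl])
  have h8b : μ' ≫ l = (Over.homMk (V'.left.fromSpecStalk (g.left u)) rfl :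
      (Over.mk (V'.left.fromSpecStalk (g.left u) ≫ V'.hom) : Over S) ⟶ V') :=
    eq_of_yon_map_comp_eq b' _ _ (by
      rw [Functor.map_comp, Category.assoc, hl, ← Category.assoc, ← Functor.map_comp, hμ', hm₂])
  have hρμ : ρ ≫ μ = 𝟙 _ := by
    rw [← cancel_mono (V.left.fromSpecStalk v), Category.assoc, hμ, Category.id_comp]
    exact congrArg (fun k => k.left) h8a
  have hμρ : μ ≫ ρ = 𝟙 _ := by
    rw [← cancel_mono (V'.left.fromSpecStalk (g.left u)), Category.assoc, hρ, Category.id_comp]
    exact congrArg (fun k => k.left) h8b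
  haveI : IsIso ρ := ⟨μ, hρμ, hμρ⟩
  haveI : IsIso (g.left.stalkMap u) := hiso
  have hsnd : IsIso (pullback.snd g.left l.left) :=
    isIso_pullback_snd_of_stalk g.left u l.left ρ hρ (by
      rintro u' ⟨z, hz⟩
      exact hfibU u' (by rw [← hz, hlpt z]))
  -- the scheme `T = U ×_{V'} Spec 𝒪_{V,v}` over `S`
  let T : Over S := Over.mk (pullback.fst g.left l.left ≫ U.hom)
  let pr1 : T ⟶ U := Over.homMk (pullback.fst g.left l.left) rfl
  let pr2 : T ⟶ (Over.mk (V.left.fromSpecStalk v ≫ V.hom) : Over S) :=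
    Over.homMk (pullback.snd g.left l.left) (by
      change pullback.snd g.left l.left ≫ V.left.fromSpecStalk v ≫ V.hom =
        pullback.fst g.left l.left ≫ U.hom
      have h1 : V.left.fromSpecStalk v ≫ V.hom = l.left ≫ V'.hom := (Over.w l).symm
      have h2 : U.hom = g.left ≫ V'.hom := (Over.w g).symm
      calc pullback.snd g.left l.left ≫ V.left.fromSpecStalk v ≫ V.hom
          = pullback.snd g.left l.left ≫ l.left ≫ V'.hom := congrArg _ h1
        _ = pullback.fst g.left l.left ≫ g.left ≫ V'.hom := (pullback.condition_assoc _).symm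
        _ = pullback.fst g.left l.left ≫ U.hom := congrArg _ h2.symm)
  have hcomm : pr1 ≫ g = pr2 ≫ l := Over.OverMorphism.ext pullback.condition
  have hsq : IsPullback pr1 pr2 g l :=
    IsPullback.of_map (Over.forget S) hcomm (IsPullback.of_hasPullback g.left l.left)
  have hsqy : IsPullback ((yon S).map pr1) ((yon S).map pr2) ((yon S).map g) ((yon S).map l) :=
    NAS.isPullback_yon hsq
  haveI : IsIso ((Over.forget S).map pr2) := hsnd
  haveI : IsIso pr2 := isIso_of_reflects_iso pr2 (Over.forget S)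
  have hbig : IsPullback ((yon S).map pr1) ((yon S).map pr2) (a ≫ f.hom)
      ((yon S).map (Over.homMk (V.left.fromSpecStalk v) rfl) ≫ b) := by
    have := isPullback_comp_mono b' hsqy
    rw [hl, ← comm] at this
    exact this
  let t : (yon S).obj T ⟶ P := hP.lift ((yon S).map pr1 ≫ a) ((yon S).map pr2) (by
    rw [Category.assoc]; exact hbig.w)
  have ht1 : t ≫ fst = (yon S).map pr1 ≫ a := hP.lift_fst _ _ _
  have ht2 : t ≫ snd = (yon S).map pr2 := hP.lift_snd _ _ _
  have hleft : IsPullback t ((yon S).map pr1) fst a := by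
    refine IsPullback.of_right ?_ ht1 hP.flip
    rw [ht2]
    exact hbig.flip
  have hto : RepWith @IsOpenImmersion t :=
    MorphismProperty.of_isPullback (P := RepWith (S := S) @IsOpenImmersion) hleft.flip ha
  have hsurj : Function.Surjective (Points.map t) := by
    intro p
    have h1 : Points.map fst p = x := by
      apply hfib
      obtain ⟨z, hz⟩ := (Points.schemeHomeo _).surjective (Points.map snd p)
      rw [← Points.map_comp, hP.w, Points.map_comp, ← hz]
      rw [← hL z, Points.ofPt_eq_map_ofScheme]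
      rfl
    obtain ⟨q, hq, -⟩ := points_pullback_surjective hleft p (Points.ofScheme U u) (by
      rw [h1, ← Points.ofPt_eq_map_ofScheme, hau])
    exact ⟨q, hq⟩
  haveI : IsIso t := isIso_of_isOpenImmersion_of_points_surjective hto hsurj
  have : snd = inv t ≫ (yon S).map pr2 := by
    rw [← cancel_epi t, ht2, IsIso.hom_inv_id_assoc]
  rw [this]
  infer_instance

end Groth.Agent.H7.BiratFib
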