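import Groth.Agent.Lib.Helper7.BiratFib5
import Mathlib

/-!
# A criterion for a morphism to induce an isomorphism of local rings
-/

set_option autoImplicit false
universe u

open AlgebraicGeometry CategoryTheory Limits Topology

namespace Groth.Agent.H7.BiratFib

/-- if the base change of `h` to `Spec 𝒪_{W,h z}` is an isomorphism then `h` induces an
isomorphism of local rings at `z`. -/
theorem isIso_stalkMap_of_isIso_pullback_snd {Z W : Scheme.{u}} (h : Z ⟶ W) (z : Z)
    [IsIso (pullback.snd h (W.fromSpecStalk (h z)))] : IsIso (h.stalkMap z) := by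
  have hs : (inv (pullback.snd h (W.fromSpecStalk (h z))) ≫
      pullback.fst h (W.fromSpecStalk (h z))) ≫ h = W.fromSpecStalk (h z) := by
    rw [Category.assoc, pullback.condition, IsIso.inv_hom_id_assoc]
  let k : Spec (Z.presheaf.stalk z) ⟶ pullback h (W.fromSpecStalk (h z)) :=
    pullback.lift (Z.fromSpecStalk z) (Spec.map (h.stalkMap z))
      (Scheme.SpecMap_stalkMap_fromSpecStalk (f := h) (x := z)).symm
  have hk1 : k ≫ pullback.fst _ _ = Z.fromSpecStalk z := pullback.lift_fst _ _ _
  have hk2 : k ≫ pullback.snd h (W.fromSpecStalk (h z)) = Spec.map (h.stalkMap z) :=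
    pullback.lift_snd _ _ _
  have hk3 : k = Spec.map (h.stalkMap z) ≫ inv (pullback.snd h (W.fromSpecStalk (h z))) := by
    rw [← hk2, Category.assoc, IsIso.hom_inv_id, Category.comp_id]
  have hcl : Spec.map (h.stalkMap z) (IsLocalRing.closedPoint (Z.presheaf.stalk z)) =
      IsLocalRing.closedPoint (W.presheaf.stalk (h z)) :=
    IsLocalRing.comap_closedPoint (h.stalkMap z).hom
  have hsc : (inv (pullback.snd h (W.fromSpecStalk (h z))) ≫
      pullback.fst h (W.fromSpecStalk (h z))) (IsLocalRing.closedPoint _) = z := by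
    rw [← hcl, ← Scheme.Hom.comp_apply, ← Category.assoc, ← hk3, hk1,
      Scheme.fromSpecStalk_closedPoint]
  obtain ⟨s₀, hs₀⟩ := exists_lift_fromSpecStalk (inv (pullback.snd h (W.fromSpecStalk (h z))) ≫
      pullback.fst h (W.fromSpecStalk (h z))) z (by
    intro t
    have h1 : t ⤳ IsLocalRing.closedPoint (W.presheaf.stalk (h z)) :=
      IsLocalRing.specializes_closedPoint t
    have h2 := h1.map (inv (pullback.snd h (W.fromSpecStalk (h z))) ≫
      pullback.fst h (W.fromSpecStalk (h z))).continuous
    rw [hsc] at h2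
    exact h2)
  have h1 : s₀ ≫ Spec.map (h.stalkMap z) = 𝟙 _ := by
    rw [← cancel_mono (W.fromSpecStalk (h z)), Category.assoc,
      Scheme.SpecMap_stalkMap_fromSpecStalk, reassoc_of% hs₀, ← Category.assoc, hs,
      Category.id_comp]
  have h2 : Spec.map (h.stalkMap z) ≫ s₀ = 𝟙 _ := by
    rw [← cancel_mono (Z.fromSpecStalk z), Category.assoc, hs₀, Category.id_comp,
      ← Category.assoc, ← hk3, hk1]
  haveI : IsIso (Spec.map (h.stalkMap z)) := ⟨s₀, h2, h1⟩
  have hb := (isIso_SpecMap_iff (f := h.stalkMap z)).1 inferInstance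
  exact (ConcreteCategory.isIso_iff_bijective _).2 hb

end Groth.Agent.H7.BiratFib
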