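import Groth.Agent.Lib.Helper7.BiratFib6
import Groth.Agent.Lib.Helper7.BiratFib7
import Groth.Agent.Lib.Helper3.Decent.Etale
import Mathlib

/-!
# Generic points and étale morphisms of decent spaces; birational base change
-/

set_option autoImplicit false
universe u

open AlgebraicGeometry CategoryTheory Limits Topology

namespace Groth.Agent.H7.BiratFib

open _root_.AlgSp Groth.Agent.H5.AlgSp

variable {S : Scheme.{u}}

/-- a point of an étale chart of a decent space is a generic point of an irreducible component
iff its image is. -/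
theorem genericPoints_chart_iff {F : Sp S} (hF : IsAlgSpace F) (hd : IsDecent F) {U : Over S}
    (a : (yon S).obj U ⟶ F) (ha : RepWith @Etale a) (u : U.left) :
    u ∈ genericPoints U.left ↔ Points.ofPt a u ∈ genericPoints (Points F) := by
  haveI : T0Space (Points F) := t0Space_points_of_isDecent hF hd
  haveI : QuasiSober (Points F) := Groth.Agent.H3.Decent.quasiSober_points_of_isDecent hF hd
  constructor
  · intro hu
    obtain ⟨x', hx', hsp⟩ := exists_genericPoints_specializes (Points.ofPt a u)
    obtain ⟨u', hu', hau'⟩ := exists_specializes_ofPt_of_fieldPt hsp (hd x') a ha u rfl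
    have : u' = u := eq_of_specializes_genericPoints hu hu'
    rw [← this, hau']
    exact hx'
  · intro h
    obtain ⟨u', hu', hsp⟩ := exists_genericPoints_specializes u
    have h1 : Points.ofPt a u' ⤳ Points.ofPt a u := hsp.map (Points.continuous_ofPt a)
    have h2 : Points.ofPt a u' = Points.ofPt a u := eq_of_specializes_genericPoints h h1
    have h3 : u = u' := eq_of_specializes_of_isDecent hd a ha u u' h2.symm hsp
    rw [h3]
    exact hu'

/-- a point of the source of an étale morphism of decent spaces is a generic point of an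
irreducible component iff its image is. -/
theorem genericPoints_map_iff {P X : Sp S} (hP : IsAlgSpace P) (hX : IsAlgSpace X)
    (hPd : IsDecent P) (hXd : IsDecent X) (π : P ⟶ X) (hπ : RepWith @Etale π) (p : Points P) :
    p ∈ genericPoints (Points P) ↔ Points.map π p ∈ genericPoints (Points X) := by
  obtain ⟨W, c, w, -, hc, rfl⟩ := SmLift.exists_affine_chart_at hP p
  rw [← genericPoints_chart_iff hP hPd c hc w, Points.map_ofPt,
    ← genericPoints_chart_iff hX hXd (c ≫ π)
      ((repWith_isMultiplicative (S := S) @Etale).comp_mem _ _ hc hπ) w]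

section topology

variable {T : Type*} [TopologicalSpace T]

/-- in a quasi-sober space with finitely many generic points there are finitely many irreducible
components. -/
theorem finite_irreducibleComponents_of_finite_genericPoints [QuasiSober T]
    (h : (genericPoints T).Finite) : (irreducibleComponents T).Finite := by
  refine (h.image (fun g => closure ({g} : Set T))).subset ?_
  intro Z hZ
  have hZirr : IsIrreducible Z := hZ.1
  have hZcl : IsClosed Z := isClosed_of_mem_irreducibleComponents Z hZ
  obtain ⟨g, hg⟩ := QuasiSober.sober hZirr hZcl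
  refine ⟨g, ?_, hg.def⟩
  change closure {g} ∈ irreducibleComponents T
  rw [hg.def]; exact hZ

/-- in a T0 space with finitely many irreducible components there are finitely many generic
points. -/
theorem finite_genericPoints_of_finite_irreducibleComponents [T0Space T]
    (h : (irreducibleComponents T).Finite) : (genericPoints T).Finite := by
  refine Set.Finite.of_finite_image (f := fun g => closure ({g} : Set T)) (h.subset ?_) ?_
  · rintro _ ⟨g, hg, rfl⟩
    exact hg
  · intro g _ g' _ hgg'
    have h1 : g ⤳ g' := by
      rw [specializes_iff_mem_closure]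
      change g' ∈ closure {g}
      have : closure ({g} : Set T) = closure {g'} := hgg'
      rw [this]; exact subset_closure rfl
    have h2 : g' ⤳ g := by
      rw [specializes_iff_mem_closure]
      have : closure ({g} : Set T) = closure {g'} := hgg'
      rw [← this]; exact subset_closure rfl
    exact (h1.antisymm h2).eq

end topology

/-- S10434 for an arbitrary morphism from a scheme: the base change of a birational morphism to
the local ring at a point lying over a generic point is an isomorphism. -/
theorem isIso_snd_of_generic {X Y : AlgSp.Space S} (f : X ⟶ Y)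
    (hX : AlgSp.IsDecent X.obj) (hY : AlgSp.IsDecent Y.obj)
    (hf : W4stk3decentspacesp2.IsBirational f.hom) {V : Over S} (b : (AlgSp.yon S).obj V ⟶ Y.obj)
    (v : ↥V.left)
    (hv : AlgSp.Points.ofPt b v ∈ genericPoints (AlgSp.Points Y.obj)) {P : AlgSp.Sp S}
    (fst : P ⟶ X.obj)
    (snd : P ⟶ (AlgSp.yon S).obj (Over.mk (V.left.fromSpecStalk v ≫ V.hom)))
    (hP : IsPullback fst snd f.hom
      ((AlgSp.yon S).map (Over.homMk (V.left.fromSpecStalk v) rfl) ≫ b)) :
    IsIso snd := by
  haveI : T0Space (Points X.obj) := t0Space_points_of_isDecent X.property hX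
  haveI : T0Space (Points Y.obj) := t0Space_points_of_isDecent Y.property hY
  obtain ⟨x, hx, hfx⟩ := hf.bijOn.surjOn hv
  obtain ⟨U, V', a, b', g, u, ha, hb', comm, hau, hiso⟩ := hf.stalkIso x hx
  haveI : Mono b' := mono_of_repWith LocalRep.isOpenImmersion_le_mono hb'
  have hinjb' : Function.Injective (Points.ofPt b') :=
    (BiratIso.isOpenEmbedding_ofPt hb').injective
  have hgu : Points.ofPt b' (g.left u) = Points.ofPt b v := by
    rw [← ofPt_yon_map_comp, ← comm, ← Points.map_ofPt, hau, hfx]
  have hL : ∀ z : ((Over.mk (V.left.fromSpecStalk v ≫ V.hom) : Over S)).left,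
      Points.ofPt ((yon S).map (Over.homMk (V.left.fromSpecStalk v) rfl :
        (Over.mk (V.left.fromSpecStalk v ≫ V.hom) : Over S) ⟶ V) ≫ b) z = Points.ofPt b v := by
    intro z
    rw [ofPt_yon_map_comp]
    apply eq_of_specializes_genericPoints hv
    apply Specializes.map _ (Points.continuous_ofPt b)
    have : V.left.fromSpecStalk v z ∈ Set.range (V.left.fromSpecStalk v) := ⟨z, rfl⟩
    rw [Scheme.range_fromSpecStalk] at this
    exact this
  obtain ⟨l, hl⟩ := exists_lift_of_open b' hb' _ (fun z => ⟨g.left u, by rw [hL z, hgu]⟩)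
  have hlpt : ∀ z, l.left z = g.left u := by
    intro z
    apply hinjb'
    rw [← ofPt_yon_map_comp, hl, hL z, hgu]
  obtain ⟨τ₀, hτ₀⟩ := exists_lift_fromSpecStalk l.left (g.left u) (fun z => by rw [hlpt z])
  let τ : (Over.mk (V.left.fromSpecStalk v ≫ V.hom) : Over S) ⟶
      (Over.mk (V'.left.fromSpecStalk (g.left u) ≫ V'.hom) : Over S) := Over.homMk τ₀ (by
    change τ₀ ≫ V'.left.fromSpecStalk (g.left u) ≫ V'.hom = V.left.fromSpecStalk v ≫ V.hom
    rw [reassoc_of% hτ₀]
    exact Over.w l)
  have hτ : τ ≫ (Over.homMk (V'.left.fromSpecStalk (g.left u)) rfl :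
      (Over.mk (V'.left.fromSpecStalk (g.left u) ≫ V'.hom) : Over S) ⟶ V') = l :=
    Over.OverMorphism.ext hτ₀
  have hfac : (yon S).map τ ≫ ((yon S).map (Over.homMk (V'.left.fromSpecStalk (g.left u)) rfl :
      (Over.mk (V'.left.fromSpecStalk (g.left u) ≫ V'.hom) : Over S) ⟶ V') ≫ b') =
      (yon S).map (Over.homMk (V.left.fromSpecStalk v) rfl :
        (Over.mk (V.left.fromSpecStalk v ≫ V.hom) : Over S) ⟶ V) ≫ b := by
    rw [← Category.assoc, ← Functor.map_comp, hτ, hl]
  -- the fibre product over the open chart
  have hv' : Points.ofPt b' (g.left u) ∈ genericPoints (Points Y.obj) := by rw [hgu]; exact hv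
  have hE : IsIso (pullback.snd f.hom
      ((yon S).map (Over.homMk (V'.left.fromSpecStalk (g.left u)) rfl :
      (Over.mk (V'.left.fromSpecStalk (g.left u) ≫ V'.hom) : Over S) ⟶ V') ≫ b')) :=
    S10434_main f hX hY hf b' hb' (g.left u) hv' _ _ (IsPullback.of_hasPullback _ _)
  let k : P ⟶ pullback f.hom
      ((yon S).map (Over.homMk (V'.left.fromSpecStalk (g.left u)) rfl :
      (Over.mk (V'.left.fromSpecStalk (g.left u) ≫ V'.hom) : Over S) ⟶ V') ≫ b') :=
    pullback.lift fst (snd ≫ (yon S).map τ) (by rw [Category.assoc, hfac]; exact hP.w)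
  have hk1 : k ≫ pullback.fst _ _ = fst := pullback.lift_fst _ _ _
  have hk2 : k ≫ pullback.snd _ _ = snd ≫ (yon S).map τ := pullback.lift_snd _ _ _
  have hsq : IsPullback k snd (pullback.snd f.hom
      ((yon S).map (Over.homMk (V'.left.fromSpecStalk (g.left u)) rfl :
      (Over.mk (V'.left.fromSpecStalk (g.left u) ≫ V'.hom) : Over S) ⟶ V') ≫ b'))
      ((yon S).map τ) := by
    refine IsPullback.of_right ?_ hk2 (IsPullback.of_hasPullback _ _)
    rw [hk1, hfac]
    exact hP
  exact hsq.isIso_snd_of_isIso

end Groth.Agent.H7.BiratFib
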