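import Groth.Agent.Lib.Helper7.BiratFib8
import Mathlib

/-!
# S10437: base change of a birational morphism along an étale morphism from an affine scheme
-/

set_option autoImplicit false
universe u

open AlgebraicGeometry CategoryTheory Limits Topology

namespace Groth.Agent.H7.BiratFib

open _root_.AlgSp Groth.Agent.H5.AlgSp

variable {S : Scheme.{u}}

theorem ofPt_yon_map' {T T' : Over S} (φ : T' ⟶ T) (t : ↥T'.left) :
    Points.ofPt ((yon S).map φ) t = Points.ofScheme T (φ.left t) := by
  have := ofPt_yon_map_comp φ (𝟙 ((yon S).obj T)) t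
  rwa [Category.comp_id] at this

/-- uniqueness of the point of `X ×_Y V` over a point of `V` lying over a generic point. -/
theorem eq_of_map_snd_eq {X Y : AlgSp.Space S} (f : X ⟶ Y)
    (hX : AlgSp.IsDecent X.obj) (hY : AlgSp.IsDecent Y.obj)
    (hf : W4stk3decentspacesp2.IsBirational f.hom) {V : Over S} (b : (yon S).obj V ⟶ Y.obj)
    {P : Sp S} (fst : P ⟶ X.obj) (snd : P ⟶ (yon S).obj V) (hP : IsPullback fst snd f.hom b)
    (v : V.left) (hv : Points.ofPt b v ∈ genericPoints (Points Y.obj))
    (p₁ p₂ : Points P) (h₁ : Points.map snd p₁ = Points.ofScheme V v)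
    (h₂ : Points.map snd p₂ = Points.ofScheme V v) : p₁ = p₂ := by
  have sqR := IsPullback.of_hasPullback snd ((yon S).map (Over.homMk (V.left.fromSpecStalk v) rfl :
        (Over.mk (V.left.fromSpecStalk v ≫ V.hom) : Over S) ⟶ V))
  haveI hr2 : IsIso (pullback.snd snd ((yon S).map (Over.homMk (V.left.fromSpecStalk v) rfl :
        (Over.mk (V.left.fromSpecStalk v ≫ V.hom) : Over S) ⟶ V))) :=
    isIso_snd_of_generic f hX hY hf b v hv _ _ (sqR.paste_horiz hP)
  have hmap : Points.map ((yon S).map (Over.homMk (V.left.fromSpecStalk v) rfl :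
        (Over.mk (V.left.fromSpecStalk v ≫ V.hom) : Over S) ⟶ V))
      (Points.ofScheme _ (IsLocalRing.closedPoint (V.left.presheaf.stalk v))) =
      Points.ofScheme V v := by
    rw [← Points.ofPt_eq_map_ofScheme, ofPt_yon_map']
    congr 1
    exact Scheme.fromSpecStalk_closedPoint
  obtain ⟨z₁, hz₁, hz₁'⟩ := points_pullback_surjective sqR p₁ _ (h₁.trans hmap.symm)
  obtain ⟨z₂, hz₂, hz₂'⟩ := points_pullback_surjective sqR p₂ _ (h₂.trans hmap.symm)
  have : z₁ = z₂ := points_map_injective_of_mono _ (hz₁'.trans hz₂'.symm)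
  rw [← hz₁, ← hz₂, this]

/-- the projection `X ×_Y V ⟶ V` is bijective on generic points. -/
theorem bijOn_snd {X Y : AlgSp.Space S} (f : X ⟶ Y)
    (hX : AlgSp.IsDecent X.obj) (hY : AlgSp.IsDecent Y.obj)
    (hf : W4stk3decentspacesp2.IsBirational f.hom) {V : Over S} (b : (yon S).obj V ⟶ Y.obj)
    (hb : RepWith @Etale b)
    {P : Sp S} (fst : P ⟶ X.obj) (snd : P ⟶ (yon S).obj V) (hP : IsPullback fst snd f.hom b)
    (hPa : IsAlgSpace P) (hPd : IsDecent P) :
    Set.BijOn (Points.map snd) (genericPoints (Points P))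
      (genericPoints (Points ((yon S).obj V))) := by
  have hfst : RepWith @Etale fst :=
    MorphismProperty.of_isPullback (P := RepWith (S := S) @Etale) hP.flip hb
  have hVa : IsAlgSpace ((yon S).obj V) := IsAlgSpace.yon_obj V
  have hVd : IsDecent ((yon S).obj V) := Groth.Agent.H3.Decent.isDecent_yon V
  have key : ∀ p : Points P, p ∈ genericPoints (Points P) →
      Points.map b (Points.map snd p) ∈ genericPoints (Points Y.obj) := by
    intro p hp
    rw [← Points.map_comp, ← hP.w, Points.map_comp]
    exact hf.bijOn.mapsTo ((genericPoints_map_iff hPa X.property hPd hX fst hfst p).1 hp)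
  refine ⟨?_, ?_, ?_⟩
  · intro p hp
    exact (genericPoints_map_iff hVa Y.property hVd hY b hb _).2 (key p hp)
  · intro p₁ hp₁ p₂ hp₂ h
    obtain ⟨v, hv⟩ := (Points.schemeHomeo V).surjective (Points.map snd p₁)
    have hv' : Points.ofPt b v ∈ genericPoints (Points Y.obj) := by
      have := key p₁ hp₁
      rw [← hv] at this
      rw [Points.ofPt_eq_map_ofScheme]
      exact this
    exact eq_of_map_snd_eq f hX hY hf b fst snd hP v hv' p₁ p₂ hv.symm (h ▸ hv.symm)
  · intro ν hν
    have hy := (genericPoints_map_iff hVa Y.property hVd hY b hb ν).1 hν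
    obtain ⟨x, hx, hfx⟩ := hf.bijOn.surjOn hy
    obtain ⟨p, hp1, hp2⟩ := points_pullback_surjective hP x ν hfx
    refine ⟨p, ?_, hp2⟩
    rw [genericPoints_map_iff hPa X.property hPd hX fst hfst p, hp1]
    exact hx

/-- finitely many generic points on an affine scheme étale over a decent space with finitely many
irreducible components. -/
theorem finite_genericPoints_yon {Y : Sp S} (hYa : IsAlgSpace Y) (hY : IsDecent Y)
    (hYf : (irreducibleComponents (Points Y)).Finite) {V : Over S} [IsAffine V.left]
    (b : (yon S).obj V ⟶ Y) (hb : RepWith @Etale b) :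
    (genericPoints (Points ((yon S).obj V))).Finite := by
  haveI : T0Space (Points Y) := t0Space_points_of_isDecent hYa hY
  have hVa : IsAlgSpace ((yon S).obj V) := IsAlgSpace.yon_obj V
  have hVd : IsDecent ((yon S).obj V) := Groth.Agent.H3.Decent.isDecent_yon V
  have hfin := finite_genericPoints_of_finite_irreducibleComponents hYf
  refine (Set.Finite.biUnion hfin (t := fun y => Points.map b ⁻¹' {y}) ?_).subset ?_
  · intro y _
    have h1 := finite_fibre_of_isDecent hY y V b inferInstance hb
    refine (h1.image (Points.ofScheme V)).subset ?_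
    intro ν hν
    obtain ⟨v, rfl⟩ := (Points.schemeHomeo V).surjective ν
    refine ⟨v, ?_, rfl⟩
    change Points.ofPt b v = y
    rw [Points.ofPt_eq_map_ofScheme]
    exact hν
  · intro ν hν
    have hy := (genericPoints_map_iff hVa hYa hVd hY b hb ν).1 hν
    exact Set.mem_biUnion hy rfl

/-- the stalk isomorphism part of birationality for `X ×_Y V ⟶ V`. -/
theorem stalkIso_snd {X Y : AlgSp.Space S} (f : X ⟶ Y)
    (hX : AlgSp.IsDecent X.obj) (hY : AlgSp.IsDecent Y.obj)
    (hf : W4stk3decentspacesp2.IsBirational f.hom) {V : Over S} (b : (yon S).obj V ⟶ Y.obj)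
    (hb : RepWith @Etale b)
    {P : Sp S} (fst : P ⟶ X.obj) (snd : P ⟶ (yon S).obj V) (hP : IsPullback fst snd f.hom b)
    (hPa : IsAlgSpace P) (hPd : IsDecent P) (p : Points P) (hp : p ∈ genericPoints (Points P)) :
    ∃ (U' V' : Over S) (a' : (yon S).obj U' ⟶ P) (b'' : (yon S).obj V' ⟶ (yon S).obj V)
      (g' : U' ⟶ V') (u' : ↥U'.left), RepWith @IsOpenImmersion a' ∧ RepWith @IsOpenImmersion b'' ∧
      a' ≫ snd = (yon S).map g' ≫ b'' ∧ Points.ofPt a' u' = p ∧ IsIso (g'.left.stalkMap u') := by
  have hfst : RepWith @Etale fst :=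
    MorphismProperty.of_isPullback (P := RepWith (S := S) @Etale) hP.flip hb
  have hx : Points.map fst p ∈ genericPoints (Points X.obj) :=
    (genericPoints_map_iff hPa X.property hPd hX fst hfst p).1 hp
  obtain ⟨U, V₀, a, b₀, g, u, ha, hb₀, comm, hau, hiso⟩ := hf.stalkIso _ hx
  -- the open subscheme `U ×_Y V` of `P`
  let UP : Over S := hb.rep.pullback (a ≫ f.hom)
  let pV : UP ⟶ V := hb.rep.fst' (a ≫ f.hom)
  let pU : UP ⟶ U := hb.rep.snd (a ≫ f.hom)
  have sqU : IsPullback ((yon S).map pV) ((yon S).map pU) b (a ≫ f.hom) :=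
    hb.rep.isPullback' (a ≫ f.hom)
  let aP : (yon S).obj UP ⟶ P := hP.lift ((yon S).map pU ≫ a) ((yon S).map pV) (by
    rw [Category.assoc]; exact sqU.w.symm)
  have haP1 : aP ≫ fst = (yon S).map pU ≫ a := hP.lift_fst _ _ _
  have haP2 : aP ≫ snd = (yon S).map pV := hP.lift_snd _ _ _
  have hleft : IsPullback aP ((yon S).map pU) fst a := by
    refine IsPullback.of_right ?_ haP1 hP.flip
    rw [haP2]
    exact sqU
  have haPo : RepWith @IsOpenImmersion aP :=
    MorphismProperty.of_isPullback (P := RepWith (S := S) @IsOpenImmersion) hleft.flip ha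
  obtain ⟨q, hq, -⟩ := points_pullback_surjective hleft p (Points.ofScheme U u) (by
    rw [← Points.ofPt_eq_map_ofScheme, hau])
  obtain ⟨t, rfl⟩ := (Points.schemeHomeo UP).surjective q
  have htp : Points.ofPt aP t = p := by
    rw [Points.ofPt_eq_map_ofScheme]; exact hq
  refine ⟨UP, V, aP, 𝟙 _, pV, t, haPo,
    (repWith_isMultiplicative (S := S) @IsOpenImmersion).id_mem _, ?_, htp, ?_⟩
  · rw [haP2, Category.comp_id]
  · haveI : T0Space (Points Y.obj) := t0Space_points_of_isDecent Y.property hY
    have hvgen : Points.ofPt b (pV.left t) ∈ genericPoints (Points Y.obj) := by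
      rw [← ofPt_yon_map_comp, ← haP2, Category.assoc, ← Points.map_ofPt, htp, ← hP.w,
        Points.map_comp]
      exact hf.bijOn.mapsTo hx
    -- the scheme `Q = UP ×_V Spec 𝒪_{V,v}`
    let Q : Over S := Over.mk (pullback.fst pV.left (V.left.fromSpecStalk (pV.left t)) ≫ UP.hom)
    let pr1 : Q ⟶ UP := Over.homMk (pullback.fst pV.left (V.left.fromSpecStalk (pV.left t))) rfl
    let pr2 : Q ⟶ (Over.mk (V.left.fromSpecStalk (pV.left t) ≫ V.hom) : Over S) :=
      Over.homMk (pullback.snd pV.left (V.left.fromSpecStalk (pV.left t))) (by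
        change pullback.snd pV.left (V.left.fromSpecStalk (pV.left t)) ≫
          V.left.fromSpecStalk (pV.left t) ≫ V.hom =
          pullback.fst pV.left (V.left.fromSpecStalk (pV.left t)) ≫ UP.hom
        have h2 : UP.hom = pV.left ≫ V.hom := (Over.w pV).symm
        calc pullback.snd pV.left (V.left.fromSpecStalk (pV.left t)) ≫
              V.left.fromSpecStalk (pV.left t) ≫ V.hom
            = pullback.fst pV.left (V.left.fromSpecStalk (pV.left t)) ≫ pV.left ≫ V.hom :=
              (pullback.condition_assoc _).symm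
          _ = pullback.fst pV.left (V.left.fromSpecStalk (pV.left t)) ≫ UP.hom :=
              congrArg _ h2.symm)
    have hcomm : pr1 ≫ pV = pr2 ≫ (Over.homMk (V.left.fromSpecStalk (pV.left t)) rfl :
        (Over.mk (V.left.fromSpecStalk (pV.left t) ≫ V.hom) : Over S) ⟶ V) :=
      Over.OverMorphism.ext pullback.condition
    have sqQ : IsPullback pr1 pr2 pV (Over.homMk (V.left.fromSpecStalk (pV.left t)) rfl :
        (Over.mk (V.left.fromSpecStalk (pV.left t) ≫ V.hom) : Over S) ⟶ V) :=
      IsPullback.of_map (Over.forget S) hcomm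
        (IsPullback.of_hasPullback pV.left (V.left.fromSpecStalk (pV.left t)))
    have sqQy := NAS.isPullback_yon sqQ
    have hbigQ : IsPullback ((yon S).map pr1 ≫ (yon S).map pU) ((yon S).map pr2) (a ≫ f.hom)
        ((yon S).map (Over.homMk (V.left.fromSpecStalk (pV.left t)) rfl :
        (Over.mk (V.left.fromSpecStalk (pV.left t) ≫ V.hom) : Over S) ⟶ V) ≫ b) :=
      sqQy.paste_horiz sqU.flip
    have sqR := IsPullback.of_hasPullback f.hom
        ((yon S).map (Over.homMk (V.left.fromSpecStalk (pV.left t)) rfl :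
        (Over.mk (V.left.fromSpecStalk (pV.left t) ≫ V.hom) : Over S) ⟶ V) ≫ b)
    haveI hr2 : IsIso (pullback.snd f.hom
        ((yon S).map (Over.homMk (V.left.fromSpecStalk (pV.left t)) rfl :
        (Over.mk (V.left.fromSpecStalk (pV.left t) ≫ V.hom) : Over S) ⟶ V) ≫ b)) :=
      isIso_snd_of_generic f hX hY hf b (pV.left t) hvgen _ _ sqR
    let c : (yon S).obj Q ⟶ pullback f.hom
        ((yon S).map (Over.homMk (V.left.fromSpecStalk (pV.left t)) rfl :
        (Over.mk (V.left.fromSpecStalk (pV.left t) ≫ V.hom) : Over S) ⟶ V) ≫ b) :=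
      pullback.lift (((yon S).map pr1 ≫ (yon S).map pU) ≫ a) ((yon S).map pr2) (by
        rw [Category.assoc]; exact hbigQ.w)
    have hc1 : c ≫ pullback.fst _ _ = ((yon S).map pr1 ≫ (yon S).map pU) ≫ a :=
      pullback.lift_fst _ _ _
    have hc2 : c ≫ pullback.snd _ _ = (yon S).map pr2 := pullback.lift_snd _ _ _
    have hcsq : IsPullback c ((yon S).map pr1 ≫ (yon S).map pU) (pullback.fst _ _) a := by
      refine IsPullback.of_right ?_ hc1 sqR.flip
      rw [hc2]
      exact hbigQ.flip
    have hco : RepWith @IsOpenImmersion c :=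
      MorphismProperty.of_isPullback (P := RepWith (S := S) @IsOpenImmersion) hcsq.flip ha
    have hcsurj : Function.Surjective (Points.map c) := by
      intro ρ
      obtain ⟨z, hz⟩ := (Points.schemeHomeo _).surjective (Points.map (pullback.snd _ _) ρ)
      have hsp : V.left.fromSpecStalk (pV.left t) z ⤳ pV.left t := by
        have : V.left.fromSpecStalk (pV.left t) z ∈ Set.range (V.left.fromSpecStalk (pV.left t)) :=
          ⟨z, rfl⟩
        rw [Scheme.range_fromSpecStalk] at this
        exact this
      have he : Points.ofPt b (pV.left t) = Points.ofPt b (V.left.fromSpecStalk (pV.left t) z) :=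
        (eq_of_specializes_genericPoints hvgen (hsp.map (Points.continuous_ofPt b))).symm
      have hzv : pV.left t = V.left.fromSpecStalk (pV.left t) z :=
        eq_of_specializes_of_isDecent hY b hb _ _ he hsp
      obtain ⟨q, hq1, hq2⟩ := Scheme.Pullback.exists_preimage_pullback
        (f := pV.left) (g := V.left.fromSpecStalk (pV.left t)) t z hzv
      refine ⟨Points.ofScheme Q q, ?_⟩
      apply points_map_injective_of_mono (pullback.snd f.hom
        ((yon S).map (Over.homMk (V.left.fromSpecStalk (pV.left t)) rfl :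
        (Over.mk (V.left.fromSpecStalk (pV.left t) ≫ V.hom) : Over S) ⟶ V) ≫ b))
      rw [← Points.map_comp, hc2, ← hz, ← Points.ofPt_eq_map_ofScheme, ofPt_yon_map']
      congr 1
    haveI : IsIso c := isIso_of_isOpenImmersion_of_points_surjective hco hcsurj
    haveI : IsIso ((yon S).map pr2) := by rw [← hc2]; infer_instance
    haveI : IsIso pr2 := isIso_of_fully_faithful (yon S) pr2
    haveI : IsIso (pullback.snd pV.left (V.left.fromSpecStalk (pV.left t))) :=
      (inferInstance : IsIso ((Over.forget S).map pr2))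
    exact isIso_stalkMap_of_isIso_pullback_snd pV.left t

/-- S10437. -/
theorem S10437_main {X Y : AlgSp.Space S} (f : X ⟶ Y)
    (hX : AlgSp.IsDecent X.obj) (hY : AlgSp.IsDecent Y.obj)
    (hYf : (irreducibleComponents (AlgSp.Points Y.obj)).Finite)
    (hf : W4stk3decentspacesp2.IsBirational f.hom) {V : Over S} [IsAffine V.left]
    (b : (AlgSp.yon S).obj V ⟶ Y.obj)
    (hb : AlgSp.RepWith @Etale b) {P : AlgSp.Sp S} (fst : P ⟶ X.obj)
    (snd : P ⟶ (AlgSp.yon S).obj V)
    (hP : IsPullback fst snd f.hom b) :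
    AlgSp.IsDecent P ∧ (irreducibleComponents (AlgSp.Points P)).Finite ∧
      (irreducibleComponents (AlgSp.Points ((AlgSp.yon S).obj V))).Finite ∧
      W4stk3decentspacesp2.IsBirational snd := by
  have hVa : IsAlgSpace ((yon S).obj V) := IsAlgSpace.yon_obj V
  have hVd : IsDecent ((yon S).obj V) := Groth.Agent.H3.Decent.isDecent_yon V
  have hPa : IsAlgSpace P := isAlgSpace_pullback Y.property.diag X.property hVa hP
  have hPd : IsDecent P := isDecent_of_isPullback Y.property hP hX hVd
  haveI : QuasiSober (Points P) := Groth.Agent.H3.Decent.quasiSober_points_of_isDecent hPa hPd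
  haveI : QuasiSober (Points ((yon S).obj V)) :=
    Groth.Agent.H3.Decent.quasiSober_points_of_isDecent hVa hVd
  have hVfin := finite_genericPoints_yon Y.property hY hYf b hb
  have hbij := bijOn_snd f hX hY hf b hb fst snd hP hPa hPd
  have hPfin : (genericPoints (Points P)).Finite :=
    Set.Finite.of_finite_image (hbij.image_eq.symm ▸ hVfin) hbij.injOn
  exact ⟨hPd, finite_irreducibleComponents_of_finite_genericPoints hPfin,
    finite_irreducibleComponents_of_finite_genericPoints hVfin,
    ⟨hbij, fun p hp => stalkIso_snd f hX hY hf b hb fst snd hP hPa hPd p hp⟩⟩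

end Groth.Agent.H7.BiratFib
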