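import Groth.Agent.Lib.Helper7.EtFibF
import Groth.Agent.Lib.Helper8.Brnch.EtaleCountSch
import Groth.Agent.S9752
import Groth.Agent.Lib.Helper3.AlgSpProp.MinPrimesFlat
import Groth.Agent.S9753
import Mathlib

/-! S9754, S9755: branch counts of fibres through étale neighbourhoods of the total space. -/
set_option autoImplicit false
open CategoryTheory Limits AlgebraicGeometry
universe u

namespace Groth.Agent.H7.BrFib

open Groth.Agent.H7.EtFib

section
variable {U X S : Scheme.{u}} (g : U ⟶ X) (f : X ⟶ S) (s : S)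

lemma fiberMap_fiberι : MoreMor.fiberMap g f s ≫ f.fiberι s = (g ≫ f).fiberι s ≫ g :=
  pullback.lift_fst _ _ _

lemma isPullback_fiberMap :
    IsPullback (MoreMor.fiberMap g f s) ((g ≫ f).fiberι s) (f.fiberι s) g := by
  have hF2 : MoreMor.fiberMap g f s ≫ f.fiberToSpecResidueField s
      = (g ≫ f).fiberToSpecResidueField s := pullback.lift_snd _ _ _
  refine IsPullback.of_right (h₁₂ := f.fiberToSpecResidueField s)
    (v₁₃ := S.fromSpecResidueField s) (h₂₂ := f) ?_ (fiberMap_fiberι g f s) ?_
  · rw [hF2]
    exact (IsPullback.of_hasPullback (g ≫ f) (S.fromSpecResidueField s)).flip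
  · exact (IsPullback.of_hasPullback f (S.fromSpecResidueField s)).flip

instance [Etale g] : Etale (MoreMor.fiberMap g f s) :=
  MorphismProperty.of_isPullback (P := @Etale) (isPullback_fiberMap g f s).flip inferInstance

lemma fiberι_injective : Function.Injective (f.fiberι s) :=
  (f.fiberι s).isEmbedding.injective

end

/-- surjectivity of the residue field map of a morphism surjective on stalks. -/
lemma residueFieldMap_surjective_of_surjectiveOnStalks {X Y : Scheme.{u}} (f : X ⟶ Y)
    [SurjectiveOnStalks f] (x : X) : Function.Surjective (f.residueFieldMap x) := by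
  have h1 := Scheme.residue_residueFieldMap f x
  have h2 : Function.Surjective (f.stalkMap x ≫ X.residue x) :=
    (X.residue_surjective x).comp (f.stalkMap_surjective x)
  rw [← h1] at h2
  exact Function.Surjective.of_comp (g := Y.residue (f x)) h2

/-- the count of irreducible components through a point is invariant under open immersions. -/
lemma encard_components_openImmersion {P V : Scheme.{u}} (m : P ⟶ V) [IsOpenImmersion m] (u' : P) :
    {Z : Set P | Z ∈ irreducibleComponents P ∧ u' ∈ Z}.encard =
      {Z : Set V | Z ∈ irreducibleComponents V ∧ m u' ∈ Z}.encard := by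
  rw [Groth.Agent.H8.Brnch.encard_components_eq, Groth.Agent.H8.Brnch.encard_components_eq]
  let e : V.presheaf.stalk (m u') ≃+* P.presheaf.stalk u' :=
    (asIso (m.stalkMap u')).commRingCatIsoToRingEquiv
  have := Groth.Agent.H3.MinPrimesFlat.encard_minimalPrimes_of_ringEquiv e
  exact this.symm

/-- the count appearing in S9754/S9755, when the point `u'` over `u` is known. -/
lemma count_eq {U X S : Scheme.{u}} (g : U ⟶ X) (f : X ⟶ S) (s : S) (u' : ↑((g ≫ f).fiber s)) :
    {Z : Set ↑((g ≫ f).fiber s) | Z ∈ irreducibleComponents ↑((g ≫ f).fiber s) ∧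
        ∃ u'' ∈ Z, (g ≫ f).fiberι s u'' = (g ≫ f).fiberι s u'} =
    {Z : Set ↑((g ≫ f).fiber s) | Z ∈ irreducibleComponents ↑((g ≫ f).fiber s) ∧ u' ∈ Z} := by
  ext Z
  constructor
  · rintro ⟨hZ, u'', hu'', h⟩
    rw [fiberι_injective (g ≫ f) s h] at hu''
    exact ⟨hZ, hu''⟩
  · rintro ⟨hZ, h⟩
    exact ⟨hZ, u', h, rfl⟩

lemma count_eq_zero {U X S : Scheme.{u}} (g : U ⟶ X) (f : X ⟶ S) (s : S) (u : U)
    (h : ¬ ∃ u' : ↑((g ≫ f).fiber s), (g ≫ f).fiberι s u' = u) :
    {Z : Set ↑((g ≫ f).fiber s) | Z ∈ irreducibleComponents ↑((g ≫ f).fiber s) ∧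
        ∃ u'' ∈ Z, (g ≫ f).fiberι s u'' = u} = ∅ := by
  ext Z
  simp only [Set.mem_setOf_eq, Set.mem_empty_iff_false, iff_false, not_and]
  rintro - ⟨u'', -, h'⟩
  exact h ⟨u'', h'⟩

theorem S9754_main {X S : Scheme.{u}} (f : X ⟶ S) (x : X) :
    Brnch.numGeomBranchesAt (f.fiber (f x)) (f.asFiber x) =
      ⨆ (U : Scheme.{u}) (g : U ⟶ X) (u : U) (_ : Etale g ∧ g u = x),
      {Z : Set ↑((g ≫ f).fiber (f x)) | Z ∈ irreducibleComponents ↑((g ≫ f).fiber (f x)) ∧
        ∃ u' ∈ Z, (g ≫ f).fiberι (f x) u' = u}.encard := by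
  apply le_antisymm
  · rw [Groth.Agent.S9753.result (f.fiber (f x)) (f.asFiber x)]
    refine iSup_le fun V => iSup_le fun g' => iSup_le fun v => iSup_le fun h => ?_
    obtain ⟨hg', hv⟩ := h
    obtain ⟨U, p, u, m, u', hp, hpu, hm, hmg, hu', hmu⟩ := S9727_main f x g' v hv
    subst hu' hmu
    rw [← encard_components_openImmersion m u', ← count_eq p f (f x) u']
    exact le_iSup_of_le U (le_iSup_of_le p (le_iSup_of_le _ (le_iSup_of_le ⟨hp, hpu⟩ le_rfl)))
  · refine iSup_le fun U => iSup_le fun g => iSup_le fun u => iSup_le fun h => ?_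
    obtain ⟨hg, hgu⟩ := h
    by_cases hex : ∃ u' : ↑((g ≫ f).fiber (f x)), (g ≫ f).fiberι (f x) u' = u
    · obtain ⟨u', rfl⟩ := hex
      rw [count_eq g f (f x) u', Groth.Agent.H8.Brnch.encard_components_eq]
      have h1 : MoreMor.fiberMap g f (f x) u' = f.asFiber x := by
        apply fiberι_injective f (f x)
        rw [f.fiberι_asFiber x]
        have := congr_arg (fun q => (q : _ ⟶ X) u') (fiberMap_fiberι g f (f x))
        simp only [Scheme.Hom.comp_apply] at this
        exact this.trans hgu
      have h2 := Groth.Agent.H8.Brnch.numGeomBranchesAt_eq_of_etale (MoreMor.fiberMap g f (f x)) u'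
      rw [h1] at h2
      rw [← h2]
      exact Groth.Agent.H8.Brnch.card_minimalPrimes_le_numGeomBranches _
    · rw [count_eq_zero g f (f x) u hex]
      simp

theorem S9755_main {X S : Scheme.{u}} (f : X ⟶ S) (x : X) :
    Brnch.numBranchesAt (f.fiber (f x)) (f.asFiber x) =
      ⨆ (U : Scheme.{u}) (g : U ⟶ X) (u : U) (_ : Hens2.IsEtaleNbhd g u x),
      {Z : Set ↑((g ≫ f).fiber (f x)) | Z ∈ irreducibleComponents ↑((g ≫ f).fiber (f x)) ∧
        ∃ u' ∈ Z, (g ≫ f).fiberι (f x) u' = u}.encard := by
  apply le_antisymm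
  · rw [Groth.Agent.S9752.result (f.fiber (f x)) (f.asFiber x)]
    refine iSup_le fun V => iSup_le fun g' => iSup_le fun v => iSup_le fun h => ?_
    obtain ⟨hg', hv, hres⟩ := h
    obtain ⟨U, p, u, m, u', hp, hpu, hm, hmg, hu', hmu⟩ := S9727_main f x g' v hv
    subst hu' hmu
    -- the residue field condition
    have hN : Hens2.IsEtaleNbhd p ((p ≫ f).fiberι (f x) u') x := by
      refine ⟨hp, hpu, (p.residueFieldMap _).hom.injective, ?_⟩
      have e1 : (p ≫ f).fiberι (f x) ≫ p = m ≫ g' ≫ f.fiberι (f x) := by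
        rw [← fiberMap_fiberι p f (f x), ← hmg, Category.assoc]
      have s1 : Function.Surjective ((m ≫ g' ≫ f.fiberι (f x)).residueFieldMap u') := by
        rw [Scheme.residueFieldMap_comp, Scheme.residueFieldMap_comp]
        have a1 : Function.Surjective (m.residueFieldMap u') :=
          (ConcreteCategory.bijective_of_isIso _).2
        have a2 : Function.Surjective (g'.residueFieldMap (m u')) := hres.2
        have a3 : Function.Surjective ((f.fiberι (f x)).residueFieldMap (g' (m u'))) :=
          residueFieldMap_surjective_of_surjectiveOnStalks _ _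
        exact a1.comp (a2.comp a3)
      have s2 : Function.Surjective (((p ≫ f).fiberι (f x) ≫ p).residueFieldMap u') := e1 ▸ s1
      rw [Scheme.residueFieldMap_comp] at s2
      exact Function.Surjective.of_comp_left s2
        (((p ≫ f).fiberι (f x)).residueFieldMap u').hom.injective
    rw [← encard_components_openImmersion m u', ← count_eq p f (f x) u']
    exact le_iSup_of_le U (le_iSup_of_le p (le_iSup_of_le _ (le_iSup_of_le hN le_rfl)))
  · refine iSup_le fun U => iSup_le fun g => iSup_le fun u => iSup_le fun h => ?_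
    obtain ⟨hg, hgu, hres⟩ := h
    by_cases hex : ∃ u' : ↑((g ≫ f).fiber (f x)), (g ≫ f).fiberι (f x) u' = u
    · obtain ⟨u', rfl⟩ := hex
      rw [count_eq g f (f x) u', Groth.Agent.H8.Brnch.encard_components_eq]
      have h1 : MoreMor.fiberMap g f (f x) u' = f.asFiber x := by
        apply fiberι_injective f (f x)
        rw [f.fiberι_asFiber x]
        have := congr_arg (fun q => (q : _ ⟶ X) u') (fiberMap_fiberι g f (f x))
        simp only [Scheme.Hom.comp_apply] at this
        exact this.trans hgu
      have hsurj : Function.Surjective ((MoreMor.fiberMap g f (f x)).residueFieldMap u') := by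
        have s1 : Function.Surjective (((g ≫ f).fiberι (f x) ≫ g).residueFieldMap u') := by
          rw [Scheme.residueFieldMap_comp]
          have a1 : Function.Surjective (((g ≫ f).fiberι (f x)).residueFieldMap u') :=
            residueFieldMap_surjective_of_surjectiveOnStalks _ _
          exact a1.comp hres.2
        have s2 : Function.Surjective
            ((MoreMor.fiberMap g f (f x) ≫ f.fiberι (f x)).residueFieldMap u') :=
          (fiberMap_fiberι g f (f x)) ▸ s1
        rw [Scheme.residueFieldMap_comp] at s2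
        exact Function.Surjective.of_comp s2
      have h2 := Groth.Agent.H8.Brnch.numBranchesAt_eq_of_etaleNbhd
        (MoreMor.fiberMap g f (f x)) u' hsurj
      rw [h1] at h2
      rw [← h2]
      exact Groth.Agent.H8.Brnch.card_minimalPrimes_le_numBranches _
    · rw [count_eq_zero g f (f x) u hex]
      simp

end Groth.Agent.H7.BrFib
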