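import Mathlib
import Groth.Agent.Lib.Helper7.CSA8
import Groth.Agent.Lib.Helper7.AzCH

/-! Descent of a central division algebra over a separable algebraic extension to a finite
subextension, and triviality of Brauer groups over separable algebraic extensions. -/

set_option autoImplicit false
open scoped TensorProduct

namespace Groth.Agent.H7.BrSep

universe u

section Descent

variable (K : Type u) (L : Type u) [Field K] [Field L] [Algebra K L] [Algebra.IsAlgebraic K L]
  (D : Type u) [DivisionRing D] [Algebra L D] [Algebra.IsCentral L D] [FiniteDimensional L D]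

theorem exists_model : ∃ (E : IntermediateField K L) (_ : FiniteDimensional K E)
    (D₀ : Subalgebra E D), Algebra.IsCentral E D₀ ∧ FiniteDimensional E D₀ ∧
      ∀ x : D, ∃ (m : ℕ) (f : Fin m → L) (d : Fin m → D₀), x = ∑ i, f i • (d i : D) := by
  classical
  set m := Module.finrank L D with hm
  let b : Module.Basis (Fin m) L D := Module.finBasis L D
  let c : Fin m → Fin m → Fin m → L := fun i j l => b.repr (b i * b j) l
  let u : Fin m → L := fun l => b.repr 1 l
  let T : Set L := Set.range (fun t : Fin m × Fin m × Fin m => c t.1 t.2.1 t.2.2) ∪ Set.range u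
  have hTfin : T.Finite := (Set.finite_range _).union (Set.finite_range _)
  haveI : Finite T := hTfin.to_subtype
  let E : IntermediateField K L := IntermediateField.adjoin K T
  have hEfin : FiniteDimensional K E :=
    IntermediateField.finiteDimensional_adjoin (fun x _ => Algebra.IsIntegral.isIntegral x)
  have hc : ∀ i j l, c i j l ∈ E := fun i j l =>
    IntermediateField.subset_adjoin K T (Or.inl ⟨(i, j, l), rfl⟩)
  have hu : ∀ l, u l ∈ E := fun l => IntermediateField.subset_adjoin K T (Or.inr ⟨l, rfl⟩)
  have hsmul : ∀ (e : E) (x : D), e • x = (e : L) • x := fun e x => rfl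
  let P : Submodule E D := Submodule.span E (Set.range b)
  have hbP : ∀ i, b i ∈ P := fun i => Submodule.subset_span ⟨i, rfl⟩
  have hsumP : ∀ (f : Fin m → L), (∀ l, f l ∈ E) → ∑ l, f l • b l ∈ P := by
    intro f hf
    refine Submodule.sum_mem _ fun l _ => ?_
    have := P.smul_mem (⟨f l, hf l⟩ : E) (hbP l)
    rwa [hsmul] at this
  have h_one : (1 : D) ∈ P := by
    have h1 : (1 : D) = ∑ l, u l • b l := (b.sum_repr 1).symm
    rw [h1]
    exact hsumP u hu
  have h_mul : P * P ≤ P := by
    rw [Submodule.span_mul_span, Submodule.span_le]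
    rintro _ ⟨_, ⟨i, rfl⟩, _, ⟨j, rfl⟩, rfl⟩
    show b i * b j ∈ P
    have h1 : b i * b j = ∑ l, c i j l • b l := (b.sum_repr (b i * b j)).symm
    rw [h1]
    exact hsumP (c i j) (hc i j)
  let D₀ : Subalgebra E D := Submodule.toSubalgebra P h_one
    (fun x y hx hy => h_mul (Submodule.mul_mem_mul hx hy))
  have hD₀ : ∀ x : D, x ∈ D₀ ↔ x ∈ P := fun x => Iff.rfl
  refine ⟨E, hEfin, D₀, ?_, ?_, ?_⟩
  · -- centrality
    constructor
    intro z hz
    rw [Subalgebra.mem_center_iff] at hz
    have hzb : ∀ i, b i * (z : D) = (z : D) * b i := by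
      intro i
      have := hz ⟨b i, (hD₀ _).mpr (hbP i)⟩
      exact congrArg Subtype.val this
    have hzc : (z : D) ∈ Subalgebra.center L D := by
      rw [Subalgebra.mem_center_iff]
      intro x
      rw [← b.sum_repr x, Finset.sum_mul, Finset.mul_sum]
      refine Finset.sum_congr rfl fun i _ => ?_
      rw [smul_mul_assoc, mul_smul_comm, hzb i]
    obtain ⟨f, hf⟩ := (Algebra.IsCentral.mem_center_iff L).mp hzc
    have hzP : (z : D) ∈ P := (hD₀ _).mp z.2
    obtain ⟨e, he⟩ := (Submodule.mem_span_range_iff_exists_fun E).mp hzP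
    have hcoef : ∀ l, ((e l : E) : L) = f * u l := by
      have h1 : (z : D) = ∑ l, ((e l : E) : L) • b l := by
        rw [← he]
        exact Finset.sum_congr rfl fun l _ => hsmul _ _
      have h2 : (z : D) = ∑ l, (f * u l) • b l := by
        rw [hf, Algebra.algebraMap_eq_smul_one]
        conv_lhs => rw [← b.sum_repr 1]
        rw [Finset.smul_sum]
        exact Finset.sum_congr rfl fun l _ => by rw [smul_smul]
      have h3 : (fun l => ((e l : E) : L)) = fun l => f * u l := by
        rw [← b.repr_sum_self (fun l => ((e l : E) : L)), ← b.repr_sum_self (fun l => f * u l),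
          ← h1, ← h2]
      exact fun l => congrFun h3 l
    obtain ⟨l₀, hl₀⟩ : ∃ l, u l ≠ 0 := by
      by_contra hcon
      push Not at hcon
      have h1 : (1 : D) = ∑ l, u l • b l := (b.sum_repr 1).symm
      rw [Finset.sum_eq_zero (fun l _ => by rw [hcon l, zero_smul])] at h1
      exact one_ne_zero h1
    have hfE : f ∈ E := by
      have : f = ((e l₀ : E) : L) * (u l₀)⁻¹ := by
        rw [hcoef l₀, mul_assoc, mul_inv_cancel₀ hl₀, mul_one]
      rw [this]
      exact E.mul_mem (e l₀).2 (E.inv_mem (hu l₀))
    rw [Algebra.mem_bot]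
    refine ⟨⟨f, hfE⟩, ?_⟩
    apply Subtype.ext
    rw [Subalgebra.coe_algebraMap, hf]
    rfl
  · -- finiteness
    have h1 : Module.Finite E P := Module.Finite.span_of_finite E (Set.finite_range b)
    have h2 : Subalgebra.toSubmodule D₀ = P := Submodule.toSubalgebra_toSubmodule _ _ _
    rw [← h2] at h1
    exact Subalgebra.finiteDimensional_toSubmodule.mp h1
  · intro x
    refine ⟨m, fun i => b.repr x i, fun i => ⟨b i, (hD₀ _).mpr (hbP i)⟩, ?_⟩
    exact (b.sum_repr x).symm

end Descent

section Main

variable (K F : Type u) [Field K] [Field F] [Algebra K F] [Algebra.IsSeparable K F]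

/-- (a): all finite separable extensions of `F` have trivial Brauer group. -/
def CondA (F : Type u) [Field F] : Prop :=
  ∀ (F' : Type u) [Field F'] [Algebra F F'] [FiniteDimensional F F'] [Algebra.IsSeparable F F']
    (D : Type u) [DivisionRing D] [Algebra F' D] [Algebra.IsCentral F' D] [FiniteDimensional F' D],
    Module.finrank F' D = 1

/-- (b): every class over a finite separable `E / K` dies in any field containing `E` and `F`. -/
def CondB : Prop :=
  ∀ (E : Type u) [Field E] [Algebra K E] [FiniteDimensional K E] [Algebra.IsSeparable K E]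
    (D : Type u) [DivisionRing D] [Algebra E D] [Algebra.IsCentral E D] [FiniteDimensional E D]
    (M : Type u) [Field M] [Algebra K M] [Algebra E M] [Algebra F M] [IsScalarTower K E M]
    [IsScalarTower K F M],
    ∃ n : ℕ, Nonempty ((M ⊗[E] D) ≃ₐ[M] Matrix (Fin n) (Fin n) M)

theorem condA_of_condB (hb : CondB K F) : CondA F := by
  intro F' _ _ _ _ D _ _ _ _
  letI : Algebra K F' := ((algebraMap F F').comp (algebraMap K F)).toAlgebra
  haveI : IsScalarTower K F F' := IsScalarTower.of_algebraMap_eq (fun x => rfl)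
  haveI : Algebra.IsSeparable K F' := Algebra.IsSeparable.trans K F F'
  haveI : Algebra.IsAlgebraic K F' := Algebra.IsSeparable.isAlgebraic K F'
  obtain ⟨E, hEfin, D₀, hcen, hfin, hspan⟩ := exists_model K F' D
  haveI : Algebra.IsSeparable K E := Algebra.isSeparable_tower_bot_of_isSeparable K E F'
  letI : DivisionRing D₀ := divisionRingOfFiniteDimensional E D₀
  obtain ⟨n, ⟨e⟩⟩ := hb E D₀ F'
  haveI : IsSimpleRing (F' ⊗[E] D₀) := Groth.Agent.H7.CSA.isSimpleRing_tensor E F' D₀
  let μ : F' ⊗[E] D₀ →ₐ[F'] D :=
    Algebra.TensorProduct.lift (Algebra.ofId F' D) D₀.val (fun x y => Algebra.commutes x _)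
  have hμ : ∀ (f : F') (d : D₀), μ (f ⊗ₜ d) = f • (d : D) := by
    intro f d
    simp only [μ, Algebra.TensorProduct.lift_tmul, Algebra.ofId_apply, Subalgebra.coe_val]
    rw [Algebra.smul_def]
  have hinj : Function.Injective μ := μ.toRingHom.injective
  have hsurj : Function.Surjective μ := by
    intro x
    obtain ⟨m, f, d, rfl⟩ := hspan x
    refine ⟨∑ i, f i ⊗ₜ d i, ?_⟩
    rw [map_sum]
    exact Finset.sum_congr rfl fun i _ => hμ _ _
  let g : D ≃ₐ[F'] Matrix (Fin n) (Fin n) F' :=
    (AlgEquiv.ofBijective μ ⟨hinj, hsurj⟩).symm.trans e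
  have hn0 : n ≠ 0 := by
    rintro rfl
    have : (1 : D) = 0 := g.injective (Subsingleton.elim _ _)
    exact one_ne_zero this
  have hn2 : n < 2 := by
    by_contra hcon
    push Not at hcon
    let i₀ : Fin n := ⟨0, by omega⟩
    let i₁ : Fin n := ⟨1, by omega⟩
    have hne : i₀ ≠ i₁ := by
      intro h
      have := congrArg Fin.val h
      simp [i₀, i₁] at this
    have h1 : g.symm (Matrix.single i₀ i₀ 1) * g.symm (Matrix.single i₁ i₁ 1) = 0 := by
      rw [← map_mul, Matrix.single_mul_single_of_ne _ _ _ _ hne, map_zero]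
    have h2 : ∀ i : Fin n, g.symm (Matrix.single i i (1 : F')) ≠ 0 := by
      intro i h
      have h3 : Matrix.single i i (1 : F') = 0 := by
        have := congrArg g h
        rwa [AlgEquiv.apply_symm_apply, map_zero] at this
      have := congrFun (congrFun h3 i) i
      simp at this
    rcases mul_eq_zero.mp h1 with h | h
    · exact h2 _ h
    · exact h2 _ h
  have hn1 : n = 1 := by omega
  subst hn1
  rw [g.toLinearEquiv.finrank_eq, Module.finrank_matrix]
  simp

theorem condB_of_condA (ha : CondA F) : CondB K F := by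
  intro E _ _ _ _ D _ _ _ _ M _ _ _ _ _ _
  classical
  let bE := Module.finBasis K E
  let S₀ : Set M := Set.range (fun i => algebraMap E M (bE i))
  haveI : Finite S₀ := (Set.finite_range _).to_subtype
  let F' : IntermediateField F M := IntermediateField.adjoin F S₀
  have hint : ∀ x : E, IsIntegral F (algebraMap E M x) := by
    intro x
    have h1 : IsIntegral K x := Algebra.IsIntegral.isIntegral x
    have h2 : IsIntegral K (algebraMap E M x) := h1.map (IsScalarTower.toAlgHom K E M)
    exact h2.tower_top
  have hsep : ∀ x : E, IsSeparable F (algebraMap E M x) := by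
    intro x
    have h1 : IsSeparable K x := Algebra.IsSeparable.isSeparable K x
    have h2 : IsSeparable K (algebraMap E M x) :=
      h1.map (IsScalarTower.toAlgHom K E M) (algebraMap E M).injective
    exact h2.tower_top F
  haveI : FiniteDimensional F F' :=
    IntermediateField.finiteDimensional_adjoin (by rintro _ ⟨i, rfl⟩; exact hint _)
  haveI : Algebra.IsSeparable F F' :=
    (IntermediateField.isSeparable_adjoin_iff_isSeparable F M).mpr (by rintro _ ⟨i, rfl⟩; exact hsep _)
  have hE : ∀ x : E, algebraMap E M x ∈ F' := by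
    intro x
    rw [← bE.sum_repr x, map_sum]
    refine F'.sum_mem fun i _ => ?_
    rw [Algebra.smul_def, map_mul]
    refine F'.mul_mem ?_ (IntermediateField.subset_adjoin F S₀ ⟨i, rfl⟩)
    rw [← IsScalarTower.algebraMap_apply K E M, IsScalarTower.algebraMap_apply K F M]
    exact F'.algebraMap_mem _
  letI : Algebra E F' := ((algebraMap E M).codRestrict F' hE).toAlgebra
  haveI : IsScalarTower E F' M := IsScalarTower.of_algebraMap_eq (fun x => rfl)
  haveI : IsSimpleRing (F' ⊗[E] D) := Groth.Agent.H7.CSA.isSimpleRing_tensor E F' D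
  haveI : Algebra.IsCentral F' (F' ⊗[E] D) := Groth.Agent.H7.CSA.isCentral_baseChange E D F'
  haveI : IsArtinianRing (F' ⊗[E] D) := IsArtinianRing.of_finite F' _
  obtain ⟨n, hn, D'', _, _, _, ⟨w⟩⟩ :=
    IsSimpleRing.exists_algEquiv_matrix_divisionRing_finite F' (F' ⊗[E] D)
  haveI : Algebra.IsCentral F' (Matrix (Fin n) (Fin n) D'') := by
    constructor
    intro z hz
    have h1 : w.symm z ∈ Subalgebra.center F' (F' ⊗[E] D) := by
      rw [Subalgebra.mem_center_iff] at hz ⊢
      intro y
      have := hz (w y)
      have h2 := congrArg w.symm this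
      rwa [map_mul, map_mul, AlgEquiv.symm_apply_apply] at h2
    obtain ⟨c, hc⟩ := (Algebra.IsCentral.mem_center_iff F').mp h1
    rw [Algebra.mem_bot]
    refine ⟨c, ?_⟩
    have := congrArg w hc
    rw [AlgEquiv.apply_symm_apply, AlgEquiv.commutes] at this
    exact this.symm
  haveI : Algebra.IsCentral F' D'' := Groth.Agent.H7.CSA.isCentral_of_matrix F' D'' n
  have h1 : Module.finrank F' D'' = 1 := ha F' D''
  have hbij : Function.Bijective (Algebra.ofId F' D'') := by
    have hinj : Function.Injective (Algebra.ofId F' D'') := (Algebra.ofId F' D'').toRingHom.injective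
    have hfin : Module.finrank F' F' = Module.finrank F' D'' := by rw [h1, Module.finrank_self]
    have hinj' : Function.Injective (Algebra.ofId F' D'').toLinearMap := hinj
    exact ⟨hinj, (LinearMap.injective_iff_surjective_of_finrank_eq_finrank hfin).mp hinj'⟩
  let σ : D'' ≃ₐ[F'] F' := (AlgEquiv.ofBijective (Algebra.ofId F' D'') hbij).symm
  let φ : (F' ⊗[E] D) ≃ₐ[F'] Matrix (Fin n) (Fin n) F' := w.trans σ.mapMatrix
  exact ⟨n, ⟨Groth.Agent.H7.AzCH.bc φ (IsScalarTower.toAlgHom E F' M)⟩⟩

theorem main : CondA F ↔ CondB K F := ⟨condB_of_condA K F, condA_of_condB K F⟩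

end Main

end Groth.Agent.H7.BrSep
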