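import Mathlib
import Groth.Prelude.Def_W4c2azumayainvolQEt
import Groth.Agent.Lib.Helper7.RInvB
import Groth.Agent.Lib.Helper7.RInvT1

/-! Branch locus of a ring with involution: `lam` is trivial on the reduced preimage. -/

set_option autoImplicit false
open scoped TensorProduct

namespace Groth.Agent.H7.Branch

universe u v

section A

variable (S : Type u) (R : Type v) [CommRing S] [CommRing R]
    [Algebra S R] (lam : R ≃ₐ[S] R) (hlam : ∀ r, lam (lam r) = r)
    (hfix : RInv.IsFixedRing S R lam.toRingEquiv)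

include hlam hfix in
theorem sq_mem_vanishingIdeal (W : Set (PrimeSpectrum S))
    (hW : W = {p : PrimeSpectrum S | ¬ RInv.IsQuadEtale (Localization.AtPrime p.asIdeal)
      (Localization.AtPrime p.asIdeal ⊗[S] R)}) (r : R) (s : S)
    (hs : algebraMap S R s = (r - lam r) ^ 2) : s ∈ PrimeSpectrum.vanishingIdeal W := by
  rw [PrimeSpectrum.mem_vanishingIdeal]
  intro q hq
  rw [hW] at hq
  have hram := (RInvT1.not_isQuadEtale_atPrime_iff_ramP S R lam hlam hfix q.asIdeal).mp hq
  obtain ⟨Q, hQ, hQq⟩ := RInvB.exists_prime_over lam hlam hfix q.asIdeal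
  have h1 := hram Q hQ hQq r
  have h2 : algebraMap S R s ∈ Q := by
    rw [hs]; exact Ideal.pow_mem_of_mem _ h1 2 (by norm_num)
  rw [← hQq]
  exact h2

include hlam hfix in
theorem sub_mem_of_le (W : Set (PrimeSpectrum S))
    (hW : W = {p : PrimeSpectrum S | ¬ RInv.IsQuadEtale (Localization.AtPrime p.asIdeal)
      (Localization.AtPrime p.asIdeal ⊗[S] R)}) (P : Ideal R) (hP : P.IsPrime)
    (hle : (PrimeSpectrum.vanishingIdeal W).map (algebraMap S R) ≤ P) (r : R) :
    r - lam r ∈ P := by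
  by_contra hr
  obtain ⟨s, hs⟩ := RInvB.exists_sq lam hlam hfix r
  have hsI := sq_mem_vanishingIdeal S R lam hlam hfix W hW r s hs
  have h1 : algebraMap S R s ∈ P := hle (Ideal.mem_map_of_mem _ hsI)
  rw [hs] at h1
  exact hr (hP.mem_of_pow_mem _ h1)

include hlam hfix in
theorem sub_mem_radical (W : Set (PrimeSpectrum S))
    (hW : W = {p : PrimeSpectrum S | ¬ RInv.IsQuadEtale (Localization.AtPrime p.asIdeal)
      (Localization.AtPrime p.asIdeal ⊗[S] R)}) (r : R) :
    r - lam r ∈ ((PrimeSpectrum.vanishingIdeal W).map (algebraMap S R)).radical := by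
  rw [Ideal.radical_eq_sInf, Ideal.mem_sInf]
  rintro P ⟨hle, hP⟩
  exact sub_mem_of_le S R lam hlam hfix W hW P hP hle r

end A

section C

variable (S : Type u) (R : Type v) [CommRing S] [CommRing R]
    [Algebra S R] (lam : R ≃ₐ[S] R) (hlam : ∀ r, lam (lam r) = r)
    (hfix : RInv.IsFixedRing S R lam.toRingEquiv)
    (W : Set (PrimeSpectrum S))
    (hW : W = {p : PrimeSpectrum S | ¬ RInv.IsQuadEtale (Localization.AtPrime p.asIdeal)
      (Localization.AtPrime p.asIdeal ⊗[S] R)})
    (J : Ideal R) (hJ : J = ((PrimeSpectrum.vanishingIdeal W).map (algebraMap S R)).radical)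
    (hIJ : PrimeSpectrum.vanishingIdeal W ≤ J.comap (algebraMap S R))

include hlam hfix in
theorem quotientMap_isIntegral :
    (Ideal.quotientMap J (algebraMap S R) hIJ).IsIntegral := by
  haveI := RInvB.isIntegral lam hlam hfix
  rintro ⟨x⟩
  obtain ⟨p, p_monic, hpx⟩ := Algebra.IsIntegral.isIntegral (R := S) x
  refine ⟨p.map (Ideal.Quotient.mk _), p_monic.map _, ?_⟩
  simpa only [Polynomial.hom_eval₂, Polynomial.eval₂_map] using!
    congr_arg (Ideal.Quotient.mk J) hpx

include hJ in
theorem J_le_of_le (P : Ideal R) (hP : P.IsPrime)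
    (h : PrimeSpectrum.vanishingIdeal W ≤ P.comap (algebraMap S R)) : J ≤ P := by
  rw [hJ]
  exact (hP.isRadical.radical_le_iff).mpr (Ideal.map_le_iff_le_comap.mpr h)

include hlam hfix hW hJ in
theorem sub_mem_J (r : R) : r - lam r ∈ J := by
  rw [hJ]; exact sub_mem_radical S R lam hlam hfix W hW r

theorem quotientMap_mk (s : S) :
    Ideal.quotientMap J (algebraMap S R) hIJ (Ideal.Quotient.mk _ s) =
      Ideal.Quotient.mk J (algebraMap S R s) := rfl

include hlam hfix hW hJ in
theorem comap_injective :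
    Function.Injective (PrimeSpectrum.comap (Ideal.quotientMap J (algebraMap S R) hIJ)) := by
  intro P₁ P₂ h
  have hS : ∀ s : S, Ideal.Quotient.mk J (algebraMap S R s) ∈ P₁.asIdeal ↔
      Ideal.Quotient.mk J (algebraMap S R s) ∈ P₂.asIdeal := by
    intro s
    have h1 := congrArg (fun P => Ideal.Quotient.mk (PrimeSpectrum.vanishingIdeal W) s ∈ P.asIdeal) h
    simp only [PrimeSpectrum.comap_asIdeal, Ideal.mem_comap, quotientMap_mk] at h1
    exact Iff.of_eq h1
  have key : ∀ (P₁ P₂ : PrimeSpectrum (R ⧸ J)),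
      (∀ s : S, Ideal.Quotient.mk J (algebraMap S R s) ∈ P₁.asIdeal →
        Ideal.Quotient.mk J (algebraMap S R s) ∈ P₂.asIdeal) →
      ∀ x : R, Ideal.Quotient.mk J x ∈ P₁.asIdeal → Ideal.Quotient.mk J x ∈ P₂.asIdeal := by
    intro P₁ P₂ hs x hx
    obtain ⟨m, hm⟩ := RInvB.exists_nm lam hlam hfix x
    have h1 : Ideal.Quotient.mk J (algebraMap S R m) ∈ P₁.asIdeal := by
      rw [hm, map_mul]; exact P₁.asIdeal.mul_mem_right _ hx
    have h2 := hs m h1
    rw [hm, map_mul] at h2
    rcases P₂.isPrime.mem_or_mem h2 with h3 | h3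
    · exact h3
    · have h4 : Ideal.Quotient.mk J x = Ideal.Quotient.mk J (lam x) := by
        rw [Ideal.Quotient.eq]; exact sub_mem_J S R lam hlam hfix W hW J hJ x
      rw [h4]; exact h3
  apply PrimeSpectrum.ext
  apply le_antisymm
  · intro y hy
    obtain ⟨x, rfl⟩ := Ideal.Quotient.mk_surjective y
    exact key P₁ P₂ (fun s => (hS s).mp) x hy
  · intro y hy
    obtain ⟨x, rfl⟩ := Ideal.Quotient.mk_surjective y
    exact key P₂ P₁ (fun s => (hS s).mpr) x hy

include hlam hfix hJ in
theorem comap_surjective :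
    Function.Surjective (PrimeSpectrum.comap (Ideal.quotientMap J (algebraMap S R) hIJ)) := by
  intro pbar
  let p : Ideal S := pbar.asIdeal.comap (Ideal.Quotient.mk (PrimeSpectrum.vanishingIdeal W))
  haveI : p.IsPrime := Ideal.comap_isPrime _ _
  obtain ⟨P, hP, hPp⟩ := RInvB.exists_prime_over lam hlam hfix p
  have hIp : PrimeSpectrum.vanishingIdeal W ≤ p := by
    intro s hs
    show Ideal.Quotient.mk _ s ∈ pbar.asIdeal
    rw [Ideal.Quotient.eq_zero_iff_mem.mpr hs]; exact Ideal.zero_mem _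
  have hJP : J ≤ P := J_le_of_le S R W J hJ P hP (hPp ▸ hIp)
  have hmem : (⟨P, hP⟩ : PrimeSpectrum R) ∈ Set.range (PrimeSpectrum.comap (Ideal.Quotient.mk J)) := by
    rw [range_comap_of_surjective _ _ Ideal.Quotient.mk_surjective,
      Ideal.mk_ker]
    exact hJP
  obtain ⟨Pbar, hPbar⟩ := hmem
  refine ⟨Pbar, ?_⟩
  apply PrimeSpectrum.ext
  ext t
  obtain ⟨s, rfl⟩ := Ideal.Quotient.mk_surjective t
  rw [PrimeSpectrum.comap_asIdeal, Ideal.mem_comap, quotientMap_mk]
  have h1 : Ideal.Quotient.mk J (algebraMap S R s) ∈ Pbar.asIdeal ↔ algebraMap S R s ∈ P := by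
    have := congrArg (fun Q : PrimeSpectrum R => algebraMap S R s ∈ Q.asIdeal) hPbar
    simp only [PrimeSpectrum.comap_asIdeal, Ideal.mem_comap] at this
    exact Iff.of_eq this
  rw [h1]
  show s ∈ P.comap (algebraMap S R) ↔ s ∈ p
  rw [hPp]

include hlam hfix hW hJ in
theorem isHomeomorph_comap :
    IsHomeomorph (PrimeSpectrum.comap (Ideal.quotientMap J (algebraMap S R) hIJ)) := by
  rw [isHomeomorph_iff_continuous_isClosedMap_bijective]
  refine ⟨PrimeSpectrum.continuous_comap _, ?_, ?_, ?_⟩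
  · exact PrimeSpectrum.isClosedMap_comap_of_isIntegral _
      (quotientMap_isIntegral S R lam hlam hfix W J hIJ)
  · exact comap_injective S R lam hlam hfix W hW J hJ hIJ
  · exact comap_surjective S R lam hlam hfix W J hJ hIJ

include hlam hfix hJ in
theorem quotientMap_injective :
    Function.Injective (Ideal.quotientMap J (algebraMap S R) hIJ) := by
  rw [injective_iff_map_eq_zero]
  intro t ht
  obtain ⟨s, rfl⟩ := Ideal.Quotient.mk_surjective t
  rw [quotientMap_mk, Ideal.Quotient.eq_zero_iff_mem] at ht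
  rw [Ideal.Quotient.eq_zero_iff_mem, PrimeSpectrum.mem_vanishingIdeal]
  intro q hq
  obtain ⟨Q, hQ, hQq⟩ := RInvB.exists_prime_over lam hlam hfix q.asIdeal
  have hIq : PrimeSpectrum.vanishingIdeal W ≤ q.asIdeal := by
    intro x hx
    exact (PrimeSpectrum.mem_vanishingIdeal _ _).mp hx q hq
  have hJQ : J ≤ Q := J_le_of_le S R W J hJ Q hQ (hQq ▸ hIq)
  rw [← hQq]
  exact hJQ ht

include hlam hfix hW hJ in
theorem quotientMap_surjective (h2 : IsUnit (2 : S)) :
    Function.Surjective (Ideal.quotientMap J (algebraMap S R) hIJ) := by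
  intro y
  obtain ⟨r, rfl⟩ := Ideal.Quotient.mk_surjective y
  obtain ⟨t, ht⟩ := RInvB.exists_tr lam hlam hfix r
  obtain ⟨c, hc⟩ := h2.exists_left_inv
  refine ⟨Ideal.Quotient.mk _ (c * t), ?_⟩
  rw [quotientMap_mk, Ideal.Quotient.eq]
  have e : algebraMap S R (c * t) - r = -(algebraMap S R c * (r - lam r)) := by
    rw [map_mul, ht]
    have h1 : algebraMap S R c * 2 = 1 := by
      have := congrArg (algebraMap S R) hc
      rwa [map_mul, map_ofNat, map_one] at this
    linear_combination r * h1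
  rw [e]
  exact J.neg_mem (J.mul_mem_left _ (sub_mem_J S R lam hlam hfix W hW J hJ r))

end C

section B

variable (S : Type u) (R : Type v) [CommRing S] [CommRing R]
    [Algebra S R] (lam : R ≃+* R) (hlam : Function.Involutive lam) (hS : RInv.IsFixedRing S R lam)

include hlam hS in
/-- S15588 -/
theorem main1 (W : Set (PrimeSpectrum S))
    (hW : W = {p : PrimeSpectrum S | ¬ RInv.IsQuadEtale (Localization.AtPrime p.asIdeal)
      (Localization.AtPrime p.asIdeal ⊗[S] R)}) (r : R) :
    lam r - r ∈ ((PrimeSpectrum.vanishingIdeal W).map (algebraMap S R)).radical := by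
  have h := sub_mem_radical S R (RInvT1.lamA S R lam hS) (fun x => hlam x)
    (RInvT1.isFixedRing_lamA S R lam hS) W hW r
  rw [RInvT1.lamA_apply] at h
  have e : lam r - r = -(r - lam r) := by ring
  rw [e]
  exact Ideal.neg_mem_iff _ |>.mpr h

include hlam hS in
/-- S15589 -/
theorem main2 (W : Set (PrimeSpectrum S))
    (hW : W = {p : PrimeSpectrum S | ¬ RInv.IsQuadEtale (Localization.AtPrime p.asIdeal)
      (Localization.AtPrime p.asIdeal ⊗[S] R)})
    (J : Ideal R) (hJ : J = ((PrimeSpectrum.vanishingIdeal W).map (algebraMap S R)).radical)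
    (hIJ : PrimeSpectrum.vanishingIdeal W ≤ J.comap (algebraMap S R)) :
    IsHomeomorph (PrimeSpectrum.comap (Ideal.quotientMap J (algebraMap S R) hIJ)) ∧
      (IsUnit (2 : S) → Function.Bijective (Ideal.quotientMap J (algebraMap S R) hIJ)) := by
  have hl : ∀ r, RInvT1.lamA S R lam hS (RInvT1.lamA S R lam hS r) = r := fun x => hlam x
  have hf := RInvT1.isFixedRing_lamA S R lam hS
  exact ⟨isHomeomorph_comap S R _ hl hf W hW J hJ hIJ, fun h2 =>
    ⟨quotientMap_injective S R _ hl hf W J hJ hIJ,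
      quotientMap_surjective S R _ hl hf W hW J hJ hIJ h2⟩⟩

end B

end Groth.Agent.H7.Branch
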