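import Groth.Agent.Lib.Helper7.TFC4
import Groth.Agent.Lib.Helper2.Cartan5
import Groth.Agent.Lib.Lead.RP.ToAb

/-! # Inverse image of a totally acyclic sheaf along a continuous and cocontinuous functor whose
`g_!` commutes with fibre products (helper7). -/

set_option autoImplicit false
universe u
open CategoryTheory CategoryTheory.Limits Opposite CategoryTheory.Abelian

namespace Groth.Agent.H7.CCT

open Groth.Agent.H2.TF Groth.Agent.H2.Cartan Groth.Agent.H2.AcycRes Groth.Agent.H2.CechRes
open Groth.Agent.H7.TFC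
open Simplicial SimplicialObject AlgebraicTopology

variable {C : Type u} [SmallCategory C] {J : GrothendieckTopology C}
variable {D : Type u} [SmallCategory D] {K : GrothendieckTopology D}

section Cmp
variable (G : Sheaf J (Type u) ⥤ Sheaf K (Type u)) [PreservesLimitsOfShape WalkingCospan G]
variable {L' L : Sheaf J (Type u)} (f : L' ⟶ L)

/-- the comparison from the image of the Čech nerve to the Čech nerve of the image. -/
noncomputable def cmp (n : ℕ) : G.obj (wp f n) ⟶ wp (G.map f) n :=
  WidePullback.lift (G.map (wpBase f n)) (fun i => G.map (wpπ f n i)) (fun i => by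
    rw [← G.map_comp]
    congr 1
    exact WidePullback.π_arrow _ _)

lemma cmp_π (n : ℕ) (i : Fin (n + 1)) : cmp G f n ≫ wpπ (G.map f) n i = G.map (wpπ f n i) :=
  WidePullback.lift_π _ _ _ _ _

lemma cmp_base (n : ℕ) : cmp G f n ≫ wpBase (G.map f) n = G.map (wpBase f n) :=
  WidePullback.lift_base _ _ _ _

lemma wpSuccIso_hom_fst_π {M' M : Sheaf J (Type u)} (g : M' ⟶ M) (n : ℕ) (j : Fin (n + 1)) :
    (wpSuccIso g n).hom ≫ pullback.fst (wpBase g n) g ≫ wpπ g n j = wpπ g (n + 1) j.castSucc := by
  simp only [wpSuccIso, pullback.lift_fst_assoc, WidePullback.lift_π]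

lemma wpSuccIso_hom_fst_base {M' M : Sheaf J (Type u)} (g : M' ⟶ M) (n : ℕ) :
    (wpSuccIso g n).hom ≫ pullback.fst (wpBase g n) g ≫ wpBase g n = wpBase g (n + 1) := by
  simp only [wpSuccIso, pullback.lift_fst_assoc, WidePullback.lift_base]

lemma wpSuccIso_hom_snd {M' M : Sheaf J (Type u)} (g : M' ⟶ M) (n : ℕ) :
    (wpSuccIso g n).hom ≫ pullback.snd (wpBase g n) g = wpπ g (n + 1) (Fin.last _) := by
  simp only [wpSuccIso, pullback.lift_snd]

instance isIso_cmp (n : ℕ) : IsIso (cmp G f n) := by
  induction n with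
  | zero =>
    have h : cmp G f 0 = G.map (wpZeroIso f).hom ≫ (wpZeroIso (G.map f)).inv := by
      rw [Iso.eq_comp_inv]
      exact cmp_π G f 0 0
    rw [h]
    infer_instance
  | succ n ih =>
    haveI := ih
    have h : cmp G f (n + 1) ≫ (wpSuccIso (G.map f) n).hom =
        G.map (wpSuccIso f n).hom ≫ (PreservesPullback.iso G (wpBase f n) f).hom ≫
          pullback.map (G.map (wpBase f n)) (G.map f) (wpBase (G.map f) n) (G.map f)
            (cmp G f n) (𝟙 _) (𝟙 _) (by rw [cmp_base, Category.comp_id])
            (by rw [Category.comp_id, Category.id_comp]) := by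
      apply pullback.hom_ext
      · apply WidePullback.hom_ext
        · intro j
          simp only [Category.assoc]
          rw [wpSuccIso_hom_fst_π, cmp_π, pullback.lift_fst_assoc]
          simp only [Category.assoc]
          rw [PreservesPullback.iso_hom_fst_assoc, cmp_π, ← G.map_comp, ← G.map_comp,
            wpSuccIso_hom_fst_π]
        · simp only [Category.assoc]
          rw [wpSuccIso_hom_fst_base, cmp_base, pullback.lift_fst_assoc]
          simp only [Category.assoc]
          rw [PreservesPullback.iso_hom_fst_assoc, cmp_base, ← G.map_comp, ← G.map_comp,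
            wpSuccIso_hom_fst_base]
      · simp only [Category.assoc]
        rw [wpSuccIso_hom_snd, cmp_π, pullback.lift_snd, Category.comp_id,
          PreservesPullback.iso_hom_snd, ← G.map_comp, wpSuccIso_hom_snd]
    have h2 : cmp G f (n + 1) = (G.map (wpSuccIso f n).hom ≫
        (PreservesPullback.iso G (wpBase f n) f).hom ≫
          pullback.map (G.map (wpBase f n)) (G.map f) (wpBase (G.map f) n) (G.map f)
            (cmp G f n) (𝟙 _) (𝟙 _) (by rw [cmp_base, Category.comp_id])
            (by rw [Category.comp_id, Category.id_comp])) ≫ (wpSuccIso (G.map f) n).inv := by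
      rw [← h, Category.assoc, Iso.hom_inv_id, Category.comp_id]
    rw [h2]
    infer_instance

/-- compatibility of the comparison with the face maps. -/
lemma map_δ_cmp (n : ℕ) (i : Fin (n + 2)) :
    G.map ((Arrow.mk f).cechNerve.δ i) ≫ cmp G f n =
      cmp G f (n + 1) ≫ (Arrow.mk (G.map f)).cechNerve.δ i := by
  apply WidePullback.hom_ext
  · intro j
    have h1 : (Arrow.mk f).cechNerve.δ i ≫ wpπ f n j = wpπ f (n + 1) (i.succAbove j) :=
      cechNerve_map_π f (SimplexCategory.δ i) j
    have h2 : (Arrow.mk (G.map f)).cechNerve.δ i ≫ wpπ (G.map f) n j =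
        wpπ (G.map f) (n + 1) (i.succAbove j) :=
      cechNerve_map_π (G.map f) (SimplexCategory.δ i) j
    rw [Category.assoc, Category.assoc, h2]
    erw [cmp_π, cmp_π]
    rw [← G.map_comp, h1]
  · have h1 : (Arrow.mk f).cechNerve.δ i ≫ wpBase f n = wpBase f (n + 1) :=
      WidePullback.lift_base _ _ _ _
    have h2 : (Arrow.mk (G.map f)).cechNerve.δ i ≫ wpBase (G.map f) n =
        wpBase (G.map f) (n + 1) := WidePullback.lift_base _ _ _ _
    rw [Category.assoc, Category.assoc, h2]
    erw [cmp_base, cmp_base]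
    rw [← G.map_comp, h1]

end Cmp

section Adj
variable (J K) (u : C ⥤ D) [u.IsContinuous J K]

/-- `g⁻¹` on sheaves of sets. -/
noncomputable abbrev Rs : Sheaf K (Type u) ⥤ Sheaf J (Type u) :=
  u.sheafPushforwardContinuous (Type u) J K
/-- `g⁻¹` on abelian sheaves. -/
noncomputable abbrev Ra : Sheaf K AddCommGrpCat.{u} ⥤ Sheaf J AddCommGrpCat.{u} :=
  u.sheafPushforwardContinuous AddCommGrpCat.{u} J K
/-- `g_!` on sheaves of sets. -/
noncomputable abbrev Gs : Sheaf J (Type u) ⥤ Sheaf K (Type u) := u.sheafPullback (Type u) J K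
/-- `g_!` on abelian sheaves. -/
noncomputable abbrev Ga : Sheaf J AddCommGrpCat.{u} ⥤ Sheaf K AddCommGrpCat.{u} :=
  u.sheafPullback AddCommGrpCat.{u} J K

noncomputable abbrev adjS : Gs J K u ⊣ Rs J K u :=
  u.sheafAdjunctionContinuous (Type u) J K
noncomputable abbrev adjA : Ga J K u ⊣ Ra J K u :=
  u.sheafAdjunctionContinuous AddCommGrpCat.{u} J K

instance : (Ra J K u).Additive := ⟨by intros; rfl⟩

instance : (Ga J K u).Additive := (adjA J K u).left_adjoint_additive

/-- forgetting commutes with `g⁻¹`. -/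
noncomputable def rIso : Ra J K u ⋙ GG (J := J) ≅ GG (J := K) ⋙ Rs J K u :=
  NatIso.ofComponents (fun F => Iso.refl _) (by intros; rfl)

/-- `g_!` commutes with the free abelian sheaf functors. -/
noncomputable def eIso : ZZ (J := J) ⋙ Ga J K u ≅ Gs J K u ⋙ ZZ (J := K) :=
  Adjunction.natIsoOfRightAdjointNatIso ((zadj (J := J)).comp (adjA J K u))
    ((adjS J K u).comp (zadj (J := K))) (rIso J K u)

end Adj

end Groth.Agent.H7.CCT
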