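import Groth.Agent.Lib.Helper7.CCT1

/-! # Transport of the Čech hypothesis along `g⁻¹` (helper7). -/

set_option autoImplicit false
universe u
open CategoryTheory CategoryTheory.Limits Opposite CategoryTheory.Abelian

namespace Groth.Agent.H7.CCT

open Groth.Agent.H2.TF Groth.Agent.H2.Cartan Groth.Agent.H2.AcycRes Groth.Agent.H2.CechRes
open Groth.Agent.H7.TFC
open Simplicial SimplicialObject AlgebraicTopology

variable {C : Type u} [SmallCategory C] {J : GrothendieckTopology C}
variable {D : Type u} [SmallCategory D] {K : GrothendieckTopology D}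

section Transport
variable (J K) (u : C ⥤ D) [u.IsContinuous J K]
  [PreservesLimitsOfShape WalkingCospan (Gs J K u)]
variable {L' L : Sheaf J (Type u)} (f : L' ⟶ L) (F : Sheaf K AddCommGrpCat.{u})

/-- the isomorphism used to transport cochains. -/
noncomputable def pre (n : ℕ) :
    (ZZ (J := K)).obj (wp ((Gs J K u).map f) n) ⟶ (Ga J K u).obj ((ZZ (J := J)).obj (wp f n)) :=
  (ZZ (J := K)).map (inv (cmp (Gs J K u) f n)) ≫ (eIso J K u).inv.app (wp f n)

instance (n : ℕ) : IsIso (pre J K u f n) := by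
  unfold pre
  infer_instance

/-- transport of cochains. -/
noncomputable def T (n : ℕ) : ((ZZ (J := J)).obj (wp f n) ⟶ (Ra J K u).obj F) →+
    ((ZZ (J := K)).obj (wp ((Gs J K u).map f) n) ⟶ F) :=
  (Preadditive.leftComp F (pre J K u f n)).comp ((adjA J K u).homAddEquiv _ _).symm.toAddMonoidHom

lemma T_apply (n : ℕ) (φ : (ZZ (J := J)).obj (wp f n) ⟶ (Ra J K u).obj F) :
    T J K u f F n φ = pre J K u f n ≫ ((adjA J K u).homEquiv _ _).symm φ := rfl

lemma T_injective (n : ℕ) : Function.Injective (T J K u f F n) := by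
  intro φ ψ h
  rw [T_apply, T_apply, cancel_epi] at h
  exact ((adjA J K u).homEquiv _ _).symm.injective h

lemma T_surjective (n : ℕ) : Function.Surjective (T J K u f F n) := by
  intro χ
  refine ⟨(adjA J K u).homEquiv _ _ (inv (pre J K u f n) ≫ χ), ?_⟩
  rw [T_apply, Equiv.symm_apply_apply, IsIso.hom_inv_id_assoc]

lemma T_face (n : ℕ) (i : Fin (n + 2)) (φ : (ZZ (J := J)).obj (wp f n) ⟶ (Ra J K u).obj F) :
    T J K u f F (n + 1) ((ZZ (J := J)).map ((Arrow.mk f).cechNerve.δ i) ≫ φ) =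
      (ZZ (J := K)).map ((Arrow.mk ((Gs J K u).map f)).cechNerve.δ i) ≫ T J K u f F n φ := by
  rw [T_apply, T_apply, Adjunction.homEquiv_naturality_left_symm]
  unfold pre
  have h1 : (eIso J K u).inv.app (wp f (n + 1)) ≫
      (Ga J K u).map ((ZZ (J := J)).map ((Arrow.mk f).cechNerve.δ i)) =
      (ZZ (J := K)).map ((Gs J K u).map ((Arrow.mk f).cechNerve.δ i)) ≫ (eIso J K u).inv.app (wp f n) :=
    ((eIso J K u).inv.naturality ((Arrow.mk f).cechNerve.δ i)).symm
  have h2 : inv (cmp (Gs J K u) f (n + 1)) ≫ (Gs J K u).map ((Arrow.mk f).cechNerve.δ i) =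
      (Arrow.mk ((Gs J K u).map f)).cechNerve.δ i ≫ inv (cmp (Gs J K u) f n) := by
    rw [IsIso.inv_comp_eq, ← Category.assoc, IsIso.eq_comp_inv]
    exact map_δ_cmp (Gs J K u) f n i
  have h3 : (ZZ (J := K)).map (inv (cmp (Gs J K u) f (n + 1))) ≫
      (ZZ (J := K)).map ((Gs J K u).map ((Arrow.mk f).cechNerve.δ i)) =
      (ZZ (J := K)).map ((Arrow.mk ((Gs J K u).map f)).cechNerve.δ i) ≫
        (ZZ (J := K)).map (inv (cmp (Gs J K u) f n)) := by
    rw [← Functor.map_comp, h2, Functor.map_comp]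
  calc ((ZZ (J := K)).map (inv (cmp (Gs J K u) f (n + 1))) ≫ (eIso J K u).inv.app (wp f (n + 1))) ≫
        (Ga J K u).map ((ZZ (J := J)).map ((Arrow.mk f).cechNerve.δ i)) ≫
          ((adjA J K u).homEquiv _ _).symm φ
      = (ZZ (J := K)).map (inv (cmp (Gs J K u) f (n + 1))) ≫ ((eIso J K u).inv.app (wp f (n + 1)) ≫
        (Ga J K u).map ((ZZ (J := J)).map ((Arrow.mk f).cechNerve.δ i))) ≫
          ((adjA J K u).homEquiv _ _).symm φ := by simp only [Category.assoc]
    _ = (ZZ (J := K)).map (inv (cmp (Gs J K u) f (n + 1))) ≫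
        ((ZZ (J := K)).map ((Gs J K u).map ((Arrow.mk f).cechNerve.δ i)) ≫
          (eIso J K u).inv.app (wp f n)) ≫ ((adjA J K u).homEquiv _ _).symm φ := by
        rw [h1]
        rfl
    _ = ((ZZ (J := K)).map (inv (cmp (Gs J K u) f (n + 1))) ≫
        (ZZ (J := K)).map ((Gs J K u).map ((Arrow.mk f).cechNerve.δ i))) ≫
          (eIso J K u).inv.app (wp f n) ≫ ((adjA J K u).homEquiv _ _).symm φ := by
        simp only [Category.assoc]
    _ = ((ZZ (J := K)).map ((Arrow.mk ((Gs J K u).map f)).cechNerve.δ i) ≫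
        (ZZ (J := K)).map (inv (cmp (Gs J K u) f n))) ≫
          (eIso J K u).inv.app (wp f n) ≫ ((adjA J K u).homEquiv _ _).symm φ := by rw [h3]
    _ = _ := by simp only [Category.assoc]

/-- transport of cochains, in terms of the Čech complex. -/
noncomputable def T' (n : ℕ) : ((PP f).X n ⟶ (Ra J K u).obj F) →+
    ((PP ((Gs J K u).map f)).X n ⟶ F) := T J K u f F n

lemma T'_injective (n : ℕ) : Function.Injective (T' J K u f F n) := T_injective J K u f F n

lemma T'_surjective (n : ℕ) : Function.Surjective (T' J K u f F n) := T_surjective J K u f F n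

lemma T'_face (n : ℕ) (i : Fin (n + 2)) (φ : (PP f).X n ⟶ (Ra J K u).obj F) :
    T' J K u f F (n + 1) ((Augmented.drop.obj (augFree f)).δ i ≫ φ) =
      (Augmented.drop.obj (augFree ((Gs J K u).map f))).δ i ≫ T' J K u f F n φ :=
  T_face J K u f F n i φ

lemma T'_d (n : ℕ) (φ : (PP f).X n ⟶ (Ra J K u).obj F) :
    T' J K u f F (n + 1) ((PP f).d (n + 1) n ≫ φ) =
      (PP ((Gs J K u).map f)).d (n + 1) n ≫ T' J K u f F n φ := by
  have h1 : (PP f).d (n + 1) n = ∑ i : Fin (n + 2), (-1 : ℤ) ^ (i : ℕ) •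
      (Augmented.drop.obj (augFree f)).δ i := AlternatingFaceMapComplex.obj_d_eq _ n
  have h2 : (PP ((Gs J K u).map f)).d (n + 1) n = ∑ i : Fin (n + 2), (-1 : ℤ) ^ (i : ℕ) •
      (Augmented.drop.obj (augFree ((Gs J K u).map f))).δ i :=
    AlternatingFaceMapComplex.obj_d_eq _ n
  rw [h1, h2, Preadditive.sum_comp, Preadditive.sum_comp, map_sum]
  refine Finset.sum_congr rfl (fun i _ => ?_)
  rw [Preadditive.zsmul_comp, Preadditive.zsmul_comp, map_zsmul, T'_face]

/-- the Čech hypothesis passes to the inverse image. -/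
theorem hyp_Ra (hF : Hyp F) : Hyp ((Ra J K u).obj F) := by
  intro L' L f hf q φ hφ
  haveI := hf
  haveI : (Gs J K u).IsLeftAdjoint := (adjS J K u).isLeftAdjoint
  haveI : Epi ((Gs J K u).map f) := inferInstance
  have h0 : (PP ((Gs J K u).map f)).d (q + 2) (q + 1) ≫ T' J K u f F (q + 1) φ = 0 := by
    rw [← T'_d, hφ, map_zero]
  obtain ⟨χ', hχ'⟩ := hF _ _ ((Gs J K u).map f) inferInstance q (T' J K u f F (q + 1) φ) h0
  obtain ⟨χ, rfl⟩ := T'_surjective J K u f F q χ'
  refine ⟨χ, T'_injective J K u f F (q + 1) ?_⟩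
  rw [T'_d, hχ']

end Transport

theorem S9044_main (J : GrothendieckTopology C) (K : GrothendieckTopology D)
    (u : C ⥤ D) [u.IsContinuous J K]
    (hfib : PreservesLimitsOfShape WalkingCospan (u.sheafPullback (Type u) J K))
    (O_D : Sheaf K CommRingCat.{u}) (I : ModSite.Mod O_D) (hI : Injective I) :
    CohCx.IsTotallyAcyclic
      ((u.sheafPushforwardContinuous AddCommGrpCat.{u} J K).obj (ModSite.toAb I)) := by
  haveI := hI
  haveI : PreservesLimitsOfShape WalkingCospan (Gs J K u) := hfib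
  exact totallyAcyclic_of_hyp _ (hyp_Ra J K u _ (hyp_of_totallyAcyclic _
    (Groth.Agent.LD.RP.isTotallyAcyclic_toAb_of_injective O_D I)))

end Groth.Agent.H7.CCT
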