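import Mathlib
import Groth.Prelude.Def_CechEdge
import Groth.Agent.Lib.Helper8.LC.Delta

/-! # CechEdge: the δ-functor `P ↦ Ext^•(X, G P)` for an exact functor `G` -/

universe u v w u' v'
open CategoryTheory Limits Opposite Abelian

namespace Groth.Agent.H7.CE

open Groth.Agent.H8.LC

section General

variable {A : Type u} [Category.{v} A] [Abelian A] [HasExt.{w} A] (X : A)

/-- `Ext^n(X, -)` as a functor, with transparent `map`. -/
noncomputable def extCov (n : ℕ) : A ⥤ AddCommGrpCat.{w} where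
  obj Y := AddCommGrpCat.of (Ext X Y n)
  map f := AddCommGrpCat.ofHom ((Ext.mk₀ f).postcomp X (add_zero n))
  map_id Y := by
    ext x
    exact Ext.comp_mk₀_id x
  map_comp f g := by
    ext x
    refine ((x.comp_assoc_of_third_deg_zero (Ext.mk₀ f) (Ext.mk₀ g) (add_zero n)).trans ?_).symm
    rw [Ext.mk₀_comp_mk₀]
    rfl

lemma extCov_map_apply {Y Z : A} (f : Y ⟶ Z) {n : ℕ} (x : Ext X Y n) :
    ((extCov X n).map f).hom x = x.comp (Ext.mk₀ f) (add_zero n) := rfl

lemma ext_comp_g_δ {S : ShortComplex A} (hS : S.ShortExact) {n : ℕ} (x : Ext X S.X₂ n) :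
    (x.comp (Ext.mk₀ S.g) (add_zero n)).comp hS.extClass rfl = 0 := by
  rw [Ext.comp_assoc_of_second_deg_zero, hS.comp_extClass, Ext.comp_zero]

lemma ext_comp_δ_f {S : ShortComplex A} (hS : S.ShortExact) {n : ℕ} (x : Ext X S.X₃ n) :
    (x.comp hS.extClass rfl).comp (Ext.mk₀ S.f) (add_zero (n+1)) = 0 := by
  rw [Ext.comp_assoc_of_third_deg_zero, hS.extClass_comp, Ext.comp_zero]

variable {B : Type u'} [Category.{v'} B] [Abelian B] (G : B ⥤ A) [G.PreservesZeroMorphisms]
  [PreservesFiniteLimits G] [PreservesFiniteColimits G]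

/-- the connecting map -/
noncomputable def extCovδ {S : ShortComplex B} (hS : S.ShortExact) (n : ℕ) :
    (G ⋙ extCov X n).obj S.X₃ ⟶ (G ⋙ extCov X (n+1)).obj S.X₁ :=
  AddCommGrpCat.ofHom ((hS.map_of_exact G).extClass.postcomp X rfl)

lemma extCovδ_apply {S : ShortComplex B} (hS : S.ShortExact) {n : ℕ} (x : Ext X (G.obj S.X₃) n) :
    (extCovδ X G hS n).hom x = x.comp (hS.map_of_exact G).extClass rfl := rfl

/-- The δ-functor `P ↦ Ext^n(X, G P)`. -/
noncomputable def extDeltaGen : DeltaFunctor B AddCommGrpCat.{w} where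
  F n := G ⋙ extCov X n
  δ hS n := extCovδ X G hS n
  δ_naturality {S S'} hS hS' φ n := by
    ext x
    change ((x : Ext X (G.obj S.X₃) n).comp (hS.map_of_exact G).extClass rfl).comp
        (Ext.mk₀ (G.map φ.τ₁)) (add_zero (n+1)) =
      ((x : Ext X (G.obj S.X₃) n).comp (Ext.mk₀ (G.map φ.τ₃)) (add_zero n)).comp
        (hS'.map_of_exact G).extClass rfl
    rw [Ext.comp_assoc_of_third_deg_zero, Ext.comp_assoc_of_second_deg_zero]
    exact congrArg (fun t => (x : Ext X (G.obj S.X₃) n).comp t rfl)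
      (ShortComplex.ShortExact.extClass_naturality (hS.map_of_exact G) (hS'.map_of_exact G)
        (G.mapShortComplex.map φ))
  map_comp_map {S} hS n := by
    rw [← Functor.map_comp, S.zero]
    ext x
    change (x : Ext X (G.obj S.X₁) n).comp (Ext.mk₀ (G.map 0)) (add_zero n) = 0
    rw [Functor.map_zero, Ext.mk₀_zero, Ext.comp_zero]
  map_comp_δ {S} hS n := by
    ext x
    exact ext_comp_g_δ X (hS.map_of_exact G) x
  δ_comp_map {S} hS n := by
    ext x
    exact ext_comp_δ_f X (hS.map_of_exact G) x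
  mono₀ {S} hS := by
    have : Mono (G.map S.f) := (hS.map_of_exact G).mono_f
    exact Ext.mono_postcomp_mk₀_of_mono X (G.map S.f)
  exact₂ hS n := Ext.covariant_sequence_exact₂' X (hS.map_of_exact G) n
  exact₃ hS n := Ext.covariant_sequence_exact₃' X (hS.map_of_exact G) n (n+1) rfl
  exact₁ hS n := Ext.covariant_sequence_exact₁' X (hS.map_of_exact G) n (n+1) rfl

end General

end Groth.Agent.H7.CE
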