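import Mathlib
import Groth.Prelude.Def_CechEdge
import Groth.Agent.Lib.Lead.Cech.SiteH0
import Groth.Agent.Lib.Helper7.CE1

/-! # CechEdge: degree zero -/

universe u
open CategoryTheory Limits Opposite

namespace Groth.Agent.H7.CE

open Groth.Agent.LD.CH

variable {C : Type u} [SmallCategory C] [HasPullbacks C] {U : C} {ι : Type u} (Y : ι → Over U)
  (P : Cᵒᵖ ⥤ AddCommGrpCat.{u})

lemma coch_toCech₀ (s : P.obj (op U)) :
    coch Y (resOver U P) 0 (CechEdge.toCech₀ P Y s) = augCO Y P s := by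
  funext a
  rw [coch_apply]
  have h : CechEdge.toCech₀ P Y ≫ Pi.π (fun (a : Fin 1 → ι) => (resOver U P).obj (op (∏ᶜ (Y ∘ a)))) a =
      P.map (∏ᶜ (Y ∘ a)).hom.op := Pi.lift_π _ a
  exact ConcreteCategory.congr_hom h s

lemma toCech₀_eq_augHomO (s : P.obj (op U)) : CechEdge.toCech₀ P Y s = augHomO Y P s := by
  apply (coch Y (resOver U P) 0).injective
  rw [coch_toCech₀, coch_augHomO]

/-- every class in `Ȟ⁰` is the class of a cocycle -/
lemma exists_cocycle (z : CohCx.cechH P Y 0) :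
    ∃ x : (CechEdge.cx P Y).X 0, (CechEdge.cx P Y).d 0 1 x = 0 ∧
      ∃ c : (CechEdge.cx P Y).cycles 0, (CechEdge.cx P Y).iCycles 0 c = x ∧
        (CechEdge.cx P Y).homologyπ 0 c = z := by
  haveI : IsIso ((CechEdge.cx P Y).homologyπ 0) :=
    (CechEdge.cx P Y).isIso_homologyπ 0 0 (by simp) ((CechEdge.cx P Y).shape 0 0 (by simp))
  have hsurj : Function.Surjective ((CechEdge.cx P Y).homologyπ 0) :=
    (AddCommGrpCat.epi_iff_surjective _).1 inferInstance
  obtain ⟨c, rfl⟩ := hsurj z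
  refine ⟨(CechEdge.cx P Y).iCycles 0 c, ?_, c, rfl, rfl⟩
  have h : (CechEdge.cx P Y).iCycles 0 ≫ (CechEdge.cx P Y).d 0 1 = 0 :=
    (CechEdge.cx P Y).iCycles_d 0 1
  exact ConcreteCategory.congr_hom h c

lemma homologyπ_injective :
    Function.Injective ((CechEdge.cx P Y).homologyπ 0) := by
  haveI : IsIso ((CechEdge.cx P Y).homologyπ 0) :=
    (CechEdge.cx P Y).isIso_homologyπ 0 0 (by simp) ((CechEdge.cx P Y).shape 0 0 (by simp))
  exact (AddCommGrpCat.mono_iff_injective _).1 inferInstance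

lemma iCycles_injective :
    Function.Injective ((CechEdge.cx P Y).iCycles 0) :=
  (AddCommGrpCat.mono_iff_injective _).1 inferInstance

lemma toCech_eq (s : P.obj (op U)) :
    CechEdge.toCech Y P s = (CechEdge.cx P Y).homologyπ 0 (CechEdge.toCycles P Y s) := rfl

lemma iCycles_toCycles (s : P.obj (op U)) :
    (CechEdge.cx P Y).iCycles 0 (CechEdge.toCycles P Y s) = CechEdge.toCech₀ P Y s :=
  ConcreteCategory.congr_hom (CechEdge.toCycles_i P Y) s

/-- `toCech s = toCech t` iff the restrictions agree -/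
lemma toCech_eq_iff (s t : P.obj (op U)) :
    CechEdge.toCech Y P s = CechEdge.toCech Y P t ↔ augCO Y P s = augCO Y P t := by
  rw [toCech_eq, toCech_eq, (homologyπ_injective Y P).eq_iff, ← (iCycles_injective Y P).eq_iff,
    iCycles_toCycles, iCycles_toCycles, ← (coch Y (resOver U P) 0).injective.eq_iff,
    coch_toCech₀, coch_toCech₀]

/-- a class is in the image of `toCech` iff some (any) representing cocycle is an augmentation -/
lemma toCech_eq_of_coch (s : P.obj (op U)) (c : (CechEdge.cx P Y).cycles 0)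
    (h : coch Y (resOver U P) 0 ((CechEdge.cx P Y).iCycles 0 c) = augCO Y P s) :
    CechEdge.toCech Y P s = (CechEdge.cx P Y).homologyπ 0 c := by
  rw [toCech_eq]
  congr 1
  apply iCycles_injective Y P
  rw [iCycles_toCycles]
  apply (coch Y (resOver U P) 0).injective
  rw [coch_toCech₀, h]

variable {J : GrothendieckTopology C}

/-- for a sheaf and a covering family, `toCech` is bijective -/
theorem toCech_bijective_of_isSheaf (hP : Presheaf.IsSheaf J P)
    (hY : Sieve.ofArrows (fun i => (Y i).left) (fun i => (Y i).hom) ∈ J U) :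
    Function.Bijective (CechEdge.toCech Y P) := by
  let F : Sheaf J AddCommGrpCat.{u} := ⟨P, hP⟩
  constructor
  · intro s t h
    rw [toCech_eq_iff] at h
    obtain ⟨r, _, hr⟩ := existsUnique_of_cocycleO Y F hY (augHomO Y P s) (d_augHomO Y P s)
    rw [hr s (coch_augHomO Y P s), hr t ((coch_augHomO Y P s).trans h)]
  · intro z
    obtain ⟨x, hx, c, hc, rfl⟩ := exists_cocycle Y P z
    obtain ⟨s, hs, _⟩ := existsUnique_of_cocycleO Y F hY x hx
    exact ⟨s, toCech_eq_of_coch Y P s c (by rw [hc]; exact hs)⟩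

/-- naturality of `toCech₀` -/
lemma toCech₀_naturality {P Q : Cᵒᵖ ⥤ AddCommGrpCat.{u}} (φ : P ⟶ Q) :
    CechEdge.toCech₀ P Y ≫ ((CechEdge.cxFunctor Y).map φ).f 0 =
      φ.app (op U) ≫ CechEdge.toCech₀ Q Y := by
  ext s
  apply coch_ext
  intro a
  rw [ConcreteCategory.comp_apply, ConcreteCategory.comp_apply]
  refine (coch_cxMap Y φ 0 _ a).trans ?_
  have e1 : coch Y (resOver U P) 0 (CechEdge.toCech₀ P Y s) a = P.map (∏ᶜ (Y ∘ a)).hom.op s :=
    congrFun (coch_toCech₀ Y P s) a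
  have e2 : coch Y (resOver U Q) 0 (CechEdge.toCech₀ Q Y (φ.app (op U) s)) a =
      Q.map (∏ᶜ (Y ∘ a)).hom.op (φ.app (op U) s) := congrFun (coch_toCech₀ Y Q _) a
  refine Eq.trans ?_ e2.symm
  refine (congrArg (fun t => φ.app (op (∏ᶜ (Y ∘ a)).left) t) e1).trans ?_
  exact ConcreteCategory.congr_hom (φ.naturality (∏ᶜ (Y ∘ a)).hom.op) s

lemma toCycles_naturality {P Q : Cᵒᵖ ⥤ AddCommGrpCat.{u}} (φ : P ⟶ Q) :
    CechEdge.toCycles P Y ≫ HomologicalComplex.cyclesMap ((CechEdge.cxFunctor Y).map φ) 0 =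
      φ.app (op U) ≫ CechEdge.toCycles Q Y := by
  rw [← cancel_mono ((CechEdge.cx Q Y).iCycles 0), Category.assoc, Category.assoc]
  have h1 : HomologicalComplex.cyclesMap ((CechEdge.cxFunctor Y).map φ) 0 ≫
      (CechEdge.cx Q Y).iCycles 0 = (CechEdge.cx P Y).iCycles 0 ≫
        ((CechEdge.cxFunctor Y).map φ).f 0 := HomologicalComplex.cyclesMap_i _ 0
  rw [h1, CechEdge.toCycles_i, ← Category.assoc, CechEdge.toCycles_i, toCech₀_naturality]

/-- naturality of `toCech` -/
lemma toCech_naturality {P Q : Cᵒᵖ ⥤ AddCommGrpCat.{u}} (φ : P ⟶ Q) (s : P.obj (op U)) :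
    CechEdge.cechHMap Y φ 0 (CechEdge.toCech Y P s) = CechEdge.toCech Y Q (φ.app (op U) s) := by
  have h1 : (CechEdge.cx P Y).homologyπ 0 ≫
      HomologicalComplex.homologyMap ((CechEdge.cxFunctor Y).map φ) 0 =
      HomologicalComplex.cyclesMap ((CechEdge.cxFunctor Y).map φ) 0 ≫
        (CechEdge.cx Q Y).homologyπ 0 := HomologicalComplex.homologyπ_naturality _ 0
  have h2 := ConcreteCategory.congr_hom h1 (CechEdge.toCycles P Y s)
  have h3 := ConcreteCategory.congr_hom (toCycles_naturality Y φ) s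
  rw [ConcreteCategory.comp_apply, ConcreteCategory.comp_apply] at h2 h3
  rw [toCech_eq, toCech_eq, ← h3]
  exact h2

end Groth.Agent.H7.CE
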