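import Mathlib
import Groth.Prelude.Def_CechEdge
import Groth.Agent.Lib.Lead.Cech.SiteH0
import Groth.Agent.Lib.Helper7.CE3

/-! # CechEdge: sheaf iff `toCech` bijective -/

universe u
open CategoryTheory Limits Opposite

namespace Groth.Agent.H7.CE

open Groth.Agent.LD.CH

variable {C : Type u} [SmallCategory C] [HasPullbacks C]
  (P : Cᵒᵖ ⥤ AddCommGrpCat.{u})

lemma map_map' {X Y Z : C} (g : Z ⟶ Y) (f : Y ⟶ X) (s : P.obj (op X)) :
    P.map g.op (P.map f.op s) = P.map (g ≫ f).op s := by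
  rw [← ConcreteCategory.comp_apply, ← P.map_comp, ← op_comp]

variable {J : GrothendieckTopology C}

theorem isSheafFor_of_toCech_bijective {U : C} {ι : Type u} (Y : ι → Over U)
    (hb : Function.Bijective (CechEdge.toCech Y P)) :
    Presieve.IsSheafFor (P ⋙ forget AddCommGrpCat.{u})
      (Presieve.ofArrows (fun i => (Y i).left) (fun i => (Y i).hom)) := by
  rw [Presieve.isSheafFor_arrows_iff]
  intro x hx
  let l : ∀ i, Y i ⟶ ∏ᶜ (Y ∘ fun _ : Fin 1 => i) := fun i => Pi.lift (fun _ => 𝟙 (Y i))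
  -- the cochain
  let c : Coch Y (resOver U P) 0 := fun a => P.map (Pi.π (Y ∘ a) 0).left.op (x (a 0))
  let X0 : (CechEdge.cx P Y).X 0 := (coch Y (resOver U P) 0).symm c
  have hX0 : coch Y (resOver U P) 0 X0 = c := (coch Y (resOver U P) 0).apply_symm_apply c
  have hd : (CechEdge.cx P Y).d 0 1 X0 = 0 := by
    apply coch_ext
    intro a
    rw [coch_d_zeroO, hX0, map_zero, Pi.zero_apply]
    refine sub_eq_zero.2 ?_
    change P.map (face Y a 0).left.op (P.map (Pi.π (Y ∘ a ∘ Fin.succAbove 0) 0).left.op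
        (x ((a ∘ Fin.succAbove 0) 0))) =
      P.map (face Y a 1).left.op (P.map (Pi.π (Y ∘ a ∘ Fin.succAbove 1) 0).left.op
        (x ((a ∘ Fin.succAbove 1) 0)))
    rw [map_map', map_map']
    refine hx _ _ _ _ _ ?_
    have h0 : (Pi.π (Y ∘ a ∘ Fin.succAbove 0) 0).left ≫ (Y ((a ∘ Fin.succAbove 0) 0)).hom =
        (∏ᶜ (Y ∘ a ∘ Fin.succAbove 0)).hom := Over.w _
    have h1 : (Pi.π (Y ∘ a ∘ Fin.succAbove 1) 0).left ≫ (Y ((a ∘ Fin.succAbove 1) 0)).hom =
        (∏ᶜ (Y ∘ a ∘ Fin.succAbove 1)).hom := Over.w _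
    have h2 : (face Y a 0).left ≫ (∏ᶜ (Y ∘ a ∘ Fin.succAbove 0)).hom = (∏ᶜ (Y ∘ a)).hom := Over.w _
    have h3 : (face Y a 1).left ≫ (∏ᶜ (Y ∘ a ∘ Fin.succAbove 1)).hom = (∏ᶜ (Y ∘ a)).hom := Over.w _
    rw [Category.assoc, Category.assoc]
    exact ((congrArg (fun t => (face Y a 0).left ≫ t) h0).trans h2).trans
      ((congrArg (fun t => (face Y a 1).left ≫ t) h1).trans h3).symm
  obtain ⟨c0, hc0⟩ : ∃ c0 : (CechEdge.cx P Y).cycles 0, (CechEdge.cx P Y).iCycles 0 c0 = X0 :=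
    ⟨(cyc0Iso (CechEdge.cx P Y)).inv ⟨X0, hd⟩,
      ConcreteCategory.congr_hom ((CechEdge.cx P Y).liftCycles_i (ker0ι (CechEdge.cx P Y)) 1 (by simp)
        (ker0ι_d (CechEdge.cx P Y))) ⟨X0, hd⟩⟩
  obtain ⟨s, hs⟩ := hb.2 ((CechEdge.cx P Y).homologyπ 0 c0)
  have hs1 : CechEdge.toCycles P Y s = c0 := homologyπ_injective Y P hs
  have hs2 : CechEdge.toCech₀ P Y s = X0 := by rw [← iCycles_toCycles, hs1, hc0]
  have hs3 : augCO Y P s = c := by rw [← coch_toCech₀, hs2, hX0]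
  have key : ∀ (t : P.obj (op U)) (i : ι), P.map (Y i).hom.op t =
      P.map (l i).left.op (augCO Y P t (fun _ => i)) := by
    intro t i
    change _ = P.map (l i).left.op (P.map (∏ᶜ (Y ∘ fun _ : Fin 1 => i)).hom.op t)
    rw [map_map']
    have hw : (l i).left ≫ (∏ᶜ (Y ∘ fun _ : Fin 1 => i)).hom = (Y i).hom := Over.w _
    rw [hw]
  refine ⟨s, ?_, ?_⟩
  · intro i
    change P.map (Y i).hom.op s = x i
    rw [key s i, hs3]
    change P.map (l i).left.op (P.map (Pi.π (Y ∘ fun _ : Fin 1 => i) 0).left.op (x i)) = x i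
    rw [map_map']
    have hl : (l i).left ≫ (Pi.π (Y ∘ fun _ : Fin 1 => i) 0).left = 𝟙 _ := by
      rw [← Over.comp_left]
      have : l i ≫ Pi.π (Y ∘ fun _ : Fin 1 => i) 0 = 𝟙 (Y i) := Pi.lift_π _ _
      rw [this]
      rfl
    rw [hl, op_id]
    exact ConcreteCategory.congr_hom (P.map_id (op (Y i).left)) (x i)
  · intro t ht
    apply hb.1
    rw [toCech_eq_iff]
    funext a
    have e : ∀ (r : P.obj (op U)), augCO Y P r a =
        P.map (Pi.π (Y ∘ a) 0).left.op (P.map (Y (a 0)).hom.op r) := by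
      intro r
      rw [map_map']
      have hw : (Pi.π (Y ∘ a) 0).left ≫ (Y (a 0)).hom = (∏ᶜ (Y ∘ a)).hom := Over.w _
      rw [hw]
      rfl
    rw [e t, e s]
    have h1 : P.map (Y (a 0)).hom.op t = x (a 0) := ht (a 0)
    have h2 : P.map (Y (a 0)).hom.op s = x (a 0) := by
      rw [key s (a 0), hs3]
      change P.map (l (a 0)).left.op (P.map (Pi.π (Y ∘ fun _ : Fin 1 => a 0) 0).left.op (x (a 0))) = x (a 0)
      rw [map_map']
      have hl : (l (a 0)).left ≫ (Pi.π (Y ∘ fun _ : Fin 1 => a 0) 0).left = 𝟙 _ := by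
        rw [← Over.comp_left]
        have : l (a 0) ≫ Pi.π (Y ∘ fun _ : Fin 1 => a 0) 0 = 𝟙 (Y (a 0)) := Pi.lift_π _ _
        rw [this]
        rfl
      rw [hl, op_id]
      exact ConcreteCategory.congr_hom (P.map_id (op (Y (a 0)).left)) (x (a 0))
    rw [h1, h2]


/-- converse: if `toCech` is bijective for all covering families then `P` is a sheaf -/
theorem isSheaf_of_toCech_bijective
    (h : ∀ (U : C) (ι : Type u) (Y : ι → Over U),
      Sieve.ofArrows (fun i => (Y i).left) (fun i => (Y i).hom) ∈ J U →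
        Function.Bijective (CechEdge.toCech Y P)) : Presheaf.IsSheaf J P := by
  rw [Presheaf.isSheaf_iff_isSheaf_forget J P (forget _), isSheaf_iff_isSheaf_of_type]
  intro U S hS
  let ι := Σ V : C, {f : V ⟶ U // S f}
  let Y : ι → Over U := fun i => Over.mk i.2.1
  have hgen : Sieve.ofArrows (fun i => (Y i).left) (fun i => (Y i).hom) = S := by
    ext V f
    constructor
    · rintro ⟨W, g, k, ⟨i⟩, rfl⟩
      exact S.downward_closed i.2.2 g
    · intro hf
      exact ⟨V, 𝟙 V, f, Presieve.ofArrows.mk (⟨V, f, hf⟩ : ι), by simp⟩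
  have hY : Sieve.ofArrows (fun i => (Y i).left) (fun i => (Y i).hom) ∈ J U := hgen ▸ hS
  have hb := h U ι Y hY
  rw [← hgen, Sieve.ofArrows, ← Presieve.isSheafFor_iff_generate]
  exact isSheafFor_of_toCech_bijective P Y hb

end Groth.Agent.H7.CE
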