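import Mathlib
import Groth.Prelude.Def_CechEdge
import Groth.Agent.Lib.Helper7.CE2
import Groth.Agent.Lib.Helper7.CE4

/-! # CechEdge: the degree-zero comparison and the edge family -/

universe u
open CategoryTheory Limits Opposite Abelian


namespace Groth.Agent.H7.CE

open Groth.Agent.LD.CH Groth.Agent.H8.LC

variable {C : Type u} [SmallCategory C] (J : GrothendieckTopology C) (U : C)

section SectH0

lemma sectH0_eq (F : Sheaf J AddCommGrpCat.{u}) (s : F.obj.obj (op U)) :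
    CechEdge.sectH0 J U F s = Ext.mk₀ (CohFree.ofSect J U F s) := rfl

lemma ofSect_naturality {F G : Sheaf J AddCommGrpCat.{u}} (ψ : F ⟶ G) (s : F.obj.obj (op U)) :
    CohFree.ofSect J U G (ψ.hom.app (op U) s) = CohFree.ofSect J U F s ≫ ψ := by
  apply (CohFree.homEquivSect J U G).injective
  rw [CohFree.homEquivSect_apply, CohFree.homEquivSect_apply, CohFree.evalGen_ofSect]
  change _ = (ψ.hom.app (op U)).hom (CohFree.evalGen J U F (CohFree.ofSect J U F s))
  rw [CohFree.evalGen_ofSect]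

lemma sectH0_naturality {F G : Sheaf J AddCommGrpCat.{u}} (ψ : F ⟶ G) (s : F.obj.obj (op U)) :
    CechEdge.sectH0 J U G (ψ.hom.app (op U) s) =
      (Ext.mk₀ (CohFree.ofSect J U F s)).comp (Ext.mk₀ ψ) (add_zero 0) := by
  rw [sectH0_eq, ofSect_naturality, Ext.mk₀_comp_mk₀]

end SectH0


variable [HasPullbacks C] {U} {ι : Type u} (Y : ι → Over U)
  (hY : Sieve.ofArrows (fun i => (Y i).left) (fun i => (Y i).hom) ∈ J U)

/-- `Ȟ⁰(Y, F) ≃ F(U)` for a sheaf and a covering family, inverse to `toCech`. -/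
noncomputable def tcEquiv (F : Sheaf J AddCommGrpCat.{u}) :
    F.obj.obj (op U) ≃+ CohCx.cechH F.obj Y 0 :=
  AddEquiv.ofBijective (CechEdge.toCech Y F.obj) (toCech_bijective_of_isSheaf Y F.obj F.property hY)

lemma tcEquiv_apply (F : Sheaf J AddCommGrpCat.{u}) (s : F.obj.obj (op U)) :
    tcEquiv J Y hY F s = CechEdge.toCech Y F.obj s := rfl

lemma cechHMap_comp {P Q R : Cᵒᵖ ⥤ AddCommGrpCat.{u}} (φ : P ⟶ Q) (ψ : Q ⟶ R) (p : ℕ)
    (x : CohCx.cechH P Y p) :
    CechEdge.cechHMap Y (φ ≫ ψ) p x = CechEdge.cechHMap Y ψ p (CechEdge.cechHMap Y φ p x) := by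
  change (HomologicalComplex.homologyMap ((CechEdge.cxFunctor Y).map (φ ≫ ψ)) p).hom x = _
  rw [Functor.map_comp, HomologicalComplex.homologyMap_comp]
  rfl

/-- the degree-zero comparison, as an additive map -/
noncomputable def theta0Hom (P : Cᵒᵖ ⥤ AddCommGrpCat.{u}) :
    CohCx.cechH P Y 0 →+ Ext (CohCx.freeSheaf J U) (CechEdge.shf J P) 0 :=
  (CechEdge.sectH0 J U (CechEdge.shf J P)).toAddMonoidHom.comp
    ((tcEquiv J Y hY (CechEdge.shf J P)).symm.toAddMonoidHom.comp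
      (CechEdge.cechHMap Y (toSheafify J P) 0))

lemma theta0Hom_apply (P : Cᵒᵖ ⥤ AddCommGrpCat.{u}) (z : CohCx.cechH P Y 0) :
    theta0Hom J Y hY P z = CechEdge.sectH0 J U (CechEdge.shf J P)
      ((tcEquiv J Y hY (CechEdge.shf J P)).symm (CechEdge.cechHMap Y (toSheafify J P) 0 z)) := rfl

lemma theta0Hom_toCech (P : Cᵒᵖ ⥤ AddCommGrpCat.{u}) (s : P.obj (op U)) :
    theta0Hom J Y hY P (CechEdge.toCech Y P s) =
      CechEdge.sectH0 J U (CechEdge.shf J P) (((toSheafify J P).app (op U)).hom s) := by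
  rw [theta0Hom_apply, toCech_naturality, ← tcEquiv_apply J Y hY, AddEquiv.symm_apply_apply]

lemma theta0Hom_naturality {P Q : Cᵒᵖ ⥤ AddCommGrpCat.{u}} (φ : P ⟶ Q) (z : CohCx.cechH P Y 0) :
    theta0Hom J Y hY Q (CechEdge.cechHMap Y φ 0 z) =
      (theta0Hom J Y hY P z).comp (Ext.mk₀ (CechEdge.shfMap J φ)) (add_zero 0) := by
  rw [theta0Hom_apply, theta0Hom_apply, ← cechHMap_comp]
  have h1 : φ ≫ toSheafify J Q = toSheafify J P ≫ (CechEdge.shfMap J φ).hom :=
    toSheafify_naturality J φ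
  rw [h1, cechHMap_comp]
  obtain ⟨s, hs⟩ := (tcEquiv J Y hY (CechEdge.shf J P)).surjective
    (CechEdge.cechHMap Y (toSheafify J P) 0 z)
  rw [← hs, AddEquiv.symm_apply_apply, tcEquiv_apply, toCech_naturality, ← tcEquiv_apply J Y hY,
    AddEquiv.symm_apply_apply, sectH0_naturality, sectH0_eq]

end Groth.Agent.H7.CE
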