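import Mathlib
import Groth.Prelude.Def_CechEdge
import Groth.Agent.Lib.Helper7.CE5

/-! # CechEdge: existence of the edge family -/

universe u
open CategoryTheory Limits Opposite Abelian


namespace Groth.Agent.H7.CE

open Groth.Agent.LD.CH Groth.Agent.H8.LC

variable {C : Type u} [SmallCategory C] [HasPullbacks C] (J : GrothendieckTopology C) {U : C}
  {ι : Type u} (Y : ι → Over U)

/-- the target δ-functor -/
noncomputable abbrev SD (U : C) : DeltaFunctor (Cᵒᵖ ⥤ AddCommGrpCat.{u}) AddCommGrpCat.{u} :=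
  extDeltaGen (CohCx.freeSheaf J U) (presheafToSheaf J AddCommGrpCat.{u})

variable (hY : Sieve.ofArrows (fun i => (Y i).left) (fun i => (Y i).hom) ∈ J U)

/-- the degree-zero natural transformation -/
noncomputable def theta0 : (cechDelta Y).F 0 ⟶ (SD J U).F 0 where
  app P := AddCommGrpCat.ofHom (theta0Hom J Y hY P)
  naturality P Q φ := by
    ext z
    exact theta0Hom_naturality J Y hY φ z

/-- the edge family -/
noncomputable def edge (P : Cᵒᵖ ⥤ AddCommGrpCat.{u}) (p : ℕ) :
    CohCx.cechH P Y p →+ CohSite.HU (CechEdge.shf J P) p U :=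
  ((DeltaFunctor.ext (cechDelta_effaceable Y) (theta0 J Y hY) p).app P).hom


/-- a family of natural transformations gives the `natural` clause -/
lemma natural_of_nat (θ : ∀ n, (cechDelta Y).F n ⟶ (SD J U).F n)
    (P Q : Cᵒᵖ ⥤ AddCommGrpCat.{u}) (φ : P ⟶ Q) (p : ℕ) (x : CohCx.cechH P Y p) :
    ((θ p).app Q).hom (CechEdge.cechHMap Y φ p x) =
      CechEdge.HUmap (CechEdge.shfMap J φ) p U (((θ p).app P).hom x) :=
  ConcreteCategory.congr_hom ((θ p).naturality φ) x

/-- a morphism of δ-functors gives the `delta` clause -/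
lemma delta_of_isHom (θ : ∀ n, (cechDelta Y).F n ⟶ (SD J U).F n)
    (hθ : DeltaFunctor.IsHom (cechDelta Y) (SD J U) θ)
    (S : ShortComplex (Cᵒᵖ ⥤ AddCommGrpCat.{u})) (hS : S.ShortExact)
    (hC : (S.map (CechEdge.cxFunctor Y)).ShortExact) (p : ℕ) (x : CohCx.cechH S.X₃ Y p) :
    ((θ (p+1)).app S.X₁).hom ((hC.δ p (p + 1) rfl).hom x) =
      CechEdge.extδ (hS.map_of_exact (presheafToSheaf J AddCommGrpCat.{u})) U p
        (((θ p).app S.X₃).hom x) :=
  ConcreteCategory.congr_hom (hθ hS p) x

theorem edge_isEdge : CechEdge.IsEdge J Y (edge J Y hY) where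
  cover := hY
  zero P s := theta0Hom_toCech J Y hY P s
  natural P Q φ p x := natural_of_nat J Y _ P Q φ p x
  delta S hS hC p x := delta_of_isHom J Y _ (DeltaFunctor.ext_isHom (cechDelta_effaceable Y) (theta0 J Y hY)) S hS hC p x


section Unique

lemma HUmap_injective_of_isIso {F G : Sheaf J AddCommGrpCat.{u}} (ψ : F ⟶ G) [IsIso ψ] (p : ℕ) :
    Function.Injective (CechEdge.HUmap ψ p U) := by
  intro x y h
  have h1 : ((Sheaf.cohomologyPresheafFunctor J p).map ψ).app (op U) ≫
      ((Sheaf.cohomologyPresheafFunctor J p).map (inv ψ)).app (op U) = 𝟙 _ := by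
    rw [← NatTrans.comp_app, ← CategoryTheory.Functor.map_comp, IsIso.hom_inv_id,
      CategoryTheory.Functor.map_id]
    rfl
  have hx := ConcreteCategory.congr_hom h1 x
  have hy := ConcreteCategory.congr_hom h1 y
  rw [ConcreteCategory.comp_apply] at hx hy
  have h' : (((Sheaf.cohomologyPresheafFunctor J p).map ψ).app (op U)).hom x =
      (((Sheaf.cohomologyPresheafFunctor J p).map ψ).app (op U)).hom y := h
  exact hx.symm.trans ((congrArg _ h').trans hy)

instance isIso_shfMap_toSheafify (P : Cᵒᵖ ⥤ AddCommGrpCat.{u}) :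
    IsIso (CechEdge.shfMap J (toSheafify J P)) := by
  have h := (sheafificationAdjunction J AddCommGrpCat.{u}).left_triangle_components P
  have : IsIso ((sheafificationAdjunction J AddCommGrpCat.{u}).counit.app
      ((presheafToSheaf J AddCommGrpCat.{u}).obj P)) := inferInstance
  exact ⟨_, h, by
    rw [← cancel_mono ((sheafificationAdjunction J AddCommGrpCat.{u}).counit.app
      ((presheafToSheaf J AddCommGrpCat.{u}).obj P)), Category.assoc, Category.id_comp]
    erw [h, Category.comp_id]⟩

variable {J Y}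
variable {e e' : ∀ (P : Cᵒᵖ ⥤ AddCommGrpCat.{u}) (p : ℕ),
    CohCx.cechH P Y p →+ CohSite.HU (CechEdge.shf J P) p U}

/-- degree zero is determined -/
lemma edge_zero_unique (he : CechEdge.IsEdge J Y e) (he' : CechEdge.IsEdge J Y e')
    (P : Cᵒᵖ ⥤ AddCommGrpCat.{u}) (z : CohCx.cechH P Y 0) : e P 0 z = e' P 0 z := by
  apply HUmap_injective_of_isIso J (CechEdge.shfMap J (toSheafify J P)) 0
  rw [← he.natural, ← he'.natural]
  obtain ⟨s, hs⟩ := (toCech_bijective_of_isSheaf Y (CechEdge.shf J P).obj
    (CechEdge.shf J P).property he.cover).2 (CechEdge.cechHMap Y (toSheafify J P) 0 z)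
  rw [← hs, he.zero, he'.zero]

/-- from an edge family to natural transformations -/
noncomputable def natOfEdge (he : CechEdge.IsEdge J Y e) (n : ℕ) :
    (cechDelta Y).F n ⟶ (SD J U).F n where
  app P := AddCommGrpCat.ofHom (e P n)
  naturality P Q φ := by
    ext x
    exact he.natural P Q φ n x

lemma natOfEdge_isHom (he : CechEdge.IsEdge J Y e) :
    DeltaFunctor.IsHom (cechDelta Y) (SD J U) (natOfEdge he) := by
  intro A hA n
  ext x
  exact he.delta A hA (cx_shortExact Y hA) n x

theorem edge_unique (he : CechEdge.IsEdge J Y e) (he' : CechEdge.IsEdge J Y e') : e = e' := by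
  funext P p
  have h0 : natOfEdge he 0 = natOfEdge he' 0 := by
    ext P z
    exact edge_zero_unique he he' P z
  have h := DeltaFunctor.hom_ext (cechDelta_effaceable Y) (natOfEdge_isHom he)
    (natOfEdge_isHom he') h0 p
  have h2 : (natOfEdge he p).app P = (natOfEdge he' p).app P := by rw [h]
  exact congrArg AddCommGrpCat.Hom.hom h2

end Unique

end Groth.Agent.H7.CE
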