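import Mathlib
import Groth.Agent.Lib.Helper8.LC.Delta

/-! # Dimension-shifting step for a morphism of δ-functors with values in abelian groups -/

universe u v w
open CategoryTheory Limits

namespace Groth.Agent.H7.CE

open Groth.Agent.H8.LC

variable {B : Type u} [Category.{v} B] [Abelian B]
  {T S : DeltaFunctor B AddCommGrpCat.{w}} {θ : ∀ n, T.F n ⟶ S.F n}

lemma step_surjective (hθ : DeltaFunctor.IsHom T S θ) {A : ShortComplex B} (hA : A.ShortExact)
    (n : ℕ) (hS : IsZero ((S.F (n+1)).obj A.X₂))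
    (h3 : Function.Surjective ((θ n).app A.X₃)) :
    Function.Surjective ((θ (n+1)).app A.X₁) := by
  intro v
  have hex := S.exact₁ hA n
  rw [ShortComplex.ab_exact_iff] at hex
  haveI := AddCommGrpCat.subsingleton_of_isZero hS
  obtain ⟨u, hu⟩ := hex v (Subsingleton.elim _ _)
  obtain ⟨x, hx⟩ := h3 u
  refine ⟨T.δ hA n x, ?_⟩
  have := ConcreteCategory.congr_hom (hθ hA n) x
  rw [ConcreteCategory.comp_apply, ConcreteCategory.comp_apply] at this
  rw [this, hx]
  exact hu

lemma step_injective (hθ : DeltaFunctor.IsHom T S θ) {A : ShortComplex B} (hA : A.ShortExact)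
    (n : ℕ) (hT : IsZero ((T.F (n+1)).obj A.X₂))
    (h3 : Function.Injective ((θ n).app A.X₃))
    (h2 : Function.Surjective ((θ n).app A.X₂)) :
    Function.Injective ((θ (n+1)).app A.X₁) := by
  rw [injective_iff_map_eq_zero]
  intro y hy
  have hexT := T.exact₁ hA n
  rw [ShortComplex.ab_exact_iff] at hexT
  haveI := AddCommGrpCat.subsingleton_of_isZero hT
  obtain ⟨x, rfl⟩ := hexT y (Subsingleton.elim _ _)
  have h1 := ConcreteCategory.congr_hom (hθ hA n) x
  rw [ConcreteCategory.comp_apply, ConcreteCategory.comp_apply] at h1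
  have hexS := S.exact₃ hA n
  rw [ShortComplex.ab_exact_iff] at hexS
  obtain ⟨w, hw⟩ := hexS ((θ n).app A.X₃ x) (h1.symm.trans hy)
  obtain ⟨x', rfl⟩ := h2 w
  have h4 := ConcreteCategory.congr_hom ((θ n).naturality A.g) x'
  rw [ConcreteCategory.comp_apply, ConcreteCategory.comp_apply] at h4
  have h5 : x = (T.F n).map A.g x' := h3 (hw.symm.trans h4.symm)
  rw [h5]
  exact ConcreteCategory.congr_hom (T.map_comp_δ hA n) x'

end Groth.Agent.H7.CE
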