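import Mathlib
import Groth.Prelude.Def_CechEdge
import Groth.Agent.Lib.Helper7.CE6
import Groth.Agent.Lib.Helper7.CE7

/-! # CechEdge: the presheaf quotient of an injective sheaf by a subsheaf -/

universe u
open CategoryTheory Limits Opposite Abelian

namespace Groth.Agent.H7.CE

open Groth.Agent.LD.CH Groth.Agent.H8.LC

variable {C : Type u} [SmallCategory C] {J : GrothendieckTopology C}

lemma pmap_pmap (P : Cᵒᵖ ⥤ AddCommGrpCat.{u}) {X Y Z : C} (g : Z ⟶ Y) (f : Y ⟶ X) (s : P.obj (op X)) :
    P.map g.op (P.map f.op s) = P.map (g ≫ f).op s := by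
  rw [← ConcreteCategory.comp_apply, ← P.map_comp, ← op_comp]

section Separated

variable {S : ShortComplex (Cᵒᵖ ⥤ AddCommGrpCat.{u})} (hS : S.ShortExact)
  (h1 : Presheaf.IsSheaf J S.X₁) (h2 : Presheaf.IsSheaf J S.X₂)
include hS h1 h2

/-- the presheaf quotient of a sheaf by a subsheaf is separated -/
theorem toSheafify_app_injective (V : C) :
    Function.Injective ((toSheafify J S.X₃).app (op V)) := by
  rw [injective_iff_map_eq_zero]
  intro q hq
  obtain ⟨i, rfl⟩ := app_surjective hS (op V) q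
  have hmem : Presheaf.equalizerSieve (S.g.app (op V) i) 0 ∈ J V :=
    Presheaf.equalizerSieve_mem J (toSheafify J S.X₃) _ _ (hq.trans (map_zero _).symm)
  have h3 : ∀ (W : C) (f : W ⟶ V), (Presheaf.equalizerSieve (S.g.app (op V) i) 0).arrows f →
      ∃ p : S.X₁.obj (op W), S.f.app (op W) p = S.X₂.map f.op i := by
    intro W f hf
    apply app_exact hS
    have e1 : S.g.app (op W) (S.X₂.map f.op i) = S.X₃.map f.op (S.g.app (op V) i) :=
      ConcreteCategory.congr_hom (S.g.naturality f.op) i
    rw [e1]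
    exact hf.trans (map_zero _)
  choose p hp using h3
  have hsh1 : Presieve.IsSheaf J (S.X₁ ⋙ forget AddCommGrpCat.{u}) :=
    (isSheaf_iff_isSheaf_of_type J _).1
      ((Presheaf.isSheaf_iff_isSheaf_forget J S.X₁ (forget _)).1 h1)
  have hsh2 : Presieve.IsSheaf J (S.X₂ ⋙ forget AddCommGrpCat.{u}) :=
    (isSheaf_iff_isSheaf_of_type J _).1
      ((Presheaf.isSheaf_iff_isSheaf_forget J S.X₂ (forget _)).1 h2)
  let x : Presieve.FamilyOfElements (S.X₁ ⋙ forget AddCommGrpCat.{u})
      (Presheaf.equalizerSieve (S.g.app (op V) i) 0).arrows := fun W f hf => p W f hf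
  have hx : x.Compatible := by
    intro W₁ W₂ Z g₁ g₂ f₁ f₂ hf₁ hf₂ hcomm
    apply app_injective hS (op Z)
    change S.f.app (op Z) (S.X₁.map g₁.op (p W₁ f₁ hf₁)) = S.f.app (op Z) (S.X₁.map g₂.op (p W₂ f₂ hf₂))
    have n1 : S.f.app (op Z) (S.X₁.map g₁.op (p W₁ f₁ hf₁)) = S.X₂.map g₁.op (S.f.app (op W₁) (p W₁ f₁ hf₁)) :=
      (ConcreteCategory.congr_hom (S.f.naturality g₁.op) _)
    have n2 : S.f.app (op Z) (S.X₁.map g₂.op (p W₂ f₂ hf₂)) = S.X₂.map g₂.op (S.f.app (op W₂) (p W₂ f₂ hf₂)) :=
      (ConcreteCategory.congr_hom (S.f.naturality g₂.op) _)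
    rw [n1, n2, hp, hp, pmap_pmap, pmap_pmap, hcomm]
  let t : S.X₁.obj (op V) := (hsh1 _ hmem).amalgamate x hx
  have ht : ∀ (W : C) (f : W ⟶ V) (hf : (Presheaf.equalizerSieve (S.g.app (op V) i) 0).arrows f),
      S.X₁.map f.op t = p W f hf := fun W f hf => (hsh1 _ hmem).valid_glue hx f hf
  have hti : S.f.app (op V) t = i := by
    apply (hsh2 _ hmem).isSeparatedFor.ext
    intro W f hf
    change S.X₂.map f.op (S.f.app (op V) t) = S.X₂.map f.op i
    have n1 : S.f.app (op W) (S.X₁.map f.op t) = S.X₂.map f.op (S.f.app (op V) t) :=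
      (ConcreteCategory.congr_hom (S.f.naturality f.op) _)
    rw [← n1, ht W f hf, hp]
  rw [← hti]
  exact ConcreteCategory.congr_hom (NatTrans.congr_app S.zero (op V)) t

end Separated


section SesP

variable (F : Sheaf J AddCommGrpCat.{u})

/-- the embedding of (the underlying presheaf of) `F` into an injective sheaf -/
noncomputable abbrev ιP : F.obj ⟶ (Injective.under F).obj := (Injective.ι F).hom

instance : Mono (ιP F) :=
  inferInstanceAs (Mono ((sheafToPresheaf J AddCommGrpCat.{u}).map (Injective.ι F)))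

/-- `0 ⟶ F ⟶ I ⟶ I/F ⟶ 0` with the presheaf quotient -/
noncomputable abbrev sesP : ShortComplex (Cᵒᵖ ⥤ AddCommGrpCat.{u}) :=
  ShortComplex.mk (ιP F) (cokernel.π (ιP F)) (cokernel.condition _)

lemma sesP_shortExact : (sesP F).ShortExact where
  exact := ShortComplex.exact_of_g_is_cokernel _ (cokernelIsCokernel _)
  mono_f := by dsimp [sesP]; infer_instance
  epi_g := by dsimp [sesP]; infer_instance

instance : Injective (sesP F).X₂ := injective_obj J (Injective.under F)

lemma sesP_toSheafify_app_injective (V : C) :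
    Function.Injective ((toSheafify J (sesP F).X₃).app (op V)) :=
  toSheafify_app_injective (sesP_shortExact F) F.property (Injective.under F).property V


variable (J) in
lemma injective_shf (I : Sheaf J AddCommGrpCat.{u}) [Injective I] :
    Injective (CechEdge.shf J I.obj) :=
  Injective.of_iso (asIso ((sheafificationAdjunction J AddCommGrpCat.{u}).counit.app I)).symm
    inferInstance

lemma isZero_SD_injective (V : C) (I : Sheaf J AddCommGrpCat.{u}) [Injective I] (n : ℕ) :
    IsZero (((SD J V).F (n+1)).obj I.obj) := by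
  haveI := injective_shf J I
  haveI : Subsingleton (Ext (CohCx.freeSheaf J V) (CechEdge.shf J I.obj) (n+1)) :=
    subsingleton_of_forall_eq 0 fun x => Ext.eq_zero_of_injective x
  exact AddCommGrpCat.isZero_of_subsingleton
    (AddCommGrpCat.of (Ext (CohCx.freeSheaf J V) (CechEdge.shf J I.obj) (n+1)))

lemma isZero_SD_sesP (V : C) (n : ℕ) : IsZero (((SD J V).F (n+1)).obj (sesP F).X₂) :=
  isZero_SD_injective V (Injective.under F) n

lemma isZero_cech_sesP [HasPullbacks C] {U : C} {ι : Type u} (Y : ι → Over U) (n : ℕ) :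
    IsZero (((cechDelta Y).F (n+1)).obj (sesP F).X₂) :=
  isZero_homology_over_of_injective Y (sesP F).X₂ n

lemma subsingleton_shf_of_subsingleton [HasPullbacks C] (V : C) (n : ℕ)
    (h : Subsingleton (CohSite.HU F n V)) :
    Subsingleton (Ext (CohCx.freeSheaf J V) (CechEdge.shf J F.obj) n) :=
  have : Subsingleton (CohSite.HU ((𝟭 (Sheaf J AddCommGrpCat)).obj F) n V) := h
  (HUmap_injective_of_isIso J
    ((sheafificationAdjunction J AddCommGrpCat.{u}).counit.app F) n).subsingleton

lemma subsingleton_Q [HasPullbacks C] (V : C) (q : ℕ) (h : Subsingleton (CohSite.HU F (q+2) V)) :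
    Subsingleton (CohSite.HU (CechEdge.shf J (sesP F).X₃) (q+1) V) := by
  haveI := subsingleton_shf_of_subsingleton F V (q+2) h
  refine subsingleton_of_forall_eq 0 fun x => ?_
  have hex := (SD J V).exact₃ (sesP_shortExact F) (q+1)
  rw [ShortComplex.ab_exact_iff] at hex
  obtain ⟨w, hw⟩ := hex x (Subsingleton.elim (α := Ext (CohCx.freeSheaf J V) (CechEdge.shf J F.obj) (q+2)) _ _)
  haveI := AddCommGrpCat.subsingleton_of_isZero (isZero_SD_sesP F V q)
  rw [← hw, Subsingleton.elim w 0, map_zero]
  rfl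


/-- if `H¹(V, F) = 0`, sections of the sheafified quotient over `V` come from the presheaf quotient -/
lemma sesP_toSheafify_app_surjective [HasPullbacks C] (V : C)
    (h : Subsingleton (CohSite.HU F 1 V)) :
    Function.Surjective ((toSheafify J (sesP F).X₃).app (op V)) := by
  haveI := subsingleton_shf_of_subsingleton F V 1 h
  intro t
  have hex := (SD J V).exact₃ (sesP_shortExact F) 0
  rw [ShortComplex.ab_exact_iff] at hex
  obtain ⟨w, hw⟩ := hex (CechEdge.sectH0 J V (CechEdge.shf J (sesP F).X₃) t)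
    (Subsingleton.elim (α := Ext (CohCx.freeSheaf J V) (CechEdge.shf J F.obj) 1) _ _)
  obtain ⟨r, hr⟩ := (CechEdge.sectH0 J V (CechEdge.shf J (sesP F).X₂)).surjective w
  haveI : IsIso (toSheafify J (sesP F).X₂) := isIso_toSheafify J (Injective.under F).property
  obtain ⟨r₀, hr₀⟩ := (ConcreteCategory.bijective_of_isIso
    ((toSheafify J (sesP F).X₂).app (op V))).2 r
  refine ⟨(sesP F).g.app (op V) r₀, ?_⟩
  apply (CechEdge.sectH0 J V (CechEdge.shf J (sesP F).X₃)).injective
  have e1 : (toSheafify J (sesP F).X₃).app (op V) ((sesP F).g.app (op V) r₀) =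
      (CechEdge.shfMap J (sesP F).g).hom.app (op V) ((toSheafify J (sesP F).X₂).app (op V) r₀) :=
    ConcreteCategory.congr_hom (NatTrans.congr_app (toSheafify_naturality J (sesP F).g) (op V)) r₀
  rw [e1, hr₀, sectH0_naturality, ← sectH0_eq, hr]
  exact hw

end SesP

section CechIso

variable [HasPullbacks C] {U : C} {ι : Type u} (Y : ι → Over U)
  {P Q : Cᵒᵖ ⥤ AddCommGrpCat.{u}} (φ : P ⟶ Q)

lemma cxMap_f_injective (n : ℕ)
    (h : ∀ a : Fin (n+1) → ι, Function.Injective (φ.app (op (∏ᶜ (Y ∘ a)).left))) :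
    Function.Injective (((CechEdge.cxFunctor Y).map φ).f n) := by
  intro x x' hx
  apply coch_ext
  intro a
  apply h a
  have h1 := coch_cxMap Y φ n x a
  have h2 := coch_cxMap Y φ n x' a
  exact h1.symm.trans ((congrArg (fun z => coch Y (resOver U Q) n z a) hx).trans h2)

lemma cxMap_f_surjective (n : ℕ)
    (h : ∀ a : Fin (n+1) → ι, Function.Surjective (φ.app (op (∏ᶜ (Y ∘ a)).left))) :
    Function.Surjective (((CechEdge.cxFunctor Y).map φ).f n) := by
  intro z
  have h1 : ∀ a, ∃ y : P.obj (op (∏ᶜ (Y ∘ a)).left),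
      φ.app _ y = coch Y (resOver U Q) n z a := fun a => h a _
  choose y hy using h1
  refine ⟨(coch Y (resOver U P) n).symm y, ?_⟩
  apply coch_ext
  intro a
  have := coch_cxMap Y φ n ((coch Y (resOver U P) n).symm y) a
  rw [AddEquiv.apply_symm_apply] at this
  exact this.trans (hy a)

/-- a morphism of presheaves that is bijective on all fibre products induces a bijection on Čech
cohomology -/
theorem cechHMap_bijective
    (h : ∀ (n : ℕ) (a : Fin (n+1) → ι), Function.Bijective (φ.app (op (∏ᶜ (Y ∘ a)).left)))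
    (p : ℕ) : Function.Bijective (CechEdge.cechHMap Y φ p) := by
  haveI : ∀ n, IsIso (((CechEdge.cxFunctor Y).map φ).f n) := fun n =>
    (ConcreteCategory.isIso_iff_bijective _).2
      ⟨cxMap_f_injective Y φ n (fun a => (h n a).1), cxMap_f_surjective Y φ n (fun a => (h n a).2)⟩
  haveI : IsIso ((CechEdge.cxFunctor Y).map φ) := HomologicalComplex.Hom.isIso_of_components _
  exact ConcreteCategory.bijective_of_isIso
    (HomologicalComplex.homologyMap ((CechEdge.cxFunctor Y).map φ) p)

/-- injectivity in degree zero -/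
theorem cechHMap_zero_injective
    (h : ∀ (a : Fin 1 → ι), Function.Injective (φ.app (op (∏ᶜ (Y ∘ a)).left))) :
    Function.Injective (CechEdge.cechHMap Y φ 0) := by
  haveI : Mono (((CechEdge.cxFunctor Y).map φ).f 0) :=
    (AddCommGrpCat.mono_iff_injective _).2 (cxMap_f_injective Y φ 0 h)
  haveI := HomologicalComplex.mono_homologyMap_of_mono_of_not_rel
    ((CechEdge.cxFunctor Y).map φ) 0 (by simp)
  exact (AddCommGrpCat.mono_iff_injective _).1 inferInstance

end CechIso

end Groth.Agent.H7.CE
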