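import Mathlib
import Groth.Prelude.Def_CechEdge
import Groth.Agent.Lib.Helper7.CE8

/-! # CechEdge: Leray's theorem for the edge maps, injectivity in degree one -/

universe u
open CategoryTheory Limits Opposite Abelian

namespace Groth.Agent.H7.CE

open Groth.Agent.LD.CH Groth.Agent.H8.LC

variable {C : Type u} [SmallCategory C] [HasPullbacks C] {J : GrothendieckTopology C} {U : C}
  {ι : Type u} {Y : ι → Over U}

lemma HUmap_bijective_of_isIso {F G : Sheaf J AddCommGrpCat.{u}} (ψ : F ⟶ G) [IsIso ψ] (p : ℕ) :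
    Function.Bijective (CechEdge.HUmap ψ p U) := by
  refine ⟨HUmap_injective_of_isIso J ψ p, fun y => ?_⟩
  have h1 : ((Sheaf.cohomologyPresheafFunctor J p).map (inv ψ)).app (op U) ≫
      ((Sheaf.cohomologyPresheafFunctor J p).map ψ).app (op U) = 𝟙 _ := by
    rw [← NatTrans.comp_app, ← CategoryTheory.Functor.map_comp, IsIso.inv_hom_id,
      CategoryTheory.Functor.map_id]
    rfl
  have hy := ConcreteCategory.congr_hom h1 y
  rw [ConcreteCategory.comp_apply] at hy
  exact ⟨_, hy⟩

variable {e : ∀ (P : Cᵒᵖ ⥤ AddCommGrpCat.{u}) (p : ℕ),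
    CohCx.cechH P Y p →+ CohSite.HU (CechEdge.shf J P) p U}

lemma e_zero_eq (he : CechEdge.IsEdge J Y e)
    (hY : Sieve.ofArrows (fun i => (Y i).left) (fun i => (Y i).hom) ∈ J U)
    (P : Cᵒᵖ ⥤ AddCommGrpCat.{u}) (z : CohCx.cechH P Y 0) :
    e P 0 z = theta0Hom J Y hY P z := by
  have h := edge_unique he (edge_isEdge J Y hY)
  have h2 : e P 0 z = edge J Y hY P 0 z := by rw [h]
  exact h2

lemma theta0Hom_injective (hY : Sieve.ofArrows (fun i => (Y i).left) (fun i => (Y i).hom) ∈ J U)
    (P : Cᵒᵖ ⥤ AddCommGrpCat.{u})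
    (h : Function.Injective (CechEdge.cechHMap Y (toSheafify J P) 0)) :
    Function.Injective (theta0Hom J Y hY P) := by
  intro x y hxy
  rw [theta0Hom_apply, theta0Hom_apply] at hxy
  exact h ((tcEquiv J Y hY (CechEdge.shf J P)).symm.injective
    ((CechEdge.sectH0 J U (CechEdge.shf J P)).injective hxy))

lemma theta0Hom_surjective (hY : Sieve.ofArrows (fun i => (Y i).left) (fun i => (Y i).hom) ∈ J U)
    (P : Cᵒᵖ ⥤ AddCommGrpCat.{u})
    (h : Function.Surjective (CechEdge.cechHMap Y (toSheafify J P) 0)) :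
    Function.Surjective (theta0Hom J Y hY P) := by
  intro w
  obtain ⟨t, rfl⟩ := (CechEdge.sectH0 J U (CechEdge.shf J P)).surjective w
  obtain ⟨z, rfl⟩ := (tcEquiv J Y hY (CechEdge.shf J P)).symm.surjective t
  obtain ⟨x, rfl⟩ := h z
  exact ⟨x, rfl⟩

lemma e_zero_bijective_of_sheaf (he : CechEdge.IsEdge J Y e) (F : Sheaf J AddCommGrpCat.{u}) :
    Function.Bijective (e F.obj 0) := by
  haveI : IsIso (toSheafify J F.obj) := isIso_toSheafify J F.property
  have hb : Function.Bijective (CechEdge.cechHMap Y (toSheafify J F.obj) 0) :=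
    cechHMap_bijective Y _ (fun n a => ConcreteCategory.bijective_of_isIso
      ((toSheafify J F.obj).app (op (∏ᶜ (Y ∘ a)).left))) 0
  constructor
  · intro x y hxy
    rw [e_zero_eq he he.cover, e_zero_eq he he.cover] at hxy
    exact theta0Hom_injective he.cover _ hb.1 hxy
  · intro w
    obtain ⟨x, hx⟩ := theta0Hom_surjective he.cover _ hb.2 w
    exact ⟨x, (e_zero_eq he he.cover _ x).trans hx⟩

/-- transfer of bijectivity from the sheafification to the presheaf -/
lemma e_bijective_of_shf (he : CechEdge.IsEdge J Y e) (P : Cᵒᵖ ⥤ AddCommGrpCat.{u}) (p : ℕ)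
    (h1 : Function.Bijective (CechEdge.cechHMap Y (toSheafify J P) p))
    (h2 : Function.Bijective (e (CechEdge.shf J P).obj p)) :
    Function.Bijective (e P p) := by
  have hnat := he.natural P (CechEdge.shf J P).obj (toSheafify J P) p
  have hb := HUmap_bijective_of_isIso (U := U) (CechEdge.shfMap J (toSheafify J P)) p
  constructor
  · intro x y hxy
    apply h1.1
    apply h2.1
    rw [hnat, hnat, hxy]
  · intro w
    obtain ⟨z, hz⟩ := h2.2 (CechEdge.HUmap (CechEdge.shfMap J (toSheafify J P)) p U w)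
    obtain ⟨x, rfl⟩ := h1.2 z
    refine ⟨x, hb.1 ?_⟩
    rw [← hnat, hz]

lemma e_zero_injective_of_shf (he : CechEdge.IsEdge J Y e) (P : Cᵒᵖ ⥤ AddCommGrpCat.{u})
    (h1 : Function.Injective (CechEdge.cechHMap Y (toSheafify J P) 0)) :
    Function.Injective (e P 0) := by
  intro x y hxy
  rw [e_zero_eq he he.cover, e_zero_eq he he.cover] at hxy
  exact theta0Hom_injective he.cover _ h1 hxy


/-- the acyclicity hypothesis of Leray's theorem -/
def Acyc (Y : ι → Over U) (F : Sheaf J AddCommGrpCat.{u}) : Prop :=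
  ∀ (p : ℕ) (a : Fin (p + 1) → ι) (q : ℕ),
    Subsingleton (CohSite.HU F (q + 1) (∏ᶜ (Y ∘ a)).left)

lemma acyc_Q (F : Sheaf J AddCommGrpCat.{u}) (hF : Acyc Y F) :
    Acyc Y (CechEdge.shf J (sesP F).X₃) :=
  fun p a q => subsingleton_Q F _ q (hF p a (q+1))

lemma cechHMap_toSheafify_Q_bijective (F : Sheaf J AddCommGrpCat.{u}) (hF : Acyc Y F) (p : ℕ) :
    Function.Bijective (CechEdge.cechHMap Y (toSheafify J (sesP F).X₃) p) :=
  cechHMap_bijective Y _ (fun n a =>
    ⟨sesP_toSheafify_app_injective F _, sesP_toSheafify_app_surjective F _ (hF n a 0)⟩) p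

theorem e_bijective (he : CechEdge.IsEdge J Y e) :
    ∀ (p : ℕ) (F : Sheaf J AddCommGrpCat.{u}), Acyc Y F → Function.Bijective (e F.obj p)
  | 0, F, _ => e_zero_bijective_of_sheaf he F
  | p + 1, F, hF => by
    have hQ : Function.Bijective (e (sesP F).X₃ p) :=
      e_bijective_of_shf he _ p (cechHMap_toSheafify_Q_bijective F hF p)
        (e_bijective he p (CechEdge.shf J (sesP F).X₃) (acyc_Q F hF))
    have hI : Function.Surjective (e (sesP F).X₂ p) := by
      cases p with
      | zero => exact (e_zero_bijective_of_sheaf he (Injective.under F)).2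
      | succ p =>
        intro w
        haveI := AddCommGrpCat.subsingleton_of_isZero (isZero_SD_sesP F U p)
        exact ⟨0, Subsingleton.elim (α := ((SD J U).F (p+1)).obj (sesP F).X₂) _ _⟩
    constructor
    · exact step_injective (natOfEdge_isHom he) (sesP_shortExact F) p (isZero_cech_sesP F Y p)
        hQ.1 hI
    · exact step_surjective (natOfEdge_isHom he) (sesP_shortExact F) p (isZero_SD_sesP F U p) hQ.2

theorem e_one_injective (he : CechEdge.IsEdge J Y e) (F : Sheaf J AddCommGrpCat.{u}) :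
    Function.Injective (e F.obj 1) := by
  have hQ : Function.Injective (e (sesP F).X₃ 0) :=
    e_zero_injective_of_shf he _ (cechHMap_zero_injective Y _
      (fun a => sesP_toSheafify_app_injective F _))
  exact step_injective (natOfEdge_isHom he) (sesP_shortExact F) 0 (isZero_cech_sesP F Y 0)
    hQ (e_zero_bijective_of_sheaf he (Injective.under F)).2

theorem edgeSh_bijective (he : CechEdge.IsEdge J Y e) (F : Sheaf J AddCommGrpCat.{u})
    (hF : Acyc Y F) (p : ℕ) : Function.Bijective (CechEdge.edgeSh e F p) :=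
  (HUmap_bijective_of_isIso ((sheafificationAdjunction J AddCommGrpCat.{u}).counit.app F) p).comp
    (e_bijective he p F hF)

theorem edgeSh_one_injective (he : CechEdge.IsEdge J Y e) (F : Sheaf J AddCommGrpCat.{u}) :
    Function.Injective (CechEdge.edgeSh e F 1) :=
  (HUmap_bijective_of_isIso ((sheafificationAdjunction J AddCommGrpCat.{u}).counit.app F) 1).1.comp
    (e_one_injective he F)

end Groth.Agent.H7.CE
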