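import Mathlib
import Groth.Prelude.Def_CechEdge
import Groth.Agent.Lib.Helper7.CE9

/-! # CechEdge: compatibility with refinement -/

universe u
open CategoryTheory Limits Opposite Abelian

namespace Groth.Agent.H7.CE

open Groth.Agent.LD.CH Groth.Agent.H8.LC

variable {C : Type u} [SmallCategory C] [HasPullbacks C] {U : C}
  {ι κ : Type u} (Y : ι → Over U) (Y' : κ → Over U)
  (f : FormalCoproduct.mk ι Y ⟶ FormalCoproduct.mk κ Y')

/-- refinement as a natural transformation of Čech complex functors -/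
noncomputable def refineNat : CechEdge.cxFunctor Y' ⟶ CechEdge.cxFunctor Y :=
  Functor.whiskerLeft ((Functor.whiskeringLeft (Over U)ᵒᵖ Cᵒᵖ AddCommGrpCat.{u}).obj (Over.forget U).op ⋙
      FormalCoproduct.evalOp.{u} (Over U) AddCommGrpCat.{u})
    (Functor.whiskerRight ((Functor.whiskeringLeft _ _ _).map
      (NatTrans.rightOp (FormalCoproduct.cechFunctor.map f)))
      (AlgebraicTopology.alternatingCofaceMapComplex AddCommGrpCat.{u}))

lemma refineNat_app (P : Cᵒᵖ ⥤ AddCommGrpCat.{u}) :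
    (refineNat Y Y' f).app P = CohCx.cechRefine P f := rfl


/-- the refinement map with the prelude's complexes as source and target -/
noncomputable abbrev ref (P : Cᵒᵖ ⥤ AddCommGrpCat.{u}) : CechEdge.cx P Y' ⟶ CechEdge.cx P Y :=
  (refineNat Y Y' f).app P

lemma toCech₀_refine (P : Cᵒᵖ ⥤ AddCommGrpCat.{u}) :
    CechEdge.toCech₀ P Y' ≫ (ref Y Y' f P).f 0 = CechEdge.toCech₀ P Y := by
  change CechEdge.toCech₀ P Y' ≫
    ((FormalCoproduct.evalOp.{u} (Over U) AddCommGrpCat.{u}).obj ((Over.forget U).op ⋙ P)).map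
      (((FormalCoproduct.cechFunctor.map f).app (op (SimplexCategory.mk 0))).op) = _
  rw [FormalCoproduct.evalOp_obj_map]
  apply Pi.hom_ext
  intro i
  erw [Category.assoc, Pi.lift_π, Pi.lift_π, Pi.lift_π_assoc]
  change P.map _ ≫ P.map _ = P.map _
  rw [← P.map_comp]
  congr 1
  exact congrArg Quiver.Hom.op
    (Over.w (((FormalCoproduct.cechFunctor.map f).app (op (SimplexCategory.mk 0))).φ i))

lemma refine_toCech (P : Cᵒᵖ ⥤ AddCommGrpCat.{u}) (s : P.obj (op U)) :
    (HomologicalComplex.homologyMap (ref Y Y' f P) 0).hom (CechEdge.toCech Y' P s) =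
      CechEdge.toCech Y P s := by
  have h1 : (CechEdge.cx P Y').homologyπ 0 ≫
      HomologicalComplex.homologyMap (ref Y Y' f P) 0 =
      HomologicalComplex.cyclesMap (ref Y Y' f P) 0 ≫
        (CechEdge.cx P Y).homologyπ 0 := HomologicalComplex.homologyπ_naturality _ 0
  have h2 : CechEdge.toCycles P Y' ≫ HomologicalComplex.cyclesMap (ref Y Y' f P) 0 =
      CechEdge.toCycles P Y := by
    rw [← cancel_mono ((CechEdge.cx P Y).iCycles 0), Category.assoc]
    have h3 : HomologicalComplex.cyclesMap (ref Y Y' f P) 0 ≫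
        (CechEdge.cx P Y).iCycles 0 = (CechEdge.cx P Y').iCycles 0 ≫
          (ref Y Y' f P).f 0 := HomologicalComplex.cyclesMap_i _ 0
    rw [h3, CechEdge.toCycles_i, ← Category.assoc, CechEdge.toCycles_i, toCech₀_refine]
  have e1 := ConcreteCategory.congr_hom h1 (CechEdge.toCycles P Y' s)
  have e2 := ConcreteCategory.congr_hom h2 s
  rw [ConcreteCategory.comp_apply, ConcreteCategory.comp_apply] at e1
  rw [ConcreteCategory.comp_apply] at e2
  rw [toCech_eq, toCech_eq, ← e2]
  exact e1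

lemma refine_natural {P Q : Cᵒᵖ ⥤ AddCommGrpCat.{u}} (φ : P ⟶ Q) (p : ℕ)
    (x : CohCx.cechH P Y' p) :
    (HomologicalComplex.homologyMap (ref Y Y' f Q) p).hom (CechEdge.cechHMap Y' φ p x) =
      CechEdge.cechHMap Y φ p ((HomologicalComplex.homologyMap (ref Y Y' f P) p).hom x) := by
  have h : (CechEdge.cxFunctor Y').map φ ≫ ref Y Y' f Q =
      ref Y Y' f P ≫ (CechEdge.cxFunctor Y).map φ := (refineNat Y Y' f).naturality φ
  have h2 : HomologicalComplex.homologyMap ((CechEdge.cxFunctor Y').map φ) p ≫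
      HomologicalComplex.homologyMap (ref Y Y' f Q) p =
      HomologicalComplex.homologyMap (ref Y Y' f P) p ≫
        HomologicalComplex.homologyMap ((CechEdge.cxFunctor Y).map φ) p := by
    rw [← HomologicalComplex.homologyMap_comp, ← HomologicalComplex.homologyMap_comp, h]
  exact ConcreteCategory.congr_hom h2 x

lemma refine_delta (S : ShortComplex (Cᵒᵖ ⥤ AddCommGrpCat.{u}))
    (hC' : (S.map (CechEdge.cxFunctor Y')).ShortExact)
    (hC : (S.map (CechEdge.cxFunctor Y)).ShortExact) (p : ℕ) (x : CohCx.cechH S.X₃ Y' p) :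
    (HomologicalComplex.homologyMap (ref Y Y' f S.X₁) (p+1)).hom
        ((hC'.δ p (p + 1) rfl).hom x) =
      (hC.δ p (p + 1) rfl).hom
        ((HomologicalComplex.homologyMap (ref Y Y' f S.X₃) p).hom x) := by
  have h := HomologicalComplex.HomologySequence.δ_naturality
    (S.mapNatTrans (refineNat Y Y' f)) hC' hC p (p+1) rfl
  exact ConcreteCategory.congr_hom h x

variable {J : GrothendieckTopology C}

/-- the family obtained by composing with refinement -/
noncomputable def eRef (e : ∀ (P : Cᵒᵖ ⥤ AddCommGrpCat.{u}) (p : ℕ),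
    CohCx.cechH P Y p →+ CohSite.HU (CechEdge.shf J P) p U)
    (P : Cᵒᵖ ⥤ AddCommGrpCat.{u}) (p : ℕ) :
    CohCx.cechH P Y' p →+ CohSite.HU (CechEdge.shf J P) p U :=
  (e P p).comp (HomologicalComplex.homologyMap (ref Y Y' f P) p).hom

lemma eRef_apply (e : ∀ (P : Cᵒᵖ ⥤ AddCommGrpCat.{u}) (p : ℕ),
    CohCx.cechH P Y p →+ CohSite.HU (CechEdge.shf J P) p U)
    (P : Cᵒᵖ ⥤ AddCommGrpCat.{u}) (p : ℕ) (x : CohCx.cechH P Y' p) :
    eRef Y Y' f e P p x = e P p ((HomologicalComplex.homologyMap (ref Y Y' f P) p).hom x) := rfl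

theorem eRef_isEdge {e : ∀ (P : Cᵒᵖ ⥤ AddCommGrpCat.{u}) (p : ℕ),
    CohCx.cechH P Y p →+ CohSite.HU (CechEdge.shf J P) p U} (he : CechEdge.IsEdge J Y e)
    (hY' : Sieve.ofArrows (fun i => (Y' i).left) (fun i => (Y' i).hom) ∈ J U) :
    CechEdge.IsEdge J Y' (eRef Y Y' f e) where
  cover := hY'
  zero P s := by
    rw [eRef_apply, refine_toCech, he.zero]
  natural P Q φ p x := by
    rw [eRef_apply, eRef_apply, refine_natural, he.natural]
  delta S hS hC' p x := by
    rw [eRef_apply, eRef_apply, refine_delta Y Y' f S hC' (cx_shortExact Y hS)]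
    exact he.delta S hS (cx_shortExact Y hS) p _

theorem edgeSh_refine {e : ∀ (P : Cᵒᵖ ⥤ AddCommGrpCat.{u}) (p : ℕ),
    CohCx.cechH P Y p →+ CohSite.HU (CechEdge.shf J P) p U}
    {e' : ∀ (P : Cᵒᵖ ⥤ AddCommGrpCat.{u}) (p : ℕ),
    CohCx.cechH P Y' p →+ CohSite.HU (CechEdge.shf J P) p U}
    (he : CechEdge.IsEdge J Y e) (he' : CechEdge.IsEdge J Y' e')
    (F : Sheaf J AddCommGrpCat.{u}) (p : ℕ) (x : CohCx.cechH F.obj Y' p) :
    CechEdge.edgeSh e F p ((HomologicalComplex.homologyMap (CohCx.cechRefine F.obj f) p).hom x) =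
      CechEdge.edgeSh e' F p x := by
  have h := edge_unique (eRef_isEdge Y Y' f he he'.cover) he'
  rw [← h]
  rfl

end Groth.Agent.H7.CE
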