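import Mathlib
import Groth.Prelude.Def_CechEdge
import Groth.Agent.Lib.Helper7.CE10

/-! # Two refinement morphisms induce the same maps on Čech cohomology -/

universe u
open CategoryTheory Limits Opposite Abelian

namespace Groth.Agent.H7.CE

open Groth.Agent.LD.CH Groth.Agent.H8.LC

variable {C : Type u} [SmallCategory C] [HasPullbacks C] {U : C}
  {ι κ : Type u} (Y : ι → Over U) (Y' : κ → Over U)
  (f g : FormalCoproduct.mk ι Y ⟶ FormalCoproduct.mk κ Y')

/-- the refinement map on concrete cochains -/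
lemma coch_ref (P : Cᵒᵖ ⥤ AddCommGrpCat.{u}) (n : ℕ) (x : (CechEdge.cx P Y').X n)
    (i : Fin (n+1) → ι) :
    coch Y (resOver U P) n ((ref Y Y' f P).f n x) i =
      P.map (Limits.Pi.map (fun a => f.φ (i a)) : ∏ᶜ (Y ∘ i) ⟶ ∏ᶜ (Y' ∘ (f.f ∘ i))).left.op
        (coch Y' (resOver U P) n x (f.f ∘ i)) := by
  rw [coch_apply, coch_apply]
  have h : (ref Y Y' f P).f n ≫
      Pi.π (fun (a : Fin (n+1) → ι) => (resOver U P).obj (op (∏ᶜ (Y ∘ a)))) i =
      Pi.π (fun (a : Fin (n+1) → κ) => (resOver U P).obj (op (∏ᶜ (Y' ∘ a)))) (f.f ∘ i) ≫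
        P.map (Limits.Pi.map (fun a => f.φ (i a)) : ∏ᶜ (Y ∘ i) ⟶ ∏ᶜ (Y' ∘ (f.f ∘ i))).left.op := by
    change ((FormalCoproduct.evalOp.{u} (Over U) AddCommGrpCat.{u}).obj ((Over.forget U).op ⋙ P)).map
      (((FormalCoproduct.cechFunctor.map f).app (op (SimplexCategory.mk n))).op) ≫ _ = _
    rw [FormalCoproduct.evalOp_obj_map]
    erw [Pi.lift_π]
    rfl
  exact ConcreteCategory.congr_hom h x


lemma ref_zero_eq_of_cocycle (P : Cᵒᵖ ⥤ AddCommGrpCat.{u}) (x : (CechEdge.cx P Y').X 0)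
    (hx : (CechEdge.cx P Y').d 0 1 x = 0) :
    (ref Y Y' f P).f 0 x = (ref Y Y' g P).f 0 x := by
  apply coch_ext
  intro i
  rw [coch_ref, coch_ref]
  let c := coch Y' (resOver U P) 0 x
  let a : Fin 2 → κ := ![f.f (i 0), g.f (i 0)]
  let mf : ∏ᶜ (Y ∘ i) ⟶ Y' (f.f (i 0)) := Pi.π (Y ∘ i) 0 ≫ f.φ (i 0)
  let mg : ∏ᶜ (Y ∘ i) ⟶ Y' (g.f (i 0)) := Pi.π (Y ∘ i) 0 ≫ g.φ (i 0)
  let m : ∏ᶜ (Y ∘ i) ⟶ ∏ᶜ (Y' ∘ a) := Pi.lift (fun k => by
    refine Fin.cases mf (fun k' => ?_) k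
    exact (Fin.cases mg (fun k'' => k''.elim0) k'))
  have hm0 : m ≫ Pi.π (Y' ∘ a) 0 = mf := Pi.lift_π _ _
  have hm1 : m ≫ Pi.π (Y' ∘ a) 1 = mg := Pi.lift_π _ _
  have h0 := coch_d_zeroO Y' P x a
  rw [hx, map_zero] at h0
  have h0' : P.map (face Y' a 0).left.op (c (a ∘ Fin.succAbove 0)) =
      P.map (face Y' a 1).left.op (c (a ∘ Fin.succAbove 1)) := sub_eq_zero.1 h0.symm
  have e1 : a ∘ Fin.succAbove 0 = g.f ∘ i := by
    funext k; fin_cases k; rfl
  have e2 : a ∘ Fin.succAbove 1 = f.f ∘ i := by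
    funext k; fin_cases k; rfl
  have hL : P.map m.left.op (P.map (face Y' a 0).left.op (c (a ∘ Fin.succAbove 0))) =
      P.map (Limits.Pi.map (fun a => g.φ (i a)) : ∏ᶜ (Y ∘ i) ⟶ ∏ᶜ (Y' ∘ (g.f ∘ i))).left.op
        (c (g.f ∘ i)) := by
    rw [resO_res P _ _ (m ≫ face Y' a 0) rfl]
    apply resO_congr Y' P c e1
    intro k
    fin_cases k
    simp only [Category.assoc, face_π]
    erw [hm1]
    simp only [mg, Limits.Pi.map_π_assoc]
    erw [eqToHom_refl, Category.comp_id]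
    rfl
  have hR : P.map m.left.op (P.map (face Y' a 1).left.op (c (a ∘ Fin.succAbove 1))) =
      P.map (Limits.Pi.map (fun a => f.φ (i a)) : ∏ᶜ (Y ∘ i) ⟶ ∏ᶜ (Y' ∘ (f.f ∘ i))).left.op
        (c (f.f ∘ i)) := by
    rw [resO_res P _ _ (m ≫ face Y' a 1) rfl]
    apply resO_congr Y' P c e2
    intro k
    fin_cases k
    simp only [Category.assoc, face_π]
    erw [hm0]
    simp only [mf, Limits.Pi.map_π_assoc]
    erw [eqToHom_refl, Category.comp_id]
    rfl
  have h2 := congrArg (P.map m.left.op) h0'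
  rw [hL, hR] at h2
  exact h2.symm


/-- the maps induced on Čech cohomology by a refinement, as natural transformations -/
noncomputable def refH (n : ℕ) : (cechDelta Y').F n ⟶ (cechDelta Y).F n :=
  Functor.whiskerRight (refineNat Y Y' f) (HomologicalComplex.homologyFunctor _ _ n)

lemma refH_app (n : ℕ) (P : Cᵒᵖ ⥤ AddCommGrpCat.{u}) :
    (refH Y Y' f n).app P = HomologicalComplex.homologyMap (ref Y Y' f P) n := rfl

lemma refH_isHom : DeltaFunctor.IsHom (cechDelta Y') (cechDelta Y) (refH Y Y' f) := by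
  intro A hA n
  ext x
  exact refine_delta Y Y' f A (cx_shortExact Y' hA) (cx_shortExact Y hA) n x

lemma refH_zero_eq : refH Y Y' f 0 = refH Y Y' g 0 := by
  ext P z
  obtain ⟨x, hx, c, hc, rfl⟩ := exists_cocycle Y' P z
  rw [refH_app, refH_app]
  have h1 : ∀ (h : FormalCoproduct.mk ι Y ⟶ FormalCoproduct.mk κ Y'),
      (HomologicalComplex.homologyMap (ref Y Y' h P) 0) ((CechEdge.cx P Y').homologyπ 0 c) =
        (CechEdge.cx P Y).homologyπ 0 (HomologicalComplex.cyclesMap (ref Y Y' h P) 0 c) := by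
    intro h
    have := HomologicalComplex.homologyπ_naturality (ref Y Y' h P) 0
    exact ConcreteCategory.congr_hom this c
  refine (h1 f).trans (Eq.trans ?_ (h1 g).symm)
  congr 1
  apply iCycles_injective Y P
  have h2 : ∀ (h : FormalCoproduct.mk ι Y ⟶ FormalCoproduct.mk κ Y'),
      (CechEdge.cx P Y).iCycles 0 (HomologicalComplex.cyclesMap (ref Y Y' h P) 0 c) =
        (ref Y Y' h P).f 0 ((CechEdge.cx P Y').iCycles 0 c) := by
    intro h
    have := HomologicalComplex.cyclesMap_i (ref Y Y' h P) 0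
    exact ConcreteCategory.congr_hom this c
  refine (h2 f).trans (Eq.trans ?_ (h2 g).symm)
  rw [hc]
  exact ref_zero_eq_of_cocycle Y Y' f g P x hx

theorem homologyMap_ref_eq (P : Cᵒᵖ ⥤ AddCommGrpCat.{u}) (q : ℕ) :
    HomologicalComplex.homologyMap (ref Y Y' f P) q =
      HomologicalComplex.homologyMap (ref Y Y' g P) q := by
  have h := DeltaFunctor.hom_ext (cechDelta_effaceable Y') (refH_isHom Y Y' f) (refH_isHom Y Y' g)
    (refH_zero_eq Y Y' f g) q
  have h2 : (refH Y Y' f q).app P = (refH Y Y' g q).app P := by rw [h]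
  exact h2

end Groth.Agent.H7.CE
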