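import Mathlib
import Groth.Prelude.Def_EtBase
import Groth.Agent.Lib.Helper7.CI3

/-!
# Helper7: CI4 — étale coverings of a closed subscheme are refined by étale coverings of the ambient scheme
-/

set_option autoImplicit false

open CategoryTheory Limits AlgebraicGeometry

namespace Groth.Agent.H7.CI

universe u

theorem exists_cover_lift {X Y : Scheme.{u}} (f : X ⟶ Y) [IsClosedImmersion f]
    {ι : Type u} (U : ι → X.Etale) (hU : EtCoh.Covers U) :
    ∃ (κ : Type u) (V : κ → Y.Etale), EtCoh.Covers V ∧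
      ∀ j, IsEmpty ↥(pullback (V j).hom f) ∨
        ∃ (i : ι) (h : pullback (V j).hom f ⟶ (U i).left),
          h ≫ (U i).hom = pullback.snd (V j).hom f := by
  haveI : ∀ i, Etale (U i).hom := fun i => (U i).prop
  choose V q hq h h1 h2 h3 using fun s : (Σ i, (U i).left) =>
    exists_etale_lift f (U s.1).hom s.2
  let W : Y.Opens := ⟨(Set.range f.base)ᶜ, f.isClosedEmbedding.isClosed_range.isOpen_compl⟩
  let V' : Option (Σ i, (U i).left) → Y.Etale := fun o =>
    match o with
    | none => MorphismProperty.Over.mk ⊤ W.ι inferInstance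
    | some s => MorphismProperty.Over.mk ⊤ (q s) (hq s)
  refine ⟨Option (Σ i, (U i).left), V', ?_, ?_⟩
  · intro y
    by_cases hy : y ∈ Set.range f.base
    · obtain ⟨x, rfl⟩ := hy
      obtain ⟨i, u, hu⟩ := hU x
      obtain ⟨z, hz⟩ := h3 ⟨i, u⟩
      refine ⟨some ⟨i, u⟩, (pullback.fst (q ⟨i, u⟩) f).base z, ?_⟩
      change (q ⟨i, u⟩).base ((pullback.fst (q ⟨i, u⟩) f).base z) = _
      rw [← Scheme.Hom.comp_apply, pullback.condition, ← h1 ⟨i, u⟩]
      simp only [Scheme.Hom.comp_apply]
      rw [hz, hu]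
    · refine ⟨none, ⟨y, hy⟩, ?_⟩
      rfl
  · rintro (_ | s)
    · left
      constructor
      intro z
      have hz : W.ι.base ((pullback.fst W.ι f).base z) = f.base ((pullback.snd W.ι f).base z) := by
        rw [← Scheme.Hom.comp_apply, pullback.condition, Scheme.Hom.comp_apply]
      exact ((pullback.fst W.ι f).base z).2 ⟨_, hz.symm⟩
    · right
      exact ⟨s.1, h s, h1 s⟩

end Groth.Agent.H7.CI
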