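import Mathlib
import Groth.Prelude.Def_EtBase
import Groth.Prelude.Def_SGA4b
import Groth.Prelude.Def_EtShriek2
import Groth.Agent.Lib.Helper7.CI10
import Groth.Agent.Lib.Helper7.CI11
import Groth.Agent.Lib.Helper7.ES4
import Groth.Agent.Lib.Helper7.BS3

/-!
# Helper7: CISet1 — closed/open immersions and étale sheaves of sets
-/

set_option autoImplicit false

open CategoryTheory Limits AlgebraicGeometry Opposite

namespace Groth.Agent.H7.CISet

universe u

section Closed

variable {Z X : Scheme.{u}} (i : Z ⟶ X) [IsClosedImmersion i]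

instance hasLimitsStructuredArrow (V : Z.Etaleᵒᵖ) :
    HasLimitsOfShape (StructuredArrow V (EtCoh.bc i).op) (Type (u + 1)) := by
  haveI : HasLimitsOfSize.{u, u + 1} (Type (u + 1)) :=
    hasLimitsOfSizeShrink.{u, u + 1, u + 1, u + 1} _
  infer_instance

/-- pushforward to sheaves of sets for the induced topology: an equivalence -/
noncomputable abbrev pushInd : EtDesc.Sh Z ⥤ Sheaf (CI.indTop i) (Type (u + 1)) :=
  (EtCoh.bc i).sheafPushforwardContinuous (Type (u + 1)) (CI.indTop i) Z.smallEtaleTopology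

instance : (pushInd i).IsEquivalence := inferInstance

theorem pushSh_full_faithful : (EtDesc.pushSh i).Full ∧ (EtDesc.pushSh i).Faithful := by
  constructor
  · constructor
    intro F₁ F₂ φ
    let φ' : (pushInd i).obj F₁ ⟶ (pushInd i).obj F₂ := ⟨φ.hom⟩
    refine ⟨(pushInd i).preimage φ', ?_⟩
    apply Sheaf.hom_ext
    exact congrArg (fun t => t.hom) ((pushInd i).map_preimage φ')
  · constructor
    intro F₁ F₂ ψ₁ ψ₂ h
    apply (pushInd i).map_injective
    apply Sheaf.hom_ext
    exact congrArg (fun t => t.hom) h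

theorem isSheaf_indTop_of_offZ (F : EtDesc.Sh X)
    (hF : ∀ U : X.Etale, CI.OffZ i U → Nonempty (Unique (F.obj.obj (op U)))) :
    Presheaf.IsSheaf (CI.indTop i) F.obj := by
  rw [isSheaf_iff_isSheaf_of_type]
  intro V S hS
  refine CI.isSheafFor_of_offZ i F.obj ((isSheaf_iff_isSheaf_of_type _ _).1 F.property) hF S ?_
  exact (Functor.mem_inducedTopology_iff_of_isCoverDense (G := EtCoh.bc i)
      (K := Z.smallEtaleTopology) S).mp hS

lemma unique_sections_of_isEmpty {Y : Scheme.{u}} (G : EtDesc.Sh Y) (T : Y.Etale)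
    [IsEmpty T.left] : Nonempty (Unique (G.obj.obj (op T))) := by
  have hT : IsTerminal (G.obj.obj (op T)) :=
    Sheaf.isTerminalOfBotCover G T (ST.bot_mem_of_isEmpty T)
  exact ⟨Types.isTerminalEquivUnique _ hT⟩

theorem essImage_pushSh_iff (F : EtDesc.Sh X) :
    (EtDesc.pushSh i).essImage F ↔
      ∀ U : X.Etale, CI.OffZ i U → Nonempty (Unique (F.obj.obj (op U))) := by
  constructor
  · rintro ⟨G, ⟨e⟩⟩ U hU
    haveI := CI.isEmpty_bc_of_offZ i U hU
    obtain ⟨hu⟩ := unique_sections_of_isEmpty G ((EtCoh.bc i).obj U)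
    let e' := ((sheafToPresheaf _ _).mapIso e).app (op U)
    exact ⟨@Equiv.unique _ _ hu e'.toEquiv.symm⟩
  · intro hF
    let F' : Sheaf (CI.indTop i) (Type (u + 1)) := ⟨F.obj, isSheaf_indTop_of_offZ i F hF⟩
    let G := (pushInd i).objPreimage F'
    let e : (pushInd i).obj G ≅ F' := (pushInd i).objObjPreimageIso F'
    let e₀ : (EtCoh.bc i).op ⋙ G.obj ≅ F.obj := (sheafToPresheaf _ _).mapIso e
    exact ⟨G, ⟨(fullyFaithfulSheafToPresheaf X.smallEtaleTopology (Type (u + 1))).preimageIso e₀⟩⟩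

end Closed

end Groth.Agent.H7.CISet
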