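import Mathlib
import Groth.Prelude.Def_EtBase
import Groth.Prelude.Def_SGA4b
import Groth.Prelude.Def_EtShriek2
import Groth.Agent.Lib.Helper7.CISet1

/-!
# Helper7: CISet2 — open immersions and étale sheaves of sets; assembly
-/

set_option autoImplicit false

open CategoryTheory Limits AlgebraicGeometry Opposite

namespace Groth.Agent.H7.CISet

universe u

section Open

variable {U X : Scheme.{u}} (j : U ⟶ X) [IsOpenImmersion j]

/-- restriction of sheaves of sets to an open subscheme -/
noncomputable abbrev restrSh : EtDesc.Sh X ⥤ EtDesc.Sh U :=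
  (EtShriek.compEtale j).sheafPushforwardContinuous (Type (u + 1)) U.smallEtaleTopology
    X.smallEtaleTopology

noncomputable def restrPushAdjSh : restrSh j ⊣ EtDesc.pushSh j :=
  (ES.compBcAdj j).sheafPushforwardContinuous (E := Type (u + 1)) U.smallEtaleTopology
    X.smallEtaleTopology

noncomputable def pullIsoRestrSh : EtDesc.pullSh j ≅ restrSh j :=
  (EtDesc.adjSh j).leftAdjointUniq (restrPushAdjSh j)

instance isIso_counit_cocontSh :
    IsIso ((EtShriek.compEtale j).sheafAdjunctionCocontinuous (Type (u + 1))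
      U.smallEtaleTopology X.smallEtaleTopology).counit :=
  BS.isIso_counit_cocont (EtShriek.compEtale j) (Type (u + 1)) U.smallEtaleTopology
    X.smallEtaleTopology

theorem pushSh_full_faithful_open : (EtDesc.pushSh j).Full ∧ (EtDesc.pushSh j).Faithful := by
  let A2 := (EtShriek.compEtale j).sheafAdjunctionCocontinuous (Type (u + 1))
      U.smallEtaleTopology X.smallEtaleTopology
  let e := (restrPushAdjSh j).rightAdjointUniq A2
  haveI : ((EtShriek.compEtale j).sheafPushforwardCocontinuous (Type (u + 1))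
      U.smallEtaleTopology X.smallEtaleTopology).Full := A2.fullyFaithfulROfIsIsoCounit.full
  haveI : ((EtShriek.compEtale j).sheafPushforwardCocontinuous (Type (u + 1))
      U.smallEtaleTopology X.smallEtaleTopology).Faithful :=
    A2.fullyFaithfulROfIsIsoCounit.faithful
  exact ⟨Functor.Full.of_iso e.symm, Functor.Faithful.of_iso e.symm⟩

end Open

end Groth.Agent.H7.CISet

namespace Groth.Agent.H7.CISet

universe u

section Terminal

variable {Y : Scheme.{u}}

/-- a sheaf of sets all of whose sections are singletons is terminal -/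
noncomputable def isTerminalOfUnique (T : EtDesc.Sh Y)
    (h : ∀ V : Y.Etale, Nonempty (Unique (T.obj.obj (op V)))) : IsTerminal T := by
  haveI : ∀ V : Y.Etaleᵒᵖ, Unique (T.obj.obj V) := fun V => (h V.unop).some
  refine IsTerminal.ofUniqueHom (fun G => ⟨{ app := fun V => ↾(fun _ => default), naturality := ?_ }⟩) ?_
  · intro V W f
    ext x
    exact Subsingleton.elim _ _
  · intro G m
    apply Sheaf.hom_ext
    ext V x
    exact Subsingleton.elim _ _

theorem isIso_terminal_from_iff (T : EtDesc.Sh Y) :
    IsIso (terminal.from T) ↔ ∀ V : Y.Etale, Nonempty (Unique (T.obj.obj (op V))) := by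
  constructor
  · intro h V
    let Γ := sheafToPresheaf Y.smallEtaleTopology (Type (u + 1)) ⋙
      (evaluation Y.Etaleᵒᵖ (Type (u + 1))).obj (op V)
    have hT : IsTerminal (Γ.obj (⊤_ EtDesc.Sh Y)) :=
      IsTerminal.isTerminalObj Γ _ terminalIsTerminal
    have hu : Unique (Γ.obj (⊤_ EtDesc.Sh Y)) := Types.isTerminalEquivUnique _ hT
    let e : Γ.obj T ≅ Γ.obj (⊤_ EtDesc.Sh Y) := Γ.mapIso (asIso (terminal.from T))
    exact ⟨@Equiv.unique _ _ hu e.toEquiv⟩
  · intro h
    exact isIso_of_isTerminal (isTerminalOfUnique T h) terminalIsTerminal _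

end Terminal

section Main

variable {Z X U : Scheme.{u}} (i : Z ⟶ X) [IsClosedImmersion i] (j : U ⟶ X) [IsOpenImmersion j]
  (hZU : Set.range j.base = (Set.range i.base)ᶜ)

include hZU in
theorem essImage_iff_terminal (F : EtDesc.Sh X) :
    (EtDesc.pushSh i).essImage F ↔ IsIso (terminal.from ((EtDesc.pullSh j).obj F)) := by
  rw [essImage_pushSh_iff]
  have e := (pullIsoRestrSh j).app F
  have key : IsIso (terminal.from ((EtDesc.pullSh j).obj F)) ↔
      IsIso (terminal.from ((restrSh j).obj F)) := by
    constructor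
    · intro h
      have : terminal.from ((restrSh j).obj F) = e.inv ≫ terminal.from _ :=
        Subsingleton.elim _ _
      rw [this]; infer_instance
    · intro h
      have : terminal.from ((EtDesc.pullSh j).obj F) = e.hom ≫ terminal.from _ :=
        Subsingleton.elim _ _
      rw [this]; infer_instance
  rw [key, isIso_terminal_from_iff]
  constructor
  · intro h V'
    exact h _ (CI.offZ_compEtale i j hZU V')
  · intro h W hW
    obtain ⟨V', ⟨φ⟩⟩ := CI.exists_iso_compEtale_of_offZ i j hZU W hW
    obtain ⟨hu⟩ := h V'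
    let e' : F.obj.obj (op W) ≅ F.obj.obj (op ((EtShriek.compEtale j).obj V')) :=
      F.obj.mapIso φ.op
    exact ⟨@Equiv.unique _ _ hu e'.toEquiv⟩

include hZU in
theorem S3883_main :
    (EtDesc.pushSh i).Full ∧ (EtDesc.pushSh i).Faithful ∧
    ∀ F : EtDesc.Sh X, (EtDesc.pushSh i).essImage F ↔
      IsIso (terminal.from ((EtDesc.pullSh j).obj F)) :=
  ⟨(pushSh_full_faithful i).1, (pushSh_full_faithful i).2, essImage_iff_terminal i j hZU⟩

end Main

end Groth.Agent.H7.CISet

namespace Groth.Agent.H7.CISet

universe u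

theorem pushSh_full_faithful_immersion {X Y : Scheme.{u}} (f : X ⟶ Y) [IsImmersion f] :
    (EtDesc.pushSh f).Full ∧ (EtDesc.pushSh f).Faithful := by
  have e : EtDesc.pushSh f.liftCoborder ⋙ EtDesc.pushSh f.coborderRange.ι ≅
      EtDesc.pushSh (f.liftCoborder ≫ f.coborderRange.ι) :=
    EtDesc.pushCompSh f.coborderRange.ι f.liftCoborder
  obtain ⟨h1, h2⟩ := pushSh_full_faithful f.liftCoborder
  obtain ⟨h3, h4⟩ := pushSh_full_faithful_open f.coborderRange.ι
  haveI := h1; haveI := h2; haveI := h3; haveI := h4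
  have h5 : (EtDesc.pushSh (f.liftCoborder ≫ f.coborderRange.ι)).Full := Functor.Full.of_iso e
  have h6 : (EtDesc.pushSh (f.liftCoborder ≫ f.coborderRange.ι)).Faithful :=
    Functor.Faithful.of_iso e
  have key : ∀ (g : X ⟶ Y), g = f → (EtDesc.pushSh g).Full ∧ (EtDesc.pushSh g).Faithful →
      (EtDesc.pushSh f).Full ∧ (EtDesc.pushSh f).Faithful := by
    rintro g rfl h; exact h
  exact key _ f.liftCoborder_ι ⟨h5, h6⟩

theorem S3888_main {X Y : Scheme.{u}} (f : X ⟶ Y) [IsImmersion f] (F : EtDesc.Sh X) :
    IsIso ((EtDesc.adjSh f).counit.app F) := by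
  obtain ⟨h1, h2⟩ := pushSh_full_faithful_immersion f
  haveI := h1; haveI := h2
  infer_instance

end Groth.Agent.H7.CISet
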