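import Mathlib

open CategoryTheory CategoryTheory.Limits Opposite

universe u

namespace Groth.Agent.H7.ShCoprod

variable {C : Type u} [SmallCategory C] (J : GrothendieckTopology C)

/-- elements of a sheaf at `X` vs morphisms from `a(yX)` -/
noncomputable def elEquiv (X : C) (T : Sheaf J (Type u)) :
    ((presheafToSheaf J (Type u)).obj (yoneda.obj X) ⟶ T) ≃ T.obj.obj (op X) :=
  ((sheafificationAdjunction J (Type u)).homEquiv (yoneda.obj X) T).trans yonedaEquiv

lemma elEquiv_naturality {X Y : C} (f : Y ⟶ X) (T : Sheaf J (Type u))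
    (m : (presheafToSheaf J (Type u)).obj (yoneda.obj X) ⟶ T) :
    elEquiv J Y T ((presheafToSheaf J (Type u)).map (yoneda.map f) ≫ m) =
      T.obj.map f.op (elEquiv J X T m) := by
  unfold elEquiv
  simp only [Equiv.trans_apply]
  rw [Adjunction.homEquiv_naturality_left]
  exact (yonedaEquiv_naturality _ f).symm

theorem isColimit_of_bijective {X : C} {ι : Type u} (Y : ι → C) (s : ∀ i, Y i ⟶ X)
    (key : ∀ (T : Sheaf J (Type u)) (x : ∀ i, T.obj.obj (op (Y i))),
      ∃! t : T.obj.obj (op X), ∀ i, T.obj.map (s i).op t = x i) :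
    Nonempty (IsColimit (Cofan.mk ((presheafToSheaf J (Type u)).obj (yoneda.obj X))
      (fun i => (presheafToSheaf J (Type u)).map (yoneda.map (s i))))) := by
  refine ⟨Cofan.IsColimit.mk _
    (fun t => (elEquiv J X t.pt).symm
      (key t.pt (fun i => elEquiv J (Y i) t.pt (t.inj i))).choose) ?_ ?_⟩
  · intro t i
    have hsp := (key t.pt (fun i => elEquiv J (Y i) t.pt (t.inj i))).choose_spec.1 i
    apply (elEquiv J (Y i) t.pt).injective
    change elEquiv J (Y i) t.pt ((presheafToSheaf J (Type u)).map (yoneda.map (s i)) ≫ _) = _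
    rw [elEquiv_naturality, Equiv.apply_symm_apply]
    exact hsp
  · intro t m hm
    apply (elEquiv J X t.pt).injective
    rw [Equiv.apply_symm_apply]
    apply (key t.pt (fun i => elEquiv J (Y i) t.pt (t.inj i))).choose_spec.2
    intro i
    rw [← elEquiv_naturality]
    congr 1
    exact hm i

theorem main {X : C} {ι : Type u}
    (Y : ι → C) (s : ∀ i, Y i ⟶ X) [∀ (i : ι) (Z : C) (g : Z ⟶ X), HasPullback (s i) g]
    (hcov : Sieve.ofArrows Y s ∈ J X) (hmono : ∀ i, Mono (s i))
    (hdisj : ∀ i j, i ≠ j → (⊥ : Sieve (pullback (s i) (s j))) ∈ J (pullback (s i) (s j))) :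
    Nonempty (IsColimit (Cofan.mk ((presheafToSheaf J (Type u)).obj (yoneda.obj X))
      (fun i => (presheafToSheaf J (Type u)).map (yoneda.map (s i))))) := by
  apply isColimit_of_bijective
  intro T x
  have hT : Presieve.IsSheaf J T.obj := (isSheaf_iff_isSheaf_of_type J T.obj).mp T.property
  have h1 : Presieve.IsSheafFor T.obj (Presieve.ofArrows Y s) := by
    rw [Presieve.isSheafFor_iff_generate]
    exact hT _ hcov
  refine (Presieve.isSheafFor_arrows_iff _ _).mp h1 x ?_
  intro i j Z gi gj comm
  by_cases hij : i = j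
  · subst hij
    have := (cancel_mono (s i)).mp comm
    rw [this]
  · have hZ : (⊥ : Sieve Z) ∈ J Z := by
      have := J.pullback_stable (pullback.lift gi gj comm) (hdisj i j hij)
      rwa [Sieve.pullback_bot] at this
    have hsep := (hT _ hZ).isSeparatedFor
    apply hsep.ext
    intro W f hf
    exact hf.elim

end Groth.Agent.H7.ShCoprod
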