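import Mathlib
import Groth.Agent.Lib.Helper7.ShCoprod

open CategoryTheory CategoryTheory.Limits Opposite

universe u

namespace Groth.Agent.H7.DetectFam

open Groth.Agent.H7.ShCoprod

variable {C : Type u} [SmallCategory C] (J : GrothendieckTopology C)

lemma elEquiv_naturality_right (X : C) {T T' : Sheaf J (Type u)} (φ : T ⟶ T')
    (m : (presheafToSheaf J (Type u)).obj (yoneda.obj X) ⟶ T) :
    elEquiv J X T' (m ≫ φ) = φ.hom.app (op X) (elEquiv J X T m) := by
  unfold elEquiv
  simp only [Equiv.trans_apply]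
  rw [Adjunction.homEquiv_naturality_right, yonedaEquiv_comp]
  rfl

theorem main (G : Set C)
    (hG : ∀ X : C, ∃ (ι : Type u) (Y : ι → C) (f : ∀ i, Y i ⟶ X),
      Sieve.ofArrows Y f ∈ J X ∧ ∀ i, Y i ∈ G) :
    (ObjectProperty.ofObj fun X : G =>
      (presheafToSheaf J (Type u)).obj (yoneda.obj (X : C))).IsDetecting := by
  intro F F' φ hφ
  have hF : Presieve.IsSheaf J F.obj := (isSheaf_iff_isSheaf_of_type J F.obj).mp F.property
  have hF' : Presieve.IsSheaf J F'.obj := (isSheaf_iff_isSheaf_of_type J F'.obj).mp F'.property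
  have hnat : ∀ {X Y : C} (g : Y ⟶ X) (s : F.obj.obj (op X)),
      φ.hom.app (op Y) (F.obj.map g.op s) = F'.obj.map g.op (φ.hom.app (op X) s) :=
    fun g s => NatTrans.naturality_apply φ.hom g.op s
  have hbij : ∀ X : C, X ∈ G → Function.Bijective (φ.hom.app (op X)) := by
    intro X hX
    have h1 := hφ _ (ObjectProperty.ofObj_apply _ (⟨X, hX⟩ : G))
    rw [Function.bijective_iff_existsUnique]
    intro t
    obtain ⟨h', hh', huniq⟩ := h1 ((elEquiv J X F').symm t)
    refine ⟨elEquiv J X F h', ?_, ?_⟩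
    · show φ.hom.app (op X) (elEquiv J X F h') = t
      rw [← elEquiv_naturality_right, hh', Equiv.apply_symm_apply]
    · intro s hs
      replace hs : φ.hom.app (op X) s = t := hs
      have := huniq ((elEquiv J X F).symm s) (by
        apply (elEquiv J X F').injective
        rw [elEquiv_naturality_right, Equiv.apply_symm_apply, Equiv.apply_symm_apply, hs])
      rw [← this, Equiv.apply_symm_apply]
  have hinj : ∀ X : C, Function.Injective (φ.hom.app (op X)) := by
    intro X s s' h
    obtain ⟨ι, Y, f, hcov, hYG⟩ := hG X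
    apply (hF _ hcov).isSeparatedFor.ext
    intro Z g hg
    obtain ⟨i, a, rfl⟩ := (Sieve.mem_ofArrows_iff Y f g).mp hg
    have h2 : F.obj.map (f i).op s = F.obj.map (f i).op s' := by
      apply (hbij (Y i) (hYG i)).1
      rw [hnat, hnat, h]
    rw [op_comp, Functor.map_comp_apply, Functor.map_comp_apply, h2]
  have hsurj : ∀ X : C, Function.Surjective (φ.hom.app (op X)) := by
    intro X t
    obtain ⟨ι, Y, f, hcov, hYG⟩ := hG X
    choose s hs using fun i => (hbij (Y i) (hYG i)).2 (F'.obj.map (f i).op t)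
    have h1 : Presieve.IsSheafFor F.obj (Presieve.ofArrows Y f) := by
      rw [Presieve.isSheafFor_iff_generate]
      exact hF _ hcov
    obtain ⟨s0, hs0, -⟩ := (Presieve.isSheafFor_arrows_iff _ _).mp h1 s (by
      intro i j Z gi gj comm
      apply hinj
      rw [hnat, hnat, hs, hs, ← Functor.map_comp_apply, ← Functor.map_comp_apply, ← op_comp,
        ← op_comp, comm])
    refine ⟨s0, ?_⟩
    apply (hF' _ hcov).isSeparatedFor.ext
    intro Z g hg
    obtain ⟨i, a, rfl⟩ := (Sieve.mem_ofArrows_iff Y f g).mp hg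
    rw [op_comp, Functor.map_comp_apply, Functor.map_comp_apply, ← hnat, hs0 i, hs]
  haveI : IsIso φ.hom := by
    haveI : ∀ X, IsIso (φ.hom.app X) := fun X =>
      (isIso_iff_bijective _).mpr ⟨hinj X.unop, hsurj X.unop⟩
    exact NatIso.isIso_of_isIso_app _
  haveI : IsIso ((sheafToPresheaf J (Type u)).map φ) := by
    show IsIso φ.hom
    infer_instance
  exact isIso_of_reflects_iso φ (sheafToPresheaf J (Type u))

end Groth.Agent.H7.DetectFam
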