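import Mathlib
import Groth.Prelude.Def_SGA4a
import Groth.Agent.Lib.Helper7.DetectFam

open CategoryTheory CategoryTheory.Limits Opposite

universe u

namespace Groth.Agent.H7.OC

open Groth.Agent.H7.ShCoprod Groth.Agent.H7.DetectFam

variable {C : Type u} [SmallCategory C] {J : GrothendieckTopology C}

/-- element of a product from elements of the factors -/
noncomputable def pairEl {X Y : Sheaf J (Type u)} {c : C} (x : X.obj.obj (op c))
    (y : Y.obj.obj (op c)) : (X ⨯ Y).obj.obj (op c) :=
  elEquiv J c (X ⨯ Y) (prod.lift ((elEquiv J c X).symm x) ((elEquiv J c Y).symm y))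

theorem fst_pairEl {X Y : Sheaf J (Type u)} {c : C} (x : X.obj.obj (op c))
    (y : Y.obj.obj (op c)) :
    (prod.fst : X ⨯ Y ⟶ X).hom.app (op c) (pairEl x y) = x := by
  unfold pairEl
  rw [← elEquiv_naturality_right, prod.lift_fst, Equiv.apply_symm_apply]

theorem snd_pairEl {X Y : Sheaf J (Type u)} {c : C} (x : X.obj.obj (op c))
    (y : Y.obj.obj (op c)) :
    (prod.snd : X ⨯ Y ⟶ Y).hom.app (op c) (pairEl x y) = y := by
  unfold pairEl
  rw [← elEquiv_naturality_right, prod.lift_snd, Equiv.apply_symm_apply]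

theorem prod_el_ext {X Y : Sheaf J (Type u)} {c : C} (p q : (X ⨯ Y).obj.obj (op c))
    (h1 : (prod.fst : X ⨯ Y ⟶ X).hom.app (op c) p = (prod.fst : X ⨯ Y ⟶ X).hom.app (op c) q)
    (h2 : (prod.snd : X ⨯ Y ⟶ Y).hom.app (op c) p = (prod.snd : X ⨯ Y ⟶ Y).hom.app (op c) q) :
    p = q := by
  apply (elEquiv J c (X ⨯ Y)).symm.injective
  apply prod.hom_ext
  · apply (elEquiv J c X).injective
    rw [elEquiv_naturality_right, elEquiv_naturality_right, Equiv.apply_symm_apply,
      Equiv.apply_symm_apply]
    exact h1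
  · apply (elEquiv J c Y).injective
    rw [elEquiv_naturality_right, elEquiv_naturality_right, Equiv.apply_symm_apply,
      Equiv.apply_symm_apply]
    exact h2

/-- morphisms of sheaves are equal if equal on all sections over representables -/
theorem hom_ext_el {X Y : Sheaf J (Type u)} (f g : X ⟶ Y)
    (h : ∀ (c : C) (x : X.obj.obj (op c)), f.hom.app (op c) x = g.hom.app (op c) x) : f = g := by
  apply Sheaf.hom_ext
  apply NatTrans.ext
  funext c
  obtain ⟨c⟩ := c
  ext x
  exact h c x

variable (U : Sheaf J (Type u))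

theorem sub_of_open (hU : SGA4.IsOpen U) (c : C) : Subsingleton (U.obj.obj (op c)) := by
  constructor
  intro a b
  have h : (elEquiv J c U).symm a = (elEquiv J c U).symm b := by
    haveI : Mono (terminal.from U) := hU
    rw [← cancel_mono (terminal.from U)]
    exact Subsingleton.elim _ _
  exact (elEquiv J c U).symm.injective h

theorem mem_closedCompl_iff (hU : SGA4.IsOpen U) (Y : Sheaf J (Type u)) :
    SGA4.closedCompl U Y ↔
      ∀ c : C, Nonempty (U.obj.obj (op c)) → Nonempty (Unique (Y.obj.obj (op c))) := by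
  haveI := sub_of_open U hU
  constructor
  · intro h c ⟨a⟩
    haveI : IsIso (prod.fst : U ⨯ Y ⟶ U) := h
    have hinj : Function.Injective ((prod.fst : U ⨯ Y ⟶ U).hom.app (op c)) := by
      intro p q hpq
      have := congrArg ((inv (prod.fst : U ⨯ Y ⟶ U)).hom.app (op c)) hpq
      have e : ∀ p, (inv (prod.fst : U ⨯ Y ⟶ U)).hom.app (op c)
          ((prod.fst : U ⨯ Y ⟶ U).hom.app (op c) p) = p := by
        intro p
        have := congrArg (fun t => t.hom.app (op c) p) (IsIso.hom_inv_id (prod.fst : U ⨯ Y ⟶ U))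
        exact this
      rw [e, e] at this
      exact this
    refine ⟨⟨⟨(inv (prod.fst : U ⨯ Y ⟶ U) ≫ prod.snd).hom.app (op c) a⟩, fun y => ?_⟩⟩
    have h1 : pairEl a y = pairEl a ((inv (prod.fst : U ⨯ Y ⟶ U) ≫ prod.snd).hom.app (op c) a) := by
      apply hinj
      rw [fst_pairEl, fst_pairEl]
    have h2 := congrArg ((prod.snd : U ⨯ Y ⟶ Y).hom.app (op c)) h1
    rw [snd_pairEl, snd_pairEl] at h2
    exact h2
  · intro h
    have huniq : ∀ c : C, U.obj.obj (op c) → Unique (Y.obj.obj (op c)) := fun c a => (h c ⟨a⟩).some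
    let t : U ⟶ Y := ⟨{
      app := fun c => ↾fun a => (huniq c.unop a).default
      naturality := by
        intro c c' f
        ext a
        exact ((huniq c'.unop (U.obj.map f a)).uniq _).symm }⟩
    refine ⟨⟨prod.lift (𝟙 U) t, ?_, prod.lift_fst _ _⟩⟩
    apply prod.hom_ext
    · rw [Category.assoc, prod.lift_fst, Category.comp_id, Category.id_comp]
    · rw [Category.assoc, prod.lift_snd, Category.id_comp]
      apply hom_ext_el
      intro c p
      have a := (prod.fst : U ⨯ Y ⟶ U).hom.app (op c) p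
      exact ((huniq c a).uniq _).trans ((huniq c a).uniq _).symm

end Groth.Agent.H7.OC
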