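import Mathlib
import Groth.Agent.Lib.Helper7.DetectFam
import Groth.Agent.Lib.Helper7.OC1

open CategoryTheory CategoryTheory.Limits Opposite

universe u

namespace Groth.Agent.H7.CanTop

open Groth.Agent.H7.ShCoprod Groth.Agent.H7.DetectFam Groth.Agent.H7.OC

variable {C : Type u} [SmallCategory C] (J : GrothendieckTopology C)

/-- the representable sheaf -/
noncomputable abbrev ε (c : C) : Sheaf J (Type u) :=
  (presheafToSheaf J (Type u)).obj (yoneda.obj c)

/-- functoriality of the representable sheaves -/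
noncomputable abbrev εmap {c c' : C} (k : c' ⟶ c) : ε J c' ⟶ ε J c :=
  (presheafToSheaf J (Type u)).map (yoneda.map k)

/-- the morphism classifying a section -/
noncomputable def elOf {X : Sheaf J (Type u)} {c : C} (x : X.obj.obj (op c)) : ε J c ⟶ X :=
  (elEquiv J c X).symm x

lemma elOf_comp {X Y : Sheaf J (Type u)} (f : X ⟶ Y) {c : C} (x : X.obj.obj (op c)) :
    elOf J x ≫ f = elOf J (f.hom.app (op c) x) := by
  apply (elEquiv J c Y).injective
  rw [elEquiv_naturality_right]
  simp [elOf]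

lemma εmap_elOf {X : Sheaf J (Type u)} {c c' : C} (k : c' ⟶ c) (x : X.obj.obj (op c)) :
    εmap J k ≫ elOf J x = elOf J (X.obj.map k.op x) := by
  apply (elEquiv J c' X).injective
  rw [elEquiv_naturality]
  simp [elOf]

lemma elEquiv_elOf {X : Sheaf J (Type u)} {c : C} (x : X.obj.obj (op c)) :
    elEquiv J c X (elOf J x) = x := Equiv.apply_symm_apply _ _

lemma elOf_elEquiv {X : Sheaf J (Type u)} {c : C} (m : ε J c ⟶ X) :
    elOf J (elEquiv J c X m) = m := Equiv.symm_apply_apply _ _

/-- the generic section of a representable sheaf -/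
noncomputable def gen (c : C) : (ε J c).obj.obj (op c) := elEquiv J c (ε J c) (𝟙 _)

lemma app_gen {X : Sheaf J (Type u)} {c : C} (m : ε J c ⟶ X) :
    m.hom.app (op c) (gen J c) = elEquiv J c X m := by
  unfold gen
  rw [← elEquiv_naturality_right, Category.id_comp]

lemma elOf_app_gen {X : Sheaf J (Type u)} {c : C} (x : X.obj.obj (op c)) :
    (elOf J x).hom.app (op c) (gen J c) = x := by
  rw [app_gen, elEquiv_elOf]

lemma app_elEquiv {X Y : Sheaf J (Type u)} (f : X ⟶ Y) {c : C} (m : ε J c ⟶ X) :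
    f.hom.app (op c) (elEquiv J c X m) = elEquiv J c Y (m ≫ f) :=
  (elEquiv_naturality_right J c f m).symm

/-- sections whose classifying map lies in the sieve -/
def secSub {X : Sheaf J (Type u)} (S : Sieve X) : Subfunctor X.obj where
  obj c := {x | S (elOf J (c := c.unop) x)}
  map := by
    intro c c' i x hx
    show S (elOf J (c := c'.unop) (X.obj.map i x))
    have h := εmap_elOf J i.unop x
    have h2 : elOf J (c := c'.unop) (X.obj.map i x) = εmap J i.unop ≫ elOf J (c := c.unop) x :=
      h.symm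
    rw [h2]
    exact S.downward_closed hx _

lemma mem_secSub {X : Sheaf J (Type u)} (S : Sieve X) {c : C} (x : X.obj.obj (op c)) :
    x ∈ (secSub J S).obj (op c) ↔ S (elOf J x) := Iff.rfl

lemma app_mem_secSub {X Y : Sheaf J (Type u)} (S : Sieve X) {f : Y ⟶ X} (hf : S f) {c : C}
    (y : Y.obj.obj (op c)) : f.hom.app (op c) y ∈ (secSub J S).obj (op c) := by
  rw [mem_secSub, ← elOf_comp]
  exact S.downward_closed hf _

/-- a sieve is dense if every section is locally in it -/
def Dense {X : Sheaf J (Type u)} (S : Sieve X) : Prop :=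
  ∀ (c : Cᵒᵖ) (x : X.obj.obj c), (secSub J S).sieveOfSection x ∈ J c.unop

lemma dense_iff {X : Sheaf J (Type u)} (S : Sieve X) :
    Dense J S ↔ (secSub J S).sheafify J = ⊤ := by
  constructor
  · intro h
    rw [eq_top_iff]
    intro c x _
    exact h c x
  · intro h c x
    have : x ∈ ((secSub J S).sheafify J).obj c := by rw [h]; trivial
    exact this

variable {J}

/-- a map out of a full subfunctor -/
def ext₁ {F W : Cᵒᵖ ⥤ Type u} (G : Subfunctor F) (hG : ∀ c (x : F.obj c), x ∈ G.obj c)
    (l : G.toFunctor ⟶ W) : F ⟶ W where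
  app c := ↾fun x => l.app c ⟨x, hG c x⟩
  naturality := by
    intro c c' i
    ext x
    exact NatTrans.naturality_apply l i (⟨x, hG c x⟩ : G.toFunctor.obj c)

lemma ext₁_app {F W : Cᵒᵖ ⥤ Type u} (G : Subfunctor F) (hG : ∀ c (x : F.obj c), x ∈ G.obj c)
    (l : G.toFunctor ⟶ W) (c : Cᵒᵖ) (x : F.obj c) :
    (ext₁ G hG l).app c x = l.app c ⟨x, hG c x⟩ := rfl

/-- the generic extension statement -/
theorem existsUnique_extension_aux {F W : Cᵒᵖ ⥤ Type u} (hW : Presieve.IsSheaf J W)
    (G : Subfunctor F) (hG : ∀ c (x : F.obj c), G.sieveOfSection x ∈ J c.unop)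
    (τ : G.toFunctor ⟶ W) :
    ∃! a : F ⟶ W, ∀ (c : Cᵒᵖ) (x : F.obj c) (hx : x ∈ G.obj c), a.app c x = τ.app c ⟨x, hx⟩ := by
  let l : (G.sheafify J).toFunctor ⟶ W := G.sheafifyLift τ hW
  have hl : ∀ (c : Cᵒᵖ) (x : F.obj c) (hx : x ∈ G.obj c),
      l.app c ⟨x, G.le_sheafify J c hx⟩ = τ.app c ⟨x, hx⟩ := by
    intro c x hx
    exact congrArg (fun t => t.app c ⟨x, hx⟩) (G.to_sheafifyLift τ hW)
  refine ⟨ext₁ (G.sheafify J) hG l, fun c x hx => hl c x hx, ?_⟩
  intro a' ha'
  apply NatTrans.ext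
  funext c
  ext x
  apply (hW _ (hG c x)).isSeparatedFor.ext
  intro c' k hk
  have n1 : W.map k.op (a'.app c x) = a'.app (op c') (F.map k.op x) :=
    (NatTrans.naturality_apply a' k.op x).symm
  have n2 : W.map k.op ((ext₁ (G.sheafify J) hG l).app c x) =
      (ext₁ (G.sheafify J) hG l).app (op c') (F.map k.op x) :=
    (NatTrans.naturality_apply (ext₁ (G.sheafify J) hG l) k.op x).symm
  exact n1.trans ((ha' (op c') _ hk).trans ((hl (op c') _ hk).symm.trans n2.symm))

/-- extension of a map from a dense subpresheaf to a sheaf -/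
theorem existsUnique_extension {X W : Sheaf J (Type u)} (S : Sieve X) (hS : Dense J S)
    (τ : (secSub J S).toFunctor ⟶ W.obj) :
    ∃! a : X ⟶ W, ∀ (c : Cᵒᵖ) (x : X.obj.obj c) (hx : x ∈ (secSub J S).obj c),
      a.hom.app c x = τ.app c ⟨x, hx⟩ := by
  have hW : Presieve.IsSheaf J W.obj := (isSheaf_iff_isSheaf_of_type J W.obj).mp W.property
  obtain ⟨a, ha, huniq⟩ := existsUnique_extension_aux hW (secSub J S) hS τ
  refine ⟨⟨a⟩, ha, ?_⟩
  intro a' ha'
  apply Sheaf.hom_ext
  exact huniq a'.hom ha'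

/-- representables are sheaves for dense sieves -/
theorem isSheafFor_yoneda_of_dense {X : Sheaf J (Type u)} (S : Sieve X) (hS : Dense J S)
    (W : Sheaf J (Type u)) : Presieve.IsSheafFor (yoneda.obj W) S.arrows := by
  intro x hx
  rw [Presieve.compatible_iff_sieveCompatible] at hx
  have hcongr : ∀ {Y : Sheaf J (Type u)} {f f' : Y ⟶ X} (e : f = f') (h : S f) (h' : S f'),
      x f h = x f' h' := by
    intro Y f f' e h h'
    subst e
    rfl
  let τ : (secSub J S).toFunctor ⟶ W.obj :=
    { app := fun c => ↾fun s => elEquiv J c.unop W (x (elOf J (c := c.unop) s.1) s.2)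
      naturality := by
        intro c c' i
        ext s
        show elEquiv J c'.unop W (x (elOf J (c := c'.unop) (X.obj.map i s.1)) _) =
          W.obj.map i (elEquiv J c.unop W (x (elOf J (c := c.unop) s.1) s.2))
        have h2 : elOf J (c := c'.unop) (X.obj.map i s.1) =
            εmap J i.unop ≫ elOf J (c := c.unop) s.1 := (εmap_elOf J i.unop s.1).symm
        have h3 : S (εmap J i.unop ≫ elOf J (c := c.unop) s.1) := S.downward_closed s.2 _
        rw [hcongr h2 _ h3]
        have h4 : x (εmap J i.unop ≫ elOf J (c := c.unop) s.1) h3 =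
            εmap J i.unop ≫ x (elOf J (c := c.unop) s.1) s.2 := hx _ _ _
        rw [h4]
        exact elEquiv_naturality J i.unop W _ }
  obtain ⟨a, ha, huniq⟩ := existsUnique_extension S hS τ
  have key : ∀ (a' : X ⟶ W), (∀ ⦃Y⦄ (f : Y ⟶ X) (hf : S f), f ≫ a' = x f hf) →
      ∀ (c : Cᵒᵖ) (s : X.obj.obj c) (hs : s ∈ (secSub J S).obj c),
        a'.hom.app c s = τ.app c ⟨s, hs⟩ := by
    intro a' ha' c s hs
    show a'.hom.app c s = elEquiv J c.unop W (x (elOf J (c := c.unop) s) hs)
    rw [← ha' _ hs, elOf_comp, elEquiv_elOf]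
  refine ⟨a, ?_, ?_⟩
  · intro Y f hf
    show f ≫ a = x f hf
    apply hom_ext_el
    intro c y
    show a.hom.app (op c) (f.hom.app (op c) y) = _
    rw [ha (op c) _ (app_mem_secSub J S hf y)]
    show elEquiv J c W (x (elOf J (f.hom.app (op c) y)) _) = _
    have h2 : elOf J (f.hom.app (op c) y) = elOf J y ≫ f := (elOf_comp J f y).symm
    have h3 : S (elOf J y ≫ f) := S.downward_closed hf _
    rw [hcongr h2 _ h3]
    have h4 : x (elOf J y ≫ f) h3 = elOf J y ≫ x f hf := hx _ _ _
    rw [h4, ← app_elEquiv, elEquiv_elOf]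
  · intro a' ha'
    apply huniq
    exact key a' (fun Y f hf => ha' f hf)

variable (J)

/-- the topology of dense sieves -/
def canT : GrothendieckTopology (Sheaf J (Type u)) where
  sieves X := {S | Dense J S}
  top_mem' X := by
    intro c x
    convert J.top_mem c.unop
    rw [eq_top_iff]
    intro c' k _
    trivial
  pullback_stable' := by
    intro X Y S f hS c y
    refine J.superset_covering ?_ (hS c (f.hom.app c y))
    intro c' k hk
    show (S.pullback f) (elOf J (Y.obj.map k.op y))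
    show S (elOf J (Y.obj.map k.op y) ≫ f)
    rw [elOf_comp]
    have n1 : f.hom.app (op c') (Y.obj.map k.op y) = X.obj.map k.op (f.hom.app c y) :=
      NatTrans.naturality_apply f.hom k.op y
    rw [n1]
    exact hk
  transitive' := by
    intro X S hS R hR c x
    refine J.transitive (hS c x) _ ?_
    intro c' k hk
    have hk' : S (elOf J (X.obj.map k.op x)) := hk
    have h1 := hR hk' (op c') (gen J c')
    refine J.superset_covering ?_ h1
    intro c'' l hl
    have hl' : R (elOf J ((ε J c').obj.map l.op (gen J c')) ≫ elOf J (X.obj.map k.op x)) := hl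
    show R (elOf J (X.obj.map (l ≫ k).op x))
    rw [elOf_comp] at hl'
    have n1 : (elOf J (X.obj.map k.op x)).hom.app (op c'') ((ε J c').obj.map l.op (gen J c')) =
        X.obj.map l.op ((elOf J (X.obj.map k.op x)).hom.app (op c') (gen J c')) :=
      NatTrans.naturality_apply (elOf J (X.obj.map k.op x)).hom l.op (gen J c')
    rw [n1, elOf_app_gen] at hl'
    rw [op_comp, Functor.map_comp_apply]
    exact hl'

lemma mem_canT {X : Sheaf J (Type u)} (S : Sieve X) : S ∈ canT J X ↔ Dense J S := Iff.rfl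

theorem canT_le : canT J ≤ Sheaf.canonicalTopology (Sheaf J (Type u)) := by
  apply Sheaf.le_finestTopology
  rintro P ⟨W, rfl⟩ X S hS
  exact isSheafFor_yoneda_of_dense S hS W

theorem le_canT : Sheaf.canonicalTopology (Sheaf J (Type u)) ≤ canT J := by
  intro X S hS
  have hX : Presieve.IsSheaf J X.obj := (isSheaf_iff_isSheaf_of_type J X.obj).mp X.property
  let Gs := (secSub J S).sheafify J
  let Z : Sheaf J (Type u) :=
    ⟨Gs.toFunctor, (isSheaf_iff_isSheaf_of_type J _).mpr ((secSub J S).sheafify_isSheaf hX)⟩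
  let ιZ : Z ⟶ X := ⟨Gs.ι⟩
  have hle : ∀ {Y : Sheaf J (Type u)} (f : Y ⟶ X), S f → Subfunctor.range f.hom ≤ Gs := by
    intro Y f hf c x hx
    obtain ⟨y, rfl⟩ := hx
    exact (secSub J S).le_sheafify J c (app_mem_secSub J S hf (c := c.unop) y)
  let x : Presieve.FamilyOfElements (yoneda.obj Z) S.arrows :=
    fun Y f hf => (⟨Subfunctor.lift f.hom (hle f hf)⟩ : Y ⟶ Z)
  have hxι : ∀ {Y : Sheaf J (Type u)} (f : Y ⟶ X) (hf : S f), x f hf ≫ ιZ = f := by
    intro Y f hf
    apply Sheaf.hom_ext
    rfl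
  have hmono : ∀ {Y : Sheaf J (Type u)} (a b : Y ⟶ Z), a ≫ ιZ = b ≫ ιZ → a = b := by
    intro Y a b h
    apply Sheaf.hom_ext
    apply NatTrans.ext
    funext c
    ext y
    apply Subtype.ext
    exact congrArg (fun t => t.hom.app c y) h
  have hx : x.Compatible := by
    rw [Presieve.compatible_iff_sieveCompatible]
    intro Y Y' f g hf
    apply hmono
    show x (g ≫ f) (S.downward_closed hf g) ≫ ιZ = (g ≫ x f hf) ≫ ιZ
    rw [hxι _ (S.downward_closed hf g), Category.assoc, hxι f hf]
  have hZ : Presieve.IsSheafFor (yoneda.obj Z) S.arrows := Sheaf.isSheaf_yoneda_obj Z S hS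
  let t : X ⟶ Z := hZ.amalgamate x hx
  have ht : ∀ {Y : Sheaf J (Type u)} (f : Y ⟶ X) (hf : S f), f ≫ t = x f hf :=
    fun f hf => hZ.valid_glue hx f hf
  have hid : t ≫ ιZ = 𝟙 X := by
    apply (Sheaf.isSheaf_yoneda_obj X S hS).isSeparatedFor.ext
    intro Y f hf
    show f ≫ t ≫ ιZ = f ≫ 𝟙 X
    rw [← Category.assoc, ht f hf, hxι f hf, Category.comp_id]
  intro c s
  have h1 : ιZ.hom.app c (t.hom.app c s) = s := congrArg (fun m => m.hom.app c s) hid
  have h2 : (t.hom.app c s).1 ∈ Gs.obj c := (t.hom.app c s).2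
  have h3 : (t.hom.app c s).1 = s := h1
  rw [h3] at h2
  exact h2

theorem canT_eq : canT J = Sheaf.canonicalTopology (Sheaf J (Type u)) :=
  le_antisymm (canT_le J) (le_canT J)

theorem mem_canonical_iff {X : Sheaf J (Type u)} (S : Sieve X) :
    S ∈ Sheaf.canonicalTopology (Sheaf J (Type u)) X ↔ Dense J S := by
  rw [← canT_eq]
  rfl

end Groth.Agent.H7.CanTop
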