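import Mathlib
import Groth.Agent.Lib.Helper7.CanTop1

open CategoryTheory CategoryTheory.Limits Opposite

universe w u

namespace Groth.Agent.H7.CanTop

open Groth.Agent.H7.ShCoprod Groth.Agent.H7.DetectFam Groth.Agent.H7.OC

variable {C : Type u} [SmallCategory C] {J : GrothendieckTopology C}

/-- the diagram of representable sheaves over the sections belonging to a sieve -/
noncomputable def diag {X : Sheaf J (Type u)} (S : Sieve X) :
    (secSub J S).toFunctor.Elements ⥤ (Sheaf J (Type u))ᵒᵖ :=
  CategoryOfElements.π _ ⋙ (yoneda ⋙ presheafToSheaf J (Type u)).op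

/-- the tautological cone -/
noncomputable def diagCone {X : Sheaf J (Type u)} (S : Sieve X) : Cone (diag S) where
  pt := op X
  π :=
    { app := fun p => (elOf J (c := p.1.unop) p.2.1).op
      naturality := by
        intro p q f
        show 𝟙 _ ≫ (elOf J (c := q.1.unop) q.2.1).op =
          (elOf J (c := p.1.unop) p.2.1).op ≫ (εmap J f.1.unop).op
        rw [Category.id_comp, ← op_comp]
        congr 1
        have h := εmap_elOf J f.1.unop (X := X) p.2.1
        rw [h]
        congr 1
        exact (congrArg Subtype.val f.2).symm }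

/-- the tautological cone is a limit cone when the sieve is dense -/
noncomputable def diagConeIsLimit {X : Sheaf J (Type u)} (S : Sieve X) (hS : Dense J S) :
    IsLimit (diagCone S) := by
  apply IsLimit.ofExistsUnique
  intro s
  let W : Sheaf J (Type u) := s.pt.unop
  let τ : (secSub J S).toFunctor ⟶ W.obj :=
    { app := fun c => ↾fun x => elEquiv J c.unop W
        (s.π.app ((secSub J S).toFunctor.elementsMk c x)).unop
      naturality := by
        intro c c' i
        ext x
        show elEquiv J c'.unop W (s.π.app ((secSub J S).toFunctor.elementsMk c'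
            ((secSub J S).toFunctor.map i x))).unop =
          W.obj.map i (elEquiv J c.unop W (s.π.app ((secSub J S).toFunctor.elementsMk c x)).unop)
        let f : (secSub J S).toFunctor.elementsMk c x ⟶ (secSub J S).toFunctor.elementsMk c'
            ((secSub J S).toFunctor.map i x) :=
          CategoryOfElements.homMk _ _ i rfl
        have h := s.π.naturality f
        have h2 : s.π.app ((secSub J S).toFunctor.elementsMk c'
            ((secSub J S).toFunctor.map i x)) =
            s.π.app ((secSub J S).toFunctor.elementsMk c x) ≫ (diag S).map f :=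
          (Category.id_comp _).symm.trans h
        have h3 : (s.π.app ((secSub J S).toFunctor.elementsMk c'
            ((secSub J S).toFunctor.map i x))).unop =
            εmap J i.unop ≫ (s.π.app ((secSub J S).toFunctor.elementsMk c x)).unop :=
          congrArg Quiver.Hom.unop h2
        rw [h3]
        exact elEquiv_naturality J i.unop W _ }
  obtain ⟨a, ha, huniq⟩ := existsUnique_extension S hS τ
  refine ⟨a.op, ?_, ?_⟩
  · intro p
    show (elOf J (c := p.1.unop) p.2.1 ≫ a).op = s.π.app p
    rw [elOf_comp, ha p.1 p.2.1 p.2.2]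
    show (elOf J (elEquiv J p.1.unop W (s.π.app ⟨p.1, p.2⟩).unop)).op = _
    rw [elOf_elEquiv]
    rfl
  · intro l hl
    have : l.unop = a := by
      apply huniq
      intro c x hx
      have h := hl ⟨c, ⟨x, hx⟩⟩
      have h2 : elOf J (c := c.unop) x ≫ l.unop = (s.π.app ⟨c, ⟨x, hx⟩⟩).unop :=
        congrArg Quiver.Hom.unop h
      show l.unop.hom.app c x = elEquiv J c.unop W (s.π.app ⟨c, ⟨x, hx⟩⟩).unop
      rw [← h2, elOf_comp, elEquiv_elOf]
      rfl
    rw [← this]
    rfl

variable (G : (Sheaf J (Type u))ᵒᵖ ⥤ Type w)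

/-- injectivity: sections are detected on a dense sieve -/
theorem pl_inj [PreservesLimitsOfSize.{u, u} G] {X : Sheaf J (Type u)} (S : Sieve X)
    (hS : Dense J S) (g g' : G.obj (op X))
    (h : ∀ (c : C) (x : X.obj.obj (op c)) (_ : x ∈ (secSub J S).obj (op c)),
      G.map (elOf J x).op g = G.map (elOf J x).op g') : g = g' := by
  have hl : IsLimit (G.mapCone (diagCone S)) := isLimitOfPreserves G (diagConeIsLimit S hS)
  apply (Types.isLimitEquivSections hl).injective
  apply Subtype.ext
  funext p
  exact h p.1.unop p.2.1 p.2.2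

/-- existence: compatible families over a dense sieve glue -/
theorem pl_exists [PreservesLimitsOfSize.{u, u} G] {X : Sheaf J (Type u)} (S : Sieve X)
    (hS : Dense J S)
    (n : ∀ (c : Cᵒᵖ) (x : X.obj.obj c) (_ : x ∈ (secSub J S).obj c), G.obj (op (ε J c.unop)))
    (hn : ∀ (c c' : Cᵒᵖ) (i : c ⟶ c') (x : X.obj.obj c) (hx : x ∈ (secSub J S).obj c),
      G.map (εmap J i.unop).op (n c x hx) = n c' (X.obj.map i x) ((secSub J S).map i hx)) :
    ∃ g : G.obj (op X), ∀ (c : Cᵒᵖ) (x : X.obj.obj c) (hx : x ∈ (secSub J S).obj c),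
      G.map (elOf J (c := c.unop) x).op g = n c x hx := by
  have hl : IsLimit (G.mapCone (diagCone S)) := isLimitOfPreserves G (diagConeIsLimit S hS)
  let sec : (diag S ⋙ G).sections :=
    ⟨fun p => n p.1 p.2.1 p.2.2, by
      intro p q f
      show G.map (εmap J f.1.unop).op (n p.1 p.2.1 p.2.2) = n q.1 q.2.1 q.2.2
      rw [hn p.1 q.1 f.1 p.2.1 p.2.2]
      have e : (secSub J S).toFunctor.map f.1 p.2 = q.2 := f.2
      have e1 : X.obj.map f.1 p.2.1 = q.2.1 := congrArg Subtype.val e
      congr 1⟩
  refine ⟨(Types.isLimitEquivSections hl).symm sec, ?_⟩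
  intro c x hx
  exact Types.isLimitEquivSections_symm_apply hl sec ⟨c, ⟨x, hx⟩⟩

theorem dense_top (X : Sheaf J (Type u)) : Dense J (⊤ : Sieve X) := (canT J).top_mem X

/-- a limit preserving functor is a sheaf for the canonical topology -/
theorem isSheaf_of_preservesLimits [PreservesLimitsOfSize.{u, u} G] :
    Presieve.IsSheaf (Sheaf.canonicalTopology (Sheaf J (Type u))) G := by
  intro X S hS
  rw [mem_canonical_iff] at hS
  intro x hx
  rw [Presieve.compatible_iff_sieveCompatible] at hx
  have hcongr : ∀ {Y : Sheaf J (Type u)} {f f' : Y ⟶ X} (e : f = f') (h : S f) (h' : S f'),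
      x f h = x f' h' := by
    intro Y f f' e h h'
    subst e
    rfl
  obtain ⟨g, hg⟩ := pl_exists G S hS (fun c s hs => x (elOf J (c := c.unop) s) hs) (by
    intro c c' i s hs
    have h3 : S (εmap J i.unop ≫ elOf J (c := c.unop) s) := S.downward_closed hs _
    have h4 : x (εmap J i.unop ≫ elOf J (c := c.unop) s) h3 =
        G.map (εmap J i.unop).op (x (elOf J (c := c.unop) s) hs) := hx _ _ _
    rw [← h4]
    exact hcongr (εmap_elOf J i.unop s) _ _)
  refine ⟨g, ?_, ?_⟩
  · intro Y f hf
    apply pl_inj G (⊤ : Sieve Y) (dense_top Y)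
    intro c y _
    rw [← Functor.map_comp_apply, ← op_comp]
    have e1 : elOf J y ≫ f = elOf J (f.hom.app (op c) y) := elOf_comp J f y
    have h3 : S (elOf J y ≫ f) := S.downward_closed hf _
    have h4 : x (elOf J y ≫ f) h3 = G.map (elOf J y).op (x f hf) := hx _ _ _
    rw [← h4]
    have h5 := hg (op c) (f.hom.app (op c) y) (app_mem_secSub J S hf y)
    exact (congrArg (fun m => G.map m.op g) e1).trans (h5.trans (hcongr e1.symm _ _))
  · intro g' hg'
    apply pl_inj G S hS
    intro c s hs
    exact (hg' _ hs).trans (hg (op c) s hs).symm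

end Groth.Agent.H7.CanTop
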