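import Mathlib
import Groth.Agent.Lib.Helper7.CanTop2

open CategoryTheory CategoryTheory.Limits Opposite

universe w u

namespace Groth.Agent.H7.CanTop

open Groth.Agent.H7.ShCoprod Groth.Agent.H7.DetectFam Groth.Agent.H7.OC

variable {C : Type u} [SmallCategory C] {J : GrothendieckTopology C}

lemma elOf_toSheafify {d c' : C} (n : c' ⟶ d) :
    elOf J ((toSheafify J (yoneda.obj d)).app (op c') n) = εmap J n := by
  apply (elEquiv J c' (ε J d)).injective
  rw [elEquiv_elOf]
  unfold elEquiv
  simp only [Equiv.trans_apply]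
  rw [Adjunction.homEquiv_unit]
  have h1 : (sheafificationAdjunction J (Type u)).unit.app (yoneda.obj c') ≫
      (sheafToPresheaf J (Type u)).map (εmap J n) =
      yoneda.map n ≫ (sheafificationAdjunction J (Type u)).unit.app (yoneda.obj d) :=
    ((sheafificationAdjunction J (Type u)).unit.naturality (yoneda.map n)).symm
  rw [h1, yonedaEquiv_comp, yonedaEquiv_yoneda_map]

/-- the sieve generated by all sections -/
noncomputable def genSieve (W : Sheaf J (Type u)) : Sieve W :=
  Sieve.ofArrows (fun p : Σ d : C, W.obj.obj (op d) => ε J p.1) (fun p => elOf J p.2)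

theorem dense_genSieve (W : Sheaf J (Type u)) : Dense J (genSieve W) := by
  intro c w
  convert J.top_mem c.unop
  rw [eq_top_iff]
  intro c' k _
  show genSieve W (elOf J (W.obj.map k.op w))
  exact Sieve.ofArrows_mk _ _ (⟨c', W.obj.map k.op w⟩ : Σ d : C, W.obj.obj (op d))

/-- the sieve on a representable sheaf generated by a sieve of the site -/
noncomputable def covSieve {d : C} (R : Sieve d) : Sieve (ε J d) :=
  Sieve.ofArrows (fun p : Σ d' : C, {k : d' ⟶ d // R k} => ε J p.1) (fun p => εmap J p.2.1)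

theorem dense_covSieve {d : C} (R : Sieve d) (hR : R ∈ J d) : Dense J (covSieve (J := J) R) := by
  intro c z
  refine J.transitive (Presheaf.imageSieve_mem J (toSheafify J (yoneda.obj d)) z) _ ?_
  intro c' m hm
  obtain ⟨n, hn⟩ := hm
  refine J.superset_covering ?_ (J.pullback_stable n hR)
  intro c'' l hl
  show covSieve (J := J) R (elOf J ((ε J d).obj.map (l ≫ m).op z))
  have h1 : (ε J d).obj.map (l ≫ m).op z = (ε J d).obj.map l.op ((ε J d).obj.map m.op z) := by
    rw [op_comp, Functor.map_comp_apply]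
  have hn' : (toSheafify J (yoneda.obj d)).app (op c') n = (ε J d).obj.map m.op z := hn
  rw [h1, ← hn']
  have h2 : (ε J d).obj.map l.op ((toSheafify J (yoneda.obj d)).app (op c') n) =
      (toSheafify J (yoneda.obj d)).app (op c'') (l ≫ n) :=
    (NatTrans.naturality_apply (toSheafify J (yoneda.obj d)) l.op n).symm
  rw [h2, elOf_toSheafify]
  exact Sieve.ofArrows_mk _ _ (⟨c'', ⟨l ≫ n, hl⟩⟩ : Σ d' : C, {k : d' ⟶ d // R k})

variable (G : (Sheaf J (Type u))ᵒᵖ ⥤ Type w)
  (hG : Presieve.IsSheaf (Sheaf.canonicalTopology (Sheaf J (Type u))) G)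

include hG in
theorem sep_el {W : Sheaf J (Type u)} (a b : G.obj (op W))
    (h : ∀ (d : C) (x : W.obj.obj (op d)), G.map (elOf J x).op a = G.map (elOf J x).op b) :
    a = b := by
  apply (hG (genSieve W) ((mem_canonical_iff J _).mpr (dense_genSieve W))).isSeparatedFor.ext
  intro Y f hf
  obtain ⟨p, g, rfl⟩ := (Sieve.mem_ofArrows_iff _ _ f).mp hf
  rw [op_comp, Functor.map_comp_apply, Functor.map_comp_apply, h]

include hG in
theorem sep_cov {d : C} (R : Sieve d) (hR : R ∈ J d) (a b : G.obj (op (ε J d)))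
    (h : ∀ ⦃d' : C⦄ (k : d' ⟶ d), R k → G.map (εmap J k).op a = G.map (εmap J k).op b) :
    a = b := by
  apply (hG (covSieve R) ((mem_canonical_iff J _).mpr (dense_covSieve R hR))).isSeparatedFor.ext
  intro Y f hf
  obtain ⟨p, g, rfl⟩ := (Sieve.mem_ofArrows_iff _ _ f).mp hf
  rw [op_comp, Functor.map_comp_apply, Functor.map_comp_apply, h _ p.2.2]


section colim

variable {I : Type u} [SmallCategory I] (K : I ⥤ (Sheaf J (Type u))ᵒᵖ)

/-- the generating relation of the presheaf colimit -/
def QRel (d : Cᵒᵖ) (p q : Σ i : I, (K.obj i).unop.obj.obj d) : Prop :=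
  ∃ u : q.1 ⟶ p.1, (K.map u).unop.hom.app d p.2 = q.2

/-- the presheaf colimit, by hand -/
def QP : Cᵒᵖ ⥤ Type u where
  obj d := Quot (QRel K d)
  map {d d'} k := ↾(Quot.map (fun p => ⟨p.1, (K.obj p.1).unop.obj.map k p.2⟩) (by
    rintro p q ⟨u, hu⟩
    refine ⟨u, ?_⟩
    show (K.map u).unop.hom.app d' ((K.obj p.1).unop.obj.map k p.2) =
      (K.obj q.1).unop.obj.map k q.2
    rw [← hu]
    exact NatTrans.naturality_apply (K.map u).unop.hom k p.2))
  map_id d := by
    ext x
    induction x using Quot.ind with | mk p => ?_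
    show Quot.mk _ (⟨p.1, (K.obj p.1).unop.obj.map (𝟙 d) p.2⟩ :
      Σ i : I, (K.obj i).unop.obj.obj d) = Quot.mk _ p
    rw [Functor.map_id_apply]
  map_comp {d d' d''} k l := by
    ext x
    induction x using Quot.ind with | mk p => ?_
    show Quot.mk _ (⟨p.1, (K.obj p.1).unop.obj.map (k ≫ l) p.2⟩ :
      Σ i : I, (K.obj i).unop.obj.obj d'') =
      Quot.mk _ (⟨p.1, (K.obj p.1).unop.obj.map l ((K.obj p.1).unop.obj.map k p.2)⟩ :
      Σ i : I, (K.obj i).unop.obj.obj d'')
    rw [Functor.map_comp_apply]

/-- the maps into the presheaf colimit -/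
def toQP (i : I) : (K.obj i).unop.obj ⟶ QP K where
  app d := ↾fun x => Quot.mk _ ⟨i, x⟩
  naturality := by
    intro d d' k
    rfl

lemma toQP_compat {i j : I} (u : i ⟶ j) : (K.map u).unop.hom ≫ toQP K i = toQP K j := by
  apply NatTrans.ext
  funext d
  ext x
  show Quot.mk (QRel K d) ⟨i, (K.map u).unop.hom.app d x⟩ = Quot.mk (QRel K d) ⟨j, x⟩
  exact (Quot.sound ⟨u, rfl⟩).symm

variable {K}

/-- the legs of the cocone -/
def leg (c : Cone K) (i : I) : (K.obj i).unop ⟶ c.pt.unop := (c.π.app i).unop

lemma leg_comp (c : Cone K) {i j : I} (u : i ⟶ j) : (K.map u).unop ≫ leg c i = leg c j := by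
  have := c.π.naturality u
  have h2 : c.π.app j = c.π.app i ≫ K.map u := (Category.id_comp _).symm.trans this
  exact (congrArg Quiver.Hom.unop h2).symm

variable {c : Cone K} (hc : IsLimit c)

include hc in
/-- sections with the same image in the colimit are locally related in the presheaf colimit -/
theorem locally_eq {i j : I} {d : Cᵒᵖ} (x : (K.obj i).unop.obj.obj d)
    (x' : (K.obj j).unop.obj.obj d)
    (h : (leg c i).hom.app d x = (leg c j).hom.app d x') :
    Presheaf.equalizerSieve (F := QP K) ((toQP K i).app d x) ((toQP K j).app d x') ∈ J d.unop := by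
  let A : Sheaf J (Type u) := (presheafToSheaf J (Type u)).obj (QP K)
  let m : ∀ i, (K.obj i).unop ⟶ A := fun i => ⟨toQP K i ≫ toSheafify J (QP K)⟩
  have hm : ∀ {i j : I} (u : i ⟶ j), (K.map u).unop ≫ m i = m j := by
    intro i j u
    apply Sheaf.hom_ext
    show (K.map u).unop.hom ≫ toQP K i ≫ toSheafify J (QP K) = toQP K j ≫ toSheafify J (QP K)
    rw [← Category.assoc, toQP_compat]
  let s : Cone K :=
    { pt := op A
      π :=
        { app := fun i => (m i).op
          naturality := by
            intro i j u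
            show 𝟙 _ ≫ (m j).op = (m i).op ≫ K.map u
            rw [Category.id_comp]
            have := congrArg Quiver.Hom.op (hm u)
            exact this.symm } }
  have hl : ∀ i, leg c i ≫ (hc.lift s).unop = m i := by
    intro i
    exact congrArg Quiver.Hom.unop (hc.fac s i)
  have h1 : (m i).hom.app d x = (m j).hom.app d x' := by
    rw [← hl i, ← hl j]
    show (hc.lift s).unop.hom.app d ((leg c i).hom.app d x) =
      (hc.lift s).unop.hom.app d ((leg c j).hom.app d x')
    rw [h]
  exact Presheaf.equalizerSieve_mem J (toSheafify J (QP K)) _ _ h1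


include hc hG in
/-- the pairs lemma -/
theorem pairs {s : ∀ i, G.obj (K.obj i)} (hs : s ∈ (K ⋙ G).sections) {i j : I} {d : C}
    (x : (K.obj i).unop.obj.obj (op d)) (x' : (K.obj j).unop.obj.obj (op d))
    (h : (leg c i).hom.app (op d) x = (leg c j).hom.app (op d) x') :
    G.map (elOf J x).op (s i) = G.map (elOf J x').op (s j) := by
  -- the function on the presheaf colimit
  have hresp : ∀ (d' : Cᵒᵖ) (p q : Σ i : I, (K.obj i).unop.obj.obj d'), QRel K d' p q →
      G.map (elOf J (c := d'.unop) p.2).op (s p.1) = G.map (elOf J (c := d'.unop) q.2).op (s q.1) := by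
    rintro d' p q ⟨u, hu⟩
    rw [← hu, ← elOf_comp, op_comp, Functor.map_comp_apply]
    congr 1
    exact (hs u).symm
  let ρ : ∀ d' : Cᵒᵖ, (QP K).obj d' → G.obj (op (ε J d'.unop)) := fun d' =>
    Quot.lift (fun p => G.map (elOf J (c := d'.unop) p.2).op (s p.1)) (hresp d')
  apply sep_cov G hG _ (locally_eq hc x x' h)
  intro d' k hk
  have hk' : (QP K).map k.op ((toQP K i).app (op d) x) =
      (QP K).map k.op ((toQP K j).app (op d) x') := hk
  have h2 := congrArg (ρ (op d')) hk'
  have h3 : G.map (elOf J ((K.obj i).unop.obj.map k.op x)).op (s i) =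
      G.map (elOf J ((K.obj j).unop.obj.map k.op x')).op (s j) := h2
  rw [← εmap_elOf, ← εmap_elOf, op_comp, op_comp, Functor.map_comp_apply,
    Functor.map_comp_apply] at h3
  exact h3

/-- the sieve generated by the legs of a cocone -/
def legSieve (c : Cone K) : Sieve c.pt.unop :=
  Sieve.ofArrows (fun i => (K.obj i).unop) (fun i => leg c i)

include hc in
theorem dense_legSieve : Dense J (legSieve c) := by
  let X := c.pt.unop
  have hX : Presieve.IsSheaf J X.obj := (isSheaf_iff_isSheaf_of_type J X.obj).mp X.property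
  let P₀ : Subfunctor X.obj := ⨆ i, Subfunctor.range (leg c i).hom
  have hP₀ : P₀ ≤ secSub J (legSieve c) := by
    apply iSup_le
    intro i d x hx
    obtain ⟨y, rfl⟩ := hx
    exact app_mem_secSub J (legSieve c) (Sieve.ofArrows_mk _ _ i) (c := d.unop) y
  let Gs := P₀.sheafify J
  let Z : Sheaf J (Type u) :=
    ⟨Gs.toFunctor, (isSheaf_iff_isSheaf_of_type J _).mpr (P₀.sheafify_isSheaf hX)⟩
  let ιZ : Z ⟶ X := ⟨Gs.ι⟩
  have hle : ∀ i, Subfunctor.range (leg c i).hom ≤ Gs := fun i =>
    (le_iSup (fun i => Subfunctor.range (leg c i).hom) i).trans (P₀.le_sheafify J)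
  let z : ∀ i, (K.obj i).unop ⟶ Z := fun i => ⟨Subfunctor.lift (leg c i).hom (hle i)⟩
  have hzι : ∀ i, z i ≫ ιZ = leg c i := by
    intro i
    apply Sheaf.hom_ext
    rfl
  have hmono : ∀ {Y : Sheaf J (Type u)} (a b : Y ⟶ Z), a ≫ ιZ = b ≫ ιZ → a = b := by
    intro Y a b h
    apply Sheaf.hom_ext
    apply NatTrans.ext
    funext d
    ext y
    apply Subtype.ext
    exact congrArg (fun t => t.hom.app d y) h
  let s : Cone K :=
    { pt := op Z
      π :=
        { app := fun i => (z i).op
          naturality := by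
            intro i j u
            show 𝟙 _ ≫ (z j).op = (z i).op ≫ K.map u
            rw [Category.id_comp]
            have h1 : (K.map u).unop ≫ z i = z j := by
              apply hmono
              rw [Category.assoc, hzι, hzι]
              exact leg_comp c u
            exact (congrArg Quiver.Hom.op h1).symm } }
  let t : X ⟶ Z := (hc.lift s).unop
  have ht : ∀ i, leg c i ≫ t = z i := fun i => congrArg Quiver.Hom.unop (hc.fac s i)
  have hid : t ≫ ιZ = 𝟙 X := by
    have h1 : (t ≫ ιZ).op = 𝟙 c.pt := by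
      apply hc.hom_ext
      intro i
      rw [Category.id_comp]
      have : leg c i ≫ t ≫ ιZ = leg c i := by
        rw [← Category.assoc, ht, hzι]
      exact congrArg Quiver.Hom.op this
    exact congrArg Quiver.Hom.unop h1
  intro d x
  have h1 : ιZ.hom.app d (t.hom.app d x) = x := congrArg (fun m => m.hom.app d x) hid
  have h2 : (t.hom.app d x).1 ∈ Gs.obj d := (t.hom.app d x).2
  have h3 : (t.hom.app d x).1 = x := h1
  rw [h3] at h2
  have h4 : P₀.sieveOfSection x ∈ J d.unop := h2
  refine J.superset_covering ?_ h4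
  intro d' k hk
  exact hP₀ _ hk

end colim

include hG in
theorem preservesLimits_of_isSheaf : PreservesLimitsOfSize.{u, u} G := by
  constructor
  intro I _
  constructor
  intro K
  constructor
  intro c hc
  rw [Types.isLimit_iff]
  intro s hs
  have hS : legSieve c ∈ Sheaf.canonicalTopology (Sheaf J (Type u)) c.pt.unop :=
    (mem_canonical_iff J _).mpr (dense_legSieve hc)
  have h1 := (Presieve.isSheafFor_iff_generate _).mpr (hG (legSieve c) hS)
  rw [Presieve.isSheafFor_arrows_iff] at h1
  have hcomp : Presieve.Arrows.Compatible G (fun i => leg c i) s := by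
    intro i j W a b hab
    apply sep_el G hG
    intro d w
    rw [← Functor.map_comp_apply, ← Functor.map_comp_apply, ← op_comp, ← op_comp,
      elOf_comp, elOf_comp]
    apply pairs G hG hc hs
    have := congrArg (fun m => m.hom.app (op d) w) hab
    exact this
  obtain ⟨g, hg, huniq⟩ := h1 s hcomp
  exact ⟨g, hg, huniq⟩

end Groth.Agent.H7.CanTop
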