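import Mathlib
import Groth.Agent.Lib.Helper7.CanTop3

open CategoryTheory CategoryTheory.Limits Opposite

universe w v u

namespace Groth.Agent.H7.CanTop

variable {C : Type u} [SmallCategory C] (J : GrothendieckTopology C)

theorem S3079_main {E' : Type v} [Category.{w} E'] (F : (Sheaf J (Type u))ᵒᵖ ⥤ E') :
    Presheaf.IsSheaf (Sheaf.canonicalTopology (Sheaf J (Type u))) F ↔
      PreservesLimitsOfSize.{u, u} F := by
  constructor
  · intro h
    have h1 : ∀ e : E', PreservesLimitsOfSize.{u, u} (F ⋙ coyoneda.obj (op e)) := fun e =>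
      preservesLimits_of_isSheaf _ (h e)
    constructor
    intro I _
    constructor
    intro K
    constructor
    intro c hc
    refine ⟨coyonedaJointlyReflectsLimits _ _ (fun X => ?_)⟩
    haveI := h1 X.unop
    exact isLimitOfPreserves (F ⋙ coyoneda.obj (op X.unop)) hc
  · intro h e
    haveI : PreservesLimitsOfSize.{u, u} (F ⋙ coyoneda.obj (op e)) := inferInstance
    exact isSheaf_of_preservesLimits _

end Groth.Agent.H7.CanTop
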