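import Mathlib
import Groth.Agent.Lib.Helper7.CanTop4

open CategoryTheory CategoryTheory.Limits Opposite

universe u

namespace Groth.Agent.H7.CanTop

variable {C D : Type u} [SmallCategory C] [SmallCategory D]
  (J : GrothendieckTopology C) (K : GrothendieckTopology D) (f : Sheaf J (Type u) ⥤ Sheaf K (Type u))

theorem S6159_main :
    PreservesColimitsOfSize.{u, u} f ↔
      f.IsContinuous.{u} (Sheaf.canonicalTopology (Sheaf J (Type u)))
        (Sheaf.canonicalTopology (Sheaf K (Type u))) := by
  constructor
  · intro h
    constructor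
    intro G
    have hG : Presieve.IsSheaf (Sheaf.canonicalTopology (Sheaf K (Type u))) G.obj :=
      (isSheaf_iff_isSheaf_of_type _ _).mp G.property
    haveI : PreservesLimitsOfSize.{u, u} G.obj := preservesLimits_of_isSheaf _ hG
    haveI : PreservesLimitsOfSize.{u, u} f.op := preservesLimitsOfSize_op f
    haveI : PreservesLimitsOfSize.{u, u} (f.op ⋙ G.obj) := inferInstance
    exact isSheaf_of_preservesLimits _
  · intro h
    haveI : PreservesLimitsOfSize.{u, u} f.op := by
      constructor
      intro I _
      constructor
      intro K'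
      constructor
      intro c hc
      refine ⟨yonedaJointlyReflectsLimits _ _ (fun Z => ?_)⟩
      have hZ : Presieve.IsSheaf (Sheaf.canonicalTopology (Sheaf J (Type u)))
          (f.op ⋙ yoneda.obj Z) :=
        f.op_comp_isSheaf_of_isSheaf_type _ (Sheaf.isSheaf_yoneda_obj Z)
      haveI : PreservesLimitsOfSize.{u, u} (f.op ⋙ yoneda.obj Z) :=
        preservesLimits_of_isSheaf _ hZ
      exact isLimitOfPreserves (f.op ⋙ yoneda.obj Z) hc
    exact preservesColimitsOfSize_of_op f

end Groth.Agent.H7.CanTop
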