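import Mathlib
import Groth.Prelude.Def_SGA4a
import Groth.Agent.Lib.Helper7.CanTop5

open CategoryTheory CategoryTheory.Limits Opposite

universe u

namespace Groth.Agent.H7.CanTop

open Groth.Agent.H7.ShCoprod Groth.Agent.H7.DetectFam Groth.Agent.H7.OC

section one

variable {C : Type u} [SmallCategory C] {J : GrothendieckTopology C}

theorem dense_mono {X : Sheaf J (Type u)} {S S' : Sieve X} (h : S ≤ S') (hS : Dense J S) :
    Dense J S' :=
  (canT J).superset_covering h hS

/-- the sections of a dense sieve form a jointly epimorphic family -/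
theorem isEpiFamily_of_dense {X : Sheaf J (Type u)} (S : Sieve X) (hS : Dense J S) :
    SGA4.IsEpiFamily (fun p : Σ c : C, {x : X.obj.obj (op c) // x ∈ (secSub J S).obj (op c)} =>
      elOf J p.2.1) := by
  intro Z a b hab
  have hZ : Presieve.IsSheaf J Z.obj := (isSheaf_iff_isSheaf_of_type J Z.obj).mp Z.property
  apply hom_ext_el
  intro c x
  apply (hZ _ (hS (op c) x)).isSeparatedFor.ext
  intro c' k hk
  have n1 : Z.obj.map k.op (a.hom.app (op c) x) = a.hom.app (op c') (X.obj.map k.op x) :=
    (NatTrans.naturality_apply a.hom k.op x).symm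
  have n2 : Z.obj.map k.op (b.hom.app (op c) x) = b.hom.app (op c') (X.obj.map k.op x) :=
    (NatTrans.naturality_apply b.hom k.op x).symm
  rw [n1, n2]
  have h1 := hab ⟨c', ⟨X.obj.map k.op x, hk⟩⟩
  have h2 : elOf J (X.obj.map k.op x) ≫ a = elOf J (X.obj.map k.op x) ≫ b := h1
  rw [elOf_comp, elOf_comp] at h2
  have h3 := congrArg (elEquiv J c' Z) h2
  rw [elEquiv_elOf, elEquiv_elOf] at h3
  exact h3

/-- the subobject classifier -/
def Ω (J : GrothendieckTopology C) : Sheaf J (Type u) :=
  ⟨(Functor.closedSieves J).toFunctor, (isSheaf_iff_isSheaf_of_type J _).mpr (classifier_isSheaf J)⟩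

lemma sieveOfSection_map {F : Cᵒᵖ ⥤ Type u} (P : Subfunctor F) {c c' : Cᵒᵖ} (k : c ⟶ c')
    (h : F.obj c) : P.sieveOfSection (F.map k h) = (P.sieveOfSection h).pullback k.unop := by
  ext d l
  show F.map l.op (F.map k h) ∈ P.obj (op d) ↔ F.map (l ≫ k.unop).op h ∈ P.obj (op d)
  rw [← Functor.map_comp_apply]
  rfl

/-- a jointly epimorphic family generates a dense sieve -/
theorem dense_of_isEpiFamily {ι : Type u} {H : Sheaf J (Type u)} {G : ι → Sheaf J (Type u)}
    (g : ∀ i, G i ⟶ H) (hg : SGA4.IsEpiFamily g) : Dense J (Sieve.ofArrows G g) := by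
  let S := Sieve.ofArrows G g
  let P := secSub J S
  let a : H ⟶ Ω J :=
    ⟨{ app := fun c => ↾fun h => ⟨J.close (P.sieveOfSection h), J.close_isClosed _⟩
       naturality := by
         intro c c' k
         ext h
         apply Subtype.ext
         show J.close (P.sieveOfSection (H.obj.map k h)) =
           (J.close (P.sieveOfSection h)).pullback k.unop
         rw [sieveOfSection_map, J.pullback_close] }⟩
  let b : H ⟶ Ω J :=
    ⟨{ app := fun c => ↾fun _ => ⟨(⊤ : Sieve c.unop), fun _ _ _ => trivial⟩
       naturality := by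
         intro c c' k
         ext h
         apply Subtype.ext
         show (⊤ : Sieve c'.unop) = (⊤ : Sieve c.unop).pullback k.unop
         rw [Sieve.pullback_top] }⟩
  have hab : a = b := by
    apply hg
    intro i
    apply Sheaf.hom_ext
    apply NatTrans.ext
    funext c
    ext y
    apply Subtype.ext
    show J.close (P.sieveOfSection ((g i).hom.app c y)) = ⊤
    rw [J.close_eq_top_iff_mem]
    convert J.top_mem c.unop
    rw [eq_top_iff]
    intro c' k _
    have n1 : H.obj.map k.op ((g i).hom.app c y) = (g i).hom.app (op c') ((G i).obj.map k.op y) :=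
      (NatTrans.naturality_apply (g i).hom k.op y).symm
    show H.obj.map k.op ((g i).hom.app c y) ∈ P.obj (op c')
    rw [n1]
    exact app_mem_secSub J S (Sieve.ofArrows_mk G g i) _
  intro c h
  have h1 := congrArg (fun m => (m.hom.app c h).1) hab
  have h2 : J.close (P.sieveOfSection h) = ⊤ := h1
  exact (J.close_eq_top_iff_mem _).mp h2

end one

section two

variable {C D : Type u} [SmallCategory C] [SmallCategory D]
  (J : GrothendieckTopology C) (K : GrothendieckTopology D) (f : Sheaf J (Type u) ⥤ Sheaf K (Type u))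

theorem coverPreserving (hf : SGA4.PreservesEpiFamilies.{u + 1, u + 1, u} f) :
    CoverPreserving (Sheaf.canonicalTopology (Sheaf J (Type u)))
      (Sheaf.canonicalTopology (Sheaf K (Type u))) f := by
  constructor
  intro X S hS
  rw [mem_canonical_iff] at hS ⊢
  have h1 := hf _ X _ _ (isEpiFamily_of_dense S hS)
  have h2 := dense_of_isEpiFamily _ h1
  refine dense_mono ?_ h2
  intro Y m hm
  obtain ⟨p, l, rfl⟩ := (Sieve.mem_ofArrows_iff _ _ m).mp hm
  exact ⟨_, elOf J p.2.1, l, p.2.2, rfl⟩

theorem preservesColimits [PreservesFiniteLimits f]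
    (hf : SGA4.PreservesEpiFamilies.{u + 1, u + 1, u} f) : PreservesColimitsOfSize.{u, u} f := by
  rw [S6159_main]
  haveI : RepresentablyFlat f := flat_of_preservesFiniteLimits f
  exact Functor.isContinuous_iff_coverPreserving.mpr (coverPreserving J K f hf)

/-- a colimit preserving functor between sheaf topoi is a left adjoint -/
theorem isLeftAdjoint_of_preservesColimits [PreservesColimitsOfSize.{u, u} f] :
    f.IsLeftAdjoint := by
  let L : (Cᵒᵖ ⥤ Type u) ⥤ Sheaf K (Type u) := presheafToSheaf J (Type u) ⋙ f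
  haveI : PreservesColimitsOfSize.{u, u} L := inferInstance
  haveI : L.IsLeftAdjoint := Presheaf.isLeftAdjoint_of_preservesColimits.{u} L
  let R' := L.rightAdjoint
  let adjL : L ⊣ R' := Adjunction.ofIsLeftAdjoint L
  have hsheaf : ∀ Z : Sheaf K (Type u), Presheaf.IsSheaf J (R'.obj Z) := by
    intro Z
    let P := R'.obj Z
    let η : P ⟶ sheafify J P := toSheafify J P
    have hW : J.W η := J.W_toSheafify P
    haveI : IsIso (L.map η) := by
      have := (J.W_iff η).mp hW
      exact (inferInstance : IsIso (f.map ((presheafToSheaf J (Type u)).map η)))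
    have hbij : Function.Bijective (fun g : sheafify J P ⟶ P => η ≫ g) := by
      constructor
      · intro g g' h
        have h' : η ≫ g = η ≫ g' := h
        apply (adjL.homEquiv _ _).symm.injective
        have e1 := adjL.homEquiv_naturality_left_symm η g
        have e2 := adjL.homEquiv_naturality_left_symm η g'
        rw [h'] at e1
        rw [e1] at e2
        exact (cancel_epi (L.map η)).mp e2
      · intro t
        refine ⟨adjL.homEquiv _ _ (inv (L.map η) ≫ (adjL.homEquiv _ _).symm t), ?_⟩
        show η ≫ adjL.homEquiv _ _ (inv (L.map η) ≫ (adjL.homEquiv _ _).symm t) = t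
        apply (adjL.homEquiv _ _).symm.injective
        rw [adjL.homEquiv_naturality_left_symm, Equiv.symm_apply_apply, IsIso.hom_inv_id_assoc]
    obtain ⟨r, hr⟩ := hbij.2 (𝟙 P)
    have hr' : η ≫ r = 𝟙 P := hr
    have hs : Presheaf.IsSheaf J (sheafify J P) := ((presheafToSheaf J (Type u)).obj P).property
    have hr2 : r ≫ η = 𝟙 _ := by
      apply (hW _ hs).1
      show η ≫ r ≫ η = η ≫ 𝟙 _
      rw [← Category.assoc, hr', Category.id_comp, Category.comp_id]
    exact (Presheaf.isSheaf_of_iso_iff (⟨η, r, hr', hr2⟩ : P ≅ sheafify J P)).mpr hs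
  let G : Sheaf K (Type u) ⥤ Sheaf J (Type u) := ObjectProperty.lift _ R' hsheaf
  let comm1 : sheafToPresheaf J (Type u) ⋙ L ≅ f ⋙ 𝟭 _ :=
    (Functor.associator _ _ _).symm ≪≫
      Functor.isoWhiskerRight (asIso (sheafificationAdjunction J (Type u)).counit) f ≪≫
      f.leftUnitor ≪≫ f.rightUnitor.symm
  let comm2 : 𝟭 _ ⋙ R' ≅ G ⋙ sheafToPresheaf J (Type u) := R'.leftUnitor
  exact ⟨G, ⟨adjL.restrictFullyFaithful (fullyFaithfulSheafToPresheaf J (Type u))
    (Functor.FullyFaithful.id _) comm1 comm2⟩⟩

theorem S3080_main [PreservesFiniteLimits f]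
    (hf : SGA4.PreservesEpiFamilies.{u + 1, u + 1, u} f) :
    f.IsLeftAdjoint ∧ PreservesColimitsOfSize.{u, u} f := by
  haveI := preservesColimits J K f hf
  exact ⟨isLeftAdjoint_of_preservesColimits J K f, inferInstance⟩

end two

end Groth.Agent.H7.CanTop
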