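import Mathlib

open CategoryTheory CategoryTheory.Limits Opposite

namespace Groth.Agent.H7.CofanExt

section abstract
universe v₁ u₁
variable {D : Type u₁} [Category.{v₁} D] [FinitaryExtensive D] [HasTerminal D] {ι : Type*}
  {A : ι → D} {c : Cofan A} (hc : IsColimit c)

include hc in
theorem cofan_mono_inj (i : ι) : Mono (c.inj i) := by
  classical
  let fam : ∀ k, A k ⟶ A i ⨿ ⊤_ D := fun k =>
    if h : k = i then eqToHom (congrArg A h) ≫ coprod.inl else terminal.from _ ≫ coprod.inr
  let r := Cofan.IsColimit.desc hc fam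
  have h1 : c.inj i ≫ r = coprod.inl := by
    rw [Cofan.IsColimit.fac hc fam i]
    simp [fam]
  haveI : Mono (c.inj i ≫ r) := by
    rw [h1]
    exact FinitaryExtensive.mono_inl_of_isColimit
      (c := BinaryCofan.mk (coprod.inl : A i ⟶ A i ⨿ ⊤_ D) coprod.inr) (coprodIsCoprod _ _)
  exact mono_of_mono _ r

include hc in
theorem cofan_disjoint (i j : ι) (hij : i ≠ j) {P : D} (f : P ⟶ A i) (g : P ⟶ A j)
    (h : f ≫ c.inj i = g ≫ c.inj j) : Nonempty (IsInitial P) := by
  classical
  let T1 := ⊤_ D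
  let fam : ∀ k, A k ⟶ T1 ⨿ T1 := fun k =>
    terminal.from _ ≫ (if k = i then coprod.inl else coprod.inr)
  let r := Cofan.IsColimit.desc hc fam
  have hi : c.inj i ≫ r = terminal.from _ ≫ coprod.inl := by
    rw [Cofan.IsColimit.fac hc fam i]; simp [fam]
  have hj : c.inj j ≫ r = terminal.from _ ≫ coprod.inr := by
    rw [Cofan.IsColimit.fac hc fam j]; simp [fam, Ne.symm hij]
  have h2 : terminal.from P ≫ (coprod.inl : T1 ⟶ T1 ⨿ T1) = terminal.from P ≫ coprod.inr := by
    have e1 := congrArg (fun t => t ≫ r) h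
    simp only [Category.assoc] at e1
    rw [hi, hj, ← Category.assoc, ← Category.assoc, terminal.comp_from, terminal.comp_from] at e1
    exact e1
  have hdisj := FinitaryExtensive.isPullback_initial_to_binaryCofan
    (c := BinaryCofan.mk (coprod.inl : T1 ⟶ T1 ⨿ T1) coprod.inr) (coprodIsCoprod T1 T1)
  let q : P ⟶ ⊥_ D := hdisj.lift (terminal.from _) (terminal.from _) h2
  haveI : IsIso q := initialIsInitial.isIso_to q
  exact ⟨IsInitial.ofIso initialIsInitial (asIso q).symm⟩

end abstract

end Groth.Agent.H7.CofanExt
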