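import Mathlib
import Groth.Agent.Lib.Helper7.ShCoprod
import Groth.Agent.Lib.Helper7.CofanExt

open CategoryTheory CategoryTheory.Limits Opposite

universe u

namespace Groth.Agent.H7.ShCoprod

variable {C : Type u} [SmallCategory C] (J : GrothendieckTopology C)

/-- converse of `isColimit_of_bijective` -/
theorem bijective_of_isColimit {X : C} {ι : Type u} (Y : ι → C) (s : ∀ i, Y i ⟶ X)
    (hc : IsColimit (Cofan.mk ((presheafToSheaf J (Type u)).obj (yoneda.obj X))
      (fun i => (presheafToSheaf J (Type u)).map (yoneda.map (s i)))))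
    (T : Sheaf J (Type u)) (x : ∀ i, T.obj.obj (op (Y i))) :
    ∃! t : T.obj.obj (op X), ∀ i, T.obj.map (s i).op t = x i := by
  let m := Cofan.IsColimit.desc hc (fun i => (elEquiv J (Y i) T).symm (x i))
  refine ⟨elEquiv J X T m, ?_, ?_⟩
  · intro i
    rw [← elEquiv_naturality]
    have := Cofan.IsColimit.fac hc (fun i => (elEquiv J (Y i) T).symm (x i)) i
    simp only [cofan_mk_inj] at this
    rw [this, Equiv.apply_symm_apply]
  · intro t ht
    have : (elEquiv J X T).symm t = m := by
      apply Cofan.IsColimit.hom_ext hc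
      intro i
      rw [Cofan.IsColimit.fac hc]
      apply (elEquiv J (Y i) T).injective
      change elEquiv J (Y i) T ((presheafToSheaf J (Type u)).map (yoneda.map (s i)) ≫ _) = _
      rw [elEquiv_naturality, Equiv.apply_symm_apply, Equiv.apply_symm_apply]
      exact ht i
    rw [← this, Equiv.apply_symm_apply]

/-- (i) ⟹ (ii) -/
theorem isColimit_of_conditions {X : C} {ι : Type u} (Y : ι → C) (s : ∀ i, Y i ⟶ X)
    (hcov : Sieve.ofArrows Y s ∈ J X)
    (hdiag : ∀ i, IsIso ((presheafToSheaf J (Type u)).map (pullback.diagonal (yoneda.map (s i)))))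
    (hinit : ∀ i j, i ≠ j → Nonempty (IsInitial ((presheafToSheaf J (Type u)).obj
        (pullback (yoneda.map (s i)) (yoneda.map (s j)))))) :
    Nonempty (IsColimit (Cofan.mk ((presheafToSheaf J (Type u)).obj (yoneda.obj X))
      (fun i => (presheafToSheaf J (Type u)).map (yoneda.map (s i))))) := by
  apply isColimit_of_bijective
  intro T x
  have hT : Presieve.IsSheaf J T.obj := (isSheaf_iff_isSheaf_of_type J T.obj).mp T.property
  have h1 : Presieve.IsSheafFor T.obj (Presieve.ofArrows Y s) := by
    rw [Presieve.isSheafFor_iff_generate]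
    exact hT _ hcov
  refine (Presieve.isSheafFor_arrows_iff _ _).mp h1 x ?_
  intro i j Z gi gj comm
  let adj := sheafificationAdjunction J (Type u)
  let l : yoneda.obj Z ⟶ pullback (yoneda.map (s i)) (yoneda.map (s j)) :=
    pullback.lift (yoneda.map gi) (yoneda.map gj) (by
      rw [← yoneda.map_comp, comm, yoneda.map_comp])
  have claim : pullback.fst (yoneda.map (s i)) (yoneda.map (s j)) ≫ yonedaEquiv.symm (x i) =
      pullback.snd (yoneda.map (s i)) (yoneda.map (s j)) ≫ yonedaEquiv.symm (x j) := by
    by_cases hij : i = j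
    · subst hij
      have hδ : ∀ m₁ m₂ : pullback (yoneda.map (s i)) (yoneda.map (s i)) ⟶ T.obj,
          pullback.diagonal (yoneda.map (s i)) ≫ m₁ = pullback.diagonal (yoneda.map (s i)) ≫ m₂ →
          m₁ = m₂ := by
        intro m₁ m₂ h
        apply (adj.homEquiv _ T).symm.injective
        have h2 := congrArg (adj.homEquiv _ T).symm h
        rw [Adjunction.homEquiv_naturality_left_symm, Adjunction.homEquiv_naturality_left_symm] at h2
        haveI := hdiag i
        exact (cancel_epi _).mp h2
      apply hδ
      simp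
    · obtain ⟨hI⟩ := hinit i j hij
      apply (adj.homEquiv _ T).symm.injective
      exact hI.hom_ext _ _
  have e1 : T.obj.map gi.op (x i) = yonedaEquiv (l ≫ pullback.fst _ _ ≫ yonedaEquiv.symm (x i)) := by
    rw [← Category.assoc, pullback.lift_fst, ← yonedaEquiv_naturality, Equiv.apply_symm_apply]
  have e2 : T.obj.map gj.op (x j) = yonedaEquiv (l ≫ pullback.snd _ _ ≫ yonedaEquiv.symm (x j)) := by
    rw [← Category.assoc, pullback.lift_snd, ← yonedaEquiv_naturality, Equiv.apply_symm_apply]
  rw [e1, e2, claim]


section converse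
variable {X : C} {ι : Type u} (Y : ι → C) (s : ∀ i, Y i ⟶ X)
  (hc : IsColimit (Cofan.mk ((presheafToSheaf J (Type u)).obj (yoneda.obj X))
      (fun i => (presheafToSheaf J (Type u)).map (yoneda.map (s i)))))

include hc in
theorem mono_inj (i : ι) : Mono ((presheafToSheaf J (Type u)).map (yoneda.map (s i))) := by
  haveI : FinitaryExtensive (Sheaf J (Type u)) := inferInstance
  exact CofanExt.cofan_mono_inj hc i

include hc in
theorem isIso_diag (i : ι) :
    IsIso ((presheafToSheaf J (Type u)).map (pullback.diagonal (yoneda.map (s i)))) := by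
  let a := presheafToSheaf J (Type u)
  haveI := mono_inj J Y s hc i
  have hp : IsPullback (a.map (pullback.fst (yoneda.map (s i)) (yoneda.map (s i))))
      (a.map (pullback.snd (yoneda.map (s i)) (yoneda.map (s i))))
      (a.map (yoneda.map (s i))) (a.map (yoneda.map (s i))) :=
    (IsPullback.of_hasPullback _ _).map a
  haveI : Mono (a.map (pullback.fst (yoneda.map (s i)) (yoneda.map (s i)))) := hp.mono_fst_of_mono
  have h1 : a.map (pullback.diagonal (yoneda.map (s i))) ≫
      a.map (pullback.fst (yoneda.map (s i)) (yoneda.map (s i))) = 𝟙 _ := by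
    rw [← a.map_comp, pullback.diagonal_fst, a.map_id]
  refine ⟨a.map (pullback.fst _ _), h1, ?_⟩
  rw [← cancel_mono (a.map (pullback.fst (yoneda.map (s i)) (yoneda.map (s i)))), Category.assoc, h1,
    Category.comp_id, Category.id_comp]

include hc in
theorem isInitial_pullback (i j : ι) (hij : i ≠ j) :
    Nonempty (IsInitial ((presheafToSheaf J (Type u)).obj
        (pullback (yoneda.map (s i)) (yoneda.map (s j))))) := by
  let a := presheafToSheaf J (Type u)
  have hw : a.map (pullback.fst (yoneda.map (s i)) (yoneda.map (s j))) ≫ a.map (yoneda.map (s i)) =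
      a.map (pullback.snd (yoneda.map (s i)) (yoneda.map (s j))) ≫ a.map (yoneda.map (s j)) := by
    rw [← a.map_comp, ← a.map_comp, pullback.condition]
  haveI : FinitaryExtensive (Sheaf J (Type u)) := inferInstance
  exact CofanExt.cofan_disjoint hc i j hij _ _ hw

include hc in
theorem covering : Sieve.ofArrows Y s ∈ J X := by
  let a := presheafToSheaf J (Type u)
  let S := Sieve.ofArrows Y s
  let el : ∀ k, S.functor.obj (op (Y k)) := fun k => ⟨s k, Sieve.ofArrows_mk Y s k⟩
  let lift : ∀ k, yoneda.obj (Y k) ⟶ S.functor := fun k => yonedaEquiv.symm (el k)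
  have hlift : ∀ k, lift k ≫ S.functorInclusion = yoneda.map (s k) := by
    intro k
    apply yonedaEquiv.injective
    rw [yonedaEquiv_comp, Equiv.apply_symm_apply, yonedaEquiv_yoneda_map]
    rfl
  let r := Cofan.IsColimit.desc hc (fun k => a.map (lift k))
  have hr : r ≫ a.map S.functorInclusion = 𝟙 _ := by
    apply Cofan.IsColimit.hom_ext hc
    intro k
    rw [← Category.assoc, Cofan.IsColimit.fac hc, ← a.map_comp, hlift, Category.comp_id]
    rfl
  haveI : Epi (a.map S.functorInclusion) := by
    haveI : Epi (r ≫ a.map S.functorInclusion) := by rw [hr]; infer_instance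
    exact epi_of_epi r _
  haveI : Sheaf.IsLocallySurjective (a.map S.functorInclusion) :=
    (Sheaf.isLocallySurjective_iff_epi (a.map S.functorInclusion)).mpr inferInstance
  haveI : Presheaf.IsLocallySurjective J S.functorInclusion :=
    (Presheaf.isLocallySurjective_presheafToSheaf_map_iff J S.functorInclusion).mp inferInstance
  have h3 := Presheaf.imageSieve_mem J S.functorInclusion (U := op X) (𝟙 X : (yoneda.obj X).obj (op X))
  refine J.superset_covering ?_ h3
  intro V f hf
  obtain ⟨t, ht⟩ := hf
  have : (t.1 : V ⟶ X) = f := by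
    have h4 : S.functorInclusion.app (op V) t = t.1 := rfl
    rw [h4] at ht
    rw [ht]
    change f ≫ 𝟙 X = f
    simp
  rw [← this]
  exact t.2

end converse

theorem S12108_main {X : C} {ι : Type u} (Y : ι → C) (s : ∀ i, Y i ⟶ X) :
    (Sieve.ofArrows Y s ∈ J X ∧
      (∀ i, IsIso ((presheafToSheaf J (Type u)).map (pullback.diagonal (yoneda.map (s i))))) ∧
      (∀ i j, i ≠ j → Nonempty (IsInitial ((presheafToSheaf J (Type u)).obj
        (pullback (yoneda.map (s i)) (yoneda.map (s j))))))) ↔
    Nonempty (IsColimit (Cofan.mk ((presheafToSheaf J (Type u)).obj (yoneda.obj X))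
      (fun i => (presheafToSheaf J (Type u)).map (yoneda.map (s i))))) := by
  constructor
  · rintro ⟨h1, h2, h3⟩
    exact isColimit_of_conditions J Y s h1 h2 h3
  · rintro ⟨hc⟩
    exact ⟨covering J Y s hc, isIso_diag J Y s hc, isInitial_pullback J Y s hc⟩

end Groth.Agent.H7.ShCoprod
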