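import Mathlib
import Groth.Agent.Lib.Helper7.ShCoprod2

open CategoryTheory CategoryTheory.Limits Opposite

universe u

namespace Groth.Agent.H7.CanonCoprod

open Groth.Agent.H7.ShCoprod

variable {C : Type u} [SmallCategory C]

section general

variable (J : GrothendieckTopology C) [J.Subcanonical]

/-- faithfulness of `a ∘ y` for a subcanonical topology -/
theorem ay_faithful {Z W : C} (f g : Z ⟶ W)
    (h : (presheafToSheaf J (Type u)).map (yoneda.map f) =
      (presheafToSheaf J (Type u)).map (yoneda.map g)) : f = g := by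
  let T := J.yoneda.obj W
  let m := (elEquiv J W T).symm (𝟙 W)
  have hf := elEquiv_naturality J f T m
  have hg := elEquiv_naturality J g T m
  rw [h] at hf
  rw [hf] at hg
  simp only [m, Equiv.apply_symm_apply] at hg
  have : f ≫ 𝟙 W = g ≫ 𝟙 W := hg
  simpa using this

theorem mono_of_ay_mono {Z W : C} (f : Z ⟶ W)
    [Mono ((presheafToSheaf J (Type u)).map (yoneda.map f))] : Mono f := by
  refine ⟨fun g₁ g₂ h => ?_⟩
  apply ay_faithful J
  have := congrArg (fun t => (presheafToSheaf J (Type u)).map (yoneda.map t)) h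
  simp only [Functor.map_comp] at this
  exact (cancel_mono _).mp this

/-- `a(yP)` initial implies `P` initial -/
noncomputable def isInitial_of_ay {P : C}
    (hI : IsInitial ((presheafToSheaf J (Type u)).obj (yoneda.obj P))) : IsInitial P := by
  refine IsInitial.ofUniqueHom (fun W => (elEquiv J P (J.yoneda.obj W)) (hI.to _)) ?_
  intro W m
  apply (elEquiv J P (J.yoneda.obj W)).symm.injective
  exact hI.hom_ext _ _

theorem isColimit_of_sheaf {X : C} {ι : Type u} (Y : ι → C) (s : ∀ i, Y i ⟶ X)
    (hc : IsColimit (Cofan.mk ((presheafToSheaf J (Type u)).obj (yoneda.obj X))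
      (fun i => (presheafToSheaf J (Type u)).map (yoneda.map (s i))))) :
    Nonempty (IsColimit (Cofan.mk X s)) := by
  have key := fun (W : C) (x : ∀ i, Y i ⟶ W) =>
    bijective_of_isColimit J Y s hc (J.yoneda.obj W) x
  refine ⟨Cofan.IsColimit.mk _ (fun t => (key t.pt t.inj).choose) ?_ ?_⟩
  · intro t i
    exact (key t.pt t.inj).choose_spec.1 i
  · intro t m hm
    exact (key t.pt t.inj).choose_spec.2 m hm

theorem universal_of_sheaf {X : C} {ι : Type u} (Y : ι → C) (s : ∀ i, Y i ⟶ X)
    (hc : IsColimit (Cofan.mk ((presheafToSheaf J (Type u)).obj (yoneda.obj X))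
      (fun i => (presheafToSheaf J (Type u)).map (yoneda.map (s i))))) :
    IsUniversalColimit (Cofan.mk X s) := by
  intro F' c' α f hcomm hequi hpb
  let Z' : ι → C := F'.obj ∘ Discrete.mk
  have hF : F' = Discrete.functor Z' :=
    Functor.hext (fun _ => rfl) (by rintro ⟨i⟩ ⟨j⟩ ⟨⟨rfl : i = j⟩⟩; simp [Z'])
  clear_value Z'
  subst hF
  let t : ∀ i, Z' i ⟶ c'.pt := fun i => c'.ι.app ⟨i⟩
  let β : ∀ i, Z' i ⟶ Y i := fun i => α.app ⟨i⟩
  have hpb' : ∀ i, IsPullback (t i) (β i) f (s i) := fun i => hpb ⟨i⟩
  have hcov := covering J Y s hc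
  have hmono : ∀ i, Mono (s i) := fun i => by
    haveI := mono_inj J Y s hc i
    exact mono_of_ay_mono J (s i)
  have hcol : Nonempty (IsColimit (Cofan.mk ((presheafToSheaf J (Type u)).obj (yoneda.obj c'.pt))
      (fun i => (presheafToSheaf J (Type u)).map (yoneda.map (t i))))) := by
    apply isColimit_of_conditions
    · rw [Sieve.ofArrows_eq_pullback_of_isPullback s hpb']
      exact J.pullback_stable f hcov
    · intro i
      haveI := hmono i
      haveI : Mono (t i) := (hpb' i).mono_fst_of_mono
      infer_instance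
    · intro i j hij
      obtain ⟨hI⟩ := isInitial_pullback J Y s hc i j hij
      let φ : pullback (yoneda.map (t i)) (yoneda.map (t j)) ⟶
          pullback (yoneda.map (s i)) (yoneda.map (s j)) :=
        pullback.map _ _ _ _ (yoneda.map (β i)) (yoneda.map (β j)) (yoneda.map f)
          (by rw [← yoneda.map_comp, ← yoneda.map_comp, (hpb' i).w])
          (by rw [← yoneda.map_comp, ← yoneda.map_comp, (hpb' j).w])
      haveI : FinitaryExtensive (Sheaf J (Type u)) := inferInstance
      haveI : HasStrictInitialObjects (Sheaf J (Type u)) :=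
        hasStrictInitialObjects_of_finitaryPreExtensive
      exact ⟨IsInitial.ofStrict ((presheafToSheaf J (Type u)).map φ) hI⟩
  obtain ⟨hcol⟩ := hcol
  obtain ⟨h2⟩ := isColimit_of_sheaf J Z' t hcol
  exact ⟨IsColimit.ofIsoColimit h2 (Cofan.ext (Iso.refl _) (fun i => by simp [t]; rfl))⟩

end general

section canonical

variable {X : C} {ι : Type u} (Y : ι → C) (s : ∀ i, Y i ⟶ X)
  [∀ (i : ι) (Z : C) (g : Z ⟶ X), HasPullback (s i) g]

theorem pulled_isColimit (hu : IsUniversalColimit (Cofan.mk X s)) {Z : C} (g : Z ⟶ X) :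
    Nonempty (IsColimit (Cofan.mk Z (fun i => pullback.snd (s i) g))) := by
  refine hu (Cofan.mk Z (fun i => pullback.snd (s i) g))
    (Discrete.natTrans fun i => pullback.fst (s i.as) g) g ?_ (.of_discrete _) fun j => ?_
  · ext ⟨i⟩
    simp [pullback.condition]
  · exact (IsPullback.of_hasPullback (s j.as) g).flip

theorem covering_of_universal (hu : IsUniversalColimit (Cofan.mk X s)) :
    Sieve.ofArrows Y s ∈ Sheaf.canonicalTopology C X := by
  apply Sheaf.mem_finestTopology_of_forall_isSheafFor
  rintro P ⟨W, rfl⟩ Z g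
  obtain ⟨hcol⟩ := pulled_isColimit Y s hu g
  rw [← Sieve.ofArrows_eq_pullback_of_isPullback s
    (fun i => (IsPullback.of_hasPullback (s i) g).flip)]
  rw [← Presieve.isSheafFor_iff_generate, Presieve.isSheafFor_arrows_iff]
  intro x _
  refine ⟨Cofan.IsColimit.desc hcol x, fun i => Cofan.IsColimit.fac hcol x i, fun m hm => ?_⟩
  apply Cofan.IsColimit.hom_ext hcol
  intro i
  rw [Cofan.IsColimit.fac hcol x i]
  exact hm i

theorem bot_mem_of_universal (hu : IsUniversalColimit (Cofan.mk X s)) (i j : ι) (hij : i ≠ j)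
    (hI : IsInitial (pullback (s i) (s j))) :
    (⊥ : Sieve (pullback (s i) (s j))) ∈ Sheaf.canonicalTopology C (pullback (s i) (s j)) := by
  classical
  apply Sheaf.mem_finestTopology_of_forall_isSheafFor
  rintro P ⟨W, rfl⟩ Z g
  rw [Sieve.pullback_bot]
  have hZ : ∀ (a b : Z ⟶ W), a = b := by
    intro a b
    let g1 : Z ⟶ Y i := g ≫ pullback.fst (s i) (s j)
    let g2 : Z ⟶ Y j := g ≫ pullback.snd (s i) (s j)
    let h : Z ⟶ X := g1 ≫ s i
    have h12 : g2 ≫ s j = h := by
      simp only [h, g1, g2, Category.assoc, pullback.condition]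
    obtain ⟨hcol⟩ := pulled_isColimit Y s hu h
    let σi : Z ⟶ pullback (s i) h := pullback.lift g1 (𝟙 Z) (by simp [h])
    let σj : Z ⟶ pullback (s j) h := pullback.lift g2 (𝟙 Z) (by simp [h12])
    let x : ∀ k, pullback (s k) h ⟶ W := fun k =>
      if k = i then pullback.snd (s k) h ≫ a else pullback.snd (s k) h ≫ b
    let m := Cofan.IsColimit.desc hcol x
    have hi : pullback.snd (s i) h ≫ m = pullback.snd (s i) h ≫ a := by
      have := Cofan.IsColimit.fac hcol x i
      simpa [x] using this
    have hj : pullback.snd (s j) h ≫ m = pullback.snd (s j) h ≫ b := by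
      have := Cofan.IsColimit.fac hcol x j
      simpa [x, Ne.symm hij] using this
    have hσi : σi ≫ pullback.snd (s i) h = 𝟙 Z := pullback.lift_snd _ _ _
    have hσj : σj ≫ pullback.snd (s j) h = 𝟙 Z := pullback.lift_snd _ _ _
    have e1 : m = a := by
      have := congrArg (fun t => σi ≫ t) hi
      simp only [← Category.assoc, hσi, Category.id_comp] at this
      exact this
    have e2 : m = b := by
      have := congrArg (fun t => σj ≫ t) hj
      simp only [← Category.assoc, hσj, Category.id_comp] at this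
      exact this
    rw [← e1, e2]
  intro x hx
  refine ⟨g ≫ hI.to W, ?_, fun m _ => hZ _ _⟩
  intro V f hf
  exact hf.elim

theorem main :
    Nonempty (IsColimit (Cofan.mk
        ((presheafToSheaf (Sheaf.canonicalTopology C) (Type u)).obj (yoneda.obj X))
        (fun i => (presheafToSheaf (Sheaf.canonicalTopology C) (Type u)).map (yoneda.map (s i))))) ↔
      (Nonempty (IsColimit (Cofan.mk X s)) ∧ CoproductDisjoint Y ∧
        IsUniversalColimit (Cofan.mk X s)) := by
  constructor
  · rintro ⟨hc⟩
    obtain ⟨hcol⟩ := isColimit_of_sheaf (Sheaf.canonicalTopology C) Y s hc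
    refine ⟨⟨hcol⟩, ?_, universal_of_sheaf (Sheaf.canonicalTopology C) Y s hc⟩
    have hmono : ∀ i, Mono (s i) := fun i => by
      haveI := mono_inj (Sheaf.canonicalTopology C) Y s hc i
      exact mono_of_ay_mono (Sheaf.canonicalTopology C) (s i)
    haveI : ∀ i, Mono ((Cofan.mk X s).inj i) := hmono
    refine CoproductDisjoint.of_cofan hcol
      (fun {i j} _ => pullback.cone (s i) (s j))
      (fun {i j} _ => pullback.isLimit (s i) (s j)) ?_
    intro i j hij
    have hI := (isInitial_pullback (Sheaf.canonicalTopology C) Y s hc i j hij).some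
    apply isInitial_of_ay (Sheaf.canonicalTopology C)
    exact IsInitial.ofIso hI
      ((presheafToSheaf (Sheaf.canonicalTopology C) (Type u)).mapIso
        (PreservesPullback.iso yoneda (s i) (s j))).symm
  · rintro ⟨⟨hcol⟩, hdisj, hu⟩
    have hmono : ∀ i, Mono (s i) := fun i => CoproductDisjoint.mono_inj hcol i
    apply ShCoprod.main (Sheaf.canonicalTopology C) Y s (covering_of_universal Y s hu) hmono
    intro i j hij
    exact bot_mem_of_universal Y s hu i j hij (IsInitial.ofCoproductDisjointOfIsColimit hij hcol)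

end canonical

end Groth.Agent.H7.CanonCoprod
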