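import Groth.Prelude.Def_AlgSp3
import Groth.Prelude.Def_AlgSp4
import Groth.Agent.Lib.Helper5.AlgSp.SepMor
import Groth.Agent.Lib.Helper5.AlgSp.MonoDesc
import Groth.Agent.Lib.Helper5.AlgSp.Points
import Groth.Agent.Lib.Helper5.AlgSp.Cover
import Mathlib

/-!
# Cancelling a cartesian square along a locally surjective map
-/

set_option autoImplicit false

universe u

open CategoryTheory CategoryTheory.Limits AlgebraicGeometry Opposite Topology

namespace Groth.Agent.H7.CartSq

open _root_.AlgSp Groth.Agent.H5.AlgSp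

variable {S : Scheme.{u}}

/-- In the topos of fppf sheaves: if the left square and the outer rectangle are cartesian and the
bottom left map is locally surjective, the right square is cartesian. -/
theorem isPullback_right_of_locSurj {A B C D E F : Sp S} (ac : A ⟶ C) (ab : A ⟶ B) (cd : C ⟶ D)
    (bd : B ⟶ D) (ce : C ⟶ E) (df : D ⟶ F) (ef : E ⟶ F)
    (hl : IsPullback ac ab cd bd) (hcomm : cd ≫ df = ce ≫ ef)
    (hout : IsPullback (ac ≫ ce) ab ef (bd ≫ df)) [Sheaf.IsLocallySurjective bd] :
    IsPullback ce cd ef df := by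
  let φ : C ⟶ pullback ef df := pullback.lift ce cd hcomm.symm
  have hφ1 : φ ≫ pullback.fst ef df = ce := pullback.lift_fst _ _ _
  have hφ2 : φ ≫ pullback.snd ef df = cd := pullback.lift_snd _ _ _
  let q₁ := pullback.fst (pullback.snd ef df) bd
  let q₂ := pullback.snd (pullback.snd ef df) bd
  have hq : IsPullback q₁ q₂ (pullback.snd ef df) bd := IsPullback.of_hasPullback _ _
  have hPB : IsPullback (q₁ ≫ pullback.fst ef df) q₂ ef (bd ≫ df) :=
    hq.paste_horiz (IsPullback.of_hasPullback ef df)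
  let e := hout.isoIsPullback _ _ hPB
  have he1 : e.hom ≫ (q₁ ≫ pullback.fst ef df) = ac ≫ ce := hout.isoIsPullback_hom_fst _ _ hPB
  have he2 : e.hom ≫ q₂ = ab := hout.isoIsPullback_hom_snd _ _ hPB
  have he3 : e.hom ≫ q₁ = ac ≫ φ := by
    apply pullback.hom_ext
    · rw [Category.assoc, he1, Category.assoc, hφ1]
    · rw [Category.assoc, hq.w, ← Category.assoc, he2, Category.assoc, hφ2, hl.w]
  have hsq : IsPullback ac e.hom φ q₁ := by
    have h1 : IsPullback (e.hom ≫ q₂) ac bd (φ ≫ pullback.snd ef df) := by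
      rw [he2, hφ2]; exact hl.flip
    exact (IsPullback.of_right h1 he3 hq.flip).flip
  haveI : Sheaf.IsLocallySurjective q₁ := isLocallySurjective_of_isPullback hq.flip
  haveI : Mono φ := mono_of_isPullback_of_isLocallySurjective hsq
  haveI : Sheaf.IsLocallySurjective (ac ≫ φ) := by
    rw [← he3]; infer_instance
  haveI : Sheaf.IsLocallySurjective φ :=
    Presheaf.isLocallySurjective_of_isLocallySurjective_fac (J S) (f₁ := ac.hom) (f₂ := φ.hom)
      (f₃ := (ac ≫ φ).hom) rfl
  haveI : IsIso φ := isIso_of_mono_of_isLocallySurjective φ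
  exact IsPullback.of_iso_pullback ⟨hcomm.symm⟩ (asIso φ) hφ1 hφ2

/-- A surjective etale morphism of algebraic spaces is locally surjective as a map of sheaves. -/
theorem isLocallySurjective_of_isEtaleMor {B D : Sp S} (hB : IsAlgSpace B) (f : B ⟶ D)
    (hs : IsSurjectiveMor f) (he : IsEtaleMor f) : Sheaf.IsLocallySurjective f := by
  obtain ⟨V, v, hv, hvs⟩ := hB.atlas
  have h1 : RepWith @Etale (v ≫ f) := he v hv
  have h2 : RepWith @Surjective (v ≫ f) := by
    apply repWith_surjective_of_points h1.1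
    intro y
    obtain ⟨b, rfl⟩ := hs y
    obtain ⟨x, rfl⟩ := points_map_surjective_of_repWith hvs b
    exact ⟨x, Points.map_comp _ _ _⟩
  haveI : Sheaf.IsLocallySurjective (v ≫ f) := isLocallySurjective_of_etale_surjective _ h1 h2
  exact Presheaf.isLocallySurjective_of_isLocallySurjective_fac (J S) (f₁ := v.hom) (f₂ := f.hom)
      (f₃ := (v ≫ f).hom) rfl

theorem S10702_main {A B C D E F : AlgSp.Space S} (ac : A ⟶ C) (ab : A ⟶ B)
    (cd : C ⟶ D) (bd : B ⟶ D) (ce : C ⟶ E) (df : D ⟶ F) (ef : E ⟶ F)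
    (hl : IsPullback ac.hom ab.hom cd.hom bd.hom) (hcomm : cd ≫ df = ce ≫ ef)
    (hout : IsPullback (ac ≫ ce).hom ab.hom ef.hom (bd ≫ df).hom) (hsurj : AlgSp.IsSurjectiveMor bd.hom)
    (het : AlgSp.IsEtaleMor bd.hom) : IsPullback ce.hom cd.hom ef.hom df.hom := by
  haveI := isLocallySurjective_of_isEtaleMor B.property bd.hom hsurj het
  have hc : cd.hom ≫ df.hom = ce.hom ≫ ef.hom := congrArg (fun f => f.hom) hcomm
  exact isPullback_right_of_locSurj ac.hom ab.hom cd.hom bd.hom ce.hom df.hom ef.hom hl hc hout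

end Groth.Agent.H7.CartSq
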