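import Groth.Agent.Lib.Lead.QC.IdealComap
import Mathlib

/-!
# Relative effective Cartier divisors: base change (scheme level), for S10797
-/

set_option autoImplicit false
universe u

open CategoryTheory Limits AlgebraicGeometry TensorProduct

namespace Groth.Agent.H7.RelCart

/-- if `a` is a nonzerodivisor of the `R`-algebra `B` with `B/(a)` flat over `R`, then `a ⊗ 1` is a
nonzerodivisor of `B ⊗[R] R'` for every `R`-algebra `R'`. -/
theorem tmul_mem_nonZeroDivisors_of_flat_quot {R B R' : Type*} [CommRing R] [CommRing B]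
    [CommRing R'] [Algebra R B] [Algebra R R'] (a : B) (ha : a ∈ nonZeroDivisors B)
    [Module.Flat R (B ⧸ Ideal.span {a})] :
    (a ⊗ₜ[R] (1 : R')) ∈ nonZeroDivisors (B ⊗[R] R') := by
  let g : B →ₗ[R] B := (LinearMap.mulLeft R a)
  have hg : Function.Injective g := by
    intro x y hxy
    have h2 : (x - y) * a = 0 := by
      have : a * x = a * y := hxy
      rw [sub_mul, mul_comm x a, mul_comm y a, this, sub_self]
    exact sub_eq_zero.mp ((mem_nonZeroDivisors_iff_right.mp ha) _ h2)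
  let f : B →ₗ[R] B ⧸ Ideal.span {a} := (Ideal.Quotient.mkₐ R (Ideal.span {a})).toLinearMap
  have hf : Function.Surjective f := Ideal.Quotient.mk_surjective
  have H : Function.Exact g f := by
    intro y
    change Ideal.Quotient.mk _ y = 0 ↔ _
    rw [Ideal.Quotient.eq_zero_iff_mem, Ideal.mem_span_singleton']
    constructor
    · rintro ⟨c, hc⟩
      exact ⟨c, by change a * c = y; rw [mul_comm]; exact hc⟩
    · rintro ⟨c, hc⟩
      exact ⟨c, by rw [mul_comm]; exact hc⟩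
  have hinj := LinearMap.lTensor_injective_of_exact_of_flat f hf g hg H R'
  have hinj' : Function.Injective (g.rTensor R') := by
    have e : g.rTensor R' = (TensorProduct.comm R R' B).toLinearMap ∘ₗ g.lTensor R' ∘ₗ
        (TensorProduct.comm R B R').toLinearMap := by
      ext b r
      simp
    rw [e]
    exact (TensorProduct.comm R R' B).injective.comp
      (hinj.comp (TensorProduct.comm R B R').injective)
  have key : ∀ z : B ⊗[R] R', g.rTensor R' z = (a ⊗ₜ[R] (1 : R')) * z := by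
    intro z
    induction z using TensorProduct.induction_on with
    | zero => simp
    | tmul b r =>
      rw [LinearMap.rTensor_tmul, Algebra.TensorProduct.tmul_mul_tmul, one_mul]
      rfl
    | add x y hx hy => rw [map_add, mul_add, hx, hy]
  rw [mem_nonZeroDivisors_iff_right]
  intro z hz
  apply hinj'
  rw [map_zero, key, mul_comm]
  exact hz


section Scheme

variable {X Y X' Y' : Scheme.{u}}

/-- restriction between affine opens is flat. -/
theorem flat_restrict_of_isAffineOpen {U V : X.Opens} (hU : IsAffineOpen U) (hV : IsAffineOpen V)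
    (e : U ≤ V) : (X.presheaf.map (homOfLE e).op).hom.Flat := by
  have h1 : U ≤ (𝟙 X : X ⟶ X) ⁻¹ᵁ V := e
  have h2 := HasRingHomProperty.appLE (P := @Flat) (𝟙 X) inferInstance ⟨V, hV⟩ ⟨U, hU⟩ h1
  have h3 : (𝟙 X : X ⟶ X).appLE V U h1 = X.presheaf.map (homOfLE e).op := by
    simp only [Scheme.Hom.appLE, Scheme.Hom.id_app]
    exact Category.id_comp _
  rw [h3] at h2
  exact h2

/-- **base change of a relative effective Cartier divisor**: if `𝓘` is an effective Cartier ideal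
on `X` whose closed subscheme is flat over `Y`, then the inverse image of `𝓘` on `X ×_Y Y'` is an
effective Cartier ideal, for every `Y' ⟶ Y`. -/
theorem isEffCartierIdeal_comap_of_flat_over (q : X ⟶ Y) (g : Y' ⟶ Y) (h : X' ⟶ X) (q' : X' ⟶ Y')
    (hc : IsPullback h q' q g) (𝓘 : X.IdealSheafData) (hI : BlowUp.IsEffCartierIdeal 𝓘)
    [hfl : Flat (𝓘.subschemeι ≫ q)] : BlowUp.IsEffCartierIdeal (𝓘.comap h) := by
  intro x'
  obtain ⟨U₀, hxU₀, a₀, ha₀, hI₀⟩ := hI (h x')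
  obtain ⟨W, hW, hxW, -⟩ := exists_isAffineOpen_mem_and_subset (x := q (h x')) (U := ⊤) trivial
  have hx'W : q' x' ∈ g ⁻¹ᵁ W := by
    change g (q' x') ∈ W
    have e : g (q' x') = q (h x') := by
      rw [← Scheme.Hom.comp_apply, ← Scheme.Hom.comp_apply, hc.w]
    rw [e]; exact hxW
  obtain ⟨W', hW', hxW', eW'⟩ :=
    exists_isAffineOpen_mem_and_subset (x := q' x') (U := g ⁻¹ᵁ W) hx'W
  obtain ⟨U, hU, hxU, eU⟩ :=
    exists_isAffineOpen_mem_and_subset (x := h x') (U := U₀.1 ⊓ q ⁻¹ᵁ W) ⟨hxU₀, hxW⟩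
  have eU₀ : U ≤ U₀.1 := eU.trans inf_le_left
  have eUW : U ≤ q ⁻¹ᵁ W := eU.trans inf_le_right
  -- the generator on `U`
  obtain ⟨a, ha_def⟩ : ∃ a : Γ(X, U), a = X.presheaf.map (homOfLE eU₀).op a₀ := ⟨_, rfl⟩
  have hIa : 𝓘.ideal ⟨U, hU⟩ = Ideal.span {a} := by
    rw [← 𝓘.map_ideal (U := ⟨U, hU⟩) (V := U₀) eU₀, hI₀, Ideal.map_span, Set.image_singleton,
      ha_def]
    rfl
  have haNZD : a ∈ nonZeroDivisors Γ(X, U) := by
    letI : Algebra Γ(X, U₀.1) Γ(X, U) := (X.presheaf.map (homOfLE eU₀).op).hom.toAlgebra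
    haveI : Module.Flat Γ(X, U₀.1) Γ(X, U) := flat_restrict_of_isAffineOpen hU U₀.2 eU₀
    rw [ha_def]
    exact Groth.Agent.LD.QC.map_mem_nonZeroDivisors_of_flat (A := Γ(X, U₀.1)) (B := Γ(X, U)) ha₀
  -- the affine open of the fibre product
  obtain ⟨UY, hUYdef⟩ : ∃ UY : X'.Opens, UY = h ⁻¹ᵁ U ⊓ q' ⁻¹ᵁ W' := ⟨_, rfl⟩
  have hx'UY : x' ∈ UY := by rw [hUYdef]; exact ⟨hxU, hxW'⟩
  have e1 : UY ≤ h ⁻¹ᵁ U := by rw [hUYdef]; exact inf_le_left
  have e2 : UY ≤ q' ⁻¹ᵁ W' := by rw [hUYdef]; exact inf_le_right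
  have hUY : IsAffineOpen UY := by
    haveI : IsAffine (W : Scheme.{u}) := hW
    haveI : IsAffine (W' : Scheme.{u}) := hW'
    haveI : IsAffine (U : Scheme.{u}) := hU
    exact .of_isIso (Scheme.Hom.isPullback_resLE hc eW' eUW hUYdef).isoPullback.hom
  have hpo := (isIso_pushoutSection_iff hc eW' eUW hUYdef).mp
    (isIso_pushoutSection_of_isAffineOpen hc eW' eUW hUYdef hW hW' hU)
  refine ⟨⟨UY, hUY⟩, hx'UY, h.appLE U UY e1 a, ?_, ?_⟩
  · -- nonzerodivisor
    letI aRB : Algebra Γ(Y, W) Γ(X, U) := (q.appLE W U eUW).hom.toAlgebra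
    letI aRR' : Algebra Γ(Y, W) Γ(Y', W') := (g.appLE W W' eW').hom.toAlgebra
    letI aBB' : Algebra Γ(X, U) Γ(X', UY) := (h.appLE U UY e1).hom.toAlgebra
    letI aR'B' : Algebra Γ(Y', W') Γ(X', UY) := (q'.appLE W' UY e2).hom.toAlgebra
    letI aRB' : Algebra Γ(Y, W) Γ(X', UY) :=
      ((h.appLE U UY e1).hom.comp (q.appLE W U eUW).hom).toAlgebra
    haveI t1 : IsScalarTower Γ(Y, W) Γ(X, U) Γ(X', UY) :=
      IsScalarTower.of_algebraMap_eq fun _ => rfl
    haveI t2 : IsScalarTower Γ(Y, W) Γ(Y', W') Γ(X', UY) :=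
      IsScalarTower.of_algebraMap_eq fun r => by
        have := congr($(hpo.w) r)
        exact this
    haveI hPO : Algebra.IsPushout Γ(Y, W) Γ(X, U) Γ(Y', W') Γ(X', UY) :=
      CommRingCat.isPushout_iff_isPushout.mp hpo
    -- flatness of the quotient
    have hUsub : IsAffineOpen (𝓘.subschemeι ⁻¹ᵁ U) := hU.preimage 𝓘.subschemeι
    have eS : 𝓘.subschemeι ⁻¹ᵁ U ≤ (𝓘.subschemeι ≫ q) ⁻¹ᵁ W := by
      intro z hz
      change q (𝓘.subschemeι z) ∈ W
      exact eUW hz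
    have hflat := HasRingHomProperty.appLE (P := @Flat) (𝓘.subschemeι ≫ q) hfl ⟨W, hW⟩
      ⟨𝓘.subschemeι ⁻¹ᵁ U, hUsub⟩ eS
    letI aRC : Algebra Γ(Y, W) Γ(𝓘.subscheme, 𝓘.subschemeι ⁻¹ᵁ U) :=
      ((𝓘.subschemeι ≫ q).appLE W (𝓘.subschemeι ⁻¹ᵁ U) eS).hom.toAlgebra
    haveI : Module.Flat Γ(Y, W) Γ(𝓘.subscheme, 𝓘.subschemeι ⁻¹ᵁ U) := hflat
    have hsurj : Function.Surjective (𝓘.subschemeι.app U).hom :=
      𝓘.subschemeι_app_surjective ⟨U, hU⟩
    have hker : RingHom.ker (𝓘.subschemeι.app U).hom = Ideal.span {a} := by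
      rw [← hIa]; exact 𝓘.ker_subschemeι_app ⟨U, hU⟩
    let φ : Γ(X, U) →ₐ[Γ(Y, W)] Γ(𝓘.subscheme, 𝓘.subschemeι ⁻¹ᵁ U) :=
      { (𝓘.subschemeι.app U).hom with
        commutes' := fun r => by
          change (𝓘.subschemeι.app U).hom ((q.appLE W U eUW).hom r) =
            ((𝓘.subschemeι ≫ q).appLE W (𝓘.subschemeι ⁻¹ᵁ U) eS).hom r
          have e4 := Scheme.Hom.appLE_comp_appLE 𝓘.subschemeι q W U (𝓘.subschemeι ⁻¹ᵁ U)
            eUW le_rfl
          rw [Scheme.Hom.appLE_eq_app] at e4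
          exact congr($e4 r) }
    have hflatq : Module.Flat Γ(Y, W) (Γ(X, U) ⧸ Ideal.span {a}) := by
      have hφs : Function.Surjective φ := hsurj
      have hφk : RingHom.ker φ = Ideal.span {a} := hker
      have h7 : Module.Flat Γ(Y, W) (Γ(X, U) ⧸ RingHom.ker φ) :=
        Module.Flat.of_linearEquiv (Ideal.quotientKerAlgEquivOfSurjective hφs).toLinearEquiv
      rw [hφk] at h7
      exact h7
    haveI := hflatq
    have hnz := tmul_mem_nonZeroDivisors_of_flat_quot (R := Γ(Y, W)) (R' := Γ(Y', W')) a haNZD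
    let ε := Algebra.IsPushout.equiv Γ(Y, W) Γ(X, U) Γ(Y', W') Γ(X', UY)
    have hε : ε (a ⊗ₜ 1) = (h.appLE U UY e1).hom a := by
      rw [Algebra.IsPushout.equiv_tmul, map_one, mul_one]
      rfl
    rw [mem_nonZeroDivisors_iff_right]
    intro z hz
    have h5 : ε.symm z * (a ⊗ₜ 1) = 0 := by
      apply ε.injective
      rw [map_mul, ε.apply_symm_apply, hε, map_zero]
      exact hz
    have h6 := (mem_nonZeroDivisors_iff_right.mp hnz) _ h5
    have h8 := congrArg ε h6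
    rwa [ε.apply_symm_apply, map_zero] at h8
  · rw [Groth.Agent.LD.QC.ideal_comap_of_le 𝓘 h ⟨U, hU⟩ ⟨UY, hUY⟩ e1, hIa, Ideal.map_span,
      Set.image_singleton]

end Scheme

end Groth.Agent.H7.RelCart
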