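import Mathlib
import Groth.Agent.Lib.Helper7.RelCurveA
import Groth.Agent.Lib.Helper7.RelCartA
import Groth.Agent.Lib.Helper9.Misc.APX1
import Groth.Prelude.Def_Mor2

/-! helper7: relative effective Cartier divisors on smooth relative curves (S1184). -/

set_option autoImplicit false

universe u

open CategoryTheory Limits AlgebraicGeometry TopologicalSpace Opposite

namespace Groth.Agent.H7.RelCurve

open Groth.Agent.H1.FibreStalk Groth.Agent.H1.CartierKit

variable {X S : Scheme.{u}}

/-- a quasi-sober space without nontrivial specializations has dimension at most zero. -/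
theorem topologicalKrullDim_le_zero_of_forall_specializes {T : Type*} [TopologicalSpace T]
    [QuasiSober T] (h : ∀ x y : T, x ⤳ y → x = y) : topologicalKrullDim T ≤ 0 := by
  rw [topologicalKrullDim, Order.krullDim_nonpos_iff_forall_isMax]
  intro a b hab
  obtain ⟨ηa, ha⟩ := QuasiSober.sober a.isIrreducible a.isClosed
  obtain ⟨ηb, hb⟩ := QuasiSober.sober b.isIrreducible b.isClosed
  have h1 : ηb ⤳ ηa := by
    rw [specializes_iff_mem_closure, hb.def]
    exact hab ha.mem
  have h2 := h _ _ h1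
  intro x hx
  have h3 : (b : Set T) = (a : Set T) := by rw [← hb.def, ← ha.def, h2]
  have hx' : x ∈ (b : Set T) := hx
  rw [h3] at hx'
  exact hx'

/-- an effective Cartier ideal sheaf is of finite type. -/
theorem isFiniteTypeIdeal_of_isEffCartierIdeal (𝓘 : X.IdealSheafData)
    (h : BlowUp.IsEffCartierIdeal 𝓘) : BlowUp.IsFiniteTypeIdeal 𝓘 := by
  intro V
  obtain ⟨t, htdef⟩ : ∃ t : Set Γ(X, V.1), t = {g | (𝓘.ideal (X.affineBasicOpen g)).FG} := ⟨_, rfl⟩
  have ht : Ideal.span t = ⊤ := by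
    rw [← V.2.self_le_iSup_basicOpen_iff]
    intro x hx
    obtain ⟨U, hxU, a, -, hIa⟩ := h x
    obtain ⟨f, g, hfg, hxf⟩ := exists_basicOpen_le_affine_inter V.2 U.2 x ⟨hx, hxU⟩
    have hft : f ∈ t := by
      rw [htdef]
      change (𝓘.ideal (X.affineBasicOpen f)).FG
      have e : X.affineBasicOpen f = X.affineBasicOpen g := Subtype.ext hfg
      rw [e, ← 𝓘.map_ideal_basicOpen U g, hIa, Ideal.map_span, Set.image_singleton]
      exact Submodule.fg_span_singleton _
    exact Opens.mem_iSup.mpr ⟨⟨f, hft⟩, hxf⟩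
  apply Ideal.fg_of_localizationSpan t ht
  intro g
  obtain ⟨g, hgt⟩ := g
  have hg : (𝓘.ideal (X.affineBasicOpen g)).FG := by
    subst htdef
    exact hgt
  change Ideal.FG (Ideal.map (algebraMap Γ(X, V.1) (Localization.Away g)) (𝓘.ideal V))
  rw [← 𝓘.map_ideal_basicOpen V g] at hg
  letI : Algebra Γ(X, V.1) Γ(X, X.basicOpen g) :=
    (X.presheaf.map (homOfLE (X.basicOpen_le g)).op).hom.toAlgebra
  haveI : IsLocalization.Away g Γ(X, X.basicOpen g) := V.2.isLocalization_basicOpen g
  let e := IsLocalization.algEquiv (Submonoid.powers g) Γ(X, X.basicOpen g)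
    (Localization.Away g)
  have h1 : (𝓘.ideal V).map (algebraMap Γ(X, V.1) (Localization.Away g)) =
      ((𝓘.ideal V).map (algebraMap Γ(X, V.1) Γ(X, X.basicOpen g))).map
        (e : Γ(X, X.basicOpen g) →+* Localization.Away g) := by
    rw [Ideal.map_map]
    congr 1
    ext r
    simp [e]
  rw [h1]
  exact hg.map _

/-- on a smooth curve over a field, the support of an effective Cartier divisor has no nontrivial
specializations. -/
theorem eq_of_specializes_of_mem_support (K : Type u) [Field K] {Y : Scheme.{u}}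
    (q : Y ⟶ Spec (CommRingCat.of K)) [SmoothOfRelativeDimension 1 q] (𝓙 : Y.IdealSheafData)
    (h𝓙 : BlowUp.IsEffCartierIdeal 𝓙) {y y' : Y} (hy' : y' ∈ 𝓙.support) (hsp : y' ⤳ y) :
    y' = y := by
  haveI : Smooth q := SmoothOfRelativeDimension.smooth 1 q
  obtain ⟨U, hyU, a, ha, hIa⟩ := h𝓙 y
  have hy'U : y' ∈ U.1 := hsp.mem_open U.1.isOpen hyU
  have hay' : a ∈ (U.2.primeIdealOf ⟨y', hy'U⟩).asIdeal := by
    rw [mem_primeIdealOf_iff]
    rw [Scheme.IdealSheafData.mem_support_iff_of_mem (U := U) hy'U, Scheme.mem_zeroLocus_iff] at hy'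
    exact hy' a (hIa ▸ Ideal.mem_span_singleton_self a)
  haveI hreg := Groth.Agent.H1.SmoothDepth.isRegularLocalRing_stalk_of_smooth K q y
  haveI hdom := Groth.Agent.H7.Reg.isDomain (Y.presheaf.stalk y)
  have hdim := ringKrullDim_stalk_le_one K q y
  haveI : Ring.KrullDimLE 1 (Y.presheaf.stalk y) := by
    rw [Ring.krullDimLE_iff]; exact_mod_cast hdim
  letI : Algebra Γ(Y, U.1) (Y.presheaf.stalk y) := (Y.presheaf.germ U.1 y hyU).hom.toAlgebra
  haveI hloc : IsLocalization.AtPrime (Y.presheaf.stalk y) (U.2.primeIdealOf ⟨y, hyU⟩).asIdeal :=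
    U.2.isLocalization_stalk ⟨y, hyU⟩
  have hle : (U.2.primeIdealOf ⟨y', hy'U⟩).asIdeal ≤ (U.2.primeIdealOf ⟨y, hyU⟩).asIdeal := by
    intro t ht
    rw [mem_primeIdealOf_iff] at ht ⊢
    intro hc
    exact ht (hsp.mem_open (Y.basicOpen t).isOpen hc)
  have hdisj : Disjoint ((U.2.primeIdealOf ⟨y, hyU⟩).asIdeal.primeCompl : Set Γ(Y, U.1))
      ((U.2.primeIdealOf ⟨y', hy'U⟩).asIdeal : Set Γ(Y, U.1)) := by
    rw [Set.disjoint_left]
    intro t ht ht'
    exact ht (hle ht')
  have hP' : (Ideal.map (algebraMap Γ(Y, U.1) (Y.presheaf.stalk y))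
      (U.2.primeIdealOf ⟨y', hy'U⟩).asIdeal).IsPrime :=
    IsLocalization.isPrime_of_isPrime_disjoint (U.2.primeIdealOf ⟨y, hyU⟩).asIdeal.primeCompl
      (Y.presheaf.stalk y) _ inferInstance hdisj
  have hne : Ideal.map (algebraMap Γ(Y, U.1) (Y.presheaf.stalk y))
      (U.2.primeIdealOf ⟨y', hy'U⟩).asIdeal ≠ ⊥ := by
    intro h0
    have h1 : algebraMap Γ(Y, U.1) (Y.presheaf.stalk y) a ∈ Ideal.map
        (algebraMap Γ(Y, U.1) (Y.presheaf.stalk y)) (U.2.primeIdealOf ⟨y', hy'U⟩).asIdeal :=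
      Ideal.mem_map_of_mem _ hay'
    rw [h0, Ideal.mem_bot] at h1
    have h2 := Groth.Agent.H7.RelCart.germ_mem_nonZeroDivisors U.2 y hyU a ha
    exact nonZeroDivisors.ne_zero h2 h1
  have hmax := hP'.isMaximal_of_ne_bot hne
  have hpp : (U.2.primeIdealOf ⟨y', hy'U⟩).asIdeal = (U.2.primeIdealOf ⟨y, hyU⟩).asIdeal := by
    have e1 : Ideal.comap (algebraMap Γ(Y, U.1) (Y.presheaf.stalk y))
        (Ideal.map (algebraMap Γ(Y, U.1) (Y.presheaf.stalk y))
          (U.2.primeIdealOf ⟨y', hy'U⟩).asIdeal) = (U.2.primeIdealOf ⟨y', hy'U⟩).asIdeal :=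
      IsLocalization.under_map_of_isPrime_disjoint
        (U.2.primeIdealOf ⟨y, hyU⟩).asIdeal.primeCompl (Y.presheaf.stalk y)
        (I := (U.2.primeIdealOf ⟨y', hy'U⟩).asIdeal) inferInstance hdisj
    have e2 := IsLocalRing.eq_maximalIdeal hmax
    have e3 := IsLocalization.AtPrime.comap_maximalIdeal (Y.presheaf.stalk y)
      (U.2.primeIdealOf ⟨y, hyU⟩).asIdeal
    rw [← e1, e2]
    exact e3
  have h3 : U.2.primeIdealOf ⟨y', hy'U⟩ = U.2.primeIdealOf ⟨y, hyU⟩ := PrimeSpectrum.ext hpp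
  have h4 := U.2.fromSpec_primeIdealOf ⟨y', hy'U⟩
  have h5 := U.2.fromSpec_primeIdealOf ⟨y, hyU⟩
  rw [h3] at h4
  exact h4.symm.trans h5

/-- **an effective Cartier divisor on a smooth curve over a field is locally quasi-finite over the
field.** -/
theorem lqf_of_isEffCartierIdeal (K : Type u) [Field K] {Y : Scheme.{u}}
    (q : Y ⟶ Spec (CommRingCat.of K)) [SmoothOfRelativeDimension 1 q] (𝓙 : Y.IdealSheafData)
    (h𝓙 : BlowUp.IsEffCartierIdeal 𝓙) : LocallyQuasiFinite (𝓙.subschemeι ≫ q) := by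
  haveI : Smooth q := SmoothOfRelativeDimension.smooth 1 q
  haveI : LocallyOfFiniteType q := inferInstance
  haveI : IsLocallyNoetherian Y := LocallyOfFiniteType.isLocallyNoetherian q
  haveI : IsLocallyNoetherian 𝓙.subscheme := LocallyOfFiniteType.isLocallyNoetherian 𝓙.subschemeι
  have hdim : topologicalKrullDim 𝓙.subscheme ≤ 0 := by
    apply topologicalKrullDim_le_zero_of_forall_specializes
    intro z' z hsp
    apply 𝓙.subschemeι.isClosedEmbedding.injective
    refine eq_of_specializes_of_mem_support K q 𝓙 h𝓙 ?_ (hsp.map 𝓙.subschemeι.continuous)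
    rw [← SetLike.mem_coe, ← 𝓙.range_subschemeι]
    exact ⟨z', rfl⟩
  haveI : IsLocallyArtinian 𝓙.subscheme := IsLocallyArtinian.of_topologicalKrullDim_le_zero hdim
  haveI : DiscreteTopology 𝓙.subscheme := inferInstance
  haveI : LocallyOfFiniteType (𝓙.subschemeι ≫ q) := inferInstance
  rw [locallyQuasiFinite_iff_isDiscrete_preimage_singleton]
  intro x
  exact ⟨inferInstance⟩

open Groth.Agent.H4.FittMor7 in
/-- **S1184**. -/
theorem S1184_main (f : X ⟶ S) [SmoothOfRelativeDimension 1 f] (I : X.IdealSheafData) :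
    ((BlowUp.IsEffCartierIdeal I ∧ Flat (I.subschemeι ≫ f)) ↔
      (LocallyQuasiFinite (I.subschemeι ≫ f) ∧ Flat (I.subschemeι ≫ f) ∧
        LocallyOfFinitePresentation (I.subschemeι ≫ f))) ∧
    (Mor2.IsFinLocFree (I.subschemeι ≫ f) →
      BlowUp.IsEffCartierIdeal I ∧ Flat (I.subschemeι ≫ f)) := by
  haveI : Smooth f := SmoothOfRelativeDimension.smooth 1 f
  haveI : Flat f := inferInstance
  haveI : LocallyOfFinitePresentation f := inferInstance
  refine ⟨⟨?_, ?_⟩, ?_⟩
  · rintro ⟨hC, hfl⟩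
    haveI := hfl
    haveI : LocallyOfFinitePresentation I.subschemeι :=
      Groth.Agent.H9.APX.locallyOfFinitePresentation_subschemeι I
        (isFiniteTypeIdeal_of_isEffCartierIdeal I hC)
    refine ⟨?_, hfl, inferInstance⟩
    apply LocallyQuasiFinite.of_fiberToSpecResidueField
    intro s
    haveI := smoothOfRelativeDimension_isStableUnderBaseChange 1
    haveI : SmoothOfRelativeDimension 1 (f.fiberToSpecResidueField s) :=
      MorphismProperty.pullback_snd (P := @SmoothOfRelativeDimension 1) f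
        (S.fromSpecResidueField s) inferInstance
    have hpb1 : IsPullback (I.comap (f.fiberι s)).subschemeι (gmap (f.fiberι s) I) (f.fiberι s)
        I.subschemeι := isPullback_gmap (f.fiberι s) I
    have hpb2 : IsPullback (f.fiberι s) (f.fiberToSpecResidueField s) f
        (S.fromSpecResidueField s) := IsPullback.of_hasPullback _ _
    have hpb := hpb1.flip.paste_vert hpb2
    have hC' : BlowUp.IsEffCartierIdeal (I.comap (f.fiberι s)) :=
      Groth.Agent.H7.RelCart.isEffCartierIdeal_comap_of_flat_over f (S.fromSpecResidueField s)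
        (f.fiberι s) (f.fiberToSpecResidueField s) hpb2 I hC
    have hlqf := lqf_of_isEffCartierIdeal (S.residueField s) (f.fiberToSpecResidueField s)
      (I.comap (f.fiberι s)) hC'
    have hq : LocallyQuasiFinite (hpb.isoPullback.inv ≫
        ((I.comap (f.fiberι s)).subschemeι ≫ f.fiberToSpecResidueField s)) := inferInstance
    have e : hpb.isoPullback.inv ≫
        ((I.comap (f.fiberι s)).subschemeι ≫ f.fiberToSpecResidueField s) =
        pullback.snd (I.subschemeι ≫ f) (S.fromSpecResidueField s) :=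
      (Iso.inv_comp_eq _).mpr hpb.isoPullback_hom_snd.symm
    rw [e] at hq
    exact hq
  · rintro ⟨hq, hfl, hfp⟩
    haveI := hq
    haveI := hfl
    haveI := hfp
    exact ⟨isEffCartierIdeal_of_flat_lqf f I, hfl⟩
  · rintro ⟨hfin, hfl, hfp⟩
    haveI := hfin
    haveI := hfl
    haveI := hfp
    haveI : LocallyQuasiFinite (I.subschemeι ≫ f) := inferInstance
    exact ⟨isEffCartierIdeal_of_flat_lqf f I, hfl⟩

end Groth.Agent.H7.RelCurve
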