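import Mathlib
import Groth.Agent.Lib.Helper5.EffDec.A
import Groth.Agent.Lib.Helper7.RelCurveB

/-! helper7: differences of effective Cartier divisors whose intersection is Cartier (S18733). -/

set_option autoImplicit false
universe u
open CategoryTheory AlgebraicGeometry TopologicalSpace

namespace Groth.Agent.H7.CartSub

variable {X : Scheme.{u}}

/-- the colon ideal sheaf `(𝓩 : 𝓓)` by a finite type ideal sheaf (no Noetherian hypothesis). -/
noncomputable def colonFT (𝓩 𝓓 : X.IdealSheafData) (hD : BlowUp.IsFiniteTypeIdeal 𝓓) :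
    X.IdealSheafData where
  ideal U := (𝓩.ideal U).colon (𝓓.ideal U : Set Γ(X, U.1))
  map_ideal_basicOpen U f := by
    letI : Algebra Γ(X, U.1) Γ(X, X.basicOpen f) :=
      (X.presheaf.map (homOfLE <| X.basicOpen_le f).op).hom.toAlgebra
    haveI : IsLocalization.Away f Γ(X, X.basicOpen f) := U.2.isLocalization_basicOpen f
    have h := Groth.Agent.H5.EffDec.map_colon_of_fg (S := Γ(X, X.basicOpen f))
      (Submonoid.powers f) (𝓩.ideal U) (𝓓.ideal U) (hD U)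
    rw [← 𝓩.map_ideal_basicOpen U f, ← 𝓓.map_ideal_basicOpen U f]
    exact h

@[simp] theorem colonFT_ideal (𝓩 𝓓 : X.IdealSheafData) (hD : BlowUp.IsFiniteTypeIdeal 𝓓)
    (U : X.affineOpens) :
    (colonFT 𝓩 𝓓 hD).ideal U = (𝓩.ideal U).colon (𝓓.ideal U : Set Γ(X, U.1)) := rfl

/-- `W` is a chart on which `𝓘` is generated by one nonzerodivisor. -/
def IsChart (𝓘 : X.IdealSheafData) (W : X.affineOpens) : Prop :=
  ∃ f : Γ(X, W.1), f ∈ nonZeroDivisors Γ(X, W.1) ∧ 𝓘.ideal W = Ideal.span {f}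

lemma IsChart.basicOpen {𝓘 : X.IdealSheafData} {W : X.affineOpens} (h : IsChart 𝓘 W)
    (r : Γ(X, W.1)) : IsChart 𝓘 (X.affineBasicOpen r) := by
  obtain ⟨f, hf, hI⟩ := h
  letI : Algebra Γ(X, W.1) Γ(X, X.basicOpen r) :=
    (X.presheaf.map (homOfLE <| X.basicOpen_le r).op).hom.toAlgebra
  haveI : IsLocalization.Away r Γ(X, X.basicOpen r) := W.2.isLocalization_basicOpen r
  refine ⟨algebraMap Γ(X, W.1) Γ(X, X.basicOpen r) f, ?_, ?_⟩
  · exact IsLocalization.map_nonZeroDivisors_le (Submonoid.powers r) Γ(X, X.basicOpen r)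
      (Submonoid.mem_map_of_mem _ hf)
  · rw [← 𝓘.map_ideal_basicOpen W r, hI, Ideal.map_span, Set.image_singleton]
    rfl

lemma exists_chart_in (𝓘 : X.IdealSheafData) (h𝓘 : BlowUp.IsEffCartierIdeal 𝓘)
    (W₀ : X.affineOpens) (x : X) (hx : x ∈ W₀.1) :
    ∃ r : Γ(X, W₀.1), x ∈ X.basicOpen r ∧ IsChart 𝓘 (X.affineBasicOpen r) := by
  obtain ⟨W', hxW', f, hf, hI⟩ := h𝓘 x
  obtain ⟨r, g, hrg, hxr⟩ := exists_basicOpen_le_affine_inter W₀.2 W'.2 x ⟨hx, hxW'⟩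
  have h1 : IsChart 𝓘 (X.affineBasicOpen g) := IsChart.basicOpen ⟨f, hf, hI⟩ g
  have e : X.affineBasicOpen r = X.affineBasicOpen g := Subtype.ext hrg
  exact ⟨r, hxr, e ▸ h1⟩

/-- a common chart for three effective Cartier ideal sheaves. -/
lemma exists_common_chart (𝓐 𝓑 𝓒 : X.IdealSheafData) (hA : BlowUp.IsEffCartierIdeal 𝓐)
    (hB : BlowUp.IsEffCartierIdeal 𝓑) (hC : BlowUp.IsEffCartierIdeal 𝓒) (x : X) :
    ∃ W : X.affineOpens, x ∈ W.1 ∧ IsChart 𝓐 W ∧ IsChart 𝓑 W ∧ IsChart 𝓒 W := by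
  obtain ⟨W₀, hxW₀, f, hf, hI⟩ := hA x
  obtain ⟨r₁, hx₁, hB₁⟩ := exists_chart_in 𝓑 hB W₀ x hxW₀
  have hA₁ : IsChart 𝓐 (X.affineBasicOpen r₁) := IsChart.basicOpen ⟨f, hf, hI⟩ r₁
  obtain ⟨r₂, hx₂, hC₂⟩ := exists_chart_in 𝓒 hC (X.affineBasicOpen r₁) x hx₁
  exact ⟨X.affineBasicOpen r₂, hx₂, hA₁.basicOpen r₂, hB₁.basicOpen r₂, hC₂⟩

section Alg
variable {A : Type*} [CommRing A]

/-- the local algebra: `(a) + (b) = (e)` with `a`, `b`, `e` nonzerodivisors. -/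
lemma local_alg (a b e : A) (he : e ∈ nonZeroDivisors A) (ha : a ∈ nonZeroDivisors A)
    (hb : b ∈ nonZeroDivisors A)
    (hE : Ideal.span {a} ⊔ Ideal.span {b} = Ideal.span {e}) :
    ∃ a' b' : A, a = a' * e ∧ b = b' * e ∧ a' ∈ nonZeroDivisors A ∧ b' ∈ nonZeroDivisors A ∧
      (Ideal.span {a}).colon ((Ideal.span {e} : Ideal A) : Set A) = Ideal.span {a'} ∧
      (Ideal.span {b}).colon ((Ideal.span {e} : Ideal A) : Set A) = Ideal.span {b'} ∧
      Ideal.span {a'} ⊔ Ideal.span {b'} = (⊤ : Ideal A) ∧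
      Ideal.span {a} ⊓ Ideal.span {b} ≤ Ideal.span {a' * b' * e} := by
  have hae : a ∈ Ideal.span {e} := by
    rw [← hE]; exact Ideal.mem_sup_left (Ideal.mem_span_singleton_self a)
  have hbe : b ∈ Ideal.span {e} := by
    rw [← hE]; exact Ideal.mem_sup_right (Ideal.mem_span_singleton_self b)
  obtain ⟨a', ha'⟩ := Ideal.mem_span_singleton'.mp hae
  obtain ⟨b', hb'⟩ := Ideal.mem_span_singleton'.mp hbe
  have hee : e ∈ Ideal.span {a} ⊔ Ideal.span {b} := by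
    rw [hE]; exact Ideal.mem_span_singleton_self e
  obtain ⟨u, hu, v, hv, huv⟩ := Submodule.mem_sup.mp hee
  obtain ⟨x, rfl⟩ := Ideal.mem_span_singleton'.mp hu
  obtain ⟨y, rfl⟩ := Ideal.mem_span_singleton'.mp hv
  have hxy : x * a' + y * b' = 1 := by
    have h1 : (x * a' + y * b' - 1) * e = 0 := by
      rw [sub_mul, add_mul, one_mul, mul_assoc, mul_assoc, ha', hb', huv, sub_self]
    have h2 := (mem_nonZeroDivisors_iff.mp he).2 _ h1
    exact sub_eq_zero.mp h2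
  have ha'nz : a' ∈ nonZeroDivisors A := by
    rw [mem_nonZeroDivisors_iff]
    have key : ∀ z, z * a' = 0 → z = 0 := by
      intro z hz
      apply (mem_nonZeroDivisors_iff.mp ha).2
      rw [← ha', ← mul_assoc, hz, zero_mul]
    exact ⟨fun z hz => key z (by rw [mul_comm]; exact hz), key⟩
  have hb'nz : b' ∈ nonZeroDivisors A := by
    rw [mem_nonZeroDivisors_iff]
    have key : ∀ z, z * b' = 0 → z = 0 := by
      intro z hz
      apply (mem_nonZeroDivisors_iff.mp hb).2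
      rw [← hb', ← mul_assoc, hz, zero_mul]
    exact ⟨fun z hz => key z (by rw [mul_comm]; exact hz), key⟩
  have hcolon : ∀ c c' : A, c' * e = c →
      (Ideal.span {c}).colon ((Ideal.span {e} : Ideal A) : Set A) = Ideal.span {c'} := by
    intro c c' hc
    ext z
    rw [Submodule.mem_colon, Ideal.mem_span_singleton']
    constructor
    · intro h
      have h1 := h e (Ideal.mem_span_singleton_self e)
      rw [smul_eq_mul, Ideal.mem_span_singleton'] at h1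
      obtain ⟨r, hr⟩ := h1
      refine ⟨r, ?_⟩
      have h2 : (r * c' - z) * e = 0 := by
        rw [sub_mul, mul_assoc, hc, hr, sub_self]
      exact sub_eq_zero.mp ((mem_nonZeroDivisors_iff.mp he).2 _ h2)
    · rintro ⟨r, rfl⟩ s hs
      obtain ⟨t, rfl⟩ := Ideal.mem_span_singleton'.mp hs
      rw [smul_eq_mul, Ideal.mem_span_singleton']
      refine ⟨r * t, ?_⟩
      rw [← hc]; ring
  refine ⟨a', b', ha'.symm, hb'.symm, ha'nz, hb'nz, hcolon a a' ha', hcolon b b' hb', ?_, ?_⟩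
  · rw [Ideal.eq_top_iff_one, ← hxy]
    exact Ideal.add_mem _
      (Ideal.mem_sup_left (Ideal.mul_mem_left _ _ (Ideal.mem_span_singleton_self a')))
      (Ideal.mem_sup_right (Ideal.mul_mem_left _ _ (Ideal.mem_span_singleton_self b')))
  · rintro d ⟨hda, hdb⟩
    obtain ⟨r, rfl⟩ := Ideal.mem_span_singleton'.mp hda
    obtain ⟨s, hs⟩ := Ideal.mem_span_singleton'.mp hdb
    -- r a' e = s b' e
    have h1 : r * a' = s * b' := by
      have h2 : (r * a' - s * b') * e = 0 := by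
        rw [sub_mul, mul_assoc, mul_assoc, ha', hb', hs, sub_self]
      exact sub_eq_zero.mp ((mem_nonZeroDivisors_iff.mp he).2 _ h2)
    rw [Ideal.mem_span_singleton']
    refine ⟨x * s + y * r, ?_⟩
    have h3 : r = (x * s + y * r) * b' := by
      calc r = r * (x * a' + y * b') := by rw [hxy, mul_one]
        _ = x * (r * a') + y * r * b' := by ring
        _ = x * (s * b') + y * r * b' := by rw [h1]
        _ = (x * s + y * r) * b' := by ring
    calc (x * s + y * r) * (a' * b' * e) = ((x * s + y * r) * b') * (a' * e) := by ring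
      _ = r * a := by rw [← h3, ha']

end Alg

set_option maxHeartbeats 800000 in
/-- **S18733**. -/
theorem main {X : Scheme.{u}} (I₁ I₂ : X.IdealSheafData)
    (h₁ : BlowUp.IsEffCartierIdeal I₁) (h₂ : BlowUp.IsEffCartierIdeal I₂)
    (hE : BlowUp.IsEffCartierIdeal (I₁ ⊔ I₂)) :
    ∃ I₁' I₂' : X.IdealSheafData, BlowUp.IsEffCartierIdeal I₁' ∧ BlowUp.IsEffCartierIdeal I₂' ∧
      I₁ = I₁' * (I₁ ⊔ I₂) ∧ I₂ = I₂' * (I₁ ⊔ I₂) ∧ I₁' ⊔ I₂' = ⊤ ∧
      ∀ D : X.IdealSheafData, BlowUp.IsEffCartierIdeal D → D ≤ I₁ → D ≤ I₂ →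
        D ≤ I₁' * I₂' * (I₁ ⊔ I₂) := by
  have hEft := Groth.Agent.H7.RelCurve.isFiniteTypeIdeal_of_isEffCartierIdeal (I₁ ⊔ I₂) hE
  have hch := exists_common_chart I₁ I₂ (I₁ ⊔ I₂) h₁ h₂ hE
  choose W hxW hW₁ hW₂ hWE using hch
  have hcov : ⨆ x, (W x).1 = ⊤ := by
    rw [eq_top_iff]
    intro x _
    exact Opens.mem_iSup.mpr ⟨x, hxW x⟩
  have hloc : ∀ x, ∃ a b e a' b' : Γ(X, (W x).1),
      I₁.ideal (W x) = Ideal.span {a} ∧ I₂.ideal (W x) = Ideal.span {b} ∧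
      (I₁ ⊔ I₂).ideal (W x) = Ideal.span {e} ∧
      a = a' * e ∧ b = b' * e ∧ a' ∈ nonZeroDivisors Γ(X, (W x).1) ∧
      b' ∈ nonZeroDivisors Γ(X, (W x).1) ∧
      (Ideal.span {a}).colon ((Ideal.span {e} : Ideal Γ(X, (W x).1)) : Set Γ(X, (W x).1)) =
        Ideal.span {a'} ∧
      (Ideal.span {b}).colon ((Ideal.span {e} : Ideal Γ(X, (W x).1)) : Set Γ(X, (W x).1)) =
        Ideal.span {b'} ∧
      Ideal.span {a'} ⊔ Ideal.span {b'} = (⊤ : Ideal Γ(X, (W x).1)) ∧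
      Ideal.span {a} ⊓ Ideal.span {b} ≤ Ideal.span {a' * b' * e} := by
    intro x
    obtain ⟨a, ha, hIa⟩ := hW₁ x
    obtain ⟨b, hb, hIb⟩ := hW₂ x
    obtain ⟨e, he, hIe⟩ := hWE x
    have hsup : Ideal.span {a} ⊔ Ideal.span {b} = Ideal.span {e} := by
      rw [← hIa, ← hIb, ← hIe]
      rfl
    obtain ⟨a', b', h1, h2, h3, h4, h5, h6, h7, h8⟩ := local_alg a b e he ha hb hsup
    exact ⟨a, b, e, a', b', hIa, hIb, hIe, h1, h2, h3, h4, h5, h6, h7, h8⟩
  choose a b e a' b' hIa hIb hIe haa' hbb' ha'nz hb'nz hca hcb htop hinf using hloc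
  have hI₁' : ∀ x, (colonFT I₁ (I₁ ⊔ I₂) hEft).ideal (W x) = Ideal.span {a' x} := by
    intro x
    rw [colonFT_ideal, hIa x, hIe x, hca x]
  have hI₂' : ∀ x, (colonFT I₂ (I₁ ⊔ I₂) hEft).ideal (W x) = Ideal.span {b' x} := by
    intro x
    rw [colonFT_ideal, hIb x, hIe x, hcb x]
  refine ⟨colonFT I₁ (I₁ ⊔ I₂) hEft, colonFT I₂ (I₁ ⊔ I₂) hEft, ?_, ?_, ?_, ?_, ?_, ?_⟩
  · intro x
    exact ⟨W x, hxW x, a' x, ha'nz x, hI₁' x⟩
  · intro x
    exact ⟨W x, hxW x, b' x, hb'nz x, hI₂' x⟩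
  · refine Scheme.IdealSheafData.ext_of_iSup_eq_top W hcov (fun x => ?_)
    change I₁.ideal (W x) = (colonFT I₁ (I₁ ⊔ I₂) hEft).ideal (W x) * (I₁ ⊔ I₂).ideal (W x)
    rw [hI₁' x, hIe x, hIa x, Ideal.span_singleton_mul_span_singleton, ← haa' x]
  · refine Scheme.IdealSheafData.ext_of_iSup_eq_top W hcov (fun x => ?_)
    change I₂.ideal (W x) = (colonFT I₂ (I₁ ⊔ I₂) hEft).ideal (W x) * (I₁ ⊔ I₂).ideal (W x)
    rw [hI₂' x, hIe x, hIb x, Ideal.span_singleton_mul_span_singleton, ← hbb' x]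
  · refine Scheme.IdealSheafData.ext_of_iSup_eq_top W hcov (fun x => ?_)
    change (colonFT I₁ (I₁ ⊔ I₂) hEft).ideal (W x) ⊔ (colonFT I₂ (I₁ ⊔ I₂) hEft).ideal (W x) = ⊤
    rw [hI₁' x, hI₂' x, htop x]
  · intro D _ hD₁ hD₂
    refine Scheme.IdealSheafData.le_of_iSup_eq_top W hcov (fun x => ?_)
    change D.ideal (W x) ≤ (colonFT I₁ (I₁ ⊔ I₂) hEft).ideal (W x) *
      (colonFT I₂ (I₁ ⊔ I₂) hEft).ideal (W x) * (I₁ ⊔ I₂).ideal (W x)
    rw [hI₁' x, hI₂' x, hIe x, Ideal.span_singleton_mul_span_singleton,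
      Ideal.span_singleton_mul_span_singleton]
    refine le_trans (le_inf ?_ ?_) (hinf x)
    · rw [← hIa x]; exact hD₁ (W x)
    · rw [← hIb x]; exact hD₂ (W x)

end Groth.Agent.H7.CartSub
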