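import Mathlib
import Groth.Prelude.Def_BlowUp2
import Groth.Prelude.Def_Flat

open AlgebraicGeometry CategoryTheory TopologicalSpace Topology Order

universe u

namespace Groth.Agent.H7.CartierDim

lemma withBot_succ_le {a b : WithBot ℕ∞}
    (h : ∀ n : ℕ, (n : WithBot ℕ∞) ≤ a → ((n + 1 : ℕ) : WithBot ℕ∞) ≤ b) : a + 1 ≤ b := by
  induction a using WithBot.recBotCoe with
  | bot => simp
  | coe m =>
    induction m using ENat.recTopCoe with
    | top =>
      have hb : b = ⊤ := by
        induction b using WithBot.recBotCoe with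
        | bot =>
          have := h 0 (by simp)
          simp at this
        | coe k =>
          induction k using ENat.recTopCoe with
          | top => rfl
          | coe k =>
            have := h k (by exact le_top)
            exfalso
            have h2 : ((k + 1 : ℕ) : WithBot ℕ∞) ≤ ((k : ℕ) : WithBot ℕ∞) := this
            rw [Nat.cast_le] at h2
            omega
      rw [hb]; exact le_top
    | coe n =>
      have := h n le_rfl
      have h2 : ((n : ℕ∞) : WithBot ℕ∞) + 1 = ((n + 1 : ℕ) : WithBot ℕ∞) := by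
        push_cast; rfl
      rw [h2]; exact this

/-- A closed subspace all of whose points have a generization outside has dimension at most
`dim X - 1`. -/
theorem dim_succ_le_of_isClosedEmbedding {Y X : Type*} [TopologicalSpace Y] [TopologicalSpace X]
    [QuasiSober X] {f : Y → X} (hf : IsClosedEmbedding f)
    (hgen : ∀ y : Y, ∃ x : X, x ∉ Set.range f ∧ x ⤳ f y) :
    topologicalKrullDim Y + 1 ≤ topologicalKrullDim X := by
  apply withBot_succ_le
  intro n hn
  unfold topologicalKrullDim at hn ⊢
  obtain ⟨l, hl⟩ := (Order.le_krullDim_iff).mp hn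
  let l' : LTSeries (IrreducibleCloseds X) :=
    l.map (IrreducibleCloseds.map f hf.continuous)
      (IrreducibleCloseds.map_strictMono_of_isInducing hf.isInducing)
  -- the last element
  set T : IrreducibleCloseds X := l'.last with hT
  have hTsub : (T : Set X) ⊆ Set.range f := by
    have h1 : (T : Set X) = closure (f '' (l.last : Set Y)) := by
      rw [hT]; rfl
    rw [h1]
    have : IsClosed (f '' (l.last : Set Y)) := hf.isClosedMap _ l.last.isClosed
    rw [this.closure_eq]
    exact Set.image_subset_range _ _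
  have hTirr : IsIrreducible (T : Set X) := T.isIrreducible
  have hTcl : IsClosed (T : Set X) := T.isClosed
  have hgp := hTirr.isGenericPoint_genericPoint hTcl
  set t := hTirr.genericPoint with ht
  have htT : t ∈ (T : Set X) := hgp.mem
  obtain ⟨y, hy⟩ := hTsub htT
  obtain ⟨x, hx, hxy⟩ := hgen y
  rw [hy] at hxy
  let T' : IrreducibleCloseds X :=
    ⟨closure {x}, isIrreducible_singleton.closure, isClosed_closure⟩
  have hlt : T < T' := by
    refine lt_of_le_of_ne ?_ ?_
    · show (T : Set X) ⊆ closure {x}
      rw [← hgp.def]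
      exact closure_minimal (Set.singleton_subset_iff.mpr (specializes_iff_mem_closure.mp hxy))
        isClosed_closure
    · intro h
      apply hx
      apply hTsub
      rw [h]
      exact subset_closure (Set.mem_singleton x)
  have : ((l'.snoc T' hlt).length : WithBot ℕ∞) ≤ Order.krullDim (IrreducibleCloseds X) :=
    LTSeries.length_le_krullDim _
  have hlen : (l'.snoc T' hlt).length = n + 1 := by
    simp [l', hl]
  rw [hlen] at this
  exact this

/-- A point of an effective Cartier divisor has a generization outside the divisor. -/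
theorem exists_generization_not_mem_support {V : Scheme.{u}} (I : V.IdealSheafData)
    (hI : BlowUp.IsEffCartierIdeal I) (x : V) :
    ∃ y : V, y ∉ I.support ∧ y ⤳ x := by
  obtain ⟨U, hxU, f, hf, hIU⟩ := hI x
  let p : PrimeSpectrum Γ(V, U.1) := U.2.primeIdealOf ⟨x, hxU⟩
  have hp : U.2.fromSpec p = x := U.2.fromSpec_primeIdealOf ⟨x, hxU⟩
  obtain ⟨q, hq, hqp⟩ := Ideal.exists_minimalPrimes_le (bot_le : (⊥ : Ideal Γ(V, U.1)) ≤ p.asIdeal)
  have hqprime : q.IsPrime := hq.1.1
  have hfq : f ∉ q := fun h =>
    Set.disjoint_left.mp (Ideal.disjoint_nonZeroDivisors_of_mem_minimalPrimes hq) h hf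
  let q' : PrimeSpectrum Γ(V, U.1) := ⟨q, hqprime⟩
  have hsp : q' ⤳ p := (PrimeSpectrum.le_iff_specializes q' p).mp hqp
  refine ⟨U.2.fromSpec q', ?_, ?_⟩
  · intro hmem
    have hyU : U.2.fromSpec q' ∈ U.1 := by
      have : U.2.fromSpec q' ∈ Set.range U.2.fromSpec := ⟨_, rfl⟩
      rw [U.2.range_fromSpec] at this
      exact this
    rw [AlgebraicGeometry.Scheme.IdealSheafData.mem_support_iff_of_mem hyU,
      Scheme.mem_zeroLocus_iff] at hmem
    have hfI : f ∈ I.ideal U := by rw [hIU]; exact Ideal.subset_span rfl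
    apply hmem f hfI
    have : q' ∈ (U.2.fromSpec ⁻¹ᵁ V.basicOpen f : (Spec Γ(V, U.1)).Opens) := by
      rw [U.2.fromSpec_preimage_basicOpen]
      exact hfq
    exact this
  · rw [← hp]
    exact hsp.map U.2.fromSpec.continuous

theorem localDim_subscheme_succ_le {V : Scheme.{u}} (I : V.IdealSheafData)
    (hI : BlowUp.IsEffCartierIdeal I) (v : I.subscheme) :
    FlatMor.localDim I.subscheme v + 1 ≤ FlatMor.localDim V (I.subschemeι v) := by
  unfold FlatMor.localDim
  refine le_iInf fun W => ?_
  let W' : {U : Opens I.subscheme // v ∈ U} := ⟨I.subschemeι ⁻¹ᵁ W.1, W.2⟩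
  have h1 : (⨅ U : {U : Opens I.subscheme // v ∈ U}, topologicalKrullDim (U.1 : Set I.subscheme)) ≤
      topologicalKrullDim (W'.1 : Set I.subscheme) := iInf_le _ W'
  refine le_trans (add_le_add_left h1 1) ?_
  have hce : IsClosedEmbedding I.subschemeι := I.subschemeι.isClosedEmbedding
  have hg : IsClosedEmbedding ((W.1 : Set V).restrictPreimage I.subschemeι) :=
    hce.restrictPreimage _
  have hqs : QuasiSober ↥(W.1 : Set V) := W.1.isOpen.isOpenEmbedding_subtypeVal.quasiSober
  refine dim_succ_le_of_isClosedEmbedding hg ?_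
  intro y
  obtain ⟨x0, hx0, hsp⟩ := exists_generization_not_mem_support I hI (I.subschemeι y.1)
  have hx0W : x0 ∈ (W.1 : Set V) := hsp.mem_open W.1.isOpen y.2
  refine ⟨⟨x0, hx0W⟩, ?_, ?_⟩
  · rintro ⟨z, hz⟩
    apply hx0
    have : I.subschemeι z.1 = x0 := congrArg Subtype.val hz
    rw [← this, ← SetLike.mem_coe, ← I.range_subschemeι]
    exact ⟨_, rfl⟩
  · rw [subtype_specializes_iff]
    exact hsp

end Groth.Agent.H7.CartierDim
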