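import Mathlib
import Groth.Agent.Lib.Helper7.CartierDim1
import Groth.Agent.Lib.Helper7.GorSp
import Groth.Agent.Lib.Helper1.AlgSpDim2

set_option autoImplicit false
universe u

open AlgebraicGeometry CategoryTheory Limits

namespace Groth.Agent.H7.CartierDim

open _root_.AlgSp Groth.Agent.H5.AlgSp

variable {S : Scheme.{u}}

lemma localDim_nonneg {W : Type*} [TopologicalSpace W] (x : W) : 0 ≤ FlatMor.localDim W x := by
  apply le_iInf
  rintro ⟨U, hU⟩
  have : Nonempty (TopologicalSpace.IrreducibleCloseds ↥(U : Set W)) :=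
    ⟨⟨closure {⟨x, hU⟩}, isIrreducible_singleton.closure, isClosed_closure⟩⟩
  exact Order.krullDim_nonneg

lemma lt_of_succ_le {a d : WithBot ℕ∞} (ha : 0 ≤ a) (h : a + 1 ≤ d) (hd : d ≠ ⊤) : a < d := by
  induction a using WithBot.recBotCoe with
  | bot => simp at ha
  | coe m =>
    induction d using WithBot.recBotCoe with
    | bot =>
      exfalso
      have h2 : ((m + 1 : ℕ∞) : WithBot ℕ∞) ≤ ⊥ := h
      simp at h2
    | coe k =>
      have h2 : ((m + 1 : ℕ∞) : WithBot ℕ∞) ≤ (k : WithBot ℕ∞) := h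
      rw [WithBot.coe_le_coe] at h2
      rw [WithBot.coe_lt_coe]
      have hk : k ≠ ⊤ := fun hk => hd (by rw [hk]; rfl)
      have hm : m ≠ ⊤ := by
        rintro rfl
        apply hk
        simpa using h2
      exact (ENat.add_one_le_iff hm).mp h2

theorem S10794_main {X D : Sp S} (i : D ⟶ X) (hD : AlgSp.IsEffCartierSub i) (x : Points D)
    (d : WithBot ℕ∞)
    (hd : HasAt (fun U u => FlatMor.localDim ↥U u = d) X (Points.map i x)) (hfin : d ≠ ⊤) :
    HasAt (fun V v => FlatMor.localDim ↥V v < d) D x := by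
  obtain ⟨hrep, V, φ, I, fst, hφe, hφs, sq, hI⟩ := hD
  have hfe : RepWith @Etale fst :=
    MorphismProperty.of_isPullback (P := RepWith @Etale) sq.flip hφe
  obtain ⟨v0, hv0⟩ := ofPt_surjective_of_repWith hφs (Points.map i x)
  have hv0' : Points.map i x = Points.map φ (Points.ofScheme V v0) := by
    rw [← hv0, Points.ofPt_eq_map_ofScheme]
  obtain ⟨z, hz1, hz2⟩ := points_pullback_surjective sq x (Points.ofScheme V v0) hv0'
  obtain ⟨v, rfl⟩ := ofScheme_surjective _ z
  have hιv : I.subschemeι v = v0 := by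
    have h1 : Points.toScheme V (Points.map ((yon S).map
        (Over.homMk I.subschemeι rfl : Over.mk (I.subschemeι ≫ V.hom) ⟶ V))
        (Points.ofScheme _ v)) = v0 := by
      rw [hz2, Points.toScheme_ofScheme]
    rw [← Points.ofPt_eq_map_ofScheme, Points.toScheme_ofPt] at h1
    exact h1
  have hdV : FlatMor.localDim V.left v0 = d := by
    refine Groth.Agent.H1.AlgSpDim.hasAt_chart
      (Groth.Agent.H1.AlgSpDim.etLocalPt_localDim_eq d) φ hφe v0 ?_
    rw [hv0]; exact hd
  refine ⟨_, fst, v, hfe, ?_, ?_⟩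
  · rw [Points.ofPt_eq_map_ofScheme]; exact hz1
  · have key := localDim_subscheme_succ_le I hI v
    rw [hιv, hdV] at key
    exact lt_of_succ_le (localDim_nonneg _) key hfin

end Groth.Agent.H7.CartierDim
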