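import Mathlib
import Groth.Prelude
import Groth.Agent.Lib.Helper7.CatSp2
import Groth.Agent.Lib.Helper7.SmLift
import Groth.Agent.Lib.Helper6.Cat5
import Groth.Agent.Lib.Helper5.AlgSp.DecentGen
import Groth.Agent.Lib.Helper5.AlgSp.DecentT0
import Groth.Agent.Lib.Helper1.AlgSpDim
import Groth.Agent.Lib.Helper3.Decent.Sober

set_option autoImplicit false
universe u
open CategoryTheory CategoryTheory.Limits AlgebraicGeometry Opposite TopologicalSpace

namespace Groth.Agent.H7.CatSp

open _root_.AlgSp Groth.Agent.H5.AlgSp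

variable {S : Scheme.{u}}

/-- the chart map to the terminal object. -/
noncomputable abbrev toT (U : Over S) : U ⟶ Over.mk (𝟙 S) := Over.homMk U.hom (by simp)

theorem comm_toT {X : Sp S} (p : X ⟶ (yon S).obj (Over.mk (𝟙 S))) {U : Over S}
    (a : (yon S).obj U ⟶ X) : a ≫ p = (yon S).map (toT U) ≫ 𝟙 _ := by
  rw [Category.comp_id]
  obtain ⟨g, hg⟩ := (yon S).map_surjective (a ≫ p)
  rw [← hg]
  congr 1
  apply Over.OverMorphism.ext
  have := Over.w g
  simpa using this

theorem repWith_etale_id (F : Sp S) : RepWith @Etale (𝟙 F) :=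
  (repWith_isMultiplicative (S := S) @Etale).id_mem _

theorem lft_of_locP {X : Sp S} (p : X ⟶ (yon S).obj (Over.mk (𝟙 S)))
    (hp : LocP @LocallyOfFiniteType p) {U : Over S} (a : (yon S).obj U ⟶ X)
    (ha : RepWith @Etale a) : LocallyOfFiniteType U.hom :=
  hp a (𝟙 _) (toT U) ha (repWith_etale_id _) (comm_toT p a)

/-- the image in the base of a chart point only depends on the point of the space. -/
theorem hom_eq_of_ofPt_eq {X : Sp S} (p : X ⟶ (yon S).obj (Over.mk (𝟙 S))) {U : Over S}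
    (a : (yon S).obj U ⟶ X) (u1 u2 : ↥U.left) (h : Points.ofPt a u1 = Points.ofPt a u2) :
    U.hom u1 = U.hom u2 := by
  have h1 : ∀ u : ↥U.left, Points.toScheme (Over.mk (𝟙 S)) (Points.map p (Points.ofPt a u)) =
      U.hom u := by
    intro u
    rw [Points.map_ofPt, comm_toT p a, Category.comp_id]
    have := ofPt_yon_map_comp (toT U) (𝟙 ((yon S).obj (Over.mk (𝟙 S)))) u
    rw [Category.comp_id] at this
    rw [this]
    exact Points.toScheme_ofScheme _ _
  rw [← h1 u1, ← h1 u2, h]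

end Groth.Agent.H7.CatSp

namespace Groth.Agent.H7.CatSp

open _root_.AlgSp Groth.Agent.H5.AlgSp

variable {S : Scheme.{u}}

/-- the residue transcendence degree of a chart point only depends on the point of the space. -/
theorem tdeg_eq_of_ofPt_eq {X : Sp S} (p : X ⟶ (yon S).obj (Over.mk (𝟙 S)))
    (hp : LocP @LocallyOfFiniteType p) {U : Over S}
    (a : (yon S).obj U ⟶ X) (ha : RepWith @Etale a) (u1 u2 : ↥U.left)
    (h : Points.ofPt a u1 = Points.ofPt a u2) :
    tdeg U.hom u1 = tdeg U.hom u2 := by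
  have hx : HasAtMor (fun _ _ h u => Dual3.resTrdeg h u = Dual3.resTrdeg U.hom u1) p
      (Points.ofPt a u2) :=
    ⟨U, Over.mk (𝟙 S), a, 𝟙 _, toT U, u1, ha, repWith_etale_id _, comm_toT p a, h, rfl⟩
  have := Groth.Agent.H1.AlgSpDim.hasAtMor_chart
    (Groth.Agent.H1.AlgSpDim.etLocal_resTrdeg_eq (Dual3.resTrdeg U.hom u1)) hp a (𝟙 _) (toT U) ha
    (repWith_etale_id _) (comm_toT p a) u2 hx
  unfold tdeg
  rw [show Dual3.resTrdeg U.hom u2 = Dual3.resTrdeg U.hom u1 from this]

end Groth.Agent.H7.CatSp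

namespace Groth.Agent.H7.CatSp

open _root_.AlgSp Groth.Agent.H5.AlgSp

variable {S : Scheme.{u}}

/-- a dimension function on a scheme chart which is constant on the fibres of the chart descends
to the image of the chart in a decent space. -/
theorem dimFun_descend {X : Sp S} (hd : IsDecent X) {U : Over S} (a : (yon S).obj U ⟶ X)
    (ha : RepWith @Etale a) (δ : ↥U.left → ℤ) (hδ : PtTop.IsDimensionFunction δ)
    (hinv : ∀ u1 u2 : ↥U.left, Points.ofPt a u1 = Points.ofPt a u2 → δ u1 = δ u2) :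
    ∃ δW : (⟨Set.range (Points.ofPt a), (isOpenMap_ofPt_of_etale ha).isOpen_range⟩ :
        Opens (Points X)) → ℤ, PtTop.IsDimensionFunction δW := by
  classical
  let W : Opens (Points X) := ⟨Set.range (Points.ofPt a), (isOpenMap_ofPt_of_etale ha).isOpen_range⟩
  have hch : ∀ w : W, ∃ u : ↥U.left, Points.ofPt a u = w.1 := fun w => w.2
  choose lift hlift using hch
  refine ⟨fun w => δ (lift w), ?_, ?_⟩
  · intro w' w hsp hne
    have hsp' : (w' : Points X) ⤳ (w : Points X) := (subtype_specializes_iff w' w).1 hsp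
    obtain ⟨u', hu'sp, hu'⟩ := exists_specializes_ofPt_of_fieldPt hsp' (hd w'.1) a ha (lift w)
      (hlift w)
    have hne' : u' ≠ lift w := by
      intro e
      apply hne
      apply Subtype.ext
      rw [← hu', e, hlift w]
    have h1 := hδ.1 u' (lift w) hu'sp hne'
    have h2 : δ (lift w') = δ u' := hinv _ _ (by rw [hlift w', hu'])
    show δ (lift w) < δ (lift w')
    rw [h2]; exact h1
  · rintro w' w ⟨hsp, hne, him⟩
    have hsp' : (w' : Points X) ⤳ (w : Points X) := (subtype_specializes_iff w' w).1 hsp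
    obtain ⟨u', hu'sp, hu'⟩ := exists_specializes_ofPt_of_fieldPt hsp' (hd w'.1) a ha (lift w)
      (hlift w)
    have hne' : u' ≠ lift w := by
      intro e
      apply hne
      apply Subtype.ext
      rw [← hu', e, hlift w]
    have himm : PtTop.IsImmediateSpecialization u' (lift w) := by
      refine ⟨hu'sp, hne', ?_⟩
      intro z hz1 hz2
      have hzW : Points.ofPt a z ∈ W := ⟨z, rfl⟩
      have s1 : w' ⤳ (⟨Points.ofPt a z, hzW⟩ : W) := by
        rw [subtype_specializes_iff]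
        show (w' : Points X) ⤳ Points.ofPt a z
        rw [← hu']
        exact hz1.map (Points.continuous_ofPt a)
      have s2 : (⟨Points.ofPt a z, hzW⟩ : W) ⤳ w := by
        rw [subtype_specializes_iff]
        show Points.ofPt a z ⤳ (w : Points X)
        rw [← hlift w]
        exact hz2.map (Points.continuous_ofPt a)
      rcases him ⟨Points.ofPt a z, hzW⟩ s1 s2 with e | e
      · left
        have e' : Points.ofPt a z = Points.ofPt a u' := by
          rw [hu']; exact congrArg Subtype.val e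
        by_contra hzu
        have := hδ.1 u' z hz1 (fun h => hzu h.symm)
        rw [hinv _ _ e'] at this
        exact lt_irrefl _ this
      · right
        have e' : Points.ofPt a z = Points.ofPt a (lift w) := by
          rw [hlift w]; exact congrArg Subtype.val e
        by_contra hzu
        have := hδ.1 z (lift w) hz2 hzu
        rw [hinv _ _ e'] at this
        exact lt_irrefl _ this
    have h1 := hδ.2 u' (lift w) himm
    have h2 : δ (lift w') = δ u' := hinv _ _ (by rw [hlift w', hu'])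
    show δ (lift w') = δ (lift w) + 1
    rw [h2]; exact h1

end Groth.Agent.H7.CatSp

namespace Groth.Agent.H7.CatSp

open _root_.AlgSp Groth.Agent.H5.AlgSp

variable {S : Scheme.{u}}

theorem exists_dimFun [IsLocallyNoetherian S]
    (hS : ∀ s : S, CAlg.IsUniversallyCatenary (S.presheaf.stalk s)) {X : Sp S}
    (hX : IsAlgSpace X) (hd : IsDecent X) (p : X ⟶ (yon S).obj (Over.mk (𝟙 S)))
    (hp : LocP @LocallyOfFiniteType p) (x : Points X) :
    ∃ W : Opens (Points X), x ∈ W ∧ ∃ δ : W → ℤ, PtTop.IsDimensionFunction δ := by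
  obtain ⟨U0, a0, u0, hU0, ha0, hu0⟩ := Groth.Agent.H7.SmLift.exists_affine_chart_at hX x
  -- dimension function on the base near `s`
  have hC : PtTop.IsCatenarySpace S :=
    Groth.Agent.H6.Cat5.catenary_of_stalks S hS S (𝟙 S) inferInstance
  obtain ⟨V0, hV0, hs0, -⟩ := S.isBasis_affineOpens.exists_subset_of_mem_open
    (Set.mem_univ (U0.hom u0)) isOpen_univ
  obtain ⟨V0', hV0', rfl⟩ := hV0
  haveI : IsNoetherianRing Γ(S, V0') := IsLocallyNoetherian.component_noetherian ⟨V0', hV0'⟩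
  haveI : NoetherianSpace (↥(V0' : Opens ↥S)) := noetherianSpace_of_isAffineOpen V0' hV0'
  obtain ⟨S', hsS', δ', hδ'⟩ := Groth.Agent.H6.Cat.exists_dimFun_of_cat hC (U0.hom u0) V0' hs0
  obtain ⟨V, hV, hsV, hVS'⟩ := S.isBasis_affineOpens.exists_subset_of_mem_open hsS' S'.isOpen
  obtain ⟨V', hV', rfl⟩ := hV
  have hδV := isDimensionFunction_restrict S' V' hVS' δ' hδ'
  -- the chart over `V'`
  obtain ⟨O, hO⟩ : ∃ O : U0.left.Opens, O = U0.hom ⁻¹ᵁ V' := ⟨_, rfl⟩
  obtain ⟨U, hU⟩ : ∃ U : Over S, U = Over.mk (O.ι ≫ U0.hom) := ⟨_, rfl⟩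
  subst hU
  let j : Over.mk (O.ι ≫ U0.hom) ⟶ U0 := Over.homMk O.ι rfl
  have ha : RepWith @Etale ((yon S).map j ≫ a0) :=
    (repWith_isMultiplicative (S := S) @Etale).comp_mem _ _
      ((repWith_yon_map_iff @Etale j).2 (inferInstance : Etale O.ι)) ha0
  haveI : LocallyOfFiniteType (O.ι ≫ U0.hom) := lft_of_locP p hp _ ha
  have hfV : ∀ u : ↥O, (O.ι ≫ U0.hom) u ∈ V' := by
    intro u
    have h1 : (u : ↥U0.left) ∈ O := u.2
    have h2 : (u : ↥U0.left) ∈ U0.hom ⁻¹ᵁ V' := by rw [← hO]; exact h1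
    exact h2
  have hδU := scheme_dimFun (O.ι ≫ U0.hom) hS V' hV' _ hδV hfV
  obtain ⟨δW, hδW⟩ := dimFun_descend hd ((yon S).map j ≫ a0) ha _ hδU (by
    intro u1 u2 h12
    have e1 : (O.ι ≫ U0.hom) u1 = (O.ι ≫ U0.hom) u2 :=
      hom_eq_of_ofPt_eq p (U := Over.mk (O.ι ≫ U0.hom)) _ u1 u2 h12
    have e2 : tdeg (O.ι ≫ U0.hom) u1 = tdeg (O.ι ≫ U0.hom) u2 :=
      tdeg_eq_of_ofPt_eq p hp (U := Over.mk (O.ι ≫ U0.hom)) _ ha u1 u2 h12
    show δ' _ + _ = δ' _ + _
    rw [e2]
    congr 2
    exact Subtype.ext e1)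
  refine ⟨_, ?_, δW, hδW⟩
  have hu0O : u0 ∈ O := by rw [hO]; exact hsV
  refine ⟨⟨u0, hu0O⟩, ?_⟩
  rw [← hu0]
  exact ofPt_yon_map_comp j a0 ⟨u0, hu0O⟩

end Groth.Agent.H7.CatSp

namespace Groth.Agent.H7.CatSp

open _root_.AlgSp Groth.Agent.H5.AlgSp

variable {S : Scheme.{u}}

/-- the two notions of catenary space. -/
theorem isCatenarySpace_of_ptTop {A : Type*} [TopologicalSpace A] (h : PtTop.IsCatenarySpace A) :
    W4stk3decentspacesp2.IsCatenarySpace A := by
  intro T T' hTT'
  obtain ⟨hfin, hsat⟩ := h T T' hTT'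
  obtain ⟨n, hn⟩ := ENat.ne_top_iff_exists.mp hfin
  constructor
  · refine ⟨n, fun p hp1 hp2 => ?_⟩
    have h1 : (p.length : ℕ∞) ≤ PtTop.codim T (T' : Set A) := by
      unfold PtTop.codim
      exact le_iSup₂ (f := fun (s : LTSeries (IrreducibleCloseds A))
        (_ : s.head = T ∧ (s.last : Set A) ⊆ (T' : Set A)) => (s.length : ℕ∞)) p
        ⟨hp1, by rw [hp2]⟩
    rw [← hn] at h1
    exact_mod_cast h1
  · intro p q hp1 hp2 hq1 hq2 hps hqs
    have e1 := hsat p hp1 hp2 hps
    have e2 := hsat q hq1 hq2 hqs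
    have : (p.length : ℕ∞) = q.length := e1.trans e2.symm
    exact_mod_cast this

theorem S10447_main [IsLocallyNoetherian S]
    (hS : ∀ s : ↥S, CAlg.IsUniversallyCatenary ↥(S.presheaf.stalk s)) (X : AlgSp.Space S)
    (hX : AlgSp.IsDecent X.obj) (p : X.obj ⟶ (AlgSp.yon S).obj (Over.mk (𝟙 S)))
    (hp : AlgSp.LocP @LocallyOfFiniteType p) :
    W4stk3decentspacesp2.IsCatenarySpace (AlgSp.Points X.obj) := by
  haveI := Groth.Agent.H3.Decent.quasiSober_points_of_isDecent X.property hX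
  haveI := t0Space_points_of_isDecent X.property hX
  apply isCatenarySpace_of_ptTop
  apply Groth.Agent.H6.Cat.cat_of_dimFun
  intro x
  exact exists_dimFun hS X.property hX p hp x

end Groth.Agent.H7.CatSp
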