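import Mathlib
import Groth.Agent.Lib.Helper8.CechU.BasicU

/-!
# Helper7: CechF1 — degree-zero Čech cocycles of a sheaf glue; vanishing of `Ȟ¹` of the kernel
gives surjectivity on sections (universe-general version of lead's `Lib/Lead/Cech/SiteH0`,
`SiteSurj`).
-/

set_option autoImplicit false

universe w v u
open CategoryTheory Limits Opposite

namespace Groth.Agent.H7.CechF

open Groth.Agent.H8.CechU

variable {C : Type u} [Category.{v} C] {J : GrothendieckTopology C}
  {U : C} [HasFiniteProducts (Over U)] {ι : Type w} (Y : ι → Over U)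

/-- restriction of a presheaf to the slice category. -/
abbrev resOver (U : C) (P : Cᵒᵖ ⥤ AddCommGrpCat.{w}) : (Over U)ᵒᵖ ⥤ AddCommGrpCat.{w} :=
  (Over.forget U).op ⋙ P

/-- restriction of a morphism of presheaves to the slice category. -/
abbrev resOverMap (U : C) {P Q : Cᵒᵖ ⥤ AddCommGrpCat.{w}} (φ : P ⟶ Q) :
    resOver U P ⟶ resOver U Q :=
  Functor.whiskerLeft (Over.forget U).op φ

variable (P : Cᵒᵖ ⥤ AddCommGrpCat.{w})

lemma resO_res {d₁ d₂ d₃ : Over U} (f : d₂ ⟶ d₁) (g : d₃ ⟶ d₂) (h : d₃ ⟶ d₁) (hh : g ≫ f = h)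
    (s : P.obj (op d₁.left)) : P.map g.left.op (P.map f.left.op s) = P.map h.left.op s := by
  subst hh
  rw [← ConcreteCategory.comp_apply, ← P.map_comp, ← op_comp]
  rfl

lemma resO_congr {n : ℕ} (c : Coch Y (resOver U P) n) {b b' : Fin (n+1) → ι} (h : b = b')
    {d : Over U} (f : d ⟶ ∏ᶜ (Y ∘ b)) (f' : d ⟶ ∏ᶜ (Y ∘ b'))
    (hf : ∀ k, f ≫ Pi.π (Y ∘ b) k = f' ≫ Pi.π (Y ∘ b') k ≫ eqToHom (by rw [h])) :
    P.map f.left.op (c b) = P.map f'.left.op (c b') := by
  subst h
  have : f = f' := by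
    apply Pi.hom_ext
    intro k
    rw [hf k, eqToHom_refl, Category.comp_id]
  rw [this]

/-- the augmentation on concrete cochains. -/
noncomputable def augCO (s : P.obj (op U)) : Coch Y (resOver U P) 0 :=
  fun a => P.map (∏ᶜ (Y ∘ a)).hom.op s

lemma coch_d_zeroO (x : (K Y (resOver U P)).X 0) (a : Fin 2 → ι) :
    coch Y (resOver U P) 1 ((K Y (resOver U P)).d 0 1 x) a =
      P.map (face Y a 0).left.op (coch Y (resOver U P) 0 x (a ∘ Fin.succAbove 0)) -
        P.map (face Y a 1).left.op (coch Y (resOver U P) 0 x (a ∘ Fin.succAbove 1)) := by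
  rw [coch_d, Fin.sum_univ_two]
  simp only [Fin.val_zero, Fin.val_one, pow_zero, pow_one, one_smul, neg_smul, sub_eq_add_neg]
  rfl

/-- a degree-zero cocycle of a sheaf glues uniquely along a covering family. -/
theorem existsUnique_of_cocycleO
    (hF : Presieve.IsSheaf J (P ⋙ forget AddCommGrpCat.{w}))
    (hY : Sieve.ofArrows (fun i => (Y i).left) (fun i => (Y i).hom) ∈ J U)
    (x : (K Y (resOver U P)).X 0) (hx : (K Y (resOver U P)).d 0 1 x = 0) :
    ∃! s : P.obj (op U), coch Y (resOver U P) 0 x = augCO Y P s := by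
  let c := coch Y (resOver U P) 0 x
  let l : ∀ i, Y i ⟶ ∏ᶜ (Y ∘ fun _ : Fin 1 => i) := fun i => Pi.lift (fun _ => 𝟙 (Y i))
  let sf : ∀ i, P.obj (op (Y i).left) := fun i => P.map (l i).left.op (c (fun _ => i))
  have h1 := hF _ hY
  rw [Sieve.ofArrows, ← Presieve.isSheafFor_iff_generate, Presieve.isSheafFor_arrows_iff] at h1
  have hcomp : Presieve.Arrows.Compatible (P ⋙ forget AddCommGrpCat.{w})
      (fun i => (Y i).hom) sf := by
    intro i j Z gi gj hcomm
    let a : Fin 2 → ι := ![i, j]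
    let Z' : Over U := Over.mk (gi ≫ (Y i).hom)
    let gi' : Z' ⟶ Y i := Over.homMk gi rfl
    let gj' : Z' ⟶ Y j := Over.homMk gj hcomm.symm
    let m : Z' ⟶ ∏ᶜ (Y ∘ a) := Pi.lift (fun k => by
      refine Fin.cases gi' (fun k' => ?_) k
      exact (Fin.cases gj' (fun k'' => k''.elim0) k'))
    have hm0 : m ≫ Pi.π (Y ∘ a) 0 = gi' := Pi.lift_π _ _
    have hm1 : m ≫ Pi.π (Y ∘ a) 1 = gj' := Pi.lift_π _ _
    have h0 := coch_d_zeroO Y P x a
    rw [hx, map_zero] at h0
    have h0' : P.map (face Y a 0).left.op (c (a ∘ Fin.succAbove 0)) =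
        P.map (face Y a 1).left.op (c (a ∘ Fin.succAbove 1)) := sub_eq_zero.1 h0.symm
    have e1 : a ∘ Fin.succAbove 0 = fun _ => j := by
      funext k; fin_cases k; rfl
    have e2 : a ∘ Fin.succAbove 1 = fun _ => i := by
      funext k; fin_cases k; rfl
    have hL : P.map m.left.op (P.map (face Y a 0).left.op (c (a ∘ Fin.succAbove 0))) =
        P.map (gj' ≫ l j).left.op (c (fun _ => j)) := by
      rw [resO_res P _ _ (m ≫ face Y a 0) rfl]
      apply resO_congr Y P c e1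
      intro k
      fin_cases k
      simp only [Category.assoc, face_π]
      erw [hm1]
      simp [l]
      exact (Category.comp_id gj').symm
    have hR : P.map m.left.op (P.map (face Y a 1).left.op (c (a ∘ Fin.succAbove 1))) =
        P.map (gi' ≫ l i).left.op (c (fun _ => i)) := by
      rw [resO_res P _ _ (m ≫ face Y a 1) rfl]
      apply resO_congr Y P c e2
      intro k
      fin_cases k
      simp only [Category.assoc, face_π]
      erw [hm0]
      simp [l]
      exact (Category.comp_id gi').symm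
    have h2 := congrArg (P.map m.left.op) h0'
    rw [hL, hR] at h2
    change P.map gi'.left.op (P.map (l i).left.op (c _)) =
      P.map gj'.left.op (P.map (l j).left.op (c _))
    rw [resO_res P (l i) gi' (gi' ≫ l i) rfl, resO_res P (l j) gj' (gj' ≫ l j) rfl]
    exact h2.symm
  obtain ⟨s, hs, huniq⟩ := h1 sf hcomp
  refine ⟨s, ?_, ?_⟩
  · funext b
    have hb : b = fun _ => b 0 := by
      funext k; fin_cases k; rfl
    have h2 : P.map (Y (b 0)).hom.op s = sf (b 0) := hs (b 0)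
    change c b = P.map _ s
    have h3 : c b = P.map (Pi.π (Y ∘ b) 0).left.op (sf (b 0)) := by
      have e1 := resO_res P (l (b 0)) (Pi.π (Y ∘ b) 0) (Pi.π (Y ∘ b) 0 ≫ l (b 0)) rfl
        (c (fun _ => b 0))
      have e2 := resO_congr Y P c hb (𝟙 _) (Pi.π (Y ∘ b) 0 ≫ l (b 0)) (by
        intro k
        fin_cases k
        simp [l])
      have e3 : P.map (Over.Hom.left (𝟙 (∏ᶜ (Y ∘ b)))).op (c b) = c b := by
        change P.map (𝟙 _) (c b) = c b
        rw [P.map_id]
        rfl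
      exact e3.symm.trans (e2.trans e1.symm)
    have hw : (Pi.π (Y ∘ b) 0).left ≫ (Y (b 0)).hom = (∏ᶜ (Y ∘ b)).hom := Over.w _
    have e4 : P.map (Pi.π (Y ∘ b) 0).left.op (P.map (Y (b 0)).hom.op s) =
        P.map ((Pi.π (Y ∘ b) 0).left ≫ (Y (b 0)).hom).op s := by
      rw [← ConcreteCategory.comp_apply, ← P.map_comp, ← op_comp]
    have e5 : P.map ((Pi.π (Y ∘ b) 0).left ≫ (Y (b 0)).hom).op s =
        P.map (∏ᶜ (Y ∘ b)).hom.op s :=
      congrArg (fun t : (∏ᶜ (Y ∘ b)).left ⟶ U => P.map t.op s) hw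
    rw [h3, ← h2]
    exact e4.trans e5
  · intro t ht
    apply huniq
    intro i
    change P.map (Y i).hom.op t = P.map (l i).left.op (c (fun _ => i))
    rw [show c = augCO Y P t from ht]
    unfold augCO
    have hw : (l i).left ≫ (∏ᶜ (Y ∘ fun _ : Fin 1 => i)).hom = (Y i).hom := Over.w _
    have e4 : P.map (l i).left.op (P.map (∏ᶜ (Y ∘ fun _ : Fin 1 => i)).hom.op t) =
        P.map ((l i).left ≫ (∏ᶜ (Y ∘ fun _ : Fin 1 => i)).hom).op t := by
      rw [← ConcreteCategory.comp_apply, ← P.map_comp, ← op_comp]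
    have e5 : P.map ((l i).left ≫ (∏ᶜ (Y ∘ fun _ : Fin 1 => i)).hom).op t =
        P.map (Y i).hom.op t :=
      congrArg (fun g : (Y i).left ⟶ U => P.map g.op t) hw
    exact (e4.trans e5).symm

/-- the augmentation `P(U) →+ C⁰`. -/
noncomputable def augHomO : P.obj (op U) →+ (K Y (resOver U P)).X 0 where
  toFun s := (coch Y (resOver U P) 0).symm (augCO Y P s)
  map_zero' := by
    rw [AddEquiv.symm_apply_eq, map_zero]
    funext a
    exact map_zero (P.map (∏ᶜ (Y ∘ a)).hom.op).hom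
  map_add' s t := by
    rw [AddEquiv.symm_apply_eq, map_add, AddEquiv.apply_symm_apply, AddEquiv.apply_symm_apply]
    funext a
    exact map_add (P.map (∏ᶜ (Y ∘ a)).hom.op).hom s t

lemma coch_augHomO (s : P.obj (op U)) :
    coch Y (resOver U P) 0 (augHomO Y P s) = augCO Y P s :=
  (coch Y (resOver U P) 0).apply_symm_apply _

lemma d_augHomO (s : P.obj (op U)) : (K Y (resOver U P)).d 0 1 (augHomO Y P s) = 0 := by
  apply coch_ext
  intro a
  rw [coch_d_zeroO, coch_augHomO, map_zero, Pi.zero_apply]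
  unfold augCO
  refine sub_eq_zero.2 ?_
  have h : ∀ (j : Fin 2), P.map (face Y a j).left.op
      (P.map (∏ᶜ (Y ∘ a ∘ j.succAbove)).hom.op s) = P.map (∏ᶜ (Y ∘ a)).hom.op s := by
    intro j
    have hw : (face Y a j).left ≫ (∏ᶜ (Y ∘ a ∘ j.succAbove)).hom = (∏ᶜ (Y ∘ a)).hom := Over.w _
    have e4 : P.map (face Y a j).left.op (P.map (∏ᶜ (Y ∘ a ∘ j.succAbove)).hom.op s) =
        P.map ((face Y a j).left ≫ (∏ᶜ (Y ∘ a ∘ j.succAbove)).hom).op s := by
      rw [← ConcreteCategory.comp_apply, ← P.map_comp, ← op_comp]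
    exact e4.trans (congrArg (fun g : (∏ᶜ (Y ∘ a)).left ⟶ U => P.map g.op s) hw)
  exact (h 0).trans (h 1).symm

/-- the induced map of Čech complexes. -/
noncomputable abbrev cmap {P Q : Cᵒᵖ ⥤ AddCommGrpCat.{w}} (φ : P ⟶ Q) :
    K Y (resOver U P) ⟶ K Y (resOver U Q) :=
  (cechComplexFunctor Y).map (resOverMap U φ)

lemma coch_cmap {P Q : Cᵒᵖ ⥤ AddCommGrpCat.{w}} (φ : P ⟶ Q) (n : ℕ)
    (x : (K Y (resOver U P)).X n) (a : Fin (n+1) → ι) :
    coch Y (resOver U Q) n ((cmap Y φ).f n x) a =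
      φ.app (op (∏ᶜ (Y ∘ a)).left) (coch Y (resOver U P) n x a) :=
  coch_map Y (resOverMap U φ) n x a

variable {P} in
lemma map_augHomO {Q : Cᵒᵖ ⥤ AddCommGrpCat.{w}} (φ : P ⟶ Q) (s : P.obj (op U)) :
    (cmap Y φ).f 0 (augHomO Y P s) = augHomO Y Q (φ.app _ s) := by
  apply coch_ext
  intro a
  refine (coch_cmap Y φ 0 _ a).trans ?_
  have e1 : coch Y (resOver U P) 0 (augHomO Y P s) a = P.map (∏ᶜ (Y ∘ a)).hom.op s :=
    congrFun (coch_augHomO Y P s) a
  have e2 : coch Y (resOver U Q) 0 (augHomO Y Q (φ.app _ s)) a =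
      Q.map (∏ᶜ (Y ∘ a)).hom.op (φ.app _ s) := congrFun (coch_augHomO Y Q (φ.app _ s)) a
  refine Eq.trans ?_ e2.symm
  refine (congrArg (fun t => φ.app (op (∏ᶜ (Y ∘ a)).left) t) e1).trans ?_
  exact ConcreteCategory.congr_hom (φ.naturality (∏ᶜ (Y ∘ a)).hom.op) s

lemma augHomO_injective (hF : Presieve.IsSheaf J (P ⋙ forget AddCommGrpCat.{w}))
    (hY : Sieve.ofArrows (fun i => (Y i).left) (fun i => (Y i).hom) ∈ J U) :
    Function.Injective (augHomO Y P) := by
  intro s t h
  have h2 : augCO Y P s = augCO Y P t := by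
    rw [← coch_augHomO, ← coch_augHomO, h]
  obtain ⟨r, _, hr⟩ := existsUnique_of_cocycleO Y P hF hY (augHomO Y P s) (d_augHomO Y P s)
  rw [hr s (coch_augHomO Y P s), hr t ((coch_augHomO Y P s).trans h2)]


section lift

variable {P₁ P₂ P₃ : Cᵒᵖ ⥤ AddCommGrpCat.{w}} (f : P₁ ⟶ P₂) (g : P₂ ⟶ P₃)

include f g in
theorem exists_lift_of_cech_oneO
    (hfg : ∀ X (x : P₁.obj X), g.app X (f.app X x) = 0)
    (hf : ∀ X, Function.Injective (f.app X))
    (hex : ∀ X (y : P₂.obj X), g.app X y = 0 → ∃ x, f.app X x = y)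
    (h2 : Presieve.IsSheaf J (P₂ ⋙ forget AddCommGrpCat.{w}))
    (h3 : Presieve.IsSheaf J (P₃ ⋙ forget AddCommGrpCat.{w}))
    (hY : Sieve.ofArrows (fun i => (Y i).left) (fun i => (Y i).hom) ∈ J U)
    (hz : IsZero ((K Y (resOver U P₁)).homology 1))
    (t : P₃.obj (op U)) (y : (K Y (resOver U P₂)).X 0)
    (hy : (cmap Y g).f 0 y = augHomO Y P₃ t) :
    ∃ s : P₂.obj (op U), g.app _ s = t := by
  let Φf := cmap Y f
  let Φg := cmap Y g
  have hfg' : ∀ n (z : (K Y (resOver U P₁)).X n), Φg.f n (Φf.f n z) = 0 := by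
    intro n z
    apply coch_ext
    intro a
    rw [coch_cmap, coch_cmap, hfg, map_zero]
    rfl
  have hinj : ∀ n, Function.Injective (Φf.f n) := by
    intro n x x' h
    apply coch_ext
    intro a
    apply hf
    have h1 := coch_cmap Y f n x a
    have h2 := coch_cmap Y f n x' a
    exact h1.symm.trans ((congrArg (fun z => coch Y (resOver U P₂) n z a) h).trans h2)
  have hexact : ∀ n (y : (K Y (resOver U P₂)).X n), Φg.f n y = 0 → ∃ x, Φf.f n x = y := by
    intro n y hy
    have h1 : ∀ a, ∃ x : P₁.obj (op (∏ᶜ (Y ∘ a)).left),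
        f.app _ x = coch Y (resOver U P₂) n y a := by
      intro a
      apply hex
      have := coch_cmap Y g n y a
      rw [← this]
      have hy' : (cmap Y g).f n y = 0 := hy
      rw [hy', map_zero]
      rfl
    choose x hx using h1
    refine ⟨(coch Y (resOver U P₁) n).symm x, ?_⟩
    apply coch_ext
    intro a
    have := coch_cmap Y f n ((coch Y (resOver U P₁) n).symm x) a
    rw [AddEquiv.apply_symm_apply] at this
    exact this.trans (hx a)
  have h1 : Φg.f 1 ((K Y (resOver U P₂)).d 0 1 y) = 0 := by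
    have := ConcreteCategory.congr_hom (Φg.comm 0 1) y
    rw [ConcreteCategory.comp_apply, ConcreteCategory.comp_apply] at this
    rw [← this]
    change (K Y (resOver U P₃)).d 0 1 ((cmap Y g).f 0 y) = 0
    rw [hy, d_augHomO]
  obtain ⟨c, hc⟩ := hexact 1 _ h1
  have hdc : (K Y (resOver U P₁)).d 1 2 c = 0 := by
    apply hinj 2
    have := ConcreteCategory.congr_hom (Φf.comm 1 2) c
    rw [ConcreteCategory.comp_apply, ConcreteCategory.comp_apply] at this
    rw [map_zero]
    refine this.symm.trans ?_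
    change (K Y (resOver U P₂)).d 1 2 (Φf.f 1 c) = 0
    rw [show Φf.f 1 c = (K Y (resOver U P₂)).d 0 1 y from hc]
    exact ConcreteCategory.congr_hom ((K Y (resOver U P₂)).d_comp_d 0 1 2) y
  obtain ⟨b, hb⟩ := (isZero_homology_succ_iff Y (resOver U P₁) 0).1 hz c hdc
  let y' := y - Φf.f 0 b
  have hy' : (K Y (resOver U P₂)).d 0 1 y' = 0 := by
    change (K Y (resOver U P₂)).d 0 1 (y - Φf.f 0 b) = 0
    rw [map_sub, sub_eq_zero]
    have := ConcreteCategory.congr_hom (Φf.comm 0 1) b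
    rw [ConcreteCategory.comp_apply, ConcreteCategory.comp_apply] at this
    rw [this]
    change _ = Φf.f 1 ((K Y (resOver U P₁)).d 0 1 b)
    rw [hb]
    exact hc.symm
  obtain ⟨s, hs, _⟩ := existsUnique_of_cocycleO Y P₂ h2 hY y' hy'
  refine ⟨s, ?_⟩
  apply augHomO_injective Y P₃ h3 hY
  have hnat := map_augHomO Y g s
  refine hnat.symm.trans ?_
  have hs' : augHomO Y P₂ s = y' := by
    apply (coch Y (resOver U P₂) 0).injective
    rw [coch_augHomO, hs]
  rw [hs']
  change Φg.f 0 (y - Φf.f 0 b) = _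
  rw [map_sub, hfg', sub_zero]
  exact hy


/-- **Surjectivity on sections** from vanishing of `Ȟ¹` of the kernel on refinements. -/
theorem surjective_of_refinementO
    (hfg : ∀ X (x : P₁.obj X), g.app X (f.app X x) = 0)
    (hf : ∀ X, Function.Injective (f.app X))
    (hex : ∀ X (y : P₂.obj X), g.app X y = 0 → ∃ x, f.app X x = y)
    (h2 : Presieve.IsSheaf J (P₂ ⋙ forget AddCommGrpCat.{w}))
    (h3 : Presieve.IsSheaf J (P₃ ⋙ forget AddCommGrpCat.{w}))
    [Presheaf.IsLocallySurjective J g]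
    (h : ∀ T ∈ J U, ∃ (ι : Type w) (Y : ι → Over U), (∀ i, T.arrows (Y i).hom) ∧
      Sieve.ofArrows (fun i => (Y i).left) (fun i => (Y i).hom) ∈ J U ∧
      IsZero ((K Y (resOver U P₁)).homology 1)) :
    Function.Surjective (g.app (op U)) := by
  intro t
  have hm := Presheaf.imageSieve_mem J g t
  obtain ⟨ι, Y, hT, hY, hz⟩ := h _ hm
  choose s hs using hT
  let y : (K Y (resOver U P₂)).X 0 := (coch Y (resOver U P₂) 0).symm
    (fun a => P₂.map (Pi.π (Y ∘ a) 0).left.op (s (a 0)))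
  have hy : (cmap Y g).f 0 y = augHomO Y P₃ t := by
    apply coch_ext
    intro a
    rw [coch_cmap, coch_augHomO, AddEquiv.apply_symm_apply]
    unfold augCO
    have hn := ConcreteCategory.congr_hom (g.naturality (Pi.π (Y ∘ a) 0).left.op) (s (a 0))
    rw [ConcreteCategory.comp_apply, ConcreteCategory.comp_apply] at hn
    refine hn.trans ?_
    refine (congrArg (fun z => P₃.map (Pi.π (Y ∘ a) 0).left.op z) (hs (a 0))).trans ?_
    have hw : (Pi.π (Y ∘ a) 0).left ≫ (Y (a 0)).hom = (∏ᶜ (Y ∘ a)).hom := Over.w _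
    have e4 : P₃.map (Pi.π (Y ∘ a) 0).left.op (P₃.map (Y (a 0)).hom.op t) =
        P₃.map ((Pi.π (Y ∘ a) 0).left ≫ (Y (a 0)).hom).op t := by
      rw [← ConcreteCategory.comp_apply, ← P₃.map_comp, ← op_comp]
    exact e4.trans (congrArg (fun g : (∏ᶜ (Y ∘ a)).left ⟶ U => P₃.map g.op t) hw)
  exact exists_lift_of_cech_oneO Y f g hfg hf hex h2 h3 hY hz t y hy

end lift

end Groth.Agent.H7.CechF
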