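import Mathlib
import Groth.Agent.Lib.Helper7.CechF1
import Groth.Agent.Lib.Helper7.CI9
import Groth.Agent.Lib.Helper8.CechU.Delta
import Groth.Prelude.Def_EtCech

/-!
# Helper7: CechF2 — quotients of Čech-flasque étale sheaves by Čech-flasque subsheaves (S14628)
-/

set_option autoImplicit false

universe u

open CategoryTheory CategoryTheory.Limits Opposite AlgebraicGeometry

namespace Groth.Agent.H7.CechF

open Groth.Agent.H8.CechU

variable {X : Scheme.{u}}

lemma isSheaf_forget (F : EtCoh.Ab X) :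
    Presieve.IsSheaf X.smallEtaleTopology (F.obj ⋙ forget AddCommGrpCat.{u + 1}) :=
  (isSheaf_iff_isSheaf_of_type _ _).1
    ((Presheaf.isSheaf_iff_isSheaf_forget X.smallEtaleTopology F.obj
      (forget AddCommGrpCat.{u + 1})).1 F.property)

lemma app_injective_of_mono {F G : EtCoh.Ab X} (f : F ⟶ G) [Mono f] (W : X.Etaleᵒᵖ) :
    Function.Injective (f.hom.app W) := by
  haveI : Mono ((sheafToPresheaf X.smallEtaleTopology AddCommGrpCat.{u + 1}).map f) :=
    inferInstance
  haveI : Mono (f.hom.app W) :=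
    (NatTrans.mono_iff_mono_app
      ((sheafToPresheaf X.smallEtaleTopology AddCommGrpCat.{u + 1}).map f)).1 inferInstance _
  exact (AddCommGrpCat.mono_iff_injective _).1 inferInstance

lemma app_exact {S : ShortComplex (EtCoh.Ab X)} (hS : S.ShortExact) (W : X.Etaleᵒᵖ)
    (y : S.X₂.obj.obj W) (hy : S.g.hom.app W y = 0) :
    ∃ x : S.X₁.obj.obj W, S.f.hom.app W x = y := by
  have h := hS.exact.map_of_mono_of_preservesKernel
    (sheafToPresheaf X.smallEtaleTopology AddCommGrpCat.{u + 1} ⋙ (evaluation _ _).obj W)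
    hS.mono_f inferInstance
  rw [ShortComplex.ab_exact_iff] at h
  exact h y hy

lemma app_zero (S : ShortComplex (EtCoh.Ab X)) (W : X.Etaleᵒᵖ) (x : S.X₁.obj.obj W) :
    S.g.hom.app W (S.f.hom.app W x) = 0 := by
  have h : S.f.hom ≫ S.g.hom = 0 := by
    have := congrArg (fun φ => φ.hom) S.zero
    exact this
  have h2 := congrArg (fun φ => φ.app W) h
  exact ConcreteCategory.congr_hom h2 x

/-- sections of a short exact sequence with Čech-acyclic (in degree one) kernel are exact on the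
right. -/
theorem app_surjective [∀ U : X.Etale, HasFiniteProducts (Over U)]
    (S : ShortComplex (EtCoh.Ab X)) (hS : S.ShortExact)
    (h1 : (∀ (U : X.Etale) (ι : Type (u + 1)) (Uf : ι → Over U),
      (∀ x : ↥(U.left), ∃ (i : ι) (y : ↥((Uf i).left.left)), (Uf i).hom.left.base y = x) →
      ∀ p : ℕ, 0 < p → IsZero (EtCech.cechH Uf S.X₁.obj p)))
    (W : X.Etale) : Function.Surjective (S.g.hom.app (op W)) := by
  haveI : Epi S.g := hS.epi_g
  haveI : Sheaf.IsLocallySurjective S.g :=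
    (Sheaf.isLocallySurjective_iff_epi' (φ := S.g)).mpr inferInstance
  haveI := hS.mono_f
  refine surjective_of_refinementO (J := X.smallEtaleTopology) (U := W) S.f.hom S.g.hom
    (fun V x => app_zero S V x) (fun V => app_injective_of_mono S.f V)
    (fun V y hy => app_exact hS V y hy) (isSheaf_forget S.X₂) (isSheaf_forget S.X₃) ?_
  intro T hT
  refine ⟨Σ V : X.Etale, {h : V ⟶ W // T.arrows h}, fun i => Over.mk i.2.1, fun i => i.2.2, ?_, ?_⟩
  · refine X.smallEtaleTopology.superset_covering ?_ hT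
    intro V h hh
    exact ⟨_, 𝟙 _, _, Presieve.ofArrows.mk (ι := Σ V : X.Etale, {h : V ⟶ W // T.arrows h})
      ⟨V, h, hh⟩, Category.id_comp _⟩
  · refine h1 W _ _ ?_ 1 Nat.one_pos
    intro x
    obtain ⟨V, p, y, hp, hy⟩ := CI.exists_of_mem_smallEtaleTopology T hT x
    exact ⟨⟨V, p, hp⟩, y, hy⟩

theorem S14628_main [∀ U : X.Etale, HasFiniteProducts (Over U)]
    (S : ShortComplex (EtCoh.Ab X)) (hS : S.ShortExact)
    (h1 : (∀ (U : X.Etale) (ι : Type (u + 1)) (Uf : ι → Over U),
      (∀ x : ↥(U.left), ∃ (i : ι) (y : ↥((Uf i).left.left)), (Uf i).hom.left.base y = x) →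
      ∀ p : ℕ, 0 < p → IsZero (EtCech.cechH Uf S.X₁.obj p)))
    (h2 : (∀ (U : X.Etale) (ι : Type (u + 1)) (Uf : ι → Over U),
      (∀ x : ↥(U.left), ∃ (i : ι) (y : ↥((Uf i).left.left)), (Uf i).hom.left.base y = x) →
      ∀ p : ℕ, 0 < p → IsZero (EtCech.cechH Uf S.X₂.obj p)))
    (U : X.Etale) (ι : Type (u + 1)) (Uf : ι → Over U)
    (hU : ∀ x : ↥(U.left), ∃ (i : ι) (y : ↥((Uf i).left.left)), (Uf i).hom.left.base y = x)
    (p : ℕ) (hp : 0 < p) :
    IsZero (EtCech.cechH Uf S.X₃.obj p) := by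
  haveI := hS.mono_f
  -- the short complex of restricted presheaves
  let S' : ShortComplex ((Over U)ᵒᵖ ⥤ AddCommGrpCat.{u + 1}) :=
    (S.map (sheafToPresheaf X.smallEtaleTopology AddCommGrpCat.{u + 1})).map
      ((Functor.whiskeringLeft (Over U)ᵒᵖ X.Etaleᵒᵖ AddCommGrpCat.{u + 1}).obj (Over.forget U).op)
  have hdeg : ∀ n, (S'.map (cechComplexFunctor Uf ⋙ HomologicalComplex.eval _ _ n)).ShortExact :=
    fun n => shortExact_cech_eval Uf S'
      (fun V => app_injective_of_mono S.f _)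
      (fun V => app_surjective S hS h1 _)
      (fun V y hy => app_exact hS _ y hy) n
  have hSE : (S'.map (cechComplexFunctor Uf)).ShortExact :=
    HomologicalComplex.shortExact_of_degreewise_shortExact _ hdeg
  have hex := hSE.homology_exact₃ p (p + 1) rfl
  have hz2 : IsZero ((S'.map (cechComplexFunctor Uf)).X₂.homology p) := h2 U ι Uf hU p hp
  have hz1 : IsZero ((S'.map (cechComplexFunctor Uf)).X₁.homology (p + 1)) :=
    h1 U ι Uf hU (p + 1) (Nat.succ_pos p)
  exact hex.isZero_of_both_zeros (hz2.eq_of_src _ _) (hz1.eq_of_tgt _ _)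

end Groth.Agent.H7.CechF
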