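import Mathlib
import Groth.Agent.Lib.Helper8.CechU.BasicU

/-!
# Helper7: CechP1 — Čech complexes and finite-product-preserving functors
-/

set_option autoImplicit false

universe w v v' u u'

open CategoryTheory CategoryTheory.Limits Opposite

namespace Groth.Agent.H7.CechP

open Groth.Agent.H8.CechU

variable {C : Type u} [Category.{v} C] [HasFiniteProducts C]
  {D : Type u'} [Category.{v'} D] [HasFiniteProducts D]
  (G : C ⥤ D) [PreservesFiniteProducts G] {ι : Type w} (U : ι → C)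
  (P : Dᵒᵖ ⥤ AddCommGrpCat.{w})

/-- the image family -/
abbrev GU : ι → D := fun i => G.obj (U i)

/-- `G (∏ U_{a k}) ≅ ∏ G U_{a k}` -/
noncomputable def θ {n : ℕ} (a : Fin (n + 1) → ι) : G.obj (∏ᶜ (U ∘ a)) ≅ ∏ᶜ (GU G U ∘ a) :=
  PreservesProduct.iso G (U ∘ a)

@[reassoc (attr := simp)]
lemma θ_hom_π {n : ℕ} (a : Fin (n + 1) → ι) (k : Fin (n + 1)) :
    (θ G U a).hom ≫ Pi.π (GU G U ∘ a) k = G.map (Pi.π (U ∘ a) k) :=
  piComparison_comp_π G (U ∘ a) k

lemma map_face_θ {n : ℕ} (a : Fin (n + 2) → ι) (i : Fin (n + 2)) :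
    G.map (face U a i) ≫ (θ G U (a ∘ i.succAbove)).hom = (θ G U a).hom ≫ face (GU G U) a i := by
  apply Pi.hom_ext
  intro k
  rw [Category.assoc, Category.assoc, θ_hom_π, face_π, θ_hom_π, ← G.map_comp, face_π]

lemma face_θ_inv {n : ℕ} (a : Fin (n + 2) → ι) (i : Fin (n + 2)) :
    face (GU G U) a i ≫ (θ G U (a ∘ i.succAbove)).inv = (θ G U a).inv ≫ G.map (face U a i) := by
  rw [Iso.comp_inv_eq, Category.assoc, map_face_θ, Iso.inv_hom_id_assoc]

/-- transport of cochains -/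
noncomputable def T (n : ℕ) (x : (K U (G.op ⋙ P)).X n) : (K (GU G U) P).X n :=
  (coch (GU G U) P n).symm (fun a => P.map (θ G U a).inv.op (coch U (G.op ⋙ P) n x a))

/-- inverse transport -/
noncomputable def T' (n : ℕ) (y : (K (GU G U) P).X n) : (K U (G.op ⋙ P)).X n :=
  (coch U (G.op ⋙ P) n).symm (fun a => P.map (θ G U a).hom.op (coch (GU G U) P n y a))

lemma coch_T (n : ℕ) (x : (K U (G.op ⋙ P)).X n) (a : Fin (n + 1) → ι) :
    coch (GU G U) P n (T G U P n x) a = P.map (θ G U a).inv.op (coch U (G.op ⋙ P) n x a) := by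
  unfold T
  rw [AddEquiv.apply_symm_apply]

lemma coch_T' (n : ℕ) (y : (K (GU G U) P).X n) (a : Fin (n + 1) → ι) :
    coch U (G.op ⋙ P) n (T' G U P n y) a = P.map (θ G U a).hom.op (coch (GU G U) P n y a) := by
  unfold T'
  rw [AddEquiv.apply_symm_apply]

lemma T'_T (n : ℕ) (x : (K U (G.op ⋙ P)).X n) : T' G U P n (T G U P n x) = x := by
  apply coch_ext
  intro a
  rw [coch_T', coch_T, ← ConcreteCategory.comp_apply, ← P.map_comp, ← op_comp, Iso.hom_inv_id,
    op_id, P.map_id]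
  rfl

lemma T_T' (n : ℕ) (y : (K (GU G U) P).X n) : T G U P n (T' G U P n y) = y := by
  apply coch_ext
  intro a
  rw [coch_T, coch_T', ← ConcreteCategory.comp_apply, ← P.map_comp, ← op_comp, Iso.inv_hom_id,
    op_id, P.map_id]
  rfl

lemma T_zero (n : ℕ) : T G U P n 0 = 0 := by
  apply coch_ext
  intro a
  rw [coch_T, map_zero, map_zero]
  simp

lemma T_d (n : ℕ) (x : (K U (G.op ⋙ P)).X n) :
    (K (GU G U) P).d n (n + 1) (T G U P n x) = T G U P (n + 1) ((K U (G.op ⋙ P)).d n (n + 1) x) := by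
  apply coch_ext
  intro a
  rw [coch_d, coch_T, coch_d, map_sum]
  refine Finset.sum_congr rfl fun i _ => ?_
  rw [map_zsmul, coch_T]
  congr 1
  change (P.map (θ G U (a ∘ i.succAbove)).inv.op ≫ P.map (face (GU G U) a i).op) _ =
    (P.map (G.map (face U a i)).op ≫ P.map (θ G U a).inv.op) _
  rw [← P.map_comp, ← P.map_comp, ← op_comp, ← op_comp, face_θ_inv]

lemma T'_d (n : ℕ) (y : (K (GU G U) P).X n) :
    (K U (G.op ⋙ P)).d n (n + 1) (T' G U P n y) = T' G U P (n + 1) ((K (GU G U) P).d n (n + 1) y) := by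
  have h := T_d G U P n (T' G U P n y)
  rw [T_T'] at h
  rw [h, T'_T]

theorem isZero_homology_of_isZero (n : ℕ) (h : IsZero ((K (GU G U) P).homology (n + 1))) :
    IsZero ((K U (G.op ⋙ P)).homology (n + 1)) := by
  rw [isZero_homology_succ_iff] at h ⊢
  intro x hx
  obtain ⟨y', hy'⟩ := h (T G U P (n + 1) x) (by rw [T_d, hx, T_zero])
  refine ⟨T' G U P n y', ?_⟩
  rw [T'_d, hy', T'_T]

end Groth.Agent.H7.CechP
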