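import Mathlib
import Groth.Agent.Lib.Helper7.CechP1
import Groth.Prelude.Def_EtCech

/-!
# Helper7: CechP2 — direct images of Čech-flasque étale sheaves are Čech-flasque (S14626)
-/

set_option autoImplicit false

universe u

open CategoryTheory CategoryTheory.Limits Opposite AlgebraicGeometry

namespace Groth.Agent.H7.CechP

open Groth.Agent.H8.CechU

variable {X Y : Scheme.{u}} (f : X ⟶ Y)

set_option backward.isDefEq.respectTransparency.types false in
lemma exists_lift_bc {V V' : Y.Etale} (g : V' ⟶ V) (x : ((EtCoh.bc f).obj V).left)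
    (v : V'.left) (hv : g.left v = (pullback.fst V.hom f : ((EtCoh.bc f).obj V).left ⟶ V.left) x) :
    ∃ z : ((EtCoh.bc f).obj V').left, ((EtCoh.bc f).map g).left z = x := by
  have sq := EtCoh.isPullback_bc_map f g
  obtain ⟨z, hz1, -⟩ := Scheme.Pullback.exists_preimage_pullback
    (f := (pullback.fst V.hom f : ((EtCoh.bc f).obj V).left ⟶ V.left)) (g := g.left) x v hv.symm
  refine ⟨sq.isoPullback.inv z, ?_⟩
  rw [← hz1, ← Scheme.Hom.comp_apply, IsPullback.isoPullback_inv_fst]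
  rfl

set_option backward.isDefEq.respectTransparency.types false in
theorem S14626_main
    [∀ U : X.Etale, HasFiniteProducts (Over U)] [∀ V : Y.Etale, HasFiniteProducts (Over V)]
    (F : EtCoh.Ab X)
    (hF : ∀ (U : X.Etale) (ι : Type (u + 1)) (Uf : ι → Over U),
      (∀ x : ↥(U.left), ∃ (i : ι) (y : ↥((Uf i).left.left)), (Uf i).hom.left.base y = x) →
      ∀ p : ℕ, 0 < p → IsZero (EtCech.cechH Uf F.obj p))
    (V : Y.Etale) (ι : Type (u + 1)) (Vf : ι → Over V)
    (hV : ∀ x : ↥(V.left), ∃ (i : ι) (y : ↥((Vf i).left.left)), (Vf i).hom.left.base y = x)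
    (p : ℕ) (hp : 0 < p) :
    IsZero (EtCech.cechH Vf ((EtCoh.push f).obj F).obj p) := by
  obtain ⟨n, rfl⟩ : ∃ n, p = n + 1 := ⟨p - 1, by omega⟩
  have h := hF ((EtCoh.bc f).obj V) ι (GU (Over.post (X := V) (EtCoh.bc f)) Vf) ?_ (n + 1) hp
  · exact isZero_homology_of_isZero (Over.post (X := V) (EtCoh.bc f)) Vf
      ((Over.forget ((EtCoh.bc f).obj V)).op ⋙ F.obj) n h
  · intro x
    obtain ⟨i, y, hy⟩ := hV ((pullback.fst V.hom f : ((EtCoh.bc f).obj V).left ⟶ V.left) x)
    obtain ⟨z, hz⟩ := exists_lift_bc f (Vf i).hom x y hy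
    exact ⟨i, z, hz⟩

end Groth.Agent.H7.CechP
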