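import Mathlib

/-! Gaussian elimination over a local ring: `GL_n` is generated by transvections and
diagonal matrices (helper7). -/

namespace Groth.Agent.H7.Elim

open Matrix

variable {ι B : Type*} [Fintype ι] [DecidableEq ι] [CommRing B]

variable (ι B) in
/-- the submonoid of matrices generated by transvections -/
def E : Submonoid (Matrix ι ι B) :=
  Submonoid.closure {M | ∃ (i j : ι) (c : B), i ≠ j ∧ M = transvection i j c}

theorem transvection_mem (i j : ι) (c : B) (h : i ≠ j) : transvection i j c ∈ E ι B :=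
  Submonoid.subset_closure ⟨i, j, c, h, rfl⟩

theorem colU_mem (k : ι) (v : ι → B) (s : Finset ι) (hk : k ∉ s) :
    1 + ∑ a ∈ s, Matrix.single a k (v a) ∈ E ι B := by
  induction s using Finset.induction_on with
  | empty => simp
  | insert a s ha ih =>
    have hka : k ≠ a := fun h => hk (h ▸ Finset.mem_insert_self _ _)
    have hks : k ∉ s := fun h => hk (Finset.mem_insert_of_mem h)
    have : (1 + ∑ b ∈ insert a s, Matrix.single b k (v b) : Matrix ι ι B) =
        (1 + ∑ b ∈ s, Matrix.single b k (v b)) * transvection a k (v a) := by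
      have hz : (∑ b ∈ s, Matrix.single b k (v b)) * Matrix.single a k (v a) = 0 := by
        rw [Finset.sum_mul]
        exact Finset.sum_eq_zero (fun b _ => Matrix.single_mul_single_of_ne _ _ _ _ hka _)
      rw [Finset.sum_insert ha, transvection, mul_add, mul_one, add_mul, one_mul, hz]
      abel
    rw [this]
    exact Submonoid.mul_mem _ (ih hks) (transvection_mem a k (v a) (Ne.symm hka))

theorem rowU_mem (k : ι) (v : ι → B) (s : Finset ι) (hk : k ∉ s) :
    1 + ∑ b ∈ s, Matrix.single k b (v b) ∈ E ι B := by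
  induction s using Finset.induction_on with
  | empty => simp
  | insert a s ha ih =>
    have hka : k ≠ a := fun h => hk (h ▸ Finset.mem_insert_self _ _)
    have hks : k ∉ s := fun h => hk (Finset.mem_insert_of_mem h)
    have : (1 + ∑ b ∈ insert a s, Matrix.single k b (v b) : Matrix ι ι B) =
        transvection k a (v a) * (1 + ∑ b ∈ s, Matrix.single k b (v b)) := by
      have hz : Matrix.single k a (v a) * (∑ b ∈ s, Matrix.single k b (v b)) = 0 := by
        rw [Finset.mul_sum]
        exact Finset.sum_eq_zero (fun b _ => Matrix.single_mul_single_of_ne _ _ _ _ (Ne.symm hka) _)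
      rw [Finset.sum_insert ha, transvection, mul_add, mul_one, add_mul, one_mul, hz]
      abel
    rw [this]
    exact Submonoid.mul_mem _ (transvection_mem k a (v a) hka) (ih hks)

theorem colU_mul_apply (k : ι) (v : ι → B) (s : Finset ι) (M : Matrix ι ι B) (x y : ι) :
    ((1 + ∑ a ∈ s, Matrix.single a k (v a)) * M) x y =
      M x y + if x ∈ s then v x * M k y else 0 := by
  rw [add_mul, one_mul, Matrix.add_apply, Finset.sum_mul, Matrix.sum_apply]
  congr 1
  have : ∀ a ∈ s, (Matrix.single a k (v a) * M) x y = if x = a then v x * M k y else 0 := by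
    intro a _
    by_cases h : x = a
    · subst h; simp
    · simp [h]
  rw [Finset.sum_congr rfl this, Finset.sum_ite_eq]

theorem mul_rowU_apply (k : ι) (v : ι → B) (s : Finset ι) (M : Matrix ι ι B) (x y : ι) :
    (M * (1 + ∑ b ∈ s, Matrix.single k b (v b))) x y =
      M x y + if y ∈ s then M x k * v y else 0 := by
  rw [mul_add, mul_one, Matrix.add_apply, Finset.mul_sum, Matrix.sum_apply]
  congr 1
  have : ∀ b ∈ s, (M * Matrix.single k b (v b)) x y = if y = b then M x k * v y else 0 := by
    intro b _
    by_cases h : y = b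
    · subst h; simp
    · simp [h]
  rw [Finset.sum_congr rfl this, Finset.sum_ite_eq]

/-- rows and columns with index in `s` are those of a diagonal matrix -/
def Red (s : Finset ι) (M : Matrix ι ι B) : Prop :=
  ∀ a ∈ s, ∀ b, b ≠ a → M a b = 0 ∧ M b a = 0

theorem exists_isUnit_col [IsLocalRing B] (N : Matrix ι ι B) (hN : IsUnit N.det) (k : ι) :
    ∃ i, IsUnit (N i k) := by
  by_contra hcon
  push Not at hcon
  have hmem : N.det ∈ IsLocalRing.maximalIdeal B := by
    rw [Matrix.det_apply']
    refine Ideal.sum_mem _ fun σ _ => ?_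
    refine Ideal.mul_mem_left _ _ ?_
    have hdvd : N (σ k) k ∣ ∏ i, N (σ i) i :=
      Finset.dvd_prod_of_mem (fun i => N (σ i) i) (Finset.mem_univ k)
    exact Ideal.mem_of_dvd _ hdvd ((IsLocalRing.mem_maximalIdeal _).mpr (hcon (σ k)))
  exact ((IsLocalRing.mem_maximalIdeal _).mp hmem) hN

theorem pivot [IsLocalRing B] (N : Matrix ι ι B) (hN : IsUnit N.det) (s : Finset ι) (k : ι)
    (hk : k ∉ s) (hred : Red s N) :
    ∃ L ∈ E ι B, Red s (L * N) ∧ IsUnit ((L * N) k k) := by
  by_cases hkk : IsUnit (N k k)
  · exact ⟨1, Submonoid.one_mem _, by simpa using hred, by simpa using hkk⟩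
  · obtain ⟨i, hi⟩ := exists_isUnit_col N hN k
    have hik : i ≠ k := by rintro rfl; exact hkk hi
    have his : i ∉ s := by
      intro his
      have := (hred i his k (Ne.symm hik)).1
      rw [this] at hi
      exact not_isUnit_zero hi
    refine ⟨transvection k i 1, transvection_mem k i 1 (Ne.symm hik), ?_, ?_⟩
    · intro a ha b hba
      have hak : a ≠ k := fun h => hk (h ▸ ha)
      have hai : a ≠ i := fun h => his (h ▸ ha)
      constructor
      · rw [transvection_mul_apply_of_ne _ _ _ _ hak]
        exact (hred a ha b hba).1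
      · by_cases hbk : b = k
        · subst hbk
          rw [transvection_mul_apply_same, (hred a ha b hba).2, (hred a ha i (Ne.symm hai)).2]
          simp
        · rw [transvection_mul_apply_of_ne _ _ _ _ hbk]
          exact (hred a ha b hba).2
    · rw [transvection_mul_apply_same, one_mul]
      by_contra hnu
      have h1 : N k k + N i k ∈ IsLocalRing.maximalIdeal B :=
        (IsLocalRing.mem_maximalIdeal _).mpr hnu
      have h2 : N k k ∈ IsLocalRing.maximalIdeal B := (IsLocalRing.mem_maximalIdeal _).mpr hkk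
      have h3 : N i k ∈ IsLocalRing.maximalIdeal B := by
        have := Ideal.sub_mem _ h1 h2
        simpa using this
      exact ((IsLocalRing.mem_maximalIdeal _).mp h3) hi

theorem clear (N : Matrix ι ι B) (s : Finset ι) (k : ι) (hk : k ∉ s)
    (hred : Red s N) (hkk : IsUnit (N k k)) :
    ∃ L ∈ E ι B, ∃ R ∈ E ι B, Red (insert k s) (L * N * R) := by
  obtain ⟨c', hc'⟩ := hkk.exists_right_inv
  set L : Matrix ι ι B := 1 + ∑ a ∈ Finset.univ.erase k, Matrix.single a k (-N a k * c') with hL
  set R : Matrix ι ι B := 1 + ∑ b ∈ Finset.univ.erase k, Matrix.single k b (-c' * N k b) with hR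
  refine ⟨L, colU_mem k _ _ (Finset.notMem_erase k _), R, rowU_mem k _ _ (Finset.notMem_erase k _), ?_⟩
  have hN2 : ∀ x y, (L * N) x y = N x y + if x ≠ k then -N x k * c' * N k y else 0 := by
    intro x y
    rw [hL, colU_mul_apply]
    simp only [Finset.mem_erase, Finset.mem_univ, and_true]
  have hN3 : ∀ x y, (L * N * R) x y =
      (L * N) x y + if y ≠ k then (L * N) x k * (-c' * N k y) else 0 := by
    intro x y
    rw [hR, mul_rowU_apply]
    simp only [Finset.mem_erase, Finset.mem_univ, and_true]
  intro a ha b hba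
  rw [Finset.mem_insert] at ha
  rcases ha with rfl | ha
  · -- a = k
    constructor
    · rw [hN3, if_pos hba, hN2, hN2, if_neg (by simp), if_neg (by simp)]
      linear_combination (-N a b) * hc'
    · rw [hN3, if_neg (by simp), hN2, if_pos hba]
      linear_combination (-N b a) * hc'
  · have hak : a ≠ k := fun h => hk (h ▸ ha)
    have h1 : N a k = 0 := (hred a ha k (Ne.symm hak)).1
    have h2 : N k a = 0 := (hred a ha k (Ne.symm hak)).2
    have h3 : N a b = 0 := (hred a ha b hba).1
    have h4 : N b a = 0 := (hred a ha b hba).2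
    constructor
    · rw [hN3, hN2, hN2, h1, h3]
      simp
    · rw [hN3, hN2, hN2, h2, h4]
      simp

theorem det_eq_one_of_mem {L : Matrix ι ι B} (hL : L ∈ E ι B) : L.det = 1 := by
  induction hL using Submonoid.closure_induction with
  | mem x hx =>
    obtain ⟨i, j, c, hij, rfl⟩ := hx
    exact det_transvection_of_ne i j hij c
  | one => simp
  | mul x y _ _ hx hy => rw [det_mul, hx, hy, one_mul]

theorem exists_red [IsLocalRing B] (M : Matrix ι ι B) (hM : IsUnit M.det) (s : Finset ι) :
    ∃ L ∈ E ι B, ∃ R ∈ E ι B, Red s (L * M * R) := by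
  induction s using Finset.induction_on with
  | empty =>
    exact ⟨1, Submonoid.one_mem _, 1, Submonoid.one_mem _, fun a ha => absurd ha (Finset.notMem_empty a)⟩
  | insert k s hk ih =>
    obtain ⟨L, hL, R, hR, hred⟩ := ih
    have hdet : IsUnit (L * M * R).det := by
      rw [det_mul, det_mul, det_eq_one_of_mem hL, det_eq_one_of_mem hR, one_mul, mul_one]
      exact hM
    obtain ⟨L₁, hL₁, hred₁, hu⟩ := pivot (L * M * R) hdet s k hk hred
    obtain ⟨L₂, hL₂, R₂, hR₂, hred₂⟩ := clear (L₁ * (L * M * R)) s k hk hred₁ hu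
    refine ⟨L₂ * L₁ * L, Submonoid.mul_mem _ (Submonoid.mul_mem _ hL₂ hL₁) hL,
      R * R₂, Submonoid.mul_mem _ hR hR₂, ?_⟩
    have : L₂ * L₁ * L * M * (R * R₂) = L₂ * (L₁ * (L * M * R)) * R₂ := by
      simp only [Matrix.mul_assoc]
    rw [this]
    exact hred₂

/-- Over a local ring, a subgroup of `GL_n` containing all transvections and all diagonal matrices
is everything. -/
theorem subgroup_eq_top [IsLocalRing B] (S : Subgroup (GL ι B))
    (htr : ∀ (i j : ι) (c : B), i ≠ j → ∃ g ∈ S, (g : Matrix ι ι B) = transvection i j c)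
    (hdiag : ∀ h : GL ι B, (∃ d : ι → B, (h : Matrix ι ι B) = diagonal d) → h ∈ S) :
    S = ⊤ := by
  rw [eq_top_iff]
  intro g _
  have hE : E ι B ≤ Submonoid.map (Units.coeHom (Matrix ι ι B)) S.toSubmonoid := by
    apply Submonoid.closure_le.mpr
    rintro _ ⟨i, j, c, hij, rfl⟩
    obtain ⟨g, hg, hgc⟩ := htr i j c hij
    exact ⟨g, hg, hgc⟩
  have hdet : IsUnit (g : Matrix ι ι B).det := (Matrix.isUnit_iff_isUnit_det _).mp g.isUnit
  obtain ⟨L, hL, R, hR, hred⟩ := exists_red (g : Matrix ι ι B) hdet Finset.univ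
  obtain ⟨gL, hgL, hgLc⟩ := hE hL
  obtain ⟨gR, hgR, hgRc⟩ := hE hR
  have hh : gL * g * gR ∈ S := by
    apply hdiag
    refine ⟨fun a => (L * (g : Matrix ι ι B) * R) a a, ?_⟩
    have : ((gL * g * gR : GL ι B) : Matrix ι ι B) = L * (g : Matrix ι ι B) * R := by
      rw [Units.val_mul, Units.val_mul]
      simp only [Units.coeHom_apply] at hgLc hgRc
      rw [hgLc, hgRc]
    rw [this]
    ext a b
    by_cases hab : a = b
    · subst hab; simp
    · rw [diagonal_apply_ne _ hab]
      exact (hred a (Finset.mem_univ a) b (Ne.symm hab)).1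
  have : g = gL⁻¹ * (gL * g * gR) * gR⁻¹ := by group
  rw [this]
  exact S.mul_mem (S.mul_mem (S.inv_mem hgL) hh) (S.inv_mem hgR)

end Groth.Agent.H7.Elim
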