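import Mathlib

/-! Natural endomorphisms of `G_m` over a connected ring are `b ↦ b^e` (helper7). -/

namespace Groth.Agent.H7.GmEnd

universe u

open LaurentPolynomial

variable {R : Type u} [CommRing R]

/-- evaluation `T ↦ x` as an `R`-algebra hom -/
noncomputable def evalA (B : Type u) [CommRing B] [Algebra R B] (x : Bˣ) : R[T;T⁻¹] →ₐ[R] B :=
  { LaurentPolynomial.eval₂ (algebraMap R B) x with
    commutes' := fun r => by
      show LaurentPolynomial.eval₂ (algebraMap R B) x (algebraMap R R[T;T⁻¹] r) = _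
      rw [← LaurentPolynomial.C_eq_algebraMap, LaurentPolynomial.eval₂_C] }

theorem evalA_T (B : Type u) [CommRing B] [Algebra R B] (x : Bˣ) (k : ℤ) :
    evalA B x (T k : R[T;T⁻¹]) = ((x ^ k : Bˣ) : B) :=
  LaurentPolynomial.eval₂_T _ _ k

theorem evalA_C_mul_T (B : Type u) [CommRing B] [Algebra R B] (x : Bˣ) (r : R) (k : ℤ) :
    evalA B x (C r * T k) = algebraMap R B r * ((x ^ k : Bˣ) : B) :=
  LaurentPolynomial.eval₂_C_mul_T _ _ r k

theorem evalA_apply (B : Type u) [CommRing B] [Algebra R B] (x : Bˣ) (p : R[T;T⁻¹]) :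
    evalA B x p = ∑ k ∈ p.coeff.support, algebraMap R B (p.coeff k) * ((x ^ k : Bˣ) : B) := by
  conv_lhs => rw [← AddMonoidAlgebra.sum_coeff_single p]
  rw [Finsupp.sum, map_sum]
  refine Finset.sum_congr rfl fun k _ => ?_
  rw [LaurentPolynomial.single_eq_C_mul_T, evalA_C_mul_T]

/-- the unit `T` -/
noncomputable def tU (R : Type u) [CommRing R] : (R[T;T⁻¹])ˣ :=
  ⟨T 1, T (-1), by rw [← T_add]; simp, by rw [← T_add]; simp⟩

theorem tU_zpow (R : Type u) [CommRing R] (e : ℤ) :
    ((tU R ^ e : (R[T;T⁻¹])ˣ) : R[T;T⁻¹]) = T e := by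
  have hinv : ((tU R)⁻¹ : (R[T;T⁻¹])ˣ).val = T (-1) := rfl
  induction e using Int.induction_on with
  | zero => simp
  | succ i ih =>
    rw [zpow_add_one, Units.val_mul, ih, T_add]
    rfl
  | pred i ih =>
    rw [zpow_sub_one, Units.val_mul, ih, hinv, ← T_add]
    rfl

theorem map_evalA_tU (B : Type u) [CommRing B] [Algebra R B] (x : Bˣ) :
    Units.map ((evalA B x : R[T;T⁻¹] →ₐ[R] B) : R[T;T⁻¹] →* B) (tU R) = x := by
  apply Units.ext
  rw [Units.coe_map]
  show evalA B x (T 1) = x
  rw [evalA_T, zpow_one]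

section main

variable (hconn : ∀ e : R, IsIdempotentElem e → e = 0 ∨ e = 1)
  (ψ : ∀ (B : Type u) [CommRing B] [Algebra R B], Bˣ →* Bˣ)
  (hψ : ∀ (B C : Type u) [CommRing B] [Algebra R B] [CommRing C] [Algebra R C] (φ : B →ₐ[R] C)
    (b : Bˣ), ψ C (Units.map (φ : B →* C) b) = Units.map (φ : B →* C) (ψ B b))

include hψ in
theorem psi_eq_evalA (B : Type u) [CommRing B] [Algebra R B] (b : Bˣ) :
    ((ψ B b : Bˣ) : B) = evalA B b ((ψ R[T;T⁻¹] (tU R) : (R[T;T⁻¹])ˣ) : R[T;T⁻¹]) := by
  have := hψ R[T;T⁻¹] B (evalA B b) (tU R)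
  rw [map_evalA_tU] at this
  rw [this, Units.coe_map]
  rfl

include hconn hψ in
theorem exists_zpow [Nontrivial R] : ∃ e : ℤ, ∀ (B : Type u) [CommRing B] [Algebra R B] (b : Bˣ),
    ψ B b = b ^ e := by
  classical
  set u : R[T;T⁻¹] := ((ψ R[T;T⁻¹] (tU R) : (R[T;T⁻¹])ˣ) : R[T;T⁻¹]) with hu
  -- the key relation
  have hstar : ∀ l j : ℤ, u.coeff j * u.coeff l = if l = j then u.coeff l else 0 := by
    -- work in Laurent polynomials over Laurent polynomials
    let B₀ := R[T;T⁻¹]
    let B₁ := B₀[T;T⁻¹]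
    let Calg : B₀ →ₐ[R] B₁ := IsScalarTower.toAlgHom R B₀ B₁
    have hCalg : ∀ p : B₀, Calg p = C p := fun p => rfl
    let x : B₁ˣ := Units.map (Calg : B₀ →* B₁) (tU R)
    let y : B₁ˣ := tU B₀
    have hx : ((ψ B₁ x : B₁ˣ) : B₁) = C u := by
      have := hψ B₀ B₁ Calg (tU R)
      rw [this, Units.coe_map]
      rfl
    have hy := psi_eq_evalA ψ hψ B₁ y
    have hxy := psi_eq_evalA ψ hψ B₁ (x * y)
    rw [map_mul, Units.val_mul, hx, hy] at hxy
    rw [← hu] at hxy
    intro l j
    have hcl := congrArg (fun q : B₁ => q.coeff l) hxy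
    -- the left side
    have hL : (C u * evalA B₁ y u).coeff l = u * C (u.coeff l) := by
      rw [← LaurentPolynomial.single_eq_C, AddMonoidAlgebra.coeff_single_zero_mul, evalA_apply,
        AddMonoidAlgebra.coeff_sum, Finset.sum_apply']
      have : ∀ k ∈ u.coeff.support,
          (algebraMap R B₁ (u.coeff k) * ((y ^ k : B₁ˣ) : B₁)).coeff l =
            if k = l then C (u.coeff k) else 0 := by
        intro k _
        rw [tU_zpow, LaurentPolynomial.algebraMap_apply, ← LaurentPolynomial.single_eq_C_mul_T,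
          AddMonoidAlgebra.coeff_single, Finsupp.single_apply]
        rfl
      rw [Finset.sum_congr rfl this, Finset.sum_ite_eq']
      split_ifs with hl
      · rfl
      · rw [Finsupp.notMem_support_iff.mp hl, map_zero]
    have hR : (evalA B₁ (x * y) u).coeff l = AddMonoidAlgebra.single l (u.coeff l) := by
      rw [evalA_apply, AddMonoidAlgebra.coeff_sum, Finset.sum_apply']
      have : ∀ k ∈ u.coeff.support,
          (algebraMap R B₁ (u.coeff k) * (((x * y) ^ k : B₁ˣ) : B₁)).coeff l =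
            if k = l then AddMonoidAlgebra.single k (u.coeff k) else 0 := by
        intro k _
        have hxyk : ((x * y) ^ k : B₁ˣ) = x ^ k * y ^ k := mul_zpow x y k
        rw [hxyk, Units.val_mul, tU_zpow, ← map_zpow, Units.coe_map]
        show AddMonoidAlgebra.coeff (algebraMap R B₁ (u.coeff k) * (Calg ((tU R ^ k : B₀ˣ) : B₀) * T k)) l = _
        rw [tU_zpow, hCalg, LaurentPolynomial.algebraMap_apply, ← mul_assoc, ← map_mul,
          ← LaurentPolynomial.single_eq_C_mul_T, AddMonoidAlgebra.coeff_single,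
          Finsupp.single_apply, show algebraMap R B₀ (u.coeff k) = C (u.coeff k) from rfl,
          ← LaurentPolynomial.single_eq_C_mul_T]
      rw [Finset.sum_congr rfl this, Finset.sum_ite_eq']
      split_ifs with hl
      · rfl
      · rw [Finsupp.notMem_support_iff.mp hl, AddMonoidAlgebra.single_zero]
    rw [hL, hR] at hcl
    have hcj := congrArg (fun q : B₀ => q.coeff j) hcl
    rw [AddMonoidAlgebra.coeff_single, Finsupp.single_apply, ← LaurentPolynomial.single_eq_C,
      AddMonoidAlgebra.coeff_mul_single_zero] at hcj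
    exact hcj
  -- the sum of coefficients is one
  have hsum : ∑ k ∈ u.coeff.support, u.coeff k = 1 := by
    have h1 := psi_eq_evalA ψ hψ R (1 : Rˣ)
    rw [map_one, Units.val_one, ← hu, evalA_apply] at h1
    rw [h1]
    refine Finset.sum_congr rfl fun k _ => ?_
    simp
  obtain ⟨l₀, hl₀⟩ : ∃ l, u.coeff l = 1 := by
    by_contra hcon
    push Not at hcon
    have h0 : ∀ k ∈ u.coeff.support, u.coeff k = 0 := by
      intro k _
      have hid : IsIdempotentElem (u.coeff k) := by
        have := hstar k k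
        rwa [if_pos rfl] at this
      exact (hconn _ hid).resolve_right (hcon k)
    rw [Finset.sum_eq_zero h0] at hsum
    exact zero_ne_one hsum
  have hu' : u = T l₀ := by
    apply AddMonoidAlgebra.ext
    ext j
    rw [LaurentPolynomial.T_apply]
    split_ifs with hj
    · rw [← hj, hl₀]
    · have := hstar l₀ j
      rw [if_neg hj, hl₀, mul_one] at this
      exact this
  refine ⟨l₀, fun B _ _ b => ?_⟩
  apply Units.ext
  rw [psi_eq_evalA ψ hψ B b, ← hu, hu', evalA_T]

end main

end Groth.Agent.H7.GmEnd
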