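import Mathlib
import Groth.Agent.Lib.Helper7.GmEnd
import Groth.Agent.Lib.Helper7.Elim

/-! Characters of `GL_n` over a connected ring, part 1: basic elements (helper7). -/

namespace Groth.Agent.H7.CharGL

universe u

open Matrix

section defs

variable {ι : Type} [Fintype ι] [DecidableEq ι] {B : Type u} [CommRing B]

variable (ι B) in
/-- invertible diagonal matrices -/
noncomputable def diagGL : (ι → Bˣ) →* GL ι B where
  toFun d := ⟨diagonal (fun i => (d i : B)), diagonal (fun i => (((d i)⁻¹ : Bˣ) : B)),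
    by rw [diagonal_mul_diagonal]; simp, by rw [diagonal_mul_diagonal]; simp⟩
  map_one' := by
    apply Units.ext
    simp
  map_mul' d d' := by
    apply Units.ext
    simp [diagonal_mul_diagonal]

@[simp] theorem coe_diagGL (d : ι → Bˣ) :
    ((diagGL ι B d : GL ι B) : Matrix ι ι B) = diagonal (fun i => (d i : B)) := rfl

theorem det_diagGL (d : ι → Bˣ) : Matrix.GeneralLinearGroup.det (diagGL ι B d) = ∏ i, d i := by
  apply Units.ext
  rw [Matrix.GeneralLinearGroup.val_det_apply, coe_diagGL, det_diagonal, Units.coe_prod]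

/-- transvections as elements of `GL` -/
noncomputable def tGL (i j : ι) (hij : i ≠ j) (c : B) : GL ι B :=
  ⟨transvection i j c, transvection i j (-c),
    by rw [transvection_mul_transvection_same _ _ hij]; simp,
    by rw [transvection_mul_transvection_same _ _ hij]; simp⟩

@[simp] theorem coe_tGL (i j : ι) (hij : i ≠ j) (c : B) :
    ((tGL i j hij c : GL ι B) : Matrix ι ι B) = transvection i j c := rfl

theorem det_tGL (i j : ι) (hij : i ≠ j) (c : B) :
    Matrix.GeneralLinearGroup.det (tGL i j hij c) = 1 := by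
  apply Units.ext
  rw [Matrix.GeneralLinearGroup.val_det_apply, coe_tGL, det_transvection_of_ne _ _ hij]
  rfl

theorem tGL_zero (i j : ι) (hij : i ≠ j) : tGL i j hij (0 : B) = 1 := by
  apply Units.ext
  simp

/-- permutation matrices as elements of `GL` -/
noncomputable def pGL (σ : Equiv.Perm ι) : GL ι B :=
  ⟨σ.permMatrix B, σ⁻¹.permMatrix B, by rw [← permMatrix_mul]; simp,
    by rw [← permMatrix_mul]; simp⟩

theorem conj_diagGL_tGL (d : ι → Bˣ) (i j : ι) (hij : i ≠ j) (c : B) :
    diagGL ι B d * tGL i j hij c * (diagGL ι B d)⁻¹ =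
      tGL i j hij ((d i : B) * c * (((d j)⁻¹ : Bˣ) : B)) := by
  apply Units.ext
  rw [← map_inv, Units.val_mul, Units.val_mul, coe_diagGL, coe_diagGL, coe_tGL, coe_tGL]
  ext a b
  rw [Matrix.mul_diagonal, Matrix.diagonal_mul]
  simp only [transvection, Matrix.add_apply, Pi.inv_apply]
  by_cases h1 : i = a ∧ j = b
  · obtain ⟨rfl, rfl⟩ := h1
    simp [Matrix.one_apply_ne hij]
  · by_cases h2 : a = b
    · subst h2
      simp [Matrix.single_apply_of_ne _ _ _ _ _ h1]
    · simp [Matrix.single_apply_of_ne _ _ _ _ _ h1, Matrix.one_apply_ne h2]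

theorem conj_pGL_diagGL (σ : Equiv.Perm ι) (d : ι → Bˣ) :
    pGL σ * diagGL ι B d * (pGL σ)⁻¹ = diagGL ι B (d ∘ σ) := by
  apply Units.ext
  rw [Units.val_mul, Units.val_mul, coe_diagGL, coe_diagGL]
  show σ.permMatrix B * diagonal (fun i => (d i : B)) * σ⁻¹.permMatrix B = _
  rw [Equiv.Perm.permMatrix, Equiv.Perm.permMatrix, PEquiv.toMatrix_toPEquiv_mul,
    PEquiv.mul_toMatrix_toPEquiv, Matrix.submatrix_submatrix]
  have : (σ⁻¹ : Equiv.Perm ι).symm = σ := by
    rw [Equiv.Perm.inv_def, Equiv.symm_symm]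
  rw [this]
  simp only [Function.id_comp, Function.comp_id]
  rw [submatrix_diagonal_equiv]
  rfl

end defs

section nat

variable {ι : Type} [Fintype ι] [DecidableEq ι] {B C : Type u} [CommRing B] [CommRing C]
  (φ : B →+* C)

theorem map_diagGL (d : ι → Bˣ) :
    Matrix.GeneralLinearGroup.map φ (diagGL ι B d) =
      diagGL ι C (fun i => Units.map (φ : B →* C) (d i)) := by
  apply Matrix.GeneralLinearGroup.ext
  intro a b
  rw [Matrix.GeneralLinearGroup.map_apply, coe_diagGL, coe_diagGL]
  by_cases hab : a = b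
  · subst hab; simp
  · simp [diagonal_apply_ne _ hab]

theorem map_tGL (i j : ι) (hij : i ≠ j) (c : B) :
    Matrix.GeneralLinearGroup.map φ (tGL i j hij c) = tGL i j hij (φ c) := by
  apply Matrix.GeneralLinearGroup.ext
  intro a b
  rw [Matrix.GeneralLinearGroup.map_apply, coe_tGL, coe_tGL]
  simp only [transvection, Matrix.add_apply, map_add, Matrix.one_apply, Matrix.single_apply]
  split_ifs <;> simp

end nat

end Groth.Agent.H7.CharGL
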