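import Mathlib
import Groth.Agent.Lib.Helper7.CharGL1

/-! Characters of `GL_n` over a connected ring, part 2 (helper7). -/

namespace Groth.Agent.H7.CharGL

universe u

open Matrix LaurentPolynomial

theorem aeval_eq_map_comp {R S : Type*} [CommRing R] [CommRing S] [Algebra R S]
    (p : Polynomial R) (q : Polynomial S) :
    Polynomial.aeval q p = (p.map (algebraMap R S)).comp q := by
  rw [Polynomial.aeval_def, Polynomial.comp, Polynomial.eval₂_map,
    IsScalarTower.algebraMap_eq R S (Polynomial S), Polynomial.algebraMap_eq]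

theorem prod_mulSingle_zpow {ι : Type} [Fintype ι] [DecidableEq ι] {G : Type*} [CommGroup G]
    (i : ι) (t : G) (e : ι → ℤ) : ∏ k, ((Pi.mulSingle i t : ι → G) k) ^ (e k) = t ^ (e i) := by
  rw [Finset.prod_eq_single i (fun k _ hk => by rw [Pi.mulSingle_eq_of_ne hk, _root_.one_zpow])
    (fun h => absurd (Finset.mem_univ i) h), Pi.mulSingle_eq_same]

section main

variable {R : Type u} [CommRing R] {ι : Type} [Fintype ι] [DecidableEq ι]
  (χ : ∀ (B : Type u) [CommRing B] [Algebra R B], GL ι B →* Bˣ)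
  (hχ : ∀ (B C : Type u) [CommRing B] [Algebra R B] [CommRing C] [Algebra R C] (φ : B →ₐ[R] C)
      (g : GL ι B), χ C (Matrix.GeneralLinearGroup.map φ.toRingHom g) =
        Units.map (φ.toRingHom : B →* C) (χ B g))

include hχ in
theorem chi_tGL (B : Type u) [CommRing B] [Algebra R B] (i j : ι) (hij : i ≠ j) (c : B) :
    χ B (tGL i j hij c) = 1 := by
  set cpol : Polynomial R :=
    ((χ (Polynomial R) (tGL i j hij Polynomial.X) : (Polynomial R)ˣ) : Polynomial R) with hcpol
  have hev : ∀ (C : Type u) [CommRing C] [Algebra R C] (c : C),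
      ((χ C (tGL i j hij c) : Cˣ) : C) = Polynomial.aeval c cpol := by
    intro C _ _ c
    have := hχ (Polynomial R) C (Polynomial.aeval c) (tGL i j hij Polynomial.X)
    rw [map_tGL] at this
    have hc : (Polynomial.aeval c : Polynomial R →ₐ[R] C).toRingHom Polynomial.X = c := by simp
    rw [hc] at this
    rw [this, Units.coe_map]
    rfl
  have hcoef : ∀ k : ℕ, k ≠ 0 → cpol.coeff k = 0 := by
    intro k hk
    let B₃ := Polynomial (LaurentPolynomial R)
    let lam : B₃ˣ := Units.map ((Polynomial.C : LaurentPolynomial R →+* B₃) : LaurentPolynomial R →* B₃) (GmEnd.tU R)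
    let d : ι → B₃ˣ := Pi.mulSingle i lam
    have h1 := conj_diagGL_tGL d i j hij (Polynomial.X : B₃)
    have hdi : d i = lam := by simp only [d, Pi.mulSingle_eq_same]
    have hdj : d j = 1 := by simp only [d, Pi.mulSingle_eq_of_ne (Ne.symm hij)]
    rw [hdi, hdj] at h1
    have h2 : χ B₃ (tGL i j hij ((lam : B₃) * Polynomial.X * (((1 : B₃ˣ)⁻¹ : B₃ˣ) : B₃))) =
        χ B₃ (tGL i j hij Polynomial.X) := by
      rw [← h1, map_mul, map_mul, map_inv, mul_comm (χ B₃ (diagGL ι B₃ d)), mul_assoc,
        mul_inv_cancel, mul_one]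
    have h3 := congrArg Units.val h2
    rw [hev B₃, hev B₃, aeval_eq_map_comp, aeval_eq_map_comp, Polynomial.comp_X] at h3
    have hlam : (lam : B₃) * Polynomial.X * (((1 : B₃ˣ)⁻¹ : B₃ˣ) : B₃) =
        Polynomial.C (T 1 : LaurentPolynomial R) * Polynomial.X := by
      rw [inv_one, Units.val_one, mul_one]
      rfl
    rw [hlam] at h3
    have h4 := congrArg (fun q : B₃ => Polynomial.coeff q k) h3
    simp only [Polynomial.coeff_map] at h4
    rw [Polynomial.comp_C_mul_X_coeff, Polynomial.coeff_map,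
      LaurentPolynomial.T_pow, mul_one, ← LaurentPolynomial.C_eq_algebraMap,
      ← LaurentPolynomial.single_eq_C_mul_T] at h4
    have h5 := congrArg (fun q : LaurentPolynomial R => q.coeff (k : ℤ)) h4
    simp only [AddMonoidAlgebra.coeff_single, Finsupp.single_eq_same,
      LaurentPolynomial.C_apply] at h5
    rw [if_neg (by exact_mod_cast hk)] at h5
    exact h5
  have h0 : cpol.coeff 0 = 1 := by
    have := hev R (0 : R)
    rw [tGL_zero, map_one, Units.val_one] at this
    rw [Polynomial.coeff_zero_eq_aeval_zero, ← this]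
  have hone : cpol = 1 := by
    ext k
    rw [Polynomial.coeff_one]
    split_ifs with hk
    · rw [hk, h0]
    · exact hcoef k hk
  apply Units.ext
  rw [hev B c, hone, map_one, Units.val_one]

include hχ in
theorem exists_exponents [Nontrivial R]
    (hconn : ∀ e : R, IsIdempotentElem e → e = 0 ∨ e = 1) :
    ∃ e : ι → ℤ, ∀ (B : Type u) [CommRing B] [Algebra R B] (d : ι → Bˣ),
      χ B (diagGL ι B d) = ∏ i, d i ^ e i := by
  have key : ∀ i : ι, ∃ e : ℤ, ∀ (B : Type u) [CommRing B] [Algebra R B] (b : Bˣ),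
      χ B (diagGL ι B (Pi.mulSingle i b)) = b ^ e := by
    intro i
    let ψ : ∀ (B : Type u) [CommRing B] [Algebra R B], Bˣ →* Bˣ := fun B _ _ =>
      (χ B).comp ((diagGL ι B).comp (MonoidHom.mulSingle (fun _ : ι => Bˣ) i))
    have hψ : ∀ (B C : Type u) [CommRing B] [Algebra R B] [CommRing C] [Algebra R C]
        (φ : B →ₐ[R] C) (b : Bˣ),
        ψ C (Units.map (φ : B →* C) b) = Units.map (φ : B →* C) (ψ B b) := by
      intro B C _ _ _ _ φ b
      show χ C (diagGL ι C (Pi.mulSingle i (Units.map (φ : B →* C) b))) =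
        Units.map (φ : B →* C) (χ B (diagGL ι B (Pi.mulSingle i b)))
      have h1 := hχ B C φ (diagGL ι B (Pi.mulSingle i b))
      rw [map_diagGL] at h1
      have h2 : (fun k => Units.map ((φ.toRingHom : B →+* C) : B →* C)
          ((Pi.mulSingle i b : ι → Bˣ) k)) = Pi.mulSingle i (Units.map (φ : B →* C) b) := by
        funext k
        by_cases hk : k = i
        · subst hk
          rw [Pi.mulSingle_eq_same, Pi.mulSingle_eq_same]
          rfl
        · rw [Pi.mulSingle_eq_of_ne hk, Pi.mulSingle_eq_of_ne hk, map_one]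
      rw [h2] at h1
      rw [h1]
      rfl
    obtain ⟨e, he⟩ := GmEnd.exists_zpow hconn ψ hψ
    exact ⟨e, fun B _ _ b => he B b⟩
  choose e he using key
  refine ⟨e, fun B _ _ d => ?_⟩
  have hcomp : χ B (diagGL ι B d) = ((χ B).comp (diagGL ι B)) d := rfl
  rw [hcomp]
  conv_lhs => rw [← Finset.univ_prod_mulSingle d]
  rw [map_prod]
  exact Finset.prod_congr rfl fun i _ => he i B (d i)

theorem exponents_eq [Nontrivial R] (e : ι → ℤ)
    (he : ∀ (B : Type u) [CommRing B] [Algebra R B] (d : ι → Bˣ),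
      χ B (diagGL ι B d) = ∏ i, d i ^ e i) (i j : ι) : e i = e j := by
  by_cases hij : i = j
  · rw [hij]
  let B₀ := LaurentPolynomial R
  let d : ι → B₀ˣ := Pi.mulSingle i (GmEnd.tU R)
  have h1 := conj_pGL_diagGL (Equiv.swap i j) d
  have h2 : d ∘ (Equiv.swap i j) = Pi.mulSingle j (GmEnd.tU R) := by
    funext k
    simp only [Function.comp_apply, d]
    by_cases hkj : k = j
    · subst hkj
      rw [Equiv.swap_apply_right, Pi.mulSingle_eq_same, Pi.mulSingle_eq_same]
    · by_cases hki : k = i
      · subst hki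
        rw [Equiv.swap_apply_left, Pi.mulSingle_eq_of_ne (Ne.symm hkj),
          Pi.mulSingle_eq_of_ne hkj]
      · rw [Equiv.swap_apply_of_ne_of_ne hki hkj, Pi.mulSingle_eq_of_ne hki,
          Pi.mulSingle_eq_of_ne hkj]
  rw [h2] at h1
  have h3 : χ B₀ (diagGL ι B₀ (Pi.mulSingle j (GmEnd.tU R))) = χ B₀ (diagGL ι B₀ d) := by
    rw [← h1, map_mul, map_mul, map_inv, mul_comm (χ B₀ (pGL _)), mul_assoc, mul_inv_cancel,
      mul_one]
  rw [he, he, prod_mulSingle_zpow, prod_mulSingle_zpow] at h3
  have h4 := congrArg Units.val h3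
  rw [GmEnd.tU_zpow, GmEnd.tU_zpow] at h4
  have h5 := congrArg (fun q : LaurentPolynomial R => q.coeff (e i)) h4
  simp only [LaurentPolynomial.T_apply, if_true] at h5
  by_contra hne
  rw [if_neg (fun h => hne h.symm)] at h5
  exact zero_ne_one h5

include hχ in
theorem chi_eq_det_zpow_of_local (e₀ : ℤ)
    (hd : ∀ (B : Type u) [CommRing B] [Algebra R B] (d : ι → Bˣ),
      χ B (diagGL ι B d) = (∏ i, d i) ^ e₀)
    (B : Type u) [CommRing B] [Algebra R B] [IsLocalRing B] (g : GL ι B) :
    χ B g = Matrix.GeneralLinearGroup.det g ^ e₀ := by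
  let S : Subgroup (GL ι B) :=
    { carrier := {g | χ B g = Matrix.GeneralLinearGroup.det g ^ e₀}
      mul_mem' := by
        intro a b ha hb
        simp only [Set.mem_ofPred_eq] at *
        rw [map_mul, map_mul, ha, hb, mul_zpow]
      one_mem' := by simp
      inv_mem' := by
        intro a ha
        simp only [Set.mem_ofPred_eq] at *
        rw [map_inv, map_inv, ha, _root_.inv_zpow] }
  have hS : S = ⊤ := by
    apply Elim.subgroup_eq_top
    · intro i j c hij
      refine ⟨tGL i j hij c, ?_, rfl⟩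
      show χ B _ = _
      rw [chi_tGL χ hχ, det_tGL, _root_.one_zpow]
    · rintro h ⟨d, hdh⟩
      have h1 : ∀ i, d i * ((h⁻¹ : GL ι B) : Matrix ι ι B) i i = 1 := by
        intro i
        have := congrFun (congrFun (Units.mul_inv h) i) i
        rw [hdh, Matrix.diagonal_mul, Matrix.one_apply_eq] at this
        exact this
      have h2 : ∀ i, ((h⁻¹ : GL ι B) : Matrix ι ι B) i i * d i = 1 := by
        intro i
        rw [mul_comm]
        exact h1 i
      let d' : ι → Bˣ := fun i => ⟨d i, ((h⁻¹ : GL ι B) : Matrix ι ι B) i i, h1 i, h2 i⟩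
      have hh : h = diagGL ι B d' := by
        apply Units.ext
        rw [hdh]
        rfl
      show χ B h = _
      rw [hh, hd, det_diagGL]
  have : g ∈ S := by rw [hS]; trivial
  exact this

include hχ in
theorem chi_eq_det_zpow (e₀ : ℤ)
    (hd : ∀ (B : Type u) [CommRing B] [Algebra R B] (d : ι → Bˣ),
      χ B (diagGL ι B d) = (∏ i, d i) ^ e₀)
    (B : Type u) [CommRing B] [Algebra R B] (g : GL ι B) :
    χ B g = Matrix.GeneralLinearGroup.det g ^ e₀ := by
  apply Units.ext
  rw [← sub_eq_zero]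
  apply eq_zero_of_localization
  intro J hJ
  rw [map_sub, sub_eq_zero]
  let φ : B →ₐ[R] Localization.AtPrime J := IsScalarTower.toAlgHom R B _
  have h1 := hχ B (Localization.AtPrime J) φ g
  have h2 := chi_eq_det_zpow_of_local χ hχ e₀ hd (Localization.AtPrime J)
    (Matrix.GeneralLinearGroup.map φ.toRingHom g)
  rw [h1, Matrix.GeneralLinearGroup.map_det, ← map_zpow] at h2
  exact congrArg Units.val h2

include hχ in
/-- Characters of `GL_n` over a connected ring are powers of the determinant. -/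
theorem exists_det_zpow [Nontrivial R] [Nonempty ι]
    (hconn : ∀ e : R, IsIdempotentElem e → e = 0 ∨ e = 1) :
    ∃ e : ℤ, ∀ (B : Type u) [CommRing B] [Algebra R B] (g : GL ι B),
      χ B g = Matrix.GeneralLinearGroup.det g ^ e := by
  obtain ⟨e, he⟩ := exists_exponents χ hχ hconn
  obtain ⟨i₀⟩ := ‹Nonempty ι›
  refine ⟨e i₀, chi_eq_det_zpow χ hχ (e i₀) ?_⟩
  intro B _ _ d
  rw [he, ← Finset.prod_zpow]
  exact Finset.prod_congr rfl fun i _ => by rw [exponents_eq χ e he i i₀]

end main

end Groth.Agent.H7.CharGL
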