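import Mathlib
import Groth.Agent.Lib.Helper7.CharGL2

/-! Characters of products of `GL_n` over a connected ring (helper7). -/

namespace Groth.Agent.H7.CharGL

universe u

open Matrix LaurentPolynomial

theorem idem_eq_zero_of_basicOpen_eq_bot {R : Type u} [CommRing R] (e : R)
    (he : IsIdempotentElem e) (h1 : PrimeSpectrum.basicOpen e = ⊥) : e = 0 := by
  rw [PrimeSpectrum.basicOpen_eq_bot_iff] at h1
  obtain ⟨k, hk⟩ := h1
  rcases Nat.eq_zero_or_pos k with rfl | hk0
  · rw [pow_zero] at hk
    have : e = e * 1 := (mul_one e).symm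
    rw [this, hk, mul_zero]
  · rw [← he.pow_succ_eq (k - 1), Nat.sub_add_cancel hk0, hk]

theorem idem_of_connectedSpace (R : Type u) [CommRing R] [ConnectedSpace (PrimeSpectrum R)]
    (e : R) (he : IsIdempotentElem e) : e = 0 ∨ e = 1 := by
  have hcl : IsClopen ((PrimeSpectrum.basicOpen e : TopologicalSpace.Opens (PrimeSpectrum R)) :
      Set (PrimeSpectrum R)) := PrimeSpectrum.isClopen_iff.mpr ⟨e, he, rfl⟩
  rcases isClopen_iff.mp hcl with h | h
  · left
    exact idem_eq_zero_of_basicOpen_eq_bot e he (TopologicalSpace.Opens.ext (by simpa using h))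
  · right
    have h1 : PrimeSpectrum.basicOpen e = ⊤ := TopologicalSpace.Opens.ext (by simpa using h)
    have h2 : PrimeSpectrum.basicOpen (1 - e) = ⊥ := by
      have := PrimeSpectrum.basicOpen_mul e (1 - e)
      rw [h1, top_inf_eq, mul_sub, mul_one, he.eq, sub_self, PrimeSpectrum.basicOpen_zero] at this
      exact this.symm
    have := idem_eq_zero_of_basicOpen_eq_bot (1 - e) he.one_sub h2
    exact (sub_eq_zero.mp this).symm

theorem main (R : Type u) [CommRing R] [ConnectedSpace (PrimeSpectrum R)]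
    (r : ℕ) (n : Fin r → ℕ) (hn : ∀ i, 0 < n i)
    (α : ∀ (B : Type u) [CommRing B] [Algebra R B],
      (∀ i, Matrix.GeneralLinearGroup (Fin (n i)) B) →* Bˣ)
    (hα : ∀ (B C : Type u) [CommRing B] [Algebra R B] [CommRing C] [Algebra R C] (φ : B →ₐ[R] C)
      (s : ∀ i, Matrix.GeneralLinearGroup (Fin (n i)) B),
      α C (fun i => Matrix.GeneralLinearGroup.map φ.toRingHom (s i)) =
        Units.map (φ.toRingHom : B →* C) (α B s)) :
    ∃! m : Fin r → ℤ, ∀ (B : Type u) [CommRing B] [Algebra R B]
      (s : ∀ i, Matrix.GeneralLinearGroup (Fin (n i)) B),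
      α B s = ∏ i, Matrix.GeneralLinearGroup.det (s i) ^ (m i) := by
  classical
  have hnt : Nontrivial R := PrimeSpectrum.nonempty_iff_nontrivial.mp inferInstance
  have hconn := idem_of_connectedSpace R
  have hprod : ∀ (B : Type u) [CommRing B] [Algebra R B] (m : Fin r → ℤ) (i : Fin r)
      (g : Matrix.GeneralLinearGroup (Fin (n i)) B),
      ∏ k, Matrix.GeneralLinearGroup.det
        ((Pi.mulSingle i g : ∀ i, Matrix.GeneralLinearGroup (Fin (n i)) B) k) ^ (m k) =
        Matrix.GeneralLinearGroup.det g ^ (m i) := by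
    intro B _ _ m i g
    rw [Finset.prod_eq_single i (fun k _ hk => by
      rw [Pi.mulSingle_eq_of_ne hk, map_one, _root_.one_zpow])
      (fun h => absurd (Finset.mem_univ i) h), Pi.mulSingle_eq_same]
  -- existence
  have key : ∀ i : Fin r, ∃ e : ℤ, ∀ (B : Type u) [CommRing B] [Algebra R B]
      (g : Matrix.GeneralLinearGroup (Fin (n i)) B),
      α B (Pi.mulSingle i g) = Matrix.GeneralLinearGroup.det g ^ e := by
    intro i
    have : Nonempty (Fin (n i)) := ⟨⟨0, hn i⟩⟩
    let χ : ∀ (B : Type u) [CommRing B] [Algebra R B],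
        Matrix.GeneralLinearGroup (Fin (n i)) B →* Bˣ := fun B _ _ =>
      (α B).comp (MonoidHom.mulSingle (fun i => Matrix.GeneralLinearGroup (Fin (n i)) B) i)
    have hχ : ∀ (B C : Type u) [CommRing B] [Algebra R B] [CommRing C] [Algebra R C]
        (φ : B →ₐ[R] C) (g : Matrix.GeneralLinearGroup (Fin (n i)) B),
        χ C (Matrix.GeneralLinearGroup.map φ.toRingHom g) =
          Units.map (φ.toRingHom : B →* C) (χ B g) := by
      intro B C _ _ _ _ φ g
      show α C (Pi.mulSingle i (Matrix.GeneralLinearGroup.map φ.toRingHom g)) =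
        Units.map (φ.toRingHom : B →* C) (α B (Pi.mulSingle i g))
      rw [← hα B C φ (Pi.mulSingle i g)]
      congr 1
      funext k
      by_cases hk : k = i
      · subst hk
        rw [Pi.mulSingle_eq_same, Pi.mulSingle_eq_same]
      · rw [Pi.mulSingle_eq_of_ne hk, Pi.mulSingle_eq_of_ne hk, map_one]
    obtain ⟨e, he⟩ := exists_det_zpow χ hχ hconn
    exact ⟨e, fun B _ _ g => he B g⟩
  choose m hm using key
  have hex : ∀ (B : Type u) [CommRing B] [Algebra R B]
      (s : ∀ i, Matrix.GeneralLinearGroup (Fin (n i)) B),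
      α B s = ∏ i, Matrix.GeneralLinearGroup.det (s i) ^ (m i) := by
    intro B _ _ s
    conv_lhs => rw [← Finset.noncommProd_mulSingle s]
    rw [Finset.map_noncommProd, Finset.noncommProd_eq_prod]
    exact Finset.prod_congr rfl fun i _ => hm i B (s i)
  refine ⟨m, hex, ?_⟩
  intro m' hm'
  funext i
  let i₀ : Fin (n i) := ⟨0, hn i⟩
  let g : Matrix.GeneralLinearGroup (Fin (n i)) (LaurentPolynomial R) :=
    diagGL (Fin (n i)) (LaurentPolynomial R) (Pi.mulSingle i₀ (GmEnd.tU R))
  have hdet : Matrix.GeneralLinearGroup.det g = GmEnd.tU R := by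
    rw [det_diagGL]
    simp
  have h1 := hex (LaurentPolynomial R) (Pi.mulSingle i g)
  have h2 := hm' (LaurentPolynomial R) (Pi.mulSingle i g)
  rw [hprod, hdet] at h1 h2
  have h3 := congrArg Units.val (h2.symm.trans h1)
  rw [GmEnd.tU_zpow, GmEnd.tU_zpow] at h3
  have h5 := congrArg (fun q : LaurentPolynomial R => q.coeff (m' i)) h3
  simp only [LaurentPolynomial.T_apply, if_true] at h5
  by_contra hne
  rw [if_neg (fun h => hne h.symm)] at h5
  exact one_ne_zero h5

end Groth.Agent.H7.CharGL
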