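import Groth.Agent.Lib.Helper3.FinQuot.AffineRep
import Groth.Agent.Lib.Helper3.Decent.MonoDiscrete
import Groth.Agent.Lib.Helper5.AlgSp.UnivClosed
import Groth.Agent.Lib.Helper5.AlgSp.LocPCalc
import Groth.Agent.Lib.Helper5.AlgSp.AffineBase
import Mathlib

/-!
# Closed immersion criterion for algebraic spaces, part 1
-/

set_option autoImplicit false
universe u

open AlgebraicGeometry CategoryTheory Limits

namespace Groth.Agent.H7.ClImmSp

open _root_.AlgSp Groth.Agent.H5.AlgSp Groth.Agent.H5.EtSrc

variable {S : Scheme.{u}}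

/-- a universally closed, locally finite type monomorphism from an algebraic space all of
whose points are schematic to a scheme is a closed immersion. -/
theorem repWith_isClosedImmersion_of_schematic {X : Sp S} {V : Over S} (h : X ⟶ (yon S).obj V)
    [Mono h] (hl : LocP @LocallyOfFiniteType h) (hc : IsUnivClosedMor h) (hX : IsAlgSpace X)
    (hs : schematicSet X = Set.univ) : RepWith @IsClosedImmersion h := by
  obtain ⟨Z, ⟨e⟩⟩ := Groth.Agent.H3.Decent.isRepresentable_of_schematicSet_eq_univ hX hs
  obtain ⟨z, hz⟩ := (yon S).map_surjective (e.hom ≫ h)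
  have hmono : Mono ((yon S).map z) := by rw [hz]; infer_instance
  have hzm : Mono z := (yon S).mono_of_mono_map hmono
  have hzl : Mono z.left := inferInstance
  have h1 : LocallyOfFiniteType z.left :=
    hl e.hom (𝟙 _) z (MorphismProperty.of_isIso (RepWith (S := S) @Etale) e.hom)
      ((RepWith @Etale).id_mem _) (by rw [Category.comp_id, hz])
  have h2 : IsUnivClosedMor ((yon S).map z) := by
    rw [hz]
    intro Z Z' hZ g a b sq
    have sq2 : IsPullback e.hom (e.hom ≫ h) h (𝟙 _) := IsPullback.of_horiz_isIso ⟨by simp⟩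
    have sq' : IsPullback (a ≫ e.hom) b h g := by
      have := sq.paste_horiz sq2
      rwa [Category.comp_id] at this
    exact hc hZ g (a ≫ e.hom) b sq'
  have h3 : UniversallyClosed z.left := by
    have := (repWith_universallyClosed_iff (representable_yon_map z)).2 h2
    exact (repWith_yon_map_iff @UniversallyClosed z).1 this
  have h4 : IsSeparated z.left := inferInstance
  have h5 : IsProper z.left := {}
  have h6 : IsClosedImmersion z.left := (IsClosedImmersion.iff_isProper_and_mono _).2 ⟨h5, hzl⟩
  have h7 : RepWith @IsClosedImmersion ((yon S).map z) :=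
    (repWith_yon_map_iff @IsClosedImmersion z).2 h6
  rw [hz] at h7
  exact (MorphismProperty.cancel_left_of_respectsIso (RepWith (S := S) @IsClosedImmersion)
    e.hom h).1 h7


/-- an algebraic space with a monomorphism to an affine scheme, covered by an étale chart which
is finite over that scheme, is schematic at all points. -/
theorem schematicSet_eq_univ_of_finite_chart {X : Sp S} {V W : Over S} [IsAffine V.left]
    (h : X ⟶ (yon S).obj V) [Mono h] (p : (yon S).obj W ⟶ X) (hp : RepWith @Etale p)
    (w : W ⟶ V) (hw : p ≫ h = (yon S).map w) [IsFinite w.left]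
    (hsurj : ∀ x : Points X, ∃ t, Points.ofPt p t = x) : schematicSet X = Set.univ := by
  have hWaff : IsAffine W.left := isAffine_of_isAffineHom w.left
  let A : CommRingCat.{u} := Γ(W.left, ⊤)
  let i : W.left ≅ Spec A := W.left.isoSpec
  let str : Spec A ⟶ S := i.inv ≫ W.hom
  let e : Over.mk str ≅ W := Over.isoMk i.symm (by simp [str])
  have hp' : RepWith @Etale ((yon S).map e.hom ≫ p) :=
    (MorphismProperty.cancel_left_of_respectsIso (RepWith (S := S) @Etale)
      ((yon S).map e.hom) p).2 hp
  have hfin : IsFinite (e.hom ≫ w).left := by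
    rw [Over.comp_left]
    infer_instance
  have sqO := IsPullback.of_hasPullback (e.hom ≫ w) (e.hom ≫ w)
  have sqY := sqO.map (yon S)
  have hcomp : ((yon S).map e.hom ≫ p) ≫ h = (yon S).map (e.hom ≫ w) := by
    rw [Category.assoc, hw, Functor.map_comp]
  have sq : IsPullback ((yon S).map (pullback.fst (e.hom ≫ w) (e.hom ≫ w)))
      ((yon S).map (pullback.snd (e.hom ≫ w) (e.hom ≫ w)))
      ((yon S).map e.hom ≫ p) ((yon S).map e.hom ≫ p) := by
    apply isPullback_of_comp_mono h
    rw [hcomp]
    exact sqY
  have hsf : IsFinite (pullback.snd (e.hom ≫ w) (e.hom ≫ w)).left := by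
    rw [left_pullback_snd_iff @IsFinite]
    exact MorphismProperty.pullback_snd (P := @IsFinite) _ _ hfin
  apply Set.eq_univ_of_forall
  intro x
  obtain ⟨t, rfl⟩ := hsurj x
  have key := Groth.Agent.H3.FinQuot.mem_schematicSet_of_kernelPair_finite str
    ((yon S).map e.hom ≫ p) hp' (pullback.snd (e.hom ≫ w) (e.hom ≫ w))
    (pullback.fst (e.hom ≫ w) (e.hom ≫ w)) sq hsf (e.inv.left t)
  rw [ofPt_yon_map_comp] at key
  have : e.hom.left (e.inv.left t) = t := by
    rw [← Scheme.Hom.comp_apply, ← Over.comp_left, Iso.inv_hom_id]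
    rfl
  rwa [this] at key

end Groth.Agent.H7.ClImmSp
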