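import Groth.Agent.Lib.Helper7.ClImm1
import Groth.Agent.Lib.Helper7.GorSp
import Groth.Agent.Lib.Helper5.AlgSp.ClosedDescent
import Groth.Agent.Lib.Helper5.Descent.SepLQFLocal
import Mathlib

/-!
# Closed immersion criterion for algebraic spaces, part 2: shrinking
-/

set_option autoImplicit false
universe u

open AlgebraicGeometry CategoryTheory Limits

namespace Groth.Agent.H7.ClImmSp

open _root_.AlgSp Groth.Agent.H5.AlgSp Groth.Agent.H5.EtSrc Groth.Agent.H5.Descent

variable {S : Scheme.{u}}

/-- shrinking the base around a point so that a finite chart becomes surjective. -/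
theorem exists_open_chart_surjective {X : Sp S} {V V' W : Over S}
    (h : X ⟶ (yon S).obj V) [Mono h] (hc : IsUnivClosedMor h)
    (j : V' ⟶ V) (hj : Etale j.left) (a' : (yon S).obj W ⟶ X) (ha' : RepWith @Etale a')
    (w : W ⟶ V') (comm : a' ≫ h = (yon S).map w ≫ (yon S).map j) (w₀ : W.left) :
    ∃ (N : V'.left.Opens), IsAffineOpen N ∧ w.left w₀ ∈ N ∧
      ∃ p'' : (yon S).obj (overOpen W (w.left ⁻¹ᵁ N)) ⟶
          pullback h ((yon S).map (overOpenι V' N ≫ j)),
        p'' ≫ pullback.fst h ((yon S).map (overOpenι V' N ≫ j)) =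
          (yon S).map (overOpenι W (w.left ⁻¹ᵁ N)) ≫ a' ∧
        p'' ≫ pullback.snd h ((yon S).map (overOpenι V' N ≫ j)) =
          (yon S).map (overRestrict w N) ∧
        ∀ x : Points (pullback h ((yon S).map (overOpenι V' N ≫ j))),
          ∃ t, Points.ofPt p'' t = x := by
  have hb : RepWith @Etale ((yon S).map j) := (repWith_yon_map_iff @Etale j).2 hj
  have hp : RepWith @Etale (pullback.lift a' ((yon S).map w) comm :
      (yon S).obj W ⟶ pullback h ((yon S).map j)) :=
    Groth.Agent.H7.GorSp.repWith_etale_lift a' ((yon S).map j) w ha' hb comm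
  have hΩ := Groth.Agent.H3.AlgSpProp.isOpen_range_ofPt hp
  have hcl : IsClosedMap (Points.map (pullback.snd h ((yon S).map j))) :=
    hc (IsAlgSpace.yon_obj V') ((yon S).map j) _ _ (IsPullback.of_hasPullback _ _)
  have hD' := hcl _ hΩ.isClosed_compl
  have hD : IsClosed ((Points.schemeHomeo V') ⁻¹' (Points.map (pullback.snd h ((yon S).map j)) ''
      (Set.range (Points.ofPt (pullback.lift a' ((yon S).map w) comm :
      (yon S).obj W ⟶ pullback h ((yon S).map j))))ᶜ)) :=
    hD'.preimage (Points.schemeHomeo V').continuous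
  have hsnd : ∀ t : W.left, Points.map (pullback.snd h ((yon S).map j))
      (Points.ofPt (pullback.lift a' ((yon S).map w) comm) t) =
      Points.schemeHomeo V' (w.left t) := by
    intro t
    rw [Points.map_ofPt, pullback.lift_snd]
    have := ofPt_yon_map_comp w (𝟙 _) t
    rw [Category.comp_id] at this
    rw [this]
    rfl
  have hv' : w.left w₀ ∉ (Points.schemeHomeo V') ⁻¹'
      (Points.map (pullback.snd h ((yon S).map j)) ''
      (Set.range (Points.ofPt (pullback.lift a' ((yon S).map w) comm :
      (yon S).obj W ⟶ pullback h ((yon S).map j))))ᶜ) := by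
    rintro ⟨ξ, hξ, hξv⟩
    apply hξ
    refine ⟨w₀, points_map_injective_of_mono (pullback.snd h ((yon S).map j)) ?_⟩
    rw [hξv, hsnd]
  obtain ⟨_, ⟨N, hN, rfl⟩, hvN, hND⟩ :=
    V'.left.isBasis_affineOpens.exists_subset_of_mem_open hv' hD.isOpen_compl
  refine ⟨N, hN, hvN, ?_⟩
  have comm'' : ((yon S).map (overOpenι W (w.left ⁻¹ᵁ N)) ≫ a') ≫ h =
      (yon S).map (overRestrict w N) ≫ (yon S).map (overOpenι V' N ≫ j) := by
    rw [Category.assoc, comm, ← Functor.map_comp, ← Functor.map_comp, ← Functor.map_comp,
      ← Category.assoc, ← overRestrict_comp, Category.assoc]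
  refine ⟨pullback.lift _ _ comm'', pullback.lift_fst _ _ _, pullback.lift_snd _ _ _, ?_⟩
  intro x''
  -- the comparison map to the pullback over `V'`
  have hm : pullback.fst h ((yon S).map (overOpenι V' N ≫ j)) ≫ h =
      (pullback.snd h ((yon S).map (overOpenι V' N ≫ j)) ≫ (yon S).map (overOpenι V' N)) ≫
        (yon S).map j := by
    rw [Category.assoc, ← Functor.map_comp]
    exact pullback.condition
  have hιmono : Mono (overOpenι V' N) := by
    have : Mono (overOpenι V' N).left := by
      change Mono (Scheme.Opens.ι (X := V'.left) N)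
      infer_instance
    exact Over.mono_of_mono_left _
  have hmono : Mono (pullback.lift _ _ hm : pullback h ((yon S).map (overOpenι V' N ≫ j)) ⟶
      pullback h ((yon S).map j)) := by
    refine ⟨fun α β hαβ => ?_⟩
    apply pullback.hom_ext
    · have := congrArg (· ≫ pullback.fst h ((yon S).map j)) hαβ
      simpa only [Category.assoc, pullback.lift_fst] using this
    · have := congrArg (· ≫ pullback.snd h ((yon S).map j)) hαβ
      simp only [Category.assoc, pullback.lift_snd] at this
      rw [← Category.assoc, ← Category.assoc] at this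
      exact (cancel_mono ((yon S).map (overOpenι V' N))).1 this
  obtain ⟨n, hn⟩ := ofScheme_surjective (overOpen V' N)
    (Points.map (pullback.snd h ((yon S).map (overOpenι V' N ≫ j))) x'')
  have h1 : Points.map (pullback.snd h ((yon S).map j)) (Points.map (pullback.lift _ _ hm) x'') =
      Points.schemeHomeo V' ((overOpenι V' N).left n) := by
    rw [← Points.map_comp, pullback.lift_snd, Points.map_comp, ← hn, Points.map_ofPt,
      Category.id_comp]
    have := ofPt_yon_map_comp (overOpenι V' N) (𝟙 _) n
    rw [Category.comp_id] at this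
    rw [this]
    rfl
  have hnN : (overOpenι V' N).left n ∈ N := n.2
  have h2 : Points.map (pullback.lift _ _ hm) x'' ∈
      Set.range (Points.ofPt (pullback.lift a' ((yon S).map w) comm :
      (yon S).obj W ⟶ pullback h ((yon S).map j))) := by
    by_contra hcon
    apply hND hnN
    refine ⟨_, hcon, h1⟩
  obtain ⟨t, ht⟩ := h2
  have htN : w.left t ∈ N := by
    have := hsnd t
    rw [ht, h1] at this
    have := (Points.schemeHomeo V').injective this
    rw [← this]
    exact hnN
  refine ⟨⟨t, htN⟩, points_map_injective_of_mono (pullback.lift _ _ hm) ?_⟩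
  rw [Points.map_ofPt, ← ht]
  have hcomp : pullback.lift _ _ comm'' ≫ pullback.lift _ _ hm =
      (yon S).map (overOpenι W (w.left ⁻¹ᵁ N)) ≫ pullback.lift a' ((yon S).map w) comm := by
    apply pullback.hom_ext
    · simp only [Category.assoc, pullback.lift_fst]
    · simp only [Category.assoc, pullback.lift_snd]
      rw [← Category.assoc, pullback.lift_snd, ← Functor.map_comp, ← Functor.map_comp,
        overRestrict_comp]
  rw [hcomp]
  exact ofPt_restrict _ (w.left ⁻¹ᵁ N) ⟨t, htN⟩

end Groth.Agent.H7.ClImmSp
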