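import Groth.Agent.Lib.Helper7.ClImm2
import Groth.Agent.Lib.Helper3.AlgSpMor.Unramified
import Groth.Agent.Lib.Helper5.AlgSp.FlatDescentMore
import Groth.Agent.Lib.Helper5.AlgSp.AffineChart
import Mathlib

/-!
# Closed immersion criterion for algebraic spaces, part 3: the local statement
-/

set_option autoImplicit false
universe u

open AlgebraicGeometry CategoryTheory Limits

namespace Groth.Agent.H7.ClImmSp

open _root_.AlgSp Groth.Agent.H5.AlgSp Groth.Agent.H5.EtSrc Groth.Agent.H5.Descent

variable {S : Scheme.{u}}

/-- the base change of a universally closed lft monomorphism to a scheme, all of whose points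
are schematic, is a closed immersion. -/
theorem closedImmersion_baseChange_of_schematic {X : Sp S} (hX : IsAlgSpace X) {V V'' : Over S}
    (h : X ⟶ (yon S).obj V) [Mono h] (hl : LocP @LocallyOfFiniteType h)
    (hc : IsUnivClosedMor h) (j'' : V'' ⟶ V)
    (hs : schematicSet (pullback h ((yon S).map j'')) = Set.univ) :
    RepWith @IsClosedImmersion (pullback.snd h ((yon S).map j'')) := by
  have sq := IsPullback.of_hasPullback h ((yon S).map j'')
  have hX'' : IsAlgSpace (pullback h ((yon S).map j'')) :=
    isAlgSpace_pullback (IsAlgSpace.yon_obj V).diag hX (IsAlgSpace.yon_obj V'') sq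
  have hl'' : LocP @LocallyOfFiniteType (pullback.snd h ((yon S).map j'')) :=
    locP_baseChange_scheme (P := @LocallyOfFiniteType)
      (fun _ _ g (hg : Etale g) => (inferInstance : LocallyOfFiniteType g)) sq hX hl
  have hc'' : IsUnivClosedMor (pullback.snd h ((yon S).map j'')) := univSp_of_isPullback sq hc
  exact repWith_isClosedImmersion_of_schematic _ hl'' hc'' hX'' hs

/-- **The local statement**: a universally closed lft monomorphism from an algebraic space to a
scheme is a closed immersion étale locally on the target. -/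
theorem exists_etale_nbhd_closedImmersion {X : Sp S} (hX : IsAlgSpace X) {V : Over S}
    (h : X ⟶ (yon S).obj V) [Mono h] (hl : LocP @LocallyOfFiniteType h)
    (hc : IsUnivClosedMor h) (v : V.left) :
    ∃ (V'' : Over S) (j'' : V'' ⟶ V), Etale j''.left ∧ v ∈ Set.range j''.left ∧
      RepWith @IsClosedImmersion (pullback.snd h ((yon S).map j'')) := by
  by_cases hv : ∃ x : Points X, Points.map h x = Points.schemeHomeo V v
  · obtain ⟨x, hx⟩ := hv
    -- an affine étale chart through `x`
    obtain ⟨U₀, a₀, ha₀e, ha₀s⟩ := hX.atlas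
    obtain ⟨u₀, hu₀⟩ := ofPt_surjective_of_repWith ha₀s x
    obtain ⟨_, ⟨N₀, hN₀, rfl⟩, hu₀N, -⟩ := U₀.left.isBasis_affineOpens.exists_subset_of_mem_open
      (Set.mem_univ u₀) isOpen_univ
    have ha : RepWith @Etale ((yon S).map (overOpenι U₀ N₀) ≫ a₀) := repWith_etale_restrict ha₀e N₀
    have hua : Points.ofPt ((yon S).map (overOpenι U₀ N₀) ≫ a₀) ⟨u₀, hu₀N⟩ = x :=
      (ofPt_restrict a₀ N₀ ⟨u₀, hu₀N⟩).trans hu₀
    have hUaff : IsAffine (overOpen U₀ N₀).left := hN₀
    obtain ⟨g, hg⟩ := (yon S).map_surjective (((yon S).map (overOpenι U₀ N₀) ≫ a₀) ≫ h)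
    -- `g` is unramified
    have hΔ : RepWith @IsOpenImmersion (pullback.diagonal h) :=
      MorphismProperty.of_isIso (RepWith (S := S) @IsOpenImmersion) _
    have hunr := Groth.Agent.H3.AlgSpProp.locP_unramified_of_diagonal hX h hl hΔ
    have hgP := hunr ((yon S).map (overOpenι U₀ N₀) ≫ a₀) (𝟙 _) g ha
      ((RepWith @Etale).id_mem _) (by rw [Category.comp_id, hg])
    have hg1 : LocallyOfFiniteType g.left := hgP.1
    have hg2 : FormallyUnramified g.left := hgP.2
    have hg3 : LocallyQuasiFinite g.left := locallyQuasiFinite_of_unramified g.left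
    have hg4 : IsSeparated g.left := by
      have : IsSeparated (g.left ≫ terminal.from V.left) := by
        rw [show g.left ≫ terminal.from V.left = terminal.from _ from terminal.hom_ext _ _]
        infer_instance
      exact IsSeparated.of_comp g.left (terminal.from V.left)
    have hgu : g.left ⟨u₀, hu₀N⟩ = v := by
      apply (Points.schemeHomeo V).injective
      rw [← hx, ← hua, Points.map_ofPt, ← hg]
      have := ofPt_yon_map_comp g (𝟙 _) (⟨u₀, hu₀N⟩ : (overOpen U₀ N₀).left)
      rw [Category.comp_id] at this
      rw [this]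
      rfl
    obtain ⟨V'₀, j₀, hj₀, ⟨v'₀, hv'₀⟩, A, B, a₁, -, hAfin, ha₁⟩ :=
      exists_etale_isCompl_of_quasiFiniteAt g.left hgu (g.left.quasiFiniteAt _)
    -- over `S`
    let V' : Over S := Over.mk (j₀ ≫ V.hom)
    let j : V' ⟶ V := Over.homMk j₀ rfl
    let W : Over S := Over.mk ((A.ι ≫ pullback.fst g.left j₀) ≫ (overOpen U₀ N₀).hom)
    let ι : W ⟶ overOpen U₀ N₀ := Over.homMk (A.ι ≫ pullback.fst g.left j₀) rfl
    let w : W ⟶ V' := Over.homMk (A.ι ≫ pullback.snd g.left j₀) (by
      change (A.ι ≫ pullback.snd g.left j₀) ≫ j₀ ≫ V.hom =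
        (A.ι ≫ pullback.fst g.left j₀) ≫ (overOpen U₀ N₀).hom
      rw [Category.assoc, Category.assoc, ← pullback.condition_assoc, Over.w g])
    have hιw : ι ≫ g = w ≫ j := by
      apply Over.OverMorphism.ext
      change (A.ι ≫ pullback.fst g.left j₀) ≫ g.left = (A.ι ≫ pullback.snd g.left j₀) ≫ j₀
      rw [Category.assoc, Category.assoc, pullback.condition]
    have hιe : Etale ι.left := by
      change Etale (A.ι ≫ pullback.fst g.left j₀)
      infer_instance
    have hje : Etale j.left := hj₀
    have hwf : IsFinite w.left := hAfin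
    have ha' : RepWith @Etale ((yon S).map ι ≫ (yon S).map (overOpenι U₀ N₀) ≫ a₀) :=
      repWith_comp_yon_map @Etale ι hιe ha
    have comm : ((yon S).map ι ≫ (yon S).map (overOpenι U₀ N₀) ≫ a₀) ≫ h =
        (yon S).map w ≫ (yon S).map j := by
      rw [Category.assoc, ← hg, ← Functor.map_comp, ← Functor.map_comp, hιw]
    obtain ⟨N, hN, hvN, p'', hp1, hp2, hsurj⟩ :=
      exists_open_chart_surjective h hc j hje _ ha' w comm a₁
    have hV''aff : IsAffine (overOpen V' N).left := hN
    have hfin'' : IsFinite (overRestrict w N).left := by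
      rw [overRestrict_left]
      infer_instance
    have hj''e : Etale (overOpenι V' N ≫ j).left := by
      rw [Over.comp_left]
      have : Etale (overOpenι V' N).left := by
        change Etale (Scheme.Opens.ι (X := V'.left) N)
        infer_instance
      infer_instance
    have hfst : RepWith @Etale (pullback.fst h ((yon S).map (overOpenι V' N ≫ j))) :=
      MorphismProperty.of_isPullback (P := RepWith @Etale)
        (IsPullback.of_hasPullback h ((yon S).map (overOpenι V' N ≫ j))).flip
        ((repWith_yon_map_iff @Etale _).2 hj''e)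
    have hp''e : RepWith @Etale p'' := by
      refine repWith_etale_of_comp (b := pullback.fst h ((yon S).map (overOpenι V' N ≫ j))) ?_ hfst
      rw [hp1]
      exact repWith_etale_restrict ha' _
    have hs := schematicSet_eq_univ_of_finite_chart
      (pullback.snd h ((yon S).map (overOpenι V' N ≫ j))) p'' hp''e (overRestrict w N) hp2 hsurj
    refine ⟨overOpen V' N, overOpenι V' N ≫ j, hj''e, ?_,
      closedImmersion_baseChange_of_schematic hX h hl hc _ hs⟩
    refine ⟨⟨w.left a₁, hvN⟩, ?_⟩
    change j₀ ((A.ι ≫ pullback.snd g.left j₀) a₁) = v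
    rw [← hgu, ← ha₁, ← Scheme.Hom.comp_apply, ← Scheme.Hom.comp_apply, Category.assoc,
      ← pullback.condition]
    rfl
  · -- `v` is not in the image: use the complement of the (closed) image
    have hcl : IsClosed (Set.range (Points.map h)) := by
      have := hc (IsAlgSpace.yon_obj V) (𝟙 _) (𝟙 _) h (IsPullback.of_horiz_isIso ⟨by simp⟩)
      rw [← Set.image_univ]
      exact this _ isClosed_univ
    let N₀ : V.left.Opens := ⟨((Points.schemeHomeo V) ⁻¹' Set.range (Points.map h))ᶜ,
      (hcl.preimage (Points.schemeHomeo V).continuous).isOpen_compl⟩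
    have hvN : v ∈ N₀ := fun hcon => hv hcon
    have hje : Etale (overOpenι V N₀).left := by
      change Etale (Scheme.Opens.ι (X := V.left) N₀)
      infer_instance
    have hs : schematicSet (pullback h ((yon S).map (overOpenι V N₀))) = Set.univ := by
      apply Set.eq_univ_of_forall
      intro x''
      exfalso
      obtain ⟨n, hn⟩ := ofScheme_surjective (overOpen V N₀)
        (Points.map (pullback.snd h ((yon S).map (overOpenι V N₀))) x'')
      apply n.2
      refine ⟨Points.map (pullback.fst h ((yon S).map (overOpenι V N₀))) x'', ?_⟩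
      rw [← Points.map_comp, pullback.condition, Points.map_comp, ← hn, Points.map_ofPt,
        Category.id_comp]
      have := ofPt_yon_map_comp (overOpenι V N₀) (𝟙 _) n
      rw [Category.comp_id] at this
      rw [this]
      rfl
    exact ⟨overOpen V N₀, overOpenι V N₀, hje, ⟨⟨v, hvN⟩, rfl⟩,
      closedImmersion_baseChange_of_schematic hX h hl hc _ hs⟩

end Groth.Agent.H7.ClImmSp
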