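import Groth.Agent.Lib.Helper7.ClImm3
import Groth.Agent.Lib.Helper3.AlgSpCov.FppfImm
import Mathlib

/-!
# Closed immersion criterion for algebraic spaces, part 4: the theorem
-/

set_option autoImplicit false
universe u

open AlgebraicGeometry CategoryTheory Limits

namespace Groth.Agent.H7.ClImmSp

open _root_.AlgSp Groth.Agent.H5.AlgSp Groth.Agent.H5.EtSrc Groth.Agent.H5.Descent

variable {S : Scheme.{u}}

/-- **A universally closed monomorphism locally of finite type from an algebraic space to a
scheme is a closed immersion.** -/
theorem repWith_isClosedImmersion_of_mono_scheme {X : Sp S} (hX : IsAlgSpace X) {V : Over S}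
    (h : X ⟶ (yon S).obj V) [Mono h] (hl : LocP @LocallyOfFiniteType h)
    (hc : IsUnivClosedMor h) : RepWith @IsClosedImmersion h := by
  choose V'' j'' hje hv hci using exists_etale_nbhd_closedImmersion hX h hl hc
  have hcover : IsFppfCover (fun v : V.left => (yon S).obj (V'' v))
      (fun v => (yon S).map (j'' v)) := by
    refine ⟨fun v => ⟨?_, ?_⟩, fun x => ?_⟩
    · exact (locP_yon_map_iff (P := @Flat)
        (fun _ _ g (hg : Etale g) => (inferInstance : Flat g)) (j'' v)).2
        (by have := hje v; infer_instance)
    · exact (locP_yon_map_iff (P := @LocallyOfFinitePresentation)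
        (fun _ _ g (hg : Etale g) => (inferInstance : LocallyOfFinitePresentation g)) (j'' v)).2
        (by have := hje v; infer_instance)
    · obtain ⟨v₀, rfl⟩ := (Points.schemeHomeo V).surjective x
      obtain ⟨t, ht⟩ := hv v₀
      refine ⟨v₀, Points.ofScheme _ t, ?_⟩
      rw [Points.map_ofPt, Category.id_comp]
      have := ofPt_yon_map_comp (j'' v₀) (𝟙 _) t
      rw [Category.comp_id] at this
      rw [this, ht]
      rfl
  refine repWith_isClosedImmersion_of_jointly_locallySurjective_baseChange
    (fun v : V.left => (yon S).map (j'' v))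
    (Groth.Agent.H3.AlgSpCov.jointLiftSieve_mem_of_isFppfCover (IsAlgSpace.yon_obj V) _
      (fun v => IsAlgSpace.yon_obj _) _ hcover)
    (fun v => IsPullback.of_hasPullback h ((yon S).map (j'' v))) hci

/-- `RepWith P` can be checked after base change to schemes. -/
theorem repWith_of_forall_pullback_snd (P : MorphismProperty Scheme.{u}) {X Y : Sp S} (f : X ⟶ Y)
    (H : ∀ (U : Over S) (g : (yon S).obj U ⟶ Y), RepWith P (pullback.snd f g)) :
    RepWith P f := by
  rw [repWith_iff]
  refine ⟨fun U g => ?_, fun U V g fst snd sq => ?_⟩
  · obtain ⟨b, snd, fst, sq1⟩ := (H U g).rep (𝟙 ((yon S).obj U))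
    have sq2 := IsPullback.of_hasPullback f g
    have := sq1.paste_horiz sq2
    rw [Category.id_comp] at this
    exact ⟨b, snd, fst ≫ pullback.fst f g, this⟩
  · have hiso : IsIso (pullback.lift fst ((yon S).map snd) sq.w) := by
      have : pullback.lift fst ((yon S).map snd) sq.w = sq.isoPullback.hom := by
        apply pullback.hom_ext
        · rw [pullback.lift_fst, sq.isoPullback_hom_fst]
        · rw [pullback.lift_snd, sq.isoPullback_hom_snd]
      rw [this]
      infer_instance
    have sq' : IsPullback (pullback.lift fst ((yon S).map snd) sq.w) ((yon S).map snd)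
        (pullback.snd f g) (𝟙 _) :=
      IsPullback.of_horiz_isIso ⟨by rw [pullback.lift_snd, Category.comp_id]⟩
    exact (H U g).property (𝟙 _) _ snd sq'

/-- **A universally closed monomorphism locally of finite type of algebraic spaces is a closed
immersion.** -/
theorem repWith_isClosedImmersion_of_mono {X Y : Sp S} (hX : IsAlgSpace X) (hY : IsAlgSpace Y)
    (f : X ⟶ Y) [Mono f] (hl : LocP @LocallyOfFiniteType f) (hc : IsUnivClosedMor f) :
    RepWith @IsClosedImmersion f := by
  apply repWith_of_forall_pullback_snd
  intro U g
  have sq := IsPullback.of_hasPullback f g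
  have hXU : IsAlgSpace (pullback f g) := isAlgSpace_pullback hY.diag hX (IsAlgSpace.yon_obj U) sq
  have hl' : LocP @LocallyOfFiniteType (pullback.snd f g) :=
    locP_of_isPullback (P := @LocallyOfFiniteType)
      (fun _ _ g (hg : Etale g) => (inferInstance : LocallyOfFiniteType g)) sq hX hY
      (IsAlgSpace.yon_obj U) hl
  have hc' : IsUnivClosedMor (pullback.snd f g) := univSp_of_isPullback sq hc
  exact repWith_isClosedImmersion_of_mono_scheme hXU _ hl' hc'

end Groth.Agent.H7.ClImmSp
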