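import Groth.Agent.Lib.Helper7.FOSp6
import Mathlib

/-!
# Formally unramified morphisms of algebraic spaces and charts (S10621)
-/

set_option autoImplicit false
universe u

open AlgebraicGeometry CategoryTheory Limits MorphismProperty

namespace Groth.Agent.H7.FOSp7

open _root_.AlgSp Groth.Agent.H5.AlgSp Groth.Agent.H7.FOSp1 Groth.Agent.H7.FOSp2
  Groth.Agent.H7.FOSp3 Groth.Agent.H7.FOSp4 Groth.Agent.H7.FOSp6 Groth.Agent.H5.Thick
  Groth.Agent.H4.AlgSpInf

variable {S : Scheme.{u}}

/-- the standard lifting square over `S` attached to a ring, a square zero ideal and a map to `U`. -/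
noncomputable def stdSq {U V : Over S} (h : U ⟶ V) (A : Type u) [CommRing A] (I : Ideal A)
    (hI : I ^ 2 = ⊥) (g : Spec (.of A) ⟶ U.left) : InfSq ((yon S).map h) where
  A := A
  I := I
  sq_zero := hI
  str := g ≫ U.hom
  top := (yon S).map (Over.homMk (Spec.map (CommRingCat.ofHom (Ideal.Quotient.mk I)) ≫ g)
    (by simp))
  bot := (yon S).map (Over.homMk (g ≫ h.left) (by simp))
  comm := by
    rw [← Functor.map_comp, ← Functor.map_comp]
    congr 1

theorem formallyUnramified_left_of_isFormallyUnramifiedMor {U V : Over S} (h : U ⟶ V)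
    (H : IsFormallyUnramifiedMor ((yon S).map h)) : FormallyUnramified h.left := by
  apply formallyUnramified_of_affine_unique
  intro A _ I hI g₁ g₂ h1 h2
  let sq := stdSq h A I hI g₁
  have hg₂ : g₂ ≫ U.hom = g₁ ≫ U.hom := by
    rw [← Over.w h, ← Category.assoc, ← h2, Category.assoc]
  let m₁ : sq.ptT' ⟶ U := Over.homMk g₁ rfl
  let m₂ : sq.ptT' ⟶ U := Over.homMk g₂ hg₂
  have key : (yon S).map m₁ = (yon S).map m₂ := by
    refine IsFormallyUnramifiedMor.uniq H sq _ _ ?_ ?_
    · rw [← Functor.map_comp, ← Functor.map_comp]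
      congr 1
      apply Over.OverMorphism.ext
      exact h1
    · rw [← Functor.map_comp, ← Functor.map_comp]
      congr 1
      apply Over.OverMorphism.ext
      exact h2
  have := (yon S).map_injective key
  exact congrArg (fun m => m.left) this

variable {X Y : Sp S} (f : X ⟶ Y)

theorem isFormallyUnramifiedMor_of_chart {U V : Over S} (a : (yon S).obj U ⟶ X)
    (b : (yon S).obj V ⟶ Y) (h : U ⟶ V) (ha : RepWith @Etale a) (has : RepWith @Surjective a)
    (hb : RepWith @Etale b) (w : a ≫ f = (yon S).map h ≫ b) (hh : FormallyUnramified h.left) :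
    IsFormallyUnramifiedMor f := by
  have h1 : IsFormallyUnramifiedMor ((yon S).map h) :=
    isFormallyUnramifiedMor_of_repWith _ ((repWith_yon_map_iff @FormallyUnramified h).2 hh) le_rfl
  have h2 : IsFormallyUnramifiedMor b :=
    isFormallyUnramifiedMor_of_repWith b hb etale_le_formallyUnramified
  have h3 := formallyUnramified_comp _ _ h1 h2
  rw [← w] at h3
  exact isFormallyUnramifiedMor_of_comp_cover a f ha has h3

theorem S10621_main {X Y : AlgSp.Space S} (f : X ⟶ Y) :
    (AlgSp.IsFormallyUnramifiedMor f.hom ↔ AlgSp.LocP @FormallyUnramified f.hom) ∧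
    (∀ (U V : Over S) (a : (AlgSp.yon S).obj U ⟶ X.obj) (b : (AlgSp.yon S).obj V ⟶ Y.obj)
      (h : U ⟶ V), AlgSp.RepWith @Etale a → AlgSp.RepWith @Surjective a →
      AlgSp.RepWith @Etale b → AlgSp.RepWith @Surjective b →
      a ≫ f.hom = (AlgSp.yon S).map h ≫ b → FormallyUnramified h.left →
      AlgSp.IsFormallyUnramifiedMor f.hom) := by
  refine ⟨⟨?_, ?_⟩, ?_⟩
  · intro hf U V a b h ha hb w
    apply formallyUnramified_left_of_isFormallyUnramifiedMor
    apply formallyUnramified_of_comp _ b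
    rw [← w]
    exact formallyUnramified_comp _ _
      (isFormallyUnramifiedMor_of_repWith a ha etale_le_formallyUnramified) hf
  · intro hL
    obtain ⟨U₀, a₀, ha₀e, ha₀s⟩ := X.property.atlas
    obtain ⟨V, b, hbe, hbs⟩ := Y.property.atlas
    have psq := hbe.1.isPullback' (a₀ ≫ f.hom)
    have hse : RepWith @Etale ((yon S).map (hbe.1.snd (a₀ ≫ f.hom))) :=
      (repWith_yon_map_iff @Etale _).2 (hbe.2 _ _ _ psq)
    have hss : RepWith @Surjective ((yon S).map (hbe.1.snd (a₀ ≫ f.hom))) :=
      (repWith_yon_map_iff @Surjective _).2 (hbs.2 _ _ _ psq)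
    have hae : RepWith @Etale ((yon S).map (hbe.1.snd (a₀ ≫ f.hom)) ≫ a₀) :=
      (RepWith (S := S) @Etale).comp_mem _ _ hse ha₀e
    have has : RepWith @Surjective ((yon S).map (hbe.1.snd (a₀ ≫ f.hom)) ≫ a₀) :=
      (RepWith (S := S) @Surjective).comp_mem _ _ hss ha₀s
    have w : ((yon S).map (hbe.1.snd (a₀ ≫ f.hom)) ≫ a₀) ≫ f.hom =
        (yon S).map (hbe.1.fst' (a₀ ≫ f.hom)) ≫ b := by
      rw [Category.assoc]; exact psq.w.symm
    exact isFormallyUnramifiedMor_of_chart f.hom _ b _ hae has hbe w (hL _ _ _ hae hbe w)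
  · intro U V a b h ha has hb _ w hh
    exact isFormallyUnramifiedMor_of_chart f.hom a b h ha has hb w hh

end Groth.Agent.H7.FOSp7
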