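import Mathlib
import Groth.Agent.S9697
import Groth.Agent.Lib.Helper7.FlatLocSp

/-!
# The unramified locus of a morphism of algebraic spaces: open, commutes with base change (S10312)
-/

set_option autoImplicit false
universe u

open AlgebraicGeometry CategoryTheory Limits

namespace Groth.Agent.H7.UnramLocSp

open _root_.AlgSp Groth.Agent.H5.AlgSp Groth.Agent.H5.EtSrc Groth.Agent.H7.FlatLocSp

/-- formally unramified near a point, transported along an isomorphism of the source -/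
theorem unram_nhd_precomp_iso {A B T : Scheme.{u}} (e : A ≅ B) (f : B ⟶ T) (a : A) :
    (∃ N : B.Opens, e.hom a ∈ N ∧ FormallyUnramified (N.ι ≫ f)) ↔
      (∃ N' : A.Opens, a ∈ N' ∧ FormallyUnramified (N'.ι ≫ e.hom ≫ f)) := by
  have key : ∀ {A B : Scheme.{u}} (e : A ≅ B) (f : B ⟶ T) (a : A),
      (∃ N : B.Opens, e.hom a ∈ N ∧ FormallyUnramified (N.ι ≫ f)) →
      (∃ N' : A.Opens, a ∈ N' ∧ FormallyUnramified (N'.ι ≫ e.hom ≫ f)) := by
    rintro A B e f a ⟨N, haN, hN⟩
    refine ⟨e.hom ⁻¹ᵁ N, haN, ?_⟩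
    rw [← morphismRestrict_ι_assoc]
    haveI : FormallyUnramified (e.hom ∣_ N) := inferInstance
    exact MorphismProperty.comp_mem (W := @FormallyUnramified) _ _ inferInstance hN
  refine ⟨key e f a, fun h => ?_⟩
  have h2 := key e.symm (e.hom ≫ f) (e.hom a) (by
    obtain ⟨N', haN', hN'⟩ := h
    refine ⟨N', ?_, hN'⟩
    have : e.symm.hom (e.hom a) = a := by
      rw [Iso.symm_hom, ← Scheme.Hom.comp_apply, e.hom_inv_id]; rfl
    rw [this]; exact haN')
  obtain ⟨N, haN, hN⟩ := h2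
  refine ⟨N, haN, ?_⟩
  rw [Iso.symm_hom, e.inv_hom_id_assoc] at hN
  exact hN

/-- S9697 for arbitrary pullback squares -/
theorem unram_nhd_baseChange {X T T' X' : Scheme.{u}} (f : X ⟶ T) [LocallyOfFiniteType f]
    (g : T' ⟶ T) (g' : X' ⟶ X) (f' : X' ⟶ T') (sq : IsPullback g' f' f g) (x' : X') :
    (∃ N' : X'.Opens, x' ∈ N' ∧ FormallyUnramified (N'.ι ≫ f')) ↔
      (∃ N : X.Opens, g' x' ∈ N ∧ FormallyUnramified (N.ι ≫ f)) := by
  have h1 : sq.isoPullback.hom ≫ pullback.snd f g = f' := sq.isoPullback_hom_snd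
  have h2 : sq.isoPullback.hom ≫ pullback.fst f g = g' := sq.isoPullback_hom_fst
  have h3 := unram_nhd_precomp_iso sq.isoPullback (pullback.snd f g) x'
  rw [h1] at h3
  rw [← h3, Groth.Agent.S9697.result f g (sq.isoPullback.hom x')]
  have h4 : (pullback.fst f g).base (sq.isoPullback.hom x') = g' x' := by
    have := congrArg (fun φ : X' ⟶ X => φ x') h2
    exact this
  rw [h4]

variable {S : Scheme.{u}}

/-- the predicate of S10312 -/
abbrev UQ : ∀ (U V : Scheme.{u}), (U ⟶ V) → ↥U → Prop :=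
  fun U _ h u => ∃ W : U.Opens, u ∈ W ∧ LocallyOfFiniteType (W.ι ≫ h) ∧
    FormallyUnramified (W.ι ≫ h)

theorem isOpen_unramLocus {F G : Sp S} (f : F ⟶ G) : IsOpen {x : Points F | HasAtMor UQ f x} := by
  rw [isOpen_iff_forall_mem_open]
  rintro x ⟨U, V, a, b, h, u, ha, hb, comm, rfl, W, huW, hPW⟩
  refine ⟨Points.ofPt a '' (W : Set U.left), ?_, isOpenMap_ofPt_of_etale ha _ W.2, ⟨u, huW, rfl⟩⟩
  rintro _ ⟨w, hwW, rfl⟩
  exact ⟨U, V, a, b, h, w, ha, hb, comm, rfl, W, hwW, hPW⟩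

theorem etale_le_unr : (@Etale : MorphismProperty Scheme.{u}) ≤
    (@LocallyOfFiniteType ⊓ @FormallyUnramified : MorphismProperty Scheme.{u}) :=
  fun _ _ g (hg : Etale g) =>
    ⟨(inferInstance : LocallyOfFiniteType g), (inferInstance : FormallyUnramified g)⟩

/-- chart form of the unramified locus -/
theorem hasAtMor_unr_iff {F G : Sp S} {f : F ⟶ G} {U V : Over S} (a : (yon S).obj U ⟶ F)
    (b : (yon S).obj V ⟶ G) (h : U ⟶ V) (ha : RepWith @Etale a) (hb : RepWith @Etale b)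
    (comm : a ≫ f = (yon S).map h ≫ b) [LocallyOfFiniteType h.left] (u : U.left) :
    HasAtMor UQ f (Points.ofPt a u) ↔
      ∃ N : U.left.Opens, u ∈ N ∧ FormallyUnramified (N.ι ≫ h.left) := by
  constructor
  · intro hx
    obtain ⟨N, huN, hN⟩ := exists_open_of_hasAtMor
      (P := (@LocallyOfFiniteType ⊓ @FormallyUnramified : MorphismProperty Scheme.{u}))
      etale_le_unr a b h ha hb comm u hx
    exact ⟨N, huN, hN.2⟩
  · rintro ⟨N, huN, hN⟩
    exact ⟨U, V, a, b, h, u, ha, hb, comm, rfl, N, huN, inferInstance, hN⟩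

theorem S10312_main {X Y Z Y' X' : Sp S} (hX : IsAlgSpace X) (hY : IsAlgSpace Y)
    (hZ : IsAlgSpace Z) (hY' : IsAlgSpace Y')
    (f : X ⟶ Y) (p : X ⟶ Z) (q : Y ⟶ Z) (comm : f ≫ q = p)
    (hp : LocP @LocallyOfFiniteType p) (a : Y' ⟶ Y)
    (b : X' ⟶ X) (f' : X' ⟶ Y') (sq2 : IsPullback b f' f a) :
    IsOpen {x : Points X | HasAtMor UQ f x} ∧
      {x' : Points X' | HasAtMor UQ f' x'} = Points.map b ⁻¹' {x : Points X | HasAtMor UQ f x} := by
  refine ⟨isOpen_unramLocus f, ?_⟩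
  have hf : LocP @LocallyOfFiniteType f := by
    subst comm
    exact locP_of_comp (P := @LocallyOfFiniteType) (Pc := ⊤)
      (fun _ _ g (hg : Etale g) => (inferInstance : LocallyOfFiniteType g))
      (fun u v huv _ => by
        haveI : LocallyOfFiniteType (u ≫ v) := huv
        exact locallyOfFiniteType_of_comp u v) hZ hp (fun _ _ _ _ _ _ _ _ => trivial)
  obtain ⟨V, bV, hbe, hbs⟩ := hY.atlas
  obtain ⟨V', b', aV, hb'e, hb's, comm_a⟩ := exists_chart_diagram_surj hY' a hbe hbs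
  obtain ⟨U, aU, h, c, hae, comm_f, hce, hcs, hca, hch⟩ := exists_chart_diagram hX f hbe
  obtain ⟨U', rU, h', hU, hUl⟩ := exists_over_pullback h aV
  obtain ⟨a', c', e1, e2, hc'e, hc's, hc'a, hc'h⟩ :=
    exists_chart_baseChange sq2 h c hce hcs hch b' aV comm_a rU h' hU
  have ha'e : RepWith @Etale a' := by
    rw [← hc'a]
    exact (RepWith @Etale).comp_mem _ _ hc'e
      (MorphismProperty.of_isPullback (P := RepWith @Etale)
        (IsPullback.of_hasPullback f' b').flip hb'e)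
  have ha's : RepWith @Surjective a' := by
    rw [← hc'a]
    exact (RepWith @Surjective).comp_mem _ _ hc's
      (MorphismProperty.of_isPullback (P := RepWith @Surjective)
        (IsPullback.of_hasPullback f' b').flip hb's)
  haveI : LocallyOfFiniteType h.left := hf aU bV h hae hbe comm_f
  haveI : LocallyOfFiniteType h'.left :=
    MorphismProperty.of_isPullback (P := @LocallyOfFiniteType) hUl inferInstance
  ext x'
  obtain ⟨u', rfl⟩ := ofPt_surjective_of_repWith ha's x'
  have e2' : a' ≫ b = (yon S).map rU ≫ aU := by rw [e2, hca]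
  have hgx : Points.map b (Points.ofPt a' u') = Points.ofPt aU (rU.left u') := by
    rw [Points.map_ofPt, e2', ofPt_yon_map_comp]
  simp only [Set.mem_setOf_eq, Set.mem_preimage]
  rw [hgx, hasAtMor_unr_iff aU bV h hae hbe comm_f, hasAtMor_unr_iff a' b' h' ha'e hb'e e1]
  exact unram_nhd_baseChange h.left aV.left rU.left h'.left hUl u'

end Groth.Agent.H7.UnramLocSp
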