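import Groth.Agent.Lib.Helper7.ClImm4
import Groth.Agent.Lib.Helper7.FOSp7
import Groth.Agent.Lib.Helper7.UnramLocSp
import Groth.Agent.Lib.Helper5.AlgSp.UnivInj
import Groth.Agent.Lib.Helper5.AlgSp.InterClosed
import Groth.Agent.Lib.Helper5.AlgSp.OpenSub
import Mathlib

/-!
# Characterisations of closed immersions of algebraic spaces (S10614)
-/

set_option autoImplicit false
universe u

open AlgebraicGeometry CategoryTheory Limits

namespace Groth.Agent.H7.ClImmSp

open _root_.AlgSp Groth.Agent.H5.AlgSp Groth.Agent.H5.EtSrc Groth.Agent.H5.Descent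
  Groth.Agent.H7.UnramLocSp

variable {S : Scheme.{u}}

theorem mono_of_unr_univInj {X Y : Sp S} (hX : IsAlgSpace X) (hY : IsAlgSpace Y) (f : X ⟶ Y)
    (hu : LocP (@LocallyOfFiniteType ⊓ @FormallyUnramified) f) (hi : IsUnivInjectiveMor f) :
    Mono f := by
  have hΔ := Groth.Agent.H3.AlgSpProp.repWith_isOpenImmersion_diagonal_of_unramified hX hY f hu
  have hs := isSurjectiveMor_diagonal_of_isUnivInjectiveMor hX hi
  have : IsIso (pullback.diagonal f) := isIso_of_isOpenImmersion_of_points_surjective hΔ hs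
  exact (pullback.isIso_diagonal_iff f).1 this

theorem isUnivInjectiveMor_of_mono {X Y : Sp S} (f : X ⟶ Y) [Mono f] : IsUnivInjectiveMor f :=
  isUnivInjectiveMor_of_injOnFieldPoints (fun _ _ _ _ _ hab => (cancel_mono f).1 hab)

theorem locP_unr_of_isClosedImmersion {X Y : Sp S} {f : X ⟶ Y}
    (hci : RepWith @IsClosedImmersion f) :
    LocP (@LocallyOfFiniteType ⊓ @FormallyUnramified) f :=
  locP_of_repWith (P := (@LocallyOfFiniteType ⊓ @FormallyUnramified : MorphismProperty Scheme.{u}))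
    etale_le_unr (repWith_mono (fun _ _ g (hg : IsClosedImmersion g) =>
      ⟨(inferInstance : LocallyOfFiniteType g), (inferInstance : FormallyUnramified g)⟩) hci)

theorem isUnivClosedMor_of_isClosedImmersion {X Y : Sp S} {f : X ⟶ Y}
    (hci : RepWith @IsClosedImmersion f) : IsUnivClosedMor f :=
  isUnivClosedMor_of_repWith (repWith_mono (fun _ _ g (hg : IsClosedImmersion g) =>
      (inferInstance : UniversallyClosed g)) hci)

theorem S10614_main {X Y : AlgSp.Space S} (f : X ⟶ Y) :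
    (AlgSp.RepWith @IsClosedImmersion f.hom ↔
      (AlgSp.IsUnivClosedMor f.hom ∧ AlgSp.LocP (@LocallyOfFiniteType ⊓ @FormallyUnramified) f.hom ∧ Mono f.hom)) ∧
    (AlgSp.RepWith @IsClosedImmersion f.hom ↔
      (AlgSp.IsUnivClosedMor f.hom ∧ AlgSp.LocP (@LocallyOfFiniteType ⊓ @FormallyUnramified) f.hom ∧ AlgSp.IsUnivInjectiveMor f.hom)) ∧
    (AlgSp.RepWith @IsClosedImmersion f.hom ↔
      (AlgSp.IsUnivClosedMor f.hom ∧ AlgSp.LocP @LocallyOfFiniteType f.hom ∧ Mono f.hom)) ∧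
    (AlgSp.RepWith @IsClosedImmersion f.hom ↔
      (AlgSp.IsUnivClosedMor f.hom ∧ AlgSp.IsUnivInjectiveMor f.hom ∧ AlgSp.LocP @LocallyOfFiniteType f.hom ∧
        AlgSp.IsFormallyUnramifiedMor f.hom)) := by
  have hfu := (Groth.Agent.H7.FOSp7.S10621_main f).1
  have fwd : AlgSp.RepWith @IsClosedImmersion f.hom →
      AlgSp.IsUnivClosedMor f.hom ∧ AlgSp.LocP (@LocallyOfFiniteType ⊓ @FormallyUnramified) f.hom ∧
        Mono f.hom ∧ AlgSp.IsUnivInjectiveMor f.hom := by
    intro hci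
    have hm : Mono f.hom := mono_of_repWith_isClosedImmersion hci
    exact ⟨isUnivClosedMor_of_isClosedImmersion hci, locP_unr_of_isClosedImmersion hci, hm,
      isUnivInjectiveMor_of_mono f.hom⟩
  have bwd : AlgSp.IsUnivClosedMor f.hom → AlgSp.LocP @LocallyOfFiniteType f.hom → Mono f.hom →
      AlgSp.RepWith @IsClosedImmersion f.hom := by
    intro huc hl hm
    exact repWith_isClosedImmersion_of_mono X.property Y.property f.hom hl huc
  have lft_of : AlgSp.LocP (@LocallyOfFiniteType ⊓ @FormallyUnramified) f.hom →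
      AlgSp.LocP @LocallyOfFiniteType f.hom := fun h U V a b k ha hb comm => (h a b k ha hb comm).1
  have fu_of : AlgSp.LocP (@LocallyOfFiniteType ⊓ @FormallyUnramified) f.hom →
      AlgSp.LocP @FormallyUnramified f.hom := fun h U V a b k ha hb comm => (h a b k ha hb comm).2
  refine ⟨⟨fun hci => ?_, fun h => ?_⟩, ⟨fun hci => ?_, fun h => ?_⟩, ⟨fun hci => ?_, fun h => ?_⟩,
    ⟨fun hci => ?_, fun h => ?_⟩⟩
  · obtain ⟨h1, h2, h3, h4⟩ := fwd hci
    exact ⟨h1, h2, h3⟩
  · exact bwd h.1 (lft_of h.2.1) h.2.2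
  · obtain ⟨h1, h2, h3, h4⟩ := fwd hci
    exact ⟨h1, h2, h4⟩
  · exact bwd h.1 (lft_of h.2.1) (mono_of_unr_univInj X.property Y.property f.hom h.2.1 h.2.2)
  · obtain ⟨h1, h2, h3, h4⟩ := fwd hci
    exact ⟨h1, lft_of h2, h3⟩
  · exact bwd h.1 h.2.1 h.2.2
  · obtain ⟨h1, h2, h3, h4⟩ := fwd hci
    exact ⟨h1, h4, lft_of h2, hfu.2 (fu_of h2)⟩
  · obtain ⟨h1, h2, h3, h4⟩ := h
    have hunr : AlgSp.LocP (@LocallyOfFiniteType ⊓ @FormallyUnramified) f.hom :=
      fun U V a b k ha hb comm => ⟨h3 a b k ha hb comm, hfu.1 h4 a b k ha hb comm⟩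
    exact bwd h1 h3 (mono_of_unr_univInj X.property Y.property f.hom hunr h2)

end Groth.Agent.H7.ClImmSp
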