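import Groth.Agent.Lib.Helper7.WhereUnr
import Groth.Agent.Lib.Helper3.AlgSpMor.Unramified
import Groth.Agent.Lib.Helper5.AlgSp.UnivInj
import Groth.Agent.Lib.Helper5.AlgSp.LocPAt
import Mathlib

/-!
# Where is the base change of `X → Y` over `Z` unramified and universally injective? (S10640)
-/

set_option autoImplicit false
universe u

open AlgebraicGeometry CategoryTheory Limits

namespace Groth.Agent.H7.WhereUnrInj

open _root_.AlgSp Groth.Agent.H5.AlgSp Groth.Agent.H5.EtSrc Groth.Agent.H7.FlatLocSp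
  Groth.Agent.H7.UnramLocSp Groth.Agent.H7.WhereFlat Groth.Agent.H7.WhereUnr
  Groth.Agent.H3.AlgSpProp

variable {S : Scheme.{u}} {X Y Z : Sp S}

/-- near an unramified point the image of the diagonal is open -/
theorem exists_open_diag (hX : IsAlgSpace X) (hY : IsAlgSpace Y) (f : X ⟶ Y) (x : Points X)
    (hx : HasAtMor UQ f x) :
    ∃ N : Set (Points (pullback f f)), IsOpen N ∧ Points.map (pullback.diagonal f) x ∈ N ∧
      N ⊆ Set.range (Points.map (pullback.diagonal f)) := by
  obtain ⟨F', j, hF', hj, ⟨x₀, hx₀⟩, hjf⟩ := (hasAtMor_iff_exists_open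
    (P := (@LocallyOfFiniteType ⊓ @FormallyUnramified : MorphismProperty Scheme.{u}))
    etale_le_unr hX hY x).1 hx
  have hΔ := repWith_isOpenImmersion_diagonal_of_unramified hF' hY (j ≫ f) hjf
  have hm : RepWith @IsOpenImmersion (pullback.map (j ≫ f) (j ≫ f) f f j j (𝟙 _)
      ((Category.comp_id _).trans rfl) ((Category.comp_id _).trans rfl)) :=
    MorphismProperty.pullbackMap (P := RepWith (S := S) @IsOpenImmersion) hj hj rfl rfl
  have hcomp : pullback.diagonal (j ≫ f) ≫ pullback.map (j ≫ f) (j ≫ f) f f j j (𝟙 _)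
      ((Category.comp_id _).trans rfl) ((Category.comp_id _).trans rfl) =
      j ≫ pullback.diagonal f := by
    have h1 : pullback.map (j ≫ f) (j ≫ f) f f j j (𝟙 _)
        ((Category.comp_id _).trans rfl) ((Category.comp_id _).trans rfl) ≫ pullback.fst f f =
        pullback.fst (j ≫ f) (j ≫ f) ≫ j := pullback.lift_fst _ _ _
    have h2 : pullback.map (j ≫ f) (j ≫ f) f f j j (𝟙 _)
        ((Category.comp_id _).trans rfl) ((Category.comp_id _).trans rfl) ≫ pullback.snd f f =
        pullback.snd (j ≫ f) (j ≫ f) ≫ j := pullback.lift_snd _ _ _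
    apply pullback.hom_ext
    · rw [Category.assoc, h1, ← Category.assoc, pullback.diagonal_fst, Category.id_comp,
        Category.assoc, pullback.diagonal_fst, Category.comp_id]
    · rw [Category.assoc, h2, ← Category.assoc, pullback.diagonal_snd, Category.id_comp,
        Category.assoc, pullback.diagonal_snd, Category.comp_id]
  have hopen : IsOpenMap (Points.map (j ≫ pullback.diagonal f)) := by
    rw [← hcomp]
    exact isOpenMap_points_map_of_repWith (P := @IsOpenImmersion)
      (fun g (hg : IsOpenImmersion g) => g.isOpenEmbedding.isOpenMap)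
      ((RepWith @IsOpenImmersion).comp_mem _ _ hΔ hm)
  refine ⟨Set.range (Points.map (j ≫ pullback.diagonal f)), hopen.isOpen_range, ?_, ?_⟩
  · exact ⟨x₀, by rw [Points.map_comp, hx₀]⟩
  · rintro _ ⟨y, rfl⟩
    rw [Points.map_comp]
    exact ⟨_, rfl⟩

/-- the image in `Z` of the complement of the diagonal. -/
def badSet₂ (f : X ⟶ Y) (q : Y ⟶ Z) : Set (Points Z) :=
  Points.map (pullback.snd f f ≫ f ≫ q) '' (Set.range (Points.map (pullback.diagonal f)))ᶜ

theorem isClosed_bad (hX : IsAlgSpace X) (hY : IsAlgSpace Y) (f : X ⟶ Y) (q : Y ⟶ Z)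
    (hp2 : IsClosedMor (f ≫ q)) (hp3 : IsClosedMor (pullback.snd f f ≫ f ≫ q)) :
    IsClosed (WhereUnr.badSet f q ∪ badSet₂ f q) := by
  have hB₁ := isClosed_badSet f q hp2
  have hopen : IsOpen (Set.range (Points.map (pullback.diagonal f)) ∩
      Points.map (pullback.snd f f ≫ f ≫ q) ⁻¹' (WhereUnr.badSet f q)ᶜ) := by
    rw [isOpen_iff_forall_mem_open]
    rintro _ ⟨⟨x, rfl⟩, hxB⟩
    have hxU : HasAtMor UQ f x := by
      by_contra hx
      apply hxB
      refine ⟨x, hx, ?_⟩
      rw [← Points.map_comp, ← Category.assoc, pullback.diagonal_snd, Category.id_comp]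
    obtain ⟨N, hN, hxN, hNr⟩ := exists_open_diag hX hY f x hxU
    refine ⟨N ∩ Points.map (pullback.snd f f ≫ f ≫ q) ⁻¹' (WhereUnr.badSet f q)ᶜ, ?_,
      hN.inter (hB₁.isOpen_compl.preimage (Points.continuous_map _)), ⟨hxN, hxB⟩⟩
    exact Set.inter_subset_inter_left _ hNr
  have hC : IsClosed ((Set.range (Points.map (pullback.diagonal f)))ᶜ ∪
      Points.map (pullback.snd f f ≫ f ≫ q) ⁻¹' (WhereUnr.badSet f q)) := by
    rw [← isOpen_compl_iff, Set.compl_union, compl_compl]
    exact hopen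
  have himg := hp3 _ hC
  have : WhereUnr.badSet f q ∪ badSet₂ f q = WhereUnr.badSet f q ∪ Points.map (pullback.snd f f ≫ f ≫ q) ''
      ((Set.range (Points.map (pullback.diagonal f)))ᶜ ∪
      Points.map (pullback.snd f f ≫ f ≫ q) ⁻¹' (WhereUnr.badSet f q)) := by
    rw [Set.image_union]
    ext z
    simp only [Set.mem_union, badSet₂]
    constructor
    · rintro (h | h)
      · exact Or.inl h
      · exact Or.inr (Or.inl h)
    · rintro (h | h | ⟨w, hw, rfl⟩)
      · exact Or.inl h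
      · exact Or.inr h
      · exact Or.inl hw
  rw [this]
  exact hB₁.union himg


section

variable (f : X ⟶ Y) (q : Y ⟶ Z)

/-- the diagonal of the base change is surjective if `range g` avoids `badSet₂`. -/
theorem surjective_diagonal_of_range_subset {X' Y' Z' : Sp S} (g : Z' ⟶ Z)
    (f' : X' ⟶ Y') (q' : Y' ⟶ Z') (gX : X' ⟶ X) (gY : Y' ⟶ Y) (sqY : IsPullback gY q' q g)
    (sqX : IsPullback gX f' f gY) (hg : Set.range (Points.map g) ⊆ (badSet₂ f q)ᶜ) :
    IsSurjectiveMor (pullback.diagonal f') := by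
  intro w'
  obtain ⟨K, _, str, ξ, rfl⟩ := exists_fpOfHom w'
  have hm1 : pullback.map f' f' f f gX gX gY sqX.w.symm sqX.w.symm ≫ pullback.fst f f =
      pullback.fst f' f' ≫ gX := pullback.lift_fst _ _ _
  have hm2 : pullback.map f' f' f f gX gX gY sqX.w.symm sqX.w.symm ≫ pullback.snd f f =
      pullback.snd f' f' ≫ gX := pullback.lift_snd _ _ _
  have hw : Points.mk (fpOfHom str (ξ ≫ pullback.map f' f' f f gX gX gY sqX.w.symm sqX.w.symm)) ∈
      Set.range (Points.map (pullback.diagonal f)) := by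
    by_contra hnot
    apply hg ⟨Points.mk (fpOfHom str (ξ ≫ pullback.snd f' f' ≫ f' ≫ q')), rfl⟩
    refine ⟨_, hnot, ?_⟩
    rw [map_mk_fpOfHom, map_mk_fpOfHom]
    refine congrArg (fun φ => Points.mk (fpOfHom str φ)) ?_
    simp only [Category.assoc]
    rw [reassoc_of% hm2, reassoc_of% sqX.w, sqY.w]
  obtain ⟨x, hx⟩ := hw
  obtain ⟨L, _, str', c, rfl⟩ := exists_fpOfHom x
  rw [map_mk_fpOfHom, mk_fpOfHom_eq_iff] at hx
  obtain ⟨Ω, _, sΩ, a, b, hab⟩ := hx
  have key : (yon S).map b ≫ ξ ≫ pullback.fst f' f' = (yon S).map b ≫ ξ ≫ pullback.snd f' f' := by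
    apply sqX.hom_ext
    · have e1 := congrArg (· ≫ pullback.fst f f) hab
      have e2 := congrArg (· ≫ pullback.snd f f) hab
      simp only [Category.assoc] at e1 e2
      rw [pullback.diagonal_fst, Category.comp_id, hm1] at e1
      rw [pullback.diagonal_snd, Category.comp_id, hm2] at e2
      simp only [Category.assoc]
      rw [← e1, ← e2]
    · simp only [Category.assoc]
      rw [pullback.condition]
  refine ⟨Points.mk (fpOfHom sΩ ((yon S).map b ≫ ξ ≫ pullback.fst f' f')), ?_⟩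
  rw [map_mk_fpOfHom, ← mk_fpOfHom_comp str sΩ b ξ]
  refine congrArg (fun φ => Points.mk (fpOfHom sΩ φ)) ?_
  apply pullback.hom_ext
  · simp only [Category.assoc]
    rw [pullback.diagonal_fst, Category.comp_id]
  · simp only [Category.assoc]
    rw [pullback.diagonal_snd, Category.comp_id]
    exact key

/-- if the diagonal of the base change is surjective then `range g` avoids `badSet₂`. -/
theorem range_subset_of_surjective_diagonal {X' Y' Z' : Sp S} (g : Z' ⟶ Z)
    (f' : X' ⟶ Y') (q' : Y' ⟶ Z') (gX : X' ⟶ X) (gY : Y' ⟶ Y) (sqY : IsPullback gY q' q g)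
    (sqX : IsPullback gX f' f gY) (hs : IsSurjectiveMor (pullback.diagonal f')) :
    Set.range (Points.map g) ⊆ (badSet₂ f q)ᶜ := by
  rintro _ ⟨z', rfl⟩ ⟨w, hw, hwz⟩
  apply hw
  obtain ⟨K, _, str, ξ, rfl⟩ := exists_fpOfHom w
  obtain ⟨L, _, str', ζ, rfl⟩ := exists_fpOfHom z'
  rw [map_mk_fpOfHom, map_mk_fpOfHom, mk_fpOfHom_eq_iff] at hwz
  obtain ⟨Ω, _, sΩ, a, b, hab⟩ := hwz
  have hy : ((yon S).map a ≫ ξ ≫ pullback.snd f f ≫ f) ≫ q = ((yon S).map b ≫ ζ) ≫ g := by
    simpa only [Category.assoc] using hab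
  have ha0 : ((yon S).map a ≫ ξ ≫ pullback.fst f f) ≫ f =
      sqY.lift ((yon S).map a ≫ ξ ≫ pullback.snd f f ≫ f) ((yon S).map b ≫ ζ) hy ≫ gY := by
    rw [sqY.lift_fst]
    simp only [Category.assoc]
    rw [pullback.condition]
  have hb0 : ((yon S).map a ≫ ξ ≫ pullback.snd f f) ≫ f =
      sqY.lift ((yon S).map a ≫ ξ ≫ pullback.snd f f ≫ f) ((yon S).map b ≫ ζ) hy ≫ gY := by
    rw [sqY.lift_fst]
    simp only [Category.assoc]
  have hc0 : sqX.lift _ _ ha0 ≫ f' = sqX.lift _ _ hb0 ≫ f' := by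
    rw [sqX.lift_snd, sqX.lift_snd]
  obtain ⟨x', hx'⟩ := hs (Points.mk (fpOfHom sΩ (pullback.lift _ _ hc0)))
  obtain ⟨L', _, str'', d, rfl⟩ := exists_fpOfHom x'
  rw [map_mk_fpOfHom, mk_fpOfHom_eq_iff] at hx'
  obtain ⟨Ω', _, sΩ', a2, b2, hab2⟩ := hx'
  have h1 : (yon S).map a2 ≫ d = (yon S).map b2 ≫ sqX.lift _ _ ha0 := by
    have := congrArg (· ≫ pullback.fst f' f') hab2
    simp only [Category.assoc] at this
    rwa [pullback.diagonal_fst, Category.comp_id, pullback.lift_fst] at this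
  have h2 : (yon S).map a2 ≫ d = (yon S).map b2 ≫ sqX.lift _ _ hb0 := by
    have := congrArg (· ≫ pullback.snd f' f') hab2
    simp only [Category.assoc] at this
    rwa [pullback.diagonal_snd, Category.comp_id, pullback.lift_snd] at this
  have key : (yon S).map b2 ≫ (yon S).map a ≫ ξ ≫ pullback.fst f f =
      (yon S).map b2 ≫ (yon S).map a ≫ ξ ≫ pullback.snd f f := by
    have e1 := congrArg (· ≫ gX) h1
    have e2 := congrArg (· ≫ gX) h2
    simp only [Category.assoc] at e1 e2
    rw [sqX.lift_fst] at e1 e2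
    exact e1.symm.trans e2
  refine ⟨Points.mk (fpOfHom sΩ' ((yon S).map b2 ≫ (yon S).map a ≫ ξ ≫ pullback.fst f f)), ?_⟩
  rw [map_mk_fpOfHom, ← mk_fpOfHom_comp str sΩ a ξ, ← mk_fpOfHom_comp sΩ sΩ' b2 ((yon S).map a ≫ ξ)]
  refine congrArg (fun φ => Points.mk (fpOfHom sΩ' φ)) ?_
  apply pullback.hom_ext
  · simp only [Category.assoc]
    rw [pullback.diagonal_fst, Category.comp_id]
  · simp only [Category.assoc]
    rw [pullback.diagonal_snd, Category.comp_id]
    exact key

end

theorem S10640_main {X Y Z : AlgSp.Space S}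
    (f : X ⟶ Y) (p : X ⟶ Z) (q : Y ⟶ Z) (hc : f ≫ q = p)
    (XX : AlgSp.Space S) (pr0 pr1 : XX ⟶ X) (hXX : IsPullback pr0.hom pr1.hom f.hom f.hom)
    (hp1 : AlgSp.LocP @LocallyOfFiniteType p.hom) (hp2 : AlgSp.IsClosedMor p.hom)
    (hp3 : AlgSp.IsClosedMor (pr1 ≫ p).hom) :
    ∃ (W : AlgSp.Space S) (w : W ⟶ Z), AlgSp.RepWith @IsOpenImmersion w.hom ∧
      ∀ (Z' : AlgSp.Space S) (g : Z' ⟶ Z),
        (∃ k : Z' ⟶ W, k ≫ w = g) ↔
          ∀ (Y' : AlgSp.Space S) (gY : Y' ⟶ Y) (q' : Y' ⟶ Z'),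
            IsPullback gY.hom q'.hom q.hom g.hom →
            ∀ (X' : AlgSp.Space S) (gX : X' ⟶ X) (f' : X' ⟶ Y'),
              IsPullback gX.hom f'.hom f.hom gY.hom →
                (AlgSp.LocP (@LocallyOfFiniteType ⊓ @FormallyUnramified) f'.hom ∧
                  AlgSp.IsUnivInjectiveMor f'.hom) := by
  subst hc
  have hp3' : IsClosedMor (pullback.snd f.hom f.hom ≫ f.hom ≫ q.hom) := by
    intro C hC
    have : Points.map (pullback.snd f.hom f.hom ≫ f.hom ≫ q.hom) '' C =
        Points.map (pr1.hom ≫ f.hom ≫ q.hom) '' (Points.map hXX.isoPullback.hom ⁻¹' C) := by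
      ext z
      constructor
      · rintro ⟨c, hc, rfl⟩
        refine ⟨Points.map hXX.isoPullback.inv c, ?_, ?_⟩
        · show Points.map _ (Points.map _ c) ∈ C
          rw [← Points.map_comp, Iso.inv_hom_id, Points.map_id]
          exact hc
        · rw [← Points.map_comp, ← Category.assoc, hXX.isoPullback_inv_snd]
      · rintro ⟨c, hc, rfl⟩
        refine ⟨Points.map hXX.isoPullback.hom c, hc, ?_⟩
        rw [← Points.map_comp, ← Category.assoc, hXX.isoPullback_hom_snd]
    rw [this]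
    exact hp3 _ (hC.preimage (Points.continuous_map _))
  have hΩ : IsOpen (WhereUnr.badSet f.hom q.hom ∪ badSet₂ f.hom q.hom)ᶜ :=
    (isClosed_bad X.property Y.property f.hom q.hom hp2 hp3').isOpen_compl
  refine ⟨⟨openSub Z.obj _, isAlgSpace_openSub Z.property hΩ⟩,
    ObjectProperty.homMk (openSubι Z.obj _), repWith_openSubι hΩ, ?_⟩
  intro Z' g
  rw [factors_iff _ hΩ g]
  constructor
  · intro hg Y' gY q' sqY X' gX f' sqX
    have hg1 : Set.range (Points.map g.hom) ⊆ (WhereUnr.badSet f.hom q.hom)ᶜ :=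
      fun z hz hz1 => hg hz (Or.inl hz1)
    have hg2 : Set.range (Points.map g.hom) ⊆ (badSet₂ f.hom q.hom)ᶜ :=
      fun z hz hz2 => hg hz (Or.inr hz2)
    refine ⟨locP_of_range_subset X.property Y.property Z.property f.hom q.hom hp1
      X'.property Y'.property g.hom f'.hom q'.hom gX.hom gY.hom sqY sqX hg1, ?_⟩
    exact isUnivInjectiveMor_of_injOnFieldPoints
      (injOnFieldPoints_of_surjective_diagonal X'.property Y'.property
        (surjective_diagonal_of_range_subset f.hom q.hom g.hom f'.hom q'.hom gX.hom gY.hom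
          sqY sqX hg2))
  · intro H
    have sqY := IsPullback.of_hasPullback q.hom g.hom
    have hY' : IsAlgSpace (pullback q.hom g.hom) :=
      isAlgSpace_pullback Z.property.diag Y.property Z'.property sqY
    have sqX := IsPullback.of_hasPullback f.hom (pullback.fst q.hom g.hom)
    have hX' : IsAlgSpace (pullback f.hom (pullback.fst q.hom g.hom)) :=
      isAlgSpace_pullback Y.property.diag X.property hY' sqX
    have hfl := H ⟨_, hY'⟩ (ObjectProperty.homMk (pullback.fst q.hom g.hom))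
      (ObjectProperty.homMk (pullback.snd q.hom g.hom)) sqY ⟨_, hX'⟩
      (ObjectProperty.homMk (pullback.fst f.hom (pullback.fst q.hom g.hom)))
      (ObjectProperty.homMk (pullback.snd f.hom (pullback.fst q.hom g.hom))) sqX
    have h1 := range_subset_of_locP X.property Y.property Z.property f.hom q.hom hp1
      hX' hY' g.hom _ _ _ _ sqY sqX hfl.1
    have h2 := range_subset_of_surjective_diagonal f.hom q.hom g.hom _ _ _ _ sqY sqX
      (isSurjectiveMor_diagonal_of_isUnivInjectiveMor hX' hfl.2)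
    intro z hz
    rintro (hz1 | hz2)
    · exact h1 hz hz1
    · exact h2 hz hz2

end Groth.Agent.H7.WhereUnrInj
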