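import Groth.Agent.Lib.Helper7.ClImm5
import Groth.Agent.Lib.Helper7.WhereUnrInj
import Groth.Agent.Lib.Helper5.AlgSp.Proper
import Mathlib

/-!
# Where is the base change of `X → Y` over `Z` a closed immersion? (S10641)
-/

set_option autoImplicit false
universe u

open AlgebraicGeometry CategoryTheory Limits

namespace Groth.Agent.H7.ClImmSp

open _root_.AlgSp Groth.Agent.H5.AlgSp Groth.Agent.H5.EtSrc Groth.Agent.H5.Descent
  Groth.Agent.H7.UnramLocSp

variable {S : Scheme.{u}}

/-- `X ×_Y X → X → Z` is closed when `X → Z` is universally closed and `Y → Z` separated. -/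
theorem isClosedMor_snd_comp {X Y Z : Sp S} (hX : IsAlgSpace X) (hZ : IsAlgSpace Z)
    (f : X ⟶ Y) (q : Y ⟶ Z)
    (hp : IsUnivClosedMor (f ≫ q)) (hq : IsSeparatedMor q) :
    IsClosedMor (pullback.snd f f ≫ f ≫ q) := by
  have h1 : RepWith @IsClosedImmersion (pullback.mapDesc f f q) :=
    MorphismProperty.of_isPullback (P := RepWith @IsClosedImmersion)
      (pullback_map_diagonal_isPullback f f q) hq
  have c1 : IsClosedMap (Points.map (pullback.mapDesc f f q)) :=
    isClosedMap_points_map_of_repWith (P := @IsClosedImmersion)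
      (fun g (hg : IsClosedImmersion g) => g.isClosedEmbedding.isClosedMap) h1
  have c2 : IsClosedMap (Points.map (pullback.snd (f ≫ q) (f ≫ q))) :=
    hp hX (f ≫ q) _ _ (IsPullback.of_hasPullback _ _)
  have c3 : IsClosedMap (Points.map (f ≫ q)) :=
    hp hZ (𝟙 _) (𝟙 _) _ (IsPullback.of_horiz_isIso ⟨by simp⟩)
  have e : pullback.snd f f ≫ f ≫ q =
      pullback.mapDesc f f q ≫ pullback.snd (f ≫ q) (f ≫ q) ≫ f ≫ q := by
    rw [← Category.assoc (pullback.mapDesc f f q), pullback.mapDesc, pullback.lift_snd,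
      Category.comp_id]
  change IsClosedMap (Points.map (pullback.snd f f ≫ f ≫ q))
  rw [e]
  have : Points.map (pullback.mapDesc f f q ≫ pullback.snd (f ≫ q) (f ≫ q) ≫ f ≫ q) =
      Points.map (f ≫ q) ∘ Points.map (pullback.snd (f ≫ q) (f ≫ q)) ∘
        Points.map (pullback.mapDesc f f q) := by
    funext x
    rw [Points.map_comp, Points.map_comp]
    rfl
  rw [this]
  exact c3.comp (c2.comp c1)

theorem S10641_main {X Y Z : AlgSp.Space S}
    (f : X ⟶ Y) (p : X ⟶ Z) (q : Y ⟶ Z) (hc : f ≫ q = p)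
    (hp1 : AlgSp.LocP @LocallyOfFiniteType p.hom) (hp2 : AlgSp.IsUnivClosedMor p.hom)
    (hq : AlgSp.IsSeparatedMor q.hom) :
    ∃ (W : AlgSp.Space S) (w : W ⟶ Z), AlgSp.RepWith @IsOpenImmersion w.hom ∧
      ∀ (Z' : AlgSp.Space S) (g : Z' ⟶ Z),
        (∃ k : Z' ⟶ W, k ≫ w = g) ↔
          ∀ (Y' : AlgSp.Space S) (gY : Y' ⟶ Y) (q' : Y' ⟶ Z'),
            IsPullback gY.hom q'.hom q.hom g.hom →
            ∀ (X' : AlgSp.Space S) (gX : X' ⟶ X) (f' : X' ⟶ Y'),
              IsPullback gX.hom f'.hom f.hom gY.hom →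
                AlgSp.RepWith @IsClosedImmersion f'.hom := by
  subst hc
  have hXX : IsAlgSpace (pullback f.hom f.hom) :=
    isAlgSpace_pullback Y.property.diag X.property X.property (IsPullback.of_hasPullback _ _)
  have hp3 : IsClosedMor (pullback.snd f.hom f.hom ≫ f.hom ≫ q.hom) :=
    isClosedMor_snd_comp X.property Z.property f.hom q.hom hp2 hq
  have hcl : IsClosedMor (f.hom ≫ q.hom) :=
    hp2 Z.property (𝟙 _) (𝟙 _) _ (IsPullback.of_horiz_isIso ⟨by simp⟩)
  obtain ⟨W, w, hw, H⟩ := Groth.Agent.H7.WhereUnrInj.S10640_main f (f ≫ q) q rfl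
    ⟨pullback f.hom f.hom, hXX⟩ (ObjectProperty.homMk (pullback.fst f.hom f.hom))
    (ObjectProperty.homMk (pullback.snd f.hom f.hom)) (IsPullback.of_hasPullback _ _) hp1 hcl hp3
  refine ⟨W, w, hw, fun Z' g => (H Z' g).trans ?_⟩
  constructor
  · intro h Y' gY q' sqY X' gX f' sqX
    obtain ⟨hunr, hinj⟩ := h Y' gY q' sqY X' gX f' sqX
    have hp' : IsUnivClosedMor (f'.hom ≫ q'.hom) :=
      univSp_of_isPullback (sqX.paste_vert sqY) hp2
    have hq' : IsSeparatedMor q'.hom := repWith_diag_of_isPullback sqY hq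
    have hf'c := isUnivClosedMor_of_comp_of_isSeparatedMor X'.property Y'.property Z'.property
      hq' hp'
    haveI := mono_of_unr_univInj X'.property Y'.property f'.hom hunr hinj
    exact repWith_isClosedImmersion_of_mono X'.property Y'.property f'.hom
      (fun U V a b k ha hb comm => (hunr a b k ha hb comm).1) hf'c
  · intro h Y' gY q' sqY X' gX f' sqX
    have hci := h Y' gY q' sqY X' gX f' sqX
    haveI := mono_of_repWith_isClosedImmersion hci
    exact ⟨locP_unr_of_isClosedImmersion hci, isUnivInjectiveMor_of_mono f'.hom⟩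

end Groth.Agent.H7.ClImmSp
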