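import Mathlib

open CategoryTheory CategoryTheory.Limits Opposite

namespace Groth.Agent.H7.CofanPB

universe v₁ u₁ v₂ u₂ w

variable {𝒜 : Type u₁} [Category.{v₁} 𝒜] {𝓔 : Type u₂} [Category.{v₂} 𝓔] {Φ : Type w}
  (Q : Φ → 𝒜 ⥤ 𝓔) (H : 𝒜 ⥤ 𝓔) (τ : ∀ f, Q f ⟶ H)
  (hcol : ∀ a, IsColimit (Cofan.mk (H.obj a) (fun f => (τ f).app a)))
  (hVK : ∀ a, IsVanKampenColimit (Cofan.mk (H.obj a) (fun f => (τ f).app a)))

include hcol hVK in
/-- the naturality squares of the injections are pullbacks -/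
theorem isPullback_naturality {a' a'' : 𝒜} (g : a' ⟶ a'') (f : Φ) :
    IsPullback ((τ f).app a') ((Q f).map g) (H.map g) ((τ f).app a'') := by
  have h := (hVK a'' (Cofan.mk (H.obj a') (fun f => (τ f).app a'))
    (Discrete.natTrans (fun f => (Q f.as).map g)) (H.map g)
    (by ext ⟨f⟩; exact ((τ f).naturality g)) (.of_discrete _)).mp ⟨hcol a'⟩ ⟨f⟩
  exact h

include hcol hVK in
theorem isPullback_map [HasPullbacks 𝓔] {a a₁ a₂ a₀ : 𝒜} {p₁ : a ⟶ a₁} {p₂ : a ⟶ a₂}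
    {g₁ : a₁ ⟶ a₀} {g₂ : a₂ ⟶ a₀} (sq : IsPullback p₁ p₂ g₁ g₂)
    (hQ : ∀ f, IsPullback ((Q f).map p₁) ((Q f).map p₂) ((Q f).map g₁) ((Q f).map g₂)) :
    IsPullback (H.map p₁) (H.map p₂) (H.map g₁) (H.map g₂) := by
  have hw : H.map p₁ ≫ H.map g₁ = H.map p₂ ≫ H.map g₂ := by
    rw [← H.map_comp, ← H.map_comp, sq.w]
  let k : H.obj a ⟶ pullback (H.map g₁) (H.map g₂) := pullback.lift (H.map p₁) (H.map p₂) hw
  have hk1 : k ≫ pullback.fst _ _ = H.map p₁ := pullback.lift_fst _ _ _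
  have hk2 : k ≫ pullback.snd _ _ = H.map p₂ := pullback.lift_snd _ _ _
  have hsq : ∀ f, IsPullback ((τ f).app a ≫ k) ((Q f).map p₂) (pullback.snd _ _)
      ((τ f).app a₂) := by
    intro f
    have outer := (hQ f).paste_horiz (isPullback_naturality Q H τ hcol hVK g₁ f)
    have e1 : (Q f).map p₁ ≫ (τ f).app a₁ = ((τ f).app a ≫ k) ≫ pullback.fst _ _ := by
      rw [Category.assoc, hk1]; exact (τ f).naturality p₁
    have e2 : (Q f).map g₂ ≫ (τ f).app a₀ = (τ f).app a₂ ≫ H.map g₂ := (τ f).naturality g₂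
    rw [e1, e2] at outer
    refine IsPullback.of_right outer ?_ (IsPullback.of_hasPullback _ _)
    rw [Category.assoc, hk2]
    exact ((τ f).naturality p₂).symm
  have hc' := (hVK a₂ (Cofan.mk (pullback (H.map g₁) (H.map g₂)) (fun f => (τ f).app a ≫ k))
    (Discrete.natTrans (fun f => (Q f.as).map p₂)) (pullback.snd _ _)
    (by ext ⟨f⟩; exact (hsq f).w.symm) (.of_discrete _)).mpr (fun ⟨f⟩ => hsq f)
  obtain ⟨hc'⟩ := hc'
  let φ : Cofan.mk (H.obj a) (fun f => (τ f).app a) ⟶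
      Cofan.mk (pullback (H.map g₁) (H.map g₂)) (fun f => (τ f).app a ≫ k) :=
    { hom := k, w := fun ⟨f⟩ => rfl }
  haveI : IsIso φ := IsColimit.hom_isIso (hcol a) hc' φ
  haveI : IsIso k := (inferInstance : IsIso ((Cocones.forget _).map φ))
  exact IsPullback.of_iso_pullback ⟨hw⟩ (asIso k) hk1 hk2

end Groth.Agent.H7.CofanPB
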