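import Mathlib
import Groth.Agent.Lib.Helper7.Elim

/-! Gaussian elimination after Zariski localization around a prime (helper7). -/

namespace Groth.Agent.H7.Elim

universe u

open Matrix

variable {ι : Type} [Fintype ι] [DecidableEq ι]

theorem map_mem_E {C C' : Type*} [CommRing C] [CommRing C'] (φ : C →+* C')
    {L : Matrix ι ι C} (hL : L ∈ E ι C) : L.map φ ∈ E ι C' := by
  induction hL using Submonoid.closure_induction with
  | mem x hx =>
    obtain ⟨i, j, c, hij, rfl⟩ := hx
    have : (transvection i j c).map φ = transvection i j (φ c) := by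
      ext a b
      simp only [transvection, Matrix.map_apply, Matrix.add_apply, map_add, Matrix.one_apply,
        Matrix.single_apply]
      split_ifs <;> simp
    rw [this]
    exact transvection_mem i j _ hij
  | one =>
    have : (1 : Matrix ι ι C).map φ = 1 := by
      ext a b
      simp only [Matrix.map_apply, Matrix.one_apply]
      split_ifs <;> simp
    rw [this]
    exact Submonoid.one_mem _
  | mul x y _ _ hx hy =>
    rw [Matrix.map_mul]
    exact Submonoid.mul_mem _ hx hy

omit [Fintype ι] [DecidableEq ι] in
theorem red_map {C C' : Type*} [CommRing C] [CommRing C'] (φ : C →+* C') (s : Finset ι)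
    {N : Matrix ι ι C} (h : Red s N) : Red s (N.map φ) := by
  intro a ha b hba
  obtain ⟨h1, h2⟩ := h a ha b hba
  simp only [Matrix.map_apply, h1, h2, map_zero, and_self]

theorem exists_notMem_col {C : Type*} [CommRing C] (q : Ideal C) (N : Matrix ι ι C)
    (hN : N.det ∉ q) (k : ι) : ∃ i, N i k ∉ q := by
  by_contra hcon
  push Not at hcon
  apply hN
  rw [Matrix.det_apply']
  refine Ideal.sum_mem _ fun σ _ => ?_
  refine Ideal.mul_mem_left _ _ ?_
  have hdvd : N (σ k) k ∣ ∏ i, N (σ i) i :=
    Finset.dvd_prod_of_mem (fun i => N (σ i) i) (Finset.mem_univ k)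
  exact Ideal.mem_of_dvd _ hdvd (hcon (σ k))

theorem pivot' {C : Type*} [CommRing C] (q : Ideal C) [q.IsPrime] (N : Matrix ι ι C)
    (hN : N.det ∉ q) (s : Finset ι) (k : ι) (hk : k ∉ s) (hred : Red s N) :
    ∃ L ∈ E ι C, Red s (L * N) ∧ (L * N) k k ∉ q := by
  by_cases hkk : N k k ∉ q
  · exact ⟨1, Submonoid.one_mem _, by simpa using hred, by simpa using hkk⟩
  · rw [not_not] at hkk
    obtain ⟨i, hi⟩ := exists_notMem_col q N hN k
    have hik : i ≠ k := by rintro rfl; exact hi hkk
    have his : i ∉ s := by
      intro his
      have := (hred i his k (Ne.symm hik)).1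
      rw [this] at hi
      exact hi q.zero_mem
    refine ⟨transvection k i 1, transvection_mem k i 1 (Ne.symm hik), ?_, ?_⟩
    · intro a ha b hba
      have hak : a ≠ k := fun h => hk (h ▸ ha)
      have hai : a ≠ i := fun h => his (h ▸ ha)
      constructor
      · rw [transvection_mul_apply_of_ne _ _ _ _ hak]
        exact (hred a ha b hba).1
      · by_cases hbk : b = k
        · subst hbk
          rw [transvection_mul_apply_same, (hred a ha b hba).2, (hred a ha i (Ne.symm hai)).2]
          simp
        · rw [transvection_mul_apply_of_ne _ _ _ _ hbk]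
          exact (hred a ha b hba).2
    · rw [transvection_mul_apply_same, one_mul]
      intro hmem
      apply hi
      have := q.sub_mem hmem hkk
      simpa using this

/-- Elimination after localization: around a prime `q` where `det M` is invertible, after inverting
some `h ∉ q`, `M` is a product of transvections and a diagonal matrix. -/
theorem exists_red_loc (s : Finset ι) :
    ∀ (C : Type u) [CommRing C] (q : Ideal C) [q.IsPrime] (M : Matrix ι ι C), M.det ∉ q →
      ∃ (C' : Type u) (_ : CommRing C') (_ : Algebra C C') (h : C), h ∉ q ∧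
        IsLocalization.Away h C' ∧ ∃ L ∈ E ι C', ∃ R ∈ E ι C',
          Red s (L * M.map (algebraMap C C') * R) := by
  induction s using Finset.induction_on with
  | empty =>
    intro C _ q _ M _
    refine ⟨C, inferInstance, inferInstance, 1, ?_, ?_, 1, Submonoid.one_mem _, 1,
      Submonoid.one_mem _, fun a ha => absurd ha (Finset.notMem_empty a)⟩
    · intro h1
      exact (Ideal.IsPrime.ne_top ‹_›) ((Ideal.eq_top_iff_one q).mpr h1)
    · exact IsLocalization.away_of_isUnit_of_bijective C isUnit_one Function.bijective_id
  | insert k s hk ih =>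
    intro C _ q _ M hM
    obtain ⟨C', _, _, h, hh, hloc, L, hL, R, hR, hred⟩ := ih C q M hM
    -- the prime of C'
    have hdisj : Disjoint (Submonoid.powers h : Set C) (q : Set C) := by
      rw [Set.disjoint_left]
      rintro x ⟨m, rfl⟩ hx
      exact hh (Ideal.IsPrime.mem_of_pow_mem ‹_› m hx)
    set q' : Ideal C' := q.map (algebraMap C C') with hq'
    have hq'p : q'.IsPrime :=
      IsLocalization.isPrime_of_isPrime_disjoint (Submonoid.powers h) C' q ‹_› hdisj
    have hcomap : q'.comap (algebraMap C C') = q :=
      IsLocalization.under_map_of_isPrime_disjoint (Submonoid.powers h) C' ‹_› hdisj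
    have hnm : ∀ x : C, x ∉ q → algebraMap C C' x ∉ q' := by
      intro x hx hx'
      apply hx
      rw [← hcomap]
      exact hx'
    set N := L * M.map (algebraMap C C') * R with hNdef
    have hdetN : N.det ∉ q' := by
      rw [hNdef, det_mul, det_mul, det_eq_one_of_mem hL, det_eq_one_of_mem hR, one_mul, mul_one]
      have : (M.map (algebraMap C C')).det = algebraMap C C' M.det := by
        rw [RingHom.map_det]
        rfl
      rw [this]
      exact hnm _ hM
    obtain ⟨L₁, hL₁, hred₁, hc⟩ := pivot' q' N hdetN s k hk hred
    set c := (L₁ * N) k k with hcdef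
    obtain ⟨m, c₀, hc₀⟩ := IsLocalization.Away.surj h c (S := C')
    have hc₀q : c₀ ∉ q := by
      intro hmem
      have h1 : algebraMap C C' c₀ ∈ q' := Ideal.mem_map_of_mem _ hmem
      rw [← hc₀] at h1
      rcases (Ideal.IsPrime.mem_or_mem hq'p h1) with h2 | h2
      · exact hc h2
      · exact hnm h hh (Ideal.IsPrime.mem_of_pow_mem hq'p m h2)
    -- localize further
    let C'' := Localization.Away (algebraMap C C' c₀)
    let φ : C' →+* C'' := algebraMap C' C''
    have hloc'' : IsLocalization.Away (c₀ * h) C'' := inferInstance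
    have hφ : (algebraMap C C'' : C →+* C'') = φ.comp (algebraMap C C') :=
      IsScalarTower.algebraMap_eq C C' C''
    have hunit : IsUnit (((L₁ * N).map φ) k k) := by
      rw [Matrix.map_apply, ← hcdef]
      have h1 : IsUnit (φ (c * algebraMap C C' h ^ m)) := by
        rw [hc₀]
        exact IsLocalization.Away.algebraMap_isUnit (algebraMap C C' c₀)
      rw [map_mul] at h1
      exact isUnit_of_mul_isUnit_left h1
    obtain ⟨L₂, hL₂, R₂, hR₂, hred₂⟩ := clear ((L₁ * N).map φ) s k hk (red_map φ s hred₁) hunit
    refine ⟨C'', inferInstance, inferInstance, c₀ * h, ?_, hloc'', L₂ * (L₁.map φ * L.map φ),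
      Submonoid.mul_mem _ hL₂ (Submonoid.mul_mem _ (map_mem_E φ hL₁) (map_mem_E φ hL)),
      R.map φ * R₂, Submonoid.mul_mem _ (map_mem_E φ hR) hR₂, ?_⟩
    · intro hmem
      rcases Ideal.IsPrime.mem_or_mem ‹_› hmem with h1 | h1
      · exact hc₀q h1
      · exact hh h1
    · have : L₂ * (L₁.map φ * L.map φ) * M.map (algebraMap C C'') * (R.map φ * R₂) =
          L₂ * (L₁ * N).map φ * R₂ := by
        rw [hNdef, Matrix.map_mul, Matrix.map_mul, Matrix.map_mul, hφ]
        have : M.map (φ.comp (algebraMap C C')) = (M.map (algebraMap C C')).map φ := by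
          ext a b; rfl
        rw [this]
        simp only [Matrix.mul_assoc]
      rw [this]
      exact hred₂

end Groth.Agent.H7.Elim
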