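import Mathlib
import Groth.Agent.Lib.Helper7.ElimLoc
import Groth.Agent.Lib.Helper7.CharGL1

/-! Elements of `SL_n` that become products of transvections and diagonals lie in the commutator
subgroup of `GL_n`, given a unit `u` with `u - 1` a unit (helper7). -/

namespace Groth.Agent.H7.CommGL

universe u

open Matrix CharGL
open scoped commutatorElement

variable {ι : Type} [Fintype ι] [DecidableEq ι] {B : Type u} [CommRing B]

theorem tGL_mul (i j : ι) (hij : i ≠ j) (a b : B) :
    tGL i j hij a * tGL i j hij b = tGL i j hij (a + b) :=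
  Units.ext (transvection_mul_transvection_same _ _ hij a b)

theorem tGL_inv (i j : ι) (hij : i ≠ j) (a : B) : (tGL i j hij a)⁻¹ = tGL i j hij (-a) := by
  apply Units.ext
  show transvection i j (-a) = transvection i j (-a)
  rfl

theorem tGL_mem_commutator (u : Bˣ) (hu : IsUnit ((u : B) - 1)) (i j : ι) (hij : i ≠ j) (c : B) :
    tGL i j hij c ∈ commutator (GL ι B) := by
  obtain ⟨v, hv⟩ := hu.exists_left_inv
  have key : ⁅diagGL ι B (Pi.mulSingle i u), tGL i j hij (c * v)⁆ = tGL i j hij c := by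
    rw [commutatorElement_def, conj_diagGL_tGL, Pi.mulSingle_eq_same,
      Pi.mulSingle_eq_of_ne (Ne.symm hij), tGL_inv, tGL_mul]
    congr 1
    rw [inv_one, Units.val_one, mul_one]
    linear_combination c * hv
  rw [← key, commutator_def]
  exact Subgroup.commutator_mem_commutator (Subgroup.mem_top _) (Subgroup.mem_top _)

theorem diagGL_mem_commutator [Nonempty ι] (d : ι → Bˣ) (hd : ∏ i, d i = 1) :
    diagGL ι B d ∈ commutator (GL ι B) := by
  obtain ⟨i₀⟩ := ‹Nonempty ι›
  rw [← Abelianization.ker_of, MonoidHom.mem_ker]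
  let ψ : ι → Bˣ →* Abelianization (GL ι B) := fun i =>
    (Abelianization.of).comp ((diagGL ι B).comp (MonoidHom.mulSingle (fun _ : ι => Bˣ) i))
  have hψ : ∀ i b, ψ i b = ψ i₀ b := by
    intro i b
    have h1 := conj_pGL_diagGL (B := B) (Equiv.swap i i₀) (Pi.mulSingle i₀ b)
    have h2 : (Pi.mulSingle i₀ b : ι → Bˣ) ∘ (Equiv.swap i i₀) = Pi.mulSingle i b := by
      funext k
      simp only [Function.comp_apply]
      by_cases hki : k = i
      · subst hki
        rw [Equiv.swap_apply_left, Pi.mulSingle_eq_same, Pi.mulSingle_eq_same]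
      · by_cases hk0 : k = i₀
        · subst hk0
          rw [Equiv.swap_apply_right, Pi.mulSingle_eq_of_ne (Ne.symm hki),
            Pi.mulSingle_eq_of_ne hki]
        · rw [Equiv.swap_apply_of_ne_of_ne hki hk0, Pi.mulSingle_eq_of_ne hk0,
            Pi.mulSingle_eq_of_ne hki]
    rw [h2] at h1
    show Abelianization.of (diagGL ι B (Pi.mulSingle i b)) =
      Abelianization.of (diagGL ι B (Pi.mulSingle i₀ b))
    rw [← h1, map_mul, map_mul, map_inv, mul_comm (Abelianization.of (pGL _)), mul_assoc,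
      mul_inv_cancel, mul_one]
  have hcomp : Abelianization.of (diagGL ι B d) =
      ((Abelianization.of).comp (diagGL ι B)) d := rfl
  rw [hcomp]
  conv_lhs => rw [← Finset.univ_prod_mulSingle d]
  rw [map_prod]
  have : ∀ i ∈ Finset.univ, ((Abelianization.of).comp (diagGL ι B))
      (Pi.mulSingle i (d i)) = ψ i₀ (d i) := fun i _ => hψ i (d i)
  rw [Finset.prod_congr rfl this, ← map_prod, hd, map_one]

theorem mem_commutator_of_red [Nonempty ι] (u : Bˣ) (hu : IsUnit ((u : B) - 1)) (g : GL ι B)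
    (hdet : (g : Matrix ι ι B).det = 1) (L R : Matrix ι ι B) (hL : L ∈ Elim.E ι B)
    (hR : R ∈ Elim.E ι B) (hred : Elim.Red Finset.univ (L * (g : Matrix ι ι B) * R)) :
    g ∈ commutator (GL ι B) := by
  have hE : Elim.E ι B ≤ Submonoid.map (Units.coeHom (Matrix ι ι B))
      (commutator (GL ι B)).toSubmonoid := by
    apply Submonoid.closure_le.mpr
    rintro _ ⟨i, j, c, hij, rfl⟩
    exact ⟨tGL i j hij c, tGL_mem_commutator u hu i j hij c, rfl⟩
  obtain ⟨gL, hgL, hgLc⟩ := hE hL
  obtain ⟨gR, hgR, hgRc⟩ := hE hR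
  simp only [Units.coeHom_apply] at hgLc hgRc
  set h := gL * g * gR with hh
  have hval : (h : Matrix ι ι B) = L * (g : Matrix ι ι B) * R := by
    rw [hh, Units.val_mul, Units.val_mul, hgLc, hgRc]
  set dd : ι → B := fun a => (L * (g : Matrix ι ι B) * R) a a with hdd
  have hdiag : (h : Matrix ι ι B) = diagonal dd := by
    rw [hval]
    ext a b
    by_cases hab : a = b
    · subst hab; simp [hdd]
    · rw [diagonal_apply_ne _ hab]
      exact (hred a (Finset.mem_univ a) b (Ne.symm hab)).1
  have h1 : ∀ i, dd i * ((h⁻¹ : GL ι B) : Matrix ι ι B) i i = 1 := by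
    intro i
    have := congrFun (congrFun (Units.mul_inv h) i) i
    rw [hdiag, Matrix.diagonal_mul, Matrix.one_apply_eq] at this
    exact this
  have h2 : ∀ i, ((h⁻¹ : GL ι B) : Matrix ι ι B) i i * dd i = 1 := by
    intro i
    rw [mul_comm]
    exact h1 i
  let d' : ι → Bˣ := fun i => ⟨dd i, ((h⁻¹ : GL ι B) : Matrix ι ι B) i i, h1 i, h2 i⟩
  have hhd : h = diagGL ι B d' := by
    apply Units.ext
    rw [hdiag]
    rfl
  have hprod : ∏ i, d' i = 1 := by
    rw [← det_diagGL, ← hhd]
    apply Units.ext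
    rw [Matrix.GeneralLinearGroup.val_det_apply, hval, det_mul, det_mul,
      Elim.det_eq_one_of_mem hL, Elim.det_eq_one_of_mem hR, hdet]
    simp
  have hmem : h ∈ commutator (GL ι B) := by
    rw [hhd]
    exact diagGL_mem_commutator d' hprod
  have : g = gL⁻¹ * h * gR⁻¹ := by rw [hh]; group
  rw [this]
  exact Subgroup.mul_mem _ (Subgroup.mul_mem _ (Subgroup.inv_mem _ hgL) hmem)
    (Subgroup.inv_mem _ hgR)

end Groth.Agent.H7.CommGL
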