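import Mathlib
import Groth.Agent.Lib.Helper7.CommGL

/-! Étale-local existence of a unit `u` with `u - 1` a unit, and SL_n ⊆ [GL_n, GL_n] étale locally
(helper7). -/

namespace Groth.Agent.H7.CommGL

universe u

open Polynomial

/-- The standard étale pair `(X² + X + 1, 3)`. -/
noncomputable def pairOmega (A : Type u) [CommRing A] : StandardEtalePair A where
  f := X ^ 2 + X + 1
  monic_f := by
    rcases subsingleton_or_nontrivial A with hA | hA
    · exact Subsingleton.elim _ _
    · have h : (X ^ 2 + X + 1 : A[X]) = X ^ 2 + (X + 1) := by ring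
      rw [h]
      apply Polynomial.Monic.add_of_left (monic_X_pow 2)
      rw [degree_X_pow]
      calc (X + 1 : A[X]).degree = (X + C 1 : A[X]).degree := by rw [map_one]
        _ = 1 := degree_X_add_C 1
        _ < _ := by norm_num
  g := C 3
  cond := ⟨-(2 * X + 1), 4, 1, by
    simp only [derivative_add, derivative_X_pow, derivative_X, derivative_one, pow_one]
    have h3 : (C (3 : A) : A[X]) = 3 := map_ofNat C 3
    have h2 : (C ((2 : ℕ) : A) : A[X]) = 2 := by
      rw [Nat.cast_ofNat]; exact map_ofNat C 2
    rw [h3, h2]
    norm_num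
    ring⟩

theorem exists_etale_unit (A : Type u) [CommRing A] (p : PrimeSpectrum A) :
    ∃ (B : Type u) (_ : CommRing B) (_ : Algebra A B), Algebra.Etale A B ∧
      (∃ q : Ideal B, q.IsPrime ∧ q.comap (algebraMap A B) = p.asIdeal) ∧
      ∃ v : Bˣ, IsUnit ((v : B) - 1) := by
  by_cases h2 : (2 : A) ∈ p.asIdeal
  · -- 3 ∉ p
    have h3 : (3 : A) ∉ p.asIdeal := by
      intro h3
      have : (1 : A) ∈ p.asIdeal := by
        have := p.asIdeal.sub_mem h3 h2
        convert this using 1
        ring
      exact p.isPrime.ne_top ((Ideal.eq_top_iff_one _).mpr this)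
    let P := pairOmega A
    refine ⟨P.Ring, inferInstance, inferInstance, inferInstance, ?_, ?_⟩
    · let K := AlgebraicClosure p.asIdeal.ResidueField
      have hdeg : (X ^ 2 + X + 1 : K[X]).degree ≠ 0 := by
        have h : (X ^ 2 + X + 1 : K[X]) = X ^ 2 + (X + C 1) := by simp; ring
        rw [h, degree_add_eq_left_of_degree_lt, degree_X_pow]
        · norm_num
        · rw [degree_X_pow, degree_X_add_C]; norm_num
      obtain ⟨ω, hω⟩ := IsAlgClosed.exists_root (X ^ 2 + X + 1 : K[X]) hdeg
      have h3K : (algebraMap A K 3) ≠ 0 := by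
        intro h0
        rw [IsScalarTower.algebraMap_apply A p.asIdeal.ResidueField K] at h0
        have := (map_eq_zero_iff _ (algebraMap p.asIdeal.ResidueField K).injective).mp h0
        rw [Ideal.algebraMap_residueField_eq_zero] at this
        exact h3 this
      have hmap : P.HasMap ω := by
        constructor
        · show aeval ω (X ^ 2 + X + 1 : A[X]) = 0
          simp only [map_add, map_pow, aeval_X, map_one]
          simpa using hω
        · show IsUnit (aeval ω (C 3 : A[X]))
          rw [aeval_C]
          exact isUnit_iff_ne_zero.mpr h3K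
      let φ : P.Ring →ₐ[A] K := P.lift ω hmap
      refine ⟨RingHom.ker φ.toRingHom, RingHom.ker_isPrime _, ?_⟩
      ext a
      rw [Ideal.mem_comap, RingHom.mem_ker]
      show φ (algebraMap A P.Ring a) = 0 ↔ _
      rw [AlgHom.commutes, IsScalarTower.algebraMap_apply A p.asIdeal.ResidueField K,
        map_eq_zero_iff _ (algebraMap p.asIdeal.ResidueField K).injective,
        Ideal.algebraMap_residueField_eq_zero]
    · have hX := (StandardEtalePair.hasMap_X (P := P))
      have h1 : P.X ^ 2 + P.X + 1 = 0 := by
        have := hX.1
        change aeval P.X (X ^ 2 + X + 1 : A[X]) = 0 at this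
        simpa using this
      have h3u : IsUnit (algebraMap A P.Ring 3) := by
        have := hX.2
        change IsUnit (aeval P.X (C 3 : A[X])) at this
        rwa [aeval_C] at this
      refine ⟨⟨P.X, -P.X - 1, by linear_combination -h1, by linear_combination -h1⟩, ?_⟩
      show IsUnit (P.X - 1)
      have : (P.X - 1) * (-(P.X + 2)) = algebraMap A P.Ring 3 := by
        rw [map_ofNat]
        linear_combination -h1
      exact isUnit_of_mul_isUnit_left (this ▸ h3u)
  · refine ⟨Localization.Away (2 : A), inferInstance, inferInstance,
      Algebra.Etale.of_isLocalizationAway (2 : A), ?_, ?_⟩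
    · have hdisj : Disjoint (Submonoid.powers (2 : A) : Set A) (p.asIdeal : Set A) := by
        rw [Set.disjoint_left]
        rintro x ⟨m, rfl⟩ hx
        exact h2 (p.isPrime.mem_of_pow_mem m hx)
      exact ⟨p.asIdeal.map (algebraMap A (Localization.Away (2 : A))),
        IsLocalization.isPrime_of_isPrime_disjoint (Submonoid.powers 2) _ _ p.isPrime hdisj,
        IsLocalization.under_map_of_isPrime_disjoint (Submonoid.powers 2) _ p.isPrime hdisj⟩
    · have hu : IsUnit (algebraMap A (Localization.Away (2 : A)) 2) :=
        IsLocalization.Away.algebraMap_isUnit 2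
      refine ⟨-1, ?_⟩
      have : ((-1 : (Localization.Away (2 : A))ˣ) : Localization.Away (2 : A)) - 1 =
          -(algebraMap A (Localization.Away (2 : A)) 2) := by
        rw [map_ofNat]
        push_cast
        ring
      rw [this]
      exact hu.neg


open Matrix in
theorem main (A : Type u) [CommRing A] (n : ℕ)
    (s : Matrix.SpecialLinearGroup (Fin n) A) (p : PrimeSpectrum A) :
    ∃ (A' : Type u) (_ : CommRing A') (_ : Algebra A A'), Algebra.Etale A A' ∧
      (∃ q : PrimeSpectrum A', q.asIdeal.comap (algebraMap A A') = p.asIdeal) ∧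
      (Matrix.GeneralLinearGroup.map (algebraMap A A')) (Matrix.SpecialLinearGroup.toGL s) ∈
        commutator (Matrix.GeneralLinearGroup (Fin n) A') := by
  rcases isEmpty_or_nonempty (Fin n) with hn | hn
  · refine ⟨A, inferInstance, inferInstance, inferInstance, ⟨p, ?_⟩, ?_⟩
    · rw [Algebra.algebraMap_self, Ideal.comap_id]
    · have : (Matrix.GeneralLinearGroup.map (algebraMap A A)) (Matrix.SpecialLinearGroup.toGL s)
          = 1 := by
        apply Units.ext
        ext i
        exact (IsEmpty.false i).elim
      rw [this]
      exact Subgroup.one_mem _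
  · obtain ⟨B, _, _, hBet, ⟨q, hqp, hq⟩, v, hv⟩ := exists_etale_unit A p
    set M : Matrix (Fin n) (Fin n) B := (s : Matrix (Fin n) (Fin n) A).map (algebraMap A B)
      with hM
    have hdetM : M.det = 1 := by
      have : M = (algebraMap A B).mapMatrix (s : Matrix (Fin n) (Fin n) A) := rfl
      rw [this, ← RingHom.map_det, s.det_coe, map_one]
    have hMq : M.det ∉ q := by
      rw [hdetM]
      intro h1
      exact hqp.ne_top ((Ideal.eq_top_iff_one q).mpr h1)
    obtain ⟨B', _, _, h, hh, hloc, L, hL, R, hR, hred⟩ :=
      Elim.exists_red_loc (Finset.univ : Finset (Fin n)) B q M hMq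
    letI : Algebra A B' := ((algebraMap B B').comp (algebraMap A B)).toAlgebra
    haveI : IsScalarTower A B B' := IsScalarTower.of_algebraMap_eq (fun _ => rfl)
    haveI : Algebra.Etale B B' := Algebra.Etale.of_isLocalizationAway h
    haveI : Algebra.Etale A B' := Algebra.Etale.comp A B B'
    have hdisj : Disjoint (Submonoid.powers h : Set B) (q : Set B) := by
      rw [Set.disjoint_left]
      rintro x ⟨m, rfl⟩ hx
      exact hh (hqp.mem_of_pow_mem m hx)
    refine ⟨B', inferInstance, inferInstance, inferInstance, ⟨⟨q.map (algebraMap B B'),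
      IsLocalization.isPrime_of_isPrime_disjoint (Submonoid.powers h) B' q hqp hdisj⟩, ?_⟩, ?_⟩
    · show (q.map (algebraMap B B')).comap (algebraMap A B') = p.asIdeal
      have hc : (q.map (algebraMap B B')).comap (algebraMap B B') = q :=
        IsLocalization.under_map_of_isPrime_disjoint (Submonoid.powers h) B' hqp hdisj
      rw [IsScalarTower.algebraMap_eq A B B', ← Ideal.comap_comap, hc, hq]
    · set g := (Matrix.GeneralLinearGroup.map (algebraMap A B'))
        (Matrix.SpecialLinearGroup.toGL s) with hg
      have hgM : (g : Matrix (Fin n) (Fin n) B') = M.map (algebraMap B B') := by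
        ext i j
        rfl
      have hgdet : (g : Matrix (Fin n) (Fin n) B').det = 1 := by
        rw [hgM]
        have : M.map (algebraMap B B') = (algebraMap B B').mapMatrix M := rfl
        rw [this, ← RingHom.map_det, hdetM, map_one]
      have hv' : IsUnit (((Units.map (algebraMap B B' : B →* B') v : B'ˣ) : B') - 1) := by
        rw [Units.coe_map]
        have : (algebraMap B B' : B →* B') (v : B) - 1 = algebraMap B B' ((v : B) - 1) := by
          rw [map_sub, map_one]; rfl
        rw [this]
        exact hv.map _
      rw [← hgM] at hred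
      exact mem_commutator_of_red (Units.map (algebraMap B B' : B →* B') v) hv' g hgdet L R hL hR
        hred

end Groth.Agent.H7.CommGL
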