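import Mathlib

/-! Two subspaces of the same finite dimension have a common complement (helper7). -/

set_option autoImplicit false
universe u

namespace Groth.Agent.H7.CommonCompl

open Module

variable {k V : Type*} [Field k] [AddCommGroup V] [Module k V] [FiniteDimensional k V]

theorem exists_not_mem_two (U₁ U₂ : Submodule k V) (h₁ : U₁ ≠ ⊤) (h₂ : U₂ ≠ ⊤) :
    ∃ v : V, v ∉ U₁ ∧ v ∉ U₂ := by
  obtain ⟨a, ha⟩ : ∃ a, a ∉ U₁ := by
    by_contra h
    push Not at h
    exact h₁ (eq_top_iff.mpr fun x _ => h x)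
  obtain ⟨b, hb⟩ : ∃ b, b ∉ U₂ := by
    by_contra h
    push Not at h
    exact h₂ (eq_top_iff.mpr fun x _ => h x)
  by_cases ha2 : a ∈ U₂
  · by_cases hb1 : b ∈ U₁
    · refine ⟨a + b, ?_, ?_⟩
      · intro h
        exact ha ((U₁.add_mem_iff_left hb1).mp h)
      · intro h
        exact hb ((U₂.add_mem_iff_right ha2).mp h)
    · exact ⟨b, hb1, hb⟩
  · exact ⟨a, ha, ha2⟩

theorem finrank_sup_span_singleton (U : Submodule k V) (v : V) (hv : v ∉ U) :
    finrank k ↥(U ⊔ Submodule.span k {v}) = finrank k U + 1 := by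
  have hdisj : U ⊓ Submodule.span k {v} = ⊥ := by
    rw [eq_bot_iff]
    rintro x ⟨hxU, hxv⟩
    obtain ⟨c, rfl⟩ := Submodule.mem_span_singleton.mp hxv
    by_cases hc : c = 0
    · simp [hc]
    · exfalso
      apply hv
      have : v = c⁻¹ • (c • v) := by rw [smul_smul, inv_mul_cancel₀ hc, one_smul]
      rw [this]
      exact U.smul_mem _ hxU
  have h := Submodule.finrank_sup_add_finrank_inf_eq U (Submodule.span k {v})
  rw [hdisj, finrank_bot, add_zero] at h
  have hv0 : v ≠ 0 := fun h0 => hv (h0 ▸ U.zero_mem)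
  rw [h, finrank_span_singleton hv0]

theorem exists_common_compl_aux : ∀ (d : ℕ) (U₁ U₂ : Submodule k V),
    finrank k U₁ = finrank k U₂ → finrank k V - finrank k U₁ = d →
    ∃ C : Submodule k V, IsCompl U₁ C ∧ IsCompl U₂ C := by
  intro d
  induction d with
  | zero =>
    intro U₁ U₂ heq hd
    have h1 : finrank k U₁ = finrank k V := by
      have := Submodule.finrank_le U₁
      omega
    have hU₁ : U₁ = ⊤ := Submodule.eq_top_of_finrank_eq h1
    have hU₂ : U₂ = ⊤ := Submodule.eq_top_of_finrank_eq (by rw [← heq, h1])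
    exact ⟨⊥, hU₁ ▸ isCompl_top_bot, hU₂ ▸ isCompl_top_bot⟩
  | succ d ih =>
    intro U₁ U₂ heq hd
    have hU₁ : U₁ ≠ ⊤ := by
      intro h
      rw [h, finrank_top] at hd
      omega
    have hU₂ : U₂ ≠ ⊤ := by
      intro h
      rw [heq, h, finrank_top] at hd
      omega
    obtain ⟨v, hv1, hv2⟩ := exists_not_mem_two U₁ U₂ hU₁ hU₂
    have hf1 := finrank_sup_span_singleton U₁ v hv1
    have hf2 := finrank_sup_span_singleton U₂ v hv2
    obtain ⟨C', hC1, hC2⟩ := ih (U₁ ⊔ Submodule.span k {v}) (U₂ ⊔ Submodule.span k {v})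
      (by rw [hf1, hf2, heq]) (by rw [hf1]; omega)
    refine ⟨C' ⊔ Submodule.span k {v}, ?_, ?_⟩
    · have hsup : U₁ ⊔ (C' ⊔ Submodule.span k {v}) = ⊤ := by
        rw [sup_comm C', ← sup_assoc]
        exact hC1.sup_eq_top
      refine IsCompl.of_eq ?_ hsup
      have h := Submodule.finrank_sup_add_finrank_inf_eq U₁ (C' ⊔ Submodule.span k {v})
      rw [hsup, finrank_top] at h
      have h2 := Submodule.finrank_sup_add_finrank_inf_eq (U₁ ⊔ Submodule.span k {v}) C'
      rw [hC1.sup_eq_top, hC1.inf_eq_bot, finrank_top, finrank_bot, hf1] at h2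
      have h3 : finrank k ↥(C' ⊔ Submodule.span k {v}) ≤ finrank k C' + 1 := by
        have := Submodule.finrank_add_le_finrank_add_finrank C' (Submodule.span k {v})
        have h4 : finrank k ↥(Submodule.span k {v}) ≤ 1 := by
          have := finrank_span_le_card (R := k) ({v} : Set V)
          simpa using this
        omega
      have h5 : finrank k ↥(U₁ ⊓ (C' ⊔ Submodule.span k {v})) = 0 := by omega
      exact Submodule.finrank_eq_zero.mp h5
    · have hsup : U₂ ⊔ (C' ⊔ Submodule.span k {v}) = ⊤ := by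
        rw [sup_comm C', ← sup_assoc]
        exact hC2.sup_eq_top
      refine IsCompl.of_eq ?_ hsup
      have h := Submodule.finrank_sup_add_finrank_inf_eq U₂ (C' ⊔ Submodule.span k {v})
      rw [hsup, finrank_top] at h
      have h2 := Submodule.finrank_sup_add_finrank_inf_eq (U₂ ⊔ Submodule.span k {v}) C'
      rw [hC2.sup_eq_top, hC2.inf_eq_bot, finrank_top, finrank_bot, hf2] at h2
      have h3 : finrank k ↥(C' ⊔ Submodule.span k {v}) ≤ finrank k C' + 1 := by
        have := Submodule.finrank_add_le_finrank_add_finrank C' (Submodule.span k {v})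
        have h4 : finrank k ↥(Submodule.span k {v}) ≤ 1 := by
          have := finrank_span_le_card (R := k) ({v} : Set V)
          simpa using this
        omega
      have h5 : finrank k ↥(U₂ ⊓ (C' ⊔ Submodule.span k {v})) = 0 := by omega
      exact Submodule.finrank_eq_zero.mp h5

theorem exists_common_compl (U₁ U₂ : Submodule k V) (h : finrank k U₁ = finrank k U₂) :
    ∃ C : Submodule k V, IsCompl U₁ C ∧ IsCompl U₂ C :=
  exists_common_compl_aux _ U₁ U₂ h rfl

end Groth.Agent.H7.CommonCompl
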