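import Mathlib

/-! Étale neighbourhoods of a prime: common refinement. -/

set_option autoImplicit false
open scoped TensorProduct

namespace Groth.Agent.H7.EtNb

universe u

section Tensor

variable (S : Type u) [CommRing S]

theorem mem_range_comap_tensor (S₁ S₂ : Type*) [CommRing S₁] [CommRing S₂] [Algebra S S₁]
    [Algebra S S₂] (q : PrimeSpectrum S)
    (h₁ : q ∈ Set.range (PrimeSpectrum.comap (algebraMap S S₁)))
    (h₂ : q ∈ Set.range (PrimeSpectrum.comap (algebraMap S S₂))) :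
    q ∈ Set.range (PrimeSpectrum.comap (algebraMap S (S₁ ⊗[S] S₂))) := by
  rw [← PrimeSpectrum.nontrivial_iff_mem_rangeComap] at h₁ h₂ ⊢
  haveI := h₁
  haveI := h₂
  haveI : Nontrivial ((q.asIdeal.ResidueField ⊗[S] S₁) ⊗[q.asIdeal.ResidueField]
      (q.asIdeal.ResidueField ⊗[S] S₂)) :=
    Algebra.TensorProduct.nontrivial_of_algebraMap_injective_of_flat_left _ _ _
      (algebraMap q.asIdeal.ResidueField (q.asIdeal.ResidueField ⊗[S] S₂)).injective
  exact (TensorProduct.AlgebraTensorModule.distribBaseChange S q.asIdeal.ResidueField S₁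
    S₂).toEquiv.nontrivial

end Tensor

section At

variable (S : Type u) [CommRing S]

/-- a property of `S`-algebras holds on some étale neighbourhood of `q`. -/
def EtAt (P : ∀ (S' : Type u) [CommRing S'] [Algebra S S'], Prop) (q : PrimeSpectrum S) : Prop :=
  ∃ (S' : Type u) (_ : CommRing S') (_ : Algebra S S') (_ : Algebra.Etale S S'),
    (∃ q' : PrimeSpectrum S', q'.comap (algebraMap S S') = q) ∧ P S'

theorem EtAt.and (P Q : ∀ (S' : Type u) [CommRing S'] [Algebra S S'], Prop)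
    (hP : ∀ (S' S'' : Type u) [CommRing S'] [Algebra S S'] [CommRing S''] [Algebra S S'']
      (_ : S' →ₐ[S] S''), P S' → P S'')
    (hQ : ∀ (S' S'' : Type u) [CommRing S'] [Algebra S S'] [CommRing S''] [Algebra S S'']
      (_ : S' →ₐ[S] S''), Q S' → Q S'')
    (q : PrimeSpectrum S) (h₁ : EtAt S P q) (h₂ : EtAt S Q q) :
    EtAt S (fun S' _ _ => P S' ∧ Q S') q := by
  obtain ⟨S₁, _, _, het₁, ⟨q₁, hq₁⟩, hP₁⟩ := h₁
  obtain ⟨S₂, _, _, het₂, ⟨q₂, hq₂⟩, hQ₂⟩ := h₂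
  obtain ⟨q', hq'⟩ := mem_range_comap_tensor S S₁ S₂ q ⟨q₁, hq₁⟩ ⟨q₂, hq₂⟩
  haveI : Algebra.Etale S₁ (S₁ ⊗[S] S₂) := inferInstance
  haveI : Algebra.Etale S (S₁ ⊗[S] S₂) := Algebra.Etale.comp S S₁ (S₁ ⊗[S] S₂)
  refine ⟨S₁ ⊗[S] S₂, inferInstance, inferInstance, inferInstance, ⟨q', hq'⟩, ?_, ?_⟩
  · exact hP S₁ (S₁ ⊗[S] S₂) Algebra.TensorProduct.includeLeft hP₁
  · exact hQ S₂ (S₁ ⊗[S] S₂) Algebra.TensorProduct.includeRight hQ₂

theorem EtAt.mono (P Q : ∀ (S' : Type u) [CommRing S'] [Algebra S S'], Prop)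
    (h : ∀ (S' : Type u) [CommRing S'] [Algebra S S'], P S' → Q S')
    (q : PrimeSpectrum S) (h₁ : EtAt S P q) : EtAt S Q q := by
  obtain ⟨S₁, _, _, het₁, hq₁, hP₁⟩ := h₁
  exact ⟨S₁, inferInstance, inferInstance, het₁, hq₁, h S₁ hP₁⟩

end At

end Groth.Agent.H7.EtNb
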