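import Mathlib
import Groth.Prelude.Def_AzInv
import Groth.Prelude.Def_W4c2azumayainvolQEt
import Groth.Agent.Lib.Helper7.StdP

/-! Isomorphisms of algebras with involution over a base change; functoriality, products,
gluing over étale neighbourhoods. -/

set_option autoImplicit false
open scoped TensorProduct
open AzInv

namespace Groth.Agent.H7.IsoOv

universe u v w w' u' u''

attribute [local instance] AzBC.algLC

section Def

variable (S : Type u) (R : Type v) [CommRing S] [CommRing R] [Algebra S R]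
  (lam : R ≃ₐ[S] R) (hlam : ∀ r, lam (lam r) = r)
  (A : Type w) [Ring A] [Algebra S A] [Algebra R A] [IsScalarTower S R A]
  (A' : Type w') [Ring A'] [Algebra S A'] [Algebra R A'] [IsScalarTower S R A']
  (t : LamInv R A lam) (t' : LamInv R A' lam)

/-- `(A, t)` and `(A', t')` become isomorphic over `C`. -/
def IsoOver (C : Type u') [CommRing C] [Algebra S C] : Prop :=
  ∃ f : C ⊗[S] A ≃ₐ[C] C ⊗[S] A',
    (∀ (r : R) (x : C ⊗[S] A),
      f (((1 : C) ⊗ₜ[S] algebraMap R A r) * x) = ((1 : C) ⊗ₜ[S] algebraMap R A' r) * f x) ∧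
    ∀ x : C ⊗[S] A, f (t.bc S lam C x) = t'.bc S lam C (f x)

/-- `(A, t)` and `(A', t')` become isomorphic over an étale neighbourhood of `q`. -/
def IsoAt (q : PrimeSpectrum S) : Prop :=
  ∃ (S' : Type u) (_ : CommRing S') (_ : Algebra S S') (_ : Algebra.Etale S S'),
    (∃ q' : PrimeSpectrum S', q'.comap (algebraMap S S') = q) ∧ IsoOver S R lam A A' t t' S'

theorem congr_bc (C : Type u') [CommRing C] [Algebra S C] (C' : Type u'') [CommRing C']
    [Algebra S C'] [Algebra C C'] [IsScalarTower S C C']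
    (f : C ⊗[S] A ≃ₐ[C] C ⊗[S] A')
    (hf : ∀ x : C ⊗[S] A, f (t.bc S lam C x) = t'.bc S lam C (f x))
    (y : C' ⊗[C] (C ⊗[S] A)) :
    Algebra.TensorProduct.congr (AlgEquiv.refl : C' ≃ₐ[C'] C') f
      ((StdInv.bcInv S R lam hlam A t C).bc C (RInvB.lamBC lam C) C' y) =
    (StdInv.bcInv S R lam hlam A' t' C).bc C (RInvB.lamBC lam C) C'
      (Algebra.TensorProduct.congr (AlgEquiv.refl : C' ≃ₐ[C'] C') f y) := by
  induction y using TensorProduct.induction_on with
  | zero => simp
  | add x y hx hy => rw [map_add, map_add, hx, hy, map_add, map_add]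
  | tmul c z =>
      rw [LamInv.bc_tmul, Algebra.TensorProduct.congr_apply, Algebra.TensorProduct.map_tmul,
        Algebra.TensorProduct.congr_apply, Algebra.TensorProduct.map_tmul, LamInv.bc_tmul]
      congr 1
      exact hf z

include hlam in
theorem IsoOver.map (C : Type u') [CommRing C] [Algebra S C] (C' : Type u'') [CommRing C']
    [Algebra S C'] (g : C →ₐ[S] C') (h : IsoOver S R lam A A' t t' C) :
    IsoOver S R lam A A' t t' C' := by
  obtain ⟨f, hf1, hf2⟩ := h
  letI : Algebra C C' := g.toRingHom.toAlgebra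
  haveI : IsScalarTower S C C' := IsScalarTower.of_algebraMap_eq (fun s => (g.commutes s).symm)
  let F : C' ⊗[S] A ≃ₐ[C'] C' ⊗[S] A' :=
    (Azu.cancelNC' S C' C A).symm.trans
      ((Algebra.TensorProduct.congr (AlgEquiv.refl : C' ≃ₐ[C'] C') f).trans
        (Azu.cancelNC' S C' C A'))
  have hF : ∀ y : C' ⊗[C] (C ⊗[S] A), F (Azu.cancelNC' S C' C A y) =
      Azu.cancelNC' S C' C A' (Algebra.TensorProduct.congr (AlgEquiv.refl : C' ≃ₐ[C'] C') f y) := by
    intro y
    show Azu.cancelNC' S C' C A' (Algebra.TensorProduct.congr (AlgEquiv.refl : C' ≃ₐ[C'] C') f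
      ((Azu.cancelNC' S C' C A).symm (Azu.cancelNC' S C' C A y))) = _
    rw [AlgEquiv.symm_apply_apply]
  refine ⟨F, ?_, ?_⟩
  · intro r x
    obtain ⟨y, rfl⟩ := (Azu.cancelNC' S C' C A).surjective x
    have h1 : (1 : C') ⊗ₜ[S] algebraMap R A r =
        Azu.cancelNC' S C' C A ((1 : C') ⊗ₜ[C] ((1 : C) ⊗ₜ[S] algebraMap R A r)) := by
      simp [Azu.cancelNC']
    have h2 : (1 : C') ⊗ₜ[S] algebraMap R A' r =
        Azu.cancelNC' S C' C A' ((1 : C') ⊗ₜ[C] ((1 : C) ⊗ₜ[S] algebraMap R A' r)) := by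
      simp [Azu.cancelNC']
    rw [h1, ← map_mul, hF, hF, h2, ← map_mul, map_mul]
    congr 2
    rw [Algebra.TensorProduct.congr_apply, Algebra.TensorProduct.map_tmul]
    congr 1
    have := hf1 r 1
    rwa [mul_one, map_one, mul_one] at this
  · intro x
    obtain ⟨y, rfl⟩ := (Azu.cancelNC' S C' C A).surjective x
    rw [← StdInv.cancel_bc S R lam hlam A t C C', hF, hF,
      ← StdInv.cancel_bc S R lam hlam A' t' C C', congr_bc S R lam hlam A A' t t' C C' f hf2]

theorem isoOver_pi (ι : Type u) [Finite ι] (C : ι → Type u)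
    [∀ i, CommRing (C i)] [∀ i, Algebra S (C i)] (h : ∀ i, IsoOver S R lam A A' t t' (C i)) :
    IsoOver S R lam A A' t t' (Π i, C i) := by
  classical
  cases nonempty_fintype ι
  choose f hf1 hf2 using h
  let Φ : (Π i, C i) ⊗[S] A ≃+* (Π i, C i) ⊗[S] A' :=
    ((EtGlue.piIso S A C).trans
      (RingEquiv.piCongrRight fun i => (f i).toRingEquiv)).trans (EtGlue.piIso S A' C).symm
  have hΦ : ∀ x i, EtGlue.piIso S A' C (Φ x) i = f i (EtGlue.piIso S A C x i) := by
    intro x i
    show EtGlue.piIso S A' C ((EtGlue.piIso S A' C).symm _) i = _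
    rw [RingEquiv.apply_symm_apply]
    rfl
  let F : (Π i, C i) ⊗[S] A ≃ₐ[Π i, C i] (Π i, C i) ⊗[S] A' :=
    AlgEquiv.ofRingEquiv (f := Φ) (by
      intro c
      apply (EtGlue.piIso S A' C).injective
      funext i
      rw [hΦ, Algebra.TensorProduct.algebraMap_apply, Algebra.TensorProduct.algebraMap_apply,
        Algebra.algebraMap_self, RingHom.id_apply, EtGlue.piIso_tmul, EtGlue.piIso_tmul]
      have := (f i).commutes (c i)
      rwa [Algebra.TensorProduct.algebraMap_apply, Algebra.TensorProduct.algebraMap_apply,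
        Algebra.algebraMap_self, RingHom.id_apply] at this)
  have hF : ∀ x i, EtGlue.piIso S A' C (F x) i = f i (EtGlue.piIso S A C x i) := hΦ
  refine ⟨F, ?_, ?_⟩
  · intro r x
    apply (EtGlue.piIso S A' C).injective
    funext i
    rw [hF, map_mul, map_mul, Pi.mul_apply, Pi.mul_apply, hF]
    have h1 : EtGlue.piIso S A C ((1 : Π i, C i) ⊗ₜ[S] algebraMap R A r) i =
        (1 : C i) ⊗ₜ[S] algebraMap R A r := by
      rw [EtGlue.piIso_tmul]; rfl
    have h2 : EtGlue.piIso S A' C ((1 : Π i, C i) ⊗ₜ[S] algebraMap R A' r) i =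
        (1 : C i) ⊗ₜ[S] algebraMap R A' r := by
      rw [EtGlue.piIso_tmul]; rfl
    rw [h1, h2, hf1]
  · intro x
    apply (EtGlue.piIso S A' C).injective
    funext i
    rw [hF, UnitLoc.piIso_bc, UnitLoc.piIso_bc, hF, hf2]

/-- gluing local isomorphisms. -/
theorem locIsoEt_of_isoAt (h : ∀ q, IsoAt S R lam A A' t t' q) : LocIsoEt S lam t t' := by
  obtain ⟨S', _, _, het, hff, f, hf1, hf2⟩ := EtGlue.glue S
    (fun S' _ _ => IsoOver S R lam A A' t t' S')
    (fun ι _ C _ _ h => isoOver_pi S R lam A A' t t' ι C h) h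
  exact ⟨S', inferInstance, inferInstance, het, hff, f, hf1, hf2⟩

theorem exists_isoOver_of_locIsoEt (h : LocIsoEt S lam t t') :
    ∃ (S' : Type u) (_ : CommRing S') (_ : Algebra S S') (_ : Algebra.Etale S S')
      (_ : Module.FaithfullyFlat S S'), IsoOver S R lam A A' t t' S' := by
  obtain ⟨S', _, _, het, hff, f, hf1, hf2⟩ := h
  exact ⟨S', inferInstance, inferInstance, het, hff, f, hf1, hf2⟩

theorem IsoOver.symm (C : Type u') [CommRing C] [Algebra S C]
    (h : IsoOver S R lam A A' t t' C) : IsoOver S R lam A' A t' t C := by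
  obtain ⟨f, hf1, hf2⟩ := h
  refine ⟨f.symm, ?_, ?_⟩
  · intro r y
    apply f.injective
    rw [hf1, AlgEquiv.apply_symm_apply, AlgEquiv.apply_symm_apply]
  · intro y
    apply f.injective
    rw [hf2, AlgEquiv.apply_symm_apply, AlgEquiv.apply_symm_apply]

/-- transport of a normal form along an isomorphism. -/
theorem IsoOver.stdOverP {ι : Type} [Fintype ι] [DecidableEq ι] (π : ι → ι) (sg : ι → ℤ)
    (C : Type u') [CommRing C] [Algebra S C] (h : IsoOver S R lam A A' t t' C)
    (hstd : StdP.StdOverP S R lam A t π sg C) : StdP.StdOverP S R lam A' t' π sg C := by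
  obtain ⟨f, -, hf2⟩ := h
  obtain ⟨e, he, hte⟩ := hstd
  refine ⟨fun i j => f (e i j), he.map (f : C ⊗[S] A →+* C ⊗[S] A'), ?_⟩
  intro i j
  rw [← hf2, hte, map_zsmul]

/-- an isomorphism over `C` is linear over `C ⊗ R`. -/
theorem IsoOver.exists_linearEquiv (C : Type u') [CommRing C] [Algebra S C]
    (h : IsoOver S R lam A A' t t' C) :
    ∃ F : C ⊗[S] A ≃ₗ[C ⊗[S] R] C ⊗[S] A',
      ∀ x, F (StdInv.bcInv S R lam hlam A t C x) = StdInv.bcInv S R lam hlam A' t' C (F x) := by
  obtain ⟨f, hf1, hf2⟩ := h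
  have hlin : ∀ (l : C ⊗[S] R) (x : C ⊗[S] A), f (l • x) = l • f x := by
    intro l x
    induction l using TensorProduct.induction_on with
    | zero => simp
    | add l l' hl hl' => rw [add_smul, map_add, hl, hl', add_smul]
    | tmul c r =>
        have e1 : (c ⊗ₜ[S] r : C ⊗[S] R) • x = c • (((1 : C) ⊗ₜ[S] algebraMap R A r) * x) := by
          rw [Algebra.smul_def, AzBC.algebraMap_LC, AzBC.iotaL_tmul, ← smul_mul_assoc,
            TensorProduct.smul_tmul', smul_eq_mul, mul_one]
        have e2 : (c ⊗ₜ[S] r : C ⊗[S] R) • f x =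
            c • (((1 : C) ⊗ₜ[S] algebraMap R A' r) * f x) := by
          rw [Algebra.smul_def, AzBC.algebraMap_LC, AzBC.iotaL_tmul, ← smul_mul_assoc,
            TensorProduct.smul_tmul', smul_eq_mul, mul_one]
        rw [e1, e2, map_smul, hf1]
  refine ⟨{ toFun := f, map_add' := map_add f, map_smul' := hlin, invFun := f.symm,
            left_inv := f.left_inv, right_inv := f.right_inv }, ?_⟩
  intro x
  exact hf2 x

end Def

end Groth.Agent.H7.IsoOv
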