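import Mathlib
import Groth.Prelude.Def_AzInv
import Groth.Agent.Lib.Helper7.SgnPerm
import Groth.Agent.Lib.Helper7.AzOrthSymp
import Groth.Agent.Lib.Helper7.StdP
import Groth.Agent.Lib.Helper7.SympStd

/-! Exclusivity of signed-permutation normal forms, detected at a point where the involution of
the base ring becomes trivial. -/

set_option autoImplicit false
open scoped TensorProduct
open AzInv

namespace Groth.Agent.H7.KPt

universe v w

section TK

variable {R : Type*} {A : Type*} [CommRing R] [Ring A] [Algebra R A] {lam : R → R}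
  (t : LamInv R A lam) (K : Type*) [CommRing K] [Algebra R K]
  (hK : ∀ r, algebraMap R K (lam r) = algebraMap R K r)

/-- the `R`-linear map `a ↦ 1 ⊗ t a` into a base change on which `lam` becomes trivial. -/
noncomputable def tR : A →ₗ[R] K ⊗[R] A where
  toFun a := (1 : K) ⊗ₜ[R] t a
  map_add' a b := by rw [t.map_add, TensorProduct.tmul_add]
  map_smul' r a := by
    rw [t.map_smul, RingHom.id_apply, TensorProduct.tmul_smul,
      ← algebraMap_smul K (lam r), ← algebraMap_smul K r, hK]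

/-- the induced `K`-linear involution. -/
noncomputable def TK : K ⊗[R] A →ₗ[K] K ⊗[R] A :=
  LinearMap.liftBaseChange K (tR t K hK)

theorem TK_tmul (c : K) (a : A) : TK t K hK (c ⊗ₜ[R] a) = c ⊗ₜ[R] t a := by
  rw [TK, LinearMap.liftBaseChange_tmul]
  show c • ((1 : K) ⊗ₜ[R] t a) = _
  rw [TensorProduct.smul_tmul', smul_eq_mul, mul_one]

end TK

section Coord

variable {R : Type v} {A : Type w} [CommRing R] [Ring A] [Algebra R A] {lam : R → R}
  (t : LamInv R A lam) (n : ℕ)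
  {ι : Type} [Fintype ι] [DecidableEq ι]

/-- the isomorphism `M_ι(R) ≃ A` attached to matrix units. -/
noncomputable def matIsoR (hn : 0 < n) (hA : IsAzumayaDeg R A n) (hι : Fintype.card ι = n)
    (e : ι → ι → A) (he : StdP.IsMU e) : Matrix ι ι R ≃ₐ[R] A :=
  haveI : IsAzumaya R A := hA.1
  haveI : Nonempty ι := Fintype.card_pos_iff.mp (hι ▸ hn)
  haveI : IsAzumaya R (Matrix ι ι R) := IsAzumaya.matrix R ι
  AlgEquiv.ofBijective (StdP.algHomOfMU (L := R) e he) (by
    apply Spread.algHom_bijective_of_rankAtStalk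
    intro p
    haveI : Nontrivial R := p.nontrivial
    rw [hA.2, Module.rankAtStalk_eq_finrank_of_free]
    simp [Module.finrank_matrix, pow_two, hι])

theorem matIsoR_apply (hn : 0 < n) (hA : IsAzumayaDeg R A n) (hι : Fintype.card ι = n)
    (e : ι → ι → A) (he : StdP.IsMU e) (M : Matrix ι ι R) :
    matIsoR n hn hA hι e he M = ∑ i, ∑ j, M i j • e i j := rfl

theorem matIsoR_single (hn : 0 < n) (hA : IsAzumayaDeg R A n) (hι : Fintype.card ι = n)
    (e : ι → ι → A) (he : StdP.IsMU e) (i j : ι) (l : R) :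
    matIsoR n hn hA hι e he (Matrix.single i j l) = l • e i j :=
  StdP.algHomOfMU_single e he i j l

/-- uncurrying of matrices. -/
def unc (R : Type*) [CommRing R] (ι : Type*) : Matrix ι ι R ≃ₗ[R] (ι × ι → R) where
  toFun M p := M p.1 p.2
  invFun x := Matrix.of fun i j => x (i, j)
  map_add' _ _ := rfl
  map_smul' _ _ := rfl
  left_inv _ := rfl
  right_inv _ := by funext ⟨i, j⟩; rfl

/-- coordinates with respect to matrix units. -/
noncomputable def cR (hn : 0 < n) (hA : IsAzumayaDeg R A n) (hι : Fintype.card ι = n)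
    (e : ι → ι → A) (he : StdP.IsMU e) : A ≃ₗ[R] (ι × ι → R) :=
  (matIsoR n hn hA hι e he).symm.toLinearEquiv ≪≫ₗ unc R ι

/-- the index involution. -/
def PI (π : ι → ι) : ι × ι → ι × ι := fun p => (π p.2, π p.1)

/-- the signs. -/
def EPS (R : Type*) [CommRing R] (sg : ι → ℤ) : ι × ι → R := fun p => ((sg p.1 * sg p.2 : ℤ) : R)

theorem cR_t (hn : 0 < n) (hA : IsAzumayaDeg R A n) (hι : Fintype.card ι = n)
    (e : ι → ι → A) (he : StdP.IsMU e) (π : ι → ι) (sg : ι → ℤ)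
    (hte : ∀ i j, t (e i j) = (sg i * sg j) • e (π j) (π i))
    (hπ : ∀ i, π (π i) = i) (η : ℤ) (hη : ∀ i, sg (π i) = η * sg i) (hηη : η * η = 1)
    (X : A) (p : ι × ι) :
    cR n hn hA hι e he (t X) p = EPS R sg p * lam (cR n hn hA hι e he X (PI π p)) := by
  obtain ⟨M, rfl⟩ := (matIsoR n hn hA hι e he).surjective X
  have h1 : t (matIsoR n hn hA hι e he M) = matIsoR n hn hA hι e he
      (∑ i, ∑ j, Matrix.single (π j) (π i) ((sg i * sg j) • lam (M i j))) := by
    rw [matIsoR_apply, ← LamInv.toAddMonoidHom_apply, map_sum, map_sum]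
    refine Finset.sum_congr rfl fun i _ => ?_
    rw [map_sum, map_sum]
    refine Finset.sum_congr rfl fun j _ => ?_
    rw [LamInv.toAddMonoidHom_apply, t.map_smul, hte, matIsoR_single, smul_assoc, smul_comm]
  rw [h1]
  show unc R ι ((matIsoR n hn hA hι e he).symm (matIsoR n hn hA hι e he _)) p =
    EPS R sg p * lam (unc R ι ((matIsoR n hn hA hι e he).symm (matIsoR n hn hA hι e he M)) (PI π p))
  rw [AlgEquiv.symm_apply_apply, AlgEquiv.symm_apply_apply]
  show (∑ i, ∑ j, Matrix.single (π j) (π i) ((sg i * sg j) • lam (M i j))) p.1 p.2 =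
    EPS R sg p * lam (M (π p.2) (π p.1))
  rw [Matrix.sum_apply, Finset.sum_eq_single (π p.2)]
  · rw [Matrix.sum_apply, Finset.sum_eq_single (π p.1)]
    · rw [hπ, hπ, Matrix.single_apply_same, hη, hη, EPS, zsmul_eq_mul]
      congr 2
      calc η * sg p.2 * (η * sg p.1) = (η * η) * (sg p.1 * sg p.2) := by ring
        _ = sg p.1 * sg p.2 := by rw [hηη, one_mul]
    · intro j _ hj
      rw [Matrix.single_apply_of_ne]
      rintro ⟨h, -⟩
      apply hj
      rw [← h, hπ]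
    · intro h; exact absurd (Finset.mem_univ _) h
  · intro i _ hi
    rw [Matrix.sum_apply]
    apply Finset.sum_eq_zero
    intro j _
    rw [Matrix.single_apply_of_ne]
    rintro ⟨-, h⟩
    apply hi
    rw [← h, hπ]
  · intro h; exact absurd (Finset.mem_univ _) h

end Coord

section Excl

universe w'

variable {R : Type v} [CommRing R] {lam : R → R}
  (K : Type*) [CommRing K] [Algebra R K] (hK : ∀ r, algebraMap R K (lam r) = algebraMap R K r)

theorem coord_TK {A : Type*} [Ring A] [Algebra R A] (t : LamInv R A lam)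
    {κ : Type*} [Finite κ] (c : A ≃ₗ[R] (κ → R)) (P : κ → κ) (ε : κ → R)
    (hc : ∀ X p, c (t X) p = ε p * lam (c X (P p))) (y : K ⊗[R] A) :
    AzOrthSymp.coord c K (TK t K hK y) =
      SgnPerm.op P (fun p => algebraMap R K (ε p)) (AzOrthSymp.coord c K y) := by
  induction y using TensorProduct.induction_on with
  | zero => simp
  | add x y hx hy => rw [map_add, map_add, hx, hy, map_add, map_add]
  | tmul s X =>
      funext p
      rw [TK_tmul, AzOrthSymp.coord_tmul, SgnPerm.op_apply, AzOrthSymp.coord_tmul, hc,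
        Algebra.smul_def, Algebra.smul_def, map_mul, hK]
      ring

variable {A₁ : Type w} [Ring A₁] [Algebra R A₁] (t₁ : LamInv R A₁ lam)
  {A₂ : Type w'} [Ring A₂] [Algebra R A₂] (t₂ : LamInv R A₂ lam)

theorem congr_TK (F : A₁ ≃ₗ[R] A₂) (hF : ∀ a, F (t₁ a) = t₂ (F a)) (y : K ⊗[R] A₁) :
    TensorProduct.AlgebraTensorModule.congr (LinearEquiv.refl K K) F (TK t₁ K hK y) =
      TK t₂ K hK (TensorProduct.AlgebraTensorModule.congr (LinearEquiv.refl K K) F y) := by
  induction y using TensorProduct.induction_on with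
  | zero => simp
  | add x y hx hy => rw [map_add, map_add, hx, hy, map_add, map_add]
  | tmul s X =>
      rw [TK_tmul, TensorProduct.AlgebraTensorModule.congr_tmul,
        TensorProduct.AlgebraTensorModule.congr_tmul, TK_tmul, hF]

include hK in
/-- the rank comparison for two algebras with involution in signed-permutation form that are
isomorphic. -/
theorem excl2 [Nontrivial K] (h2 : IsUnit (2 : K))
    (n₁ n₂ : ℕ) (hn₁ : 0 < n₁) (hn₂ : 0 < n₂)
    (hA₁ : IsAzumayaDeg R A₁ n₁) (hA₂ : IsAzumayaDeg R A₂ n₂)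
    (F : A₁ ≃ₗ[R] A₂) (hF : ∀ a, F (t₁ a) = t₂ (F a))
    {ι₁ ι₂ : Type} [Fintype ι₁] [DecidableEq ι₁] [Fintype ι₂] [DecidableEq ι₂]
    (hι₁ : Fintype.card ι₁ = n₁) (hι₂ : Fintype.card ι₂ = n₂)
    (e₁ : ι₁ → ι₁ → A₁) (he₁ : StdP.IsMU e₁) (π₁ : ι₁ → ι₁) (sg₁ : ι₁ → ℤ)
    (hte₁ : ∀ i j, t₁ (e₁ i j) = (sg₁ i * sg₁ j) • e₁ (π₁ j) (π₁ i))
    (hπ₁ : ∀ i, π₁ (π₁ i) = i) (η₁ : ℤ) (hη₁ : ∀ i, sg₁ (π₁ i) = η₁ * sg₁ i)
    (hηη₁ : η₁ * η₁ = 1) (hsg₁ : ∀ i, sg₁ i * sg₁ i = 1)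
    (e₂ : ι₂ → ι₂ → A₂) (he₂ : StdP.IsMU e₂) (π₂ : ι₂ → ι₂) (sg₂ : ι₂ → ℤ)
    (hte₂ : ∀ i j, t₂ (e₂ i j) = (sg₂ i * sg₂ j) • e₂ (π₂ j) (π₂ i))
    (hπ₂ : ∀ i, π₂ (π₂ i) = i) (η₂ : ℤ) (hη₂ : ∀ i, sg₂ (π₂ i) = η₂ * sg₂ i)
    (hηη₂ : η₂ * η₂ = 1)
    (D : Set (ι₁ × ι₁)) (hD1 : ∀ p ∈ D, PI π₁ p = p → sg₁ p.1 * sg₁ p.2 = 1)
    (hD2 : ∀ p ∈ D, PI π₁ p ≠ p → PI π₁ p ∉ D)
    (D' : Set (ι₂ × ι₂))
    (hD' : ∀ p, p ∉ D' → PI π₂ p ∈ D' ∨ (PI π₂ p = p ∧ sg₂ p.1 * sg₂ p.2 = -1)) :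
    Nat.card D ≤ Nat.card D' ∧ n₁ = n₂ := by
  classical
  set c₁ := cR n₁ hn₁ hA₁ hι₁ e₁ he₁ with hc₁
  set c₂ := cR n₂ hn₂ hA₂ hι₂ e₂ he₂ with hc₂
  have hct₁ := cR_t t₁ n₁ hn₁ hA₁ hι₁ e₁ he₁ π₁ sg₁ hte₁ hπ₁ η₁ hη₁ hηη₁
  have hct₂ := cR_t t₂ n₂ hn₂ hA₂ hι₂ e₂ he₂ π₂ sg₂ hte₂ hπ₂ η₂ hη₂ hηη₂
  let G : (ι₁ × ι₁ → K) ≃ₗ[K] (ι₂ × ι₂ → K) :=
    ((AzOrthSymp.coord c₁ K).symm.trans
      (TensorProduct.AlgebraTensorModule.congr (LinearEquiv.refl K K) F)).trans
      (AzOrthSymp.coord c₂ K)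
  have hGop : ∀ x, G (SgnPerm.op (PI π₁) (fun p => algebraMap R K (EPS R sg₁ p)) x) =
      SgnPerm.op (PI π₂) (fun p => algebraMap R K (EPS R sg₂ p)) (G x) := by
    intro x
    obtain ⟨y, rfl⟩ := (AzOrthSymp.coord c₁ K).surjective x
    rw [← coord_TK K hK t₁ c₁ (PI π₁) (EPS R sg₁) hct₁]
    show AzOrthSymp.coord c₂ K (TensorProduct.AlgebraTensorModule.congr (LinearEquiv.refl K K) F
        ((AzOrthSymp.coord c₁ K).symm (AzOrthSymp.coord c₁ K _))) =
      SgnPerm.op (PI π₂) _ (AzOrthSymp.coord c₂ K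
        (TensorProduct.AlgebraTensorModule.congr (LinearEquiv.refl K K) F
          ((AzOrthSymp.coord c₁ K).symm (AzOrthSymp.coord c₁ K y))))
    rw [LinearEquiv.symm_apply_apply, LinearEquiv.symm_apply_apply, congr_TK K hK t₁ t₂ F hF,
      coord_TK K hK t₂ c₂ (PI π₂) (EPS R sg₂) hct₂]
  refine ⟨?_, ?_⟩
  swap
  · have hrk := G.finrank_eq
    rw [Module.finrank_fintype_fun_eq_card, Module.finrank_fintype_fun_eq_card,
      Fintype.card_prod, Fintype.card_prod, hι₁, hι₂] at hrk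
    exact Nat.pow_left_injective (n := 2) (by norm_num) (by simpa [pow_two] using hrk)
  refine SgnPerm.card_le (K := K) (PI π₁) (fun p => algebraMap R K (EPS R sg₁ p)) (PI π₂)
    (fun p => algebraMap R K (EPS R sg₂ p)) h2 ?_ ?_ ?_ D ?_ hD2 D' ?_ G.toLinearMap G.injective hGop
  · intro p
    simp only [PI, hπ₁]
  · intro p
    simp only [PI, EPS, hη₁]
    congr 2
    calc η₁ * sg₁ p.2 * (η₁ * sg₁ p.1) = (η₁ * η₁) * (sg₁ p.1 * sg₁ p.2) := by ring
      _ = sg₁ p.1 * sg₁ p.2 := by rw [hηη₁, one_mul]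
  · intro p
    simp only [EPS]
    rw [← map_mul, ← Int.cast_mul]
    have : sg₁ p.1 * sg₁ p.2 * (sg₁ p.1 * sg₁ p.2) = 1 := by
      calc sg₁ p.1 * sg₁ p.2 * (sg₁ p.1 * sg₁ p.2)
          = (sg₁ p.1 * sg₁ p.1) * (sg₁ p.2 * sg₁ p.2) := by ring
        _ = 1 := by rw [hsg₁, hsg₁, one_mul]
    rw [this, Int.cast_one, map_one]
  · intro p hp hfix
    simp only [EPS]
    rw [hD1 p hp hfix, Int.cast_one, map_one]
  · intro p hp
    rcases hD' p hp with h | ⟨h1, h3⟩
    · exact Or.inl h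
    · refine Or.inr ⟨h1, ?_⟩
      simp only [EPS]
      rw [h3, Int.cast_neg, Int.cast_one, map_neg, map_one]

end Excl

section Count

theorem card_lt_invol {X : Type*} [Fintype X] {m : ℕ} (σ : X ≃ Fin m) (P : X → X)
    (hP : ∀ x, P (P x) = x) :
    2 * Nat.card {x : X | σ x < σ (P x)} + Nat.card {x : X | P x = x} = Fintype.card X := by
  classical
  rw [Nat.card_eq_fintype_card, Nat.card_eq_fintype_card, Fintype.card_subtype,
    Fintype.card_subtype]
  simp only [Set.mem_setOf_eq]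
  have hgt : (Finset.univ.filter fun x : X => σ (P x) < σ x).card =
      (Finset.univ.filter fun x : X => σ x < σ (P x)).card := by
    apply Finset.card_bij (fun x _ => P x)
    · intro x hx
      simp only [Finset.mem_filter, Finset.mem_univ, true_and] at hx ⊢
      rw [hP]; exact hx
    · intro x _ y _ h
      rw [← hP x, ← hP y, h]
    · intro y hy
      simp only [Finset.mem_filter, Finset.mem_univ, true_and] at hy
      refine ⟨P y, ?_, hP y⟩
      simp only [Finset.mem_filter, Finset.mem_univ, true_and]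
      rw [hP]; exact hy
  have h1 := Finset.card_filter_add_card_filter_not (s := (Finset.univ : Finset X))
    (fun x : X => σ x < σ (P x))
  have h2 : (Finset.univ.filter fun x : X => ¬ σ x < σ (P x)) =
      (Finset.univ.filter fun x : X => σ (P x) < σ x) ∪ (Finset.univ.filter fun x : X => P x = x) := by
    ext x
    simp only [Finset.mem_filter, Finset.mem_univ, true_and, Finset.mem_union, not_lt]
    constructor
    · intro h
      rcases lt_or_eq_of_le h with h' | h'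
      · exact Or.inl h'
      · exact Or.inr (σ.injective h')
    · rintro (h | h)
      · exact le_of_lt h
      · rw [h]
  have h3 : Disjoint (Finset.univ.filter fun x : X => σ (P x) < σ x)
      (Finset.univ.filter fun x : X => P x = x) := by
    rw [Finset.disjoint_filter]
    intro x _ h h'
    rw [h'] at h
    exact lt_irrefl _ h
  rw [h2, Finset.card_union_of_disjoint h3, hgt, Finset.card_univ] at h1
  omega

variable (κ : Type) [Fintype κ]

/-- a fundamental domain for the symplectic index involution. -/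
noncomputable def DM : Set ((Fin 2 × κ) × (Fin 2 × κ)) :=
  {p | Fintype.equivFin _ p < Fintype.equivFin _ (PI (SympStd.flip κ) p)}

theorem PI_flip_PI (p : (Fin 2 × κ) × (Fin 2 × κ)) :
    PI (SympStd.flip κ) (PI (SympStd.flip κ) p) = p := by
  simp only [PI, SympStd.flip_flip]

theorem card_DM : 2 * Nat.card (DM κ) + 2 * Fintype.card κ = (2 * Fintype.card κ) ^ 2 := by
  classical
  have h := card_lt_invol (Fintype.equivFin ((Fin 2 × κ) × (Fin 2 × κ))) (PI (SympStd.flip κ))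
    (PI_flip_PI κ)
  have h2 : Nat.card {x : (Fin 2 × κ) × (Fin 2 × κ) | PI (SympStd.flip κ) x = x} =
      2 * Fintype.card κ := by
    have e : {x : (Fin 2 × κ) × (Fin 2 × κ) | PI (SympStd.flip κ) x = x} ≃ Fin 2 × κ :=
      { toFun := fun x => x.1.2
        invFun := fun j => ⟨(SympStd.flip κ j, j), by
          show PI (SympStd.flip κ) (SympStd.flip κ j, j) = _
          simp only [PI, SympStd.flip_flip]⟩
        left_inv := by
          rintro ⟨⟨a, b⟩, hx⟩
          have hx' : (SympStd.flip κ b, SympStd.flip κ a) = (a, b) := hx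
          apply Subtype.ext
          show (SympStd.flip κ b, b) = (a, b)
          rw [(Prod.mk.inj hx').1]
        right_inv := fun j => rfl }
    rw [Nat.card_congr e, Nat.card_eq_fintype_card, Fintype.card_prod, Fintype.card_fin]
  rw [h2] at h
  have h3 : Fintype.card ((Fin 2 × κ) × (Fin 2 × κ)) = (2 * Fintype.card κ) ^ 2 := by
    rw [Fintype.card_prod, Fintype.card_prod, Fintype.card_fin, pow_two]
  rw [← h3]
  exact h

theorem DM_hD1 (p : (Fin 2 × κ) × (Fin 2 × κ)) (hp : p ∈ DM κ)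
    (hfix : PI (SympStd.flip κ) p = p) : SympStd.sgJ κ p.1 * SympStd.sgJ κ p.2 = 1 := by
  exfalso
  have h : Fintype.equivFin _ p < Fintype.equivFin _ (PI (SympStd.flip κ) p) := hp
  rw [hfix] at h
  exact lt_irrefl _ h

theorem DM_hD2 (p : (Fin 2 × κ) × (Fin 2 × κ)) (hp : p ∈ DM κ)
    (_ : PI (SympStd.flip κ) p ≠ p) : PI (SympStd.flip κ) p ∉ DM κ := by
  intro h
  have h1 : Fintype.equivFin _ p < Fintype.equivFin _ (PI (SympStd.flip κ) p) := hp
  have h2 : Fintype.equivFin _ (PI (SympStd.flip κ) p) <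
      Fintype.equivFin _ (PI (SympStd.flip κ) (PI (SympStd.flip κ) p)) := h
  rw [PI_flip_PI] at h2
  exact lt_asymm h1 h2

theorem DM_hD' (p : (Fin 2 × κ) × (Fin 2 × κ)) (hp : p ∉ DM κ) :
    PI (SympStd.flip κ) p ∈ DM κ ∨
      (PI (SympStd.flip κ) p = p ∧ SympStd.sgJ κ p.1 * SympStd.sgJ κ p.2 = -1) := by
  have h1 : ¬ Fintype.equivFin _ p < Fintype.equivFin _ (PI (SympStd.flip κ) p) := hp
  rw [not_lt] at h1
  rcases lt_or_eq_of_le h1 with h | h
  · left
    show Fintype.equivFin _ (PI (SympStd.flip κ) p) <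
      Fintype.equivFin _ (PI (SympStd.flip κ) (PI (SympStd.flip κ) p))
    rw [PI_flip_PI]
    exact h
  · right
    have hfix : PI (SympStd.flip κ) p = p := (Fintype.equivFin _).injective h
    refine ⟨hfix, ?_⟩
    have h2 : SympStd.flip κ p.2 = p.1 := congrArg Prod.fst hfix
    rw [← h2, SympStd.sgJ_flip, mul_assoc, SympStd.sgJ_mul_self, mul_one]

end Count


section ExclPM

universe w'

variable {R : Type v} [CommRing R] {lam : R → R}
  (K : Type*) [CommRing K] [Algebra R K] (hK : ∀ r, algebraMap R K (lam r) = algebraMap R K r)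
  {A₁ : Type w} [Ring A₁] [Algebra R A₁] (t₁ : LamInv R A₁ lam)
  {A₂ : Type w'} [Ring A₂] [Algebra R A₂] (t₂ : LamInv R A₂ lam)

include hK in
/-- an orthogonal and a symplectic normal form cannot be isomorphic at a point where `lam`
becomes trivial. -/
theorem excl_pm [Nontrivial K] (h2 : IsUnit (2 : K))
    (n₁ n₂ : ℕ) (hn₁ : 0 < n₁) (hn₂ : 0 < n₂)
    (hA₁ : IsAzumayaDeg R A₁ n₁) (hA₂ : IsAzumayaDeg R A₂ n₂)
    (F : A₁ ≃ₗ[R] A₂) (hF : ∀ a, F (t₁ a) = t₂ (F a))
    (e₁ : Fin n₁ → Fin n₁ → A₁) (he₁ : StdP.IsMU e₁)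
    (hte₁ : ∀ i j, t₁ (e₁ i j) = ((fun _ : Fin n₁ => (1 : ℤ)) i * (fun _ : Fin n₁ => (1 : ℤ)) j) •
      e₁ (id j) (id i))
    (κ : Type) [Fintype κ] [DecidableEq κ] (hκ : 2 * Fintype.card κ = n₂)
    (e₂ : Fin 2 × κ → Fin 2 × κ → A₂) (he₂ : StdP.IsMU e₂)
    (hte₂ : ∀ i j, t₂ (e₂ i j) = (SympStd.sgJ κ i * SympStd.sgJ κ j) •
      e₂ (SympStd.flip κ j) (SympStd.flip κ i)) : False := by
  have hι₂ : Fintype.card (Fin 2 × κ) = n₂ := by
    rw [Fintype.card_prod, Fintype.card_fin, hκ]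
  obtain ⟨h1, h3⟩ := excl2 K hK t₁ t₂ h2 n₁ n₂ hn₁ hn₂ hA₁ hA₂ F hF (Fintype.card_fin n₁) hι₂
    e₁ he₁ id (fun _ => 1) hte₁ (fun _ => rfl) 1 (fun _ => by simp) (by simp) (fun _ => by simp)
    e₂ he₂ (SympStd.flip κ) (SympStd.sgJ κ) hte₂ (SympStd.flip_flip κ) (-1)
    (SympStd.sgJ_flip κ) (by simp)
    {p : Fin n₁ × Fin n₁ | p.1 ≤ p.2} (fun _ _ _ => by simp)
    (by
      rintro ⟨i, j⟩ hp hne hmem
      simp only [Set.mem_setOf_eq, PI, id] at hp hmem
      exact hne (by simp only [PI, id]; rw [le_antisymm hp hmem]))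
    (DM κ) (DM_hD' κ)
  rw [AzOrthSymp.card_D] at h1
  have h4 := card_DM κ
  rw [hκ, ← h3] at h4
  have h5 := AzOrthSymp.two_mul_choose_two n₁
  obtain ⟨k, rfl⟩ : ∃ k, n₁ = k + 1 := ⟨n₁ - 1, by omega⟩
  have e1 : k + 1 - 1 = k := by omega
  rw [e1] at h5
  nlinarith

end ExclPM

end Groth.Agent.H7.KPt
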