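import Mathlib
import Groth.Prelude.Def_AzInv
import Groth.Prelude.Def_W4c2azumayainvolQEt
import Groth.Agent.Lib.Helper7.Ampl
import Groth.Agent.Lib.Helper7.IsoOv
import Groth.Agent.Lib.Helper7.KPt

/-! The two kinds (orthogonal / symplectic) of normal forms, amplification, exclusivity. -/

set_option autoImplicit false
open scoped TensorProduct
open AzInv

namespace Groth.Agent.H7.Kind

universe u v w w' u' u''

attribute [local instance] AzBC.algLC

section Defs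

variable (S : Type u) (R : Type v) [CommRing S] [CommRing R] [Algebra S R]
  (lam : R ≃ₐ[S] R) (hlam : ∀ r, lam (lam r) = r)
  (A : Type w) [Ring A] [Algebra S A] [Algebra R A] [IsScalarTower S R A]
  (t : LamInv R A lam)

/-- orthogonal normal form of size `N` over `C`. -/
def KP (N : ℕ) (C : Type u') [CommRing C] [Algebra S C] : Prop :=
  StdP.StdOverP S R lam A t (ι := Fin N) id (fun _ => 1) C

/-- symplectic normal form of size `2 k` over `C`. -/
def KM (k : ℕ) (C : Type u') [CommRing C] [Algebra S C] : Prop :=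
  StdP.StdOverP S R lam A t (SympStd.flip (Fin k)) (SympStd.sgJ (Fin k)) C

theorem KP.map (N : ℕ) (C : Type u') [CommRing C] [Algebra S C] (C' : Type u'') [CommRing C']
    [Algebra S C'] (f : C →ₐ[S] C') (h : KP S R lam A t N C) : KP S R lam A t N C' :=
  StdP.stdOverP_map S R lam A t _ _ C C' f h

theorem KM.map (k : ℕ) (C : Type u') [CommRing C] [Algebra S C] (C' : Type u'') [CommRing C']
    [Algebra S C'] (f : C →ₐ[S] C') (h : KM S R lam A t k C) : KM S R lam A t k C' :=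
  StdP.stdOverP_map S R lam A t _ _ C C' f h

theorem kp_of_stdOver (N : ℕ) (C : Type u') [CommRing C] [Algebra S C]
    (h : StdInv.StdOver S R lam A t N C) : KP S R lam A t N C :=
  StdP.stdOverP_of_stdOver S R lam A t N C h

theorem km_of_flip (κ : Type) [Fintype κ] [DecidableEq κ] (k : ℕ) (hκ : Fintype.card κ = k)
    (C : Type u') [CommRing C] [Algebra S C]
    (h : StdP.StdOverP S R lam A t (SympStd.flip κ) (SympStd.sgJ κ) C) : KM S R lam A t k C := by
  subst hκ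
  refine Ampl.stdOverP_reindex S R lam A t C (SympStd.flip κ) (SympStd.sgJ κ)
    (Equiv.prodCongr (Equiv.refl (Fin 2)) (Fintype.equivFin κ).symm) _ _ ?_ ?_ h
  · rintro ⟨x, c⟩
    rfl
  · rintro ⟨x, c⟩
    rfl

theorem kp_matrix (m N : ℕ) (C : Type u') [CommRing C] [Algebra S C]
    (h : KP S R lam A t N C) :
    KP S R lam (Matrix (Fin m) (Fin m) A) (t.matrix (Fin m)) (m * N) C := by
  have h1 := Ampl.stdOverP_matrix S R lam A t C (μ := Fin m) id (fun _ : Fin N => (1 : ℤ)) h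
  refine Ampl.stdOverP_reindex S R lam _ (t.matrix (Fin m)) C _ _
    (finProdFinEquiv (m := m) (n := N)).symm _ _ ?_ ?_ h1
  · intro c
    rfl
  · intro c
    rfl

theorem km_matrix (m k : ℕ) (C : Type u') [CommRing C] [Algebra S C]
    (h : KM S R lam A t k C) :
    KM S R lam (Matrix (Fin m) (Fin m) A) (t.matrix (Fin m)) (m * k) C := by
  have h1 := Ampl.stdOverP_matrix S R lam A t C (μ := Fin m) (SympStd.flip (Fin k))
    (SympStd.sgJ (Fin k)) h
  let σ : Fin 2 × Fin (m * k) ≃ Fin m × (Fin 2 × Fin k) :=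
    { toFun := fun p => ((finProdFinEquiv.symm p.2).1, (p.1, (finProdFinEquiv.symm p.2).2))
      invFun := fun q => (q.2.1, finProdFinEquiv (q.1, q.2.2))
      left_inv := by
        rintro ⟨x, c⟩
        show (x, finProdFinEquiv ((finProdFinEquiv.symm c).1, (finProdFinEquiv.symm c).2)) = (x, c)
        rw [Prod.mk.eta, Equiv.apply_symm_apply]
      right_inv := by
        rintro ⟨a, x, b⟩
        show ((finProdFinEquiv.symm (finProdFinEquiv (a, b))).1, (x,
          (finProdFinEquiv.symm (finProdFinEquiv (a, b))).2)) = (a, x, b)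
        rw [Equiv.symm_apply_apply] }
  refine Ampl.stdOverP_reindex S R lam _ (t.matrix (Fin m)) C _ _ σ _ _ ?_ ?_ h1
  · rintro ⟨x, c⟩
    rfl
  · rintro ⟨x, c⟩
    rfl

end Defs

section Excl

variable (S : Type u) (R : Type v) [CommRing S] [CommRing R] [Algebra S R]
  (lam : R ≃ₐ[S] R) (hlam : ∀ r, lam (lam r) = r)
  (hfix : RInv.IsFixedRing S R lam.toRingEquiv)
  (A₁ : Type w) [Ring A₁] [Algebra S A₁] [Algebra R A₁] [IsScalarTower S R A₁]
  (A₂ : Type w') [Ring A₂] [Algebra S A₂] [Algebra R A₂] [IsScalarTower S R A₂]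
  (t₁ : LamInv R A₁ lam) (t₂ : LamInv R A₂ lam)
  (C : Type u') [CommRing C] [Algebra S C]

include hlam in
/-- exclusivity at a point of `C ⊗ R` where the involution is trivial. -/
theorem excl_K (K : Type*) [CommRing K] [Nontrivial K] [Algebra (C ⊗[S] R) K]
    (hK : ∀ l, algebraMap (C ⊗[S] R) K (RInvB.lamBC lam C l) = algebraMap (C ⊗[S] R) K l)
    (h2 : IsUnit (2 : K)) (N₁ k₂ : ℕ) (hN₁ : 0 < N₁) (hk₂ : 0 < k₂)
    (hA₁ : IsAzumayaDeg R A₁ N₁) (hA₂ : IsAzumayaDeg R A₂ (2 * k₂))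
    (hiso : IsoOv.IsoOver S R lam A₁ A₂ t₁ t₂ C)
    (h₁ : KP S R lam A₁ t₁ N₁ C) (h₂ : KM S R lam A₂ t₂ k₂ C) : False := by
  obtain ⟨F, hF⟩ := IsoOv.IsoOver.exists_linearEquiv S R lam hlam A₁ A₂ t₁ t₂ C hiso
  obtain ⟨e₁, he₁, hte₁⟩ := h₁
  obtain ⟨e₂, he₂, hte₂⟩ := h₂
  exact KPt.excl_pm K hK (StdInv.bcInv S R lam hlam A₁ t₁ C) (StdInv.bcInv S R lam hlam A₂ t₂ C)
    h2 N₁ (2 * k₂) hN₁ (by omega) (AzBC.isAzumayaDeg_bc S R A₁ C N₁ hA₁)
    (AzBC.isAzumayaDeg_bc S R A₂ C (2 * k₂) hA₂) F hF e₁ he₁ hte₁ (Fin k₂) (by simp) e₂ he₂ hte₂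

include hlam hfix in
/-- exclusivity over a neighbourhood of a ramified prime. -/
theorem excl_ram (h2 : IsUnit (2 : S)) (q : PrimeSpectrum S) (hram : RInvB.RamP lam q.asIdeal)
    [Module.Flat S C] (qC : PrimeSpectrum C) (hqC : qC.comap (algebraMap S C) = q)
    (N₁ k₂ : ℕ) (hN₁ : 0 < N₁) (hk₂ : 0 < k₂)
    (hA₁ : IsAzumayaDeg R A₁ N₁) (hA₂ : IsAzumayaDeg R A₂ (2 * k₂))
    (hiso : IsoOv.IsoOver S R lam A₁ A₂ t₁ t₂ C)
    (h₁ : KP S R lam A₁ t₁ N₁ C) (h₂ : KM S R lam A₂ t₂ k₂ C) : False := by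
  have hlam' := RInvB.lamBC_lamBC lam hlam C
  have hfix' := RInvB.isFixedRing_lamBC lam hfix C
  haveI := qC.isPrime
  obtain ⟨P', hP', hover⟩ := RInvB.exists_prime_over (RInvB.lamBC lam C) hlam' hfix' qC.asIdeal
  have hramC := RInvB.ramP_lamBC lam C q.asIdeal hram qC.asIdeal
    (congrArg PrimeSpectrum.asIdeal hqC) P' hP' hover
  haveI : Nontrivial ((C ⊗[S] R) ⧸ P') := Ideal.Quotient.nontrivial_iff.mpr hP'.ne_top
  refine excl_K S R lam hlam A₁ A₂ t₁ t₂ C ((C ⊗[S] R) ⧸ P') ?_ ?_ N₁ k₂ hN₁ hk₂ hA₁ hA₂ hiso h₁ h₂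
  · intro l
    exact (Ideal.Quotient.eq.mpr (hramC l)).symm
  · have := h2.map (algebraMap S ((C ⊗[S] R) ⧸ P'))
    rwa [map_ofNat] at this

end Excl

end Groth.Agent.H7.Kind
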