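import Mathlib
import Groth.Prelude.Def_AzInv
import Groth.Prelude.Def_W4c2azumayainvolQEt
import Groth.Agent.Lib.Helper7.SympStd
import Groth.Agent.Lib.Helper7.AzQE4

/-! Local structure of involutions on Azumaya algebras when `2` is invertible. -/

set_option autoImplicit false
open scoped TensorProduct
open AzInv

namespace Groth.Agent.H7.RamStd

universe u v w

attribute [local instance] AzBC.algLC

section Eps

variable (S : Type u) (R : Type v) [CommRing S] [CommRing R] [Algebra S R]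
  (lam : R ≃ₐ[S] R) (hlam : ∀ r, lam (lam r) = r)
  (A : Type w) [Ring A] [Algebra S A] [Algebra R A] [IsScalarTower S R A]
  (t : LamInv R A lam) (n : ℕ)

include hlam in
/-- the unit `w` is `ε`-hermitian for a scalar `ε` of norm one. -/
theorem exists_eps (hn : 0 < n) (hA : IsAzumayaDeg R A n)
    (e : Fin n → Fin n → A) (he : Spread.IsMatUnits e)
    (w : Aˣ) (hw : ∀ i j, t (e i j) = ↑w * e j i * ↑w⁻¹) :
    ∃ ε : R, t (↑w : A) = ε • (↑w : A) ∧ lam ε * ε = 1 := by
  haveI : IsAzumaya R A := hA.1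
  set G := OddStd.matIso₀ R A n hn hA e he with hG
  have htG : ∀ M, t (G M) = ↑w * G (Herm.ct lam.toRingEquiv M) * ↑w⁻¹ :=
    OddStd.t_matIso₀ S R lam A t n hn hA e he w hw
  have hlamI : Function.Involutive lam.toRingEquiv := fun x => hlam x
  have htwinv' : t (↑w : A) * t (↑w⁻¹ : A) = 1 := t.map_units_inv' w
  have hz : ∀ x : A, ((↑w⁻¹ : A) * t ↑w) * x = x * ((↑w⁻¹ : A) * t ↑w) := by
    intro x
    obtain ⟨M, rfl⟩ := G.surjective x
    have h1 : t (t (G M)) = G M := t.invol _
    rw [htG, t.map_mul, t.map_mul, htG, Herm.ct_ct _ hlamI] at h1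
    calc (↑w⁻¹ : A) * t ↑w * G M
        = (↑w⁻¹ : A) * t ↑w * (t (↑w⁻¹ : A) * (↑w * G M * ↑w⁻¹ * t ↑w)) := by rw [h1]
      _ = (↑w⁻¹ : A) * ((t ↑w * t (↑w⁻¹ : A)) * (↑w * (G M * (↑w⁻¹ * t ↑w)))) := by
          simp only [mul_assoc]
      _ = G M * ((↑w⁻¹ : A) * t ↑w) := by
          rw [htwinv', one_mul, ← mul_assoc, Units.inv_mul, one_mul]
  obtain ⟨ε, hε⟩ := LG.center_azumaya R A _ hz
  have htw : t (↑w : A) = ε • (↑w : A) := by
    have : (↑w : A) * ((↑w⁻¹ : A) * t ↑w) = t ↑w := by rw [← mul_assoc, Units.mul_inv, one_mul]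
    rw [← this, hε, Algebra.smul_def, Algebra.commutes]
  have hinj : Function.Injective (algebraMap R A) := FaithfulSMul.algebraMap_injective R A
  refine ⟨ε, htw, ?_⟩
  have h1 : t (t (↑w : A)) = ↑w := t.invol _
  rw [htw, t.map_smul, htw, smul_smul] at h1
  apply hinj
  rw [map_one]
  have h2 : algebraMap R A (lam ε * ε) * ↑w = 1 * ↑w := by
    rw [one_mul, ← Algebra.smul_def]
    exact h1
  exact w.isUnit.mul_left_injective h2

/-- rescaling the unit `w` by a central unit. -/
theorem adjust (e : Fin n → Fin n → A)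
    (w : Aˣ) (hw : ∀ i j, t (e i j) = ↑w * e j i * ↑w⁻¹) (ε : R) (htw : t (↑w : A) = ε • (↑w : A))
    (cu : Rˣ) (η : R) (hc : lam (↑cu : R) * ε = η * ↑cu) :
    ∃ w₁ : Aˣ, (∀ i j, t (e i j) = ↑w₁ * e j i * ↑w₁⁻¹) ∧ t (↑w₁ : A) = η • (↑w₁ : A) := by
  let cA : Aˣ := Units.map (algebraMap R A).toMonoidHom cu
  have hcA : (↑cA : A) = algebraMap R A ↑cu := rfl
  have hcA' : (↑cA⁻¹ : A) = algebraMap R A ↑cu⁻¹ := by
    have : cA⁻¹ = Units.map (algebraMap R A).toMonoidHom cu⁻¹ := by
      rw [← map_inv]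
    rw [this]
    rfl
  refine ⟨w * cA, ?_, ?_⟩
  · intro i j
    rw [hw, mul_inv_rev, Units.val_mul, Units.val_mul, hcA, hcA']
    calc (↑w : A) * e j i * ↑w⁻¹
        = ↑w * (algebraMap R A (↑cu * ↑cu⁻¹) * e j i) * ↑w⁻¹ := by
          rw [Units.mul_inv, map_one, one_mul]
      _ = ↑w * algebraMap R A ↑cu * e j i * (algebraMap R A ↑cu⁻¹ * ↑w⁻¹) := by
          rw [map_mul, mul_assoc (algebraMap R A ↑cu), Algebra.commutes (↑cu⁻¹ : R) (e j i)]
          simp only [mul_assoc]
  · rw [Units.val_mul, t.map_mul, hcA, t.map_algebraMap, htw]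
    calc algebraMap R A (lam (↑cu : R)) * ε • (↑w : A)
        = (lam (↑cu : R) * ε) • (↑w : A) := by
          rw [← Algebra.smul_def, smul_smul]
      _ = η • ((↑w : A) * algebraMap R A ↑cu) := by
          rw [hc, mul_smul, ← Algebra.commutes, ← Algebra.smul_def]

end Eps

section CoreH

variable (S : Type u) (R : Type v) [CommRing S] [CommRing R] [Algebra S R]
  (lam : R ≃ₐ[S] R) (hlam : ∀ r, lam (lam r) = r)
  (hfix : RInv.IsFixedRing S R lam.toRingEquiv)
  (A : Type w) [Ring A] [Algebra S A] [Algebra R A] [IsScalarTower S R A]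
  (t : LamInv R A lam) (n : ℕ)

include hlam hfix in
/-- symmetric global data ⟹ standard étale-locally (hermitian case). -/
theorem coreH (hsq : OddStd.HasSqrt S) (hn : 0 < n)
    (hA : IsAzumayaDeg R A n) (e₀ : Fin n → Fin n → A) (he₀ : Spread.IsMatUnits e₀) (w : Aˣ)
    (hw : ∀ i j, t (e₀ i j) = ↑w * e₀ j i * ↑w⁻¹) (hwt : t (↑w : A) = ↑w)
    (q : PrimeSpectrum S)
    (hcase : (∃ a : Localization.AtPrime q.asIdeal ⊗[S] R,
        (RInvB.lamBC lam (Localization.AtPrime q.asIdeal)).toRingEquiv a - a ∉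
          Ring.jacobson (Localization.AtPrime q.asIdeal ⊗[S] R)) ∨
      (1 : Localization.AtPrime q.asIdeal ⊗[S] R) + 1 ∉
        Ring.jacobson (Localization.AtPrime q.asIdeal ⊗[S] R) ∨ Odd n) :
    StdInv.StdAt S R lam A t n q := by
  have hloc := HermStd.diagData_local S R lam hlam hfix A t n e₀ w hn hA he₀ hw hwt
    (Localization.AtPrime q.asIdeal) hcase
  obtain ⟨g, hg, p, p', d, d', hD⟩ := HermStd.diagData_spread S R lam A t n e₀ w q.asIdeal hloc
  haveI : Algebra.Etale S (Localization.Away g) := Algebra.Etale.of_isLocalizationAway g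
  let du : Fin n → (Localization.Away g)ˣ := fun i =>
    ⟨d i, d' i, hD.2.2.1 i, by rw [mul_comm]; exact hD.2.2.1 i⟩
  obtain ⟨S₂, _, _, het₂, hff₂, y, hy⟩ := OddStd.exists_sqrt_family S hsq n (Localization.Away g) du
  letI : Algebra S S₂ := ((algebraMap (Localization.Away g) S₂).comp
    (algebraMap S (Localization.Away g))).toAlgebra
  haveI : IsScalarTower S (Localization.Away g) S₂ := IsScalarTower.of_algebraMap_eq (fun _ => rfl)
  haveI : Algebra.Etale S S₂ := Algebra.Etale.comp S (Localization.Away g) S₂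
  refine ⟨S₂, inferInstance, inferInstance, inferInstance, ?_, ?_⟩
  · have h1 : q ∈ Set.range (PrimeSpectrum.comap (algebraMap S (Localization.Away g))) := by
      rw [PrimeSpectrum.localization_away_comap_range (Localization.Away g) g]
      exact hg
    obtain ⟨q₁, hq₁⟩ := h1
    obtain ⟨q₂, hq₂⟩ := PrimeSpectrum.comap_surjective_of_faithfullyFlat
      (A := Localization.Away g) (B := S₂) q₁
    refine ⟨q₂, ?_⟩
    rw [← hq₁, ← hq₂]
    rfl
  · let f : Localization.Away g →ₐ[S] S₂ := IsScalarTower.toAlgHom S (Localization.Away g) S₂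
    exact HermStd.stdOver_of_diagDataX S R lam A t n e₀ w he₀ hw S₂ _ _ _ _
      (HermStd.diagDataX_map S R lam A t n e₀ w (Localization.Away g) S₂ f p p' d d' hD) y hy

include hfix in
theorem two_notMem_jacobson (h2 : IsUnit (2 : S)) (q : PrimeSpectrum S) :
    (1 : Localization.AtPrime q.asIdeal ⊗[S] R) + 1 ∉
      Ring.jacobson (Localization.AtPrime q.asIdeal ⊗[S] R) := by
  intro hmem
  apply Herm.jacobson_ne_top (Localization.AtPrime q.asIdeal)
    (Localization.AtPrime q.asIdeal ⊗[S] R)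
    (RInvB.lamBC lam (Localization.AtPrime q.asIdeal)).toRingEquiv
    (RInvB.isFixedRing_lamBC lam hfix (Localization.AtPrime q.asIdeal))
  apply Ideal.eq_top_of_isUnit_mem _ hmem
  have := h2.map (algebraMap S (Localization.AtPrime q.asIdeal ⊗[S] R))
  rwa [map_ofNat, ← one_add_one_eq_two] at this

end CoreH

section Kind

variable (S : Type u) (R : Type v) [CommRing S] [CommRing R] [Algebra S R]
  (lam : R ≃ₐ[S] R) (hlam : ∀ r, lam (lam r) = r)
  (A : Type w) [Ring A] [Algebra S A] [Algebra R A] [IsScalarTower S R A]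
  (t : LamInv R A lam) (n : ℕ)

/-- orthogonal or symplectic standard form on an étale neighbourhood of `q`. -/
def Kind2At (q : PrimeSpectrum S) : Prop :=
  StdInv.StdAt S R lam A t n q ∨
    ∃ (κ : Type) (_ : Fintype κ) (_ : DecidableEq κ), 2 * Fintype.card κ = n ∧
      StdP.StdAtP S R lam A t (SympStd.flip κ) (SympStd.sgJ κ) q

theorem Kind2At.of_bc (S₁ : Type u) [CommRing S₁] [Algebra S S₁] [Algebra.Etale S S₁]
    (q₁ : PrimeSpectrum S₁)
    (h : Kind2At S₁ (S₁ ⊗[S] R) (RInvB.lamBC lam S₁) (S₁ ⊗[S] A)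
      (StdInv.bcInv S R lam hlam A t S₁) n q₁) :
    Kind2At S R lam A t n (q₁.comap (algebraMap S S₁)) := by
  rcases h with h | ⟨κ, _, _, hκ, h⟩
  · exact Or.inl (StdInv.StdAt_of_bc S R lam hlam A t n S₁ q₁ h)
  · exact Or.inr ⟨κ, inferInstance, inferInstance, hκ,
      StdP.stdAtP_of_bc S R lam hlam A t _ _ S₁ q₁ h⟩

end Kind

section Split

variable (S : Type u) (R : Type (max u v)) [CommRing S] [CommRing R] [Algebra S R]
  (lam : R ≃ₐ[S] R) (hlam : ∀ r, lam (lam r) = r)
  (hfix : RInv.IsFixedRing S R lam.toRingEquiv)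
  (A : Type w) [Ring A] [Algebra S A] [Algebra R A] [IsScalarTower S R A]
  (t : LamInv R A lam) (n : ℕ)

include hlam hfix in
theorem splitR_aux (h2 : IsUnit (2 : S)) (hsq : OddStd.HasSqrt S) (hn : 0 < n)
    (hA : IsAzumayaDeg R A n) (e₀ : Fin n → Fin n → A) (he₀ : Spread.IsMatUnits e₀) (u : Aˣ)
    (hu : ∀ i j, t (e₀ i j) = ↑u * e₀ j i * ↑u⁻¹)
    (q : PrimeSpectrum S) (hram : RInvB.RamP lam q.asIdeal)
    (P : Ideal R) (hPp : P.IsPrime) (hP : P.comap (algebraMap S R) = q.asIdeal)
    (ε : R) (htu : t (↑u : A) = ε • (↑u : A)) (b η : R) (hb : b ∉ P)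
    (hbε : lam b * ε = η * b) (hη : η = 1 ∨ η = -1) : Kind2At S R lam A t n q := by
  obtain ⟨s, hs⟩ := RInvB.exists_nm lam hlam hfix b
  have hsq' : s ∉ q.asIdeal := SkewStd.norm_notMem lam q.asIdeal P hP hram b hb s hs
  haveI : Algebra.Etale S (Localization.Away s) := Algebra.Etale.of_isLocalizationAway s
  have h1 : q ∈ Set.range (PrimeSpectrum.comap (algebraMap S (Localization.Away s))) := by
    rw [PrimeSpectrum.localization_away_comap_range (Localization.Away s) s]
    exact hsq'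
  obtain ⟨q₁, hq₁⟩ := h1
  rw [← hq₁]
  apply Kind2At.of_bc S R lam hlam A t n (Localization.Away s) q₁
  obtain ⟨b', hb'⟩ := SkewStd.exists_inv_away lam b s hs
  let cu : (Localization.Away s ⊗[S] R)ˣ :=
    ⟨SkewStd.inc S R (Localization.Away s) b, b', hb', by rw [mul_comm]; exact hb'⟩
  have hA₁ := AzBC.isAzumayaDeg_bc S R A (Localization.Away s) n hA
  have hlam₁ := RInvB.lamBC_lamBC lam hlam (Localization.Away s)
  have hfix₁ := RInvB.isFixedRing_lamBC lam hfix (Localization.Away s)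
  have hE : Spread.IsMatUnits (fun i j => (1 : Localization.Away s) ⊗ₜ[S] e₀ i j) :=
    he₀.map (Algebra.TensorProduct.includeRight : A →ₐ[S] Localization.Away s ⊗[S] A).toRingHom
  let uS : (Localization.Away s ⊗[S] A)ˣ :=
    Units.map (Algebra.TensorProduct.includeRight :
      A →ₐ[S] Localization.Away s ⊗[S] A).toRingHom.toMonoidHom u
  have huS : (↑uS : Localization.Away s ⊗[S] A) = (1 : Localization.Away s) ⊗ₜ[S] (↑u : A) := rfl
  have huS' : (↑uS⁻¹ : Localization.Away s ⊗[S] A) =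
      (1 : Localization.Away s) ⊗ₜ[S] (↑u⁻¹ : A) := rfl
  have hEt : ∀ i j, StdInv.bcInv S R lam hlam A t (Localization.Away s)
      ((1 : Localization.Away s) ⊗ₜ[S] e₀ i j) =
      ↑uS * ((1 : Localization.Away s) ⊗ₜ[S] e₀ j i) * ↑uS⁻¹ := by
    intro i j
    rw [StdInv.bcInv_apply, LamInv.bc_tmul, hu, huS, huS', Algebra.TensorProduct.tmul_mul_tmul,
      Algebra.TensorProduct.tmul_mul_tmul, one_mul, one_mul]
  have htu₁ : StdInv.bcInv S R lam hlam A t (Localization.Away s) (↑uS : Localization.Away s ⊗[S] A) =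
      SkewStd.inc S R (Localization.Away s) ε • (↑uS : Localization.Away s ⊗[S] A) := by
    rw [StdInv.bcInv_apply, huS, LamInv.bc_tmul, htu, SympStd.inc_smul]
  have hc₁ : RInvB.lamBC lam (Localization.Away s) (↑cu : Localization.Away s ⊗[S] R) *
      SkewStd.inc S R (Localization.Away s) ε =
      SkewStd.inc S R (Localization.Away s) η * ↑cu := by
    show SkewStd.inc S R (Localization.Away s) (lam b) * SkewStd.inc S R (Localization.Away s) ε =
      SkewStd.inc S R (Localization.Away s) η * SkewStd.inc S R (Localization.Away s) b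
    rw [← map_mul, ← map_mul, hbε]
  obtain ⟨w₁, hw₁, htw₁⟩ := adjust (Localization.Away s) (Localization.Away s ⊗[S] R)
    (RInvB.lamBC lam (Localization.Away s)) (Localization.Away s ⊗[S] A)
    (StdInv.bcInv S R lam hlam A t (Localization.Away s)) n
    (fun i j => (1 : Localization.Away s) ⊗ₜ[S] e₀ i j) uS hEt _ htu₁ cu _ hc₁
  have h2₁ : IsUnit (2 : Localization.Away s) := by
    have := h2.map (algebraMap S (Localization.Away s))
    rwa [map_ofNat] at this
  rcases hη with rfl | rfl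
  · left
    have htw₁' : StdInv.bcInv S R lam hlam A t (Localization.Away s)
        (↑w₁ : Localization.Away s ⊗[S] A) = ↑w₁ := by
      rw [htw₁, map_one, Algebra.smul_def, map_one, one_mul]
    exact coreH (Localization.Away s) (Localization.Away s ⊗[S] R)
      (RInvB.lamBC lam (Localization.Away s)) hlam₁ hfix₁ (Localization.Away s ⊗[S] A)
      (StdInv.bcInv S R lam hlam A t (Localization.Away s)) n
      (OddStd.hasSqrt_bc S hsq (Localization.Away s)) hn hA₁ _ hE w₁ hw₁ htw₁' q₁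
      (Or.inr (Or.inl (two_notMem_jacobson (Localization.Away s) (Localization.Away s ⊗[S] R)
        (RInvB.lamBC lam (Localization.Away s)) hfix₁ h2₁ q₁)))
  · right
    have htw₁' : StdInv.bcInv S R lam hlam A t (Localization.Away s)
        (↑w₁ : Localization.Away s ⊗[S] A) = -↑w₁ := by
      rw [htw₁, map_neg, map_one, Algebra.smul_def, map_neg, map_one]
      exact neg_one_mul _
    exact SympStd.coreK.{u, v, max u w} (Localization.Away s) (Localization.Away s ⊗[S] R)
      (RInvB.lamBC lam (Localization.Away s)) hlam₁ hfix₁ (Localization.Away s ⊗[S] A)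
      (StdInv.bcInv S R lam hlam A t (Localization.Away s)) n h2₁
      (OddStd.hasSqrt_bc S hsq (Localization.Away s)) hn hA₁ _ hE w₁ hw₁ htw₁' q₁
      (RInvB.ramP_lamBC lam (Localization.Away s) q.asIdeal hram q₁.asIdeal
        (congrArg PrimeSpectrum.asIdeal hq₁))

include hlam hfix in
/-- at a ramified prime the involution is orthogonal or symplectic standard étale-locally
(global matrix units and global inner unit). -/
theorem splitR (h2 : IsUnit (2 : S)) (hsq : OddStd.HasSqrt S) (hn : 0 < n)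
    (hA : IsAzumayaDeg R A n) (e₀ : Fin n → Fin n → A) (he₀ : Spread.IsMatUnits e₀) (u : Aˣ)
    (hu : ∀ i j, t (e₀ i j) = ↑u * e₀ j i * ↑u⁻¹)
    (q : PrimeSpectrum S) (hram : RInvB.RamP lam q.asIdeal) : Kind2At S R lam A t n q := by
  obtain ⟨ε, htu, hεε⟩ := exists_eps S R lam hlam A t n hn hA e₀ he₀ u hu
  haveI := q.isPrime
  obtain ⟨P, hPp, hP⟩ := RInvB.exists_prime_over lam hlam hfix q.asIdeal
  have hr : ε - lam ε ∈ P := hram P hPp hP ε
  have hprod : (ε - 1) * (ε + 1) ∈ P := by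
    have : (ε - 1) * (ε + 1) = ε * (ε - lam ε) := by linear_combination hεε
    rw [this]
    exact P.mul_mem_left _ hr
  have h2P : (2 : R) ∉ P := by
    intro h
    have h2R : IsUnit (2 : R) := by
      have := h2.map (algebraMap S R)
      rwa [map_ofNat] at this
    exact hPp.ne_top (Ideal.eq_top_of_isUnit_mem _ h h2R)
  rcases hPp.mem_or_mem hprod with h | h
  · refine splitR_aux.{u, v, w} S R lam hlam hfix A t n h2 hsq hn hA e₀ he₀ u hu q hram P hPp hP ε
      htu (1 + ε) 1 ?_ ?_ (Or.inl rfl)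
    · intro hb
      apply h2P
      have : (2 : R) = (1 + ε) - (ε - 1) := by ring
      rw [this]
      exact P.sub_mem hb h
    · rw [map_add, map_one, add_mul, one_mul, hεε, one_mul, add_comm]
  · refine splitR_aux.{u, v, w} S R lam hlam hfix A t n h2 hsq hn hA e₀ he₀ u hu q hram P hPp hP ε
      htu (1 - ε) (-1) ?_ ?_ (Or.inr rfl)
    · intro hb
      apply h2P
      have : (2 : R) = (1 - ε) + (ε + 1) := by ring
      rw [this]
      exact P.add_mem hb h
    · rw [map_sub, map_one, sub_mul, one_mul, hεε]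
      ring

end Split

section Unram

variable (S : Type u) (R : Type v) [CommRing S] [CommRing R] [Algebra S R]
  (lam : R ≃ₐ[S] R) (hlam : ∀ r, lam (lam r) = r)
  (hfix : RInv.IsFixedRing S R lam.toRingEquiv)
  (A : Type w) [Ring A] [Algebra S A] [Algebra R A] [IsScalarTower S R A]
  (t : LamInv R A lam) (n : ℕ)

include hlam hfix in
/-- in the quadratic étale case every involution is standard étale-locally. -/
theorem stdAt_of_isQuadEtale (hq : RInv.IsQuadEtale S R) (hn : 0 < n) (hA : IsAzumayaDeg R A n)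
    (q : PrimeSpectrum S) : StdInv.StdAt S R lam A t n q := by
  haveI := AzQE.etale_of_isQuadEtale S R hq
  haveI := AzQE.faithfullyFlat_of_isQuadEtale S R hq
  obtain ⟨e₀, h1, h2, h3, h4⟩ := AzQE.exists_e₀ lam hlam hfix hq
  obtain ⟨S', _, _, _, _, het, hff, ⟨ρ⟩⟩ := AzQE.exists_split_data S R A n hn hA
  haveI : Nonempty (Fin n) := ⟨⟨0, hn⟩⟩
  have hA₂ : IsAzumayaDeg R (Matrix (Fin n) (Fin n) R) n := by
    refine ⟨IsAzumaya.matrix R (Fin n), fun p => ?_⟩
    haveI : Nontrivial R := p.nontrivial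
    rw [Module.rankAtStalk_eq_finrank_of_free]
    simp [Module.finrank_matrix, pow_two]
  let ρ₂ : Matrix (Fin n) (Fin n) R →ₐ[R] Matrix (Fin n) (Fin n) S' :=
    (Algebra.ofId R S').mapMatrix
  obtain ⟨f, hf1, hf2⟩ := AzQE.exists_iso lam hlam t
    ((LamInv.self lam hlam).matrix (Fin n)) S' ρ ρ₂ e₀ h1 h2 h3 h4
    (AzQE.phi_bijective_of_azumaya S' hn hA ρ) (AzQE.phi_bijective_of_azumaya S' hn hA₂ ρ₂)
  obtain ⟨eM, heM, hteM⟩ := StdInv.stdOver_matrix S R lam hlam n S'
  obtain ⟨q', hq'⟩ := PrimeSpectrum.comap_surjective_of_faithfullyFlat (A := S) (B := S') q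
  refine ⟨S', inferInstance, inferInstance, het, ⟨q', hq'⟩, fun i j => f.symm (eM i j),
    heM.map (f.symm : S' ⊗[S] Matrix (Fin n) (Fin n) R →+* S' ⊗[S] A), ?_⟩
  intro i j
  apply f.injective
  rw [hf2, AlgEquiv.apply_symm_apply, AlgEquiv.apply_symm_apply, hteM]

include hlam hfix in
/-- at an unramified prime every involution is standard étale-locally. -/
theorem stdAt_unram (hn : 0 < n) (hA : IsAzumayaDeg R A n) (q : PrimeSpectrum S)
    (r₀ : R) (s : S) (hs : algebraMap S R s = (r₀ - lam r₀) ^ 2) (hsq : s ∉ q.asIdeal) :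
    StdInv.StdAt S R lam A t n q := by
  haveI : Algebra.Etale S (Localization.Away s) := Algebra.Etale.of_isLocalizationAway s
  have h1 : q ∈ Set.range (PrimeSpectrum.comap (algebraMap S (Localization.Away s))) := by
    rw [PrimeSpectrum.localization_away_comap_range (Localization.Away s) s]
    exact hsq
  obtain ⟨q₁, hq₁⟩ := h1
  rw [← hq₁]
  apply StdInv.StdAt_of_bc S R lam hlam A t n (Localization.Away s) q₁
  exact stdAt_of_isQuadEtale (Localization.Away s) (Localization.Away s ⊗[S] R)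
    (RInvB.lamBC lam (Localization.Away s)) (RInvB.lamBC_lamBC lam hlam (Localization.Away s))
    (RInvB.isFixedRing_lamBC lam hfix (Localization.Away s)) (Localization.Away s ⊗[S] A)
    (StdInv.bcInv S R lam hlam A t (Localization.Away s)) n
    (RInvT1.isQuadEtale_of_isUnit_sq S R lam hlam hfix r₀ s hs (Localization.Away s)
      (IsLocalization.Away.algebraMap_isUnit s)) hn
    (AzBC.isAzumayaDeg_bc S R A (Localization.Away s) n hA) q₁

end Unram

section SplitG

variable (S : Type u) (R : Type (max u v)) [CommRing S] [CommRing R] [Algebra S R]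
  (lam : R ≃ₐ[S] R) (hlam : ∀ r, lam (lam r) = r)
  (hfix : RInv.IsFixedRing S R lam.toRingEquiv)
  (A : Type w) [Ring A] [Algebra S A] [Algebra R A] [IsScalarTower S R A]
  (t : LamInv R A lam) (n : ℕ)

include hlam hfix in
/-- ramified prime, global matrix units. -/
theorem splitG (h2 : IsUnit (2 : S)) (hsq : OddStd.HasSqrt S) (hn : 0 < n)
    (hA : IsAzumayaDeg R A n) (e₀ : Fin n → Fin n → A) (he₀ : Spread.IsMatUnits e₀)
    (q : PrimeSpectrum S) (hram : RInvB.RamP lam q.asIdeal) : Kind2At S R lam A t n q := by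
  haveI : IsAzumaya R A := hA.1
  haveI : Module.Finite R A := inferInstance
  have he' : Spread.IsMatUnits (fun i j => t (e₀ j i)) := OddStd.isMatUnits_t S R lam A t n e₀ he₀
  let ψ : A ≃ₐ[R] A := (OddStd.matIso₀ R A n hn hA e₀ he₀).symm.trans
    (OddStd.matIso₀ R A n hn hA (fun i j => t (e₀ j i)) he')
  have hψ : ∀ i j, ψ (e₀ i j) = t (e₀ j i) := by
    intro i j
    have h1 : OddStd.matIso₀ R A n hn hA e₀ he₀ (Matrix.single i j 1) = e₀ i j := by
      rw [OddStd.matIso₀_single, one_smul]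
    show OddStd.matIso₀ R A n hn hA (fun i j => t (e₀ j i)) he'
      ((OddStd.matIso₀ R A n hn hA e₀ he₀).symm (e₀ i j)) = _
    rw [← h1, AlgEquiv.symm_apply_apply, OddStd.matIso₀_single, one_smul]
  obtain ⟨u, hu⟩ := InnLoc.inner_of_local S R lam hlam hfix A (Localization.AtPrime q.asIdeal) n
    hA ψ
  obtain ⟨g, hg, u₁, hu₁⟩ := InnLoc.spread S R A q.asIdeal ψ u hu
  haveI : Algebra.Etale S (Localization.Away g) := Algebra.Etale.of_isLocalizationAway g
  have hA₁ := AzBC.isAzumayaDeg_bc S R A (Localization.Away g) n hA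
  have hlam₁ := RInvB.lamBC_lamBC lam hlam (Localization.Away g)
  have hfix₁ := RInvB.isFixedRing_lamBC lam hfix (Localization.Away g)
  have hE : Spread.IsMatUnits (fun i j => (1 : Localization.Away g) ⊗ₜ[S] e₀ i j) :=
    he₀.map (Algebra.TensorProduct.includeRight : A →ₐ[S] Localization.Away g ⊗[S] A).toRingHom
  have hEt : ∀ i j, StdInv.bcInv S R lam hlam A t (Localization.Away g)
      ((1 : Localization.Away g) ⊗ₜ[S] e₀ i j) =
      ↑u₁ * ((1 : Localization.Away g) ⊗ₜ[S] e₀ j i) * ↑u₁⁻¹ := by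
    intro i j
    rw [StdInv.bcInv_apply, LamInv.bc_tmul, ← hψ, ← InnLoc.bcAut_tmul S R A, hu₁]
  have h1 : q ∈ Set.range (PrimeSpectrum.comap (algebraMap S (Localization.Away g))) := by
    rw [PrimeSpectrum.localization_away_comap_range (Localization.Away g) g]
    exact hg
  obtain ⟨q₁, hq₁⟩ := h1
  rw [← hq₁]
  apply Kind2At.of_bc S R lam hlam A t n (Localization.Away g) q₁
  exact splitR.{u, v, max u w} (Localization.Away g) (Localization.Away g ⊗[S] R)
    (RInvB.lamBC lam (Localization.Away g)) hlam₁ hfix₁ (Localization.Away g ⊗[S] A)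
    (StdInv.bcInv S R lam hlam A t (Localization.Away g)) n
    (by have := h2.map (algebraMap S (Localization.Away g)); rwa [map_ofNat] at this)
    (OddStd.hasSqrt_bc S hsq (Localization.Away g)) hn hA₁ _ hE u₁ hEt q₁
    (RInvB.ramP_lamBC lam (Localization.Away g) q.asIdeal hram q₁.asIdeal
      (congrArg PrimeSpectrum.asIdeal hq₁))

end SplitG

section L1

variable (S : Type u) (R : Type v) [CommRing S] [CommRing R] [Algebra S R]
  (lam : R ≃ₐ[S] R) (hlam : ∀ r, lam (lam r) = r)
  (hfix : RInv.IsFixedRing S R lam.toRingEquiv)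
  (A : Type w) [Ring A] [Algebra S A] [Algebra R A] [IsScalarTower S R A]
  (t : LamInv R A lam) (n : ℕ)

include hlam hfix in
/-- the local structure theorem when `2` is invertible. -/
theorem L1 (h2 : IsUnit (2 : S)) (hsq : OddStd.HasSqrt S) (hn : 0 < n)
    (hA : IsAzumayaDeg R A n) (q : PrimeSpectrum S) : Kind2At S R lam A t n q := by
  haveI := q.isPrime
  rcases RInvB.ramP_or_exists lam hlam hfix q.asIdeal with hram | ⟨r₀, s, hs, hsq'⟩
  · obtain ⟨S', _, _, het, ⟨q', hq'⟩, e, he⟩ := AzSplit.LG_all S R lam hlam hfix A n hn hA q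
    rw [← hq']
    apply Kind2At.of_bc S R lam hlam A t n S' q'
    exact splitG.{u, v, max u w} S' (S' ⊗[S] R) (RInvB.lamBC lam S')
      (RInvB.lamBC_lamBC lam hlam S') (RInvB.isFixedRing_lamBC lam hfix S') (S' ⊗[S] A)
      (StdInv.bcInv S R lam hlam A t S') n
      (by have := h2.map (algebraMap S S'); rwa [map_ofNat] at this)
      (OddStd.hasSqrt_bc S hsq S') hn (AzBC.isAzumayaDeg_bc S R A S' n hA) e he q'
      (RInvB.ramP_lamBC lam S' q.asIdeal hram q'.asIdeal (congrArg PrimeSpectrum.asIdeal hq'))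
  · exact Or.inl (stdAt_unram S R lam hlam hfix A t n hn hA q r₀ s hs hsq')

end L1

end Groth.Agent.H7.RamStd
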