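import Mathlib
import Groth.Prelude.Def_AzInv
import Groth.Prelude.Def_W4c2azumayainvolQEt
import Groth.Agent.Lib.Helper7.Kind
import Groth.Agent.Lib.Helper7.EtNb
import Groth.Agent.Lib.Helper7.RamStd

/-! Assembly: local isomorphism from equal kinds; contradiction from different kinds. -/

set_option autoImplicit false
open scoped TensorProduct
open AzInv

namespace Groth.Agent.H7.SameKind

universe u v w w'

section A

variable (S : Type u) (R : Type v) [CommRing S] [CommRing R] [Algebra S R]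
  (lam : R ≃ₐ[S] R) (hlam : ∀ r, lam (lam r) = r)
  (hfix : RInv.IsFixedRing S R lam.toRingEquiv)
  (A : Type w) [Ring A] [Algebra S A] [Algebra R A] [IsScalarTower S R A]
  (A' : Type w') [Ring A'] [Algebra S A'] [Algebra R A'] [IsScalarTower S R A']
  (t : LamInv R A lam) (t' : LamInv R A' lam)

/-- equal normal forms near `q` give an isomorphism near `q`. -/
theorem isoAt_of_stdAtP (n : ℕ) (hn : 0 < n) (hA : IsAzumayaDeg R A n) (hA' : IsAzumayaDeg R A' n)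
    {ι : Type} [Fintype ι] [DecidableEq ι] (hι : Fintype.card ι = n) (π : ι → ι) (sg : ι → ℤ)
    (q : PrimeSpectrum S) (h : StdP.StdAtP S R lam A t π sg q)
    (h' : StdP.StdAtP S R lam A' t' π sg q) : IsoOv.IsoAt S R lam A A' t t' q := by
  obtain ⟨S', _, _, het, hq', h1, h2⟩ := EtNb.EtAt.and S
    (fun S' _ _ => StdP.StdOverP S R lam A t π sg S')
    (fun S' _ _ => StdP.StdOverP S R lam A' t' π sg S')
    (fun S' S'' _ _ _ _ f hP => StdP.stdOverP_map S R lam A t π sg S' S'' f hP)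
    (fun S' S'' _ _ _ _ f hP => StdP.stdOverP_map S R lam A' t' π sg S' S'' f hP) q h h'
  exact ⟨S', inferInstance, inferInstance, het, hq',
    StdP.exists_iso_of_stdP S R lam A A' t t' n π sg hn hA hA' hι S' h1 h2⟩

theorem isoAt_of_stdAt (n : ℕ) (hn : 0 < n) (hA : IsAzumayaDeg R A n) (hA' : IsAzumayaDeg R A' n)
    (q : PrimeSpectrum S) (h : StdInv.StdAt S R lam A t n q)
    (h' : StdInv.StdAt S R lam A' t' n q) : IsoOv.IsoAt S R lam A A' t t' q :=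
  isoAt_of_stdAtP S R lam A A' t t' n hn hA hA' (Fintype.card_fin n) id (fun _ => 1) q
    (StdP.stdAtP_of_stdAt S R lam A t n q h) (StdP.stdAtP_of_stdAt S R lam A' t' n q h')

/-- the symplectic kind near `q` in canonical indexing. -/
theorem kmAt_of_flip (κ : Type) [Fintype κ] [DecidableEq κ] (k : ℕ) (hκ : Fintype.card κ = k)
    (q : PrimeSpectrum S)
    (h : StdP.StdAtP S R lam A t (SympStd.flip κ) (SympStd.sgJ κ) q) :
    StdP.StdAtP S R lam A t (SympStd.flip (Fin k)) (SympStd.sgJ (Fin k)) q := by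
  obtain ⟨S', _, _, het, hq', h1⟩ := h
  exact ⟨S', inferInstance, inferInstance, het, hq', Kind.km_of_flip S R lam A t κ k hκ S' h1⟩

end A

section Excl

variable (S : Type u) (R : Type v) [CommRing S] [CommRing R] [Algebra S R]
  (lam : R ≃ₐ[S] R) (hlam : ∀ r, lam (lam r) = r)
  (hfix : RInv.IsFixedRing S R lam.toRingEquiv)
  (A₁ : Type w) [Ring A₁] [Algebra S A₁] [Algebra R A₁] [IsScalarTower S R A₁]
  (A₂ : Type w') [Ring A₂] [Algebra S A₂] [Algebra R A₂] [IsScalarTower S R A₂]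
  (t₁ : LamInv R A₁ lam) (t₂ : LamInv R A₂ lam)

include hlam hfix in
/-- an orthogonal and a symplectic involution are not of the same type near a ramified prime. -/
theorem false_of_kp_km (h2 : IsUnit (2 : S)) (q : PrimeSpectrum S)
    (hram : RInvB.RamP lam q.asIdeal) (N₁ k₂ m₁ m₂ : ℕ) (hN₁ : 0 < N₁) (hk₂ : 0 < k₂)
    (hm₁ : 0 < m₁) (hm₂ : 0 < m₂)
    (hA₁ : IsAzumayaDeg R A₁ N₁) (hA₂ : IsAzumayaDeg R A₂ (2 * k₂))
    (h₁ : StdP.StdAtP S R lam A₁ t₁ (ι := Fin N₁) id (fun _ => 1) q)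
    (h₂ : StdP.StdAtP S R lam A₂ t₂ (SympStd.flip (Fin k₂)) (SympStd.sgJ (Fin k₂)) q)
    (hiso : IsoOv.IsoAt S R lam (Matrix (Fin m₁) (Fin m₁) A₁) (Matrix (Fin m₂) (Fin m₂) A₂)
      (t₁.matrix (Fin m₁)) (t₂.matrix (Fin m₂)) q) : False := by
  obtain ⟨S', _, _, het, hq', h12⟩ := EtNb.EtAt.and S
    (fun S' _ _ => StdP.StdOverP S R lam A₁ t₁ (ι := Fin N₁) id (fun _ => 1) S')
    (fun S' _ _ => StdP.StdOverP S R lam A₂ t₂ (SympStd.flip (Fin k₂)) (SympStd.sgJ (Fin k₂)) S')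
    (fun S' S'' _ _ _ _ f hP => StdP.stdOverP_map S R lam A₁ t₁ _ _ S' S'' f hP)
    (fun S' S'' _ _ _ _ f hP => StdP.stdOverP_map S R lam A₂ t₂ _ _ S' S'' f hP) q h₁ h₂
  obtain ⟨C, _, _, hetC, ⟨qC, hqC⟩, ⟨hC1, hC2⟩, hC3⟩ := EtNb.EtAt.and S
    (fun S' _ _ => StdP.StdOverP S R lam A₁ t₁ (ι := Fin N₁) id (fun _ => 1) S' ∧
      StdP.StdOverP S R lam A₂ t₂ (SympStd.flip (Fin k₂)) (SympStd.sgJ (Fin k₂)) S')
    (fun S' _ _ => IsoOv.IsoOver S R lam (Matrix (Fin m₁) (Fin m₁) A₁)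
      (Matrix (Fin m₂) (Fin m₂) A₂) (t₁.matrix (Fin m₁)) (t₂.matrix (Fin m₂)) S')
    (fun S' S'' _ _ _ _ f hP => ⟨StdP.stdOverP_map S R lam A₁ t₁ _ _ S' S'' f hP.1,
      StdP.stdOverP_map S R lam A₂ t₂ _ _ S' S'' f hP.2⟩)
    (fun S' S'' _ _ _ _ f hP => IsoOv.IsoOver.map S R lam hlam _ _ _ _ S' S'' f hP) q
    ⟨S', inferInstance, inferInstance, het, hq', h12⟩ hiso
  have hA₂' : IsAzumayaDeg R (Matrix (Fin m₂) (Fin m₂) A₂) (2 * (m₂ * k₂)) := by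
    have := Ampl.isAzumayaDeg_matrix R A₂ m₂ (2 * k₂) hm₂ hA₂
    rwa [show m₂ * (2 * k₂) = 2 * (m₂ * k₂) by ring] at this
  exact Kind.excl_ram S R lam hlam hfix (Matrix (Fin m₁) (Fin m₁) A₁)
    (Matrix (Fin m₂) (Fin m₂) A₂) (t₁.matrix (Fin m₁)) (t₂.matrix (Fin m₂)) C h2 q hram qC hqC
    (m₁ * N₁) (m₂ * k₂) (Nat.mul_pos hm₁ hN₁) (Nat.mul_pos hm₂ hk₂)
    (Ampl.isAzumayaDeg_matrix R A₁ m₁ N₁ hm₁ hA₁) hA₂' hC3
    (Kind.kp_matrix S R lam A₁ t₁ m₁ N₁ C hC1) (Kind.km_matrix S R lam A₂ t₂ m₂ k₂ C hC2)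

end Excl

end Groth.Agent.H7.SameKind
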