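import Mathlib
import Groth.Agent.Lib.Helper7.OddStd
import Groth.Agent.Lib.Helper7.MaxEt

/-! When `2` is invertible, units have square roots étale-locally. -/

set_option autoImplicit false
open scoped TensorProduct
open Polynomial

namespace Groth.Agent.H7.SqrtTwo

universe u

theorem exists_sqrt (S₁ : Type u) [CommRing S₁] (h2 : IsUnit (2 : S₁)) (x : S₁ˣ) :
    ∃ (S₂ : Type u) (_ : CommRing S₂) (_ : Algebra S₁ S₂) (_ : Algebra.Etale S₁ S₂)
      (_ : Module.FaithfullyFlat S₁ S₂) (y : S₂), y * y = algebraMap S₁ S₂ ↑x := by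
  rcases subsingleton_or_nontrivial S₁ with hs | hn
  · exact ⟨S₁, inferInstance, inferInstance, inferInstance, inferInstance, 0,
      Subsingleton.elim _ _⟩
  · obtain ⟨u2, hu2⟩ := h2
    set P : S₁[X] := X ^ 2 - C (x : S₁) with hP
    have hmonic : P.Monic := by
      rw [hP]
      exact monic_X_pow_sub_C _ (by norm_num)
    have hdeg : P.natDegree = 2 := by
      rw [hP]
      exact natDegree_X_pow_sub_C
    have hsep : P.Separable := by
      refine ⟨C (-(↑x⁻¹ : S₁)), C ((↑u2⁻¹ : S₁) * (↑x⁻¹ : S₁)) * X, ?_⟩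
      rw [hP]
      simp only [derivative_sub, derivative_X_pow, derivative_C, sub_zero, Nat.cast_ofNat]
      have e1 : (C (↑u2 : S₁) : S₁[X]) = 2 := by rw [hu2]; rfl
      have h1 : C (↑x⁻¹ : S₁) * C (↑x : S₁) = (1 : S₁[X]) := by
        rw [← C_mul, Units.inv_mul, C_1]
      have h2 : C (↑u2⁻¹ : S₁) * (2 : S₁[X]) = 1 := by
        rw [← e1, ← C_mul, Units.inv_mul, C_1]
      have e2 : (C (2 : S₁) : S₁[X]) = 2 := map_ofNat C 2
      simp only [C_neg, C_mul, e2]
      linear_combination (1 - X ^ 2 * C (↑x⁻¹ : S₁)) * 0 + h1 + X ^ 2 * C (↑x⁻¹ : S₁) * h2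
    haveI := MaxEt.etale_adjoinRoot P hmonic hsep
    haveI : Module.Free S₁ (AdjoinRoot P) := hmonic.free_adjoinRoot
    haveI : Nontrivial (AdjoinRoot P) := by
      have hb := (AdjoinRoot.powerBasis' hmonic).basis.ne_zero ⟨0, by
        rw [AdjoinRoot.powerBasis'_dim, hdeg]; norm_num⟩
      exact ⟨⟨_, 0, hb⟩⟩
    refine ⟨AdjoinRoot P, inferInstance, inferInstance, inferInstance, inferInstance,
      AdjoinRoot.root P, ?_⟩
    have h := AdjoinRoot.eval₂_root P
    rw [hP, eval₂_sub, eval₂_X_pow, eval₂_C, sub_eq_zero] at h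
    rw [← pow_two, h]
    rfl

theorem hasSqrt_of_two (S : Type u) [CommRing S] (h2 : IsUnit (2 : S)) : OddStd.HasSqrt S := by
  intro S₁ _ _ _ x
  have h2' : IsUnit (2 : S₁) := by
    have := h2.map (algebraMap S S₁)
    rwa [map_ofNat] at this
  exact exists_sqrt S₁ h2' x

end Groth.Agent.H7.SqrtTwo
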