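import Mathlib
import Groth.Prelude.Def_AzInv
import Groth.Prelude.Def_W4c2azumayainvolQEt
import Groth.Agent.Lib.Helper7.SameKind
import Groth.Agent.Lib.Helper7.SqrtTwo
import Groth.Agent.Lib.Helper7.AzOrthSymp

/-! Involutions of the first kind over a connected base: orthogonal or symplectic. -/

set_option autoImplicit false
open scoped TensorProduct
open AzInv

namespace Groth.Agent.H7.Conn

universe u v w u'

section Open

variable (S : Type u) [CommRing S]

theorem isOpen_etAt (P : ∀ (S' : Type u) [CommRing S'] [Algebra S S'], Prop) :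
    IsOpen {q : PrimeSpectrum S | EtNb.EtAt S P q} := by
  rw [isOpen_iff_forall_mem_open]
  rintro q ⟨S', _, _, het, ⟨q', hq'⟩, hP⟩
  refine ⟨Set.range (PrimeSpectrum.comap (algebraMap S S')), ?_, ?_, ⟨q', hq'⟩⟩
  · rintro _ ⟨q'', rfl⟩
    exact ⟨S', inferInstance, inferInstance, het, ⟨q'', rfl⟩, hP⟩
  · exact (PrimeSpectrum.isOpenMap_comap_of_hasGoingDown_of_finitePresentation (R := S)
      (S := S')).isOpen_range

end Open

section Model

variable (R : Type u) [CommRing R]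
  (hlam : ∀ r : R, (AlgEquiv.refl : R ≃ₐ[R] R) ((AlgEquiv.refl : R ≃ₐ[R] R) r) = r)
  (J : (Matrix (Fin 2) (Fin 2) R)ˣ)
  (hJ : (↑J : Matrix (Fin 2) (Fin 2) R) = Matrix.of ![![0, -1], ![1, 0]])
  (hJt : LamInv.transpose (AlgEquiv.refl : R ≃ₐ[R] R) (Fin 2) hlam
    (↑J : Matrix (Fin 2) (Fin 2) R) = (-1 : R) • (↑J : Matrix (Fin 2) (Fin 2) R))
  (hneg : (AlgEquiv.refl : R ≃ₐ[R] R) (-1) * (-1) = 1)

include hJ in
theorem symp_single (x y : Fin 2) :
    ((LamInv.transpose (AlgEquiv.refl : R ≃ₐ[R] R) (Fin 2) hlam).conj J (-1) hJt hneg)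
      (Matrix.single x y (1 : R)) =
    (SympStd.sgJ (Fin 1) (x, 0) * SympStd.sgJ (Fin 1) (y, 0)) •
      Matrix.single (Fin.rev y) (Fin.rev x) (1 : R) := by
  ext a b
  rw [AzOrthSymp.symp_apply hlam J hJ hJt hneg]
  fin_cases x <;> fin_cases y <;> fin_cases a <;> fin_cases b <;>
    simp [SympStd.sgJ, Matrix.single_apply, Fin.rev]

include hJ in
/-- the standard symplectic involution of `M₂(R)` is in symplectic normal form. -/
theorem km_symp (C : Type u') [CommRing C] [Algebra R C] :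
    Kind.KM R R (AlgEquiv.refl : R ≃ₐ[R] R) (Matrix (Fin 2) (Fin 2) R)
      ((LamInv.transpose (AlgEquiv.refl : R ≃ₐ[R] R) (Fin 2) hlam).conj J (-1) hJt hneg) 1 C := by
  refine ⟨fun p q => (1 : C) ⊗ₜ[R] Matrix.single p.1 q.1 (1 : R), ⟨?_, ?_⟩, ?_⟩
  · rintro ⟨x, i⟩ ⟨y, j⟩ ⟨z, k⟩ ⟨w, l⟩
    simp only
    rw [Algebra.TensorProduct.tmul_mul_tmul, one_mul]
    by_cases h : y = z
    · subst h
      rw [Matrix.single_mul_single_same, mul_one, if_pos]
      rw [Subsingleton.elim j k]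
    · rw [Matrix.single_mul_single_of_ne (c := (1 : R)) x y z h (1 : R), TensorProduct.tmul_zero,
        if_neg]
      intro h'
      exact h (Prod.mk.inj h').1
  · rw [Fintype.sum_prod_type]
    simp only [Fin.sum_univ_one]
    rw [← TensorProduct.tmul_sum, Algebra.TensorProduct.one_def]
    congr 1
    ext a b
    rw [Matrix.sum_apply, Matrix.one_apply]
    simp only [Matrix.single_apply]
    split_ifs with h
    · subst h
      simp
    · apply Finset.sum_eq_zero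
      intro c _
      rw [if_neg]
      rintro ⟨rfl, rfl⟩
      exact h rfl
  · rintro ⟨x, i⟩ ⟨y, j⟩
    rw [LamInv.bc_tmul, symp_single R hlam J hJ hJt hneg, TensorProduct.tmul_smul]
    have hi : i = 0 := Subsingleton.elim _ _
    have hj : j = 0 := Subsingleton.elim _ _
    subst hi hj
    rfl

end Model

section Main

variable (R : Type u) [CommRing R]
  (hlam : ∀ r : R, (AlgEquiv.refl : R ≃ₐ[R] R) ((AlgEquiv.refl : R ≃ₐ[R] R) r) = r)

theorem isoAt_refl (A : Type w) [Ring A] [Algebra R A] (t : LamInv R A (AlgEquiv.refl : R ≃ₐ[R] R))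
    (q : PrimeSpectrum R) :
    IsoOv.IsoAt R R (AlgEquiv.refl : R ≃ₐ[R] R) A A t t q :=
  ⟨R, inferInstance, inferInstance, inferInstance, ⟨q, rfl⟩, AlgEquiv.refl, fun _ _ => rfl,
    fun _ => rfl⟩

theorem main [Nontrivial R] [ConnectedSpace (PrimeSpectrum R)] (h2 : IsUnit (2 : R))
    (J : (Matrix (Fin 2) (Fin 2) R)ˣ)
    (hJ : (↑J : Matrix (Fin 2) (Fin 2) R) = Matrix.of ![![0, -1], ![1, 0]])
    (hJt : LamInv.transpose (AlgEquiv.refl : R ≃ₐ[R] R) (Fin 2) hlam
      (↑J : Matrix (Fin 2) (Fin 2) R) = (-1 : R) • (↑J : Matrix (Fin 2) (Fin 2) R))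
    (hneg : (AlgEquiv.refl : R ≃ₐ[R] R) (-1) * (-1) = 1)
    (A : Type w) [Ring A] [Algebra R A]
    (n : ℕ) (hn : 0 < n) (hA : IsAzumayaDeg R A n) (t : LamInv R A (AlgEquiv.refl : R ≃ₐ[R] R)) :
    SameType R (AlgEquiv.refl : R ≃ₐ[R] R) t (LamInv.self (AlgEquiv.refl : R ≃ₐ[R] R) hlam) ∨
      SameType R (AlgEquiv.refl : R ≃ₐ[R] R) t
        ((LamInv.transpose (AlgEquiv.refl : R ≃ₐ[R] R) (Fin 2) hlam).conj J (-1) hJt hneg) := by
  have hfix : RInv.IsFixedRing R R (AlgEquiv.refl : R ≃ₐ[R] R).toRingEquiv :=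
    ⟨fun _ _ h => h, fun r => ⟨fun _ => ⟨r, rfl⟩, fun _ => rfl⟩⟩
  have hsq := SqrtTwo.hasSqrt_of_two R h2
  have hA₁ : IsAzumayaDeg R (Matrix (Fin 1) (Fin 1) A) n := by
    have := Ampl.isAzumayaDeg_matrix R A 1 n one_pos hA
    rwa [one_mul] at this
  have hram : ∀ q : PrimeSpectrum R, RInvB.RamP (AlgEquiv.refl : R ≃ₐ[R] R) q.asIdeal := by
    intro q p _ _ r
    show r - r ∈ p
    rw [sub_self]
    exact p.zero_mem
  have hL1 := fun q => RamStd.L1 R R (AlgEquiv.refl : R ≃ₐ[R] R) hlam hfix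
    (Matrix (Fin 1) (Fin 1) A) (t.matrix (Fin 1)) n h2 hsq hn hA₁ q
  by_cases hk : 2 * (n / 2) = n
  swap
  · left
    refine ⟨1, n, one_pos, hn, ?_⟩
    apply StdInv.locIsoEt_of_stdAt R R (AlgEquiv.refl : R ≃ₐ[R] R) hlam _ _ n hn hA₁
    intro q
    rcases hL1 q with h | ⟨κ, _, _, hκ, -⟩
    · exact h
    · exfalso
      omega
  set k := n / 2 with hkdef
  have hkpos : 0 < k := by omega
  have hA₁' : IsAzumayaDeg R (Matrix (Fin 1) (Fin 1) A) (2 * k) := by rw [hk]; exact hA₁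
  set U : Set (PrimeSpectrum R) := {q | StdP.StdAtP R R (AlgEquiv.refl : R ≃ₐ[R] R)
    (Matrix (Fin 1) (Fin 1) A) (t.matrix (Fin 1)) (ι := Fin n) id (fun _ => 1) q} with hU
  set V : Set (PrimeSpectrum R) := {q | StdP.StdAtP R R (AlgEquiv.refl : R ≃ₐ[R] R)
    (Matrix (Fin 1) (Fin 1) A) (t.matrix (Fin 1)) (SympStd.flip (Fin k)) (SympStd.sgJ (Fin k)) q}
    with hV
  have hUopen : IsOpen U := isOpen_etAt R _
  have hVopen : IsOpen V := isOpen_etAt R _
  have hUV : ∀ q, q ∈ U ∨ q ∈ V := by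
    intro q
    rcases hL1 q with h | ⟨κ, _, _, hκ, h⟩
    · exact Or.inl (StdP.stdAtP_of_stdAt R R _ _ _ n q h)
    · exact Or.inr (SameKind.kmAt_of_flip R R _ _ _ κ k (by omega) q h)
  have hdisj : ∀ q, q ∈ U → q ∈ V → False := by
    intro q hqU hqV
    exact SameKind.false_of_kp_km R R (AlgEquiv.refl : R ≃ₐ[R] R) hlam hfix
      (Matrix (Fin 1) (Fin 1) A) (Matrix (Fin 1) (Fin 1) A) (t.matrix (Fin 1)) (t.matrix (Fin 1))
      h2 q (hram q) n k 1 1 hn hkpos one_pos one_pos hA₁ hA₁' hqU hqV (isoAt_refl R _ _ q)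
  have hUc : Uᶜ = V := by
    ext q
    constructor
    · intro hq
      rcases hUV q with h | h
      · exact absurd h hq
      · exact h
    · intro hq hq'
      exact hdisj q hq' hq
  have hUclosed : IsClosed U := by
    rw [← isOpen_compl_iff, hUc]
    exact hVopen
  rcases isClopen_iff.mp ⟨hUclosed, hUopen⟩ with h | h
  · right
    have hA₂ : IsAzumayaDeg R (Matrix (Fin 2) (Fin 2) R) 2 := by
      refine ⟨IsAzumaya.matrix R (Fin 2), fun p => ?_⟩
      rw [Module.rankAtStalk_eq_finrank_of_free]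
      simp [Module.finrank_matrix]
    have hA₂' : IsAzumayaDeg R (Matrix (Fin k) (Fin k) (Matrix (Fin 2) (Fin 2) R)) n := by
      have := Ampl.isAzumayaDeg_matrix R (Matrix (Fin 2) (Fin 2) R) k 2 hkpos hA₂
      rwa [mul_comm, hk] at this
    refine ⟨1, k, one_pos, hkpos, ?_⟩
    apply IsoOv.locIsoEt_of_isoAt
    intro q
    have hq : q ∈ V := by
      rcases hUV q with h' | h'
      · rw [h] at h'
        exact absurd h' (Set.notMem_empty q)
      · exact h'
    have hι : Fintype.card (Fin 2 × Fin k) = n := by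
      rw [Fintype.card_prod, Fintype.card_fin, Fintype.card_fin, hk]
    refine SameKind.isoAt_of_stdAtP R R (AlgEquiv.refl : R ≃ₐ[R] R) _ _ _ _ n hn hA₁ hA₂' hι
      (SympStd.flip (Fin k)) (SympStd.sgJ (Fin k)) q hq ?_
    have hm := Kind.km_matrix R R (AlgEquiv.refl : R ≃ₐ[R] R) (Matrix (Fin 2) (Fin 2) R)
      ((LamInv.transpose (AlgEquiv.refl : R ≃ₐ[R] R) (Fin 2) hlam).conj J (-1) hJt hneg) k 1 R
      (km_symp R hlam J hJ hJt hneg R)
    rw [mul_one] at hm
    exact ⟨R, inferInstance, inferInstance, inferInstance, ⟨q, rfl⟩, hm⟩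
  · left
    refine ⟨1, n, one_pos, hn, ?_⟩
    apply StdInv.locIsoEt_of_stdAt R R (AlgEquiv.refl : R ≃ₐ[R] R) hlam _ _ n hn hA₁
    intro q
    rcases hL1 q with h' | ⟨κ, _, _, hκ, h'⟩
    · exact h'
    · exfalso
      have hq : q ∈ U := by rw [h]; trivial
      exact hdisj q hq (SameKind.kmAt_of_flip R R _ _ _ κ k (by omega) q h')

end Main

end Groth.Agent.H7.Conn
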