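import Mathlib

open CategoryTheory CategoryTheory.Limits Opposite

universe v u

namespace Groth.Agent.H7.ContLI

variable {C : Type u} [Category.{v} C] {D : Type u} [Category.{v} D]
  (Φ : C ⥤ D) (J : GrothendieckTopology C) (K : GrothendieckTopology D)
  {U : C} (R : Sieve U)

/-- points of the left Kan extension of the sieve `R` at `W` -/
structure Pt (W : D) where
  V : C
  r : V ⟶ U
  hr : R r
  κ : W ⟶ Φ.obj V

/-- generating relation -/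
inductive Gen (W : D) : Pt Φ R W → Pt Φ R W → Prop
  | mk (V V' : C) (a : V ⟶ V') (r' : V' ⟶ U) (hr' : R r') (hr : R (a ≫ r'))
      (κ : W ⟶ Φ.obj V) : Gen W ⟨V, a ≫ r', hr, κ⟩ ⟨V', r', hr', κ ≫ Φ.map a⟩

/-- restriction of points -/
def Pt.res {W W' : D} (w : W' ⟶ W) (p : Pt Φ R W) : Pt Φ R W' := ⟨p.V, p.r, p.hr, w ≫ p.κ⟩

lemma Gen.res {W W' : D} (w : W' ⟶ W) {p p' : Pt Φ R W} (h : Gen Φ R W p p') :
    Gen Φ R W' (p.res Φ R w) (p'.res Φ R w) := by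
  obtain ⟨V, V', a, r', hr', hr, κ⟩ := h
  have := Gen.mk (Φ := Φ) (R := R) (W := W') V V' a r' hr' hr (w ≫ κ)
  simpa [Pt.res] using this

/-- the presheaf `Q` -/
def Q : Dᵒᵖ ⥤ Type (max u v) where
  obj W := Quot (Gen Φ R W.unop)
  map w := ↾(Quot.map (Pt.res Φ R w.unop) (fun _ _ h => h.res Φ R w.unop))
  map_id W := by
    ext ⟨p⟩
    show Quot.mk _ (p.res Φ R (𝟙 _)) = Quot.mk _ p
    simp [Pt.res]
  map_comp w w' := by
    ext ⟨p⟩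
    show Quot.mk _ (p.res Φ R (w'.unop ≫ w.unop)) = Quot.mk _ ((p.res Φ R w.unop).res Φ R w'.unop)
    simp [Pt.res]

lemma Q_map_mk {W W' : D} (w : W' ⟶ W) (p : Pt Φ R W) :
    (Q Φ R).map w.op (Quot.mk _ p) = Quot.mk _ (p.res Φ R w) := rfl

/-- Local injectivity extracted from continuity. -/
theorem equalizerSieve_mem [Φ.IsContinuous J K] (hR : R ∈ J U) {W : D}
    {V₁ V₂ : C} (r₁ : V₁ ⟶ U) (r₂ : V₂ ⟶ U) (h₁ : R r₁) (h₂ : R r₂)
    (κ₁ : W ⟶ Φ.obj V₁) (κ₂ : W ⟶ Φ.obj V₂) (hκ : κ₁ ≫ Φ.map r₁ = κ₂ ≫ Φ.map r₂) :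
    Presheaf.equalizerSieve (F := Q Φ R) (X := op W)
      (Quot.mk _ ⟨V₁, r₁, h₁, κ₁⟩) (Quot.mk _ ⟨V₂, r₂, h₂, κ₂⟩) ∈ K W := by
  let G : Sheaf K (Type (max u v)) := ⟨K.sheafify (Q Φ R), K.sheafify_isSheaf _⟩
  let η := K.toSheafify (Q Φ R)
  have hG : Presieve.IsSheaf J (Φ.op ⋙ G.obj) := Functor.op_comp_isSheaf_of_types Φ J K G
  let x : Presieve.FamilyOfElements (Φ.op ⋙ G.obj) R.arrows := fun V r hr =>
    η.app (op (Φ.obj V)) (Quot.mk _ ⟨V, r, hr, 𝟙 _⟩)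
  have hx : x.Compatible := by
    rw [Presieve.compatible_iff_sieveCompatible]
    intro V V' r a hr
    show η.app (op (Φ.obj V')) (Quot.mk _ ⟨V', a ≫ r, _, 𝟙 _⟩) =
      G.obj.map (Φ.map a).op (η.app (op (Φ.obj V)) (Quot.mk _ ⟨V, r, hr, 𝟙 _⟩))
    rw [← NatTrans.naturality_apply, Q_map_mk]
    congr 1
    have := Gen.mk (Φ := Φ) (R := R) (W := Φ.obj V') V' V a r hr (R.downward_closed hr a) (𝟙 _)
    have e : (⟨V, r, hr, 𝟙 _ ≫ Φ.map a⟩ : Pt Φ R (Φ.obj V')) =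
        (⟨V, r, hr, 𝟙 _⟩ : Pt Φ R (Φ.obj V)).res Φ R (Φ.map a) := by
      simp [Pt.res]
    rw [← e]
    exact Quot.sound this
  obtain ⟨g, hg, -⟩ := hG R hR x hx
  have key : ∀ {V : C} (r : V ⟶ U) (hr : R r) (κ : W ⟶ Φ.obj V),
      η.app (op W) (Quot.mk _ ⟨V, r, hr, κ⟩) = G.obj.map (κ ≫ Φ.map r).op g := by
    intro V r hr κ
    have h1 : G.obj.map (Φ.map r).op g = x r hr := hg r hr
    rw [op_comp, Functor.map_comp_apply, h1]
    show _ = G.obj.map κ.op (η.app (op (Φ.obj V)) (Quot.mk _ ⟨V, r, hr, 𝟙 _⟩))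
    rw [← NatTrans.naturality_apply, Q_map_mk]
    simp [Pt.res]
  apply Presheaf.equalizerSieve_mem K η
  rw [key, key, hκ]

/-- Using the local injectivity. -/
theorem apply_eq {A : D → Type*} (β : ∀ W, Pt Φ R W → A W)
    (hβ : ∀ W p p', Gen Φ R W p p' → β W p = β W p') {W W' : D} (w : W' ⟶ W)
    (p₁ p₂ : Pt Φ R W)
    (hw : (Presheaf.equalizerSieve (F := Q Φ R) (X := op W) (Quot.mk _ p₁) (Quot.mk _ p₂)).arrows w) :
    β W' (p₁.res Φ R w) = β W' (p₂.res Φ R w) := by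
  have h : (Quot.mk _ (p₁.res Φ R w) : Quot (Gen Φ R W')) = Quot.mk _ (p₂.res Φ R w) := hw
  exact congrArg (Quot.lift (β W') (hβ W')) h

end Groth.Agent.H7.ContLI
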