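import Mathlib

/-! Rank toolkit for finite projective modules over a connected ring (helper7). -/

namespace Groth.Agent.H7.Corner

universe u v

section Rank
variable {R : Type u} [CommRing R] [ConnectedSpace (PrimeSpectrum R)]
variable (M : Type v) [AddCommGroup M] [Module R M] [Module.Finite R M] [Module.Projective R M]

theorem rankAtStalk_const (p q : PrimeSpectrum R) :
    Module.rankAtStalk M p = Module.rankAtStalk M q :=
  haveI : Module.FinitePresentation R M := Module.finitePresentation_of_projective R M
  (Module.isLocallyConstant_rankAtStalk (R := R) (M := M)).apply_eq_of_preconnectedSpace _ _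

theorem rankAtStalk_pos [Nontrivial M] (p : PrimeSpectrum R) : 0 < Module.rankAtStalk M p := by
  by_contra h
  have h0 : Module.rankAtStalk M p = 0 := by omega
  have : Module.rankAtStalk (R := R) M = 0 := by
    funext q
    rw [rankAtStalk_const M q p, h0]
    rfl
  rw [Module.rankAtStalk_eq_zero_iff_subsingleton] at this
  exact not_subsingleton M this

theorem subsingleton_of_rankAtStalk_eq_zero (p : PrimeSpectrum R)
    (h0 : Module.rankAtStalk M p = 0) : Subsingleton M := by
  rw [← Module.rankAtStalk_eq_zero_iff_subsingleton (R := R)]
  funext q
  rw [rankAtStalk_const M q p, h0]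
  rfl

theorem faithfulSMul_of_nontrivial [Nontrivial M] : FaithfulSMul R M := by
  constructor
  intro r₁ r₂ h
  rw [← sub_eq_zero]
  set r := r₁ - r₂ with hrdef
  have hr : ∀ m : M, r • m = 0 := fun m => by rw [hrdef, sub_smul, h m, sub_self]
  apply eq_zero_of_localization
  intro J hJ
  haveI := hJ.isPrime
  let p : PrimeSpectrum R := ⟨J, hJ.isPrime⟩
  have hpos := rankAtStalk_pos M p
  haveI : Module.Free (Localization.AtPrime J) (LocalizedModule J.primeCompl M) :=
    Module.free_of_flat_of_isLocalRing
  let b := Module.Free.chooseBasis (Localization.AtPrime J) (LocalizedModule J.primeCompl M)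
  have hcard : 0 < Fintype.card
      (Module.Free.ChooseBasisIndex (Localization.AtPrime J) (LocalizedModule J.primeCompl M)) := by
    rw [← Module.finrank_eq_card_chooseBasisIndex]
    exact hpos
  obtain ⟨i⟩ := Fintype.card_pos_iff.mp hcard
  have hkill : ∀ x : LocalizedModule J.primeCompl M,
      (algebraMap R (Localization.AtPrime J) r) • x = 0 := by
    intro x
    induction x using LocalizedModule.induction_on with
    | h m s =>
      rw [algebraMap_smul, LocalizedModule.smul'_mk, hr m, LocalizedModule.zero_mk]
  have h1 := hkill (b i)
  have h2 := congrArg b.repr h1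
  rw [map_smul, b.repr_self, map_zero, Finsupp.smul_single, smul_eq_mul, mul_one] at h2
  have h3 := DFunLike.congr_fun h2 i
  rwa [Finsupp.single_eq_same, Finsupp.zero_apply] at h3

end Rank

end Groth.Agent.H7.Corner
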