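import Mathlib
import Groth.Agent.Lib.Helper7.Corner1

/-! Corner algebras `eAe` of Azumaya algebras are Azumaya, and `A ⊗ (eAe)ᵒᵖ ≅ End_R(Ae)` (helper7). -/

namespace Groth.Agent.H7.Corner

universe u v

open TensorProduct MulOpposite

section Abstract
variable {R : Type*} [CommRing R] {V W : Type*} [AddCommGroup V] [Module R V]
  [AddCommGroup W] [Module R W]

/-- A "corner" of a bijective representation is bijective. -/
theorem bijective_of_corner {X Y : Type*} (Φ : X → Module.End R V) (hΦ : Function.Bijective Φ)
    (ι : Y → X) (ρ : X → Y) (hρι : ∀ y, ρ (ι y) = y)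
    (i : W →ₗ[R] V) (r : V →ₗ[R] W) (hri : ∀ w, r (i w) = w)
    (ψ : Y → Module.End R W)
    (K1 : ∀ y v, Φ (ι y) v = i (ψ y (r v)))
    (K2 : ∀ x w, ψ (ρ x) w = r (Φ x (i w))) : Function.Bijective ψ := by
  constructor
  · intro y₁ y₂ hy
    have h1 : Φ (ι y₁) = Φ (ι y₂) := by
      ext v
      rw [K1, K1, hy]
    have h2 : ι y₁ = ι y₂ := hΦ.1 h1
    rw [← hρι y₁, h2, hρι]
  · intro T
    obtain ⟨x, hx⟩ := hΦ.2 (i ∘ₗ T ∘ₗ r)
    refine ⟨ρ x, ?_⟩
    ext w
    rw [K2, hx]
    simp [hri]

end Abstract

section CornerAlg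
variable (R : Type u) [CommRing R] {A : Type v} [Ring A] [Algebra R A] {e : A}
  (he : IsIdempotentElem e)

theorem corner_left (x : he.Corner) : e * x.1 = x.1 := ((Subsemigroup.mem_corner_iff he).mp x.2).1

theorem corner_right (x : he.Corner) : x.1 * e = x.1 := ((Subsemigroup.mem_corner_iff he).mp x.2).2

theorem corner_val_mul (x y : he.Corner) : (x * y).1 = x.1 * y.1 := rfl

theorem corner_val_add (x y : he.Corner) : (x + y).1 = x.1 + y.1 := rfl

theorem corner_val_one : (1 : he.Corner).1 = e := rfl

theorem corner_val_zero : (0 : he.Corner).1 = 0 := rfl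

/-- scalar multiplication on the corner. -/
@[reducible] def cornerSMul : SMul R he.Corner where
  smul r x := ⟨r • x.1, by
    obtain ⟨a, ha⟩ := x.2
    exact ⟨r • a, by simp only [mul_smul_comm, smul_mul_assoc]; rw [← ha]⟩⟩

/-- the coercion as an additive hom. -/
def cornerValAdd : he.Corner →+ A where
  toFun x := x.1
  map_zero' := rfl
  map_add' _ _ := rfl

/-- module structure on the corner. -/
@[reducible] def cornerModule : Module R he.Corner :=
  letI := cornerSMul R he
  Function.Injective.module R (cornerValAdd he) (fun _ _ h => Subtype.ext h) (fun _ _ => rfl)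

instance cornerAlgebra : Algebra R he.Corner :=
  letI := cornerModule R he
  Algebra.ofModule
    (fun r x y => Subtype.ext (by
      show (r • x.1) * y.1 = r • (x.1 * y.1)
      rw [smul_mul_assoc]))
    (fun r x y => Subtype.ext (by
      show x.1 * (r • y.1) = r • (x.1 * y.1)
      rw [mul_smul_comm]))

theorem corner_val_smul (r : R) (x : he.Corner) : (r • x).1 = r • x.1 := rfl

/-- the inclusion `eAe → A`. -/
def cval : he.Corner →ₗ[R] A where
  toFun x := x.1
  map_add' _ _ := rfl
  map_smul' _ _ := rfl

/-- the retraction `A → eAe`. -/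
def cretr : A →ₗ[R] he.Corner where
  toFun a := ⟨e * a * e, a, rfl⟩
  map_add' a b := Subtype.ext (by
    rw [corner_val_add]
    show e * (a + b) * e = e * a * e + e * b * e
    rw [mul_add, add_mul])
  map_smul' r a := Subtype.ext (by
    show e * (r • a) * e = r • (e * a * e)
    rw [mul_smul_comm, smul_mul_assoc])

theorem cval_apply (x : he.Corner) : cval R he x = x.1 := rfl

theorem cretr_val (a : A) : (cretr R he a).1 = e * a * e := rfl

theorem cretr_cval (x : he.Corner) : cretr R he (cval R he x) = x := by
  apply Subtype.ext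
  rw [cretr_val, cval_apply, corner_left, corner_right]

/-- the inclusion on opposites. -/
def cvalOp : he.Cornerᵐᵒᵖ →ₗ[R] Aᵐᵒᵖ :=
  (opLinearEquiv R).toLinearMap ∘ₗ cval R he ∘ₗ (opLinearEquiv R).symm.toLinearMap

/-- the retraction on opposites. -/
def cretrOp : Aᵐᵒᵖ →ₗ[R] he.Cornerᵐᵒᵖ :=
  (opLinearEquiv R).toLinearMap ∘ₗ cretr R he ∘ₗ (opLinearEquiv R).symm.toLinearMap

theorem cvalOp_apply (x : he.Cornerᵐᵒᵖ) : cvalOp R he x = op (x.unop.1) := rfl

theorem cretrOp_apply (a : Aᵐᵒᵖ) : (cretrOp R he a).unop.1 = e * a.unop * e := rfl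

theorem cretrOp_cvalOp (x : he.Cornerᵐᵒᵖ) : cretrOp R he (cvalOp R he x) = x := by
  apply MulOpposite.unop_injective
  apply Subtype.ext
  rw [cretrOp_apply, cvalOp_apply, unop_op, corner_left, corner_right]

instance corner_finite [Module.Finite R A] : Module.Finite R he.Corner :=
  Module.Finite.of_surjective (cretr R he) (fun x => ⟨cval R he x, cretr_cval R he x⟩)

instance corner_projective [Module.Projective R A] : Module.Projective R he.Corner :=
  Module.Projective.of_split (cval R he) (cretr R he)
    (LinearMap.ext fun x => cretr_cval R he x)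

/-- `eAe ⊗ (eAe)ᵒᵖ → End(eAe)` is bijective when `A ⊗ Aᵒᵖ → End(A)` is. -/
theorem corner_mulLeftRight_bijective
    (hA : Function.Bijective (AlgHom.mulLeftRight R A)) :
    Function.Bijective (AlgHom.mulLeftRight R he.Corner) := by
  refine bijective_of_corner (AlgHom.mulLeftRight R A) hA
    (TensorProduct.map (cval R he) (cvalOp R he)) (TensorProduct.map (cretr R he) (cretrOp R he)) ?_
    (cval R he) (cretr R he) (cretr_cval R he) (AlgHom.mulLeftRight R he.Corner) ?_ ?_
  · intro y
    rw [← LinearMap.comp_apply, ← TensorProduct.map_comp]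
    have h1 : cretr R he ∘ₗ cval R he = LinearMap.id :=
      LinearMap.ext fun x => cretr_cval R he x
    have h2 : cretrOp R he ∘ₗ cvalOp R he = LinearMap.id :=
      LinearMap.ext fun x => cretrOp_cvalOp R he x
    rw [h1, h2, TensorProduct.map_id, LinearMap.id_apply]
  · intro y v
    induction y using TensorProduct.induction_on with
    | zero => simp
    | tmul b b' =>
      simp only [TensorProduct.map_tmul, AlgHom.mulLeftRight_apply]
      rw [cval_apply, cval_apply, corner_val_mul, corner_val_mul, cretr_val, cvalOp_apply,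
        unop_op]
      have h1 := corner_right he b
      have h2 := corner_left he b'.unop
      calc b.1 * v * b'.unop.1 = (b.1 * e) * v * (e * b'.unop.1) := by rw [h1, h2]
        _ = b.1 * (e * v * e) * b'.unop.1 := by simp only [mul_assoc]
    | add y₁ y₂ h₁ h₂ =>
      simp only [map_add, LinearMap.add_apply] at h₁ h₂ ⊢
      rw [h₁, h₂]
  · intro x w
    induction x using TensorProduct.induction_on with
    | zero => simp
    | tmul a a' =>
      simp only [TensorProduct.map_tmul, AlgHom.mulLeftRight_apply]
      apply Subtype.ext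
      rw [corner_val_mul, corner_val_mul, cretr_val, cretr_val, cretrOp_apply, cval_apply]
      have h1 := corner_right he w
      have h2 := corner_left he w
      calc e * a * e * w.1 * (e * a'.unop * e) = e * a * (e * (w.1 * e)) * a'.unop * e := by
            simp only [mul_assoc]
        _ = e * a * (e * w.1) * a'.unop * e := by rw [h1]
        _ = e * a * w.1 * a'.unop * e := by rw [h2]
        _ = e * (a * w.1 * a'.unop) * e := by simp only [mul_assoc]
    | add x₁ x₂ h₁ h₂ =>
      simp only [map_add, LinearMap.add_apply] at h₁ h₂ ⊢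
      rw [h₁, h₂]

end CornerAlg

end Groth.Agent.H7.Corner
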