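import Mathlib
import Groth.Agent.Lib.Helper7.Corner2

/-! `A ⊗ (eAe)ᵒᵖ ≅ End_R(Ae)` for an Azumaya algebra `A` (helper7). -/

namespace Groth.Agent.H7.Corner

universe u v

open TensorProduct MulOpposite

section LeftIdeal
variable (R : Type u) [CommRing R] {A : Type v} [Ring A] [Algebra R A] (e : A)

/-- `Ae` as an `R`-submodule of `A`. -/
def Mod : Submodule R A := LinearMap.range (LinearMap.mulRight R e)

/-- the inclusion `Ae → A`. -/
def mval : Mod R e →ₗ[R] A := (Mod R e).subtype

/-- the retraction `A → Ae`. -/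
def mretr : A →ₗ[R] Mod R e := (LinearMap.mulRight R e).rangeRestrict

theorem mval_apply (m : Mod R e) : mval R e m = m.1 := rfl

theorem mretr_val (a : A) : (mretr R e a).1 = a * e := rfl

variable {e}
variable (he : IsIdempotentElem e)
include he

theorem mod_right (m : Mod R e) : m.1 * e = m.1 := by
  obtain ⟨a, ha⟩ := m.2
  rw [← ha, LinearMap.mulRight_apply, mul_assoc, he.eq]

theorem mretr_mval (m : Mod R e) : mretr R e (mval R e m) = m :=
  Subtype.ext (by rw [mretr_val, mval_apply, mod_right R he])

theorem self_mem_mod : e ∈ Mod R e := ⟨e, he.eq⟩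

theorem mod_finite [Module.Finite R A] : Module.Finite R (Mod R e) :=
  Module.Finite.of_surjective (mretr R e) (fun x => ⟨mval R e x, mretr_mval R he x⟩)

theorem mod_projective [Module.Projective R A] : Module.Projective R (Mod R e) :=
  Module.Projective.of_split (mval R e) (mretr R e)
    (LinearMap.ext fun x => mretr_mval R he x)

theorem mod_nontrivial (hne : e ≠ 0) : Nontrivial (Mod R e) :=
  ⟨⟨⟨e, self_mem_mod R he⟩, 0, fun h => hne (congrArg Subtype.val h)⟩⟩

/-- compression of an endomorphism of `A` to `Ae`. -/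
def compress : Module.End R A →ₗ[R] Module.End R (Mod R e) where
  toFun T := mretr R e ∘ₗ T ∘ₗ mval R e
  map_add' T T' := by
    ext m
    simp
  map_smul' r T := by
    ext m
    simp

omit he in
theorem compress_apply (T : Module.End R A) (m : Mod R e) :
    (compress R (e := e) T m).1 = T m.1 * e := rfl

/-- the linear map underlying `A ⊗ (eAe)ᵒᵖ → End_R(Ae)`. -/
noncomputable def nuLin : A ⊗[R] he.Cornerᵐᵒᵖ →ₗ[R] Module.End R (Mod R e) :=
  compress R (e := e) ∘ₗ (AlgHom.mulLeftRight R A).toLinearMap ∘ₗ
    TensorProduct.map LinearMap.id (cvalOp R he)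

theorem nuLin_tmul (a : A) (b : he.Cornerᵐᵒᵖ) (m : Mod R e) :
    (nuLin R he (a ⊗ₜ b) m).1 = a * m.1 * b.unop.1 := by
  rw [nuLin, LinearMap.comp_apply, LinearMap.comp_apply, TensorProduct.map_tmul,
    LinearMap.id_apply, compress_apply, AlgHom.toLinearMap_apply, AlgHom.mulLeftRight_apply,
    cvalOp_apply, unop_op, mul_assoc, corner_right]

/-- `A ⊗ (eAe)ᵒᵖ → End_R(Ae)` as an algebra homomorphism. -/
noncomputable def nuAlg : A ⊗[R] he.Cornerᵐᵒᵖ →ₐ[R] Module.End R (Mod R e) :=
  Algebra.TensorProduct.algHomOfLinearMapTensorProduct (nuLin R he)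
    (fun a₁ a₂ b₁ b₂ => by
      ext m
      rw [Module.End.mul_apply, nuLin_tmul, nuLin_tmul, nuLin_tmul, unop_mul, corner_val_mul]
      simp only [mul_assoc])
    (by
      ext m
      rw [nuLin_tmul, unop_one, corner_val_one, Module.End.one_apply, one_mul, mod_right R he])

theorem nuAlg_tmul (a : A) (b : he.Cornerᵐᵒᵖ) (m : Mod R e) :
    (nuAlg R he (a ⊗ₜ b) m).1 = a * m.1 * b.unop.1 := nuLin_tmul R he a b m

theorem nuAlg_bijective (hA : Function.Bijective (AlgHom.mulLeftRight R A)) :
    Function.Bijective (nuAlg R he) := by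
  refine bijective_of_corner (AlgHom.mulLeftRight R A) hA
    (TensorProduct.map LinearMap.id (cvalOp R he)) (TensorProduct.map LinearMap.id (cretrOp R he))
    ?_ (mval R e) (mretr R e) (mretr_mval R he) (nuAlg R he) ?_ ?_
  · intro y
    rw [← LinearMap.comp_apply, ← TensorProduct.map_comp]
    have h2 : cretrOp R he ∘ₗ cvalOp R he = LinearMap.id :=
      LinearMap.ext fun x => cretrOp_cvalOp R he x
    rw [h2, LinearMap.id_comp, TensorProduct.map_id, LinearMap.id_apply]
  · intro y v
    induction y using TensorProduct.induction_on with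
    | zero => simp
    | tmul a b =>
      rw [TensorProduct.map_tmul, LinearMap.id_apply, AlgHom.mulLeftRight_apply, mval_apply,
        nuAlg_tmul, mretr_val, cvalOp_apply, unop_op]
      have h2 := corner_left he b.unop
      calc a * v * b.unop.1 = a * v * (e * b.unop.1) := by rw [h2]
        _ = a * (v * e) * b.unop.1 := by simp only [mul_assoc]
    | add y₁ y₂ h₁ h₂ =>
      simp only [map_add, LinearMap.add_apply] at h₁ h₂ ⊢
      rw [h₁, h₂]
  · intro x w
    induction x using TensorProduct.induction_on with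
    | zero => simp
    | tmul a a' =>
      apply Subtype.ext
      rw [TensorProduct.map_tmul, LinearMap.id_apply, nuAlg_tmul, mretr_val,
        AlgHom.mulLeftRight_apply, mval_apply, cretrOp_apply]
      have h1 := mod_right R he w
      calc a * w.1 * (e * a'.unop * e) = a * (w.1 * e) * a'.unop * e := by
            simp only [mul_assoc]
        _ = a * w.1 * a'.unop * e := by rw [h1]
    | add x₁ x₂ h₁ h₂ =>
      simp only [map_add, LinearMap.add_apply] at h₁ h₂ ⊢
      rw [h₁, h₂]

end LeftIdeal

end Groth.Agent.H7.Corner
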