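import Mathlib
import Groth.Agent.Lib.Helper7.Corner3

/-! Every Azumaya algebra over a connected ring is Brauer equivalent to one with only trivial
idempotents (helper7). -/

namespace Groth.Agent.H7.Corner

universe u v

open TensorProduct MulOpposite

section Decomp
variable (R : Type u) [CommRing R] {A : Type v} [Ring A] [Algebra R A] {e f g : A}

theorem mod_le (hfe : f * e = f) : Mod R f ≤ Mod R e := by
  rintro _ ⟨a, rfl⟩
  exact ⟨a * f, by rw [LinearMap.mulRight_apply, LinearMap.mulRight_apply, mul_assoc, hfe]⟩

/-- `Ae = Af ⊕ Ag` for orthogonal idempotents `f + g = e`. -/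
noncomputable def modDecomp (he : IsIdempotentElem e) (hf : IsIdempotentElem f)
    (hg : IsIdempotentElem g) (hfe : f * e = f) (hge : g * e = g) (hsum : f + g = e)
    (hfg : f * g = 0) (hgf : g * f = 0) : Mod R e ≃ₗ[R] Mod R f × Mod R g :=
  LinearEquiv.ofLinearMap
    (LinearMap.prod (mretr R f ∘ₗ mval R e) (mretr R g ∘ₗ mval R e))
    (LinearMap.coprod (Submodule.inclusion (mod_le R hfe)) (Submodule.inclusion (mod_le R hge)))
    (by
      apply LinearMap.ext
      rintro ⟨y, z⟩
      have hy := mod_right R hf y
      have hz := mod_right R hg z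
      apply Prod.ext
      · apply Subtype.ext
        show (y.1 + z.1) * f = y.1
        rw [add_mul, hy, ← hz, mul_assoc, hgf, mul_zero, add_zero]
      · apply Subtype.ext
        show (y.1 + z.1) * g = z.1
        rw [add_mul, hz, ← hy, mul_assoc, hfg, mul_zero, zero_add])
    (by
      apply LinearMap.ext
      intro m
      apply Subtype.ext
      show m.1 * f + m.1 * g = m.1
      rw [← mul_add, hsum, mod_right R he])

end Decomp

section Main
variable {R : Type u} [CommRing R] [ConnectedSpace (PrimeSpectrum R)]
  (A : Type u) [Ring A] [Algebra R A] [IsAzumaya R A]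

theorem main :
    ∃ (B : Type u) (_ : Ring B) (_ : Algebra R B) (_ : IsAzumaya R B) (P Q : Type u)
      (_ : AddCommGroup P) (_ : Module R P) (_ : AddCommGroup Q) (_ : Module R Q),
      (∀ b : B, IsIdempotentElem b → b = 0 ∨ b = 1) ∧ Module.Finite R P ∧ Module.Projective R P ∧
      FaithfulSMul R P ∧ Module.Finite R Q ∧ Module.Projective R Q ∧ FaithfulSMul R Q ∧
      Nonempty (A ⊗[R] Module.End R P ≃ₐ[R] B ⊗[R] Module.End R Q) := by
  classical
  obtain ⟨p₀⟩ : Nonempty (PrimeSpectrum R) := inferInstance
  haveI : Nontrivial R := (PrimeSpectrum.nonempty_iff_nontrivial).mp ⟨p₀⟩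
  haveI : Nontrivial A := by
    have : Function.Injective (algebraMap R A) := FaithfulSMul.algebraMap_injective R A
    exact this.nontrivial
  -- the rank function on idempotents
  let rk : A → ℕ := fun e => Module.rankAtStalk (Mod R e) p₀
  let S : Set ℕ := {n | ∃ e : A, IsIdempotentElem e ∧ e ≠ 0 ∧ rk e = n}
  have hS : S.Nonempty := ⟨rk 1, 1, IsIdempotentElem.one, one_ne_zero, rfl⟩
  obtain ⟨e, he, hne, hrk⟩ := Nat.sInf_mem hS
  have hmin : ∀ f : A, IsIdempotentElem f → f ≠ 0 → rk e ≤ rk f := by
    intro f hf hfne
    rw [hrk]
    exact Nat.sInf_le ⟨f, hf, hfne, rfl⟩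
  haveI hMfin : Module.Finite R (Mod R e) := mod_finite R he
  haveI hMproj : Module.Projective R (Mod R e) := mod_projective R he
  haveI hMnt : Nontrivial (Mod R e) := mod_nontrivial R he hne
  haveI hMfaith : FaithfulSMul R (Mod R e) := faithfulSMul_of_nontrivial (Mod R e)
  haveI hBnt : Nontrivial he.Corner :=
    ⟨⟨1, 0, fun h => hne (congrArg Subtype.val h)⟩⟩
  haveI hBfaith : FaithfulSMul R he.Corner := faithfulSMul_of_nontrivial he.Corner
  have hBbij := corner_mulLeftRight_bijective R he (IsAzumaya.bij (R := R) (A := A))
  haveI hBaz : IsAzumaya R he.Corner := { bij := hBbij }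
  have hνbij := nuAlg_bijective R he (IsAzumaya.bij (R := R) (A := A))
  refine ⟨he.Corner, inferInstance, inferInstance, hBaz, he.Corner, Mod R e, inferInstance,
    inferInstance, inferInstance, inferInstance, ?_, inferInstance, inferInstance, inferInstance,
    inferInstance, inferInstance, inferInstance, ?_⟩
  · intro b hb
    by_cases hb0 : b = 0
    · exact Or.inl hb0
    · right
      set f : A := b.1 with hfdef
      have hf : IsIdempotentElem f := by
        have := congrArg Subtype.val hb.eq
        rwa [corner_val_mul] at this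
      have hfne : f ≠ 0 := fun h => hb0 (Subtype.ext h)
      have hef : e * f = f := corner_left he b
      have hfe : f * e = f := corner_right he b
      set g : A := e - f with hgdef
      have hg : IsIdempotentElem g := by
        show (e - f) * (e - f) = e - f
        rw [sub_mul, mul_sub, mul_sub, he.eq, hef, hfe, hf.eq]
        abel
      have hge : g * e = g := by rw [hgdef, sub_mul, he.eq, hfe]
      have hsum : f + g = e := by rw [hgdef]; abel
      have hfg : f * g = 0 := by rw [hgdef, mul_sub, hfe, hf.eq, sub_self]
      have hgf : g * f = 0 := by rw [hgdef, sub_mul, hef, hf.eq, sub_self]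
      haveI : Module.Finite R (Mod R f) := mod_finite R hf
      haveI : Module.Projective R (Mod R f) := mod_projective R hf
      haveI : Module.Finite R (Mod R g) := mod_finite R hg
      haveI : Module.Projective R (Mod R g) := mod_projective R hg
      have hrank : rk e = rk f + rk g := by
        show Module.rankAtStalk (Mod R e) p₀ = _
        rw [Module.rankAtStalk_eq_of_equiv (modDecomp R he hf hg hfe hge hsum hfg hgf),
          Module.rankAtStalk_prod]
        rfl
      have hle := hmin f hf hfne
      have hg0 : rk g = 0 := by omega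
      have hsub : Subsingleton (Mod R g) := subsingleton_of_rankAtStalk_eq_zero (Mod R g) p₀ hg0
      have hgz : g = 0 := by
        have := Subsingleton.elim (⟨g, self_mem_mod R hg⟩ : Mod R g) 0
        exact congrArg Subtype.val this
      apply Subtype.ext
      rw [corner_val_one]
      have : e - f = 0 := hgz
      exact (sub_eq_zero.mp this).symm
  · exact ⟨(Algebra.TensorProduct.congr AlgEquiv.refl
      (AlgEquiv.ofBijective (AlgHom.mulLeftRight R he.Corner) hBbij).symm).trans
      ((Algebra.TensorProduct.leftComm R A he.Corner he.Cornerᵐᵒᵖ).trans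
        (Algebra.TensorProduct.congr AlgEquiv.refl
          (AlgEquiv.ofBijective (nuAlg R he) hνbij)))⟩

end Main

end Groth.Agent.H7.Corner
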