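import Mathlib
open Topology Filter
universe u
namespace Groth.Agent.H7.CosetTop

theorem main (T : Type u) [Group T] [τ : TopologicalSpace T] :
    @NonarchimedeanGroup T _ (TopologicalSpace.generateFrom
      {S : Set T | ∃ (Γ : OpenSubgroup T) (x y : T), S = (fun g : T => x * g * y) '' (Γ : Set T)}) := by
  set B : Set (Set T) :=
    {S : Set T | ∃ (Γ : OpenSubgroup T) (x y : T), S = (fun g : T => x * g * y) '' (Γ : Set T)} with hB
  have hBmem : ∀ (Γ : OpenSubgroup T) (x y : T), (fun g : T => x * g * y) '' (Γ : Set T) ∈ B :=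
    fun Γ x y => ⟨Γ, x, y, rfl⟩
  letI τ' : TopologicalSpace T := TopologicalSpace.generateFrom B
  have hopen : ∀ S ∈ B, IsOpen[τ'] S := fun S hS => TopologicalSpace.isOpen_generateFrom_of_mem hS
  -- continuity of multiplication
  have hmul : @Continuous (T × T) T (@instTopologicalSpaceProd T T τ' τ') τ' (fun p : T × T => p.1 * p.2) := by
    rw [continuous_generateFrom_iff]
    rintro S ⟨Γ, x, y, rfl⟩
    rw [isOpen_prod_iff]
    rintro a b ⟨γ, hγ, hab⟩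
    refine ⟨(fun g : T => x * g * (x⁻¹ * a)) '' (Γ : Set T),
      (fun g : T => (b * y⁻¹) * g * y) '' (Γ : Set T), hopen _ (hBmem _ _ _), hopen _ (hBmem _ _ _),
      ⟨1, Γ.one_mem, by group⟩, ⟨1, Γ.one_mem, by group⟩, ?_⟩
    rintro ⟨p, q⟩ ⟨⟨g₁, hg₁, rfl⟩, ⟨g₂, hg₂, rfl⟩⟩
    refine ⟨g₁ * γ * g₂, Γ.mul_mem (Γ.mul_mem hg₁ hγ) hg₂, ?_⟩
    have h1 : a * b = x * γ * y := hab.symm
    show x * (g₁ * γ * g₂) * y = (x * g₁ * (x⁻¹ * a)) * ((b * y⁻¹) * g₂ * y)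
    have h2 : (x * g₁ * (x⁻¹ * a)) * ((b * y⁻¹) * g₂ * y) = x * g₁ * x⁻¹ * (a * b) * y⁻¹ * g₂ * y := by
      group
    rw [h2, h1]
    group
  have hinv : @Continuous T T τ' τ' (fun p : T => p⁻¹) := by
    rw [continuous_generateFrom_iff]
    rintro S ⟨Γ, x, y, rfl⟩
    have : (fun p : T => p⁻¹) ⁻¹' ((fun g : T => x * g * y) '' (Γ : Set T)) =
        (fun g : T => y⁻¹ * g * x⁻¹) '' (Γ : Set T) := by
      ext p
      constructor
      · rintro ⟨g, hg, hgp⟩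
        refine ⟨g⁻¹, Γ.inv_mem hg, ?_⟩
        have hgp' : x * g * y = p⁻¹ := hgp
        have : p = (x * g * y)⁻¹ := by rw [hgp']; simp
        rw [this]; group
      · rintro ⟨g, hg, rfl⟩
        refine ⟨g⁻¹, Γ.inv_mem hg, ?_⟩
        show x * g⁻¹ * y = (y⁻¹ * g * x⁻¹)⁻¹
        group
    rw [this]
    exact hopen _ (hBmem _ _ _)
  -- open subgroups
  have hsub : ∀ S ∈ B, (1 : T) ∈ S → ∃ V : @OpenSubgroup T _ τ', ((V : Subgroup T) : Set T) = S := by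
    rintro S ⟨Γ, x, y, rfl⟩ ⟨γ, hγ, h1⟩
    have hy : y = γ⁻¹ * x⁻¹ := by
      have : x * γ * y = 1 := h1
      calc y = (x * γ)⁻¹ * (x * γ * y) := by group
        _ = γ⁻¹ * x⁻¹ := by rw [this]; group
    have hS : (fun g : T => x * g * y) '' (Γ : Set T) =
        (((Γ : Subgroup T).map (MulAut.conj x).toMonoidHom : Subgroup T) : Set T) := by
      ext p
      constructor
      · rintro ⟨g, hg, rfl⟩
        refine ⟨g * γ⁻¹, Γ.mul_mem hg (Γ.inv_mem hγ), ?_⟩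
        show x * (g * γ⁻¹) * x⁻¹ = x * g * y
        rw [hy]; group
      · rintro ⟨g, hg, rfl⟩
        refine ⟨g * γ, Γ.mul_mem hg hγ, ?_⟩
        show x * (g * γ) * y = x * g * x⁻¹
        rw [hy]; group
    refine ⟨⟨(Γ : Subgroup T).map (MulAut.conj x).toMonoidHom, ?_⟩, hS.symm⟩
    show IsOpen[τ'] (((Γ : Subgroup T).map (MulAut.conj x).toMonoidHom : Subgroup T) : Set T)
    rw [← hS]
    exact hopen _ (hBmem _ _ _)
  refine @NonarchimedeanGroup.mk T _ τ' (@IsTopologicalGroup.mk T τ' _ ⟨hmul⟩ ⟨hinv⟩) ?_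
  intro U hU
  have hbasis := TopologicalSpace.isTopologicalBasis_of_subbasis (t := τ') (s := B) rfl
  obtain ⟨_, ⟨f, ⟨hfin, hfB⟩, rfl⟩, h1f, hfU⟩ := hbasis.mem_nhds_iff.mp hU
  suffices H : ∃ V : @OpenSubgroup T _ τ', ((V : Subgroup T) : Set T) ⊆ ⋂₀ f by
    obtain ⟨V, hV⟩ := H
    exact ⟨V, hV.trans hfU⟩
  clear hfU hU
  induction f, hfin using Set.Finite.induction_on with
  | empty => exact ⟨⊤, by simp⟩
  | @insert S f hSf hfin ih =>
    obtain ⟨V₁, hV₁⟩ := ih (fun s hs => hfB (Set.mem_insert_of_mem _ hs))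
      (fun s hs => h1f s (Set.mem_insert_of_mem _ hs))
    obtain ⟨V₂, hV₂⟩ := hsub S (hfB (Set.mem_insert _ _)) (h1f S (Set.mem_insert _ _))
    refine ⟨V₂ ⊓ V₁, ?_⟩
    rw [Set.sInter_insert]
    intro p hp
    exact ⟨hV₂ ▸ hp.1, hV₁ hp.2⟩

end Groth.Agent.H7.CosetTop
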