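import Mathlib

namespace Groth.Agent.H7.CotFaith

universe u

open IsLocalRing

theorem main (k : Type u) [Field k] (A : Type u) [CommRing A]
    [Algebra k A] [IsLocalRing A] [IsNoetherianRing A]
    (hres : Function.Surjective (algebraMap k (IsLocalRing.ResidueField A)))
    (G : Type u) [Group G] [Finite G] [MulSemiringAction G A] [SMulCommClass G k A]
    (hG : (Nat.card G : k) ≠ 0) (g : G)
    (hg : ∀ a ∈ IsLocalRing.maximalIdeal A, g • a - a ∈ IsLocalRing.maximalIdeal A ^ 2) (a : A) :
    g • a = a := by
  set M := maximalIdeal A with hM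
  -- N is additive
  have hNadd : ∀ x y : A, g • (x + y) - (x + y) = (g • x - x) + (g • y - y) := by
    intro x y; rw [smul_add]; ring
  have hNmul : ∀ x y : A, g • (x * y) - x * y = (g • x - x) * (g • y) + x * (g • y - y) := by
    intro x y; rw [smul_mul']; ring
  -- step 1
  have h1 : ∀ x : A, g • x - x ∈ M ^ 2 := by
    intro x
    obtain ⟨c, hc⟩ := hres (IsLocalRing.residue A x)
    have hxc : x - algebraMap k A c ∈ M := by
      rw [hM, ← Ideal.Quotient.eq_zero_iff_mem, map_sub, sub_eq_zero]
      rw [IsScalarTower.algebraMap_apply k A (ResidueField A)] at hc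
      exact hc.symm
    have hgc : g • (algebraMap k A c) = algebraMap k A c := by
      rw [Algebra.algebraMap_eq_smul_one, smul_comm, smul_one]
    have := hg _ hxc
    rw [smul_sub, hgc] at this
    convert this using 1
    ring
  -- step 2
  have h2 : ∀ i : ℕ, ∀ x ∈ M ^ i, g • x - x ∈ M ^ (i + 1) := by
    intro i
    induction i with
    | zero =>
      intro x _
      exact Ideal.pow_le_pow_right (by norm_num) (h1 x)
    | succ i ih =>
      intro x hx
      rw [pow_succ'] at hx
      refine Submodule.mul_induction_on hx ?_ ?_
      · intro y hy z hz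
        rw [hNmul]
        have hgz : g • z ∈ M ^ i := by
          have : g • z = z + (g • z - z) := by ring
          rw [this]
          exact Ideal.add_mem _ hz (Ideal.pow_le_pow_right (Nat.le_succ i) (ih z hz))
        have e1 : (g • y - y) * (g • z) ∈ M ^ (i + 1 + 1) := by
          have := Ideal.mul_mem_mul (h1 y) hgz
          rw [← pow_add] at this
          exact Ideal.pow_le_pow_right (by omega) this
        have e2 : y * (g • z - z) ∈ M ^ (i + 1 + 1) := by
          have := Ideal.mul_mem_mul hy (ih z hz)
          rwa [← pow_succ'] at this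
        exact Ideal.add_mem _ e1 e2
      · intro y z hy hz
        rw [hNadd]
        exact Ideal.add_mem _ hy hz
  -- order of g
  set m := orderOf g with hm
  have hmk : (m : k) ≠ 0 := by
    intro h0
    apply hG
    obtain ⟨q, hq⟩ := orderOf_dvd_natCard g
    rw [hq, Nat.cast_mul, ← hm, h0, zero_mul]
  -- step 3
  have h3 : ∀ j : ℕ, ∀ x : A, g • x - x ∈ M ^ (j + 1) := by
    intro j
    induction j with
    | zero => intro x; exact Ideal.pow_le_pow_right (by norm_num) (h1 x)
    | succ j ih =>
      intro x
      have hC : ∀ l : ℕ, ∀ y : A, g ^ l • y - y - l • (g • y - y) ∈ M ^ (j + 1 + 1) := by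
        intro l
        induction l with
        | zero => intro y; simp
        | succ l ihl =>
          intro y
          have e0 := ihl y
          set b := g ^ l • y with hb
          have e1 : g ^ (l + 1) • y = g • b := by rw [pow_succ', mul_smul]
          have e2 : g • (b - y - l • (g • y - y)) - (b - y - l • (g • y - y)) ∈ M ^ (j + 1 + 1) :=
            Ideal.pow_le_pow_right (by omega) (h2 _ _ e0)
          have e3 : g • (g • y - y) - (g • y - y) ∈ M ^ (j + 1 + 1) := h2 _ _ (ih y)
          have e4 : g ^ (l + 1) • y - y - (l + 1) • (g • y - y) =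
              (b - y - l • (g • y - y)) +
              (g • (b - y - l • (g • y - y)) - (b - y - l • (g • y - y))) +
              l • (g • (g • y - y) - (g • y - y)) := by
            rw [e1]
            have hgl : ∀ z : A, g • (l • z) = l • (g • z) := fun z => smul_comm g l z
            simp only [smul_sub, hgl, succ_nsmul]
            abel
          rw [e4]
          exact Ideal.add_mem _ (Ideal.add_mem _ e0 e2) (Submodule.smul_of_tower_mem _ l e3)
      have e5 := hC m x
      rw [hm, pow_orderOf_eq_one, one_smul, sub_self, zero_sub, ← hm] at e5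
      have e6 : (m : ℕ) • (g • x - x) ∈ M ^ (j + 1 + 1) := by
        have := Ideal.neg_mem_iff _ |>.mp e5
        exact this
      have e7 : g • x - x = ((m : k)⁻¹) • ((m : ℕ) • (g • x - x)) := by
        rw [← Nat.cast_smul_eq_nsmul k, smul_smul, inv_mul_cancel₀ hmk, one_smul]
      rw [e7]
      exact Submodule.smul_of_tower_mem _ _ e6
  -- Krull
  have h4 : g • a - a ∈ (⨅ i : ℕ, M ^ i) := by
    rw [Ideal.mem_iInf]
    intro i
    cases i with
    | zero => simp
    | succ i => exact h3 i a
  rw [Ideal.iInf_pow_eq_bot_of_isLocalRing _ (IsLocalRing.maximalIdeal.isMaximal A).ne_top] at h4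
  exact sub_eq_zero.mp ((Submodule.mem_bot A).mp h4)

end Groth.Agent.H7.CotFaith
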