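import Mathlib

set_option autoImplicit false
universe u v

namespace Groth.Agent.H7.Crimp

open Module

section Disc
variable {R : Type u} [CommRing R] [IsDomain R] {St : Type v} [CommRing St] [Algebra R St]
  {ι : Type*} [Fintype ι] [DecidableEq ι]

/-- two bases have associated discriminants -/
theorem discr_associated (b b' : Basis ι R St) :
    Associated (Algebra.discr R b) (Algebra.discr R b') := by
  have h1 : Algebra.discr R b = (b'.toMatrix b).det ^ 2 * Algebra.discr R b' := by
    have := Algebra.discr_of_matrix_vecMul (⇑b') (b'.toMatrix b)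
    rw [Basis.toMatrix_map_vecMul] at this
    exact this
  have hu : IsUnit (b'.toMatrix b).det := by
    rw [← LinearMap.toMatrix_id_eq_basis_toMatrix b b']
    exact LinearEquiv.isUnit_det (LinearEquiv.refl R St) b b'
  rw [h1]
  exact associated_unit_mul_left _ _ (hu.pow 2)

/-- the trace of an element of a full-rank subalgebra in diagonal position can be computed in
the big algebra -/
theorem trace_subalgebra_eq (S : Subalgebra R St) (b' : Basis ι R St) (ab : Basis ι R S)
    (a : ι → R) (ha : ∀ i, a i ≠ 0) (hab : ∀ i, (ab i : St) = a i • b' i) (s : S) :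
    Algebra.trace R S s = Algebra.trace R St (s : St) := by
  rw [Algebra.trace_eq_matrix_trace ab, Algebra.trace_eq_matrix_trace b', Matrix.trace, Matrix.trace]
  refine Finset.sum_congr rfl fun j _ => ?_
  rw [Matrix.diag_apply, Matrix.diag_apply, Algebra.leftMulMatrix_eq_repr_mul,
    Algebra.leftMulMatrix_eq_repr_mul]
  have h1 : ((s * ab j : S) : St) = ∑ l, (ab.repr (s * ab j) l * a l) • b' l := by
    conv_lhs => rw [← ab.sum_repr (s * ab j)]
    rw [AddSubmonoidClass.coe_finset_sum]
    refine Finset.sum_congr rfl fun l _ => ?_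
    rw [SetLike.val_smul, hab, smul_smul]
  have h2 : ((s * ab j : S) : St) = a j • ((s : St) * b' j) := by
    rw [MulMemClass.coe_mul, hab, mul_smul_comm]
  have h3 := congrArg (fun x => b'.repr x j) h1
  have h4 := congrArg (fun x => b'.repr x j) h2
  simp only [Basis.repr_sum_self, map_smul, Finsupp.smul_apply, smul_eq_mul] at h3 h4
  rw [h3] at h4
  have := mul_right_cancel₀ (ha j) (h4.trans (mul_comm _ _))
  exact this

end Disc

section Ord
variable {R : Type u} [CommRing R] [IsDomain R]

theorem ord_prod {ι : Type*} (s : Finset ι) (a : ι → R) (ha : ∀ i, a i ≠ 0) :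
    Ring.ord R (∏ i ∈ s, a i) = ∑ i ∈ s, Ring.ord R (a i) := by
  classical
  induction s using Finset.induction_on with
  | empty => simp [Ring.ord_one]
  | insert i s hi ih =>
    rw [Finset.prod_insert hi, Finset.sum_insert hi,
      Ring.ord_mul (R := R) (mem_nonZeroDivisors_of_ne_zero
        (Finset.prod_ne_zero_iff.mpr fun j _ => ha j)), ih]

end Ord

section Main
variable {R : Type u} [CommRing R] [IsDomain R] [IsPrincipalIdealRing R]
  {St : Type v} [CommRing St] [Algebra R St]

/-- A full-rank subalgebra `S` of a finite free algebra `St` over a PID: there is `c ≠ 0` with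
`disc S ~ c² disc St`, `length (St/S) = ord c` and `c` kills `St/S`. -/
theorem exists_index (d : ℕ) (bt : Basis (Fin d) R St) (S : Subalgebra R St)
    (bS : Basis (Fin d) R S) :
    ∃ c : R, c ≠ 0 ∧
      Associated (Algebra.discr R ⇑bS) (c ^ 2 * Algebra.discr R ⇑bt) ∧
      Module.length R (St ⧸ Subalgebra.toSubmodule S) = Ring.ord R c ∧
      ∀ q : St ⧸ Subalgebra.toSubmodule S, c • q = 0 := by
  classical
  let bN : Basis (Fin d) R (Subalgebra.toSubmodule S) :=
    bS.map (Subalgebra.toSubmoduleEquiv S).symm
  have h : Module.finrank R (Subalgebra.toSubmodule S) = Module.finrank R St := by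
    rw [Module.finrank_eq_card_basis bN, Module.finrank_eq_card_basis bt]
  let a := Submodule.smithNormalFormCoeffs bt h
  let b' := Submodule.smithNormalFormTopBasis bt h
  let abN := Submodule.smithNormalFormBotBasis bt h
  have habN : ∀ i, (abN i : St) = a i • b' i := Submodule.smithNormalFormBotBasis_def bt h
  have ha : ∀ i, a i ≠ 0 := Submodule.smithNormalFormCoeffs_ne_zero bt h
  let ab : Basis (Fin d) R S := abN.map (Subalgebra.toSubmoduleEquiv S)
  have hab : ∀ i, (ab i : St) = a i • b' i := fun i => habN i
  refine ⟨∏ i, a i, Finset.prod_ne_zero_iff.mpr fun i _ => ha i, ?_, ?_, ?_⟩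
  · -- discriminants
    have hT : Algebra.traceMatrix R ⇑ab =
        Matrix.diagonal a * Algebra.traceMatrix R ⇑b' * Matrix.diagonal a := by
      ext i j
      rw [Algebra.traceMatrix_apply, Matrix.mul_diagonal, Matrix.diagonal_mul,
        Algebra.traceMatrix_apply, Algebra.traceForm_apply, Algebra.traceForm_apply,
        trace_subalgebra_eq S b' ab a ha hab, MulMemClass.coe_mul, hab, hab,
        smul_mul_smul_comm, map_smul, smul_eq_mul]
      ring
    have hd : Algebra.discr R ⇑ab = (∏ i, a i) ^ 2 * Algebra.discr R ⇑b' := by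
      rw [Algebra.discr_def, hT, Matrix.det_mul, Matrix.det_mul, Matrix.det_diagonal,
        Algebra.discr_def]
      ring
    have h1 := discr_associated bS ab
    have h2 := discr_associated b' bt
    rw [hd] at h1
    exact h1.trans (h2.mul_left _)
  · -- length
    have e := Submodule.quotientEquivPiSpan (Subalgebra.toSubmodule S) bt h
    rw [e.length_eq, Module.length_pi_of_fintype, ord_prod _ _ ha]
    rfl
  · -- annihilation
    intro q
    have e := Submodule.quotientEquivPiSpan (Subalgebra.toSubmodule S) bt h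
    apply e.injective
    rw [map_smul, map_zero]
    funext i
    rw [Pi.smul_apply, Pi.zero_apply]
    obtain ⟨z, hz⟩ := Ideal.Quotient.mk_surjective (e q i)
    rw [← hz, Algebra.smul_def, Ideal.Quotient.algebraMap_eq, ← map_mul,
      Ideal.Quotient.eq_zero_iff_mem]
    apply Ideal.mul_mem_right
    rw [Ideal.mem_span_singleton]
    exact Finset.dvd_prod_of_mem a (Finset.mem_univ i)

end Main

section PS
variable {k : Type u} [Field k]

/-- S13877 -/
theorem crimp_length {St : Type v} [CommRing St] [Algebra (PowerSeries k) St] (d a b : ℕ)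
    (bt : Module.Basis (Fin d) (PowerSeries k) St)
    (ha : Ideal.span {Algebra.discr (PowerSeries k) ⇑bt} =
      Ideal.span {(PowerSeries.X : PowerSeries k) ^ a})
    (S : Subalgebra (PowerSeries k) St) (bS : Module.Basis (Fin d) (PowerSeries k) S)
    (hb : Ideal.span {Algebra.discr (PowerSeries k) ⇑bS} =
      Ideal.span {(PowerSeries.X : PowerSeries k) ^ b}) :
    (∀ q : St ⧸ Subalgebra.toSubmodule S, ((PowerSeries.X : PowerSeries k) ^ b) • q = 0) ∧
    2 * Module.length (PowerSeries k) (St ⧸ Subalgebra.toSubmodule S) + (a : ℕ∞) = (b : ℕ∞) := by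
  obtain ⟨c, hc0, hassoc, hlen, hkill⟩ := exists_index d bt S bS
  have ha' : Associated (Algebra.discr (PowerSeries k) ⇑bt) ((PowerSeries.X : PowerSeries k) ^ a) :=
    Ideal.span_singleton_eq_span_singleton.mp ha
  have hb' : Associated (Algebra.discr (PowerSeries k) ⇑bS) ((PowerSeries.X : PowerSeries k) ^ b) :=
    Ideal.span_singleton_eq_span_singleton.mp hb
  have hX : Associated ((PowerSeries.X : PowerSeries k) ^ b)
      (c ^ 2 * (PowerSeries.X : PowerSeries k) ^ a) :=
    hb'.symm.trans (hassoc.trans (ha'.mul_left _))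
  have hXirr : Irreducible (PowerSeries.X : PowerSeries k) := PowerSeries.X_prime.irreducible
  have hX0 : (PowerSeries.X : PowerSeries k) ∈ nonZeroDivisors (PowerSeries k) :=
    mem_nonZeroDivisors_of_ne_zero PowerSeries.X_ne_zero
  have hordX : ∀ n : ℕ, Ring.ord (PowerSeries k) ((PowerSeries.X : PowerSeries k) ^ n) = n := by
    intro n
    rw [Ring.ord_pow hX0, Ring.ord_of_irreducible hXirr, nsmul_eq_mul, mul_one]
  constructor
  · intro q
    obtain ⟨w, hw⟩ : c ∣ (PowerSeries.X : PowerSeries k) ^ b := by
      obtain ⟨u, hu⟩ := hX.symm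
      exact ⟨c * (PowerSeries.X : PowerSeries k) ^ a * u, by rw [← hu]; ring⟩
    rw [hw, mul_comm, mul_smul, hkill, smul_zero]
  · have h1 := Ring.ord_eq_of_associated hX
    have hXa : (PowerSeries.X : PowerSeries k) ^ a ∈ nonZeroDivisors (PowerSeries k) :=
      mem_nonZeroDivisors_of_ne_zero (pow_ne_zero a PowerSeries.X_ne_zero)
    rw [hordX, Ring.ord_mul (R := PowerSeries k) hXa,
      hordX, Ring.ord_pow (mem_nonZeroDivisors_of_ne_zero hc0), ← hlen] at h1
    rw [h1]
    rw [nsmul_eq_mul]
    rfl

end PS

end Groth.Agent.H7.Crimp
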