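import Groth.Prelude.Def_AlgSpModX
import Groth.Agent.Lib.Helper7.ClosedEt1
import Groth.Agent.Lib.Helper5.AlgSp.InterClosed
import Groth.Agent.Lib.Helper5.AlgSp.Points
import Groth.Agent.Lib.Helper5.AlgSp.PointsTop
import Groth.Agent.Lib.Helper5.AlgSp.Cover
import Mathlib

/-!
# Closed subspaces cut out by sheaves of ideals: factorization criteria
-/

set_option autoImplicit false

universe u

open CategoryTheory CategoryTheory.Limits AlgebraicGeometry Opposite Topology

namespace Groth.Agent.H7.CutOut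

open _root_.AlgSp Groth.Agent.H5.AlgSp

variable {S : Scheme.{u}}

/-- If `h` factors through `i`, the kernel family of `i` is contained in that of `h`. -/
theorem idealOfRep_le_of_factor {F Z X : Sp S} {i : Z ⟶ X} (hi : Representable i) {h : F ⟶ X}
    (hh : Representable h) (k : F ⟶ Z) (hk : k ≫ i = h) : idealOfRep hi ≤ idealOfRep hh := by
  intro E hE a ha
  rw [mem_idealOfRep_iff] at ha ⊢
  let m : hh.pullback E.obj.hom ⟶ hi.pullback E.obj.hom :=
    hi.lift (hh.fst E.obj.hom ≫ k) (hh.snd E.obj.hom) (by rw [Category.assoc, hk, hh.w])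
  have hm : m ≫ hi.snd E.obj.hom = hh.snd E.obj.hom := hi.lift_snd _ _ _
  have h1 : (hh.snd E.obj.hom).left = m.left ≫ (hi.snd E.obj.hom).left := by
    rw [← hm]; rfl
  change (hh.snd E.obj.hom).left.appTop.hom a = 0
  rw [h1, Scheme.Hom.comp_appTop]
  change m.left.appTop.hom ((hi.snd E.obj.hom).left.appTop.hom a) = 0
  have ha' : (hi.snd E.obj.hom).left.appTop.hom a = 0 := ha
  rw [ha', map_zero]

/-- Lifting through a closed immersion into an affine scheme, from kernels of global sections. -/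
lemma exists_lift_of_ker_le {Z' T' V' : Scheme.{u}} [IsAffine V'] (f : Z' ⟶ V')
    [IsClosedImmersion f] (g : T' ⟶ V')
    (hle : RingHom.ker f.appTop.hom ≤ RingHom.ker g.appTop.hom) :
    ∃ m : T' ⟶ Z', m ≫ f = g := by
  have H : f.ker ≤ g.ker := by
    rw [Scheme.ker_of_isAffine, Scheme.ker_of_isAffine]
    apply Scheme.IdealSheafData.le_of_isAffine
    simpa using hle
  exact ⟨IsClosedImmersion.lift f g H, IsClosedImmersion.lift_fac f g H⟩

/-- A scheme valued point whose kernel family contains that of the closed immersion `i` factors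
through `i`. -/
theorem exists_lift_of_le {Z X : Sp S} (hX : IsAlgSpace X) {i : Z ⟶ X}
    (hi : RepWith @IsClosedImmersion i) {T : Over S} (h : (yon S).obj T ⟶ X)
    (hh : Representable h) (hle : idealOfRep hi.1 ≤ idealOfRep hh) :
    ∃ k : (yon S).obj T ⟶ Z, k ≫ i = h := by
  haveI : Mono i := mono_of_repWith_isClosedImmersion hi
  apply exists_lift_of_mono_of_liftSieve_mem
  obtain ⟨V, φ, hφe, hφs⟩ := hX.atlas
  have hφ : ∀ A : V.left.affineOpens,
      RepWith @Etale ((yon S).map (overOpenι V A.1) ≫ φ) := fun A =>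
    (RepWith @Etale).comp_mem _ _
      (repWith_overOpenι @Etale (fun f _ => inferInstance) V A.1) hφe
  let E : V.left.affineOpens → EtOver X := fun A => EtOver.mk _ (hφ A)
  -- the covering family
  let Tk : V.left.affineOpens → Over S := fun A => hh.pullback (E A).obj.hom
  let pk : ∀ A, Tk A ⟶ T := fun A => hh.fst' (E A).obj.hom
  have sqk : ∀ A, IsPullback ((yon S).map (pk A)) ((yon S).map (hh.snd (E A).obj.hom)) h
      (E A).obj.hom := fun A => hh.isPullback' (E A).obj.hom
  rw [mem_J_iff]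
  refine ⟨Presieve.ofArrows Tk pk, ?_, ?_⟩
  · rw [Presieve.map_ofArrows]
    change Presieve.ofArrows (fun A => (Tk A).left) (fun A => (pk A).left) ∈
      Scheme.precoverage (@Flat ⊓ @LocallyOfFinitePresentation) T.left
    rw [Scheme.ofArrows_mem_precoverage_iff]
    constructor
    · intro t
      obtain ⟨v, hv⟩ := ofPt_surjective_of_repWith hφs (Points.ofPt h t)
      obtain ⟨_, ⟨A, hA, rfl⟩, hvA, -⟩ := V.left.isBasis_affineOpens.exists_subset_of_mem_open
        (Set.mem_univ v) isOpen_univ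
      have h1 : Points.ofPt (E ⟨A, hA⟩).obj.hom (⟨v, hvA⟩ : ↥A) = Points.ofPt h t := by
        change Points.ofPt ((yon S).map (overOpenι V A) ≫ φ) (⟨v, hvA⟩ : ↥A) = _
        rw [ofPt_restrict, hv]
      obtain ⟨w, hw, -⟩ := exists_point_of_isPullback (sqk ⟨A, hA⟩).flip
        (Points.ofScheme _ (⟨v, hvA⟩ : ↥A)) t (by
          rw [← Points.ofPt_eq_map_ofScheme]; exact h1)
      exact ⟨⟨A, hA⟩, w, hw⟩
    · intro A
      have he : Etale (pk A).left := (E A).property.property _ _ _ (sqk A).flip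
      exact ⟨inferInstance, inferInstance⟩
  · rintro T' g ⟨A⟩
    -- the local lift over the affine chart
    have sqZ := hi.1.isPullback (E A).obj.hom
    haveI : IsClosedImmersion (hi.1.snd (E A).obj.hom).left := hi.property _ _ _ sqZ
    haveI : IsAffine (E A).obj.left.left := A.2
    have hker : RingHom.ker (hi.1.snd (E A).obj.hom).left.appTop.hom ≤
        RingHom.ker (hh.snd (E A).obj.hom).left.appTop.hom := hle (E A) A.2
    obtain ⟨m₀, hm₀⟩ := exists_lift_of_ker_le (hi.1.snd (E A).obj.hom).left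
      (hh.snd (E A).obj.hom).left hker
    let m : Tk A ⟶ hi.1.pullback (E A).obj.hom := Over.homMk m₀ (by
      have h1 := Over.w (hi.1.snd (E A).obj.hom)
      have h2 := Over.w (hh.snd (E A).obj.hom)
      rw [← h1, ← Category.assoc, hm₀, h2])
    have hm : m ≫ hi.1.snd (E A).obj.hom = hh.snd (E A).obj.hom := Over.OverMorphism.ext hm₀
    refine ⟨(yon S).map m ≫ hi.1.fst (E A).obj.hom, ?_⟩
    rw [Category.assoc, hi.1.w, ← Category.assoc, ← Functor.map_comp, hm, ← (sqk A).w]

theorem S10001_main {Z X : AlgSp.Space S} (i : Z ⟶ X) (I : AlgSp.IdealEt X.obj)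
    (hZ : AlgSp.IsCutOutBy I i.hom) {T : Over S} (h : (AlgSp.yon S).obj T ⟶ X.obj)
    (hh : AlgSp.Representable h) :
    (∃ k : (AlgSp.yon S).obj T ⟶ Z.obj, k ≫ i.hom = h) ↔ I ≤ AlgSp.idealOfRep hh := by
  obtain ⟨hi, rfl⟩ := hZ
  constructor
  · rintro ⟨k, hk⟩
    exact idealOfRep_le_of_factor hi.1 hh k hk
  · intro hle
    exact exists_lift_of_le X.property hi h hh hle

theorem S9989_main {X Z Z' : AlgSp.Space S} (i : Z ⟶ X) (i' : Z' ⟶ X)
    (I I' : AlgSp.IdealEt X.obj) (h : AlgSp.IsCutOutBy I i.hom) (h' : AlgSp.IsCutOutBy I' i'.hom) :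
    I ≤ I' ↔ ∃ k : Z' ⟶ Z, k ≫ i = i' := by
  obtain ⟨hi, rfl⟩ := h
  obtain ⟨hi', rfl⟩ := h'
  constructor
  · intro hle
    haveI : Mono i.hom := mono_of_repWith_isClosedImmersion hi
    obtain ⟨k, hk⟩ := exists_lift_of_mono_of_forall_yon i.hom i'.hom (by
      intro T x
      have hh : Representable (x ≫ i'.hom) := X.property.representable_from_yon _
      have h1 : idealOfRep hi'.1 ≤ idealOfRep hh := idealOfRep_le_of_factor hi'.1 hh x rfl
      exact exists_lift_of_le X.property hi (x ≫ i'.hom) hh (fun E hE => (hle E hE).trans (h1 E hE)))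
    exact ⟨ObjectProperty.homMk k, ObjectProperty.hom_ext _ hk⟩
  · rintro ⟨k, hk⟩
    have hk' : k.hom ≫ i.hom = i'.hom := congrArg (fun f => f.hom) hk
    exact idealOfRep_le_of_factor hi.1 hi'.1 k.hom hk'

end Groth.Agent.H7.CutOut
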