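import Mathlib

/-!
# Ideal sheaves on affine schemes: pullback of `ofIdealTop`
-/

set_option autoImplicit false

universe u

open CategoryTheory CategoryTheory.Limits AlgebraicGeometry Opposite Topology

namespace Groth.Agent.H7.IdealAff

open Scheme.IdealSheafData

lemma ofIdealTop_le_ofIdealTop_iff {W : Scheme.{u}} [IsAffine W] (J K : Ideal Γ(W, ⊤)) :
    ofIdealTop J ≤ ofIdealTop K ↔ J ≤ K := by
  constructor
  · intro h
    have := h ⟨⊤, isAffineOpen_top W⟩
    simpa using this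
  · intro h
    apply le_of_isAffine
    simpa using h

lemma ofIdealTop_injective {W : Scheme.{u}} [IsAffine W] {J K : Ideal Γ(W, ⊤)}
    (h : ofIdealTop J = ofIdealTop K) : J = K :=
  le_antisymm ((ofIdealTop_le_ofIdealTop_iff J K).1 h.le) ((ofIdealTop_le_ofIdealTop_iff K J).1 h.ge)

lemma ofIdealTop_le_ker_iff {T W : Scheme.{u}} [IsAffine W] (J : Ideal Γ(W, ⊤)) (y : T ⟶ W) :
    ofIdealTop J ≤ y.ker ↔ J ≤ RingHom.ker y.appTop.hom := by
  rw [Scheme.ker_of_isAffine, ofIdealTop_le_ofIdealTop_iff]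

/-- The kernel on global sections of the closed subscheme cut out by an ideal of an affine
scheme. -/
lemma ker_appTop_subschemeι {W : Scheme.{u}} [IsAffine W] (J : Ideal Γ(W, ⊤)) :
    RingHom.ker (ofIdealTop J).subschemeι.appTop.hom = J := by
  apply ofIdealTop_injective
  rw [← Scheme.ker_of_isAffine, ker_subschemeι]

/-- Pullback of the ideal sheaf of an ideal along a morphism of affine schemes. -/
lemma comap_ofIdealTop {A' W : Scheme.{u}} [IsAffine A'] [IsAffine W] (c : A' ⟶ W)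
    (J : Ideal Γ(W, ⊤)) :
    (ofIdealTop J).comap c = ofIdealTop (J.map c.appTop.hom) := by
  have key : ∀ {T : Scheme.{u}} (y : T ⟶ A'),
      (ofIdealTop J).comap c ≤ y.ker ↔ ofIdealTop (J.map c.appTop.hom) ≤ y.ker := by
    intro T y
    rw [← le_map_iff_comap_le, ← Scheme.Hom.ker_comp, ofIdealTop_le_ker_iff, ofIdealTop_le_ker_iff,
      Ideal.map_le_iff_le_comap, Scheme.Hom.comp_appTop, CommRingCat.hom_comp, ← RingHom.comap_ker]
  apply le_antisymm
  · have := (key (ofIdealTop (J.map c.appTop.hom)).subschemeι).2 (by rw [ker_subschemeι])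
    rwa [ker_subschemeι] at this
  · have := (key ((ofIdealTop J).comap c).subschemeι).1 (by rw [ker_subschemeι])
    rwa [ker_subschemeι] at this

/-- An ideal sheaf is determined by its restrictions to affine opens. -/
lemma ideal_eq_of_comap_ι_eq {R : Scheme.{u}} {𝓙 𝓙' : R.IdealSheafData} (A : R.affineOpens)
    (h : 𝓙.comap A.1.ι = 𝓙'.comap A.1.ι) : 𝓙.ideal A = 𝓙'.ideal A := by
  haveI : IsAffine (A.1 : Scheme) := A.2
  have h1 := congrArg (fun K => K.ideal ⟨⊤, isAffineOpen_top _⟩) h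
  simp only [ideal_comap_of_isOpenImmersion] at h1
  have hs : Function.Surjective (A.1.ι.appIso ⊤).inv.hom :=
    (ConcreteCategory.bijective_of_isIso (A.1.ι.appIso ⊤).inv).2
  have h2 := Ideal.comap_injective_of_surjective _ hs h1
  have hB : (⟨A.1.ι ''ᵁ ⊤, (isAffineOpen_top _).image_of_isOpenImmersion A.1.ι⟩ : R.affineOpens) = A :=
    Subtype.ext A.1.ι_image_top
  have key : ∀ (B : R.affineOpens), B = A → 𝓙.ideal B = 𝓙'.ideal B → 𝓙.ideal A = 𝓙'.ideal A := by
    rintro B rfl h
    exact h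
  exact key _ hB h2

lemma ext_of_comap_ι {R : Scheme.{u}} {𝓙 𝓙' : R.IdealSheafData}
    (h : ∀ A : R.affineOpens, 𝓙.comap A.1.ι = 𝓙'.comap A.1.ι) : 𝓙 = 𝓙' := by
  apply Scheme.IdealSheafData.ext
  funext A
  exact ideal_eq_of_comap_ι_eq A (h A)

end Groth.Agent.H7.IdealAff
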