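import Groth.Prelude.Def_AlgSpModX
import Groth.Agent.Lib.Helper7.IdealAff1
import Groth.Agent.Lib.Helper5.AlgSp.SchImageQC
import Groth.Agent.Lib.Helper5.AlgSp.ClosedDescentFam
import Groth.Agent.Lib.Helper5.AlgSp.RepOver
import Groth.Agent.Lib.Helper5.AlgSp.PointsTop
import Mathlib

/-!
# The closed subspace cut out by a quasi-coherent sheaf of ideals
-/

set_option autoImplicit false

universe u

open CategoryTheory CategoryTheory.Limits AlgebraicGeometry Opposite Topology

namespace Groth.Agent.H7.CutOut2

open _root_.AlgSp Groth.Agent.H5.AlgSp Groth.Agent.H7.IdealAff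

variable {S : Scheme.{u}} {X : Sp S} (I : IdealEt X)

/-- An affine étale chart as an object of the small étale site. -/
abbrev chartE (k : AffEtChart X) : EtOver X := EtOver.mk k.q k.etale

/-- The ideal sheaf on an affine étale chart given by the family `I`. -/
noncomputable def idl (k : AffEtChart X) : Scheme.IdealSheafData k.W.left :=
  haveI := k.affine
  Scheme.IdealSheafData.ofIdealTop (I.ideal (chartE k) k.affine)

/-- The closed subscheme of the chart. -/
noncomputable abbrev zOver (k : AffEtChart X) : Over S :=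
  Over.mk ((idl I k).subschemeι ≫ k.W.hom)

/-- Its inclusion. -/
noncomputable abbrev zι (k : AffEtChart X) : zOver I k ⟶ k.W :=
  Over.homMk (idl I k).subschemeι rfl

instance (k : AffEtChart X) : IsClosedImmersion (zι I k).left :=
  inferInstanceAs (IsClosedImmersion (idl I k).subschemeι)

instance (k : AffEtChart X) : Mono (zι I k) := mono_of_isClosedImmersion_left _

variable {I}

/-- The pullback of the chart ideal to an affine open of a scheme étale over the chart is the
ideal given by the family there. -/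
lemma comap_idl (hI : I.IsQCoh) (k : AffEtChart X) {R : Over S} (s : R ⟶ k.W)
    (ξ : (yon S).obj R ⟶ X) (hξ : ξ = (yon S).map s ≫ k.q) (hξe : RepWith @Etale ξ)
    (A : R.left.affineOpens) :
    ((idl I k).comap s.left).comap A.1.ι =
      haveI : IsAffine (A.1 : Scheme) := A.2
      Scheme.IdealSheafData.ofIdealTop
        (I.ideal (EtOver.mk ((yon S).map (overOpenι R A.1) ≫ ξ) (repWith_etale_restrict hξe A.1))
          A.2) := by
  subst hξ
  haveI : IsAffine (A.1 : Scheme) := A.2
  haveI : IsAffine k.W.left := k.affine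
  haveI : IsAffine (chartE k).obj.left.left := k.affine
  rw [← Scheme.IdealSheafData.comap_comp]
  change (Scheme.IdealSheafData.ofIdealTop (I.ideal (chartE k) k.affine)).comap (A.1.ι ≫ s.left) = _
  rw [comap_ofIdealTop]
  congr 1
  let E' : EtOver X :=
    EtOver.mk ((yon S).map (overOpenι R A.1) ≫ (yon S).map s ≫ k.q) (repWith_etale_restrict hξe A.1)
  let g : E' ⟶ chartE k := EtOver.homMk (overOpenι R A.1 ≫ s) (by
    rw [Functor.map_comp, Category.assoc]; rfl)
  exact le_antisymm (I.map_le g k.affine A.2) (hI g k.affine A.2)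

/-- The chart ideals are compatible. -/
lemma zOver_saturated (hI : I.IsQCoh) (hX : IsAlgSpace X) (k k' : AffEtChart X) (T : Over S)
    (v : T ⟶ k.W) (v' : T ⟶ k'.W) (h : (yon S).map v ≫ k.q = (yon S).map v' ≫ k'.q)
    (hv' : ∃ w : T ⟶ zOver I k', w ≫ zι I k' = v') :
    ∃ w : T ⟶ zOver I k, w ≫ zι I k = v := by
  have hrep := hX.representable_from_yon k.q
  have sqR := hrep.isPullback k'.q
  obtain ⟨s, hs⟩ := (yon S).map_surjective (hrep.fst k'.q)
  rw [← hs] at sqR
  set t := hrep.snd k'.q with ht_def
  have hse : RepWith @Etale ((yon S).map s) :=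
    (RepWith @Etale).of_isPullback sqR.flip k'.etale
  have hξe : RepWith @Etale ((yon S).map s ≫ k.q) :=
    (RepWith @Etale).comp_mem _ _ hse k.etale
  obtain ⟨r, hr⟩ := (yon S).map_surjective (sqR.lift ((yon S).map v) ((yon S).map v') h)
  have hr1 : r ≫ s = v := by
    apply (yon S).map_injective
    rw [Functor.map_comp, hr, sqR.lift_fst]
  have hr2 : r ≫ t = v' := by
    apply (yon S).map_injective
    rw [Functor.map_comp, hr, sqR.lift_snd]
  have heq : (idl I k).comap s.left = (idl I k').comap t.left := by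
    apply ext_of_comap_ι
    intro A
    rw [comap_idl hI k s ((yon S).map s ≫ k.q) rfl hξe A,
      comap_idl hI k' t ((yon S).map s ≫ k.q) sqR.w hξe A]
  rw [exists_lift_subscheme_iff] at hv' ⊢
  rw [← hr1, Over.comp_left, Scheme.Hom.ker_comp, Scheme.IdealSheafData.le_map_iff_comap_le, heq,
    ← Scheme.IdealSheafData.le_map_iff_comap_le, ← Scheme.Hom.ker_comp, ← Over.comp_left, hr2]
  exact hv'

variable (I)

/-- The closed subspace cut out by `I`, as a subsheaf of `X`. -/
noncomputable def cut : Sp S := descFam (fun k : AffEtChart X => k.q) (zι I)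

/-- The inclusion of the closed subspace. -/
noncomputable def cutι : cut I ⟶ X := descFamι (fun k : AffEtChart X => k.q) (zι I)

variable {I}

theorem repWith_isClosedImmersion_cutι (hI : I.IsQCoh) (hX : IsAlgSpace X) :
    RepWith @IsClosedImmersion (cutι I) :=
  repWith_isClosedImmersion_descFamι (jointLiftSieve_affEtChart_mem hX)
    (fun k k' T v v' h hv' => zOver_saturated hI hX k k' T v v' h hv')

theorem isAlgSpace_cut (hI : I.IsQCoh) (hX : IsAlgSpace X) : IsAlgSpace (cut I) :=
  isAlgSpace_of_representable hX (cutι I) (repWith_isClosedImmersion_cutι hI hX).rep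

theorem exists_isPullback_cut (hI : I.IsQCoh) (hX : IsAlgSpace X) (k : AffEtChart X) :
    ∃ l : (yon S).obj (zOver I k) ⟶ cut I,
      IsPullback l ((yon S).map (zι I k)) (cutι I) k.q := by
  obtain ⟨l, hl⟩ := exists_descFamLift (p := fun k : AffEtChart X => k.q) (ι := zι I)
    (fun k k' T v v' h hv' => zOver_saturated hI hX k k' T v v' h hv') k
  exact ⟨l, isPullback_descFam k l hl⟩

/-- Two base changes of the same morphism to a scheme have the same kernel on global sections. -/
lemma ker_appTop_eq_of_isPullback {Z : Sp S} {i : Z ⟶ X} {W P P' : Over S}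
    {q : (yon S).obj W ⟶ X} {fst : (yon S).obj P ⟶ Z} {snd : P ⟶ W}
    {fst' : (yon S).obj P' ⟶ Z} {snd' : P' ⟶ W}
    (sq : IsPullback fst ((yon S).map snd) i q) (sq' : IsPullback fst' ((yon S).map snd') i q) :
    RingHom.ker snd.left.appTop.hom = RingHom.ker snd'.left.appTop.hom := by
  have aux : ∀ {P P' : Over S} {fst : (yon S).obj P ⟶ Z} {snd : P ⟶ W}
      {fst' : (yon S).obj P' ⟶ Z} {snd' : P' ⟶ W}
      (_ : IsPullback fst ((yon S).map snd) i q) (_ : IsPullback fst' ((yon S).map snd') i q),
      RingHom.ker snd.left.appTop.hom ≤ RingHom.ker snd'.left.appTop.hom := by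
    intro P P' fst snd fst' snd' sq sq'
    obtain ⟨m, hm⟩ := (yon S).map_surjective (sq.lift fst' ((yon S).map snd') sq'.w)
    have h1 : m ≫ snd = snd' := by
      apply (yon S).map_injective
      rw [Functor.map_comp, hm, sq.lift_snd]
    have h2 : snd'.left = m.left ≫ snd.left := by rw [← h1]; rfl
    intro a ha
    rw [RingHom.mem_ker] at ha ⊢
    rw [h2, Scheme.Hom.comp_appTop]
    change m.left.appTop.hom (snd.left.appTop.hom a) = 0
    rw [ha, map_zero]
  exact le_antisymm (aux sq sq') (aux sq' sq)

theorem idealOfRep_cutι (hI : I.IsQCoh) (hX : IsAlgSpace X) :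
    idealOfRep (repWith_isClosedImmersion_cutι hI hX).1 = I := by
  apply IdealEt.ext
  funext E hE
  let k : AffEtChart X := ⟨E.obj.left, E.obj.hom, hE, E.property⟩
  obtain ⟨l, sq⟩ := exists_isPullback_cut hI hX k
  have sq' := (repWith_isClosedImmersion_cutι hI hX).1.isPullback E.obj.hom
  have h1 := ker_appTop_eq_of_isPullback sq' sq
  change RingHom.ker ((repWith_isClosedImmersion_cutι hI hX).1.snd E.obj.hom).left.appTop.hom = _
  rw [h1]
  haveI : IsAffine k.W.left := hE
  haveI : IsAffine (chartE k).obj.left.left := hE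
  exact ker_appTop_subschemeι (I.ideal (chartE k) k.affine)

theorem S9988_main (X : AlgSp.Space S) (I : AlgSp.IdealEt X.obj) (hI : I.IsQCoh) :
    ∃ (Z : AlgSp.Space S) (i : Z ⟶ X), AlgSp.IsCutOutBy I i.hom :=
  ⟨⟨cut I, isAlgSpace_cut hI X.property⟩, ObjectProperty.homMk (cutι I),
    repWith_isClosedImmersion_cutι hI X.property, idealOfRep_cutι hI X.property⟩

end Groth.Agent.H7.CutOut2
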