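import Groth.Prelude.Def_AlgSpModX
import Groth.Prelude.Def_AlgSpSub
import Groth.Agent.Lib.Helper7.IdealAff1
import Groth.Agent.Lib.Helper7.CutOut1
import Groth.Agent.Lib.Helper7.CutOut2
import Groth.Agent.Lib.Helper5.AlgSp.SchKer
import Groth.Agent.Lib.Helper5.AlgSp.QCompact
import Mathlib

/-!
# The kernel ideal of a quasi-compact representable morphism and the scheme theoretic image
-/

set_option autoImplicit false

universe u

open CategoryTheory CategoryTheory.Limits AlgebraicGeometry Opposite Topology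

namespace Groth.Agent.H7.CutOut3

open _root_.AlgSp Groth.Agent.H5.AlgSp Groth.Agent.H7.IdealAff Groth.Agent.H7.CutOut

variable {S : Scheme.{u}}

/-- The kernel family of a quasi-compact representable morphism is quasi-coherent. -/
theorem isQCoh_idealOfRep {X Y : Sp S} {f : X ⟶ Y} (hf : Representable f)
    (hqc : IsQuasiCompactMor f) : (idealOfRep hf).IsQCoh := by
  intro E E' g hE hE'
  have hq : RepWith @QuasiCompact f := repWith_quasiCompact_of_isQuasiCompactMor hf hqc
  have sqE := hf.isPullback E.obj.hom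
  have sqE' := hf.isPullback E'.obj.hom
  have hw : E'.obj.hom = (yon S).map g.hom.left ≫ E.obj.hom := (EtOver.w g).symm
  let m' : (yon S).obj (hf.pullback E'.obj.hom) ⟶ (yon S).obj (hf.pullback E.obj.hom) :=
    sqE.lift (hf.fst E'.obj.hom) ((yon S).map (hf.snd E'.obj.hom) ≫ (yon S).map g.hom.left) (by
      rw [sqE'.w, hw, Category.assoc])
  have hm1 : m' ≫ hf.fst E.obj.hom = hf.fst E'.obj.hom := sqE.lift_fst _ _ _
  have hm2 : m' ≫ (yon S).map (hf.snd E.obj.hom) =
      (yon S).map (hf.snd E'.obj.hom) ≫ (yon S).map g.hom.left := sqE.lift_snd _ _ _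
  have sqL : IsPullback m' ((yon S).map (hf.snd E'.obj.hom)) ((yon S).map (hf.snd E.obj.hom))
      ((yon S).map g.hom.left) := by
    apply IsPullback.of_right (h₁₂ := hf.fst E.obj.hom) (h₂₂ := E.obj.hom) _ hm2 sqE
    rw [hm1, ← hw]
    exact sqE'
  obtain ⟨m, hm⟩ := (yon S).map_surjective m'
  rw [← hm] at sqL hm2
  have hcomm : m ≫ hf.snd E.obj.hom = hf.snd E'.obj.hom ≫ g.hom.left := by
    apply (yon S).map_injective
    rw [Functor.map_comp, Functor.map_comp, hm2]
  have sqO : IsPullback m (hf.snd E'.obj.hom) (hf.snd E.obj.hom) g.hom.left :=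
    IsPullback.of_map (yon S) hcomm sqL
  have sqS := sqO.map (Over.forget S)
  haveI : QuasiCompact (hf.snd E.obj.hom).left := hq.property _ _ _ sqE
  haveI : Flat g.hom.left.left := by
    haveI := EtOver.etale_left g
    infer_instance
  have hker : (hf.snd E'.obj.hom).left.ker = (hf.snd E.obj.hom).left.ker.comap g.hom.left.left :=
    ker_eq_comap_of_isPullback sqS
  haveI : IsAffine E.obj.left.left := hE
  haveI : IsAffine E'.obj.left.left := hE'
  rw [Scheme.ker_of_isAffine, Scheme.ker_of_isAffine, comap_ofIdealTop] at hker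
  exact (ofIdealTop_injective hker).le

/-- A closed subspace cut out by the kernel family of `f` is the scheme theoretic image. -/
theorem isSchImage_of_isCutOutBy {X Y Z : AlgSp.Space S} (f : X ⟶ Y) (hf : Representable f.hom)
    (i : Z ⟶ Y) (h : IsCutOutBy (idealOfRep hf) i.hom) : IsSchImage f.hom i.hom := by
  obtain ⟨hi, heq⟩ := h
  haveI : Mono i.hom := mono_of_repWith_isClosedImmersion hi
  refine ⟨hi, ?_, ?_⟩
  · apply exists_lift_of_mono_of_forall_yon
    intro T x
    have hh : Representable (x ≫ f.hom) := Y.property.representable_from_yon _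
    apply exists_lift_of_le Y.property hi (x ≫ f.hom) hh
    rw [heq]
    exact idealOfRep_le_of_factor hf hh x rfl
  · intro Z' i' hZ' hi' hfac
    obtain ⟨f'', hf''⟩ := hfac
    let Z'' : AlgSp.Space S := ⟨Z', hZ'⟩
    let i'' : Z'' ⟶ Y := ObjectProperty.homMk i'
    have hle : idealOfRep hi'.1 ≤ idealOfRep hi.1 := by
      rw [heq]
      exact idealOfRep_le_of_factor hi'.1 hf f'' hf''
    obtain ⟨k, hk⟩ := (S9989_main i'' i (idealOfRep hi'.1) (idealOfRep hi.1) ⟨hi', rfl⟩
      ⟨hi, rfl⟩).1 hle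
    exact ⟨k.hom, congrArg (fun f => f.hom) hk⟩

theorem S10003_main {X Y : AlgSp.Space S} (f : X ⟶ Y)
    (hf : AlgSp.Representable f.hom) (hqc : AlgSp.IsQuasiCompactMor f.hom) :
    (AlgSp.idealOfRep hf).IsQCoh ∧
      ∀ (Z : AlgSp.Space S) (i : Z ⟶ Y),
        AlgSp.IsSchImage f.hom i.hom ↔ AlgSp.IsCutOutBy (AlgSp.idealOfRep hf) i.hom := by
  have hQ := isQCoh_idealOfRep hf hqc
  refine ⟨hQ, fun Z i => ⟨fun h => ?_, isSchImage_of_isCutOutBy f hf i⟩⟩
  obtain ⟨hi, ⟨f', hf'⟩, hmin⟩ := h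
  refine ⟨hi, ?_⟩
  have h1 : idealOfRep hi.1 ≤ idealOfRep hf := idealOfRep_le_of_factor hi.1 hf f' hf'
  obtain ⟨Z', i', hcut⟩ := Groth.Agent.H7.CutOut2.S9988_main Y (idealOfRep hf) hQ
  have himg := isSchImage_of_isCutOutBy f hf i' hcut
  obtain ⟨hi', heq'⟩ := hcut
  obtain ⟨k, hk⟩ := hmin i'.hom Z'.property hi' himg.2.1
  have h2 : idealOfRep hi'.1 ≤ idealOfRep hi.1 := idealOfRep_le_of_factor hi'.1 hi.1 k hk
  rw [heq'] at h2
  apply IdealEt.ext
  funext E hE
  exact le_antisymm (h1 E hE) (h2 E hE)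

end Groth.Agent.H7.CutOut3
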