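import Groth.Prelude.Def_AlgSpModX
import Groth.Agent.Lib.Helper5.AlgSp.LocPBasic
import Groth.Agent.Lib.Helper5.AlgSp.PointsTop
import Mathlib

/-!
# Closed immersions of algebraic spaces locally of finite presentation
-/

set_option autoImplicit false

universe u

open CategoryTheory CategoryTheory.Limits AlgebraicGeometry Opposite Topology

namespace Groth.Agent.H7.CutOutFP

open _root_.AlgSp Groth.Agent.H5.AlgSp

variable {S : Scheme.{u}}

/-- A surjective ring homomorphism is of finite presentation iff its kernel is finitely generated. -/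
lemma finitePresentation_iff_ker_fg {A B : Type u} [CommRing A] [CommRing B] (f : A →+* B)
    (hf : Function.Surjective f) : f.FinitePresentation ↔ (RingHom.ker f).FG := by
  constructor
  · intro h
    algebraize [f]
    have := Algebra.FinitePresentation.ker_fG_of_surjective (Algebra.ofId A B) hf
    exact this
  · intro h
    exact RingHom.FinitePresentation.of_surjective f hf h

/-- A closed immersion into an affine scheme is locally of finite presentation iff the kernel on
global sections is finitely generated. -/
lemma lfp_iff_ker_fg {Z' V' : Scheme.{u}} [IsAffine V'] (f : Z' ⟶ V') [IsClosedImmersion f] :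
    LocallyOfFinitePresentation f ↔ (RingHom.ker f.appTop.hom).FG := by
  obtain ⟨h1, h2⟩ := IsClosedImmersion.isAffine_surjective_of_isAffine f
  rw [HasRingHomProperty.iff_of_isAffine (P := @LocallyOfFinitePresentation)]
  exact finitePresentation_iff_ker_fg f.appTop.hom h2

theorem S9997_main {Z X : AlgSp.Space S} (i : Z ⟶ X)
    (hi : AlgSp.RepWith @IsClosedImmersion i.hom) :
    AlgSp.LocP @LocallyOfFinitePresentation i.hom ↔
      ∀ (E : AlgSp.EtOver X.obj) (hE : IsAffine E.obj.left.left),
        ((AlgSp.idealOfRep hi.1).ideal E hE).FG := by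
  constructor
  · intro h E hE
    have sq := hi.1.isPullback E.obj.hom
    have hfst : RepWith @Etale (hi.1.fst E.obj.hom) :=
      MorphismProperty.of_isPullback (P := RepWith @Etale) sq.flip E.property
    have hP : LocallyOfFinitePresentation (hi.1.snd E.obj.hom).left :=
      h (hi.1.fst E.obj.hom) E.obj.hom (hi.1.snd E.obj.hom) hfst E.property sq.w
    haveI : IsClosedImmersion (hi.1.snd E.obj.hom).left := hi.property _ _ _ sq
    haveI : IsAffine E.obj.left.left := hE
    exact (lfp_iff_ker_fg (hi.1.snd E.obj.hom).left).1 hP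
  · intro h U V a b g ha hb comm
    -- local on the source
    let ι : Type u := {B : U.left.affineOpens // ∃ A : V.left.affineOpens, B.1 ≤ g.left ⁻¹ᵁ A.1}
    apply (IsZariskiLocalAtSource.iff_of_iSup_eq_top (P := @LocallyOfFinitePresentation)
      (fun B : ι => B.1.1) ?_).2
    · rintro ⟨B, A, hBA⟩
      change LocallyOfFinitePresentation (B.1.ι ≫ g.left)
      -- the restricted morphism
      have hr : Set.range (B.1.ι ≫ g.left) ⊆ Set.range A.1.ι := by
        rintro _ ⟨x, rfl⟩
        rw [Scheme.Opens.range_ι]
        exact hBA x.2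
      let m₀ : (B.1 : Scheme) ⟶ (A.1 : Scheme) := IsOpenImmersion.lift A.1.ι (B.1.ι ≫ g.left) hr
      have hm₀ : m₀ ≫ A.1.ι = B.1.ι ≫ g.left := IsOpenImmersion.lift_fac _ _ _
      let m : overOpen U B.1 ⟶ overOpen V A.1 := Over.homMk m₀ (by
        change m₀ ≫ A.1.ι ≫ V.hom = B.1.ι ≫ U.hom
        rw [← Category.assoc, hm₀, Category.assoc, Over.w g])
      have hm : m ≫ overOpenι V A.1 = overOpenι U B.1 ≫ g := Over.OverMorphism.ext hm₀
      have ha' : RepWith @Etale ((yon S).map (overOpenι U B.1) ≫ a) := repWith_etale_restrict ha B.1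
      have hb' : RepWith @Etale ((yon S).map (overOpenι V A.1) ≫ b) := repWith_etale_restrict hb A.1
      have comm' : ((yon S).map (overOpenι U B.1) ≫ a) ≫ i.hom =
          (yon S).map m ≫ (yon S).map (overOpenι V A.1) ≫ b := by
        rw [Category.assoc, comm, ← Category.assoc, ← Functor.map_comp, ← hm, Functor.map_comp,
          Category.assoc]
      obtain ⟨c, hc, hce⟩ := exists_factor_of_chart hi.1 ha' hb' comm'
      let E : EtOver X.obj := EtOver.mk _ hb'
      have hEA : IsAffine E.obj.left.left := A.2
      have sq := hi.1.isPullback E.obj.hom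
      haveI : IsClosedImmersion (hi.1.snd E.obj.hom).left := hi.property _ _ _ sq
      haveI : IsAffine E.obj.left.left := hEA
      have hP : LocallyOfFinitePresentation (hi.1.snd E.obj.hom).left :=
        (lfp_iff_ker_fg (hi.1.snd E.obj.hom).left).2 (h E hEA)
      have h3 : m₀ = c.left ≫ (hi.1.snd E.obj.hom).left := by
        have := congrArg (fun k => k.left) hc
        exact this.symm
      rw [← hm₀, h3]
      haveI := hce
      infer_instance
    · rw [eq_top_iff]
      rintro x -
      obtain ⟨_, ⟨A, hA, rfl⟩, hxA, -⟩ := V.left.isBasis_affineOpens.exists_subset_of_mem_open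
        (Set.mem_univ (g.left x)) isOpen_univ
      obtain ⟨_, ⟨B, hB, rfl⟩, hxB, hBA⟩ := U.left.isBasis_affineOpens.exists_subset_of_mem_open
        (show x ∈ (g.left ⁻¹ᵁ A : U.left.Opens) from hxA) (g.left ⁻¹ᵁ A).2
      exact TopologicalSpace.Opens.mem_iSup.2 ⟨⟨⟨B, hB⟩, ⟨A, hA⟩, hBA⟩, hxB⟩

end Groth.Agent.H7.CutOutFP
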