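import Mathlib

/-! Crossed homomorphisms of a finite cyclic group and coinvariants. -/

namespace Groth.Agent.H7.CycH1

open Finset

universe u v w

variable {k : Type u} {G : Type v} {V : Type w} [CommRing k] [Group G] [Finite G]
  [AddCommGroup V] [Module k V] (ρ : Representation k G V) (t : G)

/-- partial norm `1 + T + ... + T^{i-1}`. -/
noncomputable def S (i : ℕ) : Module.End k V := ∑ j ∈ range i, (ρ t) ^ j

theorem S_zero : S ρ t 0 = 0 := by simp [S]

theorem S_succ (i : ℕ) : S ρ t (i + 1) = S ρ t i + (ρ t) ^ i := by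
  simp [S, Finset.sum_range_succ]

theorem S_one : S ρ t 1 = 1 := by simp [S]

theorem S_add (a b : ℕ) : S ρ t (a + b) = S ρ t a + (ρ t) ^ a * S ρ t b := by
  induction b with
  | zero => simp [S_zero]
  | succ b ih =>
    rw [← add_assoc, S_succ, ih, S_succ, mul_add, pow_add, add_assoc]

theorem sub_one_mul_S (i : ℕ) : (ρ t - 1) * S ρ t i = (ρ t) ^ i - 1 := by
  rw [S]
  exact mul_geom_sum (ρ t) i

theorem rho_pow (i : ℕ) : ρ (t ^ i) = (ρ t) ^ i := map_pow ρ t i

variable {ρ t}

theorem exists_pow_eq (ht : ∀ g : G, g ∈ Subgroup.zpowers t) (g : G) : ∃ i : ℕ, t ^ i = g := by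
  have h := (mem_powers_iff_mem_zpowers).mpr (ht g)
  exact (Submonoid.mem_powers_iff _ _).mp h

theorem ker_le_range (ht : ∀ g : G, g ∈ Subgroup.zpowers t) :
    Representation.Coinvariants.ker ρ ≤ LinearMap.range (ρ t - 1) := by
  rw [Representation.Coinvariants.ker, Submodule.span_le]
  rintro _ ⟨⟨g, w⟩, rfl⟩
  obtain ⟨i, rfl⟩ := exists_pow_eq ht g
  refine ⟨S ρ t i w, ?_⟩
  have := congrArg (fun φ : Module.End k V => φ w) (sub_one_mul_S ρ t i)
  simp only [Module.End.mul_apply] at this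
  rw [this]
  show (ρ t ^ i - 1) w = ρ (t ^ i) w - w
  rw [rho_pow, LinearMap.sub_apply, Module.End.one_apply]

/-- a crossed homomorphism vanishing at the generator vanishes. -/
theorem eq_zero_of_generator (ht : ∀ g : G, g ∈ Subgroup.zpowers t) (f : G → V)
    (hf : ∀ g h : G, f (g * h) = ρ g (f h) + f g) (h0 : f t = 0) (g : G) : f g = 0 := by
  have h1 : f 1 = 0 := by
    have := hf 1 1
    rw [mul_one, map_one, Module.End.one_apply] at this
    exact left_eq_add.mp this
  obtain ⟨i, rfl⟩ := exists_pow_eq ht g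
  induction i with
  | zero => rw [pow_zero]; exact h1
  | succ i ih =>
    rw [pow_succ', hf, ih, map_zero, h0, add_zero]

theorem part1 (ht : ∀ g : G, g ∈ Subgroup.zpowers t) (f : G → V)
    (hf : ∀ g h : G, f (g * h) = ρ g (f h) + f g) :
    Representation.Coinvariants.mk ρ (f t) = 0 ↔ ∃ x : V, ∀ g : G, f g = ρ g x - x := by
  constructor
  · intro h
    rw [Representation.Coinvariants.mk_eq_zero ρ] at h
    obtain ⟨x, hx⟩ := ker_le_range ht h
    refine ⟨x, fun g => ?_⟩
    have h2 := eq_zero_of_generator (ρ := ρ) ht (fun g => f g - (ρ g x - x)) ?_ ?_ g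
    · exact sub_eq_zero.mp h2
    · intro g h
      rw [hf, map_mul, Module.End.mul_apply, map_sub, map_sub]
      abel
    · rw [← hx]
      simp
  · rintro ⟨x, hx⟩
    rw [hx t, Representation.Coinvariants.mk_eq_zero ρ]
    exact Representation.Coinvariants.sub_mem_ker t x

theorem S_card_eq_zero (ht : ∀ g : G, g ∈ Subgroup.zpowers t)
    (m : ℕ) (hm : m ∣ Nat.card G) (htors : ∀ v : V, m • v = 0)
    (htriv : ∀ g : G, g ^ m = 1 → ∀ v : V, ρ g v = v) (v : V) : S ρ t (Nat.card G) v = 0 := by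
  obtain ⟨d, hd⟩ := hm
  have hcard : orderOf t = Nat.card G := orderOf_eq_card_of_forall_mem_zpowers ht
  -- `T^d = 1`
  have hTd : (ρ t) ^ d = 1 := by
    rw [← rho_pow]
    ext w
    rw [Module.End.one_apply]
    apply htriv
    rw [← pow_mul, mul_comm, ← hd, ← hcard, pow_orderOf_eq_one]
  -- `S (d * q) = q • S d`
  have hSq : ∀ q : ℕ, S ρ t (d * q) = q • S ρ t d := by
    intro q
    induction q with
    | zero => simp [S_zero]
    | succ q ih =>
      rw [mul_add, mul_one, S_add, ih, pow_mul, hTd, one_pow, one_mul, add_smul, one_smul]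
  rw [hd, mul_comm, hSq]
  simp only [LinearMap.smul_apply]
  exact htors _

theorem S_eq_of_pow_eq (ht : ∀ g : G, g ∈ Subgroup.zpowers t)
    (m : ℕ) (hm : m ∣ Nat.card G) (htors : ∀ v : V, m • v = 0)
    (htriv : ∀ g : G, g ^ m = 1 → ∀ v : V, ρ g v = v) (v : V) {a b : ℕ} (hab : t ^ a = t ^ b) :
    S ρ t a v = S ρ t b v := by
  have hcard : orderOf t = Nat.card G := orderOf_eq_card_of_forall_mem_zpowers ht
  have hTN : (ρ t) ^ (Nat.card G) = 1 := by
    rw [← rho_pow, ← hcard, pow_orderOf_eq_one, map_one]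
  have hSN : ∀ q : ℕ, S ρ t (Nat.card G * q) v = 0 := by
    intro q
    induction q with
    | zero => simp [S_zero]
    | succ q ih =>
      rw [mul_add, mul_one, S_add, LinearMap.add_apply, ih, zero_add, Module.End.mul_apply,
        S_card_eq_zero ht m hm htors htriv, map_zero]
  wlog hle : a ≤ b generalizing a b
  · exact (this hab.symm (le_of_not_ge hle)).symm
  obtain ⟨c, rfl⟩ := Nat.exists_eq_add_of_le hle
  have hc : t ^ c = 1 := by
    rw [pow_add] at hab
    exact (mul_eq_left.mp hab.symm)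
  rw [← orderOf_dvd_iff_pow_eq_one, hcard] at hc
  obtain ⟨q, rfl⟩ := hc
  rw [S_add, LinearMap.add_apply, Module.End.mul_apply, hSN, map_zero, add_zero]

theorem part2 (ht : ∀ g : G, g ∈ Subgroup.zpowers t)
    (m : ℕ) (hm : m ∣ Nat.card G) (htors : ∀ v : V, m • v = 0)
    (htriv : ∀ g : G, g ^ m = 1 → ∀ v : V, ρ g v = v) (v : V) :
    ∃ f : G → V, (∀ g h : G, f (g * h) = ρ g (f h) + f g) ∧ f t = v := by
  choose e he using exists_pow_eq ht
  refine ⟨fun g => S ρ t (e g) v, ?_, ?_⟩
  · intro g h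
    simp only
    have h1 : t ^ (e (g * h)) = t ^ (e g + e h) := by rw [he, pow_add, he, he]
    rw [S_eq_of_pow_eq ht m hm htors htriv v h1, S_add, LinearMap.add_apply,
      Module.End.mul_apply, ← rho_pow, he, add_comm]
  · simp only
    have h1 : t ^ (e t) = t ^ 1 := by rw [he, pow_one]
    rw [S_eq_of_pow_eq ht m hm htors htriv v h1, S_one, Module.End.one_apply]

end Groth.Agent.H7.CycH1
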