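import Mathlib
import Groth.Prelude.Def_EtBase
import Groth.Prelude.Def_DCoh2
import Groth.Agent.Lib.Helper7.DRec1
import Groth.Agent.Lib.Helper7.CI8
import Groth.Agent.Lib.Helper7.CI13

/-!
# Helper7: DRec2 — `i_* : D(Z_et) → D(X_et)` fully faithful with essential image supported on `Z`
-/

set_option autoImplicit false

open CategoryTheory Limits AlgebraicGeometry Opposite
attribute [local instance] HasDerivedCategory.standard

namespace Groth.Agent.H7.DRec

universe u

open Groth.Agent.H7.CI Groth.Agent.H7.ES

theorem S6659_main {Z X U : Scheme.{u}} (i : Z ⟶ X)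
    [IsClosedImmersion i] (j : U ⟶ X) [IsOpenImmersion j] (hZU : Set.range j = (Set.range i)ᶜ)
    [PreservesFiniteColimits (EtCoh.push i)] :
    ((EtCoh.push i).mapDerivedCategory.Full ∧ (EtCoh.push i).mapDerivedCategory.Faithful) ∧
      ∀ K : DCoh.DEt X,
        (EtCoh.push i).mapDerivedCategory.essImage K ↔
          ∀ n : ℤ, IsZero ((EtCoh.pull j).obj (DCoh.HDEt K n)) := by
  have hZU' : Set.range j.base = (Set.range i.base)ᶜ := hZU
  haveI : PreservesFiniteLimits (EtCoh.push i) := by
    haveI : PreservesLimitsOfSize.{0, 0} (EtCoh.push i) :=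
      (EtCoh.pullPushAdj i).rightAdjoint_preservesLimits
    exact PreservesLimitsOfSize.preservesFiniteLimits _
  have hc : ∀ M, IsIso ((EtCoh.pullPushAdj i).counit.app M) := fun M => inferInstance
  refine ⟨full_faithful_derived (EtCoh.pullPushAdj i) hc, fun K => ?_⟩
  exact essImage_derived_iff (EtCoh.pullPushAdj i) hc (EtCoh.pull j)
    (fun M => isZero_pull_push i j hZU' M)
    (fun M h1 h2 => isZero_of_pull i j hZU' M h1 h2) K

end Groth.Agent.H7.DRec
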