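import Groth.Agent.Lib.Helper7.Hil1
import Groth.Agent.Lib.Helper5.Geom.PthPower

/-! A local parameter at a separable place is a separating variable (helper7). -/

set_option autoImplicit false
set_option linter.unusedSectionVars false

attribute [-instance] IsLocalRing.instModuleResidueFieldOfAlgebra

universe u v

namespace Groth.Agent.H7.DT

open FunFld FunFld.Geom IntermediateField WithZero Groth.Agent.H7.Hil

variable {k : Type u} {K : Type v} [Field k] [Field K] [Algebra k K]

/-- `k K^p` is finitely generated. -/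
theorem kKp_fg (p : ℕ) [Fact p.Prime] [CharP K p] [Algebra.EssFiniteType k K] :
    (kKp k K p).FG := by
  classical
  obtain ⟨T, hT⟩ := IntermediateField.fg_top k K
  refine ⟨T.image (· ^ p), ?_⟩
  apply le_antisymm
  · rw [adjoin_le_iff]
    intro z hz
    rw [Finset.coe_image] at hz
    obtain ⟨τ, -, rfl⟩ := hz
    exact subset_adjoin k _ ⟨τ, rfl⟩
  · rw [kKp, adjoin_le_iff]
    rintro _ ⟨y, rfl⟩
    set S : IntermediateField k K := adjoin k ((T.image (· ^ p) : Finset K) : Set K) with hS
    let M : IntermediateField k K :=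
      { carrier := {y | y ^ p ∈ S}
        mul_mem' := fun {a b} (ha : a ^ p ∈ S) (hb : b ^ p ∈ S) => by
          show (a * b) ^ p ∈ S
          rw [mul_pow]; exact mul_mem ha hb
        one_mem' := by show (1 : K) ^ p ∈ S; rw [one_pow]; exact one_mem _
        add_mem' := fun {a b} (ha : a ^ p ∈ S) (hb : b ^ p ∈ S) => by
          show (a + b) ^ p ∈ S
          rw [add_pow_char]; exact add_mem ha hb
        zero_mem' := by
          show (0 : K) ^ p ∈ S
          rw [zero_pow (Fact.out : p.Prime).ne_zero]; exact zero_mem _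
        algebraMap_mem' := fun c => by
          show (algebraMap k K c) ^ p ∈ S
          rw [← map_pow]; exact IntermediateField.algebraMap_mem _ _
        inv_mem' := fun a (ha : a ^ p ∈ S) => by
          show (a⁻¹) ^ p ∈ S
          rw [inv_pow]; exact inv_mem ha }
    have hle : adjoin k (T : Set K) ≤ M := by
      rw [adjoin_le_iff]
      intro τ hτ
      show τ ^ p ∈ S
      apply subset_adjoin
      rw [Finset.coe_image]
      exact ⟨τ, hτ, rfl⟩
    have hy : y ∈ adjoin k (T : Set K) := by rw [hT]; trivial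
    exact hle hy

/-- `k K^p` is again a function field. -/
theorem isFunctionField_kKp (p : ℕ) [Fact p.Prime] [CharP K p] (hK : IsFunctionField k K)
    [FiniteDimensional (kKp k K p) K] : IsFunctionField k (kKp k K p) := by
  have hess : Algebra.EssFiniteType k K := hK.isFF1.essFiniteType
  refine ⟨IsFF1.of_trdeg_essFiniteType ?_ ?_, fun y hy => ?_⟩
  · have h1 : Algebra.trdeg (kKp k K p) K = 0 := trdeg_eq_zero
    have h2 := lift_trdeg_add_eq k (kKp k K p) K
    rw [h1, hK.isFF1.trdeg_eq_one] at h2
    simpa using h2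
  · exact IntermediateField.essFiniteType_iff.2 (kKp_fg p)
  · have hy' : IsAlgebraic k (y : K) := by
      obtain ⟨q, hq0, hq⟩ := hy
      refine ⟨q, hq0, ?_⟩
      have := congrArg (fun z : kKp k K p => (z : K)) hq
      simpa [Polynomial.aeval_algebraMap_apply] using this
    obtain ⟨c, hc⟩ := hK.2 _ hy'
    exact ⟨c, Subtype.ext hc⟩

/-- In characteristic `p`, a local parameter at a separable place does not lie in `k K^p`. -/
theorem uniformizer_notMem_kKp (p : ℕ) [Fact p.Prime] [CharP K p] [CharP k p]
    (hK : IsFunctionField k K) (hg : IsGeometric k K) (P : Place k K)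
    [Algebra.IsSeparable k (IsLocalRing.ResidueField P.O)] (t : K) (ht : P.1 t = exp (-1)) :
    t ∉ kKp k K p := by
  classical
  intro htE
  have hp : p.Prime := Fact.out
  have hfr := finrank_kKp p hK hg
  have hfd : FiniteDimensional (kKp k K p) K :=
    Module.finite_of_finrank_pos (by rw [hfr]; exact hp.pos)
  have hE := isFunctionField_kKp p hK
  obtain ⟨PE, e, he⟩ := exists_isOverWith hE.isFF1 P
  have hover : IsOver P PE := ⟨e, he⟩
  -- uniqueness of the place over `PE`
  have huniq : ∀ Q : Place k K, IsOver Q PE → Q = P := by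
    rintro Q ⟨e', he'⟩
    symm
    apply Place.eq_of_O_le
    intro y hy
    have hyp : (y ^ p) ∈ kKp k K p := subset_adjoin k _ ⟨y, rfl⟩
    have h1 : P.1 (y ^ p) ≤ 1 := by rw [map_pow]; exact pow_le_one' hy p
    have h2 : PE.1 ⟨y ^ p, hyp⟩ ≤ 1 := (he.v_le_one_iff ⟨y ^ p, hyp⟩).1 h1
    have h3 : Q.1 (y ^ p) ≤ 1 := (he'.v_le_one_iff ⟨y ^ p, hyp⟩).2 h2
    rw [map_pow] at h3
    exact (pow_le_one_iff hp.ne_zero).1 h3
  -- the residue field does not grow
  have hF0 : F0 hover = ⊤ := by
    have hexp : ExpChar k p := ExpChar.prime hp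
    have h1 := adjoin_eq_adjoin_pow_expChar_of_isSeparable' k (IsLocalRing.ResidueField P.O)
      (Set.univ : Set (IsLocalRing.ResidueField P.O)) p
    rw [adjoin_univ, Set.image_univ] at h1
    rw [eq_top_iff, h1, adjoin_le_iff]
    rintro _ ⟨xb, rfl⟩
    obtain ⟨x, rfl⟩ := IsLocalRing.residue_surjective xb
    have hyp : ((x : K) ^ p) ∈ kKp k K p := subset_adjoin k _ ⟨(x : K), rfl⟩
    have h2 : PE.1 ⟨(x : K) ^ p, hyp⟩ ≤ 1 := by
      rw [← he.v_le_one_iff]
      change P.1 ((x : K) ^ p) ≤ 1
      rw [map_pow]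
      exact pow_le_one' (P.mem_O_iff.1 x.2) p
    refine ⟨IsLocalRing.residue _ ⟨⟨(x : K) ^ p, hyp⟩, PE.mem_O_iff.2 h2⟩, ?_⟩
    change resAlg hover (IsLocalRing.residue _ _) = _
    rw [resAlg_residue]
    change _ = (IsLocalRing.residue P.O x) ^ p
    rw [← map_pow]
    congr 1
  have hdeg : PE.deg = P.deg := by
    rw [← finrank_F0 hover, hF0, IntermediateField.finrank_top']
    rfl
  have hsum := FunFld.sum_ramIdx_mul_deg hE PE {P} (fun Q => by
    rw [Finset.mem_singleton]
    exact ⟨fun h => h ▸ hover, huniq Q⟩)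
  rw [Finset.sum_singleton, he.ramIdx_eq, hfr, hdeg] at hsum
  have hPpos := P.deg_pos hK
  have hep : e = p := Nat.eq_of_mul_eq_mul_right hPpos hsum
  have hord := he.ord_eq ⟨t, htE⟩
  have h1 : P.ord t = 1 := by
    have := P.ord_eq_of_v_eq ht
    simpa using this
  change P.ord t = _ at hord
  rw [h1, hep] at hord
  have h2 : (p : ℤ) ∣ 1 := ⟨_, hord⟩
  have h3 : p ∣ 1 := by exact_mod_cast h2
  exact hp.one_lt.ne' (Nat.dvd_one.1 h3)

/-- **S11030**: `dt ≠ 0` for a local parameter at a separable place. -/
theorem D_uniformizer_ne_zero (hK : IsFunctionField k K) (hg : IsGeometric k K) (P : Place k K)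
    [Algebra.IsSeparable k (IsLocalRing.ResidueField P.O)] (t : K) (ht : P.1 t = exp (-1)) :
    KaehlerDifferential.D k K t ≠ 0 := by
  have ht0 : t ≠ 0 := by
    rintro rfl
    rw [map_zero] at ht
    exact exp_ne_zero ht.symm
  have ht1 : P.1 t < 1 := by rw [ht, ← exp_zero, exp_lt_exp]; norm_num
  have htr : Transcendental k t := transcendental_of_v_lt_one _ P.v_algebraMap_le ht0 ht1
  rcases CharP.exists' k with h0 | ⟨p, hp, hpk⟩
  · -- characteristic zero
    have halg := hK.isFF1.isAlgebraic_adjoin htr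
    have : CharZero (IntermediateField.adjoin k ({t} : Set K)) :=
      charZero_of_injective_algebraMap (algebraMap k (IntermediateField.adjoin k ({t} : Set K))).injective
    have : Algebra.IsSeparable (IntermediateField.adjoin k ({t} : Set K)) K :=
      Algebra.IsAlgebraic.isSeparable_of_perfectField
    exact D_ne_zero_of_isSeparable htr
  · have : CharP K p := (RingHom.charP_iff (algebraMap k K) (algebraMap k K).injective p).1 hpk
    intro hD
    exact uniformizer_notMem_kKp p hK hg P t ht ((mem_kKp_iff_D_eq_zero p hK hg t).2 hD)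

end Groth.Agent.H7.DT
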