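import Mathlib

/-! Finitely generated modules over a DVR: dimension counts via the structure theorem (helper7). -/

set_option autoImplicit false

universe u v

namespace Groth.Agent.H7.DVRMod

open TensorProduct

section Induction

variable {R : Type u} [CommRing R] [IsDomain R] [IsPrincipalIdealRing R]

/-- Induction principle for finitely generated modules over a PID. -/
theorem pid_induction
    (motive : ∀ (M : Type u) [AddCommGroup M] [Module R M], Prop)
    (congr : ∀ (M N : Type u) [AddCommGroup M] [Module R M] [AddCommGroup N] [Module R N],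
      (M ≃ₗ[R] N) → motive N → motive M)
    (prod : ∀ (M N : Type u) [AddCommGroup M] [Module R M] [AddCommGroup N] [Module R N]
      [Module.Finite R M] [Module.Finite R N], motive M → motive N → motive (M × N))
    (zero : motive PUnit.{u+1})
    (free : motive R)
    (cyc : ∀ (p : R) (e : ℕ), Irreducible p → motive (R ⧸ Ideal.span {p ^ e}))
    (M : Type u) [AddCommGroup M] [Module R M] [Module.Finite R M] : motive M := by
  have hpi : ∀ (m : ℕ) (N : Fin m → Type u) [∀ i, AddCommGroup (N i)] [∀ i, Module R (N i)]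
      [∀ i, Module.Finite R (N i)], (∀ i, motive (N i)) → motive (Π i, N i) := by
    intro m
    induction m with
    | zero =>
      intro N _ _ _ _
      exact congr _ PUnit (LinearEquiv.ofSubsingleton _ _) zero
    | succ m ih =>
      intro N _ _ _ h
      exact congr _ _ (Fin.consLinearEquiv R N).symm
        (prod _ _ (h 0) (ih (fun i => N i.succ) (fun i => h i.succ)))
  obtain ⟨n, ι, _, p, hp, e, ⟨f⟩⟩ := Module.equiv_free_prod_directSum (R := R) (M := M)
  refine congr _ _ f (prod _ _ ?_ ?_)
  · exact congr _ _ (Finsupp.linearEquivFunOnFinite R R (Fin n))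
      (hpi n (fun _ => R) (fun _ => free))
  · refine congr _ _ (DirectSum.linearEquivFunOnFintype R ι _) ?_
    exact congr _ _ (LinearEquiv.piCongrLeft' R _ (Fintype.equivFin ι))
      (hpi _ _ (fun j => cyc _ _ (hp _)))

end Induction

section Aux

variable {R : Type u} [CommRing R]

/-- `torsionBy` is functorial under linear equivalences. -/
noncomputable def torsionByCongr {M N : Type*} [AddCommGroup M] [Module R M] [AddCommGroup N]
    [Module R N] (e : M ≃ₗ[R] N) (a : R) :
    Submodule.torsionBy R M a ≃ₗ[R] Submodule.torsionBy R N a :=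
  LinearEquiv.ofLinear
    (e.toLinearMap.restrict (fun x hx => by
      rw [Submodule.mem_torsionBy_iff] at hx ⊢
      rw [LinearEquiv.coe_coe, ← map_smul, hx, map_zero]))
    (e.symm.toLinearMap.restrict (fun x hx => by
      rw [Submodule.mem_torsionBy_iff] at hx ⊢
      rw [LinearEquiv.coe_coe, ← map_smul, hx, map_zero]))
    (by ext x; simp)
    (by ext x; simp)

/-- `torsionBy` of a product. -/
noncomputable def torsionByProd (M N : Type*) [AddCommGroup M] [Module R M] [AddCommGroup N]
    [Module R N] (a : R) :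
    Submodule.torsionBy R (M × N) a ≃ₗ[R]
      Submodule.torsionBy R M a × Submodule.torsionBy R N a :=
  LinearEquiv.ofLinear
    (LinearMap.prod
      ((LinearMap.fst R M N).restrict (fun x hx => by
        rw [Submodule.mem_torsionBy_iff] at hx ⊢
        have := congrArg Prod.fst hx
        simpa using this))
      ((LinearMap.snd R M N).restrict (fun x hx => by
        rw [Submodule.mem_torsionBy_iff] at hx ⊢
        have := congrArg Prod.snd hx
        simpa using this)))
    (LinearMap.codRestrict _
      (LinearMap.prodMap (Submodule.subtype _) (Submodule.subtype _)) (fun x => by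
        rw [Submodule.mem_torsionBy_iff]
        ext
        · simpa using (Submodule.mem_torsionBy_iff _ _).1 x.1.2
        · simpa using (Submodule.mem_torsionBy_iff _ _).1 x.2.2))
    (by ext x <;> simp)
    (by ext x <;> simp)

lemma subsingleton_tensor_right (A N : Type*) [AddCommGroup A] [Module R A] [AddCommGroup N]
    [Module R N] [Subsingleton N] : Subsingleton (A ⊗[R] N) := by
  refine ⟨fun x y => ?_⟩
  have h : ∀ z : A ⊗[R] N, z = 0 := by
    intro z
    induction z using TensorProduct.induction_on with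
    | zero => rfl
    | tmul a n => rw [Subsingleton.elim n 0, tmul_zero]
    | add x y hx hy => rw [hx, hy, add_zero]
  rw [h x, h y]

end Aux

section Local

variable {R : Type u} [CommRing R] [IsLocalRing R]

/-- A nontrivial cyclic module has one-dimensional fibre. -/
lemma finrank_tensor_cyclic (Q : Type*) [AddCommGroup Q] [Module R Q] [Nontrivial Q] (q : Q)
    (hq : Submodule.span R {q} = ⊤) :
    Module.finrank (IsLocalRing.ResidueField R) (IsLocalRing.ResidueField R ⊗[R] Q) = 1 := by
  haveI : Module.Finite R Q := ⟨⟨{q}, by simpa using hq⟩⟩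
  apply le_antisymm
  · have hsurj : Function.Surjective (LinearMap.toSpanSingleton R Q q) := by
      rw [← LinearMap.range_eq_top, ← hq, LinearMap.span_singleton_eq_range]
    have h2 : Function.Surjective
        ((LinearMap.toSpanSingleton R Q q).baseChange (IsLocalRing.ResidueField R)) := by
      rw [LinearMap.baseChange_eq_ltensor]
      exact LinearMap.lTensor_surjective _ hsurj
    have h3 := LinearMap.finrank_le_finrank_of_surjective h2
    rwa [(TensorProduct.AlgebraTensorModule.rid R (IsLocalRing.ResidueField R)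
      (IsLocalRing.ResidueField R)).finrank_eq, Module.finrank_self] at h3
  · haveI : Nontrivial (IsLocalRing.ResidueField R ⊗[R] Q) := by
      rw [← not_subsingleton_iff_nontrivial, IsLocalRing.subsingleton_tensorProduct,
        not_subsingleton_iff_nontrivial]
      infer_instance
    exact Module.finrank_pos

end Local

section DVR

variable {R : Type u} [CommRing R] [IsDomain R] [IsDiscreteValuationRing R]

lemma subsingleton_fractionRing_tensor_quot {a : R} (ha : a ≠ 0) :
    Subsingleton (FractionRing R ⊗[R] (R ⧸ Ideal.span {a})) := by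
  refine ⟨fun x y => ?_⟩
  have h : ∀ z : FractionRing R ⊗[R] (R ⧸ Ideal.span {a}), z = 0 := by
    intro z
    induction z using TensorProduct.induction_on with
    | zero => rfl
    | tmul x n =>
      obtain ⟨y, rfl⟩ := Ideal.Quotient.mk_surjective n
      have ha' : algebraMap R (FractionRing R) a ≠ 0 := by
        rwa [Ne, map_eq_zero_iff _ (IsFractionRing.injective R (FractionRing R))]
      have : x = a • (x * (algebraMap R (FractionRing R) a)⁻¹) := by
        rw [Algebra.smul_def]
        field_simp
      have h2 : a • (Ideal.Quotient.mk (Ideal.span {a}) y) = 0 := by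
        rw [Algebra.smul_def, Ideal.Quotient.algebraMap_eq,
          Ideal.Quotient.eq_zero_iff_mem.2 (Ideal.mem_span_singleton_self a), zero_mul]
      rw [this, TensorProduct.smul_tmul, h2, tmul_zero]
    | add x y hx hy => rw [hx, hy, add_zero]
  rw [h x, h y]

variable (ϖ : R) (hϖ : Irreducible ϖ)

include hϖ

lemma mk_one_span (e : ℕ) :
    Submodule.span R {(Ideal.Quotient.mk (Ideal.span {ϖ ^ e}) 1 : R ⧸ Ideal.span {ϖ ^ e})} = ⊤ := by
  rw [eq_top_iff]
  rintro x -
  obtain ⟨y, rfl⟩ := Ideal.Quotient.mk_surjective x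
  rw [Submodule.mem_span_singleton]
  refine ⟨y, ?_⟩
  rw [Algebra.smul_def, Ideal.Quotient.algebraMap_eq, map_one, mul_one]

lemma nontrivial_quot {e : ℕ} (he : 1 ≤ e) : Nontrivial (R ⧸ Ideal.span {ϖ ^ e}) := by
  rw [Ideal.Quotient.nontrivial_iff, Ne, Ideal.span_singleton_eq_top, isUnit_pow_iff (by omega)]
  exact hϖ.not_isUnit

lemma mk_mem_torsionBy_iff {e : ℕ} (he : 1 ≤ e) (y : R) :
    Ideal.Quotient.mk (Ideal.span {ϖ ^ e}) y ∈
      Submodule.torsionBy R (R ⧸ Ideal.span {ϖ ^ e}) ϖ ↔ ϖ ^ (e - 1) ∣ y := by
  rw [Submodule.mem_torsionBy_iff, Algebra.smul_def, Ideal.Quotient.algebraMap_eq, ← map_mul,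
    Ideal.Quotient.eq_zero_iff_mem, Ideal.mem_span_singleton]
  obtain ⟨e', rfl⟩ : ∃ e', e = e' + 1 := ⟨e - 1, by omega⟩
  rw [Nat.add_sub_cancel, pow_succ', mul_dvd_mul_iff_left hϖ.ne_zero]

theorem dim_count (M : Type u) [AddCommGroup M] [Module R M] [Module.Finite R M] :
    Module.finrank (IsLocalRing.ResidueField R) (IsLocalRing.ResidueField R ⊗[R] M) =
      Module.finrank (IsLocalRing.ResidueField R)
          (IsLocalRing.ResidueField R ⊗[R] ↥(Submodule.torsionBy R M ϖ)) +
        Module.finrank (FractionRing R) (FractionRing R ⊗[R] M) := by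
  refine pid_induction (R := R) (fun M _ _ =>
    Module.finrank (IsLocalRing.ResidueField R) (IsLocalRing.ResidueField R ⊗[R] M) =
      Module.finrank (IsLocalRing.ResidueField R)
          (IsLocalRing.ResidueField R ⊗[R] ↥(Submodule.torsionBy R M ϖ)) +
        Module.finrank (FractionRing R) (FractionRing R ⊗[R] M)) ?_ ?_ ?_ ?_ ?_ M
  · -- congr
    intro M N _ _ _ _ e h
    rw [(LinearEquiv.baseChange R (IsLocalRing.ResidueField R) M N e).finrank_eq,
      (LinearEquiv.baseChange R (IsLocalRing.ResidueField R) _ _ (torsionByCongr e ϖ)).finrank_eq,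
      (LinearEquiv.baseChange R (FractionRing R) M N e).finrank_eq]
    exact h
  · -- prod
    intro M N _ _ _ _ _ _ hM hN
    haveI : IsNoetherian R M := isNoetherian_of_isNoetherianRing_of_finite R M
    haveI : IsNoetherian R N := isNoetherian_of_isNoetherianRing_of_finite R N
    rw [(TensorProduct.prodRight R (IsLocalRing.ResidueField R) (IsLocalRing.ResidueField R)
        M N).finrank_eq, Module.finrank_prod,
      (LinearEquiv.baseChange R (IsLocalRing.ResidueField R) _ _ (torsionByProd M N ϖ)).finrank_eq,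
      (TensorProduct.prodRight R (IsLocalRing.ResidueField R) (IsLocalRing.ResidueField R)
        _ _).finrank_eq, Module.finrank_prod,
      (TensorProduct.prodRight R (FractionRing R) (FractionRing R) M N).finrank_eq,
      Module.finrank_prod, hM, hN]
    ring
  · -- zero
    haveI := subsingleton_tensor_right (R := R) (IsLocalRing.ResidueField R) PUnit.{u+1}
    haveI := subsingleton_tensor_right (R := R) (IsLocalRing.ResidueField R)
      (Submodule.torsionBy R PUnit.{u+1} ϖ)
    haveI := subsingleton_tensor_right (R := R) (FractionRing R) PUnit.{u+1}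
    rw [Module.finrank_zero_of_subsingleton, Module.finrank_zero_of_subsingleton,
      Module.finrank_zero_of_subsingleton]
  · -- free
    haveI : Subsingleton (Submodule.torsionBy R R ϖ) := by
      refine ⟨fun x y => ?_⟩
      have h : ∀ z : Submodule.torsionBy R R ϖ, z = 0 := by
        intro z
        have := (Submodule.mem_torsionBy_iff _ _).1 z.2
        rw [smul_eq_mul] at this
        exact Subtype.ext ((mul_eq_zero.mp this).resolve_left hϖ.ne_zero)
      rw [h x, h y]
    haveI := subsingleton_tensor_right (R := R) (IsLocalRing.ResidueField R)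
      (Submodule.torsionBy R R ϖ)
    rw [(TensorProduct.AlgebraTensorModule.rid R (IsLocalRing.ResidueField R)
        (IsLocalRing.ResidueField R)).finrank_eq, Module.finrank_self,
      (TensorProduct.AlgebraTensorModule.rid R (FractionRing R) (FractionRing R)).finrank_eq,
      Module.finrank_self, Module.finrank_zero_of_subsingleton]
  · -- cyclic
    intro p e hp
    have hassoc : Associated p ϖ := IsDiscreteValuationRing.associated_of_irreducible R hp hϖ
    have hspan : Ideal.span {p ^ e} = Ideal.span {ϖ ^ e} :=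
      Ideal.span_singleton_eq_span_singleton.2 (hassoc.pow_pow)
    rw [hspan]
    rcases Nat.eq_zero_or_pos e with rfl | he
    · haveI : Subsingleton (R ⧸ Ideal.span {ϖ ^ 0}) := by
        rw [Ideal.Quotient.subsingleton_iff, pow_zero, Ideal.span_singleton_one]
      haveI := subsingleton_tensor_right (R := R) (IsLocalRing.ResidueField R)
        (R ⧸ Ideal.span {ϖ ^ 0})
      haveI := subsingleton_tensor_right (R := R) (IsLocalRing.ResidueField R)
        (Submodule.torsionBy R (R ⧸ Ideal.span {ϖ ^ 0}) ϖ)
      haveI := subsingleton_tensor_right (R := R) (FractionRing R) (R ⧸ Ideal.span {ϖ ^ 0})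
      rw [Module.finrank_zero_of_subsingleton, Module.finrank_zero_of_subsingleton,
        Module.finrank_zero_of_subsingleton]
    · haveI := nontrivial_quot ϖ hϖ he
      haveI := subsingleton_fractionRing_tensor_quot (R := R) (pow_ne_zero e hϖ.ne_zero)
      rw [finrank_tensor_cyclic _ _ (mk_one_span ϖ hϖ e),
        Module.finrank_zero_of_subsingleton (M := FractionRing R ⊗[R] (R ⧸ Ideal.span {ϖ ^ e}))]
      -- the torsion part
      have hmem : Ideal.Quotient.mk (Ideal.span {ϖ ^ e}) (ϖ ^ (e - 1)) ∈
          Submodule.torsionBy R (R ⧸ Ideal.span {ϖ ^ e}) ϖ :=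
        (mk_mem_torsionBy_iff ϖ hϖ he _).2 dvd_rfl
      haveI : Nontrivial (Submodule.torsionBy R (R ⧸ Ideal.span {ϖ ^ e}) ϖ) := by
        refine ⟨⟨⟨_, hmem⟩, 0, ?_⟩⟩
        intro h
        have h1 := congrArg Subtype.val h
        simp only [ZeroMemClass.coe_zero] at h1
        rw [Ideal.Quotient.eq_zero_iff_mem, Ideal.mem_span_singleton] at h1
        obtain ⟨e', rfl⟩ : ∃ e', e = e' + 1 := ⟨e - 1, by omega⟩
        rw [Nat.add_sub_cancel, pow_succ] at h1
        have h2 : ϖ ^ e' * ϖ ∣ ϖ ^ e' * 1 := by rwa [mul_one]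
        rw [mul_dvd_mul_iff_left (pow_ne_zero _ hϖ.ne_zero)] at h2
        exact hϖ.not_isUnit (isUnit_of_dvd_one h2)
      rw [finrank_tensor_cyclic _ ⟨_, hmem⟩]
      rw [eq_top_iff]
      rintro ⟨x, hx⟩ -
      obtain ⟨y, rfl⟩ := Ideal.Quotient.mk_surjective x
      obtain ⟨z, rfl⟩ := (mk_mem_torsionBy_iff ϖ hϖ he y).1 hx
      rw [Submodule.mem_span_singleton]
      refine ⟨z, Subtype.ext ?_⟩
      simp only [SetLike.mk_smul_mk]
      rw [Algebra.smul_def, Ideal.Quotient.algebraMap_eq, ← map_mul, mul_comm]

/-- The dual into `R/ϖⁿ` of a module killed by `ϖⁿ`, in the universe of `R`. -/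
theorem dual_count_aux (n : ℕ) (X : Type u) [AddCommGroup X] [Module R X] [Module.Finite R X]
    (hX : ∀ x : X, ϖ ^ n • x = 0) :
    Module.finrank (IsLocalRing.ResidueField R)
        (IsLocalRing.ResidueField R ⊗[R] (X →ₗ[R] (R ⧸ Ideal.span {ϖ ^ n}))) =
      Module.finrank (IsLocalRing.ResidueField R) (IsLocalRing.ResidueField R ⊗[R] X) := by
  revert hX
  refine pid_induction (R := R) (fun X _ _ => (∀ x : X, ϖ ^ n • x = 0) →
    Module.finrank (IsLocalRing.ResidueField R)
        (IsLocalRing.ResidueField R ⊗[R] (X →ₗ[R] (R ⧸ Ideal.span {ϖ ^ n}))) =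
      Module.finrank (IsLocalRing.ResidueField R) (IsLocalRing.ResidueField R ⊗[R] X))
    ?_ ?_ ?_ ?_ ?_ X
  · -- congr
    intro M N _ _ _ _ e h hM
    rw [(LinearEquiv.baseChange R (IsLocalRing.ResidueField R) M N e).finrank_eq,
      (LinearEquiv.baseChange R (IsLocalRing.ResidueField R) _ _
        (LinearEquiv.congrLeft (R ⧸ Ideal.span {ϖ ^ n}) R e)).finrank_eq]
    apply h
    intro x
    obtain ⟨m, rfl⟩ := e.surjective x
    rw [← map_smul, hM, map_zero]
  · -- prod
    intro M N _ _ _ _ _ _ hM hN hMN
    rw [(TensorProduct.prodRight R (IsLocalRing.ResidueField R) (IsLocalRing.ResidueField R)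
        M N).finrank_eq, Module.finrank_prod,
      (LinearEquiv.baseChange R (IsLocalRing.ResidueField R) _ _
        (LinearMap.coprodEquiv R (M := M) (M₂ := N)
          (M₃ := R ⧸ Ideal.span {ϖ ^ n})).symm).finrank_eq,
      (TensorProduct.prodRight R (IsLocalRing.ResidueField R) (IsLocalRing.ResidueField R)
        _ _).finrank_eq, Module.finrank_prod,
      hM (fun x => by simpa using congrArg Prod.fst (hMN (x, 0))),
      hN (fun x => by simpa using congrArg Prod.snd (hMN (0, x)))]
  · -- zero
    intro _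
    haveI : Subsingleton (PUnit.{u+1} →ₗ[R] (R ⧸ Ideal.span {ϖ ^ n})) :=
      ⟨fun f g => LinearMap.ext fun x => by rw [Subsingleton.elim x 0, map_zero, map_zero]⟩
    haveI := subsingleton_tensor_right (R := R) (IsLocalRing.ResidueField R) PUnit.{u+1}
    haveI := subsingleton_tensor_right (R := R) (IsLocalRing.ResidueField R)
      (PUnit.{u+1} →ₗ[R] (R ⧸ Ideal.span {ϖ ^ n}))
    rw [Module.finrank_zero_of_subsingleton, Module.finrank_zero_of_subsingleton]
  · -- free
    intro h
    exfalso
    have := h 1
    rw [smul_eq_mul, mul_one] at this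
    exact pow_ne_zero n hϖ.ne_zero this
  · -- cyclic
    intro p e hp
    have hassoc : Associated p ϖ := IsDiscreteValuationRing.associated_of_irreducible R hp hϖ
    have hspan : Ideal.span {p ^ e} = Ideal.span {ϖ ^ e} :=
      Ideal.span_singleton_eq_span_singleton.2 (hassoc.pow_pow)
    rw [hspan]
    intro hkill
    rcases Nat.eq_zero_or_pos e with rfl | he
    · haveI : Subsingleton (R ⧸ Ideal.span {ϖ ^ 0}) := by
        rw [Ideal.Quotient.subsingleton_iff, pow_zero, Ideal.span_singleton_one]
      haveI : Subsingleton ((R ⧸ Ideal.span {ϖ ^ 0}) →ₗ[R] (R ⧸ Ideal.span {ϖ ^ n})) :=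
        ⟨fun f g => LinearMap.ext fun x => by rw [Subsingleton.elim x 0, map_zero, map_zero]⟩
      haveI := subsingleton_tensor_right (R := R) (IsLocalRing.ResidueField R)
        (R ⧸ Ideal.span {ϖ ^ 0})
      haveI := subsingleton_tensor_right (R := R) (IsLocalRing.ResidueField R)
        ((R ⧸ Ideal.span {ϖ ^ 0}) →ₗ[R] (R ⧸ Ideal.span {ϖ ^ n}))
      rw [Module.finrank_zero_of_subsingleton, Module.finrank_zero_of_subsingleton]
    · haveI := nontrivial_quot ϖ hϖ he
      rw [finrank_tensor_cyclic _ _ (mk_one_span ϖ hϖ e)]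
      -- `e ≤ n`
      have hen : e ≤ n := by
        have h1 := hkill (Ideal.Quotient.mk _ 1)
        rw [Algebra.smul_def, Ideal.Quotient.algebraMap_eq, map_one, mul_one,
          Ideal.Quotient.eq_zero_iff_mem, Ideal.mem_span_singleton] at h1
        exact (pow_dvd_pow_iff hϖ.ne_zero hϖ.not_isUnit).1 h1
      -- the generator of the dual
      have hker : (Ideal.span {ϖ ^ e} : Submodule R R) ≤ LinearMap.ker
          (LinearMap.toSpanSingleton R (R ⧸ Ideal.span {ϖ ^ n})
            (Ideal.Quotient.mk _ (ϖ ^ (n - e)))) := by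
        intro x hx
        obtain ⟨y, rfl⟩ := Ideal.mem_span_singleton.1 hx
        rw [LinearMap.mem_ker, LinearMap.toSpanSingleton_apply, Algebra.smul_def,
          Ideal.Quotient.algebraMap_eq, ← map_mul, Ideal.Quotient.eq_zero_iff_mem,
          Ideal.mem_span_singleton]
        refine ⟨y, ?_⟩
        have : ϖ ^ n = ϖ ^ e * ϖ ^ (n - e) := by rw [← pow_add]; congr 1; omega
        rw [this]; ring
      set φ₀ : (R ⧸ Ideal.span {ϖ ^ e}) →ₗ[R] (R ⧸ Ideal.span {ϖ ^ n}) :=
        Submodule.liftQ _ _ hker with hφ₀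
      have hφ₀1 : φ₀ (Ideal.Quotient.mk _ 1) = Ideal.Quotient.mk _ (ϖ ^ (n - e)) := by
        rw [hφ₀]
        erw [Submodule.liftQ_apply]
        rw [LinearMap.toSpanSingleton_apply, one_smul]
      haveI : Nontrivial ((R ⧸ Ideal.span {ϖ ^ e}) →ₗ[R] (R ⧸ Ideal.span {ϖ ^ n})) := by
        refine ⟨⟨φ₀, 0, ?_⟩⟩
        intro h
        have h1 := LinearMap.congr_fun h (Ideal.Quotient.mk _ 1)
        rw [hφ₀1, LinearMap.zero_apply, Ideal.Quotient.eq_zero_iff_mem,
          Ideal.mem_span_singleton, pow_dvd_pow_iff hϖ.ne_zero hϖ.not_isUnit] at h1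
        omega
      rw [finrank_tensor_cyclic _ φ₀]
      rw [eq_top_iff]
      rintro φ -
      obtain ⟨y, hy⟩ := Ideal.Quotient.mk_surjective (φ (Ideal.Quotient.mk _ 1))
      have h2 : ϖ ^ (n - e) ∣ y := by
        have h3 : ϖ ^ e • φ (Ideal.Quotient.mk _ 1) = 0 := by
          rw [← map_smul, Algebra.smul_def, Ideal.Quotient.algebraMap_eq, map_one, mul_one,
            Ideal.Quotient.eq_zero_iff_mem.2 (Ideal.mem_span_singleton_self _), map_zero]
        rw [← hy, Algebra.smul_def, Ideal.Quotient.algebraMap_eq, ← map_mul,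
          Ideal.Quotient.eq_zero_iff_mem, Ideal.mem_span_singleton] at h3
        have : ϖ ^ n = ϖ ^ e * ϖ ^ (n - e) := by rw [← pow_add]; congr 1; omega
        rw [this, mul_dvd_mul_iff_left (pow_ne_zero _ hϖ.ne_zero)] at h3
        exact h3
      obtain ⟨z, rfl⟩ := h2
      rw [Submodule.mem_span_singleton]
      refine ⟨z, ?_⟩
      apply LinearMap.ext
      intro x
      obtain ⟨w, rfl⟩ := Ideal.Quotient.mk_surjective x
      have hw : Ideal.Quotient.mk (Ideal.span {ϖ ^ e}) w = w • Ideal.Quotient.mk _ 1 := by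
        rw [Algebra.smul_def, Ideal.Quotient.algebraMap_eq, map_one, mul_one]
      rw [hw, map_smul, map_smul, LinearMap.smul_apply, hφ₀1, ← hy]
      congr 1
      rw [Algebra.smul_def, Ideal.Quotient.algebraMap_eq, ← map_mul, mul_comm]

/-- The dual into `R/ϖⁿ` of a module killed by `ϖⁿ`. -/
theorem dual_count (n : ℕ) (M : Type v) [AddCommGroup M] [Module R M] [Module.Finite R M]
    (hM : ∀ m : M, ϖ ^ n • m = 0) :
    Module.finrank (IsLocalRing.ResidueField R)
        (IsLocalRing.ResidueField R ⊗[R] (M →ₗ[R] (R ⧸ Ideal.span {ϖ ^ n}))) =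
      Module.finrank (IsLocalRing.ResidueField R) (IsLocalRing.ResidueField R ⊗[R] M) := by
  obtain ⟨m, ι, _, p, hp, e, ⟨f⟩⟩ := Module.equiv_free_prod_directSum (R := R) (M := M)
  haveI : Module.Finite R ((Fin m →₀ R) × DirectSum ι fun i => R ⧸ Submodule.span R {p i ^ e i}) :=
    Module.Finite.equiv f
  rw [(LinearEquiv.baseChange R (IsLocalRing.ResidueField R) M _ f).finrank_eq,
    (LinearEquiv.baseChange R (IsLocalRing.ResidueField R) _ _
      (LinearEquiv.congrLeft (R ⧸ Ideal.span {ϖ ^ n}) R f)).finrank_eq]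
  apply dual_count_aux ϖ hϖ n
  intro x
  obtain ⟨y, rfl⟩ := f.surjective x
  rw [← map_smul, hM, map_zero]

end DVR

end Groth.Agent.H7.DVRMod
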