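import Mathlib
import Groth.Prelude.Def_AlgSp4
import Groth.Prelude.Def_AlgSpDec
import Groth.Agent.Lib.Helper3.AlgSpCov.RedNoeth
import Groth.Agent.Lib.Helper3.AlgSpProp.FieldMono
import Groth.Agent.Lib.Helper5.AlgSp.FibreProduct

set_option autoImplicit false
universe u
open CategoryTheory CategoryTheory.Limits AlgebraicGeometry Opposite

namespace Groth.Agent.H7.LocNoethFib

open _root_.AlgSp Groth.Agent.H5.AlgSp

/-- Noetherianity of the ring of global sections of an affine scheme descends along a flat,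
surjective, quasi-compact morphism from a locally Noetherian scheme. -/
lemma isNoetherianRing_of_flat_surjective_qc_of_isAffine {A B : Scheme.{u}} [IsAffine B]
    (f : A ⟶ B) [Flat f] [QuasiCompact f] (hs : Function.Surjective f)
    [IsLocallyNoetherian A] : IsNoetherianRing Γ(B, ⊤) := by
  let 𝒰 := A.affineCover
  have hA : CompactSpace A := by
    have := (HasAffineProperty.iff_of_isAffine (P := @QuasiCompact) (f := f)).mp inferInstance
    exact this
  have hop : ∀ i, IsOpen (Set.range (𝒰.f i)) := fun i => (𝒰.f i).isOpenEmbedding.isOpen_range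
  obtain ⟨t, ht⟩ := isCompact_univ.elim_finite_subcover (fun i => Set.range (𝒰.f i)) hop
    (fun a _ => by
      obtain ⟨i, y, hy⟩ := 𝒰.exists_eq a
      exact Set.mem_iUnion.2 ⟨i, y, hy⟩)
  let g : (∐ fun i : ↥t => 𝒰.X i.1) ⟶ B := Sigma.desc fun i : ↥t => 𝒰.f i.1 ≫ f
  have hgfl : Flat g := IsZariskiLocalAtSource.sigmaDesc (P := @Flat) fun i => inferInstance
  have hgs : Surjective g := by
    refine ⟨fun b => ?_⟩
    obtain ⟨a, rfl⟩ := hs b
    have := ht (Set.mem_univ a)
    simp only [Set.mem_iUnion] at this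
    obtain ⟨i, hi, y, hy⟩ := this
    refine ⟨Sigma.ι (fun i : ↥t => 𝒰.X i.1) ⟨i, hi⟩ y, ?_⟩
    rw [← Scheme.Hom.comp_apply, Sigma.ι_desc, Scheme.Hom.comp_apply, hy]
  have hLN : IsLocallyNoetherian (∐ fun i : ↥t => 𝒰.X i.1) := by
    rw [isLocallyNoetherian_iff_openCover (sigmaOpenCover _)]
    intro i
    change IsLocallyNoetherian (𝒰.X i.1)
    infer_instance
  have hff : g.appTop.hom.FaithfullyFlat :=
    (Flat.flat_and_surjective_iff_faithfullyFlat_of_isAffine (f := g)).1 ⟨hgfl, hgs⟩
  have hN : IsNoetherianRing Γ(∐ fun i : ↥t => 𝒰.X i.1, ⊤) :=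
    IsLocallyNoetherian.component_noetherian ⟨⊤, isAffineOpen_top _⟩
  algebraize [g.appTop.hom]
  have : Module.FaithfullyFlat Γ(B, ⊤) Γ(∐ fun i : ↥t => 𝒰.X i.1, ⊤) := hff
  have h1 : IsNoetherian Γ(∐ fun i : ↥t => 𝒰.X i.1, ⊤)
      (TensorProduct Γ(B, ⊤) Γ(∐ fun i : ↥t => 𝒰.X i.1, ⊤) Γ(B, ⊤)) :=
    isNoetherian_of_linearEquiv (TensorProduct.AlgebraTensorModule.rid Γ(B, ⊤)
      Γ(∐ fun i : ↥t => 𝒰.X i.1, ⊤) Γ(∐ fun i : ↥t => 𝒰.X i.1, ⊤)).symm
  exact Submodule.IsNoetherian.of_isNoetherian_tensorProduct_of_faithfullyFlat h1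

/-- Local Noetherianity descends along flat, surjective, quasi-compact morphisms. -/
lemma isLocallyNoetherian_of_flat_surjective_qc {A B : Scheme.{u}} (f : A ⟶ B) [Flat f]
    [QuasiCompact f] (hs : Function.Surjective f) [IsLocallyNoetherian A] :
    IsLocallyNoetherian B := by
  rw [isLocallyNoetherian_iff_of_affine_openCover B.affineCover]
  intro i
  have hsurj : Surjective f := ⟨hs⟩
  have h1 : IsLocallyNoetherian (pullback f (B.affineCover.f i)) :=
    isLocallyNoetherian_of_isOpenImmersion (pullback.fst f (B.affineCover.f i))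
  have h2 : Surjective (pullback.snd f (B.affineCover.f i)) := inferInstance
  exact isNoetherianRing_of_flat_surjective_qc_of_isAffine (pullback.snd f (B.affineCover.f i))
    h2.surj


variable {S : Scheme.{u}}

/-- The property of morphisms of schemes: flat, surjective and quasi-compact. -/
def fsq : MorphismProperty Scheme.{u} := @Flat ⊓ @Surjective ⊓ @QuasiCompact

instance fsq_isStableUnderBaseChange : (fsq.{u}).IsStableUnderBaseChange where
  of_isPullback sq h := ⟨⟨MorphismProperty.of_isPullback sq h.1.1,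
    MorphismProperty.of_isPullback sq h.1.2⟩, MorphismProperty.of_isPullback sq h.2⟩

/-- Local Noetherianity of sheaves descends along representable flat surjective quasi-compact
morphisms to an algebraic space. -/
theorem isLocNoethSp_of_repWith_fsq {P Q : Sp S} (hQ : IsAlgSpace Q) (g : P ⟶ Q)
    (hg : RepWith fsq g) (hP : IsLocNoethSp P) : IsLocNoethSp Q := by
  obtain ⟨V, b, hbe, hbs⟩ := hQ.atlas
  have sq := hg.rep.isPullback b
  have h : fsq (hg.rep.snd b).left := hg.property_snd b
  have hfe : RepWith @Etale (hg.rep.fst b) :=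
    MorphismProperty.of_isPullback (P := RepWith @Etale) sq.flip hbe
  have hW : IsLocallyNoetherian (hg.rep.pullback b).left :=
    Groth.Agent.H3.AlgSpCov.isLocallyNoetherian_of_etale_of_isLocNoethSp hP (hg.rep.fst b) hfe
  have h1 : Flat (hg.rep.snd b).left := h.1.1
  have h2 : Surjective (hg.rep.snd b).left := h.1.2
  have h3 : QuasiCompact (hg.rep.snd b).left := h.2
  exact ⟨V, b, hbe, hbs, isLocallyNoetherian_of_flat_surjective_qc (hg.rep.snd b).left h2.surj⟩

/-- A morphism between spectra of fields is flat, surjective and quasi-compact. -/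
lemma fsq_of_fields {K K₀ : Type u} [Field K] [Field K₀]
    (c : Spec (CommRingCat.of K) ⟶ Spec (CommRingCat.of K₀)) : fsq c := by
  refine ⟨⟨?_, ?_⟩, ?_⟩
  · change Flat c
    rw [← Spec.map_preimage c, HasRingHomProperty.Spec_iff (P := @Flat)]
    algebraize [(Spec.preimage c).hom]
    change Module.Flat K₀ K
    infer_instance
  · change Surjective c
    refine ⟨fun y => ⟨IsLocalRing.closedPoint K, Subsingleton.elim _ _⟩⟩
  · change QuasiCompact c
    infer_instance

theorem S10804_main (X Y : AlgSp.Space S) (f : X ⟶ Y)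
    (p p₀ : AlgSp.FieldPt Y.obj) (hpp : AlgSp.Points.mk p = AlgSp.Points.mk p₀) (hmono : Mono p₀.toHom)
    (hNoeth : ∀ ⦃P : AlgSp.Sp S⦄ (fst : P ⟶ X.obj) (snd : P ⟶ (AlgSp.yon S).obj p.pt),
      IsPullback fst snd f.hom p.toHom → AlgSp.IsLocNoethSp P)
    {Q : AlgSp.Sp S} (qfst : Q ⟶ X.obj) (qsnd : Q ⟶ (AlgSp.yon S).obj p₀.pt)
    (hQ : IsPullback qfst qsnd f.hom p₀.toHom) :
    AlgSp.IsLocNoethSp Q := by
  obtain ⟨c, hc, -⟩ := Groth.Agent.H3.AlgSpProp.existsUnique_factor_of_mono_fieldPt Y.property p₀ p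
    hpp.symm
  have hQa : IsAlgSpace Q :=
    isAlgSpace_pullback Y.property.diag X.property (IsAlgSpace.yon_obj p₀.pt) hQ
  have sqP := IsPullback.of_hasPullback qsnd ((yon S).map c)
  have big : IsPullback (pullback.fst qsnd ((yon S).map c) ≫ qfst)
      (pullback.snd qsnd ((yon S).map c)) f.hom ((yon S).map c ≫ p₀.toHom) :=
    sqP.paste_horiz hQ
  rw [hc] at big
  have hP : IsLocNoethSp (pullback qsnd ((yon S).map c)) := hNoeth _ _ big
  have hc' : RepWith fsq ((yon S).map c) := (repWith_yon_map_iff fsq c).2 (fsq_of_fields c.left)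
  have hg : RepWith fsq (pullback.fst qsnd ((yon S).map c)) :=
    MorphismProperty.of_isPullback (P := RepWith fsq) sqP.flip hc'
  exact isLocNoethSp_of_repWith_fsq hQa _ hg hP

end Groth.Agent.H7.LocNoethFib
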