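import Groth.Agent.Lib.Helper9.Misc.DVF8
import Groth.Agent.Lib.Helper3.AlgSpCov.RedNoeth
import Groth.Agent.Lib.Helper7.LocNoethFib
import Mathlib

/-!
# Reducedness over a discrete valuation ring: scheme-level preparations (S10669)
-/

set_option autoImplicit false
universe u

open AlgebraicGeometry CategoryTheory Limits

namespace Groth.Agent.H7.DVRRedSp

open Groth.Agent.H9.DVF PrimeSpectrum

variable {R : Type u} [CommRing R] [IsDomain R] [IsDiscreteValuationRing R]

/-- the local ring at a generization of a point of the special fibre is reduced (no properness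
needed; adapted from helper9's `stalk_reduced`). -/
theorem stalk_reduced_of_specializes {X : Scheme.{u}} (f : X ⟶ Spec (CommRingCat.of R))
    [LocallyOfFiniteType f] {π : R} (hπ : Irreducible π) (H : ChartHyp f π) (x z : X)
    (hspec : x ⤳ z) (hfz' : π ∈ (f z : PrimeSpectrum R).asIdeal) :
    _root_.IsReduced (X.presheaf.stalk x) := by
  obtain ⟨j, z', hz'⟩ : ∃ (j : X.affineOpenCover.I₀) (z' : ↥(Spec (X.affineOpenCover.X j))),
      X.affineOpenCover.f j z' = z := ⟨_, X.affineOpenCover.covers z⟩
  have hoe := (X.affineOpenCover.f j).isOpenEmbedding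
  have hxr : x ∈ Set.range (X.affineOpenCover.f j) :=
    hspec.mem_open hoe.isOpen_range ⟨z', hz'⟩
  obtain ⟨x', hx'⟩ := hxr
  have hsp' : x' ⤳ z' := by
    rw [← hoe.isInducing.specializes_iff, hx', hz']
    exact hspec
  have hle : (x' : PrimeSpectrum (X.affineOpenCover.X j)).asIdeal ≤
      (z' : PrimeSpectrum (X.affineOpenCover.X j)).asIdeal :=
    (PrimeSpectrum.le_iff_specializes (x' : PrimeSpectrum (X.affineOpenCover.X j)) z').2 hsp'
  have hπz : (chartHom f j).hom π ∈ (z' : PrimeSpectrum (X.affineOpenCover.X j)).asIdeal := by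
    by_contra hcon
    have h1 := (chart_preimage f hπ j z').2 hcon
    rw [hz'] at h1
    have h2 := (notMem_iff_generic hπ (f z : PrimeSpectrum R)).2 h1
    exact h2 hfz'
  haveI := chart_noetherian f j
  haveI hxp : (x' : PrimeSpectrum (X.affineOpenCover.X j)).asIdeal.IsPrime :=
    (x' : PrimeSpectrum (X.affineOpenCover.X j)).2
  haveI hzp : (z' : PrimeSpectrum (X.affineOpenCover.X j)).asIdeal.IsPrime :=
    (z' : PrimeSpectrum (X.affineOpenCover.X j)).2
  have hred : _root_.IsReduced (Localization.AtPrime
      (x' : PrimeSpectrum (X.affineOpenCover.X j)).asIdeal) :=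
    loc_reduced _ (H j).1 (H j).2 _ _ hle hπz
  have e1 : X.presheaf.stalk (X.affineOpenCover.f j x') ≅
      (Spec (X.affineOpenCover.X j)).presheaf.stalk x' :=
    asIso ((X.affineOpenCover.f j).stalkMap x')
  have e2 := Spec.stalkIso (X.affineOpenCover.X j) x'
  have e3 : X.presheaf.stalk x ≅ X.presheaf.stalk (X.affineOpenCover.f j x') :=
    eqToIso (by rw [hx'])
  let e := e3 ≪≫ e1 ≪≫ e2
  haveI : _root_.IsReduced ↑(CommRingCat.of (Localization.AtPrime
      (x' : PrimeSpectrum (X.affineOpenCover.X j)).asIdeal)) := hred
  exact isReduced_of_injective e.hom.hom e.commRingCatIsoToRingEquiv.injective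

/-- reducedness of the base change to the residue field `R ⧸ 𝔪` gives reducedness of the
scheme-theoretic fibre over the closed point. -/
theorem isReduced_fiber_closedPoint {X : Scheme.{u}} (f : X ⟶ Spec (CommRingCat.of R))
    (h : IsReduced (pullback f (Spec.map (CommRingCat.ofHom (IsLocalRing.residue R))))) :
    IsReduced (f.fiber (IsLocalRing.closedPoint R)) := by
  obtain ⟨t, ht⟩ : ∃ t : Spec (CommRingCat.of (IsLocalRing.ResidueField R)) ⟶
      Spec (CommRingCat.of R), t = Spec.map (CommRingCat.ofHom (IsLocalRing.residue R)) :=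
    ⟨_, rfl⟩
  rw [← ht] at h
  have hy : t (IsLocalRing.closedPoint (IsLocalRing.ResidueField R)) =
      IsLocalRing.closedPoint R := by
    rw [ht]
    exact IsLocalRing.comap_closedPoint (IsLocalRing.residue R)
  have key : IsReduced (f.fiber (t (IsLocalRing.closedPoint (IsLocalRing.ResidueField R)))) := by
    let c : Spec (CommRingCat.of (IsLocalRing.ResidueField R)) ⟶
        Spec ((Spec (CommRingCat.of R)).residueField
          (t (IsLocalRing.closedPoint (IsLocalRing.ResidueField R)))) :=
      Spec.map ((Spec (CommRingCat.of R)).descResidueField (Scheme.stalkClosedPointTo t))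
    have hc : c ≫ (Spec (CommRingCat.of R)).fromSpecResidueField
        (t (IsLocalRing.closedPoint (IsLocalRing.ResidueField R))) = t :=
      Scheme.descResidueField_stalkClosedPointTo_fromSpecResidueField _ _ t
    let m : pullback f t ⟶
        f.fiber (t (IsLocalRing.closedPoint (IsLocalRing.ResidueField R))) :=
      pullback.lift (pullback.fst f t) (pullback.snd f t ≫ c)
        (by rw [Category.assoc, hc, pullback.condition])
    have sq : IsPullback m (pullback.snd f t) (f.fiberToSpecResidueField _) c := by
      refine IsPullback.of_right (h₁₂ := f.fiberι _)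
        (h₂₂ := (Spec (CommRingCat.of R)).fromSpecResidueField _) ?_
        (pullback.lift_snd _ _ _) (IsPullback.of_hasPullback f
          ((Spec (CommRingCat.of R)).fromSpecResidueField _))
      have h1 : m ≫ f.fiberι _ = pullback.fst f t := pullback.lift_fst _ _ _
      rw [h1, hc]
      exact IsPullback.of_hasPullback f t
    have hfsq := Groth.Agent.H7.LocNoethFib.fsq_of_fields
      (K := IsLocalRing.ResidueField R)
      (K₀ := (Spec (CommRingCat.of R)).residueField
        (t (IsLocalRing.closedPoint (IsLocalRing.ResidueField R)))) c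
    have hcf : Flat c := hfsq.1.1
    have hcs : Surjective c := hfsq.1.2
    have hmf : Flat m := MorphismProperty.of_isPullback (P := @Flat) sq.flip hcf
    have hms : Surjective m := MorphismProperty.of_isPullback (P := @Surjective) sq.flip hcs
    exact Groth.Agent.H3.AlgSpCov.isReduced_of_flat_surjective m hms.surj
  rwa [hy] at key

end Groth.Agent.H7.DVRRedSp
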