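import Groth.Agent.Lib.Helper7.DVRRedA
import Groth.Agent.Lib.Helper3.AlgSpProp.HasAt
import Groth.Agent.Lib.Helper5.AlgSp.GeneralizingChart
import Groth.Agent.Lib.Helper5.AlgSp.AffineChart
import Groth.Agent.Lib.Helper5.AlgSp.Permanence
import Groth.Agent.Lib.Helper5.AlgSp.FibreProduct
import Mathlib

/-!
# Reducedness of proper flat algebraic spaces over a discrete valuation ring (S10669)
-/

set_option autoImplicit false
universe u

open AlgebraicGeometry CategoryTheory Limits

namespace Groth.Agent.H7.DVRRedSp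

open _root_.AlgSp Groth.Agent.H5.AlgSp Groth.Agent.H9.DVF

variable {S : Scheme.{u}}

/-- a scheme-theoretic fibre product chart of a reduced fibre of a morphism to a representable
sheaf is reduced. -/
theorem isReduced_pullback_chart {X : Sp S} {Z T W : Over S} (s : X ⟶ (yon S).obj Z)
    (a : (yon S).obj W ⟶ X) (ha : RepWith @Etale a) (g : W ⟶ Z) (hg : (yon S).map g = a ≫ s)
    (t : T ⟶ Z) {XT : Sp S} (fst : XT ⟶ X) (snd : XT ⟶ (yon S).obj T)
    (sq : IsPullback fst snd s ((yon S).map t)) (hred : IsReducedSp XT) :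
    IsReduced (pullback g.left t.left) := by
  let W' : Over S := Over.mk (pullback.fst g.left t.left ≫ W.hom)
  let pr1 : W' ⟶ W := Over.homMk (pullback.fst g.left t.left) rfl
  let k' : W' ⟶ T := Over.homMk (pullback.snd g.left t.left) (by
    change pullback.snd g.left t.left ≫ T.hom = pullback.fst g.left t.left ≫ W.hom
    rw [← Over.w t, ← Over.w g, pullback.condition_assoc])
  have hcomm : pr1 ≫ g = k' ≫ t := Over.OverMorphism.ext pullback.condition
  have hsq : IsPullback pr1 k' g t :=
    IsPullback.of_map (Over.forget S) hcomm (IsPullback.of_hasPullback g.left t.left)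
  have hsqy := hsq.map (yon S)
  have hw : ((yon S).map pr1 ≫ a) ≫ s = (yon S).map k' ≫ (yon S).map t := by
    rw [Category.assoc, ← hg, ← Functor.map_comp, hcomm, Functor.map_comp]
  have hc1 : sq.lift _ _ hw ≫ snd = (yon S).map k' := sq.lift_snd _ _ _
  have hc2 : sq.lift _ _ hw ≫ fst = (yon S).map pr1 ≫ a := sq.lift_fst _ _ _
  have left : IsPullback (sq.lift _ _ hw) ((yon S).map pr1) fst a := by
    refine IsPullback.of_right (h₁₂ := snd) (h₂₂ := s) ?_ hc2 sq.flip
    rw [hc1, ← hg]
    exact hsqy.flip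
  have hce : RepWith @Etale (sq.lift _ _ hw) :=
    MorphismProperty.of_isPullback (P := RepWith @Etale) left.flip ha
  exact Groth.Agent.H3.AlgSpCov.isReduced_of_etale_of_isReducedSp hred _ hce

variable {R : Type u} [CommRing R] [IsDomain R] [IsDiscreteValuationRing R]

/-- the key pointwise statement: local rings of a proper flat algebraic space over a discrete
valuation ring with reduced special fibre are reduced. -/
theorem hasAt_isReduced_stalk {X : AlgSp.Space (Spec (CommRingCat.of R))}
    (s : X.obj ⟶ (AlgSp.yon (Spec (CommRingCat.of R))).obj (Over.mk (𝟙 _)))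
    (hs1 : AlgSp.IsProperMor s) (hs2 : AlgSp.LocP @Flat s)
    (h0 : ∀ (X0 : AlgSp.Sp (Spec (CommRingCat.of R))) (fst : X0 ⟶ X.obj)
      (snd : X0 ⟶ (AlgSp.yon (Spec (CommRingCat.of R))).obj
        (Over.mk (Spec.map (CommRingCat.ofHom (IsLocalRing.residue R))))),
      IsPullback fst snd s ((AlgSp.yon (Spec (CommRingCat.of R))).map
        (Over.homMk (Spec.map (CommRingCat.ofHom (IsLocalRing.residue R))) (Category.comp_id _) :
          Over.mk (Spec.map (CommRingCat.ofHom (IsLocalRing.residue R))) ⟶ Over.mk (𝟙 _))) →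
      AlgSp.EtaleLocally (fun U => IsReduced U) X0)
    (x : Points X.obj) :
    HasAt (fun U u => _root_.IsReduced ↥(U.presheaf.stalk u)) X.obj x := by
  obtain ⟨π, hπ⟩ := IsDiscreteValuationRing.exists_irreducible R
  -- closedness
  have hcl : IsClosedMap (Points.map s) :=
    hs1.2.2 (IsAlgSpace.yon_obj _) (𝟙 _) (𝟙 _) _ (IsPullback.of_horiz_isIso ⟨by simp⟩)
  -- a specialization in the special fibre
  obtain ⟨x₀, hx₀c, hx₀⟩ : ∃ x₀ ∈ closure ({x} : Set (Points X.obj)),
      Points.map s x₀ = Points.ofScheme (Over.mk (𝟙 (Spec (CommRingCat.of R)))) (IsLocalRing.closedPoint R) := by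
    have hE : IsClosed (Points.map s '' closure ({x} : Set (Points X.obj))) :=
      hcl _ isClosed_closure
    have hF : IsClosed ((Points.schemeHomeo (Over.mk (𝟙 (Spec (CommRingCat.of R))))) ⁻¹'
        (Points.map s '' closure ({x} : Set (Points X.obj)))) :=
      hE.preimage (Points.schemeHomeo _).continuous
    have hy₁ : Points.toScheme (Over.mk (𝟙 (Spec (CommRingCat.of R)))) (Points.map s x) ∈
        (Points.schemeHomeo (Over.mk (𝟙 (Spec (CommRingCat.of R))))) ⁻¹'
        (Points.map s '' closure ({x} : Set (Points X.obj))) := by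
      refine ⟨x, subset_closure rfl, ?_⟩
      exact (Points.ofScheme_toScheme _ _).symm
    have hsp : Points.toScheme (Over.mk (𝟙 (Spec (CommRingCat.of R)))) (Points.map s x) ⤳
        (IsLocalRing.closedPoint R : PrimeSpectrum R) :=
      IsLocalRing.specializes_closedPoint _
    obtain ⟨x₀, hx₀c, hx₀⟩ := hsp.mem_closed hF hy₁
    exact ⟨x₀, hx₀c, hx₀⟩
  have hspec : x ⤳ x₀ := specializes_iff_mem_closure.2 hx₀c
  -- an affine chart through `x₀`
  obtain ⟨U, a, hae, has⟩ := X.property.atlas
  obtain ⟨u₀', hu₀'⟩ := ofPt_surjective_of_repWith has x₀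
  obtain ⟨W, hW, hmem, -⟩ := exists_isAffineOpen_mem_and_subset (x := u₀') (U := ⊤) trivial
  let W' : Over (Spec (CommRingCat.of R)) := Over.mk (W.ι ≫ U.hom)
  let j : W' ⟶ U := Over.homMk W.ι rfl
  haveI : IsAffine W'.left := hW
  haveI : IsAffine (Over.mk (𝟙 (Spec (CommRingCat.of R)))).left :=
    inferInstanceAs (IsAffine (Spec (CommRingCat.of R)))
  have haW : RepWith @Etale ((yon _).map j ≫ a) :=
    repWith_comp_yon_map @Etale j (inferInstanceAs (Etale W.ι)) hae
  let u₀ : W'.left := ⟨u₀', hmem⟩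
  have hu₀ : Points.ofPt ((yon _).map j ≫ a) u₀ = x₀ := by
    rw [ofPt_yon_map_comp]
    exact hu₀'
  have hqs : IsQuasiSeparatedMor s := repWith_mono isClosedImmersion_le_quasiCompact hs1.1
  obtain ⟨u, huu₀, hux⟩ := exists_specializes_ofPt_eq ((yon _).map j ≫ a) haW s hqs x u₀
    (by rw [hu₀]; exact hspec)
  -- the chart map to the base
  obtain ⟨g, hg⟩ := (yon _).map_surjective (((yon _).map j ≫ a) ≫ s)
  haveI hgfl : Flat g.left :=
    hs2 ((yon _).map j ≫ a) (𝟙 _) g haW (repWith_id _ _) (by rw [hg, Category.comp_id])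
  haveI hglft : LocallyOfFiniteType g.left :=
    hs1.2.1.1 ((yon _).map j ≫ a) (𝟙 _) g haW (repWith_id _ _) (by rw [hg, Category.comp_id])
  have hgu₀ : g.left u₀ = IsLocalRing.closedPoint R := by
    have h1 : Points.toScheme (Over.mk (𝟙 (Spec (CommRingCat.of R))))
        (Points.map s (Points.ofPt ((yon _).map j ≫ a) u₀)) =
        Points.toScheme (Over.mk (𝟙 (Spec (CommRingCat.of R))))
          (Points.ofScheme (Over.mk (𝟙 (Spec (CommRingCat.of R)))) (IsLocalRing.closedPoint R)) := by
      rw [hu₀, hx₀]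
    rw [Points.map_ofPt, ← hg, Points.toScheme_ofPt, Points.toScheme_ofScheme] at h1
    exact h1
  have hπmem : π ∈ (g.left u₀ : PrimeSpectrum R).asIdeal := by
    rw [hgu₀]
    change π ∈ IsLocalRing.maximalIdeal R
    rw [hπ.maximalIdeal_eq]
    exact Ideal.mem_span_singleton_self π
  -- the special fibre of the chart is reduced
  have hred0 : IsReducedSp (pullback s ((AlgSp.yon (Spec (CommRingCat.of R))).map
        (Over.homMk (Spec.map (CommRingCat.ofHom (IsLocalRing.residue R))) (Category.comp_id _) :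
          Over.mk (Spec.map (CommRingCat.ofHom (IsLocalRing.residue R))) ⟶ Over.mk (𝟙 _)))) :=
    h0 _ _ _ (IsPullback.of_hasPullback _ _)
  have hred1 := isReduced_pullback_chart s ((yon _).map j ≫ a) haW g hg
    (Over.homMk (Spec.map (CommRingCat.ofHom (IsLocalRing.residue R))) (Category.comp_id _) :
      Over.mk (Spec.map (CommRingCat.ofHom (IsLocalRing.residue R))) ⟶ Over.mk (𝟙 _))
    _ _ (IsPullback.of_hasPullback _ _) hred0
  have hred2 : IsReduced (g.left.fiber (IsLocalRing.closedPoint R)) :=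
    isReduced_fiber_closedPoint g.left hred1
  have H : ChartHyp g.left π := chartHyp_of_flat g.left hπ hred2
  exact ⟨W', (yon _).map j ≫ a, u, haW, hux,
    stalk_reduced_of_specializes g.left hπ H u u₀ huu₀ hπmem⟩

end Groth.Agent.H7.DVRRedSp
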