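import Groth.Agent.Lib.Helper7.DVRRedB
import Groth.Agent.H4.GlueDVR
import Mathlib

/-!
# Reducedness of proper flat algebraic spaces over a discrete valuation ring (S10669), assembly
-/

set_option autoImplicit false
universe u

open AlgebraicGeometry CategoryTheory Limits

namespace Groth.Agent.H7.DVRRedSp

open _root_.AlgSp Groth.Agent.H5.AlgSp Groth.Agent.H9.DVF

variable {R : Type u} [CommRing R] [IsDomain R] [IsDiscreteValuationRing R]

theorem isOpenImmersion_fractionRing :
    IsOpenImmersion (Spec.map (CommRingCat.ofHom (algebraMap R (FractionRing R)))) := by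
  obtain ⟨π, hπ⟩ := IsDiscreteValuationRing.exists_irreducible R
  haveI : IsLocalization.Away π (FractionRing R) := by
    refine Groth.Agent.H4.GlueDVR.away_of_injective
      (IsFractionRing.injective R (FractionRing R)) π ?_
      (Groth.Agent.H4.GlueDVR.dvr_mul_pow_mem π hπ.ne_zero hπ.not_isUnit)
    refine IsUnit.mk0 _ ?_
    rw [Ne, map_eq_zero_iff _ (IsFractionRing.injective R (FractionRing R))]
    exact hπ.ne_zero
  exact IsOpenImmersion.of_isLocalization π

theorem S10669_main
    {X : AlgSp.Space (Spec (CommRingCat.of R))}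
    (s : X.obj ⟶ (AlgSp.yon (Spec (CommRingCat.of R))).obj (Over.mk (𝟙 _)))
    (hs1 : AlgSp.IsProperMor s) (hs2 : AlgSp.LocP @Flat s)
    (h0 : ∀ (X0 : AlgSp.Sp (Spec (CommRingCat.of R))) (fst : X0 ⟶ X.obj)
      (snd : X0 ⟶ (AlgSp.yon (Spec (CommRingCat.of R))).obj
        (Over.mk (Spec.map (CommRingCat.ofHom (IsLocalRing.residue R))))),
      IsPullback fst snd s ((AlgSp.yon (Spec (CommRingCat.of R))).map
        (Over.homMk (Spec.map (CommRingCat.ofHom (IsLocalRing.residue R))) (Category.comp_id _) :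
          Over.mk (Spec.map (CommRingCat.ofHom (IsLocalRing.residue R))) ⟶ Over.mk (𝟙 _))) →
      AlgSp.EtaleLocally (fun U => IsReduced U) X0) :
    AlgSp.EtaleLocally (fun U => IsReduced U) X.obj ∧
      ∀ (Xη : AlgSp.Sp (Spec (CommRingCat.of R))) (fst : Xη ⟶ X.obj)
        (snd : Xη ⟶ (AlgSp.yon (Spec (CommRingCat.of R))).obj
          (Over.mk (Spec.map (CommRingCat.ofHom (algebraMap R (FractionRing R)))))),
        IsPullback fst snd s ((AlgSp.yon (Spec (CommRingCat.of R))).map
          (Over.homMk (Spec.map (CommRingCat.ofHom (algebraMap R (FractionRing R)))) (Category.comp_id _) :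
            Over.mk (Spec.map (CommRingCat.ofHom (algebraMap R (FractionRing R)))) ⟶ Over.mk (𝟙 _))) →
        AlgSp.EtaleLocally (fun U => IsReduced U) Xη := by
  have hX : IsReducedSp X.obj := by
    obtain ⟨U, a, hae, has⟩ := X.property.atlas
    refine ⟨U, a, hae, has, ?_⟩
    haveI : ∀ u : U.left, _root_.IsReduced (U.left.presheaf.stalk u) := fun u =>
      (Groth.Agent.H3.AlgSpProp.hasAt_iff_forall
        Groth.Agent.H3.AlgSpProp.etaleLocalAt_isReduced_stalk X.property _).1
        (hasAt_isReduced_stalk s hs1 hs2 h0 _) U a u hae rfl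
    exact isReduced_of_isReduced_stalk U.left
  refine ⟨hX, ?_⟩
  intro Xη fst snd sq
  have hK : RepWith @IsOpenImmersion ((AlgSp.yon (Spec (CommRingCat.of R))).map
      (Over.homMk (Spec.map (CommRingCat.ofHom (algebraMap R (FractionRing R)))) (Category.comp_id _) :
        Over.mk (Spec.map (CommRingCat.ofHom (algebraMap R (FractionRing R)))) ⟶ Over.mk (𝟙 _))) :=
    (repWith_yon_map_iff @IsOpenImmersion _).2 isOpenImmersion_fractionRing
  have hfst : RepWith @IsOpenImmersion fst :=
    MorphismProperty.of_isPullback (P := RepWith @IsOpenImmersion) sq.flip hK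
  have hXη : IsAlgSpace Xη :=
    isAlgSpace_pullback (IsAlgSpace.yon_obj _).diag X.property (IsAlgSpace.yon_obj _) sq
  obtain ⟨V, b, hbe, hbs⟩ := hXη.atlas
  have hle : (@IsOpenImmersion : MorphismProperty Scheme.{u}) ≤ @Etale :=
    fun _ _ g (hg : IsOpenImmersion g) => (inferInstance : Etale g)
  have hcomp : RepWith @Etale (b ≫ fst) :=
    MorphismProperty.comp_mem _ _ _ hbe (repWith_mono hle hfst)
  exact ⟨V, b, hbe, hbs,
    Groth.Agent.H3.AlgSpCov.isReduced_of_etale_of_isReducedSp hX (b ≫ fst) hcomp⟩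

end Groth.Agent.H7.DVRRedSp
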