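import Mathlib

set_option autoImplicit false

universe u

open CategoryTheory CategoryTheory.Limits Opposite AlgebraicGeometry

namespace Groth.Agent.H7.Dbl

section

variable {U V : Scheme.{u}} (g₁ g₂ : V ⟶ U) [IsOpenImmersion g₁] [IsOpenImmersion g₂]

instance span_isOpenImmersion : ∀ {i j : WalkingSpan} (f : i ⟶ j),
    IsOpenImmersion ((span g₁ g₂).map f) := by
  intro i j f
  obtain (_ | k) := f
  · rw [show (WidePushoutShape.Hom.id i) = 𝟙 i from rfl, CategoryTheory.Functor.map_id]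
    infer_instance
  · obtain (_ | _) := k
    · exact inferInstanceAs (IsOpenImmersion g₁)
    · exact inferInstanceAs (IsOpenImmersion g₂)

instance : IsOpenImmersion (pushout.inl g₁ g₂) := 
  inferInstanceAs (IsOpenImmersion (colimit.ι (span g₁ g₂) WalkingSpan.left))

instance : IsOpenImmersion (pushout.inr g₁ g₂) := 
  inferInstanceAs (IsOpenImmersion (colimit.ι (span g₁ g₂) WalkingSpan.right))

lemma inl_eq_inr_iff (x y : U) :
    (pushout.inl g₁ g₂).base x = (pushout.inr g₁ g₂).base y ↔ ∃ z : V, g₁.base z = x ∧ g₂.base z = y := by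
  have h := Scheme.IsLocallyDirected.ι_eq_ι_iff (F := span g₁ g₂) (i := WalkingSpan.left) 
    (j := WalkingSpan.right) (xi := x) (xj := y)
  constructor
  · intro hxy
    obtain ⟨k, fi, fj, z, hz1, hz2⟩ := h.mp hxy
    obtain (_ | k) := fi
    · obtain (_ | k) := fj
    · obtain (_ | k') := fj
      exact ⟨z, hz1, hz2⟩
  · rintro ⟨z, rfl, rfl⟩
    rw [← Scheme.Hom.comp_apply, ← Scheme.Hom.comp_apply, pushout.condition]

lemma jointly_surjective (x : (pushout g₁ g₂ : Scheme.{u})) :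
    (∃ u, (pushout.inl g₁ g₂).base u = x) ∨ (∃ u, (pushout.inr g₁ g₂).base u = x) := by
  obtain ⟨i, xi, h⟩ := Scheme.IsLocallyDirected.ι_jointly_surjective (span g₁ g₂) x
  obtain (_ | (_ | _)) := i
  · right
    refine ⟨g₂.base xi, ?_⟩
    rw [← h, ← Scheme.Hom.comp_apply]
    exact congrArg (fun t : V ⟶ (pushout g₁ g₂ : Scheme.{u}) => t.base xi)
      (colimit.w (span g₁ g₂) (WalkingSpan.Hom.snd))
  · left; exact ⟨xi, h⟩
  · right; exact ⟨xi, h⟩

lemma isPullback : IsPullback g₁ g₂ (pushout.inl g₁ g₂) (pushout.inr g₁ g₂) := by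
  refine IsOpenImmersion.isPullback g₁ g₂ (pushout.inl g₁ g₂) (pushout.inr g₁ g₂) 
    pushout.condition.symm ?_
  ext y
  simp only [TopologicalSpace.Opens.map_coe, Set.mem_preimage, SetLike.mem_coe, Scheme.Hom.mem_opensRange]
  constructor
  · rintro ⟨x, hx⟩
    obtain ⟨z, hz1, hz2⟩ := (inl_eq_inr_iff g₁ g₂ x y).mp hx
    exact ⟨z, hz2⟩
  · rintro ⟨z, rfl⟩
    refine ⟨g₁.base z, ?_⟩
    exact (inl_eq_inr_iff g₁ g₂ _ _).mpr ⟨z, rfl, rfl⟩

end

end Groth.Agent.H7.Dbl

namespace Groth.Agent.H7.Dbl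

section

variable {U V X : Scheme.{u}} (g₁ g₂ : V ⟶ U) [IsOpenImmersion g₁] [IsOpenImmersion g₂]
  (f₁ f₂ : U ⟶ X) (h : g₁ ≫ f₁ = g₂ ≫ f₂)

lemma etale_desc [AlgebraicGeometry.Etale f₁] [AlgebraicGeometry.Etale f₂] :
    AlgebraicGeometry.Etale (pushout.desc f₁ f₂ h) := by
  refine IsZariskiLocalAtSource.of_openCover (P := @AlgebraicGeometry.Etale) 
    (Scheme.IsLocallyDirected.openCover (span g₁ g₂)) (fun i => ?_)
  obtain (_ | (_ | _)) := i
  · have e : (Scheme.IsLocallyDirected.openCover (span g₁ g₂)).f none ≫ pushout.desc f₁ f₂ h = 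
        g₁ ≫ f₁ := by
      have := colimit.w (span g₁ g₂) (WalkingSpan.Hom.fst)
      change colimit.ι (span g₁ g₂) none ≫ pushout.desc f₁ f₂ h = _
      rw [← this, Category.assoc]
      change g₁ ≫ pushout.inl g₁ g₂ ≫ _ = _
      rw [pushout.inl_desc]
    rw [e]
    exact (inferInstance : AlgebraicGeometry.Etale (g₁ ≫ f₁))
  · have e : (Scheme.IsLocallyDirected.openCover (span g₁ g₂)).f (some WalkingPair.left) ≫ 
        pushout.desc f₁ f₂ h = f₁ := pushout.inl_desc f₁ f₂ h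
    rw [e]
    exact (inferInstance : AlgebraicGeometry.Etale f₁)
  · have e : (Scheme.IsLocallyDirected.openCover (span g₁ g₂)).f (some WalkingPair.right) ≫ 
        pushout.desc f₁ f₂ h = f₂ := pushout.inr_desc f₁ f₂ h
    rw [e]
    exact (inferInstance : AlgebraicGeometry.Etale f₂)

end

end Groth.Agent.H7.Dbl
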