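import Mathlib
import Groth.Prelude.Def_EtShriek2
import Groth.Agent.Lib.Helper7.ES15
import Groth.Agent.Lib.Helper7.Dbl1

set_option autoImplicit false

universe u

open CategoryTheory CategoryTheory.Limits Opposite AlgebraicGeometry Abelian

namespace Groth.Agent.H7.Dbl

open Groth.Agent.H7.ES

section

variable {W U X : Scheme.{u}} (jU : U ⟶ X) (a : W ⟶ U) (jW : W ⟶ X) (w : a ≫ jU = jW)
  [AlgebraicGeometry.Etale jU] [AlgebraicGeometry.Etale a] [AlgebraicGeometry.Etale jW]

lemma etObjMap_left : (etObjMap jU a jW w).left = a := by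
  have h1 : (etObjMap jU a jW w).left =
      (sigmaIso jU a jW w).hom.left ≫ ((EtCore.topIsTerminal U).from (etObj a)).left := rfl
  rw [h1, from_etObj_left]
  exact Category.id_comp a

end

section

variable {X : Scheme.{u}} (F : EtCoh.Ab X)

theorem S14452_main
    (hF : ∀ (W : X.Etale) (q : ℕ), 0 < q →
      Subsingleton (EtCoh.H W.left ((EtCoh.pull W.hom).obj F) q))
    {U V : X.Etale} (g : V ⟶ U) [IsOpenImmersion g.left] :
    Function.Surjective (F.obj.map g.op).hom := by
  haveI : AlgebraicGeometry.Etale U.hom := U.prop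
  haveI : AlgebraicGeometry.Etale V.hom := V.prop
  let P : Scheme.{u} := pushout g.left g.left
  let i₁ : U.left ⟶ P := pushout.inl g.left g.left
  let i₂ : U.left ⟶ P := pushout.inr g.left g.left
  let p : P ⟶ X := pushout.desc U.hom U.hom rfl
  haveI : AlgebraicGeometry.Etale p := etale_desc g.left g.left U.hom U.hom rfl
  haveI : IsOpenImmersion i₁ := inferInstanceAs (IsOpenImmersion (pushout.inl g.left g.left))
  haveI : IsOpenImmersion i₂ := inferInstanceAs (IsOpenImmersion (pushout.inr g.left g.left))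
  have hp₁ : i₁ ≫ p = U.hom := pushout.inl_desc _ _ _
  have hp₂ : i₂ ≫ p = U.hom := pushout.inr_desc _ _ _
  let jW : V.left ⟶ P := g.left ≫ i₁
  have wb : g.left ≫ i₂ = jW := pushout.condition.symm
  have hpb : IsPullback g.left g.left i₁ i₂ := isPullback g.left g.left
  have hcov : ∀ x : P, (∃ u : U.left, i₁.base u = x) ∨ (∃ v : U.left, i₂.base v = x) :=
    jointly_surjective g.left g.left
  let PE : X.Etale := MorphismProperty.Over.mk ⊤ p inferInstance
  let G : EtCoh.Ab P := (EtCoh.pull p).obj F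
  haveI : Subsingleton (EtCoh.H P G 1) := hF PE 1 one_pos
  intro s
  haveI : Mono i₁ := inferInstance
  haveI : Mono i₂ := inferInstance
  haveI : Mono jW := mono_comp _ _
  -- comparison isos in `X.Etale`
  have hW : jW ≫ p = V.hom := by
    rw [Category.assoc, hp₁]
    exact MorphismProperty.Over.w g
  let κW : (EtShriek.compEtale p).obj (etObj jW) ≅ V :=
    MorphismProperty.Over.isoMk (Iso.refl _) (by
      change 𝟙 _ ≫ V.hom = (𝟙 _ ≫ jW) ≫ p
      rw [Category.id_comp, Category.id_comp, hW])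
  let κ₁ : (EtShriek.compEtale p).obj (etObj i₁) ≅ U :=
    MorphismProperty.Over.isoMk (Iso.refl _) (by
      change 𝟙 _ ≫ U.hom = (𝟙 _ ≫ i₁) ≫ p
      rw [Category.id_comp, Category.id_comp, hp₁])
  let κ₂ : (EtShriek.compEtale p).obj (etObj i₂) ≅ U :=
    MorphismProperty.Over.isoMk (Iso.refl _) (by
      change 𝟙 _ ≫ U.hom = (𝟙 _ ≫ i₂) ≫ p
      rw [Category.id_comp, Category.id_comp, hp₂])
  let m₁ : etObj jW ⟶ etObj i₁ := etObjMap i₁ g.left jW rfl
  let m₂ : etObj jW ⟶ etObj i₂ := etObjMap i₂ g.left jW wb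
  have hm₁ : κW.inv ≫ (EtShriek.compEtale p).map m₁ = g ≫ κ₁.inv := by
    apply MorphismProperty.Over.Hom.ext
    change 𝟙 _ ≫ m₁.left = g.left ≫ 𝟙 _
    rw [Category.id_comp, Category.comp_id]
    exact etObjMap_left i₁ g.left jW rfl
  have hm₂ : κW.inv ≫ (EtShriek.compEtale p).map m₂ = g ≫ κ₂.inv := by
    apply MorphismProperty.Over.Hom.ext
    change 𝟙 _ ≫ m₂.left = g.left ≫ 𝟙 _
    rw [Category.id_comp, Category.comp_id]
    exact etObjMap_left i₂ g.left jW wb
  let e : G ≅ (EtShriek.restrAlong p).obj F := (pullIsoRestr p).app F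
  let s' : G.obj.obj (op (etObj jW)) :=
    (e.inv.hom.app (op (etObj jW))).hom ((F.obj.map κW.hom.op).hom s)
  obtain ⟨sU, sV, h⟩ := mv_elt_surj i₁ i₂ g.left g.left jW rfl wb hpb hcov G s'
  let tU : F.obj.obj (op ((EtShriek.compEtale p).obj (etObj i₁))) :=
    (e.hom.hom.app (op (etObj i₁))).hom sU
  let tV : F.obj.obj (op ((EtShriek.compEtale p).obj (etObj i₂))) :=
    (e.hom.hom.app (op (etObj i₂))).hom sV
  refine ⟨(F.obj.map κ₁.inv.op).hom tU - (F.obj.map κ₂.inv.op).hom tV, ?_⟩
  have nat₁ : (e.hom.hom.app (op (etObj jW))).hom ((G.obj.map m₁.op).hom sU) =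
      (F.obj.map ((EtShriek.compEtale p).map m₁).op).hom tU :=
    congrArg (fun t => t.hom sU) (e.hom.hom.naturality m₁.op)
  have nat₂ : (e.hom.hom.app (op (etObj jW))).hom ((G.obj.map m₂.op).hom sV) =
      (F.obj.map ((EtShriek.compEtale p).map m₂).op).hom tV :=
    congrArg (fun t => t.hom sV) (e.hom.hom.naturality m₂.op)
  have hs' : (e.hom.hom.app (op (etObj jW))).hom s' = (F.obj.map κW.hom.op).hom s := by
    have h1 : e.inv.hom.app (op (etObj jW)) ≫ e.hom.hom.app (op (etObj jW)) = 𝟙 _ :=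
      congrArg (fun φ => φ.hom.app (op (etObj jW))) e.inv_hom_id
    exact congrArg (fun t => t.hom ((F.obj.map κW.hom.op).hom s)) h1
  have h2 : (e.hom.hom.app (op (etObj jW))).hom ((G.obj.map m₁.op).hom sU) -
      (e.hom.hom.app (op (etObj jW))).hom ((G.obj.map m₂.op).hom sV) =
      (e.hom.hom.app (op (etObj jW))).hom s' :=
    (map_sub (e.hom.hom.app (op (etObj jW))).hom _ _).symm.trans
      (congrArg (fun t => (e.hom.hom.app (op (etObj jW))).hom t) h)
  rw [hs', nat₁, nat₂] at h2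
  have h3 : (F.obj.map κW.inv.op).hom ((F.obj.map ((EtShriek.compEtale p).map m₁).op).hom tU) -
      (F.obj.map κW.inv.op).hom ((F.obj.map ((EtShriek.compEtale p).map m₂).op).hom tV) =
      (F.obj.map κW.inv.op).hom ((F.obj.map κW.hom.op).hom s) :=
    (map_sub (F.obj.map κW.inv.op).hom _ _).symm.trans
      (congrArg (fun t => (F.obj.map κW.inv.op).hom t) h2)
  have c₁ : (F.obj.map κW.inv.op).hom ((F.obj.map ((EtShriek.compEtale p).map m₁).op).hom tU) =
      (F.obj.map g.op).hom ((F.obj.map κ₁.inv.op).hom tU) := by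
    have : F.obj.map ((EtShriek.compEtale p).map m₁).op ≫ F.obj.map κW.inv.op =
        F.obj.map κ₁.inv.op ≫ F.obj.map g.op := by
      rw [← F.obj.map_comp, ← F.obj.map_comp, ← op_comp, ← op_comp, hm₁]
    exact congrArg (fun t => t.hom tU) this
  have c₂ : (F.obj.map κW.inv.op).hom ((F.obj.map ((EtShriek.compEtale p).map m₂).op).hom tV) =
      (F.obj.map g.op).hom ((F.obj.map κ₂.inv.op).hom tV) := by
    have : F.obj.map ((EtShriek.compEtale p).map m₂).op ≫ F.obj.map κW.inv.op =
        F.obj.map κ₂.inv.op ≫ F.obj.map g.op := by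
      rw [← F.obj.map_comp, ← F.obj.map_comp, ← op_comp, ← op_comp, hm₂]
    exact congrArg (fun t => t.hom tV) this
  have c₃ : (F.obj.map κW.inv.op).hom ((F.obj.map κW.hom.op).hom s) = s := by
    have : F.obj.map κW.hom.op ≫ F.obj.map κW.inv.op = 𝟙 _ := by
      rw [← F.obj.map_comp, ← op_comp, Iso.inv_hom_id, op_id, F.obj.map_id]
    exact congrArg (fun t => t.hom s) this
  rw [c₁, c₂, c₃] at h3
  exact (map_sub (F.obj.map g.op).hom _ _).trans h3

end

end Groth.Agent.H7.Dbl
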