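import Mathlib

/-! Minimal presentations of a local algebra with nilpotent maximal ideal and residue field `k`. -/

universe u

namespace Groth.Agent.H7.Deform

open IsLocalRing MvPolynomial

variable {k : Type u} [Field k] {A : Type u} [CommRing A] [Algebra k A] [IsLocalRing A]

/-- A family of elements of the maximal ideal lifting a `k`-basis of `m / m²`. -/
theorem exists_family :
    ∃ (ι : Type u) (b : ι → A), (∀ i, b i ∈ maximalIdeal A) ∧
      (∀ x ∈ maximalIdeal A, ∃ l : ι →₀ k,
        x - Finsupp.linearCombination k b l ∈ maximalIdeal A ^ 2) ∧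
      (∀ l : ι →₀ k, Finsupp.linearCombination k b l ∈ maximalIdeal A ^ 2 → l = 0) := by
  let mk : Submodule k A := (maximalIdeal A).restrictScalars k
  let m2k : Submodule k A := (maximalIdeal A ^ 2).restrictScalars k
  let U : Submodule k mk := m2k.comap mk.subtype
  let β := Module.Basis.ofVectorSpace k (mk ⧸ U)
  let b' : Module.Basis.ofVectorSpaceIndex k (mk ⧸ U) → mk := fun i =>
    (U.mkQ_surjective (β i)).choose
  have hb' : ∀ i, U.mkQ (b' i) = β i := fun i => (U.mkQ_surjective (β i)).choose_spec
  have hlc : ∀ l : Module.Basis.ofVectorSpaceIndex k (mk ⧸ U) →₀ k,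
      Finsupp.linearCombination k (fun i => (b' i : A)) l =
        mk.subtype (Finsupp.linearCombination k b' l) := by
    intro l
    rw [Finsupp.apply_linearCombination]
    rfl
  have hq : ∀ l : Module.Basis.ofVectorSpaceIndex k (mk ⧸ U) →₀ k,
      U.mkQ (Finsupp.linearCombination k b' l) = Finsupp.linearCombination k β l := by
    intro l
    rw [Finsupp.apply_linearCombination]
    have : (⇑U.mkQ ∘ b') = ⇑β := funext hb'
    rw [this]
  refine ⟨_, fun i => (b' i : A), fun i => (b' i).2, ?_, ?_⟩
  · intro x hx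
    refine ⟨β.repr (U.mkQ ⟨x, hx⟩), ?_⟩
    rw [hlc]
    have h0 : U.mkQ (⟨x, hx⟩ - Finsupp.linearCombination k b' (β.repr (U.mkQ ⟨x, hx⟩))) = 0 := by
      rw [map_sub, hq, β.linearCombination_repr, sub_self]
    rw [Submodule.mkQ_apply, Submodule.Quotient.mk_eq_zero] at h0
    exact h0
  · intro l hl
    rw [hlc] at hl
    have h1 : Finsupp.linearCombination k b' l ∈ U := hl
    have h2 : U.mkQ (Finsupp.linearCombination k b' l) = 0 := by
      rw [Submodule.mkQ_apply, Submodule.Quotient.mk_eq_zero]
      exact h1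
    rw [hq] at h2
    exact linearIndependent_iff.1 β.linearIndependent l h2

section Pres

variable {ι : Type u} (b : ι → A)

/-- The presentation map. -/
noncomputable abbrev phi : MvPolynomial ι k →ₐ[k] A := aeval b

variable (hb : ∀ i, b i ∈ maximalIdeal A)
include hb

lemma phi_mem_pow (j : ℕ) (f : MvPolynomial ι k) (hf : f ∈ idealOfVars ι k ^ j) :
    phi b f ∈ maximalIdeal A ^ j := by
  have h1 : Ideal.map (phi (k := k) b) (idealOfVars ι k) ≤ maximalIdeal A := by
    rw [idealOfVars, Ideal.map_span, Ideal.span_le]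
    rintro _ ⟨_, ⟨i, rfl⟩, rfl⟩
    simpa using hb i
  have h2 : Ideal.map (phi (k := k) b) (idealOfVars ι k ^ j) ≤ maximalIdeal A ^ j := by
    rw [Ideal.map_pow]
    exact Ideal.pow_right_mono h1 j
  exact h2 (Ideal.mem_map_of_mem _ hf)

lemma phi_mem (f : MvPolynomial ι k) (hf : f ∈ idealOfVars ι k) : phi b f ∈ maximalIdeal A := by
  have := phi_mem_pow b hb 1 f (by simpa using hf)
  simpa using this

omit hb in
lemma lc_X_mem (l : ι →₀ k) :
    Finsupp.linearCombination k (X : ι → MvPolynomial ι k) l ∈ idealOfVars ι k := by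
  rw [Finsupp.linearCombination_apply]
  refine Ideal.sum_mem _ fun i _ => ?_
  show l i • (X i : MvPolynomial ι k) ∈ idealOfVars ι k
  rw [Algebra.smul_def]
  exact Ideal.mul_mem_left _ _ (Ideal.subset_span ⟨i, rfl⟩)

omit hb in
/-- First-order Taylor decomposition. -/
lemma dec (f : MvPolynomial ι k) : ∃ (c₀ : k) (l : ι →₀ k),
    f - C c₀ - Finsupp.linearCombination k (X : ι → MvPolynomial ι k) l ∈ idealOfVars ι k ^ 2 := by
  induction f using MvPolynomial.induction_on with
  | C a => exact ⟨a, 0, by simp⟩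
  | add p q hp hq =>
    obtain ⟨c, l, h⟩ := hp
    obtain ⟨c', l', h'⟩ := hq
    refine ⟨c + c', l + l', ?_⟩
    have := Ideal.add_mem _ h h'
    convert this using 1
    rw [map_add, map_add]
    ring
  | mul_X p j hp =>
    obtain ⟨c, l, h⟩ := hp
    refine ⟨0, Finsupp.single j c, ?_⟩
    have hXj : (X j : MvPolynomial ι k) ∈ idealOfVars ι k := Ideal.subset_span ⟨j, rfl⟩
    have h1 : (p - C c - Finsupp.linearCombination k (X : ι → MvPolynomial ι k) l) * X j ∈
        idealOfVars ι k ^ 2 := Ideal.mul_mem_right _ _ h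
    have h2 : Finsupp.linearCombination k (X : ι → MvPolynomial ι k) l * X j ∈
        idealOfVars ι k ^ 2 := by
      rw [pow_two]
      exact Ideal.mul_mem_mul (lc_X_mem l) hXj
    have := Ideal.add_mem _ h1 h2
    convert this using 1
    rw [Finsupp.linearCombination_single, map_zero, sub_zero, Algebra.smul_def]
    simp only [MvPolynomial.algebraMap_eq]
    ring

end Pres

section Pres2

variable {ι : Type u} (b : ι → A)

lemma phi_lc (l : ι →₀ k) :
    phi b (Finsupp.linearCombination k (X : ι → MvPolynomial ι k) l) =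
      Finsupp.linearCombination k b l := by
  show (phi (k := k) b).toLinearMap _ = _
  rw [Finsupp.apply_linearCombination]
  have : (⇑(phi (k := k) b).toLinearMap ∘ (X : ι → MvPolynomial ι k)) = b := by
    funext i
    simp
  rw [this]

omit [IsLocalRing A] in
lemma phi_C (c : k) : phi b (C c : MvPolynomial ι k) = algebraMap k A c := by
  simp

lemma algebraMap_mem (c : k) (hc : algebraMap k A c ∈ maximalIdeal A) : c = 0 := by
  by_contra h
  have hu : IsUnit (algebraMap k A c) := (IsUnit.mk0 c h).map _
  exact (IsLocalRing.mem_maximalIdeal _).1 hc hu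

variable (hb : ∀ i, b i ∈ maximalIdeal A)
  (hB1 : ∀ x ∈ maximalIdeal A, ∃ l : ι →₀ k,
    x - Finsupp.linearCombination k b l ∈ maximalIdeal A ^ 2)
  (hB2 : ∀ l : ι →₀ k, Finsupp.linearCombination k b l ∈ maximalIdeal A ^ 2 → l = 0)
  (hres : ∀ a : A, ∃ c : k, a - algebraMap k A c ∈ maximalIdeal A)

include hb in
lemma lc_mem (l : ι →₀ k) : Finsupp.linearCombination k b l ∈ maximalIdeal A := by
  rw [← phi_lc]
  exact phi_mem b hb _ (lc_X_mem l)

include hb hB2 in
theorem ker_le : RingHom.ker (phi (k := k) b) ≤ idealOfVars ι k ^ 2 := by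
  intro f hf
  obtain ⟨c₀, l, h⟩ := dec (k := k) f
  have h1 := phi_mem_pow b hb 2 _ h
  rw [map_sub, map_sub, (RingHom.mem_ker).1 hf, phi_lc, phi_C, zero_sub] at h1
  have hlcm := lc_mem b hb l
  have hc : algebraMap k A c₀ ∈ maximalIdeal A := by
    have h2 : -algebraMap k A c₀ - Finsupp.linearCombination k b l ∈ maximalIdeal A :=
      Ideal.pow_le_self two_ne_zero h1
    have h3 := Ideal.add_mem _ h2 hlcm
    rw [sub_add_cancel, neg_mem_iff] at h3
    exact h3
  have hc0 := algebraMap_mem c₀ hc
  subst hc0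
  have hl : Finsupp.linearCombination k b l ∈ maximalIdeal A ^ 2 := by
    rw [map_zero, neg_zero, zero_sub, neg_mem_iff] at h1
    exact h1
  have hl0 := hB2 l hl
  subst hl0
  simpa using h

include hb hB1 hres in
lemma approx (j : ℕ) : ∀ a ∈ maximalIdeal A ^ j, ∃ f : MvPolynomial ι k,
    phi b f ∈ maximalIdeal A ^ j ∧ a - phi b f ∈ maximalIdeal A ^ (j + 1) := by
  induction j with
  | zero =>
    intro a _
    obtain ⟨c, hc⟩ := hres a
    exact ⟨C c, by simp, by simpa using hc⟩
  | succ j ih =>
    intro a ha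
    rw [pow_succ'] at ha
    refine Submodule.mul_induction_on ha ?_ ?_
    · intro u hu v hv
      obtain ⟨l, hl⟩ := hB1 u hu
      obtain ⟨fv, hfv1, hfv2⟩ := ih v hv
      have hlcm := lc_mem b hb l
      refine ⟨Finsupp.linearCombination k (X : ι → MvPolynomial ι k) l * fv, ?_, ?_⟩
      · rw [map_mul, phi_lc, pow_succ']
        exact Ideal.mul_mem_mul hlcm hfv1
      · have e : u * v - phi b (Finsupp.linearCombination k (X : ι → MvPolynomial ι k) l * fv) =
            (u - Finsupp.linearCombination k b l) * v +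
              Finsupp.linearCombination k b l * (v - phi b fv) := by
          rw [map_mul, phi_lc]
          ring
        rw [e]
        apply Ideal.add_mem
        · have h3 := Ideal.mul_mem_mul hl hv
          rw [← pow_add] at h3
          have e2 : 2 + j = j + 1 + 1 := by omega
          rwa [e2] at h3
        · have h3 := Ideal.mul_mem_mul hlcm hfv2
          rwa [← pow_succ'] at h3
    · rintro x y ⟨f, hf1, hf2⟩ ⟨g, hg1, hg2⟩
      refine ⟨f + g, ?_, ?_⟩
      · rw [map_add]
        exact Ideal.add_mem _ hf1 hg1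
      · rw [map_add]
        have := Ideal.add_mem _ hf2 hg2
        convert this using 1
        ring

include hb hB1 hres in
theorem surj (N : ℕ) (hN : maximalIdeal A ^ N = ⊥) : Function.Surjective (phi (k := k) b) := by
  intro a
  have key : ∀ j, ∃ F : MvPolynomial ι k, a - phi b F ∈ maximalIdeal A ^ j := by
    intro j
    induction j with
    | zero => exact ⟨0, by simp⟩
    | succ j ih =>
      obtain ⟨F, hF⟩ := ih
      obtain ⟨f, _, hf⟩ := approx b hb hB1 hres j _ hF
      exact ⟨F + f, by rw [map_add, ← sub_sub]; exact hf⟩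
  obtain ⟨F, hF⟩ := key N
  rw [hN, Ideal.mem_bot] at hF
  exact ⟨F, (sub_eq_zero.1 hF).symm⟩

include hb in
theorem ker_ne (N : ℕ) (hN : maximalIdeal A ^ N = ⊥) (i : ι) :
    RingHom.ker (phi (k := k) b) ≠ idealOfVars ι k * RingHom.ker (phi (k := k) b) := by
  intro h
  have hle : ∀ j, RingHom.ker (phi (k := k) b) ≤ idealOfVars ι k ^ j := by
    intro j
    induction j with
    | zero => simp
    | succ j ih =>
      rw [h, pow_succ']
      exact Ideal.mul_mono_right ih
  have hX : (X i : MvPolynomial ι k) ^ N ∈ RingHom.ker (phi (k := k) b) := by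
    rw [RingHom.mem_ker]
    have hXi : (X i : MvPolynomial ι k) ∈ idealOfVars ι k := Ideal.subset_span ⟨i, rfl⟩
    have := phi_mem_pow b hb N (X i ^ N) (Ideal.pow_mem_pow hXi N)
    rwa [hN, Ideal.mem_bot] at this
  have h2 := hle (N + 1) hX
  rw [X_pow_eq_monomial, monomial_mem_pow_idealOfVars_iff _ _ one_ne_zero,
    Finsupp.degree_single] at h2
  omega

end Pres2

end Groth.Agent.H7.Deform
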