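import Mathlib
import Groth.Prelude.Def_Exal
import Groth.Agent.Lib.Helper7.Deform1

/-! A non-trivial extension of a local Artinian algebra by its residue field. -/

universe u

namespace Groth.Agent.H7.Deform

open IsLocalRing MvPolynomial

variable {k : Type u} [Field k] {A : Type u} [CommRing A] [Algebra k A] [IsLocalRing A]

omit [IsLocalRing A] in
lemma dec0 {ι : Type u} (g : MvPolynomial ι k) : ∃ c : k, g - C c ∈ idealOfVars ι k := by
  obtain ⟨c, l, h⟩ := dec (k := k) g
  refine ⟨c, ?_⟩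
  have h1 : g - C c - Finsupp.linearCombination k (X : ι → MvPolynomial ι k) l ∈ idealOfVars ι k :=
    Ideal.pow_le_self two_ne_zero h
  have := Ideal.add_mem _ h1 (lc_X_mem l)
  rwa [sub_add_cancel] at this

lemma residue_bijective (hres : ∀ a : A, ∃ c : k, a - algebraMap k A c ∈ maximalIdeal A) :
    Function.Bijective (algebraMap k (ResidueField A)) := by
  refine ⟨(algebraMap k (ResidueField A)).injective, ?_⟩
  intro z
  obtain ⟨a, rfl⟩ := IsLocalRing.residue_surjective z
  obtain ⟨c, hc⟩ := hres a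
  refine ⟨c, ?_⟩
  rw [IsScalarTower.algebraMap_apply k A (ResidueField A)]
  have : IsLocalRing.residue A (a - algebraMap k A c) = 0 :=
    (IsLocalRing.residue_eq_zero_iff _).2 hc
  rw [map_sub, sub_eq_zero] at this
  exact this.symm

section Ext

variable {ι : Type u} (b : ι → A) (f₀ : MvPolynomial ι k) (ℓ : MvPolynomial ι k →ₗ[k] k)
  (hℓ : ∀ g ∈ idealOfVars ι k * RingHom.ker (phi (k := k) b), ℓ g = 0)

/-- The ideal `J'` with `m_P J ⊆ J' ⊆ J` and `J / J'` one-dimensional. -/
def J' : Ideal (MvPolynomial ι k) where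
  carrier := {f | f ∈ RingHom.ker (phi (k := k) b) ∧ ℓ f = 0}
  add_mem' := by
    rintro f g ⟨hf, hf0⟩ ⟨hg, hg0⟩
    exact ⟨Ideal.add_mem _ hf hg, by rw [map_add, hf0, hg0, add_zero]⟩
  zero_mem' := ⟨Ideal.zero_mem _, map_zero _⟩
  smul_mem' := by
    rintro g f ⟨hf, hf0⟩
    refine ⟨Ideal.mul_mem_left _ g hf, ?_⟩
    obtain ⟨c, hc⟩ := dec0 (k := k) g
    have e : g • f = c • f + (g - C c) * f := by
      rw [smul_eq_mul, MvPolynomial.smul_eq_C_mul]
      ring
    rw [e, map_add, map_smul, hf0, smul_zero, zero_add]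
    exact hℓ _ (Ideal.mul_mem_mul hc hf)

lemma mem_J' (f : MvPolynomial ι k) :
    f ∈ J' b ℓ hℓ ↔ f ∈ RingHom.ker (phi (k := k) b) ∧ ℓ f = 0 := Iff.rfl

lemma mul_le_J' : idealOfVars ι k * RingHom.ker (phi (k := k) b) ≤ J' b ℓ hℓ := fun g hg =>
  ⟨Ideal.mul_le_right hg, hℓ g hg⟩

variable (hb : ∀ i, b i ∈ maximalIdeal A)
  (hres : ∀ a : A, ∃ c : k, a - algebraMap k A c ∈ maximalIdeal A)
  (hsurj : Function.Surjective (phi (k := k) b))
  (hf₀ : f₀ ∈ RingHom.ker (phi (k := k) b)) (hℓ0 : ℓ f₀ = 1)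

/-- The inverse of `k ≃ κ`. -/
noncomputable def eK : ResidueField A ≃+* k :=
  (RingEquiv.ofBijective (algebraMap k (ResidueField A)) (residue_bijective hres)).symm

lemma eK_algebraMap (c : k) : eK hres (algebraMap k (ResidueField A) c) = c :=
  (RingEquiv.ofBijective (algebraMap k (ResidueField A)) (residue_bijective hres)).symm_apply_apply c

include hb in
lemma eK_residue_phi (g : MvPolynomial ι k) (c : k) (hc : g - C c ∈ idealOfVars ι k) :
    eK hres (IsLocalRing.residue A (phi b g)) = c := by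
  have h1 : phi b (g - C c) ∈ maximalIdeal A := phi_mem b hb _ hc
  rw [map_sub, phi_C] at h1
  have h2 : IsLocalRing.residue A (phi b g - algebraMap k A c) = 0 :=
    (IsLocalRing.residue_eq_zero_iff _).2 h1
  rw [map_sub, sub_eq_zero] at h2
  have h3 : IsLocalRing.residue A (algebraMap k A c) = algebraMap k (ResidueField A) c :=
    (IsScalarTower.algebraMap_apply k A (ResidueField A) c).symm
  rw [h2, h3, eK_algebraMap]

/-- The projection `P ⧸ J' → A`. -/
noncomputable def projE : (MvPolynomial ι k ⧸ J' b ℓ hℓ) →ₐ[k] A :=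
  Ideal.Quotient.liftₐ (J' b ℓ hℓ) (phi (k := k) b) (fun _ hf => hf.1)

@[simp] lemma projE_mk (g : MvPolynomial ι k) :
    projE b ℓ hℓ (Ideal.Quotient.mk (J' b ℓ hℓ) g) = phi b g := rfl

/-- The inclusion `κ → P ⧸ J'`. -/
noncomputable def inclE : ResidueField A →+ (MvPolynomial ι k ⧸ J' b ℓ hℓ) where
  toFun z := Ideal.Quotient.mk (J' b ℓ hℓ) (C (eK hres z) * f₀)
  map_zero' := by rw [map_zero, map_zero, zero_mul, map_zero]
  map_add' x y := by rw [map_add, map_add, add_mul, map_add]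

lemma inclE_apply (z : ResidueField A) :
    inclE b f₀ ℓ hℓ hres z = Ideal.Quotient.mk (J' b ℓ hℓ) (C (eK hres z) * f₀) := rfl

include hb hsurj hf₀ hℓ0 in
theorem isExtension : Exal.IsExtension (projE b ℓ hℓ) (inclE b f₀ ℓ hℓ hres) where
  proj_surjective := by
    intro a
    obtain ⟨g, rfl⟩ := hsurj a
    exact ⟨Ideal.Quotient.mk _ g, rfl⟩
  incl_injective := by
    rw [injective_iff_map_eq_zero]
    intro z hz
    rw [inclE_apply, Ideal.Quotient.eq_zero_iff_mem, mem_J'] at hz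
    have h1 := hz.2
    rw [← MvPolynomial.smul_eq_C_mul, map_smul, hℓ0, smul_eq_mul, mul_one] at h1
    exact (eK hres).map_eq_zero_iff.1 h1
  exact := by
    intro x
    obtain ⟨g, rfl⟩ := Ideal.Quotient.mk_surjective x
    rw [projE_mk]
    constructor
    · intro hg
      refine ⟨algebraMap k (ResidueField A) (ℓ g), ?_⟩
      rw [inclE_apply, eK_algebraMap, eq_comm, Ideal.Quotient.eq, mem_J']
      refine ⟨Ideal.sub_mem _ hg (Ideal.mul_mem_left _ _ hf₀), ?_⟩
      rw [map_sub, ← MvPolynomial.smul_eq_C_mul, map_smul, hℓ0, smul_eq_mul, mul_one, sub_self]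
    · rintro ⟨z, hz⟩
      rw [inclE_apply] at hz
      have h1 : projE b ℓ hℓ (Ideal.Quotient.mk (J' b ℓ hℓ) (C (eK hres z) * f₀)) = 0 := by
        rw [projE_mk, map_mul, (RingHom.mem_ker).1 hf₀, mul_zero]
      rw [hz, projE_mk] at h1
      exact h1
  mul_incl := by
    intro x z
    obtain ⟨g, rfl⟩ := Ideal.Quotient.mk_surjective x
    rw [projE_mk, inclE_apply, inclE_apply, ← map_mul, Ideal.Quotient.eq]
    obtain ⟨c, hc⟩ := dec0 (k := k) g
    have h1 : eK hres (phi b g • z) = c * eK hres z := by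
      rw [Algebra.smul_def, map_mul]
      congr 1
      exact eK_residue_phi b hb hres g c hc
    rw [h1]
    apply mul_le_J' b ℓ hℓ
    have e : g * (C (eK hres z) * f₀) - C (c * eK hres z) * f₀ =
        (g - C c) * (C (eK hres z) * f₀) := by
      rw [map_mul]
      ring
    rw [e]
    exact Ideal.mul_mem_mul hc (Ideal.mul_mem_left _ _ hf₀)

/-- The bundled extension. -/
noncomputable def theExt (hb : ∀ i, b i ∈ maximalIdeal A)
    (hsurj : Function.Surjective (phi (k := k) b))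
    (hf₀ : f₀ ∈ RingHom.ker (phi (k := k) b)) (hℓ0 : ℓ f₀ = 1) :
    Exal.Ext k A (ResidueField A) where
  E := MvPolynomial ι k ⧸ J' b ℓ hℓ
  proj := projE b ℓ hℓ
  incl := inclE b f₀ ℓ hℓ hres
  isExtension := isExtension b f₀ ℓ hℓ hb hres hsurj hf₀ hℓ0

end Ext

end Groth.Agent.H7.Deform
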