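import Mathlib
import Groth.Prelude.Def_Exal
import Groth.Agent.Lib.Helper7.Deform2

/-! Non-triviality of the extension and the final statement. -/

universe u

namespace Groth.Agent.H7.Deform

open IsLocalRing MvPolynomial

variable {k : Type u} [Field k] {A : Type u} [CommRing A] [Algebra k A] [IsLocalRing A]

section NonTriv

variable {ι : Type u} (b : ι → A) (f₀ : MvPolynomial ι k) (ℓ : MvPolynomial ι k →ₗ[k] k)
  (hℓ : ∀ g ∈ idealOfVars ι k * RingHom.ker (phi (k := k) b), ℓ g = 0)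
  (hb : ∀ i, b i ∈ maximalIdeal A)
  (hres : ∀ a : A, ∃ c : k, a - algebraMap k A c ∈ maximalIdeal A)
  (hsurj : Function.Surjective (phi (k := k) b))
  (hf₀ : f₀ ∈ RingHom.ker (phi (k := k) b)) (hℓ0 : ℓ f₀ = 1)
  (hker : RingHom.ker (phi (k := k) b) ≤ idealOfVars ι k ^ 2)

include hker in
theorem not_isTrivial : ¬ (theExt b f₀ ℓ hℓ hres hb hsurj hf₀ hℓ0).IsTrivial := by
  rintro ⟨s, hs⟩
  have hext := isExtension b f₀ ℓ hℓ hb hres hsurj hf₀ hℓ0
  let mkE : MvPolynomial ι k →+* (MvPolynomial ι k ⧸ J' b ℓ hℓ) := Ideal.Quotient.mk (J' b ℓ hℓ)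
  let s' : A →ₐ[k] (MvPolynomial ι k ⧸ J' b ℓ hℓ) := s
  have hs' : ∀ a : A, projE b ℓ hℓ (s' a) = a := hs
  -- elements killed by the projection are annihilated by images of `m_P`
  have hkill1 : ∀ h ∈ idealOfVars ι k, ∀ y : MvPolynomial ι k ⧸ J' b ℓ hℓ,
      projE b ℓ hℓ y = 0 → mkE h * y = 0 := by
    intro h hh y hy
    obtain ⟨z, rfl⟩ := (hext.exact y).1 hy
    rw [hext.mul_incl]
    have : projE b ℓ hℓ (mkE h) • z = 0 := by
      show phi b h • z = 0
      rw [Algebra.smul_def]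
      have : algebraMap A (ResidueField A) (phi b h) = 0 :=
        (IsLocalRing.residue_eq_zero_iff _).2 (phi_mem b hb h hh)
      rw [this, zero_mul]
    rw [this, map_zero]
  have hkill2 : ∀ h ∈ idealOfVars ι k, ∀ y : MvPolynomial ι k ⧸ J' b ℓ hℓ,
      projE b ℓ hℓ y = 0 → s' (phi b h) * y = 0 := by
    intro h hh y hy
    obtain ⟨z, rfl⟩ := (hext.exact y).1 hy
    rw [hext.mul_incl]
    have : projE b ℓ hℓ (s' (phi b h)) • z = 0 := by
      rw [hs']
      rw [Algebra.smul_def]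
      have : algebraMap A (ResidueField A) (phi b h) = 0 :=
        (IsLocalRing.residue_eq_zero_iff _).2 (phi_mem b hb h hh)
      rw [this, zero_mul]
    rw [this, map_zero]
  have hδproj : ∀ g : MvPolynomial ι k, projE b ℓ hℓ (mkE g - s' (phi b g)) = 0 := by
    intro g
    rw [map_sub, hs']
    show phi b g - phi b g = 0
    exact sub_self _
  have hδmul : ∀ g ∈ idealOfVars ι k, ∀ h ∈ idealOfVars ι k,
      mkE (g * h) - s' (phi b (g * h)) = 0 := by
    intro g hg h hh
    have e : mkE (g * h) - s' (phi b (g * h)) =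
        mkE g * (mkE h - s' (phi b h)) + s' (phi b h) * (mkE g - s' (phi b g)) := by
      rw [map_mul, map_mul, map_mul]
      ring
    rw [e, hkill1 g hg _ (hδproj h), hkill2 h hh _ (hδproj g), add_zero]
  have hδ : ∀ f ∈ idealOfVars ι k * idealOfVars ι k, mkE f - s' (phi b f) = 0 := by
    intro f hf
    refine Submodule.mul_induction_on hf (fun g hg h hh => hδmul g hg h hh) ?_
    intro x y hx hy
    have : mkE (x + y) - s' (phi b (x + y)) =
        (mkE x - s' (phi b x)) + (mkE y - s' (phi b y)) := by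
      rw [map_add, map_add, map_add]
      ring
    rw [this, hx, hy, add_zero]
  have h1 := hδ f₀ (by rw [← pow_two]; exact hker hf₀)
  rw [(RingHom.mem_ker).1 hf₀, map_zero, sub_zero] at h1
  have h2 : f₀ ∈ J' b ℓ hℓ := Ideal.Quotient.eq_zero_iff_mem.1 h1
  have h3 := h2.2
  rw [hℓ0] at h3
  exact one_ne_zero h3

end NonTriv

/-- **Main theorem**: a local Artinian `k`-algebra with residue field `k` and non-zero maximal ideal
has a non-trivial extension by its residue field. -/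
theorem exists_not_isTrivial [IsArtinianRing A]
    (hres : ∀ a : A, ∃ c : k, a - algebraMap k A c ∈ maximalIdeal A)
    (hA : maximalIdeal A ≠ ⊥) :
    ∃ X : Exal.Ext k A (ResidueField A), ¬ X.IsTrivial := by
  obtain ⟨N, hN⟩ : ∃ N, maximalIdeal A ^ N = ⊥ := by
    have h := IsArtinianRing.isNilpotent_jacobson_bot (R := A)
    rw [IsLocalRing.jacobson_eq_maximalIdeal ⊥ bot_ne_top] at h
    exact h
  obtain ⟨ι, b, hb, hB1, hB2⟩ := exists_family (k := k) (A := A)
  have hne : Nonempty ι := by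
    by_contra hemp
    rw [not_nonempty_iff] at hemp
    have hle : maximalIdeal A ≤ maximalIdeal A ^ 2 := by
      intro x hx
      obtain ⟨l, hl⟩ := hB1 x hx
      have : l = 0 := Subsingleton.elim _ _
      rw [this, map_zero, sub_zero] at hl
      exact hl
    have hpow : ∀ j, maximalIdeal A ≤ maximalIdeal A ^ (j + 1) := by
      intro j
      induction j with
      | zero => simp
      | succ j ih =>
        calc maximalIdeal A ≤ maximalIdeal A ^ 2 := hle
          _ = maximalIdeal A * maximalIdeal A := pow_two _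
          _ ≤ maximalIdeal A * maximalIdeal A ^ (j + 1) := Ideal.mul_mono_right ih
          _ = maximalIdeal A ^ (j + 1 + 1) := (pow_succ' _ _).symm
    apply hA
    rw [eq_bot_iff]
    calc maximalIdeal A ≤ maximalIdeal A ^ (N + 1) := hpow N
      _ ≤ maximalIdeal A ^ N := Ideal.pow_le_pow_right (Nat.le_succ N)
      _ = ⊥ := hN
  obtain ⟨i⟩ := hne
  have hsurj := surj b hb hB1 hres N hN
  have hker := ker_le (k := k) b hb hB2
  have hne' := ker_ne (k := k) b hb N hN i
  have hlt : idealOfVars ι k * RingHom.ker (phi (k := k) b) < RingHom.ker (phi (k := k) b) :=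
    lt_of_le_of_ne Ideal.mul_le_right (Ne.symm hne')
  obtain ⟨f₀, hf₀, hf₀'⟩ := SetLike.exists_of_lt hlt
  let p : Submodule k (MvPolynomial ι k) :=
    (idealOfVars ι k * RingHom.ker (phi (k := k) b)).restrictScalars k
  have hf₀p : f₀ ∉ p := hf₀'
  obtain ⟨ℓ₀, hℓ₀, hℓ₀'⟩ := Submodule.exists_dual_map_eq_bot_of_notMem hf₀p inferInstance
  let ℓ : MvPolynomial ι k →ₗ[k] k := (ℓ₀ f₀)⁻¹ • ℓ₀
  have hℓ0 : ℓ f₀ = 1 := by
    show (ℓ₀ f₀)⁻¹ • ℓ₀ f₀ = 1
    rw [smul_eq_mul, inv_mul_cancel₀ hℓ₀]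
  have hℓ : ∀ g ∈ idealOfVars ι k * RingHom.ker (phi (k := k) b), ℓ g = 0 := by
    intro g hg
    have h1 : ℓ₀ g ∈ p.map ℓ₀ := Submodule.mem_map_of_mem hg
    rw [hℓ₀', Submodule.mem_bot] at h1
    show (ℓ₀ f₀)⁻¹ • ℓ₀ g = 0
    rw [h1, smul_zero]
  exact ⟨theExt b f₀ ℓ hℓ hres hb hsurj hf₀ hℓ0,
    not_isTrivial b f₀ ℓ hℓ hb hres hsurj hf₀ hℓ0 hker⟩

end Groth.Agent.H7.Deform
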