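import Mathlib.Tactic

/-! Maps of degree two between abelian groups (theorem-of-the-cube type functional equation). -/

set_option autoImplicit false
universe u v

namespace Groth.Agent.H7

variable {A : Type u} {G : Type v} [AddCommGroup A] [AddCommGroup G]

/-- the degree-two condition -/
def DegTwo (f : A → G) : Prop :=
  ∀ x y z : A, f (x + y + z) + f x + f y + f z = f (x + y) + f (x + z) + f (y + z)

theorem DegTwo.map_zero {f : A → G} (hf : DegTwo f) : f 0 = 0 := by
  have h := hf 0 0 0
  simp only [add_zero] at h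
  have : f 0 + f 0 + f 0 + f 0 = f 0 + f 0 + f 0 + 0 := by rw [h]; abel
  exact add_left_cancel this

theorem DegTwo.nsmul_aux {f : A → G} (hf : DegTwo f) (x : A) (m : ℕ) :
    f (m • x) = m • f x + (m.choose 2) • (f (x + x) - f x - f x) ∧
      f (m • x + x) - f (m • x) - f x = m • (f (x + x) - f x - f x) := by
  have f0 := hf.map_zero
  induction m with
  | zero => simp [f0]
  | succ m ih =>
    obtain ⟨ih1, ih2⟩ := ih
    have e1 : f ((m + 1) • x) = (m + 1) • f x + ((m + 1).choose 2) • (f (x + x) - f x - f x) := by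
      have : (m + 1).choose 2 = m + m.choose 2 := by
        rw [Nat.choose_succ_succ' m 1]; simp
      have h2 : f (m • x + x) = f (m • x) + f x + m • (f (x + x) - f x - f x) := by
        rw [← ih2]; abel
      rw [this, succ_nsmul x m, h2, ih1, succ_nsmul (f x) m, add_nsmul]; abel
    refine ⟨e1, ?_⟩
    have h := hf (m • x) x x
    have h3 : f ((m + 1) • x + x) = f (m • x + x + x) := by rw [succ_nsmul]
    rw [h3, succ_nsmul (f (x + x) - f x - f x) m, ← ih2]
    have h4 : (m + 1) • x = m • x + x := succ_nsmul x m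
    rw [h4]
    have h5 : f (m • x + x + x) =
        f (m • x + x) + f (m • x + x) + f (x + x) - f (m • x) - f x - f x := by
      rw [eq_sub_iff_add_eq, eq_sub_iff_add_eq, eq_sub_iff_add_eq, ← h]; abel
    rw [h5]; abel

theorem DegTwo.double {f : A → G} (hf : DegTwo f) (x : A) :
    f (x + x) - f x - f x = f x + f (-x) := by
  have h := hf x x (-x)
  have f0 := hf.map_zero
  rw [add_neg_cancel_right, add_neg_cancel, f0] at h
  rw [sub_sub, sub_eq_iff_eq_add]
  have : f (x + x) = f x + f x + f x + f (-x) := by rw [h]; abel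
  rw [this]; abel

theorem two_mul_choose_two (m : ℕ) : 2 * m.choose 2 = (m - 1) * m := by
  rw [Nat.choose_two_right, mul_comm m (m - 1)]
  exact Nat.mul_div_cancel' (by rw [mul_comm]; exact (Nat.even_mul_pred_self m).two_dvd)

theorem DegTwo.nsmul {f : A → G} (hf : DegTwo f) (x : A) (m : ℕ) :
    f (m • x) = (m + m.choose 2) • f x + (m.choose 2) • f (-x) := by
  rw [(hf.nsmul_aux x m).1, hf.double x, add_nsmul, nsmul_add]; abel

theorem int_tri_pos (m : ℕ) : ((m : ℤ) * ((m : ℤ) + 1)) / 2 = ((m + m.choose 2 : ℕ) : ℤ) := by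
  apply Int.ediv_eq_of_eq_mul_right (by norm_num)
  have h := two_mul_choose_two m
  rcases m with _ | k
  · simp
  · simp only [Nat.add_sub_cancel] at h
    push_cast
    have h' : (2 : ℤ) * ((k + 1).choose 2 : ℕ) = (k : ℤ) * ((k : ℤ) + 1) := by exact_mod_cast h
    linarith

theorem int_tri_neg (m : ℕ) : ((m : ℤ) * ((m : ℤ) - 1)) / 2 = ((m.choose 2 : ℕ) : ℤ) := by
  apply Int.ediv_eq_of_eq_mul_right (by norm_num)
  have h := two_mul_choose_two m
  rcases m with _ | k
  · simp
  · simp only [Nat.add_sub_cancel] at h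
    push_cast
    have h' : (2 : ℤ) * ((k + 1).choose 2 : ℕ) = (k : ℤ) * ((k : ℤ) + 1) := by exact_mod_cast h
    linarith

end Groth.Agent.H7
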