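import Groth.Agent.Lib.Helper3.DescSh.Rep
import Groth.Agent.Lib.Helper5.AlgSp.ZarLocalRep2
import Mathlib

/-!
# The canonical descent datum of a sheaf with representable base changes (helper7)

For a family `fv j : V j ⟶ S` and an fppf sheaf `F` over `S` all of whose base changes
`F ×_S V j` are representable, the representing schemes form a descent datum relative to `fv`.
-/

set_option autoImplicit false
set_option backward.isDefEq.respectTransparency false
set_option backward.isDefEq.respectTransparency.types false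

universe u

open CategoryTheory CategoryTheory.Limits AlgebraicGeometry Opposite

namespace Groth.Agent.H7.DescZar

open _root_.Desc _root_.AlgSp Groth.Agent.H5.Desc Groth.Agent.H5.AlgSp Groth.Agent.H3.DescSh

variable {S : Scheme.{u}} {κ : Type u} {V : κ → Scheme.{u}} (fv : ∀ j, V j ⟶ S) (F : Sp S)

/-- Representing data for the base changes `F ×_S V j`. -/
structure RepData where
  W : κ → Over S
  snd : ∀ j, W j ⟶ Over.mk (fv j)
  fst : ∀ j, (yon S).obj (W j) ⟶ F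
  sq : ∀ j, IsPullback (fst j) ((yon S).map (snd j)) ((ptIsTerminal S).from F)
    ((ptIsTerminal S).from ((yon S).obj (Over.mk (fv j))))

variable {fv F} (R : RepData fv F)

/-- The member over `V j`. -/
abbrev RepData.obj (j : κ) : Over (V j) := Over.mk (R.snd j).left

lemma RepData.lift_w (j : κ) {T : Scheme.{u}} {x : T ⟶ V j} (s : T ⟶ S) (hx : x ≫ fv j = s)
    (z : Lifts (R.obj j) x) : z.1 ≫ (R.W j).hom = (Over.mk s).hom := by
  have h1 : z.1 ≫ (R.snd j).left = x := z.2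
  have h2 : (R.snd j).left ≫ fv j = (R.W j).hom := Over.w (R.snd j)
  change z.1 ≫ (R.W j).hom = s
  rw [← h2, ← Category.assoc, h1, hx]

/-- The section of `F` attached to a lift. -/
noncomputable def Afun (j : κ) {T : Scheme.{u}} (x : T ⟶ V j) (s : T ⟶ S) (hx : x ≫ fv j = s)
    (z : Lifts (R.obj j) x) : (yon S).obj (Over.mk s) ⟶ F :=
  (yon S).map (Over.homMk z.1 (R.lift_w j s hx z) : Over.mk s ⟶ R.W j) ≫ R.fst j

lemma Afun_bijective (j : κ) {T : Scheme.{u}} (x : T ⟶ V j) (s : T ⟶ S) (hx : x ≫ fv j = s) :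
    Function.Bijective (Afun R j x s hx) := by
  constructor
  · intro z z' h
    unfold Afun at h
    have h2 : (yon S).map (Over.homMk z.1 (R.lift_w j s hx z) : Over.mk s ⟶ R.W j) ≫
        (yon S).map (R.snd j) =
        (yon S).map (Over.homMk z'.1 (R.lift_w j s hx z') : Over.mk s ⟶ R.W j) ≫
        (yon S).map (R.snd j) := by
      rw [← Functor.map_comp, ← Functor.map_comp]
      congr 1
      apply Over.OverMorphism.ext
      simp only [Over.comp_left, Over.homMk_left]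
      exact z.2.trans z'.2.symm
    have h3 := (R.sq j).hom_ext h h2
    have h4 := (yon S).map_injective h3
    apply Subtype.ext
    exact congrArg (fun m => m.left) h4
  · intro σ
    let xo : Over.mk s ⟶ Over.mk (fv j) := Over.homMk x hx
    let l := (R.sq j).lift σ ((yon S).map xo) ((ptIsTerminal S).hom_ext _ _)
    let ζ : Over.mk s ⟶ R.W j := (yon S).preimage l
    have hζ : (yon S).map ζ = l := Functor.map_preimage _ _
    have h1 : ζ ≫ R.snd j = xo := by
      apply (yon S).map_injective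
      rw [Functor.map_comp, hζ]
      exact (R.sq j).lift_snd _ _ _
    have h2 : ζ.left ≫ (R.snd j).left = x := congrArg (fun m => m.left) h1
    refine ⟨⟨ζ.left, h2⟩, ?_⟩
    unfold Afun
    have h3 : (Over.homMk ζ.left (R.lift_w j s hx ⟨ζ.left, h2⟩) : Over.mk s ⟶ R.W j) = ζ :=
      Over.OverMorphism.ext rfl
    rw [h3, hζ]
    exact (R.sq j).lift_fst _ _ _

/-- Lifts of `x` to the member over `V j` are sections of `F`. -/
noncomputable def Aeq (j : κ) {T : Scheme.{u}} (x : T ⟶ V j) (s : T ⟶ S) (hx : x ≫ fv j = s) :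
    Lifts (R.obj j) x ≃ ((yon S).obj (Over.mk s) ⟶ F) :=
  Equiv.ofBijective _ (Afun_bijective R j x s hx)

lemma Aeq_apply (j : κ) {T : Scheme.{u}} (x : T ⟶ V j) (s : T ⟶ S) (hx : x ≫ fv j = s)
    (z : Lifts (R.obj j) x) : Aeq R j x s hx z = Afun R j x s hx z := rfl

/-- Naturality of `Aeq`. -/
lemma Aeq_res (j : κ) {T T' : Scheme.{u}} (g : T' ⟶ T) (x : T ⟶ V j) (s : T ⟶ S)
    (hx : x ≫ fv j = s) (hx' : (g ≫ x) ≫ fv j = g ≫ s) (z : Lifts (R.obj j) x) :
    Aeq R j (g ≫ x) (g ≫ s) hx' (Lifts.res g z rfl) =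
      (yon S).map (Over.homMk g rfl : Over.mk (g ≫ s) ⟶ Over.mk s) ≫ Aeq R j x s hx z := by
  rw [Aeq_apply, Aeq_apply]
  unfold Afun
  rw [← Category.assoc, ← Functor.map_comp]
  congr 2

lemma Aeq_symm_res (j : κ) {T T' : Scheme.{u}} (g : T' ⟶ T) (x : T ⟶ V j) (s : T ⟶ S)
    (hx : x ≫ fv j = s) (hx' : (g ≫ x) ≫ fv j = g ≫ s)
    (σ : (yon S).obj (Over.mk s) ⟶ F) :
    (Aeq R j (g ≫ x) (g ≫ s) hx').symm
      ((yon S).map (Over.homMk g rfl : Over.mk (g ≫ s) ⟶ Over.mk s) ≫ σ) =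
      Lifts.res g ((Aeq R j x s hx).symm σ) rfl := by
  rw [Equiv.symm_apply_eq, Aeq_res R j g x s hx hx', Equiv.apply_symm_apply]

/-- **The canonical descent datum of a sheaf with representable base changes.** -/
noncomputable def sheafDD : SchDDFam fv where
  obj j := R.obj j
  φ T j j' x₀ x₁ h := (Aeq R j x₀ (x₀ ≫ fv j) rfl).trans (Aeq R j' x₁ (x₀ ≫ fv j) h.symm).symm
  φ_natural T T' g j j' x₀ x₁ h y₀ y₁ hy₀ hy₁ h' v v' hv' := by
    subst hy₀ hy₁
    have hv : v' = Lifts.res g v rfl := Subtype.ext hv'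
    subst hv
    have e1 : (Aeq R j (g ≫ x₀) ((g ≫ x₀) ≫ fv j) rfl).trans
        (Aeq R j' (g ≫ x₁) ((g ≫ x₀) ≫ fv j) h'.symm).symm =
        (Aeq R j (g ≫ x₀) (g ≫ x₀ ≫ fv j) (Category.assoc _ _ _)).trans
        (Aeq R j' (g ≫ x₁) (g ≫ x₀ ≫ fv j)
          ((Category.assoc _ _ _).trans (congrArg (g ≫ ·) h.symm))).symm := by
      have : ∀ (s : T' ⟶ S) (h0 : (g ≫ x₀) ≫ fv j = s) (h1 : (g ≫ x₁) ≫ fv j' = s),
          (Aeq R j (g ≫ x₀) ((g ≫ x₀) ≫ fv j) rfl).trans
            (Aeq R j' (g ≫ x₁) ((g ≫ x₀) ≫ fv j) h'.symm).symm =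
          (Aeq R j (g ≫ x₀) s h0).trans (Aeq R j' (g ≫ x₁) s h1).symm := by
        intro s h0 h1
        subst h0
        rfl
      exact this _ _ _
    rw [e1]
    simp only [Equiv.trans_apply]
    rw [Aeq_res R j g x₀ (x₀ ≫ fv j) rfl, Aeq_symm_res R j' g x₁ (x₀ ≫ fv j) h.symm]
    rfl
  φ_self T j x v := by
    simp only [Equiv.trans_apply]
    exact Equiv.symm_apply_apply _ _
  φ_comp T j j' j'' x₀ x₁ x₂ h₀₁ h₁₂ v := by
    have : ∀ (s : T ⟶ S) (h1 : x₁ ≫ fv j' = s) (h2 : x₂ ≫ fv j'' = s),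
        (Aeq R j' x₁ (x₁ ≫ fv j') rfl).trans (Aeq R j'' x₂ (x₁ ≫ fv j') h₁₂.symm).symm =
        (Aeq R j' x₁ s h1).trans (Aeq R j'' x₂ s h2).symm := by
      intro s h1 h2
      subst h1
      rfl
    rw [this (x₀ ≫ fv j) h₀₁.symm (h₀₁.trans h₁₂).symm]
    simp only [Equiv.trans_apply, Equiv.apply_symm_apply]

lemma sheafDD_φ {T : Scheme.{u}} {j j' : κ} (x₀ : T ⟶ V j) (x₁ : T ⟶ V j')
    (h : x₀ ≫ fv j = x₁ ≫ fv j') (s : T ⟶ S) (h0 : x₀ ≫ fv j = s) (h1 : x₁ ≫ fv j' = s)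
    (z : Lifts (R.obj j) x₀) :
    (sheafDD R).φ x₀ x₁ h z = (Aeq R j' x₁ s h1).symm (Aeq R j x₀ s h0 z) := by
  subst h0
  rfl

end Groth.Agent.H7.DescZar
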