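import Groth.Agent.Lib.Helper7.DescZar1
import Mathlib

/-!
# Zariski refinements of families induce equivalences of descent data (helper7)
-/

set_option autoImplicit false
set_option backward.isDefEq.respectTransparency false
set_option backward.isDefEq.respectTransparency.types false

universe u

open CategoryTheory CategoryTheory.Limits AlgebraicGeometry Opposite

namespace Groth.Agent.H7.DescZar

open _root_.Desc _root_.AlgSp Groth.Agent.H5.Desc Groth.Agent.H5.AlgSp Groth.Agent.H3.DescSh

variable {S : Scheme.{u}} {κ : Type u} {V : κ → Scheme.{u}} (fv : ∀ j, V j ⟶ S)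
  {ι : Type u} {U : ι → Scheme.{u}} {fu : ∀ i, U i ⟶ S}

/-- One chart: over the image of an open immersion `U i ⟶ V j` over `S`, the base change of the
sheaf of `D'` is represented by `D'.obj i`. -/
lemma exists_chart (D' : SchDDFam fu) (i : ι) (j : κ) (h : U i ⟶ V j) [IsOpenImmersion h]
    (hw : h ≫ fv j = fu i) :
    ∃ (W : Over S) (k : W ⟶ overOpen (Over.mk (fv j)) h.opensRange)
      (fst : (yon S).obj W ⟶ FDSh D'),
      IsPullback fst ((yon S).map k) ((ptIsTerminal S).from (FDSh D'))
        ((yon S).map (overOpenι (Over.mk (fv j)) h.opensRange) ≫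
          (ptIsTerminal S).from ((yon S).obj (Over.mk (fv j)))) := by
  have hw' : h.isoOpensRange.hom ≫ (overOpen (Over.mk (fv j)) h.opensRange).hom =
      (XO fu i).hom := by
    change h.isoOpensRange.hom ≫ h.opensRange.ι ≫ fv j = fu i
    rw [← Category.assoc, Scheme.Hom.isoOpensRange_hom_ι, hw]
  let eO : XO fu i ≅ overOpen (Over.mk (fv j)) h.opensRange := Over.isoMk h.isoOpensRange hw'
  refine ⟨DO D' i, dO D' i ≫ eO.hom, kap D' i, ?_⟩
  refine (isPullback_kap D' i).of_iso (Iso.refl _) (Iso.refl _) ((yon S).mapIso eO) (Iso.refl _)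
    ?_ ?_ ?_ ?_
  · simp
  · simp
  · simp
  · exact (ptIsTerminal S).hom_ext _ _

variable (α : ι → κ) (g : ∀ i, U i ⟶ V (α i)) (w : ∀ i, g i ≫ fv (α i) = fu i)

include w in
lemma gj_w (j : κ) (i' : {i // α i = j}) :
    (g i'.1 ≫ eqToHom (congrArg V i'.2)) ≫ fv j = fu i'.1 := by
  obtain ⟨i, rfl⟩ := i'
  simp only [eqToHom_refl, Category.comp_id]
  exact w i

include w in
/-- **Representability of the base changes of the sheaf of a descent datum relative to a Zariski
refinement.** -/
theorem exists_repData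
    (hcov : ∀ j, Presieve.ofArrows (fun i : {i // α i = j} => U i.1)
      (fun i => g i.1 ≫ eqToHom (congrArg V i.2)) ∈ Scheme.zariskiPrecoverage (V j))
    (D' : SchDDFam fu) : Nonempty (RepData fv (FDSh D')) := by
  have key : ∀ j, ∃ (W : Over S) (snd : W ⟶ Over.mk (fv j)) (fst : (yon S).obj W ⟶ FDSh D'),
      IsPullback fst ((yon S).map snd) ((ptIsTerminal S).from (FDSh D'))
        ((ptIsTerminal S).from ((yon S).obj (Over.mk (fv j)))) := by
    intro j
    obtain ⟨hsurj, himm⟩ := (Scheme.ofArrows_mem_precoverage_iff @IsOpenImmersion).1 (hcov j)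
    haveI : ∀ i' : {i // α i = j}, IsOpenImmersion (g i'.1 ≫ eqToHom (congrArg V i'.2)) := himm
    apply exists_rep_of_openCover (f := (ptIsTerminal S).from (FDSh D')) (T := Over.mk (fv j))
      ((ptIsTerminal S).from ((yon S).obj (Over.mk (fv j))))
      (fun i' : {i // α i = j} => (g i'.1 ≫ eqToHom (congrArg V i'.2)).opensRange)
    · intro t
      obtain ⟨i', hi'⟩ := hsurj t
      exact ⟨i', hi'⟩
    · intro i'
      exact exists_chart fv D' i'.1 j (g i'.1 ≫ eqToHom (congrArg V i'.2)) (gj_w fv α g w j i')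
  choose W snd fst sq using key
  exact ⟨⟨W, snd, fst, sq⟩⟩

end Groth.Agent.H7.DescZar
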