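import Groth.Agent.Lib.Helper7.DescZar2
import Groth.Agent.S9854
import Mathlib

/-!
# Zariski refinements of families induce equivalences of descent data, part 2 (helper7)
-/

set_option autoImplicit false
set_option backward.isDefEq.respectTransparency false
set_option backward.isDefEq.respectTransparency.types false

universe u

open CategoryTheory CategoryTheory.Limits AlgebraicGeometry Opposite

namespace Groth.Agent.H7.DescZar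

open _root_.Desc _root_.AlgSp Groth.Agent.H5.Desc Groth.Agent.H5.AlgSp Groth.Agent.H3.DescSh

section K

variable {S : Scheme.{u}} {ι : Type u} {X : ι → Scheme.{u}} {f : ∀ i, X i ⟶ S}

lemma Kinv_map (D : SchDDFam f) {T T' : Over S} (t : T' ⟶ T) {i : ι} (xb : T.left ⟶ X i)
    (hxb : xb ≫ f i = T.hom) (xb' : T'.left ⟶ X i) (hg : t.left ≫ xb = xb')
    (hxb' : xb' ≫ f i = T'.hom) (a : (toDDFam f).obj T ⟶ D) :
    (Kequiv D T' xb' hxb').symm ((toDDFam f).map t ≫ a) =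
      Lifts.res t.left ((Kequiv D T xb hxb).symm a) hg := by
  rw [Equiv.symm_apply_eq]
  change _ = Kmk D T' xb' hxb' (Lifts.res t.left (Kinv D T xb hxb a) hg)
  rw [← map_Kmk D T xb hxb t _ xb' hg hxb', Kmk_Kinv]

lemma φ_Kinv (D : SchDDFam f) (T : Over S) {i j : ι} (xb : T.left ⟶ X i)
    (hxb : xb ≫ f i = T.hom) (xb₁ : T.left ⟶ X j) (hxb₁ : xb₁ ≫ f j = T.hom)
    (a : (toDDFam f).obj T ⟶ D) :
    D.φ xb xb₁ (hxb.trans hxb₁.symm) ((Kequiv D T xb hxb).symm a) =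
      (Kequiv D T xb₁ hxb₁).symm a := by
  rw [Equiv.eq_symm_apply]
  change Kmk D T xb₁ hxb₁ (D.φ xb xb₁ (hxb.trans hxb₁.symm) (Kinv D T xb hxb a)) = a
  rw [Kmk_φ D T xb hxb xb₁ hxb₁, Kmk_Kinv]

end K

variable {S : Scheme.{u}} {κ : Type u} {V : κ → Scheme.{u}} {fv : ∀ j, V j ⟶ S}
  {ι : Type u} {U : ι → Scheme.{u}} {fu : ∀ i, U i ⟶ S}
  {α : ι → κ} {g : ∀ i, U i ⟶ V (α i)} (w : ∀ i, g i ≫ fv (α i) = fu i ≫ 𝟙 S)
  (D' : SchDDFam fu) (R : RepData fv (FDSh D'))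

lemma Aeq_res' (j : κ) {T T' : Scheme.{u}} (k : T' ⟶ T) (x : T ⟶ V j) (s : T ⟶ S)
    (hx : x ≫ fv j = s) (y : T' ⟶ V j) (hy : k ≫ x = y) (hy' : y ≫ fv j = k ≫ s)
    (z : Lifts (R.obj j) x) :
    Aeq R j y (k ≫ s) hy' (Lifts.res k z hy) =
      (yon S).map (Over.homMk k rfl : Over.mk (k ≫ s) ⟶ Over.mk s) ≫ Aeq R j x s hx z := by
  subst hy
  exact Aeq_res R j k x s hx hy' z

/-- `Aeq` typed for the objects of `sheafDD`. -/
noncomputable def AeqD (j : κ) {T : Scheme.{u}} (x : T ⟶ V j) (s : T ⟶ S) (hx : x ≫ fv j = s) :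
    Lifts ((sheafDD R).obj j) x ≃ ((yon S).obj (Over.mk s) ⟶ FDSh D') :=
  Aeq R j x s hx

lemma AeqD_res' (j : κ) {T T' : Scheme.{u}} (k : T' ⟶ T) (x : T ⟶ V j) (s : T ⟶ S)
    (hx : x ≫ fv j = s) (y : T' ⟶ V j) (hy : k ≫ x = y) (hy' : y ≫ fv j = k ≫ s)
    (z : Lifts ((sheafDD R).obj j) x) :
    AeqD D' R j y (k ≫ s) hy' (Lifts.res k z hy) =
      (yon S).map (Over.homMk k rfl : Over.mk (k ≫ s) ⟶ Over.mk s) ≫ AeqD D' R j x s hx z :=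
  Aeq_res' D' R j k x s hx y hy hy' z

lemma sheafDD_φ' {T : Scheme.{u}} {j j' : κ} (x₀ : T ⟶ V j) (x₁ : T ⟶ V j')
    (h : x₀ ≫ fv j = x₁ ≫ fv j') (s : T ⟶ S) (h0 : x₀ ≫ fv j = s) (h1 : x₁ ≫ fv j' = s)
    (z : Lifts ((sheafDD R).obj j) x₀) :
    (sheafDD R).φ x₀ x₁ h z = (AeqD D' R j' x₁ s h1).symm (AeqD D' R j x₀ s h0 z) :=
  sheafDD_φ R x₀ x₁ h s h0 h1 z

include w in
lemma E_compat (i : ι) {T : Scheme.{u}} (x : T ⟶ U i) (s : T ⟶ S) (hs : x ≫ fu i = s) :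
    (x ≫ g i) ≫ fv (α i) = s := by
  rw [Category.assoc, w, Category.comp_id, hs]

/-- The comparison bijection. -/
noncomputable def Eeq (i : ι) {T : Scheme.{u}} (x : T ⟶ U i) (s : T ⟶ S) (hs : x ≫ fu i = s) :
    Lifts (((pullDDFam w).obj (sheafDD R)).obj i) x ≃ Lifts (D'.obj i) x :=
  (plpe w (sheafDD R) x).trans
    ((AeqD D' R (α i) (x ≫ g i) s (E_compat w i x s hs)).trans
      ((secEquiv D' (Over.mk s)).trans (Kequiv D' (Over.mk s) x hs).symm))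

lemma Eeq_congr (i : ι) {T : Scheme.{u}} (x : T ⟶ U i) (s s' : T ⟶ S) (hs : x ≫ fu i = s)
    (hs' : x ≫ fu i = s') : Eeq w D' R i x s hs = Eeq w D' R i x s' hs' := by
  subst hs
  subst hs'
  rfl

lemma Eeq_nat ⦃T T' : Scheme.{u}⦄ (k : T' ⟶ T) ⦃i : ι⦄ (x : T ⟶ U i) (y : T' ⟶ U i)
    (hy : k ≫ x = y) (v : Lifts (((pullDDFam w).obj (sheafDD R)).obj i) x) :
    (Eeq w D' R i y (y ≫ fu i) rfl (Lifts.res k v hy)).1 =
      k ≫ (Eeq w D' R i x (x ≫ fu i) rfl v).1 := by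
  subst hy
  rw [Eeq_congr w D' R i (k ≫ x) ((k ≫ x) ≫ fu i) (k ≫ x ≫ fu i) rfl (Category.assoc _ _ _)]
  unfold Eeq
  simp only [Equiv.trans_apply]
  rw [plpe_res w (sheafDD R) k x (k ≫ x) rfl v,
    AeqD_res' D' R (α i) k (x ≫ g i) (x ≫ fu i) (E_compat w i x _ rfl),
    secEquiv_map]
  exact congrArg Subtype.val (Kinv_map D'
    (Over.homMk k rfl : Over.mk (k ≫ x ≫ fu i) ⟶ Over.mk (x ≫ fu i)) x rfl (k ≫ x) rfl
    (Category.assoc _ _ _) _)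

lemma Eeq_comm ⦃T : Scheme.{u}⦄ ⦃i j : ι⦄ (x₀ : T ⟶ U i) (x₁ : T ⟶ U j)
    (h : x₀ ≫ fu i = x₁ ≫ fu j) (v : Lifts (((pullDDFam w).obj (sheafDD R)).obj i) x₀) :
    D'.φ x₀ x₁ h (Eeq w D' R i x₀ (x₀ ≫ fu i) rfl v) =
      Eeq w D' R j x₁ (x₁ ≫ fu j) rfl (((pullDDFam w).obj (sheafDD R)).φ x₀ x₁ h v) := by
  rw [Eeq_congr w D' R j x₁ (x₁ ≫ fu j) (x₀ ≫ fu i) rfl h.symm, pull_φ,
    sheafDD_φ' D' R (x₀ ≫ g i) (x₁ ≫ g j) _ (x₀ ≫ fu i) (E_compat w i x₀ _ rfl)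
      (E_compat w j x₁ _ h.symm)]
  unfold Eeq
  simp only [Equiv.trans_apply, Equiv.apply_symm_apply]
  exact φ_Kinv D' (Over.mk (x₀ ≫ fu i)) x₀ rfl x₁ h.symm _

/-- **The pull-back of the canonical descent datum of the sheaf of `D'` is `D'`.** -/
noncomputable def pullSheafDDIso : (pullDDFam w).obj (sheafDD R) ≅ D' :=
  isoMk _ _ (fun _ i x => Eeq w D' R i x (x ≫ fu i) rfl) (Eeq_nat w D' R) (Eeq_comm w D' R)

end Groth.Agent.H7.DescZar
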