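import Groth.Agent.Lib.Helper7.DescZar3
import Mathlib

set_option autoImplicit false
set_option backward.isDefEq.respectTransparency false
set_option backward.isDefEq.respectTransparency.types false

universe u

open CategoryTheory CategoryTheory.Limits AlgebraicGeometry Opposite

namespace Groth.Agent.H7.DescZar

open _root_.Desc _root_.AlgSp Groth.Agent.H5.Desc Groth.Agent.H5.AlgSp Groth.Agent.H3.DescSh

theorem S9855_main {ι κ : Type u} {S : Scheme.{u}} {U : ι → Scheme.{u}} {V : κ → Scheme.{u}}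
    (u : ∀ i, U i ⟶ S) (v : ∀ j, V j ⟶ S) (α : ι → κ) (g : ∀ i, U i ⟶ V (α i)) (w : ∀ i, g i ≫ v (α i) = u i)
    (hcov : ∀ j, Presieve.ofArrows (fun i : {i // α i = j} => U i.1)
      (fun i => g i.1 ≫ eqToHom (congrArg V i.2)) ∈ Scheme.zariskiPrecoverage (V j)) :
    (Desc.pullDDFam (f := v) (f' := u) (α := α) (p := 𝟙 S) (p' := g) (fun i => (w i).trans (Category.comp_id (u i)).symm)).IsEquivalence := by
  obtain ⟨hfull, hfaith⟩ := Groth.Agent.S9854.result u v α g w
    (fun j => Scheme.zariskiPrecoverage_le_fpqcPrecoverage _ (hcov j))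
  haveI := hfull
  haveI := hfaith
  haveI : (Desc.pullDDFam (f := v) (f' := u) (α := α) (p := 𝟙 S) (p' := g)
      (fun i => (w i).trans (Category.comp_id (u i)).symm)).EssSurj := by
    refine ⟨fun D' => ?_⟩
    obtain ⟨R⟩ := exists_repData v α g w hcov D'
    exact ⟨sheafDD R, ⟨pullSheafDDIso _ D' R⟩⟩
  exact {}


theorem S9851_main {ι : Type u} {S : Scheme.{u}} {X : ι → Scheme.{u}} (f : ∀ i, X i ⟶ S) :
    (Desc.SchDDFam.ofSchDD (Sigma.desc f) ⋙
      Desc.pullDDFam (f := fun _ : PUnit.{u + 1} => Sigma.desc f) (f' := f) (α := fun _ => PUnit.unit)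
        (p := 𝟙 S) (p' := fun i => Sigma.ι X i)
        (fun i => (Sigma.ι_desc f i).trans (Category.comp_id (f i)).symm)).IsEquivalence := by
  haveI h1 : (Desc.SchDDFam.ofSchDD.{u, u} (Sigma.desc f)).IsEquivalence :=
    (SchDDFam.oneEquiv.{u, u} (Sigma.desc f)).isEquivalence_inverse
  have hcov : ∀ j : PUnit.{u + 1}, Presieve.ofArrows (fun i : {i : ι // PUnit.unit = j} => X i.1)
      (fun i => Sigma.ι X i.1 ≫ eqToHom (congrArg (fun _ : PUnit.{u + 1} => ∐ X) i.2)) ∈
        Scheme.zariskiPrecoverage (∐ X) := by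
    intro j
    rw [Scheme.ofArrows_mem_precoverage_iff]
    refine ⟨fun x => ?_, fun i => ?_⟩
    · obtain ⟨⟨i, y⟩, rfl⟩ := (sigmaMk X).surjective x
      refine ⟨⟨i, rfl⟩, y, ?_⟩
      rw [sigmaMk_mk]
      simp
    · simp only [eqToHom_refl, Category.comp_id]
      infer_instance
  haveI h2 := S9855_main f (fun _ : PUnit.{u + 1} => Sigma.desc f) (fun _ => PUnit.unit)
    (fun i => Sigma.ι X i) (fun i => Sigma.ι_desc f i) hcov
  infer_instance

end Groth.Agent.H7.DescZar
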