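import Mathlib

/-! Irreducibility of the generic determinant over a domain (helper7). -/

namespace Groth.Agent.H7.DetIrr

open MvPolynomial

/-- the determinant of a matrix with entries in a subalgebra lies in the subalgebra. -/
theorem det_mem_subalgebra {R S m : Type*} [CommRing R] [CommRing S] [Algebra R S]
    [Fintype m] [DecidableEq m] (T : Subalgebra R S) (M : Matrix m m S)
    (h : ∀ i j, M i j ∈ T) : M.det ∈ T := by
  rw [Matrix.det_apply]
  refine Subalgebra.sum_mem _ fun σ _ => ?_
  refine Subalgebra.zsmul_mem _ ?_ _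
  exact Subalgebra.prod_mem _ fun i _ => h _ _

theorem irreducible_det_generic {R : Type*} [CommRing R] [IsDomain R] {σ : Type*} :
    ∀ (n : ℕ) (ι : Fin (n + 1) × Fin (n + 1) → σ), Function.Injective ι →
      Irreducible (Matrix.det
        (Matrix.of fun i j => (MvPolynomial.X (ι (i, j)) : MvPolynomial σ R))) := by
  classical
  intro n
  induction n with
  | zero =>
    intro ι _
    rw [Matrix.det_fin_one, Matrix.of_apply]
    have := irreducible_mul_X_add (R := R) (1 : MvPolynomial σ R) 0 (ι (0, 0)) one_ne_zero
      (by simp) (by simp) isRelPrime_one_left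
    simpa using this
  | succ n ih =>
    intro ι hι
    set A : Matrix (Fin (n + 2)) (Fin (n + 2)) (MvPolynomial σ R) :=
      Matrix.of fun i j => (MvPolynomial.X (ι (i, j)) : MvPolynomial σ R) with hA
    set i0 : σ := ι (0, 0) with hi0
    set f : MvPolynomial σ R := (A.submatrix Fin.succ Fin.succ).det with hf
    set g : MvPolynomial σ R := ∑ j : Fin (n + 1),
      (-1) ^ ((j.succ : Fin (n + 2)) : ℕ) * A 0 j.succ *
        (A.submatrix Fin.succ (j.succ.succAbove)).det with hg
    have hdet : A.det = f * X i0 + g := by
      rw [Matrix.det_succ_row_zero, Fin.sum_univ_succ]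
      simp only [Fin.val_zero, pow_zero, one_mul, Fin.succAbove_zero]
      rw [hf, hg]
      congr 1
      rw [mul_comm]
      rfl
    have hfirr : Irreducible f := by
      have := ih (fun p => ι (p.1.succ, p.2.succ)) (by
        intro p q hpq
        have := hι hpq
        simp only [Prod.mk.injEq, Fin.succ_inj] at this
        exact Prod.ext this.1 this.2)
      exact this
    -- support
    have hsupp_entry : ∀ a b : Fin (n + 2), (a, b) ≠ (0, 0) →
        A a b ∈ supported R {k | k ≠ i0} := by
      intro a b hab
      rw [hA, Matrix.of_apply, X_mem_supported]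
      intro h
      exact hab (hι h)
    have hfs : f ∈ supported R {k | k ≠ i0} := by
      apply det_mem_subalgebra
      intro a b
      exact hsupp_entry _ _ (by simp [Fin.succ_ne_zero])
    have hgs : g ∈ supported R {k | k ≠ i0} := by
      refine Subalgebra.sum_mem _ fun j _ => ?_
      refine Subalgebra.mul_mem _ (Subalgebra.mul_mem _ ?_ ?_) ?_
      · exact Subalgebra.pow_mem _ (Subalgebra.neg_mem _ (Subalgebra.one_mem _)) _
      · exact hsupp_entry _ _ (by simp [Fin.succ_ne_zero])
      · apply det_mem_subalgebra
        intro a b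
        exact hsupp_entry _ _ (by simp [Fin.succ_ne_zero])
    have hif : i0 ∉ f.vars := by
      intro h
      have := (mem_supported.mp hfs) (Finset.mem_coe.mpr h)
      exact this rfl
    have hig : i0 ∉ g.vars := by
      intro h
      have := (mem_supported.mp hgs) (Finset.mem_coe.mpr h)
      exact this rfl
    rw [hdet]
    apply irreducible_mul_X_add f g i0 hfirr.ne_zero hif hig
    rw [hfirr.isRelPrime_iff_not_dvd]
    intro hdvd
    -- evaluate at the swap permutation matrix
    let P : Matrix (Fin (n + 2)) (Fin (n + 2)) R := (Equiv.swap (0 : Fin (n + 2)) 1).permMatrix R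
    let s : σ → R := Function.extend ι (fun p => P p.1 p.2) 0
    have hs : ∀ a b, s (ι (a, b)) = P a b := fun a b => hι.extend_apply _ _ (a, b)
    have hevA : (eval s).mapMatrix A = P := by
      ext a b
      simp [hA, hs]
    have hevdet : eval s A.det = -1 := by
      rw [RingHom.map_det, hevA, Matrix.det_permutation,
        Equiv.Perm.sign_swap (by simp)]
      simp
    have hevf : eval s f = 0 := by
      rw [hf, RingHom.map_det]
      apply Matrix.det_eq_zero_of_row_eq_zero (0 : Fin (n + 1))
      intro j
      simp only [RingHom.mapMatrix_apply, Matrix.map_apply, Matrix.submatrix_apply, hA,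
        Matrix.of_apply, eval_X, hs]
      simp only [P, Equiv.Perm.permMatrix, PEquiv.toMatrix_apply, Equiv.toPEquiv_apply,
        Option.mem_def, Option.some.injEq]
      rw [if_neg]
      have : (Fin.succ (0 : Fin (n + 1)) : Fin (n + 2)) = 1 := rfl
      rw [this, Equiv.swap_apply_right]
      exact (Fin.succ_ne_zero j).symm
    have hevg : eval s g = 0 := by
      obtain ⟨c, hc⟩ := hdvd
      rw [hc, map_mul, hevf, zero_mul]
    rw [hdet, map_add, map_mul, hevf, hevg, zero_mul, zero_add] at hevdet
    exact one_ne_zero (neg_eq_zero.mp hevdet.symm)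

theorem irreducible_det_mvPolynomialX {R : Type*} [CommRing R] [IsDomain R] (n : ℕ) :
    Irreducible (Matrix.mvPolynomialX (Fin (n + 1)) (Fin (n + 1)) R).det :=
  irreducible_det_generic n id Function.injective_id

/-- Over a field, divisors of powers of the generic determinant are constant multiples
of powers of the determinant. -/
theorem eq_C_mul_det_pow {F : Type*} [Field F] (n : ℕ)
    (f g : MvPolynomial (Fin (n + 1) × Fin (n + 1)) F) (N : ℕ)
    (h : f * g = (Matrix.mvPolynomialX (Fin (n + 1)) (Fin (n + 1)) F).det ^ N) :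
    ∃ (c : F) (j : ℕ), c ≠ 0 ∧
      f = C c * (Matrix.mvPolynomialX (Fin (n + 1)) (Fin (n + 1)) F).det ^ j := by
  have hp : Prime (Matrix.mvPolynomialX (Fin (n + 1)) (Fin (n + 1)) F).det :=
    (irreducible_det_mvPolynomialX n).prime
  obtain ⟨j, _, hj⟩ := (dvd_prime_pow hp N).mp ⟨g, h.symm⟩
  obtain ⟨u, hu⟩ := hj.symm
  obtain ⟨r, hr, hur⟩ := MvPolynomial.isUnit_iff_eq_C_of_isReduced.mp u.isUnit
  refine ⟨r, j, hr.ne_zero, ?_⟩
  rw [← hu, hur, mul_comm]

end Groth.Agent.H7.DetIrr
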