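import Groth.Agent.Lib.Helper7.Z1
import Mathlib.GroupTheory.QuotientGroup.Basic

/-! Zeta function: counting effective divisors in a class (helper7). -/

set_option autoImplicit false
set_option linter.unusedSectionVars false

namespace Groth.Agent.H7.Zeta

open FunFld WithZero

variable {k K : Type*} [Field k] [Finite k] [Field K] [Algebra k K]

section count

variable (hK : IsFunctionField k K)

/-- effective divisors linearly equivalent to `C` -/
def Eff (C : Divisor k K) : Set (Divisor k K) :=
  {D | 0 ≤ D ∧ ∃ x : K, x ≠ 0 ∧ D = C + div k x}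

include hK in
lemma card_L (C : Divisor k K) : Nat.card (L C) = Nat.card k ^ ell C := by
  have := finiteDimensional_L hK C
  exact Module.natCard_eq_pow_finrank

include hK in
lemma card_L_ne_zero (C : Divisor k K) :
    Nat.card {x : L C // x ≠ 0} + 1 = Nat.card k ^ ell C := by
  classical
  have hfd := finiteDimensional_L hK C
  have hfin : Finite (L C) := Module.finite_of_finite k
  rw [← card_L hK C]
  have := Nat.card_congr (Equiv.sumCompl (fun x : L C => x ≠ 0))
  rw [Nat.card_sum] at this
  rw [← this]
  congr 1
  have : {x : L C // ¬ x ≠ 0} ≃ Unit :=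
    { toFun := fun _ => ()
      invFun := fun _ => ⟨0, by simp⟩
      left_inv := fun x => Subtype.ext (by have := x.2; push Not at this; exact this.symm)
      right_inv := fun _ => rfl }
  rw [Nat.card_congr this]
  simp

include hK in
/-- The number of effective divisors in the class of `C`. -/
theorem card_eff (C : Divisor k K) :
    Nat.card (Eff C) * (Nat.card k - 1) + 1 = Nat.card k ^ ell C := by
  classical
  rw [← card_L_ne_zero hK C]
  congr 1
  have hrep : ∀ D : Eff C, ∃ x : K, x ≠ 0 ∧ (D : Divisor k K) = C + div k x := fun D => D.2.2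
  choose rep hrep0 hrepD using hrep
  have hrepL : ∀ D : Eff C, rep D ∈ L C := fun D => by
    rw [mem_L_iff_div hK (hrep0 D), ← hrepD D]
    exact D.2.1
  let f : Eff C × kˣ → {x : L C // x ≠ 0} := fun p =>
    ⟨⟨(p.2 : k) • rep p.1, Submodule.smul_mem _ _ (hrepL p.1)⟩, by
      intro h
      have := congrArg Subtype.val h
      simp only [Submodule.coe_zero, smul_eq_zero] at this
      rcases this with h1 | h1
      · exact p.2.ne_zero h1
      · exact hrep0 p.1 h1⟩
  have hdiv : ∀ (c : kˣ) (x : K), x ≠ 0 → div k ((c : k) • x) = div k x := by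
    intro c x hx
    rw [Algebra.smul_def, div_mul hK ((map_ne_zero_iff _ (algebraMap k K).injective).2 c.ne_zero) hx,
      div_algebraMap hK, zero_add]
  have hf : Function.Bijective f := by
    constructor
    · rintro ⟨D, c⟩ ⟨D', c'⟩ h
      have h1 : (c : k) • rep D = (c' : k) • rep D' := congrArg (fun x => ((x : L C) : K))
        (congrArg Subtype.val h)
      have h2 : D = D' := by
        apply Subtype.ext
        rw [hrepD D, hrepD D', ← hdiv c _ (hrep0 D), ← hdiv c' _ (hrep0 D'), h1]
      subst h2
      have h3 : ((c : k) - (c' : k)) • rep D = 0 := by rw [sub_smul, h1, sub_self]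
      rw [smul_eq_zero] at h3
      rcases h3 with h3 | h3
      · have : c = c' := Units.ext (sub_eq_zero.1 h3)
        rw [this]
      · exact absurd h3 (hrep0 D)
    · rintro ⟨⟨x, hxL⟩, hx⟩
      have hx0 : x ≠ 0 := fun h => hx (Subtype.ext h)
      have hD : C + div k x ∈ Eff C :=
        ⟨(mem_L_iff_div hK hx0).1 hxL, x, hx0, rfl⟩
      set D : Eff C := ⟨C + div k x, hD⟩ with hDdef
      have hdd : div k x = div k (rep D) := by
        have := hrepD D
        rw [hDdef] at this
        exact add_left_cancel this
      obtain ⟨c, hc⟩ := exists_smul_eq_of_ord_eq hK hx0 (hrep0 D) (fun P => by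
        rw [← div_apply hK, ← div_apply hK, hdd])
      have hc0 : c ≠ 0 := by
        rintro rfl
        rw [zero_smul] at hc
        exact hx0 hc
      refine ⟨(D, Units.mk0 c hc0), ?_⟩
      apply Subtype.ext
      apply Subtype.ext
      exact hc.symm
  rw [← Nat.card_congr (Equiv.ofBijective f hf), Nat.card_prod, Nat.card_units]

end count

end Groth.Agent.H7.Zeta
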