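import Groth.Agent.Lib.Helper5.FunFld.Gaps
import Groth.Agent.Lib.Helper5.FunFld.Genus0
import Groth.Agent.Lib.Helper7.Z2

/-! Twisted Bombieri bound: the number of rational places fixed by an automorphism acting as a
Frobenius on the constants (helper7). -/

set_option autoImplicit false
set_option linter.unusedSectionVars false

namespace Groth.Agent.H7.RH

open FunFld WithZero

variable {ℓ F : Type*} [Field ℓ] [Field F] [Algebra ℓ F]

section basic

lemma v_sum_eq_of_dominant' {R Γ₀ : Type*} [Ring R] [LinearOrderedCommGroupWithZero Γ₀]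
    (v : Valuation R Γ₀) {ι' : Type*} (s : Finset ι') (f : ι' → R) {i₀ : ι'} (hi₀ : i₀ ∈ s)
    (hne : v (f i₀) ≠ 0) (h : ∀ i ∈ s, i ≠ i₀ → v (f i) < v (f i₀)) :
    v (∑ i ∈ s, f i) = v (f i₀) := by
  classical
  rw [← Finset.add_sum_erase s f hi₀]
  exact Valuation.map_add_eq_of_lt_left _ (Valuation.map_sum_lt v hne
    (fun i hi => h i (Finset.mem_of_mem_erase hi) (Finset.ne_of_mem_erase hi)))

lemma mem_L_single_iff (P₀ : Place ℓ F) (j : ℤ) (x : F) :
    x ∈ L (Finsupp.single P₀ j : Divisor ℓ F) ↔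
      P₀.1 x ≤ exp j ∧ ∀ P : Place ℓ F, P ≠ P₀ → P.1 x ≤ 1 := by
  classical
  constructor
  · intro h
    refine ⟨by simpa using h P₀, fun P hP => ?_⟩
    have := h P
    rwa [Finsupp.single_eq_of_ne hP, exp_zero] at this
  · rintro ⟨h1, h2⟩ P
    by_cases hP : P = P₀
    · subst hP; simpa using h1
    · rw [Finsupp.single_eq_of_ne hP, exp_zero]; exact h2 P hP

lemma mul_mem_L_single {P₀ : Place ℓ F} {a b : ℤ} {x y : F}
    (hx : x ∈ L (Finsupp.single P₀ a : Divisor ℓ F))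
    (hy : y ∈ L (Finsupp.single P₀ b : Divisor ℓ F)) :
    x * y ∈ L (Finsupp.single P₀ (a + b) : Divisor ℓ F) := by
  rw [mem_L_single_iff] at hx hy ⊢
  refine ⟨?_, fun P hP => ?_⟩
  · rw [map_mul, exp_add]; exact mul_le_mul' hx.1 hy.1
  · rw [map_mul]
    calc P.1 x * P.1 y ≤ 1 * 1 := mul_le_mul' (hx.2 P hP) (hy.2 P hP)
      _ = 1 := one_mul 1

lemma pow_mem_L_single {P₀ : Place ℓ F} {a : ℤ} {x : F}
    (hx : x ∈ L (Finsupp.single P₀ a : Divisor ℓ F)) (n : ℕ) :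
    x ^ n ∈ L (Finsupp.single P₀ ((n : ℤ) * a) : Divisor ℓ F) := by
  rw [mem_L_single_iff] at hx ⊢
  refine ⟨?_, fun P hP => ?_⟩
  · rw [map_pow, ← nsmul_eq_mul, exp_nsmul]; exact pow_le_pow_left' hx.1 n
  · rw [map_pow]; exact pow_le_one' (hx.2 P hP) n

/-- the place `x ↦ P (τ x)` -/
def compPlace (P : Place ℓ F) (τ : F ≃+* F)
    (hτ : ∀ c : ℓ, ∃ c' : ℓ, τ (algebraMap ℓ F c) = algebraMap ℓ F c') : Place ℓ F :=
  ⟨P.1.comap (τ : F →+* F), by
    constructor
    · intro c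
      obtain ⟨c', hc'⟩ := hτ c
      rw [Valuation.comap_apply]
      change P.1 (τ (algebraMap ℓ F c)) ≤ 1
      rw [hc']
      exact P.v_algebraMap_le c'
    · intro γ
      obtain ⟨y, hy⟩ := P.surj γ
      refine ⟨τ.symm y, ?_⟩
      rw [Valuation.comap_apply]
      change P.1 (τ (τ.symm y)) = γ
      rw [RingEquiv.apply_symm_apply, hy]⟩

@[simp] lemma compPlace_apply (P : Place ℓ F) (τ : F ≃+* F)
    (hτ : ∀ c : ℓ, ∃ c' : ℓ, τ (algebraMap ℓ F c) = algebraMap ℓ F c') (x : F) :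
    (compPlace P τ hτ).1 x = P.1 (τ x) := rfl

/-- an automorphism fixing `P₀` preserves `L(j P₀)` -/
lemma map_mem_L_single {P₀ : Place ℓ F} (τ : F ≃+* F)
    (hτ : ∀ c : ℓ, ∃ c' : ℓ, τ (algebraMap ℓ F c) = algebraMap ℓ F c')
    (hfix : ∀ x, P₀.1 (τ x) = P₀.1 x) {j : ℤ} {z : F}
    (hz : z ∈ L (Finsupp.single P₀ j : Divisor ℓ F)) :
    τ z ∈ L (Finsupp.single P₀ j : Divisor ℓ F) := by
  rw [mem_L_single_iff] at hz ⊢
  refine ⟨by rw [hfix]; exact hz.1, fun P hP => ?_⟩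
  have hne : compPlace P τ hτ ≠ P₀ := by
    intro heq
    apply hP
    apply Place.ext'
    intro x
    have h1 : (compPlace P τ hτ).1 (τ.symm x) = P₀.1 (τ.symm x) := by rw [heq]
    rw [compPlace_apply, RingEquiv.apply_symm_apply] at h1
    rw [h1, ← hfix, RingEquiv.apply_symm_apply]
  have := hz.2 _ hne
  rwa [compPlace_apply] at this

end basic

section frob

variable (q₀ : ℕ) (hadd : ∀ x y : F, (x + y) ^ q₀ = x ^ q₀ + y ^ q₀)

include hadd in
lemma sub_pow_of_add (x y : F) : (x - y) ^ q₀ = x ^ q₀ - y ^ q₀ := by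
  have := hadd (x - y) y
  rw [sub_add_cancel] at this
  rw [this, add_sub_cancel_right]

include hadd in
lemma sum_pow_of_add (hq₀ : q₀ ≠ 0) {ι : Type*} (s : Finset ι) (f : ι → F) :
    (∑ i ∈ s, f i) ^ q₀ = ∑ i ∈ s, f i ^ q₀ := by
  classical
  induction s using Finset.induction_on with
  | empty => simp [hq₀]
  | insert a s ha ih => rw [Finset.sum_insert ha, Finset.sum_insert ha, hadd, ih]

include hadd in
lemma add_pow_sq (x y : F) : (x + y) ^ (q₀ * q₀) = x ^ (q₀ * q₀) + y ^ (q₀ * q₀) := by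
  rw [pow_mul, hadd, hadd, ← pow_mul, ← pow_mul]

include hadd in
lemma sub_pow_sq (x y : F) : (x - y) ^ (q₀ * q₀) = x ^ (q₀ * q₀) - y ^ (q₀ * q₀) :=
  sub_pow_of_add (q₀ * q₀) (add_pow_sq q₀ hadd) x y

include hadd in
/-- at a rational place fixed by `τ`, `w ^ Q - τ w` vanishes for integral `w` -/
lemma v_pow_sub_map_lt (hq₀ : q₀ ≠ 0) (τ : F ≃+* F)
    (hτ : ∀ c : ℓ, τ (algebraMap ℓ F c) = algebraMap ℓ F (c ^ (q₀ * q₀)))
    (P : Place ℓ F) (hP : P.deg = 1) (hfix : ∀ x, P.1 (τ x) = P.1 x) {w : F} (hw : P.1 w ≤ 1) :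
    P.1 (w ^ (q₀ * q₀) - τ w) < 1 := by
  obtain ⟨c, hc⟩ := P.exists_const_sub_lt hP hw
  set t := w - algebraMap ℓ F c with ht
  have hw' : w = algebraMap ℓ F c + t := by rw [ht]; ring
  have h1 : w ^ (q₀ * q₀) - τ w = t ^ (q₀ * q₀) - τ t := by
    conv_lhs => rw [hw', add_pow_sq q₀ hadd, map_add, hτ, map_pow]
    ring
  rw [h1]
  refine lt_of_le_of_lt (Valuation.map_sub _ _ _) (max_lt ?_ (by rw [hfix]; exact hc))
  rw [map_pow]
  exact pow_lt_one' hc (Nat.mul_ne_zero hq₀ hq₀)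

end frob

section nongap

variable (hF : IsFunctionField ℓ F)

include hF in
/-- a family of functions with distinct pole orders at a rational place -/
theorem exists_nongap_family (P₀ : Place ℓ F) (hP₀ : P₀.deg = 1) (m : ℕ) :
    ∃ (J : Finset ℕ) (u : ℕ → F), (∀ j ∈ J, j ≤ m) ∧ m + 1 ≤ J.card + genus ℓ F ∧
      ∀ j ∈ J, u j ∈ L (Finsupp.single P₀ (j : ℤ) : Divisor ℓ F) ∧ P₀.1 (u j) = exp (j : ℤ) := by
  classical
  set J : Finset ℕ := insert 0 ((Finset.Icc 1 m).filter (fun j : ℕ => ¬ IsGap P₀ (j : ℤ))) with hJ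
  have hex : ∀ j : ℕ, ∃ u : F, j ∈ J →
      (u ∈ L (Finsupp.single P₀ (j : ℤ) : Divisor ℓ F) ∧ P₀.1 (u) = exp (j : ℤ)) := by
    intro j
    rcases Nat.eq_zero_or_pos j with rfl | hj
    · refine ⟨1, fun _ => ⟨?_, by simp⟩⟩
      rw [mem_L_single_iff]
      refine ⟨by simp, fun P _ => by simp⟩
    · by_cases hg : IsGap P₀ (j : ℤ)
      · refine ⟨0, fun hjJ => ?_⟩
        exfalso
        rw [hJ, Finset.mem_insert, Finset.mem_filter] at hjJ
        rcases hjJ with h | h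
        · omega
        · exact h.2 hg
      · obtain ⟨x, hx, hv⟩ := (not_isGap_iff P₀ (j : ℤ)).1 hg
        exact ⟨x, fun _ => ⟨hx, hv⟩⟩
  choose u hu using hex
  refine ⟨J, u, ?_, ?_, fun j hj => hu j hj⟩
  · intro j hj
    rw [hJ, Finset.mem_insert, Finset.mem_filter, Finset.mem_Icc] at hj
    rcases hj with h | h
    · omega
    · exact h.1.2
  · have h0 : (0 : ℕ) ∉ (Finset.Icc 1 m).filter (fun j : ℕ => ¬ IsGap P₀ (j : ℤ)) := by
      simp
    rw [hJ, Finset.card_insert_of_notMem h0]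
    have hsplit := Finset.card_filter_add_card_filter_not (s := Finset.Icc 1 m)
      (fun j : ℕ => IsGap P₀ (j : ℤ))
    rw [Nat.card_Icc] at hsplit
    have hgc : gapCount P₀ m ≤ genus ℓ F := by
      have h1 := gapCount_mono P₀ (le_max_left m (2 * genus ℓ F))
      have h2 := gapCount_eq_genus hF P₀ hP₀ (N := max m (2 * genus ℓ F)) (by
        have : 2 * genus ℓ F ≤ max m (2 * genus ℓ F) := le_max_right _ _
        have : (2 * (genus ℓ F : ℤ)) ≤ (max m (2 * genus ℓ F) : ℕ) := by exact_mod_cast this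
        omega)
      omega
    have hgc' : gapCount P₀ m =
        ((Finset.Icc 1 m).filter (fun j : ℕ => IsGap P₀ (j : ℤ))).card := by
      unfold gapCount
      congr 1
    omega

end nongap

end Groth.Agent.H7.RH
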