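import Groth.Agent.Lib.Helper7.HD1
import Groth.Agent.Lib.Helper7.RHB

/-! The different exponent of a totally ramified place via the derivative of the minimal
polynomial of a local parameter (helper7). -/

set_option autoImplicit false
set_option linter.unusedSectionVars false

universe u v w

namespace Groth.Agent.H7.DiffMin

open FunFld LocRes WithZero LaurentSeries HahnSeries Polynomial Groth.Agent.H7.RH

section val

/-- in a vanishing sum the largest valuation is attained twice -/
lemma exists_ne_eq_of_sum_eq_zero {R Γ₀ : Type*} [Ring R] [LinearOrderedCommGroupWithZero Γ₀]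
    (v : Valuation R Γ₀) {ι' : Type*} (s : Finset ι') (f : ι' → R) (hsum : ∑ i ∈ s, f i = 0)
    {i₀ : ι'} (hi₀ : i₀ ∈ s) (hne : v (f i₀) ≠ 0) (hmax : ∀ i ∈ s, v (f i) ≤ v (f i₀)) :
    ∃ j ∈ s, j ≠ i₀ ∧ v (f j) = v (f i₀) := by
  by_contra hcon
  push Not at hcon
  have h := v_sum_eq_of_dominant' v s f hi₀ hne
    (fun i hi hii => lt_of_le_of_ne (hmax i hi) (hcon i hi hii))
  rw [hsum, map_zero] at h
  exact hne h.symm

end val

section eisenstein

variable {k : Type u} {K K' : Type v} [Field k] [Field K] [Field K'] [Algebra k K] [Algebra K K']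
  [Algebra k K'] [IsScalarTower k K K'] [FiniteDimensional K K']

/-- the valuation of a term `c sⁱ` -/
lemma v_term {P : Place k K} {Q : Place k K'} {n : ℕ} (he : IsOverWith Q P n) {s : K'}
    (hs : Q.1 s = exp (-1 : ℤ)) (c : K) (i : ℕ) :
    Q.1 (algebraMap K K' c * s ^ i) = P.1 c ^ n * exp (-(i : ℤ)) := by
  rw [map_mul, map_pow, he c, hs, ← exp_nsmul]
  congr 2
  simp

/-- the minimal polynomial of a local parameter at a totally ramified place is Eisenstein -/
theorem eisenstein {P : Place k K} {Q : Place k K'} {n : ℕ} (hn : n = Module.finrank K K')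
    (he : IsOverWith Q P n) {s : K'} (hs : Q.1 s = exp (-1 : ℤ)) :
    (minpoly K s).natDegree = n ∧ P.1 ((minpoly K s).coeff 0) = exp (-1 : ℤ) ∧
      ∀ i, i < n → P.1 ((minpoly K s).coeff i) < 1 := by
  classical
  have hn0 : 0 < n := by rw [hn]; exact Module.finrank_pos
  have hint : IsIntegral K s := Algebra.IsIntegral.isIntegral s
  set f := minpoly K s with hf
  have hmon : f.Monic := minpoly.monic hint
  set d := f.natDegree with hd
  have hdn : d ≤ n := by rw [hn]; exact minpoly.natDegree_le s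
  have hs0 : s ≠ 0 := by
    rintro rfl
    rw [map_zero] at hs
    exact exp_ne_zero hs.symm
  -- the terms
  set t : ℕ → K' := fun i => algebraMap K K' (f.coeff i) * s ^ i with ht
  have hsum : ∑ i ∈ Finset.range (d + 1), t i = 0 := by
    have := minpoly.aeval K s
    rw [aeval_eq_sum_range] at this
    simp only [ht]
    rw [← this]
    refine Finset.sum_congr rfl (fun i _ => ?_)
    rw [Algebra.smul_def]
  have hvt : ∀ i, Q.1 (t i) = P.1 (f.coeff i) ^ n * exp (-(i : ℤ)) := fun i => v_term he hs _ i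
  have htd : t d = s ^ d := by
    simp only [ht]
    rw [hd, ← Polynomial.leadingCoeff, hmon.leadingCoeff, map_one, one_mul]
  have htd0 : Q.1 (t d) ≠ 0 := by
    rw [htd, Ne, Valuation.zero_iff]
    exact pow_ne_zero _ hs0
  -- an index of maximal valuation
  obtain ⟨i₀, hi₀, hmax⟩ := Finset.exists_max_image (Finset.range (d + 1)) (fun i => Q.1 (t i))
    ⟨d, Finset.mem_range.2 (Nat.lt_succ_self d)⟩
  have hne : Q.1 (t i₀) ≠ 0 := by
    intro h0
    have := hmax d (Finset.mem_range.2 (Nat.lt_succ_self d))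
    rw [h0] at this
    exact htd0 (le_antisymm this zero_le')
  obtain ⟨j, hj, hji, hjv⟩ := exists_ne_eq_of_sum_eq_zero Q.1 _ t hsum hi₀ hne hmax
  -- congruence of the indices
  have hcong : ∀ a b : ℕ, Q.1 (t a) = Q.1 (t b) → Q.1 (t b) ≠ 0 →
      ((a : ℤ) - b) % n = 0 := by
    intro a b hab hb0
    have ha0 : Q.1 (t a) ≠ 0 := by rw [hab]; exact hb0
    have hca : f.coeff a ≠ 0 := by
      intro h
      apply ha0
      simp only [ht]
      rw [h, map_zero, zero_mul, map_zero]
    have hcb : f.coeff b ≠ 0 := by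
      intro h
      apply hb0
      simp only [ht]
      rw [h, map_zero, zero_mul, map_zero]
    rw [hvt, hvt, P.v_eq_exp_neg_ord hca, P.v_eq_exp_neg_ord hcb, ← exp_nsmul, ← exp_nsmul,
      ← exp_add, ← exp_add, exp_inj] at hab
    simp only [smul_neg, nsmul_eq_mul] at hab
    have : (a : ℤ) - b = n * (P.ord (f.coeff b) - P.ord (f.coeff a)) := by linarith
    rw [this]
    exact Int.mul_emod_right _ _
  have hj' := Finset.mem_range.1 hj
  have hi₀' := Finset.mem_range.1 hi₀
  have hc1 := hcong j i₀ hjv hne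
  have hdiv : (n : ℤ) ∣ (j : ℤ) - i₀ := Int.dvd_of_emod_eq_zero hc1
  -- so {i₀, j} = {0, n} and d = n
  have hdn' : d = n ∧ ((i₀ = 0 ∧ j = n) ∨ (i₀ = n ∧ j = 0)) := by
    obtain ⟨c, hc⟩ := hdiv
    have hjne : (j : ℤ) ≠ i₀ := by exact_mod_cast hji
    have hc0 : c ≠ 0 := by
      rintro rfl
      apply hjne
      linarith
    have h1 : (j : ℤ) < n + 1 := by exact_mod_cast lt_of_lt_of_le hj' (Nat.succ_le_succ hdn)
    have h2 : (i₀ : ℤ) < n + 1 := by exact_mod_cast lt_of_lt_of_le hi₀' (Nat.succ_le_succ hdn)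
    have h3 : (0 : ℤ) ≤ j := Int.natCast_nonneg _
    have h4 : (0 : ℤ) ≤ i₀ := Int.natCast_nonneg _
    have hn' : (0 : ℤ) < n := by exact_mod_cast hn0
    rcases lt_or_gt_of_ne hc0 with hneg | hpos
    · have hc' : c ≤ -1 := by omega
      have : (n : ℤ) * c ≤ -n := by nlinarith
      have hi : (i₀ : ℤ) = n := by omega
      have hjj : (j : ℤ) = 0 := by omega
      have hi_nat : i₀ = n := by exact_mod_cast hi
      refine ⟨le_antisymm hdn (by omega), Or.inr ⟨hi_nat, by exact_mod_cast hjj⟩⟩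
    · have hc' : 1 ≤ c := by omega
      have : (n : ℤ) ≤ n * c := by nlinarith
      have hjj : (j : ℤ) = n := by omega
      have hi : (i₀ : ℤ) = 0 := by omega
      have hj_nat : j = n := by exact_mod_cast hjj
      refine ⟨le_antisymm hdn (by omega), Or.inl ⟨by exact_mod_cast hi, hj_nat⟩⟩
  obtain ⟨hdeq, hcases⟩ := hdn'
  -- the maximal valuation is `exp (-n)`, attained at `0`
  have hvn : Q.1 (t n) = exp (-(n : ℤ)) := by
    rw [← hdeq, htd, map_pow, hs, ← exp_nsmul]
    congr 1
    simp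
  have hv0 : Q.1 (t 0) = exp (-(n : ℤ)) := by
    rcases hcases with ⟨h1, h2⟩ | ⟨h1, h2⟩
    · rw [← h1, ← hjv, h2, hvn]
    · rw [← h2, hjv, h1, hvn]
  have hmaxv : ∀ i ∈ Finset.range (d + 1), Q.1 (t i) ≤ exp (-(n : ℤ)) := by
    intro i hi
    have := hmax i hi
    rcases hcases with ⟨h1, _⟩ | ⟨h1, _⟩
    · rwa [h1, hv0] at this
    · rwa [h1, hvn] at this
  refine ⟨hdeq, ?_, ?_⟩
  · -- `P (coeff 0) ^ n = exp (-n)`
    rw [hvt] at hv0
    simp only [Nat.cast_zero, neg_zero, exp_zero, mul_one] at hv0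
    have hc0 : f.coeff 0 ≠ 0 := by
      intro h
      rw [h, map_zero, zero_pow hn0.ne'] at hv0
      exact exp_ne_zero hv0.symm
    rw [P.v_eq_exp_neg_ord hc0, ← exp_nsmul, exp_inj] at hv0
    simp only [smul_neg, nsmul_eq_mul, neg_inj] at hv0
    have hn' : (n : ℤ) ≠ 0 := by exact_mod_cast hn0.ne'
    have : P.ord (f.coeff 0) = 1 := by
      have h5 : (n : ℤ) * P.ord (f.coeff 0) = n * 1 := by rw [hv0, mul_one]
      exact mul_left_cancel₀ hn' h5
    rw [P.v_eq_exp_neg_ord hc0, this]
  · intro i hi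
    by_contra hge
    rw [not_lt] at hge
    have hi' : i ∈ Finset.range (d + 1) := Finset.mem_range.2 (by omega)
    have h5 := hmaxv i hi'
    rw [hvt] at h5
    have h6 : exp (-(i : ℤ)) ≤ P.1 (f.coeff i) ^ n * exp (-(i : ℤ)) := by
      calc exp (-(i : ℤ)) = 1 * exp (-(i : ℤ)) := (one_mul _).symm
        _ ≤ P.1 (f.coeff i) ^ n * exp (-(i : ℤ)) :=
          mul_le_mul' (one_le_pow_of_one_le' hge n) le_rfl
    have h7 := h6.trans h5
    rw [exp_le_exp] at h7
    omega

end eisenstein

section deriv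

variable {k : Type*} {K K' M : Type*} [CommRing k] [Field K] [Field K'] [Algebra k K]
  [Algebra K K'] [Algebra k K'] [IsScalarTower k K K'] [AddCommGroup M] [Module K' M] [Module k M]
  [IsScalarTower k K' M]

/-- Leibniz rule for a polynomial expression with nonconstant coefficients -/
theorem derivation_aeval (δ : Derivation k K' M) (s : K') (g : K[X]) :
    δ (aeval s g) = aeval s (derivative g) • δ s +
      g.sum (fun i c => s ^ i • δ (algebraMap K K' c)) := by
  induction g using Polynomial.induction_on' with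
  | add p q hp hq =>
    rw [map_add, map_add, hp, hq, derivative_add, map_add, add_smul,
      Polynomial.sum_add_index p q _ (fun i => by rw [map_zero, map_zero, smul_zero])
        (fun i a b => by rw [map_add, map_add, smul_add])]
    abel
  | monomial n a =>
    rw [Polynomial.sum_monomial_index _ _ (by rw [map_zero, map_zero, smul_zero]),
      derivative_monomial, aeval_monomial, aeval_monomial, Derivation.leibniz,
      Derivation.leibniz_pow, map_mul, map_natCast]
    congr 1
    rw [mul_smul, mul_smul, Nat.cast_smul_eq_nsmul K']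

end deriv

section main

variable {k : Type u} {K K' : Type v} [Field k] [Field K] [Field K'] [Algebra k K] [Algebra K K']
  [Algebra k K'] [IsScalarTower k K K'] [FiniteDimensional K K']
variable {F F' : Type w} [Field F] [Algebra k F] [Field F'] [Algebra k F']

/-- **S12573** -/
theorem ord_derivative_minpoly (hK : IsFunctionField k K) (hg : IsGeometric k K)
    {P : Place k K} {Q : Place k K'} {e : ℕ} (he : IsOverWith Q P e)
    {φ : K →ₐ[k] F⸨X⸩} (hφ : IsExpansionAt P.1 φ) {ψ : K' →ₐ[k] F'⸨X⸩}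
    (hψ : IsExpansionAt Q.1 ψ) {x : K} (hx : vDiff φ 1 x ≠ 0)
    (hx' : vDiff ψ 1 (algebraMap K K' x) ≠ 0) (hn : e = Module.finrank K K') {s : K'}
    (hs : Q.1 s = exp (-1 : ℤ)) :
    Q.ord (aeval s (derivative (minpoly K s))) = diffExp φ ψ e x := by
  classical
  obtain ⟨hdeg, hc0, hci⟩ := eisenstein hn he hs
  have he0 : 0 < e := by rw [hn]; exact Module.finrank_pos
  set f := minpoly K s with hf
  have hmon : f.Monic := minpoly.monic (Algebra.IsIntegral.isIntegral s)
  have hs0 : s ≠ 0 := by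
    rintro rfl
    rw [map_zero] at hs
    exact exp_ne_zero hs.symm
  have hDx : KaehlerDifferential.D k K x ≠ 0 := by
    apply Geom.D_ne_zero_of_expansion φ
    rw [Geom.vDiff_one] at hx
    intro h0
    rw [h0, map_zero] at hx
    exact hx rfl
  -- the coefficients of the differentials
  choose ρ hρ using fun c : K => Geom.exists_D_eq_smul hK hg hDx c
  have hρφ : ∀ c : K, Valued.v (LocRes.D F (φ c)) = P.1 (ρ c) * vDiff φ 1 x := by
    intro c
    rw [Geom.D_expansion_eq φ (hρ c), map_mul, hφ.1, Geom.vDiff_one]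
  have hρψ : ∀ c : K, LocRes.D F' (ψ (algebraMap K K' c)) =
      ψ (algebraMap K K' (ρ c)) * LocRes.D F' (ψ (algebraMap K K' x)) := fun c =>
    Geom.D_expansion_eq ψ (Geom.D_map_eq (hρ c))
  -- apply the derivation to `f(s) = 0`
  letI := ψ.toRingHom.toAlgebra
  haveI : IsScalarTower k K' F'⸨X⸩ := isScalarTower_exp ψ
  have hder := derivation_aeval (dExp ψ) s f
  rw [minpoly.aeval, map_zero] at hder
  have hsumrange : f.sum (fun i c => s ^ i • (dExp ψ) (algebraMap K K' c)) =
      ψ (∑ i ∈ Finset.range (e + 1), algebraMap K K' (ρ (f.coeff i)) * s ^ i) *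
        LocRes.D F' (ψ (algebraMap K K' x)) := by
    rw [Polynomial.sum_over_range' _ (fun i => by rw [map_zero, map_zero, smul_zero]) (e + 1)
      (by rw [hdeg]; exact Nat.lt_succ_self e), map_sum, Finset.sum_mul]
    refine Finset.sum_congr rfl (fun i _ => ?_)
    change ψ (s ^ i) * LocRes.D F' (ψ (algebraMap K K' (f.coeff i))) = _
    rw [hρψ, map_mul]
    ring
  rw [hsumrange] at hder
  have hder' : ψ (aeval s (derivative f)) * LocRes.D F' (ψ s) =
      -(ψ (∑ i ∈ Finset.range (e + 1), algebraMap K K' (ρ (f.coeff i)) * s ^ i) *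
        LocRes.D F' (ψ (algebraMap K K' x))) := by
    have : aeval s (derivative f) • (dExp ψ) s = ψ (aeval s (derivative f)) * LocRes.D F' (ψ s) :=
      rfl
    rw [this] at hder
    exact eq_neg_of_add_eq_zero_left hder.symm
  -- valuations
  have hvDs : Valued.v (LocRes.D F' (ψ s)) = 1 := by
    have hord : Q.ord s = 1 := by rw [Q.ord_eq_of_v_eq hs]; simp
    have := HD.vD_of_ord hψ hs0 (by rw [hord]; simp)
    rw [this, hord, sub_self, neg_zero, exp_zero]
  have hρ0 : P.1 (ρ (f.coeff 0)) * vDiff φ 1 x = 1 := by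
    rw [← hρφ]
    have hcne : f.coeff 0 ≠ 0 := by
      intro h
      rw [h, map_zero] at hc0
      exact exp_ne_zero hc0.symm
    have hord : P.ord (f.coeff 0) = 1 := by rw [P.ord_eq_of_v_eq hc0]; simp
    have := HD.vD_of_ord hφ hcne (by rw [hord]; simp)
    rw [this, hord, sub_self, neg_zero, exp_zero]
  have hρ0ne : P.1 (ρ (f.coeff 0)) ≠ 0 := by
    intro h
    rw [h, zero_mul] at hρ0
    exact zero_ne_one hρ0
  have hρi : ∀ i, i < e → P.1 (ρ (f.coeff i)) ≤ P.1 (ρ (f.coeff 0)) := by
    intro i hi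
    have h1 : P.1 (ρ (f.coeff i)) * vDiff φ 1 x ≤ 1 := by
      rw [← hρφ]
      exact HD.vD_le_one hφ (hci i hi).le
    have h1' : P.1 (ρ (f.coeff i)) * vDiff φ 1 x ≤ P.1 (ρ (f.coeff 0)) * vDiff φ 1 x :=
      h1.trans_eq hρ0.symm
    exact le_of_mul_le_mul_right h1' (zero_lt_iff.2 hx)
  have hρe : ρ (f.coeff e) = 0 := by
    have h1 : f.coeff e = 1 := by rw [← hdeg]; exact hmon.coeff_natDegree
    have h2 := hρφ (f.coeff e)
    rw [h1, map_one] at h2
    have h3 : LocRes.D F' (1 : F'⸨X⸩) = 0 := Derivation.map_one_eq_zero _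
    have h4 : LocRes.D F (1 : F⸨X⸩) = 0 := Derivation.map_one_eq_zero _
    rw [h4, map_zero] at h2
    have h5 := (mul_eq_zero.1 h2.symm).resolve_right hx
    rw [h1]
    exact (Valuation.zero_iff _).1 h5
  have hdom : Q.1 (∑ i ∈ Finset.range (e + 1), algebraMap K K' (ρ (f.coeff i)) * s ^ i) =
      P.1 (ρ (f.coeff 0)) ^ e := by
    have h0 : Q.1 (algebraMap K K' (ρ (f.coeff 0)) * s ^ 0) = P.1 (ρ (f.coeff 0)) ^ e := by
      rw [v_term he hs]; simp
    rw [v_sum_eq_of_dominant' Q.1 _ _ (Finset.mem_range.2 (Nat.succ_pos e))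
      (by rw [h0]; exact pow_ne_zero _ hρ0ne), h0]
    intro i hi hi0
    rw [h0, v_term he hs]
    rcases (Nat.lt_succ_iff.1 (Finset.mem_range.1 hi)).lt_or_eq with hlt | heq
    · calc P.1 (ρ (f.coeff i)) ^ e * exp (-(i : ℤ))
          ≤ P.1 (ρ (f.coeff 0)) ^ e * exp (-(i : ℤ)) :=
            mul_le_mul' (pow_le_pow_left' (hρi i hlt) e) le_rfl
        _ < P.1 (ρ (f.coeff 0)) ^ e * 1 := by
            refine mul_lt_mul_of_pos_left ?_ (zero_lt_iff.2 (pow_ne_zero _ hρ0ne))
            rw [← exp_zero, exp_lt_exp]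
            have : 0 < i := Nat.pos_of_ne_zero hi0
            omega
        _ = P.1 (ρ (f.coeff 0)) ^ e := mul_one _
    · rw [heq, hρe, map_zero, zero_pow he0.ne', zero_mul]
      exact zero_lt_iff.2 (pow_ne_zero _ hρ0ne)
  have hval := congrArg Valued.v hder'
  rw [map_mul, hvDs, mul_one, Valuation.map_neg, map_mul, hψ.1, hψ.1, hdom, ← Geom.vDiff_one] at hval
  -- conclude
  have hxinv : P.1 (ρ (f.coeff 0)) = (vDiff φ 1 x)⁻¹ := eq_inv_of_mul_eq_one_left hρ0
  rw [Place.ord, hval, hxinv, diffExp, ordDiff, ordDiff, log_mul (pow_ne_zero _ (inv_ne_zero hx)) hx',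
    log_pow, log_inv]
  simp only [nsmul_eq_mul, mul_neg]
  ring

end main

end Groth.Agent.H7.DiffMin
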