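import Groth.Agent.Lib.Helper7.IC2

/-! The integral closure of `O_P` in a finite extension is `B' = ⋂_{Q | P} O_Q`, a finite free
`O_P`-module (helper7). -/

set_option autoImplicit false

namespace Groth.Agent.H7.IC

open FunFld WithZero Polynomial

variable {k K K' : Type*} [Field k] [Field K] [Field K'] [Algebra k K] [Algebra K K'] [Algebra k K']
  [IsScalarTower k K K'] (P : Place k K) [Algebra P.O K'] [IsScalarTower P.O K K']

lemma algebraMap_O_apply (a : P.O) : algebraMap P.O K' a = algebraMap K K' (a : K) := by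
  rw [IsScalarTower.algebraMap_apply P.O K K']; rfl

lemma O_smul_eq (a : P.O) (y : K') : a • y = (a : K) • y := by
  rw [Algebra.smul_def, Algebra.smul_def, algebraMap_O_apply]

/-- elements integral over `O_P` are integral at each place over `P`. -/
lemma inB_of_isIntegral {y : K'} (hy : IsIntegral P.O y) : InB P y := by
  intro Q hQ
  have hle : ∀ a : P.O, Q.1 (algebraMap P.O K' a) ≤ 1 := by
    intro a
    rw [algebraMap_O_apply, hQ.isOverWith]
    exact pow_le_one' (P.mem_O_iff.1 a.2) _
  let φ : P.O →+* Q.O := (algebraMap P.O K').codRestrict Q.O.toSubring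
    (fun a => Q.mem_O_iff.2 (hle a))
  obtain ⟨p, hp1, hp2⟩ := hy
  have hint : IsIntegral Q.O y := by
    refine ⟨p.map φ, hp1.map φ, ?_⟩
    rw [eval₂_map]
    have : (algebraMap Q.O K').comp φ = algebraMap P.O K' := by
      ext a; rfl
    rw [this]; exact hp2
  obtain ⟨z, hz⟩ := IsIntegrallyClosed.isIntegral_iff.1 hint
  rw [← hz]
  exact Q.mem_O_iff.1 z.2

variable [FiniteDimensional K K']

/-- the subalgebra `B'`. -/
def Bsub : Subalgebra P.O K' where
  carrier := {y | InB P y}
  mul_mem' := fun ha hb => InB.mul ha hb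
  add_mem' := fun ha hb => InB.add ha hb
  algebraMap_mem' := fun a => by
    have : InB P ((a : K) • (1 : K')) := InB.smul (P.mem_O_iff.1 a.2) InB.one
    rw [Algebra.smul_def, mul_one] at this
    rw [algebraMap_O_apply]
    exact this

lemma mem_Bsub {y : K'} : y ∈ Bsub (K' := K') P ↔ InB P y := Iff.rfl

theorem Bsub_toSubmodule_eq_span (hK : IsFunctionField k K) :
    ∃ m : Fin (Module.finrank K K') → K', IndepMod P m ∧ LinearIndependent K m ∧
      (Bsub (K' := K') P).toSubmodule = Submodule.span P.O (Set.range m) := by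
  obtain ⟨m, hm, hli, hspan⟩ := exists_basis (K' := K') hK P
  refine ⟨m, hm, hli, le_antisymm ?_ ?_⟩
  · intro y hy
    obtain ⟨c, hc1, hc2⟩ := hspan y hy
    rw [hc2]
    refine Submodule.sum_mem _ (fun i _ => ?_)
    have : c i • m i = (⟨c i, P.mem_O_iff.2 (hc1 i)⟩ : P.O) • m i :=
      (O_smul_eq (K' := K') P ⟨c i, P.mem_O_iff.2 (hc1 i)⟩ (m i)).symm
    rw [this]
    exact Submodule.smul_mem _ _ (Submodule.subset_span ⟨i, rfl⟩)
  · rw [Submodule.span_le]
    rintro _ ⟨i, rfl⟩
    exact hm.1 i

theorem integralClosure_eq_Bsub (hK : IsFunctionField k K) :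
    integralClosure P.O K' = Bsub (K' := K') P := by
  obtain ⟨m, -, -, hspan⟩ := Bsub_toSubmodule_eq_span (K' := K') P hK
  apply le_antisymm
  · intro y hy
    exact inB_of_isIntegral P hy
  · intro y hy
    refine IsIntegral.of_mem_of_fg (Bsub (K' := K') P) ?_ y hy
    rw [hspan]
    exact Submodule.fg_span (Set.finite_range m)

theorem finite_integralClosure (hK : IsFunctionField k K) :
    Module.Finite P.O (integralClosure P.O K') := by
  rw [integralClosure_eq_Bsub P hK]
  obtain ⟨m, -, -, hspan⟩ := Bsub_toSubmodule_eq_span (K' := K') P hK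
  have : (Bsub (K' := K') P).toSubmodule.FG := by
    rw [hspan]; exact Submodule.fg_span (Set.finite_range m)
  exact Module.Finite.of_fg this

theorem mem_integralClosure_iff (hK : IsFunctionField k K) (y : K') :
    y ∈ integralClosure P.O K' ↔ InB P y := by
  rw [integralClosure_eq_Bsub P hK]; rfl

end Groth.Agent.H7.IC
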