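import Groth.Agent.Lib.Helper7.Hil0
import Groth.Agent.Lib.Helper5.FunFld.Conorm
import Mathlib.FieldTheory.PurelyInseparable.Basic
import Mathlib.FieldTheory.SeparableClosure

/-! The valuation of a norm: `deg P · v_P(N x) = ∑_{Q | P} deg Q · v_Q(x)` (helper7). -/

set_option autoImplicit false
set_option linter.unusedSectionVars false

namespace Groth.Agent.H7.NormF

open FunFld WithZero

variable {k K K' : Type*} [Field k] [Field K] [Field K'] [Algebra k K] [Algebra K K'] [Algebra k K']
  [IsScalarTower k K K'] [FiniteDimensional K K']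

/-- there is a place above any place -/
theorem exists_isOver (hK : IsFF1 k K) (P : Place k K) : ∃ Q : Place k K', IsOver Q P := by
  classical
  have hfin := finite_isOver (K' := K') hK P
  have h1 := Hil.sum_ramIdx_mul_deg (K' := K') hK P hfin.toFinset (fun Q' => by
    rw [Set.Finite.mem_toFinset, Set.mem_ofPred_eq])
  by_contra hcon
  push Not at hcon
  have hempty : hfin.toFinset = ∅ := by
    rw [Finset.eq_empty_iff_forall_notMem]
    intro Q hQ
    rw [Set.Finite.mem_toFinset] at hQ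
    exact hcon Q hQ
  rw [hempty, Finset.sum_empty] at h1
  have h2 : 0 < Module.finrank K K' := Module.finrank_pos
  have h3 := W.Place.deg_pos P hK
  have := Nat.mul_pos h2 h3
  omega

lemma ord_prod {ι : Type*} (Q : Place k K') (s : Finset ι) (f : ι → K') (hf : ∀ i ∈ s, f i ≠ 0) :
    Q.ord (∏ i ∈ s, f i) = ∑ i ∈ s, Q.ord (f i) := by
  classical
  induction s using Finset.induction_on with
  | empty => simp
  | insert a s ha ih =>
    rw [Finset.prod_insert ha, Finset.sum_insert ha, Place.ord_mul, ih]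
    · intro i hi; exact hf i (Finset.mem_insert_of_mem hi)
    · exact hf a (Finset.mem_insert_self _ _)
    · rw [Finset.prod_ne_zero_iff]
      intro i hi; exact hf i (Finset.mem_insert_of_mem hi)

/-- the Galois case -/
theorem norm_galois [IsGalois K K'] (hK : IsFF1 k K) (P : Place k K) (x : K')
    (Qs : Finset (Place k K')) (hQs : ∀ Q, Q ∈ Qs ↔ IsOver Q P) :
    (P.deg : ℤ) * P.ord (Algebra.norm K x) = ∑ Q ∈ Qs, (Q.deg : ℤ) * Q.ord x := by
  classical
  rcases eq_or_ne x 0 with rfl | hx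
  · simp
  obtain ⟨Q₀, e, he⟩ := exists_isOver (K' := K') hK P
  have he0 : e ≠ 0 := isOverWith_ne_zero he
  have hN := Algebra.norm_eq_prod_automorphisms K x
  have h1 : (e : ℤ) * P.ord (Algebra.norm K x) = ∑ σ : K' ≃ₐ[K] K', (Q₀.conj σ).ord x := by
    rw [← he.ord_eq, hN, ord_prod]
    · rfl
    · intro σ _
      exact (map_ne_zero _).2 hx
  -- fibrewise
  have h2 : ∑ σ : K' ≃ₐ[K] K', (Q₀.conj σ).ord x =
      ∑ Q ∈ Qs, (Nat.card (Q₀.O.decompositionSubgroup K) : ℤ) * Q.ord x := by
    have hmaps : ∀ σ ∈ (Finset.univ : Finset (K' ≃ₐ[K] K')), Q₀.conj σ ∈ Qs := by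
      intro σ _
      rw [hQs]
      exact IsOver.conj ⟨e, he⟩ σ
    rw [← Finset.sum_fiberwise_of_maps_to hmaps]
    refine Finset.sum_congr rfl (fun Q hQ => ?_)
    rw [Finset.sum_congr rfl (g := fun _ => Q.ord x) (fun σ hσ => by
      rw [Finset.mem_filter] at hσ
      rw [hσ.2])]
    rw [Finset.sum_const, nsmul_eq_mul]
    congr 2
    obtain ⟨τ, rfl⟩ := exists_conj_eq ⟨e, he⟩ ((hQs Q).1 hQ)
    rw [← Nat.card_eq_finsetCard]
    refine Nat.card_congr ?_
    refine ⟨fun σ => ⟨σ.1 * τ⁻¹, ?_⟩, fun ρ => ⟨ρ.1 * τ, ?_⟩, ?_, ?_⟩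
    · rw [mem_decompositionSubgroup_iff, Place.conj_mul]
      have := (Finset.mem_filter.1 σ.2).2
      rw [this, ← Place.conj_mul, mul_inv_cancel, Place.conj_one]
    · rw [Finset.mem_filter]
      refine ⟨Finset.mem_univ _, ?_⟩
      rw [Place.conj_mul, (mem_decompositionSubgroup_iff Q₀ ρ.1).1 ρ.2]
    · intro σ
      apply Subtype.ext
      simp
    · intro ρ
      apply Subtype.ext
      simp
  have h3 := Hil.card_decomposition_mul_deg hK he
  have h4 : ∀ Q ∈ Qs, Q.deg = Q₀.deg := fun Q hQ => (he.of_isOver ((hQs Q).1 hQ)).2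
  have he0' : (e : ℤ) ≠ 0 := by exact_mod_cast he0
  apply mul_left_cancel₀ he0'
  rw [Finset.mul_sum]
  calc (e : ℤ) * ((P.deg : ℤ) * P.ord (Algebra.norm K x))
      = (P.deg : ℤ) * ((e : ℤ) * P.ord (Algebra.norm K x)) := by ring
    _ = (P.deg : ℤ) * ∑ Q ∈ Qs, (Nat.card (Q₀.O.decompositionSubgroup K) : ℤ) * Q.ord x := by
        rw [h1, h2]
    _ = ∑ Q ∈ Qs, (e : ℤ) * ((Q.deg : ℤ) * Q.ord x) := by
        rw [Finset.mul_sum]
        refine Finset.sum_congr rfl (fun Q hQ => ?_)
        rw [h4 Q hQ]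
        have : ((Nat.card (Q₀.O.decompositionSubgroup K) : ℤ)) * (P.deg : ℤ) =
            (e : ℤ) * (Q₀.deg : ℤ) := by exact_mod_cast h3
        calc (P.deg : ℤ) * ((Nat.card (Q₀.O.decompositionSubgroup K) : ℤ) * Q.ord x)
            = ((Nat.card (Q₀.O.decompositionSubgroup K) : ℤ) * (P.deg : ℤ)) * Q.ord x := by ring
          _ = (e : ℤ) * ((Q₀.deg : ℤ) * Q.ord x) := by rw [this]; ring


section tower

variable {M E : Type*} [Field M] [Field E] [Algebra k M] [Algebra k E] [Algebra K M] [Algebra M E]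
  [Algebra K E] [IsScalarTower k K M] [IsScalarTower k M E] [IsScalarTower k K E]
  [IsScalarTower K M E] [FiniteDimensional K M] [FiniteDimensional M E]

/-- summing over the places of the top field above `P` in two steps -/
theorem sum_tower (hK : IsFF1 k K) (P : Place k K) (Qs : Finset (Place k M))
    (hQs : ∀ Q, Q ∈ Qs ↔ IsOver Q P) (Rs : Finset (Place k E)) (hRs : ∀ R, R ∈ Rs ↔ IsOver R P)
    (RQ : Place k M → Finset (Place k E)) (hRQ : ∀ Q R, R ∈ RQ Q ↔ IsOver R Q)
    (g : Place k E → ℤ) :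
    ∑ R ∈ Rs, g R = ∑ Q ∈ Qs, ∑ R ∈ RQ Q, g R := by
  classical
  have hM : IsFF1 k M := hK.of_finite
  have hRs' : Rs = Qs.biUnion RQ := by
    ext R
    rw [hRs, Finset.mem_biUnion]
    constructor
    · intro hR
      obtain ⟨Q, e', he'⟩ := exists_isOverWith hM R
      obtain ⟨P', e'', he''⟩ := exists_isOverWith hK Q
      have h1 : IsOver R P' := ⟨_, he'.trans he''⟩
      have h2 : P' = P := h1.unique hR
      subst h2
      exact ⟨Q, (hQs Q).2 ⟨e'', he''⟩, (hRQ Q R).2 ⟨e', he'⟩⟩
    · rintro ⟨Q, hQ, hR⟩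
      obtain ⟨e'', he''⟩ := (hQs Q).1 hQ
      obtain ⟨e', he'⟩ := (hRQ Q R).1 hR
      exact ⟨_, he'.trans he''⟩
  rw [hRs', Finset.sum_biUnion]
  intro Q _ Q' _ hne
  rw [Function.onFun, Finset.disjoint_left]
  intro R hR hR'
  exact hne (((hRQ Q R).1 hR).unique ((hRQ Q' R).1 hR'))

end tower

/-- the formula for elements whose norm is a power -/
theorem norm_of_pow (hK : IsFF1 k K) (P : Place k K) (x : K')
    (hx : algebraMap K K' (Algebra.norm K x) = x ^ Module.finrank K K')
    (Qs : Finset (Place k K')) (hQs : ∀ Q, Q ∈ Qs ↔ IsOver Q P) :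
    (P.deg : ℤ) * P.ord (Algebra.norm K x) = ∑ Q ∈ Qs, (Q.deg : ℤ) * Q.ord x := by
  have h1 := Hil.sum_ramIdx_mul_deg (K' := K') hK P Qs hQs
  have hn : (Module.finrank K K' : ℤ) ≠ 0 := by
    have : 0 < Module.finrank K K' := Module.finrank_pos
    exact_mod_cast this.ne'
  apply mul_left_cancel₀ hn
  rw [Finset.mul_sum]
  have h2 : ∀ Q ∈ Qs, (Module.finrank K K' : ℤ) * ((Q.deg : ℤ) * Q.ord x) =
      ((ramIdx Q P * Q.deg : ℕ) : ℤ) * P.ord (Algebra.norm K x) := by
    intro Q hQ
    obtain ⟨e, he⟩ := (hQs Q).1 hQ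
    have h3 := he.ord_eq (Algebra.norm K x)
    rw [hx, Place.ord_pow] at h3
    rw [he.ramIdx_eq]
    push_cast
    calc (Module.finrank K K' : ℤ) * ((Q.deg : ℤ) * Q.ord x)
        = (Q.deg : ℤ) * ((Module.finrank K K' : ℤ) * Q.ord x) := by ring
      _ = (e : ℤ) * (Q.deg : ℤ) * P.ord (Algebra.norm K x) := by rw [h3]; ring
  rw [Finset.sum_congr rfl h2, ← Finset.sum_mul, ← Nat.cast_sum, h1]
  push_cast
  ring

/-- the norm in a purely inseparable extension -/
theorem norm_purelyInseparable [IsPurelyInseparable K K'] (x : K') :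
    algebraMap K K' (Algebra.norm K x) = x ^ Module.finrank K K' := by
  classical
  obtain ⟨q, hq⟩ := ExpChar.exists K
  haveI := hq
  obtain ⟨n, hn⟩ := IsPurelyInseparable.minpoly_eq_X_sub_C_pow K q x
  have hsplit : ((minpoly K x).map (algebraMap K K')).Splits := by
    rw [hn]
    exact (Polynomial.Splits.X_sub_C x).pow _
  rw [Algebra.norm_eq_prod_roots K' hsplit]
  have hroots : (minpoly K x).aroots K' = Multiset.replicate (q ^ n) x := by
    rw [Polynomial.aroots, hn, Polynomial.roots_pow, Polynomial.roots_X_sub_C,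
      Multiset.nsmul_singleton]
  have hint : IsIntegral K x := Algebra.IsIntegral.isIntegral x
  have hdeg : (minpoly K x).natDegree = q ^ n := by
    have := congrArg Polynomial.natDegree hn
    rw [Polynomial.natDegree_map, Polynomial.natDegree_pow, Polynomial.natDegree_X_sub_C,
      mul_one] at this
    exact this
  rw [hroots, Multiset.prod_replicate, ← pow_mul, ← hdeg,
    ← IntermediateField.adjoin.finrank hint, Module.finrank_mul_finrank]

section general

/-- the separable case -/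
theorem norm_separable [Algebra.IsSeparable K K'] (hK : IsFF1 k K) (P : Place k K) (x : K')
    (Qs : Finset (Place k K')) (hQs : ∀ Q, Q ∈ Qs ↔ IsOver Q P) :
    (P.deg : ℤ) * P.ord (Algebra.norm K x) = ∑ Q ∈ Qs, (Q.deg : ℤ) * Q.ord x := by
  classical
  -- a Galois closure
  let Ω := SeparableClosure K
  let ι : K' →ₐ[K] Ω := IsSepClosed.lift
  letI : Algebra K' Ω := ι.toRingHom.toAlgebra
  haveI : IsScalarTower K K' Ω := IsScalarTower.of_algebraMap_eq (fun y => (ι.commutes y).symm)
  let E := IntermediateField.normalClosure K K' Ω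
  haveI : IsGalois K E := inferInstance
  letI : Algebra k E := ((algebraMap K E).comp (algebraMap k K)).toAlgebra
  haveI : IsScalarTower k K E := IsScalarTower.of_algebraMap_eq (fun _ => rfl)
  haveI : IsScalarTower k K' E := IsScalarTower.of_algebraMap_eq (fun c => by
    rw [IsScalarTower.algebraMap_apply k K E, IsScalarTower.algebraMap_apply K K' E,
      ← IsScalarTower.algebraMap_apply k K K'])
  haveI : FiniteDimensional K' E := Module.Finite.of_restrictScalars_finite K K' E
  have hK' : IsFF1 k K' := hK.of_finite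
  have hfinR := finite_isOver (K' := E) hK P
  have hfinQ : ∀ Q : Place k K', {R : Place k E | IsOver R Q}.Finite :=
    fun Q => finite_isOver (K' := E) hK' Q
  have h1 := norm_galois (K' := E) hK P (algebraMap K' E x) hfinR.toFinset (fun R => by
    rw [Set.Finite.mem_toFinset, Set.mem_ofPred_eq])
  have hNN : Algebra.norm K (algebraMap K' E x) = Algebra.norm K x ^ Module.finrank K' E := by
    rw [← Algebra.norm_norm (S := K'), Algebra.norm_algebraMap, map_pow]
  rw [hNN, Place.ord_pow] at h1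
  rw [sum_tower (M := K') (E := E) hK P Qs hQs hfinR.toFinset (fun R => by
    rw [Set.Finite.mem_toFinset, Set.mem_ofPred_eq]) (fun Q => (hfinQ Q).toFinset) (fun Q R => by
    rw [Set.Finite.mem_toFinset, Set.mem_ofPred_eq])] at h1
  have hn : (Module.finrank K' E : ℤ) ≠ 0 := by
    have : 0 < Module.finrank K' E := Module.finrank_pos
    exact_mod_cast this.ne'
  apply mul_left_cancel₀ hn
  rw [Finset.mul_sum]
  calc (Module.finrank K' E : ℤ) * ((P.deg : ℤ) * P.ord (Algebra.norm K x))
      = (P.deg : ℤ) * ((Module.finrank K' E : ℤ) * P.ord (Algebra.norm K x)) := by ring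
    _ = _ := h1
    _ = _ := by
      refine Finset.sum_congr rfl (fun Q hQ => ?_)
      have h2 := Hil.sum_ramIdx_mul_deg (K' := E) hK' Q (hfinQ Q).toFinset (fun R => by
        rw [Set.Finite.mem_toFinset, Set.mem_ofPred_eq])
      have h3 : ∀ R ∈ (hfinQ Q).toFinset, (R.deg : ℤ) * R.ord (algebraMap K' E x) =
          ((ramIdx R Q * R.deg : ℕ) : ℤ) * Q.ord x := by
        intro R hR
        rw [Set.Finite.mem_toFinset, Set.mem_ofPred_eq] at hR
        obtain ⟨e, he⟩ := hR
        rw [he.ord_eq, he.ramIdx_eq]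
        push_cast
        ring
      rw [Finset.sum_congr rfl h3, ← Finset.sum_mul, ← Nat.cast_sum, h2]
      push_cast
      ring

/-- **Valuation of a norm**: `deg P · v_P(N_{K'/K} x) = ∑_{Q | P} deg Q · v_Q(x)`. -/
theorem norm_formula (hK : IsFF1 k K) (P : Place k K) (x : K')
    (Qs : Finset (Place k K')) (hQs : ∀ Q, Q ∈ Qs ↔ IsOver Q P) :
    (P.deg : ℤ) * P.ord (Algebra.norm K x) = ∑ Q ∈ Qs, (Q.deg : ℤ) * Q.ord x := by
  classical
  let M := separableClosure K K'
  haveI : IsPurelyInseparable M K' := separableClosure.isPurelyInseparable K K'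
  haveI : IsScalarTower k M K' := IsScalarTower.of_algebraMap_eq (fun c => rfl)
  have hM : IsFF1 k M := hK.of_finite
  have hfinQ' := finite_isOver (K' := M) hK P
  have hfinR : ∀ Q' : Place k M, {R : Place k K' | IsOver R Q'}.Finite :=
    fun Q' => finite_isOver (K' := K') hM Q'
  rw [← Algebra.norm_norm (S := M)]
  rw [norm_separable (K' := M) hK P (Algebra.norm M x) hfinQ'.toFinset (fun R => by
    rw [Set.Finite.mem_toFinset, Set.mem_ofPred_eq])]
  rw [sum_tower (M := M) (E := K') hK P hfinQ'.toFinset (fun R => by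
    rw [Set.Finite.mem_toFinset, Set.mem_ofPred_eq]) Qs hQs (fun Q' => (hfinR Q').toFinset)
    (fun Q R => by rw [Set.Finite.mem_toFinset, Set.mem_ofPred_eq])
    (fun Q => (Q.deg : ℤ) * Q.ord x)]
  refine Finset.sum_congr rfl (fun Q' _ => ?_)
  exact norm_of_pow hM Q' x (norm_purelyInseparable x) _ (fun R => by
    rw [Set.Finite.mem_toFinset, Set.mem_ofPred_eq])

end general

end Groth.Agent.H7.NormF
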