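import Groth.Agent.Lib.Helper7.Hil0
import Mathlib.FieldTheory.Galois.Basic
import Mathlib.FieldTheory.Separable
import Mathlib.RingTheory.Invariant.Basic

/-! Hilbert's theory: the decomposition group surjects onto the automorphism group of the
residue extension, `|I| = e` (helper7). -/

set_option autoImplicit false
set_option linter.unusedSectionVars false

attribute [-instance] IsLocalRing.instModuleResidueFieldOfAlgebra

namespace Groth.Agent.H7.Hil

open FunFld WithZero Polynomial

section fieldlemma

variable {F E : Type*} [Field F] [Field E] [Algebra F E]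

/-- If `x` is separable over `F`, `g ∈ F[X]` splits over `E`, kills `x` and all roots of `g` are
`0` or `x`, then `x ∈ F`. -/
theorem mem_range_of_roots [Algebra.IsSeparable F E] {x : E} {g : F[X]} (hg0 : g ≠ 0)
    (hsplit : (g.map (algebraMap F E)).Splits) (hroot : aeval x g = 0)
    (hroots : ∀ ρ : E, aeval ρ g = 0 → ρ = 0 ∨ ρ = x) : x ∈ (algebraMap F E).range := by
  classical
  by_cases hx0 : x = 0
  · exact ⟨0, by rw [map_zero, hx0]⟩
  have hint : IsIntegral F x := Algebra.IsIntegral.isIntegral x
  have hμg : minpoly F x ∣ g := minpoly.dvd F x hroot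
  have hsep : (minpoly F x).Separable := Algebra.IsSeparable.isSeparable F x
  have hsplitμ : ((minpoly F x).map (algebraMap F E)).Splits :=
    hsplit.of_dvd (Polynomial.map_ne_zero hg0) (Polynomial.map_dvd _ hμg)
  have hcard := Polynomial.card_rootSet_eq_natDegree hsep hsplitμ
  have hsub : ∀ ρ ∈ (minpoly F x).rootSet E, ρ = x := by
    intro ρ hρ
    rw [Polynomial.mem_rootSet] at hρ
    obtain ⟨c, hc⟩ := hμg
    have h1 : aeval ρ g = 0 := by rw [hc, map_mul, hρ.2, zero_mul]
    rcases hroots ρ h1 with h0 | h0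
    · exfalso
      rw [h0] at hρ
      have h2 : (minpoly F x).coeff 0 = 0 := by
        have h3 := hρ.2
        rw [← Polynomial.coeff_zero_eq_aeval_zero'] at h3
        exact (algebraMap F E).injective (by rw [h3, map_zero])
      have h4 : (X : F[X]) ∣ minpoly F x := Polynomial.X_dvd_iff.2 h2
      have h5 := Irreducible.dvd_symm Polynomial.irreducible_X (minpoly.irreducible hint) h4
      obtain ⟨d, hd⟩ := h5
      have h6 : aeval x (X : F[X]) = 0 := by rw [hd, map_mul, minpoly.aeval, zero_mul]
      rw [aeval_X] at h6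
      exact hx0 h6
    · exact h0
  have hle : Fintype.card ((minpoly F x).rootSet E) ≤ 1 := by
    rw [Fintype.card_le_one_iff]
    intro a b
    exact Subtype.ext ((hsub a a.2).trans (hsub b b.2).symm)
  rw [hcard] at hle
  have hpos := minpoly.natDegree_pos hint
  exact minpoly.natDegree_eq_one_iff.1 (le_antisymm hle hpos)

end fieldlemma

variable {k K K' : Type*} [Field k] [Field K] [Field K'] [Algebra k K] [Algebra K K'] [Algebra k K']
  [IsScalarTower k K K']

section resmap

variable {Q : Place k K'} {P : Place k K}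

/-- `O_P → O_Q`. -/
def toO (h : IsOver Q P) : P.O →+* Q.O where
  toFun x := ⟨algebraMap K K' x, by
    obtain ⟨e, he⟩ := h
    exact Q.mem_O_iff.2 ((he.v_le_one_iff _).2 (P.mem_O_iff.1 x.2))⟩
  map_one' := Subtype.ext (map_one _)
  map_mul' a b := Subtype.ext (map_mul _ _ _)
  map_zero' := Subtype.ext (map_zero _)
  map_add' a b := Subtype.ext (map_add _ _ _)

@[simp] lemma toO_coe (h : IsOver Q P) (x : P.O) : ((toO h x : Q.O) : K') = algebraMap K K' x := rfl

lemma isLocalHom_toO (h : IsOver Q P) : IsLocalHom (toO h) := ⟨fun a ha => by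
  obtain ⟨e, he⟩ := h
  rw [← IsLocalRing.notMem_maximalIdeal, Place.mem_maximalIdeal_iff] at ha ⊢
  intro h1
  exact ha ((he.v_lt_one_iff _).2 h1)⟩

/-- The map of residue fields `F_P → F_Q`. -/
noncomputable def resMap (h : IsOver Q P) :
    IsLocalRing.ResidueField P.O →+* IsLocalRing.ResidueField Q.O :=
  haveI := isLocalHom_toO h
  IsLocalRing.ResidueField.map (toO h)

lemma resMap_residue (h : IsOver Q P) (x : P.O) :
    resMap h (IsLocalRing.residue _ x) = IsLocalRing.residue _ (toO h x) := rfl

/-- The `k`-algebra map of residue fields `F_P → F_Q`. -/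
noncomputable def resAlg (h : IsOver Q P) :
    IsLocalRing.ResidueField P.O →ₐ[k] IsLocalRing.ResidueField Q.O :=
  { resMap h with
    commutes' := fun c => by
      change resMap h (IsLocalRing.residue _ (algebraMap k P.O c)) =
        IsLocalRing.residue _ (algebraMap k Q.O c)
      rw [resMap_residue]
      congr 1
      apply Subtype.ext
      change algebraMap K K' (algebraMap k K c) = algebraMap k K' c
      rw [← IsScalarTower.algebraMap_apply] }

lemma resAlg_residue (h : IsOver Q P) (x : P.O) :
    resAlg h (IsLocalRing.residue _ x) = IsLocalRing.residue _ (toO h x) := rfl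

/-- The image of `F_P` in `F_Q`. -/
noncomputable def F0 (h : IsOver Q P) : IntermediateField k (IsLocalRing.ResidueField Q.O) :=
  (resAlg h).fieldRange

lemma finrank_F0 (h : IsOver Q P) : Module.finrank k (F0 h) = P.deg :=
  (AlgEquiv.ofInjectiveField (resAlg h)).toLinearEquiv.finrank_eq.symm

lemma finrank_F0_mul (h : IsOver Q P) :
    Module.finrank (F0 h) (IsLocalRing.ResidueField Q.O) * P.deg = Q.deg := by
  rw [← finrank_F0 h, mul_comm]
  exact Module.finrank_mul_finrank k (F0 h) (IsLocalRing.ResidueField Q.O)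

end resmap

section action

variable (Q : Place k K')

/-- The action of the decomposition group on the residue field, by `k`-algebra automorphisms. -/
noncomputable def psi : (Q.O.decompositionSubgroup K) →*
    (IsLocalRing.ResidueField Q.O ≃ₐ[k] IsLocalRing.ResidueField Q.O) where
  toFun σ :=
    { MulSemiringAction.toRingEquiv (Q.O.decompositionSubgroup K)
        (IsLocalRing.ResidueField Q.O) σ with
      commutes' := fun c => by
        change σ • IsLocalRing.residue _ (algebraMap k Q.O c) =
          IsLocalRing.residue _ (algebraMap k Q.O c)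
        rw [← IsLocalRing.ResidueField.residue_smul]
        congr 1
        apply Subtype.ext
        change (σ : K' ≃ₐ[K] K') (algebraMap k K' c) = algebraMap k K' c
        rw [IsScalarTower.algebraMap_apply k K K', AlgEquiv.commutes] }
  map_one' := by ext x; exact one_smul (Q.O.decompositionSubgroup K) x
  map_mul' σ τ := by ext x; exact mul_smul σ τ x

lemma psi_apply (σ : Q.O.decompositionSubgroup K) (x : IsLocalRing.ResidueField Q.O) :
    psi Q σ x = σ • x := rfl

lemma smul_coe (σ : Q.O.decompositionSubgroup K) (y : Q.O) :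
    ((σ • y : Q.O) : K') = (σ : K' ≃ₐ[K] K') (y : K') := rfl

lemma psi_residue (σ : Q.O.decompositionSubgroup K) (y : Q.O) :
    psi Q σ (IsLocalRing.residue _ y) = IsLocalRing.residue _ (σ • y) := rfl

lemma ker_psi : (psi (k := k) (K := K) Q).ker = Q.O.inertiaSubgroup K := by
  ext σ
  rw [MonoidHom.mem_ker]
  unfold ValuationSubring.inertiaSubgroup
  rw [MonoidHom.mem_ker]
  constructor
  · intro h
    ext x
    have := AlgEquiv.congr_fun h x
    exact this
  · intro h
    ext x
    have := RingEquiv.congr_fun h x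
    exact this

end action

section main

variable [FiniteDimensional K K'] {Q : Place k K'} {P : Place k K}

/-- Lift a residue class at `Q` to an element small at all other places over `P`. -/
lemma exists_lift (hK : IsFF1 k K) (x₀ : K') :
    ∃ z : K', Q.1 (z - x₀) < 1 ∧ ∀ Q' : Place k K', IsOver Q' P → Q' ≠ Q → Q'.1 z < 1 := by
  classical
  have hfin := finite_isOver (K' := K') hK P
  obtain ⟨z, hz⟩ := Place.exists_approx (insert Q hfin.toFinset)
    (fun Q' => if Q' = Q then x₀ else 0) (one_ne_zero (α := WithZero (Multiplicative ℤ)))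
  refine ⟨z, ?_, fun Q' hQ' hne => ?_⟩
  · have := hz Q (Finset.mem_insert_self _ _)
    rwa [if_pos rfl] at this
  · have := hz Q' (Finset.mem_insert_of_mem (by rw [Set.Finite.mem_toFinset]; exact hQ'))
    rwa [if_neg hne, sub_zero] at this

variable [IsGalois K K']

/-- The reduction of the characteristic polynomial of an integral element has coefficients in
the image of `F_P`. -/
lemma charpoly_lifts (h : IsOver Q P) (z : K') (hz : ∀ σ : K' ≃ₐ[K] K', Q.1 (σ z) ≤ 1) :
    (∏ σ : K' ≃ₐ[K] K',
      (X - C (IsLocalRing.residue Q.O ⟨σ z, Q.mem_O_iff.2 (hz σ)⟩))) ∈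
      Polynomial.lifts (algebraMap (F0 h) (IsLocalRing.ResidueField Q.O)) := by
  classical
  set fO : Q.O[X] := ∏ σ : K' ≃ₐ[K] K', (X - C (⟨σ z, Q.mem_O_iff.2 (hz σ)⟩ : Q.O)) with hfO
  have h1 : fO.map (IsLocalRing.residue Q.O) = ∏ σ : K' ≃ₐ[K] K',
      (X - C (IsLocalRing.residue Q.O ⟨σ z, Q.mem_O_iff.2 (hz σ)⟩)) := by
    rw [hfO, Polynomial.map_prod]
    refine Finset.prod_congr rfl (fun σ _ => ?_)
    rw [Polynomial.map_sub, Polynomial.map_X, Polynomial.map_C]
  have h2 : fO.map Q.O.subtype = MulSemiringAction.charpoly (K' ≃ₐ[K] K') z := by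
    rw [hfO, Polynomial.map_prod, MulSemiringAction.charpoly_eq]
    refine Finset.prod_congr rfl (fun σ _ => ?_)
    rw [Polynomial.map_sub, Polynomial.map_X, Polynomial.map_C]
    rfl
  have h3 : ∀ n, ∃ a : P.O, fO.coeff n = toO h a := by
    intro n
    have h4 : ((fO.coeff n : Q.O) : K') =
        (MulSemiringAction.charpoly (K' ≃ₐ[K] K') z).coeff n := by
      rw [← h2, Polynomial.coeff_map]; rfl
    have h5 : ((fO.coeff n : Q.O) : K') ∈ Set.range (algebraMap K K') := by
      rw [IsGalois.mem_range_algebraMap_iff_fixed]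
      intro σ
      rw [h4]
      exact MulSemiringAction.smul_coeff_charpoly z n σ
    obtain ⟨a, ha⟩ := h5
    have ha1 : P.1 a ≤ 1 := by
      obtain ⟨e, he⟩ := h
      rw [← he.v_le_one_iff, ha]
      exact Q.mem_O_iff.1 (fO.coeff n).2
    exact ⟨⟨a, P.mem_O_iff.2 ha1⟩, Subtype.ext ha.symm⟩
  rw [← h1, Polynomial.lifts_iff_coeff_lifts]
  intro n
  obtain ⟨a, ha⟩ := h3 n
  rw [Polynomial.coeff_map, ha, ← resAlg_residue]
  exact ⟨⟨_, ⟨IsLocalRing.residue _ a, rfl⟩⟩, rfl⟩

/-- The fixed field of the decomposition group acting on `F_Q` is the image of `F_P`. -/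
theorem fixedField_range_psi (hK : IsFF1 k K) (h : IsOver Q P)
    [Algebra.IsSeparable k (IsLocalRing.ResidueField Q.O)] :
    IntermediateField.fixedField (psi (k := k) (K := K) Q).range = F0 h := by
  classical
  apply le_antisymm
  · intro xb hxb
    rw [IntermediateField.mem_fixedField_iff] at hxb
    obtain ⟨x₀, rfl⟩ := IsLocalRing.residue_surjective xb
    obtain ⟨z, hz1, hz2⟩ := exists_lift (Q := Q) (P := P) hK (x₀ : K')
    have hzQ : Q.1 z ≤ 1 := by
      have : z = (z - x₀) + x₀ := by ring
      rw [this]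
      exact (Q.1.map_add _ _).trans (max_le hz1.le (Q.mem_O_iff.1 x₀.2))
    have hres : IsLocalRing.residue Q.O ⟨z, Q.mem_O_iff.2 hzQ⟩ = IsLocalRing.residue Q.O x₀ := by
      rw [← sub_eq_zero, ← map_sub, IsLocalRing.residue_eq_zero_iff, Place.mem_maximalIdeal_iff]
      exact hz1
    have hconj : ∀ σ : K' ≃ₐ[K] K', Q.1 (σ z) ≤ 1 := by
      intro σ
      by_cases hσ : Q.conj σ = Q
      · rw [← Place.conj_apply, hσ]; exact hzQ
      · exact (hz2 (Q.conj σ) (h.conj σ) hσ).le
    obtain ⟨g, hg⟩ := (Polynomial.mem_lifts _).1 (charpoly_lifts h z hconj)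
    have hmonic : (g.map (algebraMap (F0 h) (IsLocalRing.ResidueField Q.O))).Monic := by
      rw [hg]; exact monic_prod_of_monic _ _ (fun _ _ => monic_X_sub_C _)
    have hg0 : g ≠ 0 := by
      rintro rfl
      rw [Polynomial.map_zero] at hmonic
      exact hmonic.ne_zero rfl
    have hsplit : (g.map (algebraMap (F0 h) (IsLocalRing.ResidueField Q.O))).Splits := by
      rw [hg]; exact Splits.prod (fun σ _ => Splits.X_sub_C _)
    have key : ∀ ρ : IsLocalRing.ResidueField Q.O, aeval ρ g = 0 →
        ρ = 0 ∨ ρ = IsLocalRing.residue Q.O x₀ := by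
      intro ρ hρ
      rw [aeval_def, ← eval_map, hg, eval_prod, Finset.prod_eq_zero_iff] at hρ
      obtain ⟨σ, -, hσ⟩ := hρ
      rw [eval_sub, eval_X, eval_C, sub_eq_zero] at hσ
      by_cases hσQ : Q.conj σ = Q
      · right
        have hσD : σ ∈ Q.O.decompositionSubgroup K := (mem_decompositionSubgroup_iff Q σ).2 hσQ
        have h1 := hxb (psi Q ⟨σ, hσD⟩) ⟨_, rfl⟩
        rw [hσ, ← h1, ← hres, psi_residue]
        rfl
      · left
        rw [hσ, IsLocalRing.residue_eq_zero_iff, Place.mem_maximalIdeal_iff]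
        exact hz2 (Q.conj σ) (h.conj σ) hσQ
    have hroot : aeval (IsLocalRing.residue Q.O x₀) g = 0 := by
      rw [aeval_def, ← eval_map, hg, eval_prod]
      apply Finset.prod_eq_zero (Finset.mem_univ (1 : K' ≃ₐ[K] K'))
      rw [eval_sub, eval_X, eval_C, sub_eq_zero, ← hres]
      rfl
    have : Algebra.IsSeparable (F0 h) (IsLocalRing.ResidueField Q.O) :=
      Algebra.isSeparable_tower_top_of_isSeparable k (F0 h) (IsLocalRing.ResidueField Q.O)
    obtain ⟨y, hy⟩ := mem_range_of_roots hg0 hsplit hroot key
    rw [← hy]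
    exact y.2
  · intro y hy
    rw [IntermediateField.mem_fixedField_iff]
    rintro _ ⟨σ, rfl⟩
    obtain ⟨u, rfl⟩ := hy
    obtain ⟨a, rfl⟩ := IsLocalRing.residue_surjective u
    change psi Q σ (resAlg h (IsLocalRing.residue _ a)) = resAlg h (IsLocalRing.residue _ a)
    rw [resAlg_residue, psi_residue]
    congr 1
    apply Subtype.ext
    rw [smul_coe, toO_coe, AlgEquiv.commutes]

/-- **Hilbert**: the inertia group has order `e` (residue field extension separable). -/
theorem card_inertia (hK : IsFF1 k K) {e : ℕ} (he : IsOverWith Q P e)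
    [Algebra.IsSeparable k (IsLocalRing.ResidueField Q.O)] :
    Nat.card (Q.O.inertiaSubgroup K) = e := by
  have h : IsOver Q P := ⟨e, he⟩
  have hK' : IsFF1 k K' := hK.of_finite
  have : FiniteDimensional k (IsLocalRing.ResidueField Q.O) :=
    W.Place.finiteDimensional_residueField Q hK'
  have h1 := card_decomposition_mul_deg hK he
  have h2 := finrank_F0_mul h
  have h3 : Nat.card (psi (k := k) (K := K) Q).range =
      Module.finrank (F0 h) (IsLocalRing.ResidueField Q.O) := by
    rw [← fixedField_range_psi hK h, IntermediateField.finrank_fixedField_eq_card]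
  have h4 : Nat.card (psi (k := k) (K := K) Q).ker * Nat.card (psi (k := k) (K := K) Q).range =
      Nat.card (Q.O.decompositionSubgroup K) := by
    rw [← Subgroup.index_ker]; exact Subgroup.card_mul_index _
  rw [ker_psi, h3] at h4
  have hP := W.Place.deg_pos P hK
  have hf : 0 < Module.finrank (F0 h) (IsLocalRing.ResidueField Q.O) := Module.finrank_pos
  rw [← h4, ← h2] at h1
  have h5 : Nat.card (Q.O.inertiaSubgroup K) *
      (Module.finrank (F0 h) (IsLocalRing.ResidueField Q.O) * P.deg) =
      e * (Module.finrank (F0 h) (IsLocalRing.ResidueField Q.O) * P.deg) := by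
    rw [← h1]; ring
  exact Nat.eq_of_mul_eq_mul_right (Nat.mul_pos hf hP) h5

end main

end Groth.Agent.H7.Hil
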