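import Groth.Agent.Lib.Helper5.FunFld.Ext2
import Groth.Agent.Lib.Helper7.Hil1

/-! Quadratic extensions of function fields: local lemmas (helper7). -/

set_option autoImplicit false
set_option linter.unusedSectionVars false

namespace Groth.Agent.H7.QL

open FunFld WithZero

variable {k F K : Type*} [Field k] [Field F] [Field K] [Algebra k F] [Algebra F K] [Algebra k K]
  [IsScalarTower k F K]

section general

variable [FiniteDimensional F K]

lemma deg_le_of_isOver (hF : IsFF1 k F) {Q : Place k K} {P : Place k F} (h : IsOver Q P) :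
    P.deg ≤ Q.deg := by
  have h1 := Hil.finrank_F0_mul h
  have hQ : 0 < Q.deg := W.Place.deg_pos Q hF.of_finite
  rw [← h1] at hQ ⊢
  exact Nat.le_mul_of_pos_left _ (Nat.pos_of_mul_pos_right hQ)

/-- the finite set of places above `P` -/
noncomputable def above (hF : IsFF1 k F) (P : Place k F) : Finset (Place k K) :=
  (finite_isOver (K' := K) hF P).toFinset

lemma mem_above (hF : IsFF1 k F) (P : Place k F) (Q : Place k K) :
    Q ∈ above hF P ↔ IsOver Q P := by
  rw [above, Set.Finite.mem_toFinset]; rfl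

lemma sum_above (hF : IsFunctionField k F) (P : Place k F) :
    ∑ Q ∈ above (K := K) hF.isFF1 P, ramIdx Q P * Q.deg = Module.finrank F K * P.deg :=
  sum_ramIdx_mul_deg hF P _ (mem_above hF.isFF1 P)

lemma ramIdx_mul_deg_le (hF : IsFunctionField k F) {Q : Place k K} {P : Place k F}
    (h : IsOver Q P) : ramIdx Q P * Q.deg ≤ Module.finrank F K * P.deg := by
  rw [← sum_above hF P]
  exact Finset.single_le_sum (f := fun Q => ramIdx Q P * Q.deg) (fun _ _ => Nat.zero_le _)
    ((mem_above hF.isFF1 P Q).2 h)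

lemma ramIdx_le_finrank (hF : IsFunctionField k F) {Q : Place k K} {P : Place k F}
    (h : IsOver Q P) : ramIdx Q P ≤ Module.finrank F K := by
  have h1 := ramIdx_mul_deg_le hF h
  have h2 := deg_le_of_isOver hF.isFF1 h
  have h3 : 0 < P.deg := P.deg_pos hF
  have h4 : ramIdx Q P * P.deg ≤ Module.finrank F K * P.deg :=
    (Nat.mul_le_mul_left _ h2).trans h1
  exact Nat.le_of_mul_le_mul_right h4 h3

lemma exists_isOver (hF : IsFunctionField k F) (P : Place k F) : ∃ Q : Place k K, IsOver Q P := by
  by_contra hne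
  push_neg at hne
  have h1 := sum_above (K := K) hF P
  have h2 : above (K := K) hF.isFF1 P = ∅ := by
    rw [Finset.eq_empty_iff_forall_notMem]
    intro Q hQ
    exact hne Q ((mem_above hF.isFF1 P Q).1 hQ)
  rw [h2, Finset.sum_empty] at h1
  have h3 : 0 < P.deg := P.deg_pos hF
  have h4 : 0 < Module.finrank F K := Module.finrank_pos
  have := Nat.mul_pos h4 h3
  omega

/-- a totally ramified place is the only place above, with the same degree -/
theorem unique_of_ramIdx_eq (hF : IsFunctionField k F) {Q : Place k K} {P : Place k F}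
    (h : IsOver Q P) (he : ramIdx Q P = Module.finrank F K) :
    Q.deg = P.deg ∧ ∀ Q' : Place k K, IsOver Q' P → Q' = Q := by
  classical
  have h4 : 0 < Module.finrank F K := Module.finrank_pos
  have h1 := ramIdx_mul_deg_le hF h
  have h2 := deg_le_of_isOver hF.isFF1 h
  rw [he] at h1
  have h3 : Q.deg ≤ P.deg := Nat.le_of_mul_le_mul_left h1 h4
  have hdeg : Q.deg = P.deg := le_antisymm h3 h2
  refine ⟨hdeg, ?_⟩
  intro Q' hQ'
  by_contra hne
  have hs := sum_above (K := K) hF P
  have hsub : ({Q, Q'} : Finset (Place k K)) ⊆ above hF.isFF1 P := by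
    intro R hR
    rw [Finset.mem_insert, Finset.mem_singleton] at hR
    rcases hR with rfl | rfl
    · exact (mem_above hF.isFF1 P _).2 h
    · exact (mem_above hF.isFF1 P _).2 hQ'
  have hle := Finset.sum_le_sum_of_subset (f := fun Q => ramIdx Q P * Q.deg) hsub
  rw [hs, Finset.sum_pair (Ne.symm hne), he, hdeg] at hle
  have h5 : 0 < ramIdx Q' P * Q'.deg :=
    Nat.mul_pos hQ'.ramIdx_pos (W.Place.deg_pos Q' hF.isFF1.of_finite)
  omega

end general

section quadratic

variable (hF : IsFunctionField k F) (hdeg : Module.finrank F K = 2)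

include hdeg in
lemma finiteDimensional_of_finrank : FiniteDimensional F K :=
  Module.finite_of_finrank_pos (by rw [hdeg]; norm_num)

include hF hdeg in
lemma ramIdx_eq_one_or_two {Q : Place k K} {P : Place k F} (h : IsOver Q P) :
    ramIdx Q P = 1 ∨ ramIdx Q P = 2 := by
  haveI := finiteDimensional_of_finrank hdeg
  have h3 := ramIdx_le_finrank hF h
  rw [hdeg] at h3
  have h4 := h.ramIdx_pos
  omega

include hF hdeg in
/-- `y² = u` with `ord_P u` odd: every place above `P` is ramified -/
theorem isOverWith_two_of_sq {y : K} {u : F} (hy : y ^ 2 = algebraMap F K u) {P : Place k F}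
    (hodd : Odd (P.ord u)) {Q : Place k K} (h : IsOver Q P) : IsOverWith Q P 2 := by
  have he := h.isOverWith
  have h1 : Q.ord (y ^ 2) = 2 * Q.ord y := by exact_mod_cast Q.ord_pow y 2
  have h2 := he.ord_eq u
  rw [← hy, h1] at h2
  obtain ⟨m, hm⟩ := hodd
  rcases ramIdx_eq_one_or_two hF hdeg h with h5 | h5
  · rw [h5] at h2
    push_cast at h2
    omega
  · rwa [h5] at he

include hF hdeg in
/-- `y² + y = f` with `ord_P f` negative and odd: every place above `P` is ramified -/
theorem isOverWith_two_of_as {y : K} {f : F} (hy : y ^ 2 + y = algebraMap F K f) {P : Place k F}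
    (hneg : P.ord f < 0) (hodd : Odd (P.ord f)) {Q : Place k K} (h : IsOver Q P) :
    IsOverWith Q P 2 := by
  have he := h.isOverWith
  have hf0 : f ≠ 0 := by
    rintro rfl
    simp [Place.ord] at hneg
  have hv : 1 < Q.1 (algebraMap F K f) := by
    rw [← not_le, he.v_le_one_iff, P.v_le_one_iff hf0]
    omega
  have hy1 : 1 < Q.1 y := by
    by_contra hle
    rw [not_lt] at hle
    have : Q.1 (y ^ 2 + y) ≤ 1 :=
      Valuation.map_add_le _ (by rw [map_pow]; exact pow_le_one' hle 2) hle
    rw [hy] at this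
    exact absurd hv (not_lt.2 this)
  have hy0 : y ≠ 0 := by
    rintro rfl
    rw [map_zero] at hy1
    exact absurd hy1 (by simp)
  have hy10 : y + 1 ≠ 0 := by
    intro h0
    have : Q.1 y = 1 := by
      rw [eq_neg_of_add_eq_zero_left h0, Valuation.map_neg, map_one]
    rw [this] at hy1
    exact lt_irrefl _ hy1
  have h3 : Q.1 (y + 1) = Q.1 y := Valuation.map_add_eq_of_lt_left _ (by rwa [map_one])
  have h4 : Q.ord (y + 1) = Q.ord y := by rw [Place.ord, Place.ord, h3]
  have h1 : Q.ord (algebraMap F K f) = 2 * Q.ord y := by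
    rw [← hy, show y ^ 2 + y = y * (y + 1) by ring, Q.ord_mul hy0 hy10, h4]
    ring
  have h2 := he.ord_eq f
  rw [h1] at h2
  obtain ⟨m, hm⟩ := hodd
  rcases ramIdx_eq_one_or_two hF hdeg h with h5 | h5
  · rw [h5] at h2
    push_cast at h2
    omega
  · rwa [h5] at he

include hdeg in
/-- `1, y` is a basis -/
lemma exists_repr {y : K} (hy : y ∉ Set.range (algebraMap F K)) (z : K) :
    ∃ A B : F, z = algebraMap F K A + algebraMap F K B * y := by
  haveI := finiteDimensional_of_finrank hdeg
  have hli : LinearIndependent F ![(1 : K), y] := by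
    rw [LinearIndependent.pair_iff]
    intro s t hst
    have ht : t = 0 := by
      by_contra ht
      apply hy
      refine ⟨-s / t, ?_⟩
      have h1 : algebraMap F K s + algebraMap F K t * y = 0 := by
        rw [← hst, Algebra.smul_def, Algebra.smul_def, mul_one]
      have ht' : algebraMap F K t ≠ 0 := by
        rwa [Ne, map_eq_zero_iff _ (algebraMap F K).injective]
      rw [map_div₀, map_neg]
      field_simp
      linear_combination -h1
    subst ht
    refine ⟨?_, rfl⟩
    rw [zero_smul, add_zero, Algebra.smul_def, mul_one] at hst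
    exact (map_eq_zero_iff _ (algebraMap F K).injective).1 hst
  have hspan := hli.span_eq_top_of_card_eq_finrank' (by rw [hdeg]; simp)
  have hz : z ∈ Submodule.span F (Set.range ![(1 : K), y]) := by rw [hspan]; trivial
  have hr : Set.range ![(1 : K), y] = {1, y} := by
    ext w
    simp only [Set.mem_range, Fin.exists_fin_two, Matrix.cons_val_zero, Matrix.cons_val_one,
      Set.mem_insert_iff, Set.mem_singleton_iff]
    constructor
    · rintro (h | h)
      · exact Or.inl h.symm
      · exact Or.inr h.symm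
    · rintro (h | h)
      · exact Or.inl h.symm
      · exact Or.inr h.symm
  rw [hr, Submodule.mem_span_pair] at hz
  obtain ⟨A, B, hAB⟩ := hz
  exact ⟨A, B, by rw [← hAB, Algebra.smul_def, Algebra.smul_def, mul_one]⟩

include hF hdeg in
/-- `y² + b y = c`, `b, c` integral at `P` with unit discriminant `b² + 4c`: unramified above `P` -/
theorem isOverWith_one_of_disc {y : K} (hy : y ∉ Set.range (algebraMap F K)) {b c : F}
    (heq : y ^ 2 + algebraMap F K b * y = algebraMap F K c) {P : Place k F}
    (hb : P.1 b ≤ 1) (hc : P.1 c ≤ 1) (hd : P.1 (b ^ 2 + 4 * c) = 1)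
    {Q : Place k K} (h : IsOver Q P) : IsOverWith Q P 1 := by
  have he := h.isOverWith
  rcases ramIdx_eq_one_or_two hF hdeg h with h5 | h5
  · rwa [h5] at he
  exfalso
  rw [h5] at he
  set ι := algebraMap F K with hι
  have hιinj : Function.Injective ι := (algebraMap F K).injective
  -- evenness
  have heven : ∀ A : F, A ≠ 0 → ∃ m : ℤ, Q.1 (ι A) = exp (2 * m) := by
    intro A hA
    refine ⟨-(P.ord A), ?_⟩
    rw [he A, P.v_eq_exp_neg_ord hA, ← exp_nsmul]
    congr 1
  have hιb : Q.1 (ι b) ≤ 1 := (he.v_le_one_iff b).2 hb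
  have hιc : Q.1 (ι c) ≤ 1 := (he.v_le_one_iff c).2 hc
  -- y integral
  have hy1 : Q.1 y ≤ 1 := by
    by_contra hlt
    rw [not_le] at hlt
    have h1 : ι c = y * (y + ι b) := by rw [← heq]; ring
    have h2 : Q.1 (y + ι b) = Q.1 y := Valuation.map_add_eq_of_lt_left _ (lt_of_le_of_lt hιb hlt)
    have h3 : 1 < Q.1 (ι c) := by
      rw [h1, map_mul, h2]
      exact Left.one_lt_mul_of_lt_of_le hlt hlt.le
    exact absurd hιc (not_le.2 h3)
  set y' := -ι b - y with hy'
  have hy'1 : Q.1 y' ≤ 1 := by
    rw [hy']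
    exact Valuation.map_sub_le _ (by rwa [Valuation.map_neg]) hy1
  -- v(y - y') = 1
  have hdiff : Q.1 (y - y') = 1 := by
    have h1 : (y - y') ^ 2 = ι (b ^ 2 + 4 * c) := by
      rw [map_add, map_mul, map_pow, ← heq, hy', map_ofNat]
      ring
    have h2 : Q.1 (y - y') ^ 2 = 1 := by
      rw [← map_pow, h1, he, hd, one_pow]
    exact (pow_eq_one_iff_of_nonneg zero_le' two_ne_zero).1 h2
  -- a uniformizer
  obtain ⟨π, hπ⟩ := Q.exists_uniformizer
  obtain ⟨A, B, hAB⟩ := exists_repr hdeg hy π
  have hπ0 : π ≠ 0 := by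
    rintro rfl
    rw [map_zero] at hπ
    exact exp_ne_zero hπ.symm
  have hB0 : B ≠ 0 := by
    rintro rfl
    rw [map_zero, zero_mul, add_zero] at hAB
    have hA0 : A ≠ 0 := by
      rintro rfl
      rw [map_zero] at hAB
      exact hπ0 hAB
    obtain ⟨m, hm⟩ := heven A hA0
    rw [← hAB, hπ, exp_inj] at hm
    omega
  set π' := ι A + ι B * y' with hπ'
  have hN : π * π' = ι (A ^ 2 - A * B * b - B ^ 2 * c) := by
    rw [hAB, hπ', hy', map_sub, map_sub, map_mul, map_mul, map_mul, map_pow, map_pow, ← heq]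
    ring
  have hy'F : y' ∉ Set.range ι := by
    rintro ⟨w, hw⟩
    apply hy
    refine ⟨-b - w, ?_⟩
    rw [map_sub, map_neg, hw, hy']
    ring
  have hπ'0 : π' ≠ 0 := by
    intro h0
    apply hy'F
    refine ⟨-A / B, ?_⟩
    have hB' : ι B ≠ 0 := by rwa [Ne, map_eq_zero_iff _ hιinj]
    rw [map_div₀, map_neg]
    field_simp
    linear_combination -h0
  have hN0 : A ^ 2 - A * B * b - B ^ 2 * c ≠ 0 := by
    intro h0
    rw [h0, map_zero] at hN
    rcases mul_eq_zero.1 hN with h | h
    · exact hπ0 h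
    · exact hπ'0 h
  obtain ⟨m, hm⟩ := heven _ hN0
  obtain ⟨n, hn⟩ := heven B hB0
  have hvπ' : Q.1 π' = exp (2 * m + 1) := by
    have h1 : Q.1 π * Q.1 π' = exp (2 * m) := by rw [← map_mul, hN, hm]
    rw [hπ] at h1
    have h2 : Q.1 π' = exp 1 * (exp (-1) * Q.1 π') := by
      rw [← mul_assoc, ← exp_add]; simp
    rw [h2, h1, ← exp_add]
    congr 1
    ring
  have hsub : π - π' = ι B * (y - y') := by rw [hAB, hπ']; ring
  have hvsub : Q.1 (π - π') = exp (2 * n) := by rw [hsub, map_mul, hdiff, mul_one, hn]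
  by_cases hne : Q.1 π = Q.1 π'
  · -- equal valuations
    have h1 : Q.1 (π - π') ≤ exp (-1) := by
      refine Valuation.map_sub_le _ hπ.le ?_
      rw [← hne, hπ]
    rw [hvsub, exp_le_exp] at h1
    have hn1 : n ≤ -1 := by omega
    have h2 : Q.1 (ι B * y) < Q.1 π := by
      rw [map_mul, hn, hπ]
      calc exp (2 * n) * Q.1 y ≤ exp (2 * n) * 1 := mul_le_mul' le_rfl hy1
        _ = exp (2 * n) := mul_one _
        _ < exp (-1) := by rw [exp_lt_exp]; omega
    have h3 : ι A = π - ι B * y := by rw [hAB]; ring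
    have h4 : Q.1 (ι A) = exp (-1) := by
      rw [h3, Valuation.map_sub_eq_of_lt_left _ h2, hπ]
    have hA0 : A ≠ 0 := by
      rintro rfl
      rw [map_zero, map_zero] at h4
      exact exp_ne_zero h4.symm
    obtain ⟨a, ha⟩ := heven A hA0
    rw [h4, exp_inj] at ha
    omega
  · have h1 : Q.1 (π - π') = max (Q.1 π) (Q.1 π') := by
      rw [sub_eq_add_neg, Valuation.map_add_of_distinct_val _ (by rwa [Valuation.map_neg]),
        Valuation.map_neg]
    rw [hvsub, hπ, hvπ'] at h1
    rcases max_choice (exp (-1 : ℤ)) (exp (2 * m + 1)) with h2 | h2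
    · rw [h2, exp_inj] at h1
      omega
    · rw [h2, exp_inj] at h1
      omega

end quadratic

end Groth.Agent.H7.QL
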