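import Groth.Agent.Lib.Helper7.DiffMin
import Groth.Agent.Lib.Helper7.NormF
import Groth.Agent.Lib.Helper7.IC3
import Groth.Agent.Lib.Helper7.QL1

/-! The different exponent at a place of residue degree one via the derivative of the minimal
polynomial of a local parameter which is a unit at the other places (helper7). -/

set_option autoImplicit false
set_option linter.unusedSectionVars false

universe u v w

namespace Groth.Agent.H7.DiffMin

open FunFld LocRes WithZero LaurentSeries HahnSeries Polynomial Groth.Agent.H7.RH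

section main

variable {k : Type u} {K K' : Type v} [Field k] [Field K] [Field K'] [Algebra k K] [Algebra K K']
  [Algebra k K'] [IsScalarTower k K K'] [FiniteDimensional K K']
variable {F F' : Type w} [Field F] [Algebra k F] [Field F'] [Algebra k F']

/-- the different exponent from the derivative of the minimal polynomial of a local parameter
whose minimal polynomial is integral with constant coefficient of order one -/
theorem ord_derivative_of_coeffs (hK : IsFunctionField k K) (hg : IsGeometric k K)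
    {P : Place k K} {Q : Place k K'} {e : ℕ} (he : IsOverWith Q P e)
    {φ : K →ₐ[k] F⸨X⸩} (hφ : IsExpansionAt P.1 φ) {ψ : K' →ₐ[k] F'⸨X⸩}
    (hψ : IsExpansionAt Q.1 ψ) {x : K} (hx : vDiff φ 1 x ≠ 0)
    (hx' : vDiff ψ 1 (algebraMap K K' x) ≠ 0) {s : K'}
    (hs : Q.1 s = exp (-1 : ℤ)) (hc0 : P.1 ((minpoly K s).coeff 0) = exp (-1 : ℤ))
    (hci : ∀ i, P.1 ((minpoly K s).coeff i) ≤ 1) :
    Q.ord (aeval s (derivative (minpoly K s))) = diffExp φ ψ e x := by
  classical
  have he0 : 0 < e := Nat.pos_of_ne_zero (isOverWith_ne_zero he)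
  set f := minpoly K s with hf
  set d := f.natDegree with hd
  have hs0 : s ≠ 0 := by
    rintro rfl
    rw [map_zero] at hs
    exact exp_ne_zero hs.symm
  have hDx : KaehlerDifferential.D k K x ≠ 0 := by
    apply Geom.D_ne_zero_of_expansion φ
    rw [Geom.vDiff_one] at hx
    intro h0
    rw [h0, map_zero] at hx
    exact hx rfl
  -- the coefficients of the differentials
  choose ρ hρ using fun c : K => Geom.exists_D_eq_smul hK hg hDx c
  have hρφ : ∀ c : K, Valued.v (LocRes.D F (φ c)) = P.1 (ρ c) * vDiff φ 1 x := by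
    intro c
    rw [Geom.D_expansion_eq φ (hρ c), map_mul, hφ.1, Geom.vDiff_one]
  have hρψ : ∀ c : K, LocRes.D F' (ψ (algebraMap K K' c)) =
      ψ (algebraMap K K' (ρ c)) * LocRes.D F' (ψ (algebraMap K K' x)) := fun c =>
    Geom.D_expansion_eq ψ (Geom.D_map_eq (hρ c))
  -- apply the derivation to `f(s) = 0`
  letI := ψ.toRingHom.toAlgebra
  haveI : IsScalarTower k K' F'⸨X⸩ := isScalarTower_exp ψ
  have hder := derivation_aeval (dExp ψ) s f
  rw [minpoly.aeval, map_zero] at hder
  have hsumrange : f.sum (fun i c => s ^ i • (dExp ψ) (algebraMap K K' c)) =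
      ψ (∑ i ∈ Finset.range (d + 1), algebraMap K K' (ρ (f.coeff i)) * s ^ i) *
        LocRes.D F' (ψ (algebraMap K K' x)) := by
    rw [Polynomial.sum_over_range' _ (fun i => by rw [map_zero, map_zero, smul_zero]) (d + 1)
      (Nat.lt_succ_self d), map_sum, Finset.sum_mul]
    refine Finset.sum_congr rfl (fun i _ => ?_)
    change ψ (s ^ i) * LocRes.D F' (ψ (algebraMap K K' (f.coeff i))) = _
    rw [hρψ, map_mul]
    ring
  rw [hsumrange] at hder
  have hder' : ψ (aeval s (derivative f)) * LocRes.D F' (ψ s) =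
      -(ψ (∑ i ∈ Finset.range (d + 1), algebraMap K K' (ρ (f.coeff i)) * s ^ i) *
        LocRes.D F' (ψ (algebraMap K K' x))) := by
    have : aeval s (derivative f) • (dExp ψ) s = ψ (aeval s (derivative f)) * LocRes.D F' (ψ s) :=
      rfl
    rw [this] at hder
    exact eq_neg_of_add_eq_zero_left hder.symm
  -- valuations
  have hvDs : Valued.v (LocRes.D F' (ψ s)) = 1 := by
    have hord : Q.ord s = 1 := by rw [Q.ord_eq_of_v_eq hs]; simp
    have := HD.vD_of_ord hψ hs0 (by rw [hord]; simp)
    rw [this, hord, sub_self, neg_zero, exp_zero]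
  have hρ0 : P.1 (ρ (f.coeff 0)) * vDiff φ 1 x = 1 := by
    rw [← hρφ]
    have hcne : f.coeff 0 ≠ 0 := by
      intro h
      rw [h, map_zero] at hc0
      exact exp_ne_zero hc0.symm
    have hord : P.ord (f.coeff 0) = 1 := by rw [P.ord_eq_of_v_eq hc0]; simp
    have := HD.vD_of_ord hφ hcne (by rw [hord]; simp)
    rw [this, hord, sub_self, neg_zero, exp_zero]
  have hρ0ne : P.1 (ρ (f.coeff 0)) ≠ 0 := by
    intro h
    rw [h, zero_mul] at hρ0
    exact zero_ne_one hρ0
  have hρi : ∀ i, P.1 (ρ (f.coeff i)) ≤ P.1 (ρ (f.coeff 0)) := by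
    intro i
    have h1 : P.1 (ρ (f.coeff i)) * vDiff φ 1 x ≤ 1 := by
      rw [← hρφ]
      exact HD.vD_le_one hφ (hci i)
    have h1' : P.1 (ρ (f.coeff i)) * vDiff φ 1 x ≤ P.1 (ρ (f.coeff 0)) * vDiff φ 1 x :=
      h1.trans_eq hρ0.symm
    exact le_of_mul_le_mul_right h1' (zero_lt_iff.2 hx)
  have hdom : Q.1 (∑ i ∈ Finset.range (d + 1), algebraMap K K' (ρ (f.coeff i)) * s ^ i) =
      P.1 (ρ (f.coeff 0)) ^ e := by
    have h0 : Q.1 (algebraMap K K' (ρ (f.coeff 0)) * s ^ 0) = P.1 (ρ (f.coeff 0)) ^ e := by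
      rw [v_term he hs]; simp
    rw [v_sum_eq_of_dominant' Q.1 _ _ (Finset.mem_range.2 (Nat.succ_pos d))
      (by rw [h0]; exact pow_ne_zero _ hρ0ne), h0]
    intro i hi hi0
    rw [h0, v_term he hs]
    calc P.1 (ρ (f.coeff i)) ^ e * exp (-(i : ℤ))
        ≤ P.1 (ρ (f.coeff 0)) ^ e * exp (-(i : ℤ)) :=
          mul_le_mul' (pow_le_pow_left' (hρi i) e) le_rfl
      _ < P.1 (ρ (f.coeff 0)) ^ e * 1 := by
          refine mul_lt_mul_of_pos_left ?_ (zero_lt_iff.2 (pow_ne_zero _ hρ0ne))
          rw [← exp_zero, exp_lt_exp]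
          have : 0 < i := Nat.pos_of_ne_zero hi0
          omega
      _ = P.1 (ρ (f.coeff 0)) ^ e := mul_one _
  have hval := congrArg Valued.v hder'
  rw [map_mul, hvDs, mul_one, Valuation.map_neg, map_mul, hψ.1, hψ.1, hdom, ← Geom.vDiff_one] at hval
  -- conclude
  have hxinv : P.1 (ρ (f.coeff 0)) = (vDiff φ 1 x)⁻¹ := eq_inv_of_mul_eq_one_left hρ0
  rw [Place.ord, hval, hxinv, diffExp, ordDiff, ordDiff, log_mul (pow_ne_zero _ (inv_ne_zero hx)) hx',
    log_pow, log_inv]
  simp only [nsmul_eq_mul, mul_neg]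
  ring

end main


section aux

variable {k : Type*} {K K' : Type*} [Field k] [Field K] [Field K'] [Algebra k K] [Algebra K K']
  [Algebra k K'] [IsScalarTower k K K']

/-- residue degree one -/
lemma deg_eq_of_surjective {P : Place k K} {Q : Place k K'} (h : IsOver Q P)
    [P.1.HasExtension Q.1]
    (hf : Function.Surjective
      (algebraMap (IsLocalRing.ResidueField P.O) (IsLocalRing.ResidueField Q.O))) :
    Q.deg = P.deg := by
  have hsurj : Function.Surjective (Hil.resAlg h) := by
    intro y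
    obtain ⟨xbar, rfl⟩ := hf y
    obtain ⟨a, rfl⟩ := IsLocalRing.residue_surjective xbar
    refine ⟨IsLocalRing.residue _ a, ?_⟩
    rw [Hil.resAlg_residue, Valuation.HasExtension.algebraMap_residue_eq_residue_algebraMap]
    rfl
  have hbij : Function.Bijective (Hil.resAlg h) := ⟨(Hil.resAlg h).toRingHom.injective, hsurj⟩
  exact (AlgEquiv.ofBijective (Hil.resAlg h) hbij).toLinearEquiv.finrank_eq.symm

variable [FiniteDimensional K K']

/-- a local parameter at a place of residue degree one which is a unit at the other places above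
generates the extension -/
theorem adjoin_eq_top (hK : IsFF1 k K) {P : Place k K} {Q : Place k K'} (hQP : IsOver Q P)
    (hdeg : Q.deg = P.deg) {s : K'} (hs : Q.1 s = exp (-1 : ℤ))
    (hs' : ∀ Q' : Place k K', IsOver Q' P → Q' ≠ Q → Q'.1 s = 1) :
    IntermediateField.adjoin K ({s} : Set K') = ⊤ := by
  classical
  set L := IntermediateField.adjoin K ({s} : Set K') with hLdef
  haveI : IsScalarTower k L K' := IsScalarTower.of_algebraMap_eq (fun c => rfl)
  have hL : IsFF1 k L := hK.of_finite
  obtain ⟨Qm, e₁, he₁⟩ := exists_isOverWith hL Q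
  obtain ⟨P', e₂, he₂⟩ := exists_isOverWith hK Qm
  have hPP : P = P' := IsOver.unique hQP ⟨_, he₁.trans he₂⟩
  subst hPP
  let sL : L := ⟨s, IntermediateField.mem_adjoin_simple_self K s⟩
  have h1 : Qm.1 sL ^ e₁ = exp (-1 : ℤ) := by
    rw [← he₁ sL]; exact hs
  have hsL0 : sL ≠ 0 := by
    intro h
    rw [h, map_zero, zero_pow (isOverWith_ne_zero he₁)] at h1
    exact exp_ne_zero h1.symm
  have he₁1 : e₁ = 1 := by
    rw [Qm.v_eq_exp_neg_ord hsL0, ← exp_nsmul, exp_inj] at h1
    simp only [smul_neg, nsmul_eq_mul, neg_inj] at h1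
    have : (e₁ : ℤ) ∣ 1 := Dvd.intro _ h1
    have h2 := Int.natAbs_dvd_natAbs.2 this
    simpa using h2
  have hsLlt : Qm.1 sL < 1 := by
    rw [he₁1, pow_one] at h1
    rw [h1, ← exp_zero, exp_lt_exp]
    norm_num
  have honly : ∀ R : Place k K', IsOver R Qm ↔ R = Q := by
    intro R
    constructor
    · intro hR
      by_contra hne
      obtain ⟨e₃, he₃⟩ := hR
      have h2 : R.1 s = 1 := hs' R ⟨_, he₃.trans he₂⟩ hne
      have h3 : R.1 s = Qm.1 sL ^ e₃ := he₃ sL
      rw [h2] at h3
      have := pow_lt_one₀ zero_le' hsLlt (isOverWith_ne_zero he₃)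
      rw [← h3] at this
      exact lt_irrefl _ this
    · rintro rfl
      exact ⟨e₁, he₁⟩
  have h4 := Hil.sum_ramIdx_mul_deg (K' := K') hL Qm {Q} (fun R => by
    rw [Finset.mem_singleton, honly])
  rw [Finset.sum_singleton, he₁.ramIdx_eq, he₁1, one_mul] at h4
  have h5 : P.deg ≤ Qm.deg := Groth.Agent.H7.QL.deg_le_of_isOver hK ⟨e₂, he₂⟩
  have h6 : 0 < Qm.deg := W.Place.deg_pos Qm hL
  have h7 : Module.finrank L K' = 1 := by
    have h8 : 0 < Module.finrank L K' := Module.finrank_pos
    by_contra hne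
    have h9 : 2 ≤ Module.finrank L K' := by omega
    have : 2 * Qm.deg ≤ Module.finrank L K' * Qm.deg := Nat.mul_le_mul_right _ h9
    omega
  exact IntermediateField.finrank_eq_one_iff_eq_top.1 h7

end aux


section main2

variable {k : Type u} {K K' : Type v} [Field k] [Field K] [Field K'] [Algebra k K] [Algebra K K']
  [Algebra k K'] [IsScalarTower k K K'] [FiniteDimensional K K']

/-- the minimal polynomial of an element integral at all places above `P` has coefficients
integral at `P` -/
theorem coeff_le_one (hK : IsFunctionField k K) (P : Place k K) {s : K'}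
    (hint : ∀ Q' : Place k K', IsOver Q' P → Q'.1 s ≤ 1) (i : ℕ) :
    P.1 ((minpoly K s).coeff i) ≤ 1 := by
  letI : Algebra P.O K' := ((algebraMap K K').comp P.O.subtype).toAlgebra
  haveI : IsScalarTower P.O K K' := IsScalarTower.of_algebraMap_eq (fun _ => rfl)
  have h1 : IsIntegral P.O s := (IC.mem_integralClosure_iff P hK s).2 hint
  rw [minpoly.isIntegrallyClosed_eq_field_fractions' K h1, Polynomial.coeff_map]
  exact P.mem_O_iff.1 (Subtype.property _)

/-- the constant coefficient of the minimal polynomial -/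
theorem v_coeff_zero (hK : IsFF1 k K) {P : Place k K} {Q : Place k K'} (hQP : IsOver Q P)
    (hdeg : Q.deg = P.deg) {s : K'} (hs : Q.1 s = exp (-1 : ℤ))
    (hs' : ∀ Q' : Place k K', IsOver Q' P → Q' ≠ Q → Q'.1 s = 1)
    (htop : IntermediateField.adjoin K ({s} : Set K') = ⊤) :
    P.1 ((minpoly K s).coeff 0) = exp (-1 : ℤ) := by
  classical
  have hint : IsIntegral K s := Algebra.IsIntegral.isIntegral s
  have hfin := finite_isOver (K' := K') hK P
  have h1 := NormF.norm_formula hK P s hfin.toFinset (fun Q' => by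
    rw [Set.Finite.mem_toFinset, Set.mem_ofPred_eq])
  have hQmem : Q ∈ hfin.toFinset := by
    rw [Set.Finite.mem_toFinset]; exact hQP
  rw [Finset.sum_eq_single_of_mem Q hQmem (fun Q' hQ' hne => by
    rw [Set.Finite.mem_toFinset, Set.mem_ofPred_eq] at hQ'
    rw [Place.ord, hs' Q' hQ' hne, log_one, neg_zero, mul_zero])] at h1
  have hordQ : Q.ord s = 1 := by rw [Q.ord_eq_of_v_eq hs]; simp
  rw [hordQ, mul_one, hdeg] at h1
  have hP0 : (P.deg : ℤ) ≠ 0 := by
    have := W.Place.deg_pos P hK
    exact_mod_cast this.ne'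
  have hord : P.ord (Algebra.norm K s) = 1 := by
    have : (P.deg : ℤ) * P.ord (Algebra.norm K s) = (P.deg : ℤ) * 1 := by rw [h1, mul_one]
    exact mul_left_cancel₀ hP0 this
  -- the norm is the constant coefficient up to sign
  have hnorm : Algebra.norm K s =
      (-1) ^ (IntermediateField.adjoin.powerBasis hint).dim * (minpoly K s).coeff 0 := by
    have h2 := Algebra.norm_eq_norm_adjoin K s
    have h3 : Module.finrank (IntermediateField.adjoin K ({s} : Set K')) K' = 1 :=
      IntermediateField.finrank_eq_one_iff_eq_top.2 htop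
    rw [h3, pow_one] at h2
    have h4 := Algebra.PowerBasis.norm_gen_eq_coeff_zero_minpoly
      (IntermediateField.adjoin.powerBasis hint)
    rw [IntermediateField.adjoin.powerBasis_gen, IntermediateField.minpoly_gen] at h4
    rw [h2, h4]
  have hnne : Algebra.norm K s ≠ 0 := by
    intro h
    rw [h, Place.ord_zero] at hord
    exact zero_ne_one hord
  have hv : P.1 (Algebra.norm K s) = exp (-1 : ℤ) := by
    rw [P.v_eq_exp_neg_ord hnne, hord]
  rw [hnorm, map_mul, map_pow, Valuation.map_neg, map_one, one_pow, one_mul] at hv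
  exact hv

variable {F F' : Type w} [Field F] [Algebra k F] [Field F'] [Algebra k F']

/-- **S12572** -/
theorem ord_derivative_minpoly_localParameter (hK : IsFunctionField k K) (hg : IsGeometric k K)
    {P : Place k K} {Q : Place k K'} {e : ℕ} (he : IsOverWith Q P e)
    {φ : K →ₐ[k] F⸨X⸩} (hφ : IsExpansionAt P.1 φ) {ψ : K' →ₐ[k] F'⸨X⸩}
    (hψ : IsExpansionAt Q.1 ψ) {x : K} (hx : vDiff φ 1 x ≠ 0)
    (hx' : vDiff ψ 1 (algebraMap K K' x) ≠ 0) [P.1.HasExtension Q.1]
    (hf : Function.Surjective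
      (algebraMap (IsLocalRing.ResidueField P.O) (IsLocalRing.ResidueField Q.O)))
    {s : K'} (hs : Q.1 s = exp (-1 : ℤ))
    (hs' : ∀ Q' : Place k K', IsOver Q' P → Q' ≠ Q → Q'.1 s = 1) :
    IntermediateField.adjoin K ({s} : Set K') = ⊤ ∧
      Q.ord (aeval s (derivative (minpoly K s))) = diffExp φ ψ e x := by
  classical
  have hQP : IsOver Q P := ⟨e, he⟩
  have hdeg := deg_eq_of_surjective hQP hf
  have htop := adjoin_eq_top hK.isFF1 hQP hdeg hs hs'
  refine ⟨htop, ?_⟩
  have hc0 := v_coeff_zero hK.isFF1 hQP hdeg hs hs' htop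
  have hci := coeff_le_one hK P (s := s) (fun Q' hQ' => by
    by_cases h : Q' = Q
    · rw [h, hs, ← exp_zero, exp_le_exp]; norm_num
    · exact (hs' Q' hQ' h).le)
  exact ord_derivative_of_coeffs hK hg he hφ hψ hx hx' hs hc0 hci

end main2

end Groth.Agent.H7.DiffMin
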