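import Mathlib
open Polynomial

namespace Groth.Agent.H7.T14405

/-- discrete antiderivative of `X^k`. -/
noncomputable def S (k : ℕ) : ℚ[X] := C ((1 : ℚ) / (k + 1)) * Polynomial.bernoulli (k + 1) + X ^ k

theorem S_eval_sub (k : ℕ) (x : ℚ) : (S k).eval x - (S k).eval (x - 1) = x ^ k := by
  have h := Polynomial.bernoulli_eval_one_add (k + 1) (x - 1)
  have hx : (1 : ℚ) + (x - 1) = x := by ring
  rw [hx] at h
  have hk : ((k : ℚ) + 1) ≠ 0 := by positivity
  simp only [S, eval_add, eval_mul, eval_C, eval_pow, eval_X]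
  rw [h]
  simp only [Nat.add_sub_cancel, Nat.cast_add, Nat.cast_one]
  field_simp
  ring

theorem S_coeff (k N : ℕ) (hN : k < N) :
    (S k).coeff N = if N = k + 1 then (1 : ℚ) / (k + 1) else 0 := by
  simp only [S, coeff_add, coeff_C_mul, coeff_X_pow, Polynomial.coeff_bernoulli]
  have h1 : ¬ (N = k) := by omega
  rw [if_neg h1, add_zero]
  by_cases h2 : N = k + 1
  · subst h2
    simp
  · rw [if_neg h2, if_neg (by omega), mul_zero]

end Groth.Agent.H7.T14405

namespace Groth.Agent.H7.T14405

theorem main (φ : ℤ → ℚ) (d : ℕ) (Q : ℚ[X]) (hQ : Q ≠ 0)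
    (hd : Q.natDegree = d) (h : ∀ m : ℤ, φ m - φ (m - 1) = Q.eval (m : ℚ)) :
    ∃ P : ℚ[X], P.natDegree = d + 1 ∧ ∀ m : ℤ, φ m = P.eval (m : ℚ) := by
  classical
  set P0 : ℚ[X] := ∑ k ∈ Finset.range (d + 1), C (Q.coeff k) * S k with hP0
  have hdiff : ∀ x : ℚ, P0.eval x - P0.eval (x - 1) = Q.eval x := by
    intro x
    rw [hP0, eval_finsetSum, eval_finsetSum, ← Finset.sum_sub_distrib]
    simp only [eval_mul, eval_C, ← mul_sub, S_eval_sub]
    rw [Polynomial.eval_eq_sum_range, hd]
  set P : ℚ[X] := P0 + C (φ 0 - P0.eval 0) with hP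
  have hPdiff : ∀ x : ℚ, P.eval x - P.eval (x - 1) = Q.eval x := by
    intro x; rw [hP]; simp only [eval_add, eval_C]; rw [← hdiff x]; ring
  refine ⟨P, ?_, ?_⟩
  · -- degree
    have hcoeff : ∀ N, d < N → P0.coeff N = if N = d + 1 then Q.coeff d / (d + 1) else 0 := by
      intro N hN
      rw [hP0, finsetSum_coeff]
      simp only [coeff_C_mul]
      rw [Finset.sum_congr rfl (fun k hk => by
        rw [S_coeff k N (by have := Finset.mem_range.mp hk; omega)])]
      by_cases hN1 : N = d + 1
      · subst hN1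
        rw [if_pos rfl, Finset.sum_eq_single d]
        · simp [div_eq_mul_inv]
        · intro k hk hkd
          rw [if_neg (by omega), mul_zero]
        · intro hd'
          exact absurd (Finset.mem_range.mpr (Nat.lt_succ_self d)) hd'
      · rw [if_neg hN1]
        apply Finset.sum_eq_zero
        intro k hk
        have := Finset.mem_range.mp hk
        rw [if_neg (by omega), mul_zero]
    have hP0deg : P0.natDegree = d + 1 := by
      apply natDegree_eq_of_le_of_coeff_ne_zero
      · rw [natDegree_le_iff_coeff_eq_zero]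
        intro N hN
        rw [hcoeff N (by omega), if_neg (by omega)]
      · rw [hcoeff (d + 1) (by omega), if_pos rfl]
        have hQd : Q.coeff d ≠ 0 := by
          rw [← hd]; exact leadingCoeff_ne_zero.mpr hQ
        have : ((d : ℚ) + 1) ≠ 0 := by positivity
        exact div_ne_zero hQd this
    rw [hP, natDegree_add_C, hP0deg]
  · have hg : ∀ m : ℤ, φ m - P.eval (m : ℚ) = φ (m - 1) - P.eval ((m - 1 : ℤ) : ℚ) := by
      intro m
      have h1 := h m
      have h2 := hPdiff (m : ℚ)
      push_cast
      linarith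
    have h0 : φ 0 - P.eval ((0 : ℤ) : ℚ) = 0 := by
      rw [hP]; simp
    have hall : ∀ m : ℤ, φ m - P.eval (m : ℚ) = 0 := by
      intro m
      induction m using Int.induction_on with
      | zero => exact h0
      | succ i ih =>
        have := hg ((i : ℤ) + 1)
        rw [this]
        simpa using ih
      | pred i ih =>
        have := hg (-(i : ℤ))
        rw [← this]
        exact ih
    intro m
    have := hall m
    linarith

end Groth.Agent.H7.T14405
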