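import Mathlib
import Groth.Prelude.Def_SixF1
import Groth.Agent.Lib.Helper6.KInjDS
import Groth.Agent.Lib.Helper7.KInj
import Groth.Agent.Lib.Helper7.GT2

/-!
# Unbounded `R(g ∘ f)_* ≅ Rg_* ∘ Rf_*` for abelian étale sheaves
-/

set_option autoImplicit false
universe u
open CategoryTheory CategoryTheory.Limits AlgebraicGeometry
attribute [local instance] HasDerivedCategory.standard

namespace Groth.Agent.Helper7.EA1

open Groth.Agent.H6 DerivedCategory

theorem isGrothendieckAbelian_ab (X : Scheme.{u}) : IsGrothendieckAbelian.{u + 1} (EtCoh.Ab X) := by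
  haveI : EssentiallySmall.{u + 1} X.Etale := inferInstance
  exact Sheaf.isGrothendieckAbelian_of_essentiallySmall.{u + 1, u + 1, u, u + 2, u + 1}
    X.smallEtaleTopology AddCommGrpCat.{u + 1}

instance hasKInjRes_ab (X : Scheme.{u}) : KInjDS.HasKInjRes (EtCoh.Ab X) :=
  haveI := isGrothendieckAbelian_ab X
  inferInstance

lemma isKInjective_push {X Y : Scheme.{u}} (f : X ⟶ Y) (I : CochainComplex (EtCoh.Ab X) ℤ)
    [I.IsKInjective] :
    CochainComplex.IsKInjective
      (((EtCoh.push f).mapHomologicalComplex (ComplexShape.up ℤ)).obj I) := by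
  haveI : PreservesFiniteLimits (EtCoh.pull f) := Groth.Agent.H7.GT.S101_main f
  exact Groth.Agent.H7.KInj.isKInjective_map (EtCoh.pullPushAdj f) I

variable {X Y Z : Scheme.{u}} (f : X ⟶ Y) (g : Y ⟶ Z)
  [DCoh.HasRpushEt X f] [DCoh.HasRpushEt Y g] [DCoh.HasRpushEt X (f ≫ g)]

lemma isIso_mapHomotopyCategory_of_iso {V W : Type*} [Category V] [Category W] [Preadditive V]
    [Preadditive W] {F G : V ⥤ W} [F.Additive] [G.Additive] (e : F ≅ G) :
    IsIso (NatTrans.mapHomotopyCategory e.inv (ComplexShape.up ℤ)) :=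
  ⟨⟨NatTrans.mapHomotopyCategory e.hom (ComplexShape.up ℤ), by
    rw [← NatTrans.mapHomotopyCategory_comp, e.inv_hom_id, NatTrans.mapHomotopyCategory_id], by
    rw [← NatTrans.mapHomotopyCategory_comp, e.hom_inv_id, NatTrans.mapHomotopyCategory_id]⟩⟩

theorem isIso_compUnit_app (I : CochainComplex (EtCoh.Ab X) ℤ) [I.IsKInjective] :
    IsIso ((EtSix.compUnit f g).app
      ((HomotopyCategory.quotient (EtCoh.Ab X) (ComplexShape.up ℤ)).obj I)) := by
  haveI := isKInjective_push f I
  have h1 := KInjDS.isIso_app_of_isKInjective (DCoh.pushEtKh X f) Qh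
    ((DCoh.pushEtKh X f).totalRightDerivedUnit Qh
      (HomotopyCategory.quasiIso (EtCoh.Ab X) (ComplexShape.up ℤ))) I
  have h2 := KInjDS.isIso_app_of_isKInjective (DCoh.pushEtKh Y g) Qh
    ((DCoh.pushEtKh Y g).totalRightDerivedUnit Qh
      (HomotopyCategory.quasiIso (EtCoh.Ab Y) (ComplexShape.up ℤ)))
    (((EtCoh.push f).mapHomologicalComplex (ComplexShape.up ℤ)).obj I)
  haveI h3 := isIso_mapHomotopyCategory_of_iso (EtCoh.pushComp g f)
  dsimp only [EtSix.compUnit]
  simp only [NatTrans.comp_app, Functor.whiskerRight_app, Functor.whiskerLeft_app,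
    Functor.associator_hom_app, Functor.associator_inv_app, Category.id_comp, Category.comp_id]
  have e1 : IsIso (Qh.map
        ((NatTrans.mapHomotopyCategory (EtCoh.pushComp g f).inv (ComplexShape.up ℤ)).app
            ((HomotopyCategory.quotient (EtCoh.Ab X) (ComplexShape.up ℤ)).obj I) ≫
          (Functor.mapHomotopyCategoryCompIso (Iso.refl (EtCoh.push f ⋙ EtCoh.push g))
            (ComplexShape.up ℤ)).inv.app
            ((HomotopyCategory.quotient (EtCoh.Ab X) (ComplexShape.up ℤ)).obj I))) := inferInstance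
  have e2 : IsIso (((DCoh.pushEtKh Y g).totalRightDerivedUnit Qh
      (HomotopyCategory.quasiIso (EtCoh.Ab Y) (ComplexShape.up ℤ))).app
          (((EtCoh.push f).mapHomotopyCategory (ComplexShape.up ℤ)).obj
            ((HomotopyCategory.quotient (EtCoh.Ab X) (ComplexShape.up ℤ)).obj I))) := h2
  have e3 : IsIso ((DCoh.RpushEt Y g).map
          (((DCoh.pushEtKh X f).totalRightDerivedUnit Qh
                (HomotopyCategory.quasiIso (EtCoh.Ab X) (ComplexShape.up ℤ))).app
            ((HomotopyCategory.quotient (EtCoh.Ab X) (ComplexShape.up ℤ)).obj I))) := inferInstance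
  exact @IsIso.comp_isIso _ _ _ _ _ _ _ e1 (@IsIso.comp_isIso _ _ _ _ _ _ _ e2 e3)

theorem compMap_isIso : IsIso (EtSix.compMap f g) := by
  haveI : (DCoh.RpushEt X f ⋙ DCoh.RpushEt Y g).IsRightDerivedFunctor (EtSix.compUnit f g)
      (HomotopyCategory.quasiIso (EtCoh.Ab X) (ComplexShape.up ℤ)) :=
    KInjDS.isRightDerivedFunctor_of_isIso (DCoh.pushEtKh X (f ≫ g)) Qh (EtSix.compUnit f g)
      (fun I hI => by
        haveI := hI
        exact isIso_compUnit_app f g I)
  unfold EtSix.compMap
  rw [← Functor.isRightDerivedFunctor_iff_isIso_rightDerivedDesc]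
  infer_instance

end Groth.Agent.Helper7.EA1
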