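import Mathlib
import Groth.Agent.Lib.Helper7.EX1
import Groth.Agent.S6619

set_option autoImplicit false

universe w w' v v' u u'

open CategoryTheory CategoryTheory.Limits CategoryTheory.Abelian

namespace Groth.Agent.H7.EX

variable {C : Type u} [Category.{v} C] [Abelian C] [HasExt.{w} C]
  {D : Type u'} [Category.{v'} D] [Abelian D] [HasExt.{w'} D]

section CoAdj

variable {L : D ⥤ C} {R : C ⥤ D} (adj : L ⊣ R) [L.Additive]
  [PreservesFiniteLimits L] [PreservesFiniteColimits L]

/-- The map `Ext^n(A, R B) → Ext^n(L A, B)` for an adjunction `L ⊣ R` with `L` exact. -/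
noncomputable def extCo (A : D) (B : C) (n : ℕ) : Ext A (R.obj B) n →+ Ext (L.obj A) B n :=
  ((Ext.mk₀ (adj.counit.app B)).postcomp (L.obj A) (add_zero n)).comp
    (L.mapExtAddHom A (R.obj B) n)

lemma extCo_apply {A : D} {B : C} {n : ℕ} (x : Ext A (R.obj B) n) :
    extCo adj A B n x = (x.mapExactFunctor L).comp (Ext.mk₀ (adj.counit.app B)) (add_zero n) := rfl

lemma extCo_mk₀ {A : D} {B : C} (f : A ⟶ R.obj B) :
    extCo adj A B 0 (Ext.mk₀ f) = Ext.mk₀ ((adj.homEquiv A B).symm f) := by
  rw [extCo_apply, Ext.mapExactFunctor_mk₀, Ext.mk₀_comp_mk₀, Adjunction.homEquiv_counit]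

lemma extCo_comp_mk₀ {A : D} {B B' : C} {n : ℕ} (x : Ext A (R.obj B) n) (g : B ⟶ B') :
    extCo adj A B' n (x.comp (Ext.mk₀ (R.map g)) (add_zero n)) =
      (extCo adj A B n x).comp (Ext.mk₀ g) (add_zero n) := by
  rw [extCo_apply, extCo_apply, Ext.mapExactFunctor_comp, Ext.mapExactFunctor_mk₀,
    Ext.comp_assoc_of_third_deg_zero, Ext.comp_assoc_of_third_deg_zero, Ext.mk₀_comp_mk₀,
    Ext.mk₀_comp_mk₀,
    show L.map (R.map g) ≫ adj.counit.app B' = adj.counit.app B ≫ g from adj.counit_naturality g]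

variable [R.Additive]

lemma extCo_comp_extClass {A : D} {S : ShortComplex C} (hS : S.ShortExact)
    (hRS : (S.map R).ShortExact) {n : ℕ} (x : Ext A (R.obj S.X₃) n) :
    extCo adj A S.X₁ (n + 1) (x.comp hRS.extClass rfl) =
      (extCo adj A S.X₃ n x).comp hS.extClass rfl := by
  let φ : (S.map R).map L ⟶ S :=
    { τ₁ := adj.counit.app S.X₁
      τ₂ := adj.counit.app S.X₂
      τ₃ := adj.counit.app S.X₃
      comm₁₂ := (adj.counit_naturality S.f).symm
      comm₂₃ := (adj.counit_naturality S.g).symm }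
  have hnat : (hRS.map_of_exact L).extClass.comp (Ext.mk₀ (adj.counit.app S.X₁)) (add_zero 1) =
      (Ext.mk₀ (adj.counit.app S.X₃)).comp hS.extClass (zero_add 1) :=
    ShortComplex.ShortExact.extClass_naturality (hRS.map_of_exact L) hS φ
  have h1 : (x.comp hRS.extClass rfl).mapExactFunctor L =
      (x.mapExactFunctor L).comp (hRS.extClass.mapExactFunctor L) rfl :=
    Ext.mapExactFunctor_comp L x hRS.extClass rfl
  have h2 : hRS.extClass.mapExactFunctor L = (hRS.map_of_exact L).extClass :=
    Ext.mapExactFunctor_extClass L hRS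
  calc extCo adj A S.X₁ (n + 1) (x.comp hRS.extClass rfl)
      = ((x.comp hRS.extClass rfl).mapExactFunctor L).comp
          (Ext.mk₀ (adj.counit.app S.X₁)) (add_zero (n + 1)) := rfl
    _ = ((x.mapExactFunctor L).comp (hRS.map_of_exact L).extClass rfl).comp
          (Ext.mk₀ (adj.counit.app S.X₁)) (add_zero (n + 1)) := by
        exact congrArg (fun y => Ext.comp y (Ext.mk₀ (adj.counit.app S.X₁)) (add_zero (n + 1)))
          (h1.trans (congrArg (fun z => Ext.comp (x.mapExactFunctor L) z rfl) h2))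
    _ = (x.mapExactFunctor L).comp ((hRS.map_of_exact L).extClass.comp
          (Ext.mk₀ (adj.counit.app S.X₁)) (add_zero 1)) rfl :=
        Ext.comp_assoc _ _ _ rfl (add_zero 1) (by omega)
    _ = (x.mapExactFunctor L).comp ((Ext.mk₀ (adj.counit.app S.X₃)).comp hS.extClass
          (zero_add 1)) rfl :=
        congrArg (fun z => Ext.comp (x.mapExactFunctor L) z rfl) hnat
    _ = ((x.mapExactFunctor L).comp (Ext.mk₀ (adj.counit.app S.X₃)) (add_zero n)).comp
          hS.extClass rfl :=
        (Ext.comp_assoc _ _ _ (add_zero n) (zero_add 1) (by omega)).symm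

variable [EnoughInjectives C] [PreservesFiniteLimits R]

attribute [local instance] Ext.subsingleton_of_injective in
/-- `Ext^n(A, R B) ≅ Ext^n(L A, B)` when `B` is right acyclic for `R`. -/
theorem extCo_bijective (A : D) (B : C)
    (hB : ∀ q : ℕ, 0 < q → IsZero ((R.rightDerived q).obj B)) (n : ℕ) :
    Function.Bijective (extCo adj A B n) := by
  induction n generalizing B with
  | zero =>
    have h : ⇑(extCo adj A B 0) =
        Ext.homEquiv₀.symm ∘ (adj.homEquiv A B).symm ∘ Ext.homEquiv₀ := by
      ext x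
      obtain ⟨f, rfl⟩ := (Ext.mk₀_bijective _ _).2 x
      simp [extCo_mk₀, Ext.homEquiv₀]
    rw [h]
    exact Ext.homEquiv₀.symm.bijective.comp ((adj.homEquiv A B).symm.bijective.comp
      Ext.homEquiv₀.bijective)
  | succ n hn =>
    have hS := shiftSC_shortExact B
    haveI : R.PreservesInjectiveObjects :=
      Functor.preservesInjectiveObjects_of_adjunction_of_preservesMonomorphisms adj
    have hI : ∀ q : ℕ, 0 < q → IsZero ((R.rightDerived q).obj (shiftSC B).X₂) := by
      intro q hq
      obtain ⟨m, rfl⟩ : ∃ m, q = m + 1 := ⟨q - 1, by omega⟩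
      exact Functor.isZero_rightDerived_obj_injective_succ R m _
    obtain ⟨hQ, hRS⟩ := (Groth.Agent.S6619.result R (shiftSC B) hS).2.1 hB hI
    have : Injective ((shiftSC B).map R).X₂ :=
      Functor.PreservesInjectiveObjects.injective_obj (inferInstance : Injective (shiftSC B).X₂)
    exact AddMonoidHom.bijective_of_surjective_of_bijective_of_right_exact _ _ _ _
      (extCo adj A (shiftSC B).X₂ n) (extCo adj A (shiftSC B).X₃ n)
      (extCo adj A (shiftSC B).X₁ (n + 1))
      (by ext e; exact (extCo_comp_mk₀ adj e _).symm)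
      (by ext e; exact (extCo_comp_extClass adj hS hRS e).symm)
      ((ShortComplex.ab_exact_iff_function_exact _).mp
        (Ext.covariant_sequence_exact₃' A hRS n (n + 1) rfl))
      ((ShortComplex.ab_exact_iff_function_exact _).mp
        (Ext.covariant_sequence_exact₃' (L.obj A) hS n (n + 1) rfl))
      (hn _ hI).surjective (hn _ hQ)
      (fun x₁ ↦ Ext.covariant_sequence_exact₁ _ hRS x₁ (by subsingleton) rfl)
      (fun y₁ ↦ Ext.covariant_sequence_exact₁ _ hS y₁ (by subsingleton) rfl)

end CoAdj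

end Groth.Agent.H7.EX
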