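import Mathlib
import Groth.Prelude.Def_EtLim
import Groth.Agent.Lib.Helper7.EX4
import Groth.Agent.Lib.Helper7.ES1

set_option autoImplicit false

universe u

open CategoryTheory CategoryTheory.Limits Opposite AlgebraicGeometry CategoryTheory.Abelian

namespace Groth.Agent.H7.ES

open Groth.Agent.H7.EX

section

variable {C : Type*} [Category C] [Abelian C] [HasExt C]

/-- Precomposition with an isomorphism is bijective on `Ext`. -/
lemma ext_precomp_iso_bijective {A A' B : C} (e : A' ≅ A) (n : ℕ) :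
    Function.Bijective (fun y : Ext A B n => (Ext.mk₀ e.hom).comp y (zero_add n)) := by
  have h1 : ∀ y : Ext A B n,
      (Ext.mk₀ e.inv).comp ((Ext.mk₀ e.hom).comp y (zero_add n)) (zero_add n) = y := by
    intro y
    rw [← Ext.comp_assoc _ _ _ (zero_add 0) (zero_add n) (by omega), Ext.mk₀_comp_mk₀,
      e.inv_hom_id, Ext.mk₀_id_comp]
  have h2 : ∀ y : Ext A' B n,
      (Ext.mk₀ e.hom).comp ((Ext.mk₀ e.inv).comp y (zero_add n)) (zero_add n) = y := by
    intro y
    rw [← Ext.comp_assoc _ _ _ (zero_add 0) (zero_add n) (by omega), Ext.mk₀_comp_mk₀,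
      e.hom_inv_id, Ext.mk₀_id_comp]
  refine ⟨fun a b hab => ?_, fun y => ⟨(Ext.mk₀ e.inv).comp y (zero_add n), h2 y⟩⟩
  have := congrArg (fun z => (Ext.mk₀ e.inv).comp z (zero_add n)) hab
  simpa [h1] using this

end

variable {X Y : Scheme.{u}} (f : X ⟶ Y)

theorem S14451_main [PreservesFiniteLimits (EtCoh.pull f)] (F : EtCoh.Ab X)
    (hR : ∀ q : ℕ, 0 < q → IsZero ((EtCoh.Rpush f q).obj F)) (p : ℕ) :
    Function.Bijective (EtLim.HofPush f F p) := by
  have hb := extCo_bijective (EtCoh.pullPushAdj f)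
    ((constantSheaf Y.smallEtaleTopology AddCommGrpCat.{u + 1}).obj
      (AddCommGrpCat.of (ULift.{u + 1} ℤ))) F hR p
  have hpre := ext_precomp_iso_bijective (B := F) (EtCore.pullConst f ℤ).symm p
  have h : ⇑(EtLim.HofPush f F p) =
      (fun y => (Ext.mk₀ (EtCore.pullConst f ℤ).symm.hom).comp y (zero_add p)) ∘
        ⇑(extCo (EtCoh.pullPushAdj f) _ F p) := by
    ext x
    change ((Ext.mk₀ (EtCore.pullConst f ℤ).inv).comp
      ((x.mapExactFunctor (EtCoh.pull f))) (zero_add p)).comp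
        (Ext.mk₀ ((EtCoh.pullPushAdj f).counit.app F)) (add_zero p) = _
    exact Ext.comp_assoc _ _ _ (zero_add p) (add_zero p) (by omega)
  rw [h]
  exact hpre.comp hb

end Groth.Agent.H7.ES
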