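import Mathlib
import Groth.Prelude.Def_EtShriek2
import Groth.Agent.Lib.Helper7.ES1
import Groth.Agent.Lib.Helper7.ES2

set_option autoImplicit false

universe u

open CategoryTheory CategoryTheory.Limits Opposite AlgebraicGeometry

namespace Groth.Agent.H7.ES

theorem S623_main {X Y Z : Scheme.{u}} (f : X ⟶ Y) (g : Y ⟶ Z) (I : EtCoh.Ab X)
    [Injective I] (q : ℕ) (hq : 1 ≤ q) :
    (∀ V : Y.Etale, Subsingleton (EtCoh.H V.left ((EtCoh.pull V.hom).obj ((EtCoh.push f).obj I)) q)) ∧
    IsZero ((EtCoh.Rpush g q).obj ((EtCoh.push f).obj I)) := by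
  obtain ⟨n, rfl⟩ : ∃ n, q = n + 1 := ⟨q - 1, by omega⟩
  haveI : Injective ((EtCoh.push f).obj I) := Functor.injective_obj _ _
  constructor
  · intro V
    haveI : Injective ((EtCoh.pull V.hom).obj ((EtCoh.push f).obj I)) :=
      pull_injective_of_etale V.hom _
    infer_instance
  · exact Functor.isZero_rightDerived_obj_injective_succ _ n _

end Groth.Agent.H7.ES
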