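import Mathlib

/-! # Eilenberg–Watts: right exact coproduct preserving functors between module categories -/

universe u
open CategoryTheory CategoryTheory.Limits TensorProduct

namespace Groth.Agent.H7.EW

variable {A B : Type u} [CommRing A] [CommRing B]
variable (F : ModuleCat.{u} A ⥤ ModuleCat.{u} B) [F.Additive]

/-- `ρ_m : A ⟶ M`, `a ↦ a • m`. -/
noncomputable def rho {M : ModuleCat.{u} A} (m : M) : ModuleCat.of A A ⟶ M :=
  ModuleCat.ofHom (LinearMap.toSpanSingleton A M m)

@[simp] lemma rho_apply {M : ModuleCat.{u} A} (m : M) (a : A) :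
    (rho m).hom a = a • m := rfl

lemma rho_add {M : ModuleCat.{u} A} (m m' : M) : rho (m + m') = rho m + rho m' := by
  ext; simp [rho]

lemma rho_comp {M N : ModuleCat.{u} A} (m : M) (f : M ⟶ N) : rho m ≫ f = rho (f.hom m) := by
  ext; simp [rho]

lemma smul_id_comp_rho {M : ModuleCat.{u} A} (a : A) (m : M) :
    (a • 𝟙 (ModuleCat.of A A)) ≫ rho m = rho (a • m) := by
  ext; simp [rho]

lemma rho_eq_smul_id (a : A) : rho (M := ModuleCat.of A A) a = a • 𝟙 (ModuleCat.of A A) := by
  ext; simp [rho]

/-- The module `K = F(A)`. -/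
def KK : Type u := F.obj (ModuleCat.of A A)

noncomputable instance : AddCommGroup (KK F) :=
  inferInstanceAs (AddCommGroup (F.obj (ModuleCat.of A A)))
noncomputable instance : Module B (KK F) :=
  inferInstanceAs (Module B (F.obj (ModuleCat.of A A)))

lemma smul_id_comp (a b : A) :
    (a • 𝟙 (ModuleCat.of A A)) ≫ (b • 𝟙 (ModuleCat.of A A)) = (a * b) • 𝟙 (ModuleCat.of A A) := by
  ext; simp [mul_comm]

noncomputable instance modA : Module A (KK F) where
  smul a x := (F.map (a • 𝟙 (ModuleCat.of A A))).hom x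
  one_smul x := by
    change (F.map ((1 : A) • 𝟙 (ModuleCat.of A A))).hom x = x
    rw [one_smul, CategoryTheory.Functor.map_id]; rfl
  mul_smul a b x := by
    change (F.map ((a * b) • 𝟙 (ModuleCat.of A A))).hom x =
      (F.map (a • 𝟙 (ModuleCat.of A A))).hom ((F.map (b • 𝟙 (ModuleCat.of A A))).hom x)
    rw [mul_comm, ← smul_id_comp, CategoryTheory.Functor.map_comp]; rfl
  smul_zero a := map_zero _
  smul_add a x y := map_add _ _ _
  add_smul a b x := by
    change (F.map ((a + b) • 𝟙 (ModuleCat.of A A))).hom x =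
      (F.map (a • 𝟙 (ModuleCat.of A A))).hom x + (F.map (b • 𝟙 (ModuleCat.of A A))).hom x
    rw [add_smul, F.map_add]; rfl
  zero_smul x := by
    change (F.map ((0 : A) • 𝟙 (ModuleCat.of A A))).hom x = 0
    rw [zero_smul, F.map_zero]; rfl

lemma smulA_def (a : A) (x : KK F) :
    a • x = (F.map (a • 𝟙 (ModuleCat.of A A))).hom x := rfl

instance : SMulCommClass A B (KK F) where
  smul_comm a b x := by
    rw [smulA_def, smulA_def]
    exact map_smul _ b x

/-- The comparison map on additive groups. -/
noncomputable def thetaAdd (M : ModuleCat.{u} A) : KK F ⊗[A] M →+ F.obj M :=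
  TensorProduct.liftAddHom
    { toFun := fun k =>
        { toFun := fun m => (F.map (rho m)).hom k
          map_zero' := by
            have : rho (0 : M) = 0 := by ext; simp [rho]
            rw [this, F.map_zero]; rfl
          map_add' := fun m m' => by rw [rho_add, F.map_add]; rfl }
      map_zero' := by
        ext m
        change (F.map (rho m)).hom 0 = 0
        exact map_zero _
      map_add' := fun k k' => by
        ext m
        change (F.map (rho m)).hom (k + k') = (F.map (rho m)).hom k + (F.map (rho m)).hom k'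
        exact map_add _ _ _ }
    (fun a k m => by
      change (F.map (rho m)).hom (a • k) = (F.map (rho (a • m))).hom k
      rw [smulA_def, ← smul_id_comp_rho, CategoryTheory.Functor.map_comp]; rfl)

@[simp] lemma thetaAdd_tmul (M : ModuleCat.{u} A) (k : KK F) (m : M) :
    thetaAdd F M (k ⊗ₜ m) = (F.map (rho m)).hom k := rfl

/-- The comparison map `K ⊗_A M → F(M)`, `B`-linear. -/
noncomputable def theta (M : ModuleCat.{u} A) : KK F ⊗[A] M →ₗ[B] F.obj M where
  toFun := thetaAdd F M
  map_add' := map_add _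
  map_smul' b x := by
    induction x using TensorProduct.induction_on with
    | zero => simp
    | tmul k m =>
      rw [TensorProduct.smul_tmul', thetaAdd_tmul, thetaAdd_tmul]
      exact map_smul _ b k
    | add x y hx hy => simp only [smul_add, map_add, hx, hy]

@[simp] lemma theta_tmul (M : ModuleCat.{u} A) (k : KK F) (m : M) :
    theta F M (k ⊗ₜ m) = (F.map (rho m)).hom k := rfl

lemma theta_naturality {M N : ModuleCat.{u} A} (f : M ⟶ N) (x : KK F ⊗[A] M) :
    theta F N (LinearMap.lTensor (KK F) f.hom x) = (F.map f).hom (theta F M x) := by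
  induction x using TensorProduct.induction_on with
  | zero => simp
  | tmul k m =>
    rw [LinearMap.lTensor_tmul, theta_tmul, theta_tmul, ← rho_comp, CategoryTheory.Functor.map_comp]
    rfl
  | add x y hx hy => simp only [map_add, hx, hy]

lemma theta_self_apply (x : KK F ⊗[A] (ModuleCat.of A A)) :
    theta F (ModuleCat.of A A) x = TensorProduct.rid A (KK F) x := by
  induction x using TensorProduct.induction_on with
  | zero => exact (map_zero _).trans (map_zero _).symm
  | tmul k a =>
    rw [theta_tmul, rho_eq_smul_id]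
    exact (TensorProduct.rid_tmul (R := A) k a).symm
  | add x y hx hy =>
    rw [map_add, map_add, hx, hy]
    rfl

lemma theta_self_bijective : Function.Bijective (theta F (ModuleCat.of A A)) := by
  have h : (theta F (ModuleCat.of A A) : _ → _) = fun x => TensorProduct.rid A (KK F) x :=
    funext (theta_self_apply F)
  rw [h]
  exact (TensorProduct.rid A (KK F)).bijective


section free

variable (I : Type u)

/-- The coproduct cofan of copies of `A`. -/
noncomputable def finsuppCofan : Cofan (fun _ : I => ModuleCat.of A A) :=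
  Cofan.mk (ModuleCat.of A (I →₀ A)) (fun i => ModuleCat.ofHom (Finsupp.lsingle i))

noncomputable def isColimitFinsuppCofan : IsColimit (finsuppCofan (A := A) I) :=
  mkCofanColimit _
    (fun s => ModuleCat.ofHom (Finsupp.lsum ℕ (fun i => (s.inj i).hom)))
    (fun s i => by
      ext : 1
      change (Finsupp.lsum ℕ (fun i => (s.inj i).hom)) ∘ₗ (Finsupp.lsingle i) = (s.inj i).hom
      ext
      simp)
    (fun s m hm => by
      ext : 1
      apply Finsupp.lhom_ext'
      intro i
      have h := congrArg ModuleCat.Hom.hom (hm i)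
      change m.hom ∘ₗ (Finsupp.lsingle i) = (s.inj i).hom at h
      refine h.trans ?_
      ext
      change _ = (Finsupp.lsum ℕ fun i => (s.inj i).hom) (Finsupp.single i 1)
      simp)

lemma rho_single_one (i : I) :
    rho (M := ModuleCat.of A (I →₀ A)) (Finsupp.single i (1 : A)) =
      ModuleCat.ofHom (Finsupp.lsingle i) := by
  ext a
  simp [rho]

lemma rho_single (i : I) (a : A) :
    rho (M := ModuleCat.of A (I →₀ A)) (Finsupp.single i a) =
      (a • 𝟙 (ModuleCat.of A A)) ≫ ModuleCat.ofHom (Finsupp.lsingle i) := by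
  ext x
  simp [rho, mul_comm]

/-- The legs `K → K ⊗ (I →₀ A)`. -/
noncomputable def leg (i : I) : F.obj (ModuleCat.of A A) ⟶ ModuleCat.of B (KK F ⊗[A] (I →₀ A)) :=
  ModuleCat.ofHom
    { toFun := fun k => (show KK F from k) ⊗ₜ[A] Finsupp.single i (1 : A)
      map_add' := fun k k' => TensorProduct.add_tmul _ _ _
      map_smul' := fun b k => (TensorProduct.smul_tmul' b (show KK F from k) _).symm }

lemma leg_apply (i : I) (k : F.obj (ModuleCat.of A A)) :
    (leg F I i).hom k = (show KK F from k) ⊗ₜ[A] Finsupp.single i (1 : A) := rfl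

/-- The cocone with point `K ⊗ (I →₀ A)`. -/
noncomputable def tensorCocone : Cocone (Discrete.functor (fun _ : I => ModuleCat.of A A) ⋙ F) where
  pt := ModuleCat.of B (KK F ⊗[A] (I →₀ A))
  ι := Discrete.natTrans (fun i => leg F I i.as)

variable [∀ J : Type u, PreservesColimitsOfShape (Discrete J) F]

/-- The inverse map. -/
noncomputable def psi : F.obj (ModuleCat.of A (I →₀ A)) ⟶ ModuleCat.of B (KK F ⊗[A] (I →₀ A)) :=
  (isColimitOfPreserves F (isColimitFinsuppCofan (A := A) I)).desc (tensorCocone F I)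

lemma map_lsingle_psi (i : I) :
    F.map (ModuleCat.ofHom (Finsupp.lsingle (R := A) (M := A) i)) ≫ psi F I = leg F I i :=
  (isColimitOfPreserves F (isColimitFinsuppCofan (A := A) I)).fac (tensorCocone F I) ⟨i⟩

lemma psi_map_lsingle_apply (i : I) (k : F.obj (ModuleCat.of A A)) :
    (psi F I).hom ((F.map (ModuleCat.ofHom (Finsupp.lsingle (R := A) (M := A) i))).hom k) =
      (show KK F from k) ⊗ₜ[A] Finsupp.single i (1 : A) := by
  have h := congrArg (fun f => f.hom k) (map_lsingle_psi F I i)
  exact h

lemma psi_theta : psi F I ≫ ModuleCat.ofHom (theta F (ModuleCat.of A (I →₀ A))) = 𝟙 _ := by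
  apply (isColimitOfPreserves F (isColimitFinsuppCofan (A := A) I)).hom_ext
  rintro ⟨i⟩
  change F.map (ModuleCat.ofHom (Finsupp.lsingle i)) ≫ psi F I ≫ _ =
    F.map (ModuleCat.ofHom (Finsupp.lsingle i)) ≫ 𝟙 _
  rw [← Category.assoc, map_lsingle_psi, Category.comp_id]
  ext k
  change theta F (ModuleCat.of A (I →₀ A)) ((show KK F from k) ⊗ₜ[A] Finsupp.single i (1 : A)) = _
  rw [theta_tmul, rho_single_one]

lemma theta_psi_apply (z : KK F ⊗[A] (I →₀ A)) :
    (psi F I).hom (theta F (ModuleCat.of A (I →₀ A)) z) = z := by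
  induction z using TensorProduct.induction_on with
  | zero => rw [map_zero, map_zero]
  | tmul k p =>
    induction p using Finsupp.induction_linear with
    | zero => rw [TensorProduct.tmul_zero, map_zero, map_zero]
    | add p p' hp hp' => rw [TensorProduct.tmul_add, map_add, map_add, hp, hp']
    | single i a =>
      rw [theta_tmul, rho_single, CategoryTheory.Functor.map_comp]
      change (psi F I).hom ((F.map (ModuleCat.ofHom (Finsupp.lsingle i))).hom
        ((F.map (a • 𝟙 (ModuleCat.of A A))).hom k)) = _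
      rw [psi_map_lsingle_apply]
      change (a • k) ⊗ₜ[A] Finsupp.single i (1 : A) = _
      rw [TensorProduct.smul_tmul, Finsupp.smul_single, smul_eq_mul, mul_one]
  | add x y hx hy => rw [map_add, map_add, hx, hy]

lemma theta_free_bijective : Function.Bijective (theta F (ModuleCat.of A (I →₀ A))) := by
  rw [Function.bijective_iff_has_inverse]
  refine ⟨(psi F I).hom, fun z => theta_psi_apply F I z, fun y => ?_⟩
  have h := congrArg (fun f => f.hom y) (psi_theta F I)
  exact h

end free


section general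

variable [PreservesFiniteColimits F] [∀ J : Type u, PreservesColimitsOfShape (Discrete J) F]

lemma exact_map {M' M'' M : ModuleCat.{u} A} (q : M' ⟶ M'') (p : M'' ⟶ M)
    (hex : Function.Exact q.hom p.hom) (hp : Function.Surjective p.hom) :
    Function.Exact (F.map q).hom (F.map p).hom ∧ Function.Surjective (F.map p).hom := by
  have w : q ≫ p = 0 := by
    ext x
    exact hex.apply_apply_eq_zero x
  let S := ShortComplex.mk q p w
  have hS : S.Exact := (ShortComplex.ShortExact.moduleCat_exact_iff_function_exact S).2 hex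
  have hE : Epi S.g := (ModuleCat.epi_iff_surjective _).2 hp
  have t : PreservesFiniteColimits F ↔ ∀ (S : ShortComplex (ModuleCat.{u} A)),
      S.Exact ∧ Epi S.g → (S.map F).Exact ∧ Epi (F.map S.g) :=
    (Functor.preservesFiniteColimits_tfae F).out 3 1
  have h := t.1 inferInstance S ⟨hS, hE⟩
  refine ⟨(ShortComplex.ShortExact.moduleCat_exact_iff_function_exact (S.map F)).1 h.1, ?_⟩
  exact (ModuleCat.epi_iff_surjective _).1 h.2

theorem theta_bijective (M : ModuleCat.{u} A) : Function.Bijective (theta F M) := by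
  -- a presentation of `M`
  let p : (M →₀ A) →ₗ[A] M := Finsupp.linearCombination A id
  have hp : Function.Surjective p := Finsupp.linearCombination_id_surjective A M
  let N : Submodule A (M →₀ A) := LinearMap.ker p
  let q : (N →₀ A) →ₗ[A] (M →₀ A) := Finsupp.linearCombination A (fun n : N => (n : M →₀ A))
  have hq : LinearMap.range q = LinearMap.ker p := by
    rw [Finsupp.range_linearCombination, Subtype.range_coe_subtype]
    exact Submodule.span_eq N
  have hex : Function.Exact q p := (LinearMap.exact_iff).2 hq.symm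
  obtain ⟨hFex, hFp⟩ := exact_map F (ModuleCat.ofHom q) (ModuleCat.ofHom p) hex hp
  have hTex : Function.Exact (LinearMap.lTensor (KK F) q) (LinearMap.lTensor (KK F) p) :=
    lTensor_exact (KK F) hex hp
  have hTp : Function.Surjective (LinearMap.lTensor (KK F) p) :=
    LinearMap.lTensor_surjective (KK F) hp
  have h1 := theta_free_bijective F N
  have h2 := theta_free_bijective F M
  have n1 := theta_naturality F (ModuleCat.ofHom q)
  have n2 := theta_naturality F (ModuleCat.ofHom p)
  constructor
  · -- injective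
    rw [injective_iff_map_eq_zero]
    intro x hx
    obtain ⟨x'', rfl⟩ := hTp x
    have e1 : (F.map (ModuleCat.ofHom p)).hom (theta F (ModuleCat.of A (M →₀ A)) x'') = 0 := by
      rw [← n2]; exact hx
    obtain ⟨y', hy'⟩ := (hFex _).1 e1
    obtain ⟨x', rfl⟩ := h1.2 y'
    have e2 : theta F (ModuleCat.of A (M →₀ A)) (LinearMap.lTensor (KK F) q x') =
        theta F (ModuleCat.of A (M →₀ A)) x'' := by
      rw [← hy']; exact n1 x'
    have e3 := h2.1 e2
    rw [← e3]
    exact hTex.apply_apply_eq_zero x'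
  · intro y
    obtain ⟨y'', rfl⟩ := hFp y
    obtain ⟨x'', rfl⟩ := h2.2 y''
    exact ⟨LinearMap.lTensor (KK F) p x'', n2 x''⟩

/-- The Eilenberg–Watts isomorphism. -/
noncomputable def eta (M : ModuleCat.{u} A) : (KK F ⊗[A] M) ≃ₗ[B] F.obj M :=
  LinearEquiv.ofBijective (theta F M) (theta_bijective F M)

@[simp] lemma eta_apply (M : ModuleCat.{u} A) (x : KK F ⊗[A] M) : eta F M x = theta F M x := rfl

end general


section nattrans

variable [PreservesFiniteColimits F] [∀ J : Type u, PreservesColimitsOfShape (Discrete J) F]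
variable (F' : ModuleCat.{u} A ⥤ ModuleCat.{u} B) [F'.Additive]

lemma natTrans_ext (t t' : F ⟶ F')
    (h : t.app (ModuleCat.of A A) = t'.app (ModuleCat.of A A)) : t = t' := by
  ext M y
  obtain ⟨z, rfl⟩ := (theta_bijective F M).2 y
  induction z using TensorProduct.induction_on with
  | zero => rw [map_zero, map_zero, map_zero]
  | tmul k m =>
    rw [theta_tmul]
    have n1 := congrArg (fun f => f.hom k) (t.naturality (rho m))
    have n2 := congrArg (fun f => f.hom k) (t'.naturality (rho m))
    have n3 : (F'.map (rho m)).hom ((t.app (ModuleCat.of A A)).hom k) =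
        (F'.map (rho m)).hom ((t'.app (ModuleCat.of A A)).hom k) := by rw [h]
    exact n1.trans (n3.trans n2.symm)
  | add x y hx hy => rw [map_add, map_add, map_add, hx, hy]

variable {F F'}

/-- `φ` as an `A`-linear map. -/
noncomputable def phiA (φ : F.obj (ModuleCat.of A A) ⟶ F'.obj (ModuleCat.of A A))
    (hφ : ∀ a : A, F.map (a • 𝟙 (ModuleCat.of A A)) ≫ φ = φ ≫ F'.map (a • 𝟙 (ModuleCat.of A A))) :
    KK F →ₗ[A] KK F' where
  toFun := φ.hom
  map_add' := map_add _
  map_smul' a k := congrArg (fun f => f.hom k) (hφ a)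

/-- `φ ⊗ M`, as a `B`-linear map. -/
noncomputable def Phi (φ : F.obj (ModuleCat.of A A) ⟶ F'.obj (ModuleCat.of A A))
    (hφ : ∀ a : A, F.map (a • 𝟙 (ModuleCat.of A A)) ≫ φ = φ ≫ F'.map (a • 𝟙 (ModuleCat.of A A)))
    (M : ModuleCat.{u} A) : KK F ⊗[A] M →ₗ[B] KK F' ⊗[A] M where
  toFun := LinearMap.rTensor M (phiA φ hφ)
  map_add' := map_add _
  map_smul' b x := by
    induction x using TensorProduct.induction_on with
    | zero => simp
    | tmul k m =>
      rw [TensorProduct.smul_tmul', LinearMap.rTensor_tmul, LinearMap.rTensor_tmul,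
        RingHom.id_apply, TensorProduct.smul_tmul']
      congr 1
      exact map_smul φ.hom b k
    | add x y hx hy => simp only [smul_add, map_add, hx, hy]

lemma Phi_tmul (φ : F.obj (ModuleCat.of A A) ⟶ F'.obj (ModuleCat.of A A))
    (hφ : ∀ a : A, F.map (a • 𝟙 (ModuleCat.of A A)) ≫ φ = φ ≫ F'.map (a • 𝟙 (ModuleCat.of A A)))
    (M : ModuleCat.{u} A) (k : KK F) (m : M) :
    Phi φ hφ M (k ⊗ₜ m) = (show KK F' from φ.hom k) ⊗ₜ m := rfl

lemma Phi_naturality (φ : F.obj (ModuleCat.of A A) ⟶ F'.obj (ModuleCat.of A A))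
    (hφ : ∀ a : A, F.map (a • 𝟙 (ModuleCat.of A A)) ≫ φ = φ ≫ F'.map (a • 𝟙 (ModuleCat.of A A)))
    {M N : ModuleCat.{u} A} (f : M ⟶ N) (z : KK F ⊗[A] M) :
    Phi φ hφ N (LinearMap.lTensor (KK F) f.hom z) =
      LinearMap.lTensor (KK F') f.hom (Phi φ hφ M z) := by
  induction z using TensorProduct.induction_on with
  | zero => simp
  | tmul k m => rfl
  | add x y hx hy => simp only [map_add, hx, hy]

/-- The natural transformation attached to `φ`. -/
noncomputable def natOfPhi (φ : F.obj (ModuleCat.of A A) ⟶ F'.obj (ModuleCat.of A A))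
    (hφ : ∀ a : A, F.map (a • 𝟙 (ModuleCat.of A A)) ≫ φ = φ ≫ F'.map (a • 𝟙 (ModuleCat.of A A))) :
    F ⟶ F' where
  app M := ModuleCat.ofHom ((theta F' M) ∘ₗ (Phi φ hφ M) ∘ₗ (eta F M).symm.toLinearMap)
  naturality M N f := by
    ext y
    obtain ⟨z, rfl⟩ := (theta_bijective F M).2 y
    change theta F' N (Phi φ hφ N ((eta F N).symm ((F.map f).hom (theta F M z)))) =
      (F'.map f).hom (theta F' M (Phi φ hφ M ((eta F M).symm (theta F M z))))
    rw [← theta_naturality, ← eta_apply F N, LinearEquiv.symm_apply_apply, ← eta_apply F M,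
      LinearEquiv.symm_apply_apply, Phi_naturality, theta_naturality]

lemma natOfPhi_app_theta (φ : F.obj (ModuleCat.of A A) ⟶ F'.obj (ModuleCat.of A A))
    (hφ : ∀ a : A, F.map (a • 𝟙 (ModuleCat.of A A)) ≫ φ = φ ≫ F'.map (a • 𝟙 (ModuleCat.of A A)))
    (M : ModuleCat.{u} A) (z : KK F ⊗[A] M) :
    ((natOfPhi φ hφ).app M).hom (theta F M z) = theta F' M (Phi φ hφ M z) := by
  change theta F' M (Phi φ hφ M ((eta F M).symm (theta F M z))) = _
  rw [← eta_apply F M, LinearEquiv.symm_apply_apply]

lemma rho_one : rho (M := ModuleCat.of A A) (1 : A) = 𝟙 _ := by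
  ext; simp [rho]

lemma natOfPhi_app_self (φ : F.obj (ModuleCat.of A A) ⟶ F'.obj (ModuleCat.of A A))
    (hφ : ∀ a : A, F.map (a • 𝟙 (ModuleCat.of A A)) ≫ φ = φ ≫ F'.map (a • 𝟙 (ModuleCat.of A A))) :
    (natOfPhi φ hφ).app (ModuleCat.of A A) = φ := by
  ext k
  have h := natOfPhi_app_theta φ hφ (ModuleCat.of A A) ((show KK F from k) ⊗ₜ (1 : A))
  rw [theta_tmul, Phi_tmul, theta_tmul, rho_one, CategoryTheory.Functor.map_id,
    CategoryTheory.Functor.map_id] at h
  exact h

end nattrans

section linear

open scoped ModuleCat.Algebra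

variable {R : Type u} [CommRing R] [Algebra R A] [Algebra R B] [F.Linear R]

lemma algebraMap_smul_aux (r : R) (y : F.obj (ModuleCat.of A A)) :
    (F.map ((algebraMap R A r) • 𝟙 (ModuleCat.of A A))).hom y = algebraMap R B r • y := by
  have e2 := CategoryTheory.Functor.map_smul F r (𝟙 (ModuleCat.of A A))
  have e3 : F.map ((algebraMap R A r) • 𝟙 (ModuleCat.of A A)) =
      r • F.map (𝟙 (ModuleCat.of A A)) := by
    rw [← e2]
    congr 1
  rw [e3, CategoryTheory.Functor.map_id]
  rfl

lemma algebraMap_smul_eq (r : R) (x : KK F) : algebraMap R A r • x = algebraMap R B r • x :=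
  algebraMap_smul_aux F r x

end linear

open scoped ModuleCat.Algebra in
theorem main (R : Type u) [CommRing R] (A B : Type u) [CommRing A] [CommRing B] [Algebra R A]
    [Algebra R B]
    (F F' : ModuleCat.{u} A ⥤ ModuleCat.{u} B) [F.Additive] [F.Linear R] [F'.Additive] [F'.Linear R]
    [PreservesFiniteColimits F] [∀ J : Type u, PreservesColimitsOfShape (Discrete J) F]
    [PreservesFiniteColimits F'] [∀ J : Type u, PreservesColimitsOfShape (Discrete J) F'] :
    (∃ (K : Type u) (_ : AddCommGroup K) (_ : Module A K) (_ : Module B K) (_ : SMulCommClass A B K),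
      (∀ (r : R) (x : K), algebraMap R A r • x = algebraMap R B r • x) ∧
      ∃ η : ∀ M : ModuleCat.{u} A, (K ⊗[A] M) ≃ₗ[B] F.obj M,
        ∀ (M N : ModuleCat.{u} A) (f : M ⟶ N) (x : K ⊗[A] M),
          η N (LinearMap.lTensor K f.hom x) = F.map f (η M x)) ∧
    (∀ t t' : F ⟶ F', t.app (ModuleCat.of A A) = t'.app (ModuleCat.of A A) → t = t') ∧
    (∀ φ : F.obj (ModuleCat.of A A) ⟶ F'.obj (ModuleCat.of A A),
      (∃ t : F ⟶ F', t.app (ModuleCat.of A A) = φ) ↔
        ∀ a : A, F.map (a • 𝟙 (ModuleCat.of A A)) ≫ φ = φ ≫ F'.map (a • 𝟙 (ModuleCat.of A A))) := by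
  refine ⟨⟨KK F, inferInstance, inferInstance, inferInstance, inferInstance,
    fun r x => algebraMap_smul_eq F r x, fun M => eta F M, fun M N f x => ?_⟩,
    fun t t' h => natTrans_ext F F' t t' h, fun φ => ⟨?_, fun hφ => ?_⟩⟩
  · exact theta_naturality F f x
  · rintro ⟨t, rfl⟩ a
    exact t.naturality _
  · exact ⟨natOfPhi φ hφ, natOfPhi_app_self φ hφ⟩

end Groth.Agent.H7.EW
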