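import Mathlib

open CategoryTheory CategoryTheory.Limits TensorProduct

namespace Groth.Agent.H7.EW3

universe u

variable (K : Type u) [Field K]

/-- `θ_x : K ⟶ V`. -/
noncomputable def θ (V : FGModuleCat.{u} K) (x : V) : FGModuleCat.of K K ⟶ V :=
  ObjectProperty.homMk (ModuleCat.ofHom (LinearMap.toSpanSingleton K V x))

lemma θ_hom_apply (V : FGModuleCat.{u} K) (x : V) (a : K) : (θ K V x).hom.hom a = a • x := rfl

lemma θ_add (V : FGModuleCat.{u} K) (x y : V) : θ K V (x + y) = θ K V x + θ K V y := by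
  apply FGModuleCat.hom_ext; apply LinearMap.ext_ring
  change (1 : K) • (x + y) = (1 : K) • x + (1 : K) • y
  simp

lemma θ_smul (V : FGModuleCat.{u} K) (a : K) (x : V) : θ K V (a • x) = a • θ K V x := by
  apply FGModuleCat.hom_ext; apply LinearMap.ext_ring
  change (1 : K) • (a • x) = a • ((1 : K) • x)
  simp

lemma θ_comp {V W : FGModuleCat.{u} K} (f : V ⟶ W) (x : V) :
    θ K V x ≫ f = θ K W (f.hom.hom x) := by
  apply FGModuleCat.hom_ext; apply LinearMap.ext_ring
  change f.hom.hom ((1 : K) • x) = (1 : K) • f.hom.hom x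
  simp

lemma θ_self (a : K) : θ K (FGModuleCat.of K K) a = a • 𝟙 _ := by
  apply FGModuleCat.hom_ext; apply LinearMap.ext_ring
  change (1 : K) • a = a • (1 : K)
  simp

variable (L : FGModuleCat.{u} K ⥤ ModuleCat.{u} K) [L.Additive] [Functor.Linear K L]

/-- comparison map -/
noncomputable def t (V : FGModuleCat.{u} K) :
    (L.obj (FGModuleCat.of K K)) ⊗[K] V →ₗ[K] L.obj V :=
  TensorProduct.lift (LinearMap.mk₂ K (fun k x => (L.map (θ K V x)).hom k)
    (fun k k' x => map_add _ _ _)
    (fun a k x => map_smul _ _ _)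
    (fun k x y => by rw [θ_add, L.map_add]; rfl)
    (fun a k x => by rw [θ_smul, L.map_smul]; rfl))

@[simp] lemma t_tmul (V : FGModuleCat.{u} K) (k : L.obj (FGModuleCat.of K K)) (x : V) :
    t K L V (k ⊗ₜ x) = (L.map (θ K V x)).hom k := rfl

lemma t_natural {V W : FGModuleCat.{u} K} (f : V ⟶ W) (z : (L.obj (FGModuleCat.of K K)) ⊗[K] V) :
    t K L W (LinearMap.lTensor _ f.hom.hom z) = (L.map f).hom (t K L V z) := by
  induction z using TensorProduct.induction_on with
  | zero => simp
  | tmul k x =>
    simp only [LinearMap.lTensor_tmul, t_tmul]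
    rw [← θ_comp, L.map_comp]; rfl
  | add z w hz hw => simp only [map_add, hz, hw]

theorem t_bijective (V : FGModuleCat.{u} K) : Function.Bijective (t K L V) := by
  classical
  let b := Module.finBasis K V
  let c : ∀ i, V ⟶ FGModuleCat.of K K := fun i =>
    ObjectProperty.homMk (ModuleCat.ofHom (b.coord i))
  let s : L.obj V →ₗ[K] (L.obj (FGModuleCat.of K K)) ⊗[K] V :=
    ∑ i, (TensorProduct.mk K _ V).flip (b i) ∘ₗ (L.map (c i)).hom
  have hs : ∀ y, s y = ∑ i, (L.map (c i)).hom y ⊗ₜ[K] b i := by
    intro y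
    simp [s, LinearMap.sum_apply]
  have hid : ∑ i, c i ≫ θ K V (b i) = 𝟙 V := by
    apply FGModuleCat.hom_ext; apply LinearMap.ext; intro x
    have h1 : ((∑ i, c i ≫ θ K V (b i)).hom.hom) x = ∑ i, (c i ≫ θ K V (b i)).hom.hom x := by
      have : (∑ i, c i ≫ θ K V (b i)).hom.hom = ∑ i, (c i ≫ θ K V (b i)).hom.hom := by
        let φ : (V ⟶ V) →+ (V →ₗ[K] V) :=
          { toFun := fun f => f.hom.hom, map_zero' := rfl, map_add' := fun _ _ => rfl }
        exact map_sum φ _ _
      rw [this, LinearMap.sum_apply]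
    rw [h1]
    change ∑ i, (b.coord i x) • b i = x
    simp
  have h2 : ∀ y, t K L V (s y) = y := by
    intro y
    rw [hs, map_sum]
    simp only [t_tmul]
    have : ∀ i, (L.map (θ K V (b i))).hom ((L.map (c i)).hom y) =
        (L.map (c i ≫ θ K V (b i))).hom y := by
      intro i; rw [L.map_comp]; rfl
    simp only [this]
    have h3 : ∑ i, (L.map (c i ≫ θ K V (b i))).hom y = (L.map (∑ i, c i ≫ θ K V (b i))).hom y := by
      rw [L.map_sum]
      let φ : (L.obj V ⟶ L.obj V) →+ (L.obj V →ₗ[K] L.obj V) :=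
        { toFun := fun f => f.hom, map_zero' := rfl, map_add' := fun _ _ => rfl }
      have : (∑ i, L.map (c i ≫ θ K V (b i))).hom = ∑ i, (L.map (c i ≫ θ K V (b i))).hom :=
        map_sum φ _ _
      rw [this, LinearMap.sum_apply]
    rw [h3, hid, L.map_id]; rfl
  have h1 : ∀ z, s (t K L V z) = z := by
    intro z
    induction z using TensorProduct.induction_on with
    | zero => simp
    | tmul k x =>
      rw [t_tmul, hs]
      have : ∀ i, (L.map (c i)).hom ((L.map (θ K V x)).hom k) = (b.coord i x) • k := by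
        intro i
        have e1 : (L.map (c i)).hom ((L.map (θ K V x)).hom k) = (L.map (θ K V x ≫ c i)).hom k := by
          rw [L.map_comp]; rfl
        rw [e1, θ_comp, θ_self, L.map_smul, L.map_id]
        rfl
      simp only [this]
      simp only [TensorProduct.smul_tmul]
      rw [← TensorProduct.tmul_sum]
      congr 1
      simp
    | add z w hz hw => simp only [map_add, hz, hw]
  exact ⟨Function.LeftInverse.injective h1, Function.RightInverse.surjective h2⟩

open MonoidalCategory in
theorem main :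
    Nonempty (L ≅ (ModuleCat.isFG.{u} K).ι ⋙
      MonoidalCategory.tensorLeft (L.obj (FGModuleCat.of K K))) := by
  refine ⟨(NatIso.ofComponents (fun V =>
      (LinearEquiv.ofBijective (t K L V) (t_bijective K L V)).toModuleIso) ?_).symm⟩
  intro V W f
  apply ModuleCat.hom_ext
  apply LinearMap.ext
  intro z
  exact t_natural K L f z

end Groth.Agent.H7.EW3
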