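import Mathlib
import Groth.Agent.Lib.Helper7.EW2

open CategoryTheory CategoryTheory.Limits TensorProduct

namespace Groth.Agent.H7.EW

universe u

variable {A : Type u} [CommRing A]

section Lin
variable (T : ModuleCat.{u} A ⥤ ModuleCat.{u} A) [T.Additive] [T.Linear A]

open MonoidalCategory in
/-- If all `t_M` are bijective then `T` is right exact. -/
theorem pfc_of_bijective (h : ∀ M : ModuleCat.{u} A, Function.Bijective (tLin T M)) :
    PreservesFiniteColimits T := by
  have e : tensorLeft (T.obj (ModuleCat.of A A)) ≅ T :=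
    NatIso.ofComponents (fun M => (LinearEquiv.ofBijective (tLin T M) (h M)).toModuleIso) (by
      intro M N f
      apply ModuleCat.hom_ext
      apply LinearMap.ext
      intro z
      exact t_natural T LinearMap.id (he_lin T) f z)
  have : PreservesFiniteColimits (tensorLeft (T.obj (ModuleCat.of A A))) := inferInstance
  exact preservesFiniteColimits_of_natIso e

/-- half exact + all `t_M` surjective implies all `t_M` bijective. -/
theorem bijective_of_halfExact [∀ J : Type u, PreservesColimitsOfShape (Discrete J) T]
    (hh : ∀ S : ShortComplex (ModuleCat.{u} A), S.ShortExact → (S.map T).Exact)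
    (hs : ∀ M : ModuleCat.{u} A, Function.Surjective (tLin T M)) (M : ModuleCat.{u} A) :
    Function.Bijective (tLin T M) := by
  refine ⟨?_, hs M⟩
  let L₀ : ModuleCat.{u} A := ModuleCat.of A (M →₀ A)
  let p : L₀ ⟶ M := ModuleCat.ofHom (Finsupp.linearCombination A id)
  have hp : Function.Surjective p.hom := Finsupp.linearCombination_id_surjective A M
  let N : Submodule A (M →₀ A) := LinearMap.ker p.hom
  let R : ModuleCat.{u} A := ModuleCat.of A N
  let q : R ⟶ L₀ := ModuleCat.ofHom N.subtype
  have hpq : q ≫ p = 0 := by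
    apply ModuleCat.hom_ext; apply LinearMap.ext; intro x
    exact x.2
  let S : ShortComplex (ModuleCat.{u} A) := ShortComplex.mk q p hpq
  have hS : S.Exact := by
    rw [ShortComplex.moduleCat_exact_iff_range_eq_ker]
    change LinearMap.range N.subtype = N
    simp
  have hmono : Mono S.f := (ModuleCat.mono_iff_injective _).mpr N.injective_subtype
  have hepi : Epi S.g := (ModuleCat.epi_iff_surjective _).mpr hp
  have hSE : S.ShortExact := ShortComplex.ShortExact.mk hS
  have hFS : (S.map T).Exact := hh S hSE
  have b0 := t_bijective_of_basis T LinearMap.id (he_lin T) Function.bijective_id L₀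
    (Finsupp.basisSingleOne)
  rw [injective_iff_map_eq_zero]
  intro z hz
  obtain ⟨z₀, rfl⟩ := LinearMap.lTensor_surjective (T.obj (ModuleCat.of A A)) hp z
  have h1 : (T.map p).hom (tLin T L₀ z₀) = 0 := by
    rw [← t_natural]; exact hz
  obtain ⟨w, hw⟩ := (ShortComplex.moduleCat_exact_iff _).mp hFS _ h1
  obtain ⟨z₁, rfl⟩ := hs R w
  have h2 : z₀ = LinearMap.lTensor _ q.hom z₁ := b0.1 (by
    rw [t_natural]; exact hw.symm)
  rw [h2, ← LinearMap.comp_apply, ← LinearMap.lTensor_comp]
  have h3 : p.hom ∘ₗ q.hom = 0 := by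
    have := congrArg ModuleCat.Hom.hom hpq
    simpa using this
  rw [h3, LinearMap.lTensor_zero]; rfl

theorem S4504_main [∀ J : Type u, PreservesColimitsOfShape (Discrete J) T] :
    (PreservesFiniteColimits T ↔ ∀ M : ModuleCat.{u} A, Function.Bijective (TensorProduct.lift (LinearMap.flip
        ((ModuleCat.homLinearEquiv (S := A)).toLinearMap ∘ₗ Functor.mapLinearMap A T ∘ₗ
          (ModuleCat.homLinearEquiv (S := A)).symm.toLinearMap ∘ₗ
            (LinearMap.ringLmapEquivSelf A A M).symm.toLinearMap)) :
      TensorProduct A (T.obj (ModuleCat.of A A)) M →ₗ[A] T.obj M)) ∧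
    (PreservesFiniteColimits T ↔
      (∀ S : ShortComplex (ModuleCat.{u} A), S.ShortExact → (S.map T).Exact) ∧
        ∀ M : ModuleCat.{u} A, Function.Surjective (TensorProduct.lift (LinearMap.flip
        ((ModuleCat.homLinearEquiv (S := A)).toLinearMap ∘ₗ Functor.mapLinearMap A T ∘ₗ
          (ModuleCat.homLinearEquiv (S := A)).symm.toLinearMap ∘ₗ
            (LinearMap.ringLmapEquivSelf A A M).symm.toLinearMap)) :
          TensorProduct A (T.obj (ModuleCat.of A A)) M →ₗ[A] T.obj M)) := by
  simp only [statement_map_eq T]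
  have key : PreservesFiniteColimits T → ∀ M, Function.Bijective (tLin T M) := fun h M =>
    t_bijective T LinearMap.id (he_lin T) Function.bijective_id M
  refine ⟨⟨key, pfc_of_bijective T⟩, ⟨fun h => ⟨?_, fun M => (key h M).2⟩, ?_⟩⟩
  · intro S hS
    exact hS.exact.map_of_epi_of_preservesCokernel T hS.epi_g inferInstance
  · rintro ⟨hh, hs⟩
    exact pfc_of_bijective T (bijective_of_halfExact T hh hs)

end Lin

end Groth.Agent.H7.EW
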