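import Mathlib
import Groth.Agent.Lib.Helper7.EX1

set_option autoImplicit false

universe w w' w'' v v' v'' u u' u''

open CategoryTheory CategoryTheory.Limits Abelian

namespace Groth.Agent.H7.EX

section Id

variable {C : Type u} [Category.{v} C] [Abelian C] [HasExt.{w} C] [EnoughInjectives C]

/-- The identity functor acts trivially on `Ext`. -/
theorem mapExactFunctor_id {M B : C} {n : ℕ} (e : Ext M B n) :
    e.mapExactFunctor (𝟭 C) = e := by
  induction n generalizing B with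
  | zero =>
    obtain ⟨f, rfl⟩ := (Ext.mk₀_bijective M B).2 e
    simp only [Ext.mapExactFunctor_mk₀, Functor.id_map]
  | succ n ih =>
    obtain ⟨e₀, rfl⟩ := exists_comp_extClass e
    have hS := shiftSC_shortExact B
    rw [Ext.mapExactFunctor_comp, Ext.mapExactFunctor_extClass, ih e₀]
    rfl

variable {R : C ⥤ C} [R.Additive] [PreservesFiniteLimits R] [PreservesFiniteColimits R]
  (θ : R ≅ 𝟭 C) {z : C} (c : R.obj z ≅ z)

/-- Identity law for restriction maps on `Ext`. -/
theorem restr_id (hc : c.inv ≫ θ.hom.app z = 𝟙 z) {F : C} {n : ℕ} (x : Ext z F n) :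
    ((Ext.mk₀ c.inv).comp (x.mapExactFunctor R) (zero_add n)).comp (Ext.mk₀ (θ.hom.app F))
      (add_zero n) = x := by
  rw [Ext.comp_assoc_of_third_deg_zero, mapExactFunctor_natTrans θ.hom x, mapExactFunctor_id,
    ← Ext.comp_assoc_of_second_deg_zero]
  rw [Ext.mk₀_comp_mk₀, hc, Ext.mk₀_id_comp]

end Id

section Comp

variable {C : Type u} [Category.{v} C] [Abelian C] [HasExt.{w} C] [EnoughInjectives C]
  {D : Type u'} [Category.{v'} D] [Abelian D] [HasExt.{w'} D] [EnoughInjectives D]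
  {E : Type u''} [Category.{v''} E] [Abelian E] [HasExt.{w''} E]
  {Rf : C ⥤ D} [Rf.Additive] [PreservesFiniteLimits Rf] [PreservesFiniteColimits Rf]
  {Rg : D ⥤ E} [Rg.Additive] [PreservesFiniteLimits Rg] [PreservesFiniteColimits Rg]
  {Rgf : C ⥤ E} [Rgf.Additive] [PreservesFiniteLimits Rgf] [PreservesFiniteColimits Rgf]
  (θ : Rf ⋙ Rg ≅ Rgf) {zC : C} {zD : D} {zE : E}
  (cf : Rf.obj zC ≅ zD) (cg : Rg.obj zD ≅ zE) (cgf : Rgf.obj zC ≅ zE)

/-- Composition law for restriction maps on `Ext`. -/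
theorem restr_comp (hc : cgf.inv = cg.inv ≫ Rg.map cf.inv ≫ θ.hom.app zC) {F : C} {n : ℕ}
    (x : Ext zC F n) :
    (Ext.mk₀ cgf.inv).comp (x.mapExactFunctor Rgf) (zero_add n) =
      ((Ext.mk₀ cg.inv).comp
        (((Ext.mk₀ cf.inv).comp (x.mapExactFunctor Rf) (zero_add n)).mapExactFunctor Rg)
          (zero_add n)).comp (Ext.mk₀ (θ.hom.app F)) (add_zero n) := by
  have nat := mapExactFunctor_natTrans θ.hom x
  rw [mapExactFunctor_comp_functor] at nat
  rw [Ext.mapExactFunctor_comp, Ext.mapExactFunctor_mk₀, Ext.comp_assoc_of_third_deg_zero,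
    Ext.comp_assoc_of_third_deg_zero, nat, hc, ← Ext.mk₀_comp_mk₀, ← Ext.mk₀_comp_mk₀,
    Ext.comp_assoc_of_second_deg_zero, Ext.comp_assoc_of_second_deg_zero]

end Comp

end Groth.Agent.H7.EX
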