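import Mathlib
import Groth.Agent.H4.WEtSep
import Groth.Agent.Lib.Helper1.WEt

/-!
# Helper7: PG1 — lifting geometric points along weakly étale morphisms (S0739)
-/

set_option autoImplicit false

universe u

open CategoryTheory CategoryTheory.Limits Opposite AlgebraicGeometry TensorProduct

namespace Groth.Agent.H7.PG

section Alg

variable {R S : Type u} [CommRing R] [CommRing S] [IsLocalRing R] [IsLocalRing S]
  [Algebra R S] [IsLocalHom (algebraMap R S)] [Algebra.WeaklyEtale R S]

/-- the residue field extension of a weakly étale local homomorphism is separable -/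
theorem isSeparable_residueField :
    Algebra.IsSeparable (IsLocalRing.ResidueField R) (IsLocalRing.ResidueField S) := by
  let K := IsLocalRing.ResidueField R
  let L := IsLocalRing.ResidueField S
  haveI : Algebra.WeaklyEtale K (K ⊗[R] S) := inferInstance
  haveI hsep : Algebra.IsSeparable K (K ⊗[R] S) :=
    H4.WEtSep.weaklyEtale_iff_isSeparable.1 inferInstance
  let f : S →ₐ[R] L := IsScalarTower.toAlgHom R S L
  let ψ : K ⊗[R] S →ₐ[K] L :=
    Algebra.TensorProduct.lift (Algebra.ofId K L) f (fun _ _ => Commute.all _ _)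
  refine ⟨fun l => ?_⟩
  obtain ⟨s, rfl⟩ := IsLocalRing.residue_surjective (R := S) l
  have : IsLocalRing.residue S s = ψ (1 ⊗ₜ s) := by
    simp [ψ, f]
    rfl
  rw [this]
  exact H4.WEtSep.isSeparable_map ψ (Algebra.IsSeparable.isSeparable K _)

end Alg


section Sch

lemma algebraMap_residueField_eq {R S : Type u} [CommRing R] [CommRing S] [IsLocalRing R]
    [IsLocalRing S] [Algebra R S] [IsLocalHom (algebraMap R S)] :
    algebraMap (IsLocalRing.ResidueField R) (IsLocalRing.ResidueField S) =
      IsLocalRing.ResidueField.map (algebraMap R S) := by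
  apply Ideal.Quotient.ringHom_ext
  ext x
  rfl

theorem exists_residue_lift {V U : Scheme.{u}} (g : V ⟶ U) [WeaklyEtale g] (v : V)
    {k : Type u} [Field k] [IsSepClosed k] (a : U.residueField (g v) ⟶ CommRingCat.of k) :
    ∃ b : V.residueField v ⟶ CommRingCat.of k, g.residueFieldMap v ≫ b = a := by
  letI : Algebra (U.presheaf.stalk (g v)) (V.presheaf.stalk v) := (g.stalkMap v).hom.toAlgebra
  haveI : IsLocalHom (algebraMap (U.presheaf.stalk (g v)) (V.presheaf.stalk v)) :=
    (inferInstance : IsLocalHom (g.stalkMap v).hom)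
  have h := (Groth.Agent.Lib.Helper1.WEt.weaklyEtale_SpecMap_iff' (g.stalkMap v)).1
    (Groth.Agent.Lib.Helper1.WEt.weaklyEtale_SpecMap_stalkMap g v)
  haveI : Algebra.WeaklyEtale (U.presheaf.stalk (g v)) (V.presheaf.stalk v) :=
    { flat := h.1
      flat_lmul' := h.2 }
  haveI hsep := isSeparable_residueField (R := U.presheaf.stalk (g v)) (S := V.presheaf.stalk v)
  letI : Algebra (IsLocalRing.ResidueField (U.presheaf.stalk (g v))) k := a.hom.toAlgebra
  let b : IsLocalRing.ResidueField (V.presheaf.stalk v) →ₐ[IsLocalRing.ResidueField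
      (U.presheaf.stalk (g v))] k := IsSepClosed.lift
  refine ⟨CommRingCat.ofHom b.toRingHom, ?_⟩
  ext1
  have e := b.comp_algebraMap
  rw [algebraMap_residueField_eq] at e
  exact e

theorem exists_lift_of_mem_range {V U : Scheme.{u}} (g : V ⟶ U) [WeaklyEtale g]
    {k : Type u} [Field k] [IsSepClosed k] (ξ : Spec (CommRingCat.of k) ⟶ U)
    (h : (Scheme.SpecToEquivOfField k U ξ).1 ∈ Set.range g) :
    ∃ ξ' : Spec (CommRingCat.of k) ⟶ V, ξ' ≫ g = ξ := by
  obtain ⟨⟨x, a⟩, rfl⟩ := (Scheme.SpecToEquivOfField k U).symm.surjective ξ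
  rw [Equiv.apply_symm_apply] at h
  obtain ⟨v, rfl⟩ := h
  obtain ⟨b, hb⟩ := exists_residue_lift g v a
  refine ⟨Spec.map b ≫ V.fromSpecResidueField v, ?_⟩
  rw [Category.assoc, ← Scheme.Hom.SpecMap_residueFieldMap_fromSpecResidueField,
    ← Category.assoc, ← Spec.map_comp, hb]
  rfl

end Sch

end Groth.Agent.H7.PG
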