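import Mathlib
import Groth.Agent.Lib.Helper7.PG1

/-!
# Helper7: PG2 — covering sieves of the small pro-étale site lift geometric points (S0739)
-/

set_option autoImplicit false

universe u

open CategoryTheory CategoryTheory.Limits Opposite AlgebraicGeometry

namespace Groth.Agent.H7.PG

variable {X : Scheme.{u}}

instance weaklyEtale_left {V U : X.ProEt} (g : V ⟶ U) : WeaklyEtale g.left := by
  haveI : WeaklyEtale (g.left ≫ U.hom) := by
    rw [MorphismProperty.Over.w g]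
    infer_instance
  exact WeaklyEtale.of_comp g.left U.hom

/-- the lifting property of a sieve (for all its pullbacks) -/
def Lifts (U : X.ProEt) (S : Sieve U) : Prop :=
  ∀ (Y : X.ProEt) (f : Y ⟶ U) (k : Type u) [Field k] [IsSepClosed k]
    (ξ : Spec (CommRingCat.of k) ⟶ Y.left),
    ∃ (W : X.ProEt) (h : W ⟶ Y) (ξ' : Spec (CommRingCat.of k) ⟶ W.left),
      S (h ≫ f) ∧ ξ' ≫ h.left = ξ

lemma lifts_top (U : X.ProEt) : Lifts U ⊤ :=
  fun Y f k _ _ ξ => ⟨Y, 𝟙 Y, ξ, trivial, Category.comp_id _⟩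

lemma lifts_pullback {U : X.ProEt} {S : Sieve U} (h : Lifts U S) {Y₀ : X.ProEt} (f₀ : Y₀ ⟶ U) :
    Lifts Y₀ (S.pullback f₀) := by
  intro Y f k _ _ ξ
  obtain ⟨W, h', ξ', hS, hξ⟩ := h Y (f ≫ f₀) k ξ
  refine ⟨W, h', ξ', ?_, hξ⟩
  change S ((h' ≫ f) ≫ f₀)
  rwa [Category.assoc]

lemma lifts_transitive {U : X.ProEt} {S R : Sieve U} (hS : Lifts U S)
    (hR : ∀ ⦃Y : X.ProEt⦄ ⦃f : Y ⟶ U⦄, S f → Lifts Y (R.pullback f)) : Lifts U R := by
  intro Y f k _ _ ξ
  obtain ⟨W, h, ξ', hSh, hξ⟩ := hS Y f k ξ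
  obtain ⟨W', h', ξ'', hR', hξ'⟩ := hR hSh W (𝟙 W) k ξ'
  refine ⟨W', h' ≫ h, ξ'', ?_, ?_⟩
  · have : R ((h' ≫ 𝟙 W) ≫ h ≫ f) := hR'
    rwa [Category.comp_id, ← Category.assoc] at this
  · change ξ'' ≫ (h'.left ≫ h.left) = ξ
    rw [← Category.assoc, hξ', hξ]


/-- members of a covering family of the pro-étale precoverage are jointly surjective -/
lemma exists_mem_range_of_mem_precoverage {U : X.ProEt} {R : Presieve U}
    (hR : R ∈ Scheme.ProEt.precoverage X U) (u : U.left) :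
    ∃ (V : X.ProEt) (g : V ⟶ U), R g ∧ u ∈ Set.range g.left := by
  have h1 : R.map (Scheme.ProEt.forget X ⋙ Over.forget X) ∈
      Scheme.precoverage @WeaklyEtale U.left :=
    (show Scheme.proetalePrecoverage ≤ Scheme.precoverage @WeaklyEtale from inf_le_right) _ hR
  obtain ⟨Z, g', ⟨hg⟩, hu⟩ := Scheme.JointlySurjective.exists_eq _ h1 u
  exact ⟨_, _, hg, hu⟩

lemma lifts_of {U : X.ProEt} {R : Presieve U} (hR : R ∈ Scheme.ProEt.precoverage X U) :
    Lifts U (Sieve.generate R) := by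
  intro Y f k _ _ ξ
  obtain ⟨V, g, hg, hu⟩ := exists_mem_range_of_mem_precoverage hR
    (Scheme.SpecToEquivOfField k U.left (ξ ≫ f.left)).1
  obtain ⟨ξV, hξV⟩ := exists_lift_of_mem_range g.left (ξ ≫ f.left) hu
  haveI : WeaklyEtale (pullback.snd g.left f.left ≫ Y.hom) := inferInstance
  let W : X.ProEt := Scheme.ProEt.mk (pullback.snd g.left f.left ≫ Y.hom)
  let h : W ⟶ Y := MorphismProperty.Over.homMk (pullback.snd g.left f.left) rfl
  have hV : pullback.fst g.left f.left ≫ V.hom = W.hom := by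
    have e1 : g.left ≫ U.hom = V.hom := MorphismProperty.Over.w g
    have e2 : f.left ≫ U.hom = Y.hom := MorphismProperty.Over.w f
    change _ = pullback.snd g.left f.left ≫ Y.hom
    rw [← e1, ← e2, ← Category.assoc, ← Category.assoc, pullback.condition]
  let p : W ⟶ V := MorphismProperty.Over.homMk (pullback.fst g.left f.left) hV
  have hpg : h ≫ f = p ≫ g := by
    apply MorphismProperty.Over.Hom.ext
    exact pullback.condition.symm
  refine ⟨W, h, pullback.lift ξV ξ hξV, ?_, pullback.lift_snd _ _ _⟩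
  rw [hpg]
  exact ⟨V, p, g, hg, rfl⟩

theorem lifts_of_saturate {U : X.ProEt} {S : Sieve U}
    (hS : (Scheme.ProEt.precoverage X).Saturate U S) : Lifts U S := by
  induction hS with
  | of U R hR => exact lifts_of hR
  | top U => exact lifts_top U
  | pullback U S _ Y f ih => exact lifts_pullback ih f
  | transitive U S R _ _ ihS ihR => exact lifts_transitive ihS ihR

theorem S0739_main (U : X.ProEt) (R : Sieve U)
    (hR : R ∈ Scheme.ProEt.topology X U) {k : Type u} [Field k] [IsSepClosed k]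
    (ξ : Spec (CommRingCat.of k) ⟶ U.left) :
    ∃ (V : X.ProEt) (g : V ⟶ U) (ξ' : Spec (CommRingCat.of k) ⟶ V.left),
      R g ∧ ξ' ≫ g.left = ξ := by
  obtain ⟨W, h, ξ', hS, hξ⟩ := lifts_of_saturate hR U (𝟙 U) k ξ
  rw [Category.comp_id] at hS
  exact ⟨W, h, ξ', hS, hξ⟩

end Groth.Agent.H7.PG
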