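import Mathlib
import Groth.Prelude.Def_ProEtS
import Groth.Prelude.Def_PBC
import Groth.Agent.Lib.Helper7.PG2
import Groth.Agent.Lib.Helper8.Hens.WEtSpec

/-!
# Helper7: PWC1 — affine objects of the small pro-étale site: finite affine refinements of covering
sieves, sections of weakly étale covers from w-contractibility
-/

set_option autoImplicit false

universe u

open CategoryTheory CategoryTheory.Limits Opposite AlgebraicGeometry

namespace Groth.Agent.H7.PWC

variable {X : Scheme.{u}}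

set_option backward.isDefEq.respectTransparency false in
lemma mem_topology_iff (U : X.ProEt) (R : Sieve U) :
    R ∈ Scheme.ProEt.topology X U ↔ ∃ P ∈ Scheme.ProEt.precoverage X U, P ≤ R := by
  unfold Scheme.ProEt.topology Scheme.ProEt.precoverage
  exact Precoverage.mem_toGrothendieck_iff_of_isStableUnderComposition

set_option backward.isDefEq.respectTransparency false in
lemma exists_finite_affine_refinement (U : X.ProEt) [CompactSpace U.left] (R : Sieve U)
    (hR : R ∈ Scheme.ProEt.topology X U) :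
    ∃ (n : ℕ) (V : Fin n → X.ProEt) (g : ∀ i, V i ⟶ U),
      (∀ i, IsAffine (V i).left) ∧ (∀ i, R (g i)) ∧
      (∀ x : U.left, ∃ i, x ∈ Set.range (g i).left) := by
  obtain ⟨P, hP, hPR⟩ := (mem_topology_iff U R).mp hR
  obtain ⟨ι, Y, f, rfl⟩ := P.exists_eq_ofArrows
  have hP' : Presieve.ofArrows (fun i => (Y i).left) (fun i => (f i).left) ∈
      Scheme.proetalePrecoverage U.left := by
    have := hP
    rw [Scheme.ProEt.precoverage, Precoverage.mem_comap_iff, Presieve.map_ofArrows] at this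
    exact this
  let E : PreZeroHypercover U.left := ⟨ι, fun i => (Y i).left, fun i => (f i).left⟩
  haveI : QuasiCompactCover E := Scheme.presieve₀_mem_qcPrecoverage_iff.mp hP'.1
  obtain ⟨n, a, Vo, hVo, hcov⟩ :=
    QuasiCompactCover.exists_isAffineOpen_of_isCompact E (U := ⊤) isCompact_univ
  refine ⟨n, fun i => Scheme.ProEt.mk ((Vo i).ι ≫ (Y (a i)).hom),
    fun i => (MorphismProperty.Over.homMk (Vo i).ι rfl :
      Scheme.ProEt.mk ((Vo i).ι ≫ (Y (a i)).hom) ⟶ Y (a i)) ≫ f (a i), ?_, ?_, ?_⟩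
  · intro i
    exact hVo i
  · intro i
    exact R.downward_closed (hPR _ _ (Presieve.ofArrows.mk (a i))) _
  · intro x
    have hx : x ∈ ⋃ i, (E.f (a i)) '' (Vo i) := by
      rw [hcov]; trivial
    obtain ⟨i, y, hy, rfl⟩ := Set.mem_iUnion.mp hx
    refine ⟨i, ⟨y, hy⟩, ?_⟩
    rfl

open TensorProduct in
lemma weaklyEtale_algebra_of_specMap {A B : CommRingCat.{u}} (φ : A ⟶ B)
    [WeaklyEtale (Spec.map φ)] :
    letI := φ.hom.toAlgebra; Algebra.WeaklyEtale A B := by
  letI := φ.hom.toAlgebra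
  refine ⟨?_, ?_⟩
  · have h1 : Flat (Spec.map φ) := inferInstance
    rw [Flat.SpecMap_iff] at h1
    exact RingHom.flat_algebraMap_iff.mp h1
  · have h2 : Flat (pullback.diagonal (Spec.map (CommRingCat.ofHom (algebraMap A B)))) :=
      inferInstanceAs (Flat (pullback.diagonal (Spec.map φ)))
    rw [diagonal_SpecMap A B] at h2
    have h3 : Flat (Spec.map (CommRingCat.ofHom
        (Algebra.TensorProduct.lmul' A : B ⊗[A] B →ₐ[A] B).toRingHom)) :=
      (MorphismProperty.cancel_right_of_respectsIso @Flat _ (pullbackSpecIso A B B).inv).mp h2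
    rw [Flat.SpecMap_iff] at h3
    exact h3

theorem exists_section_of_isWContractible {V Y : Scheme.{u}} [IsAffine V] [IsAffine Y]
    (p : V ⟶ Y) [WeaklyEtale p] [Surjective p] (hY : EtPBC.IsWContractible Γ(Y, ⊤)) :
    ∃ s : Y ⟶ V, s ≫ p = 𝟙 Y := by
  let φ := p.appTop
  letI := φ.hom.toAlgebra
  haveI : WeaklyEtale (Spec.map φ) :=
    (MorphismProperty.arrow_mk_iso_iff @WeaklyEtale (arrowIsoSpecΓOfIsAffine p)).mp inferInstance
  haveI : Algebra.WeaklyEtale Γ(Y, ⊤) Γ(V, ⊤) := weaklyEtale_algebra_of_specMap φ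
  have hff : Module.FaithfullyFlat Γ(Y, ⊤) Γ(V, ⊤) :=
    (Flat.flat_and_surjective_iff_faithfullyFlat_of_isAffine p).mp ⟨inferInstance, inferInstance⟩
  obtain ⟨r⟩ := hY Γ(V, ⊤) hff inferInstance
  refine ⟨Y.isoSpec.hom ≫ Spec.map (CommRingCat.ofHom r.toRingHom) ≫ V.isoSpec.inv, ?_⟩
  have h1 : φ ≫ CommRingCat.ofHom r.toRingHom = 𝟙 _ := by
    ext a
    exact r.commutes a
  rw [Category.assoc, Category.assoc, ← Scheme.isoSpec_inv_naturality,
    ← Category.assoc (Spec.map _), ← Spec.map_comp, h1, Spec.map_id, Category.id_comp,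
    Iso.hom_inv_id]

theorem isWContractible_of_sections {Y : Scheme.{u}} [IsAffine Y]
    (h : ∀ (V : Scheme.{u}) [IsAffine V] (p : V ⟶ Y) [WeaklyEtale p] [Surjective p],
      ∃ s : Y ⟶ V, s ≫ p = 𝟙 Y) :
    EtPBC.IsWContractible Γ(Y, ⊤) := by
  intro B _ _ hff hwe
  let ψ : Γ(Y, ⊤) ⟶ CommRingCat.of B := CommRingCat.ofHom (algebraMap Γ(Y, ⊤) B)
  haveI : WeaklyEtale (Spec.map ψ) := Groth.Agent.H8.Hens.weaklyEtale_SpecMap Γ(Y, ⊤) B
  haveI : Surjective (Spec.map ψ) :=
    ((flat_and_surjective_SpecMap_iff ψ).mpr (RingHom.faithfullyFlat_algebraMap_iff.mpr hff)).2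
  obtain ⟨s, hs⟩ := h (Spec (CommRingCat.of B)) (Spec.map ψ ≫ Y.isoSpec.inv)
  let r : CommRingCat.of B ⟶ Γ(Y, ⊤) := (Scheme.ΓSpecIso (CommRingCat.of B)).inv ≫ s.appTop
  have h1 : s ≫ Spec.map ψ = Y.isoSpec.hom := by
    rw [← Category.assoc, Iso.comp_inv_eq, Category.id_comp] at hs
    exact hs
  have hr : ψ ≫ r = 𝟙 _ := by
    calc ψ ≫ r = (Scheme.ΓSpecIso _).inv ≫ (Spec.map ψ).appTop ≫ s.appTop := by
          rw [← Category.assoc, Scheme.ΓSpecIso_inv_naturality, Category.assoc]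
      _ = (Scheme.ΓSpecIso _).inv ≫ (s ≫ Spec.map ψ).appTop := by rw [Scheme.Hom.comp_appTop]
      _ = 𝟙 _ := by rw [h1, Scheme.isoSpec_hom, Scheme.toSpecΓ_appTop, Iso.inv_hom_id]
  exact ⟨{ toRingHom := r.hom, commutes' := fun a => congrArg (fun t => t.hom a) hr }⟩

end Groth.Agent.H7.PWC
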