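import Mathlib
import Groth.Agent.Lib.Helper7.PWC1

/-!
# Helper7: PWC2 — the split property of covering sieves of affine w-contractible objects
-/

set_option autoImplicit false

universe u

open CategoryTheory CategoryTheory.Limits Opposite AlgebraicGeometry

namespace Groth.Agent.H7.PWC

variable {X : Scheme.{u}}

/-- the split property of a sieve: it contains the inclusions of the pieces of a finite clopen
decomposition -/
def Split (U : X.ProEt) (R : Sieve U) : Prop :=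
  ∃ (n : ℕ) (W : Fin n → U.left.Opens),
    (∀ k, IsClopen ((W k : Set ↥U.left))) ∧
    Pairwise (fun k l => Disjoint (W k : Set ↥U.left) (W l)) ∧
    (⋃ k, (W k : Set ↥U.left)) = Set.univ ∧
    ∀ k, R.arrows (MorphismProperty.Over.homMk (W k).ι :
      Scheme.ProEt.mk ((W k).ι ≫ U.hom) ⟶ U)

lemma exists_sigmaι_eq {n : ℕ} (Vs : Fin n → Scheme.{u}) (x : (∐ Vs : Scheme.{u})) :
    ∃ (l : Fin n) (y : Vs l), Sigma.ι Vs l y = x := by
  obtain ⟨l, y, hy⟩ := (sigmaOpenCover Vs).exists_eq x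
  exact ⟨l, y, hy⟩

lemma isClosed_range_sigmaι {n : ℕ} (Vs : Fin n → Scheme.{u}) (k : Fin n) :
    IsClosed (Set.range (Sigma.ι Vs k)) := by
  rw [← isOpen_compl_iff]
  have : (Set.range (Sigma.ι Vs k))ᶜ =
      ⋃ l ∈ {l : Fin n | l ≠ k}, Set.range (Sigma.ι Vs l) := by
    ext x
    simp only [Set.mem_compl_iff, Set.mem_iUnion, Set.mem_setOf_eq, exists_prop]
    constructor
    · intro hx
      obtain ⟨l, y, hy⟩ := exists_sigmaι_eq Vs x
      refine ⟨l, ?_, y, hy⟩
      rintro rfl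
      exact hx ⟨y, hy⟩
    · rintro ⟨l, hl, y, rfl⟩ ⟨z, hz⟩
      have := (sigmaι_eq_iff Vs k l z y).mp hz
      exact hl (congrArg Sigma.fst this).symm
  rw [this]
  exact isOpen_biUnion (fun l _ => (Sigma.ι Vs l).opensRange.isOpen)

set_option backward.isDefEq.respectTransparency false in
theorem split_of_isWContractible (U : X.ProEt) [IsAffine U.left]
    (hU : EtPBC.IsWContractible Γ(U.left, ⊤)) (R : Sieve U)
    (hR : R ∈ Scheme.ProEt.topology X U) : Split U R := by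
  obtain ⟨n, V, g, hV, hRg, hcov⟩ := exists_finite_affine_refinement U R hR
  let Vs : Fin n → Scheme.{u} := fun i => (V i).left
  let p : (∐ Vs : Scheme.{u}) ⟶ U.left := Sigma.desc (fun i => (g i).left)
  haveI : ∀ i, IsAffine (Vs i) := hV
  haveI : IsAffine (∐ Vs : Scheme.{u}) := inferInstance
  haveI : WeaklyEtale p := IsZariskiLocalAtSource.sigmaDesc (fun i => inferInstance)
  haveI : Surjective p := ⟨fun x => by
    obtain ⟨i, y, hy⟩ := hcov x
    refine ⟨(Sigma.ι Vs i) y, ?_⟩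
    rw [← Scheme.Hom.comp_apply, Sigma.ι_desc]
    exact hy⟩
  obtain ⟨s, hs⟩ := exists_section_of_isWContractible p hU
  refine ⟨n, fun k => s ⁻¹ᵁ (Sigma.ι Vs k).opensRange, ?_, ?_, ?_, ?_⟩
  · intro k
    exact ⟨(isClosed_range_sigmaι Vs k).preimage s.continuous,
      (s ⁻¹ᵁ (Sigma.ι Vs k).opensRange).isOpen⟩
  · intro k l hkl
    have := disjoint_opensRange_sigmaι Vs k l hkl
    rw [Set.disjoint_left]
    intro x hx hx'
    have h1 : s x ∈ (Sigma.ι Vs k).opensRange ⊓ (Sigma.ι Vs l).opensRange := ⟨hx, hx'⟩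
    rw [disjoint_iff.mp this] at h1
    exact h1
  · rw [Set.eq_univ_iff_forall]
    intro x
    obtain ⟨l, y, hy⟩ := exists_sigmaι_eq Vs (s x)
    exact Set.mem_iUnion.mpr ⟨l, y, hy⟩
  · intro k
    have hrange : Set.range ((s ⁻¹ᵁ (Sigma.ι Vs k).opensRange).ι ≫ s) ⊆
        Set.range (Sigma.ι Vs k) := by
      rintro _ ⟨y, rfl⟩
      exact y.2
    let l := IsOpenImmersion.lift (Sigma.ι Vs k) ((s ⁻¹ᵁ (Sigma.ι Vs k).opensRange).ι ≫ s) hrange
    have hl : l ≫ (g k).left = (s ⁻¹ᵁ (Sigma.ι Vs k).opensRange).ι := by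
      have h1 : Sigma.ι Vs k ≫ p = (g k).left := Sigma.ι_desc _ _
      rw [← h1, ← Category.assoc, IsOpenImmersion.lift_fac, Category.assoc, hs, Category.comp_id]
    have hw : l ≫ (V k).hom = (s ⁻¹ᵁ (Sigma.ι Vs k).opensRange).ι ≫ U.hom := by
      rw [← hl, Category.assoc, MorphismProperty.Over.w (g k)]
    let h : Scheme.ProEt.mk ((s ⁻¹ᵁ (Sigma.ι Vs k).opensRange).ι ≫ U.hom) ⟶ V k :=
      MorphismProperty.Over.homMk l hw
    have : (MorphismProperty.Over.homMk (s ⁻¹ᵁ (Sigma.ι Vs k).opensRange).ι :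
        Scheme.ProEt.mk ((s ⁻¹ᵁ (Sigma.ι Vs k).opensRange).ι ≫ U.hom) ⟶ U) = h ≫ g k := by
      apply MorphismProperty.Over.Hom.ext
      exact hl.symm
    rw [this]
    exact R.downward_closed (hRg k) h

end Groth.Agent.H7.PWC
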