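import Mathlib
import Groth.Agent.Lib.Helper7.PWC2

/-!
# Helper7: PWC3 — sheaves on finite clopen decompositions in the small pro-étale site
-/

set_option autoImplicit false

universe w u

open CategoryTheory CategoryTheory.Limits Opposite AlgebraicGeometry

namespace Groth.Agent.H7.PWC

variable {X : Scheme.{u}}

section SplitData

variable (U : X.ProEt) {n : ℕ} (W : Fin n → U.left.Opens)

/-- the pieces as objects of the site -/
noncomputable abbrev piece (k : Fin n) : X.ProEt := Scheme.ProEt.mk ((W k).ι ≫ U.hom)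

/-- the inclusion of a piece -/
noncomputable abbrev pieceι (k : Fin n) : piece U W k ⟶ U :=
  MorphismProperty.Over.homMk (W k).ι

set_option backward.isDefEq.respectTransparency false in
lemma generate_mem_topology (hcov : (⋃ k, (W k : Set ↥U.left)) = Set.univ) :
    Sieve.generate (Presieve.ofArrows (piece U W) (pieceι U W)) ∈
      Scheme.ProEt.topology X U := by
  apply Precoverage.generate_mem_toGrothendieck
  rw [Scheme.ProEt.precoverage, Precoverage.mem_comap_iff, Presieve.map_ofArrows]
  apply Scheme.zariskiPrecoverage_le_propQCPrecoverage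
  rw [Scheme.ofArrows_mem_precoverage_iff]
  refine ⟨fun x => ?_, fun k => ?_⟩
  · have hx : x ∈ ⋃ k, (W k : Set ↥U.left) := by rw [hcov]; trivial
    obtain ⟨k, hk⟩ := Set.mem_iUnion.mp hx
    exact ⟨k, ⟨x, hk⟩, rfl⟩
  · exact inferInstanceAs (IsOpenImmersion (W k).ι)

lemma subsingleton_of_isEmpty {G : X.ProEtᵒᵖ ⥤ Type w}
    (hG : Presieve.IsSheaf (Scheme.ProEt.topology X) G) (Z : X.ProEt) [IsEmpty Z.left] :
    Subsingleton (G.obj (op Z)) := by
  refine ⟨fun a b => ?_⟩
  have h := (hG _ (Scheme.ProEt.bot_mem_topology Z)).isSeparatedFor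
  exact h.ext (fun Y f hf => hf.elim)

theorem existsUnique_glue {G : X.ProEtᵒᵖ ⥤ Type w}
    (hG : Presieve.IsSheaf (Scheme.ProEt.topology X) G)
    (hcov : (⋃ k, (W k : Set ↥U.left)) = Set.univ)
    (hdisj : Pairwise (fun k l => Disjoint (W k : Set ↥U.left) (W l)))
    (x : ∀ k, G.obj (op (piece U W k))) :
    ∃! t : G.obj (op U), ∀ k, G.map (pieceι U W k).op t = x k := by
  have hS := hG _ (generate_mem_topology U W hcov)
  rw [← Presieve.isSheafFor_iff_generate, Presieve.isSheafFor_arrows_iff] at hS
  apply hS x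
  intro k l Z gk gl hkl
  have hkl' : gk.left ≫ (W k).ι = gl.left ≫ (W l).ι := congrArg (fun t => t.left) hkl
  by_cases h : k = l
  · subst h
    have : gk = gl := by
      apply MorphismProperty.Over.Hom.ext
      exact (cancel_mono (W k).ι).mp hkl'
    rw [this]
  · haveI : IsEmpty Z.left := by
      refine ⟨fun z => ?_⟩
      have h1 : (gk.left ≫ (W k).ι) z = (gl.left ≫ (W l).ι) z := by rw [hkl']
      have h2 : (gk.left ≫ (W k).ι) z ∈ (W k : Set ↥U.left) := (gk.left z).2
      have h3 : (gl.left ≫ (W l).ι) z ∈ (W l : Set ↥U.left) := (gl.left z).2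
      rw [← h1] at h3
      exact Set.disjoint_left.mp (hdisj h) h2 h3
    exact (subsingleton_of_isEmpty hG Z).elim _ _

/-- the pieces form a coproduct decomposition in the site -/
noncomputable def isColimitCofan
    (hcov : (⋃ k, (W k : Set ↥U.left)) = Set.univ)
    (hdisj : Pairwise (fun k l => Disjoint (W k : Set ↥U.left) (W l))) :
    IsColimit (Cofan.mk U (pieceι U W)) := by
  have hT : ∀ T : X.ProEt, Presieve.IsSheaf (Scheme.ProEt.topology X) (yoneda.obj T) :=
    fun T => GrothendieckTopology.Subcanonical.isSheaf_of_isRepresentable _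
  refine mkCofanColimit _
    (fun s => (existsUnique_glue U W (hT s.pt) hcov hdisj (fun k => s.inj k)).exists.choose)
    (fun s k => ?_) (fun s m hm => ?_)
  · exact (existsUnique_glue U W (hT s.pt) hcov hdisj (fun k => s.inj k)).exists.choose_spec k
  · exact (existsUnique_glue U W (hT s.pt) hcov hdisj (fun k => s.inj k)).unique hm
      (existsUnique_glue U W (hT s.pt) hcov hdisj (fun k => s.inj k)).exists.choose_spec

theorem existsUnique_of_preservesFiniteProducts (F : X.ProEtᵒᵖ ⥤ Type w)
    [PreservesFiniteProducts F]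
    (hcov : (⋃ k, (W k : Set ↥U.left)) = Set.univ)
    (hdisj : Pairwise (fun k l => Disjoint (W k : Set ↥U.left) (W l)))
    (x : ∀ k, F.obj (op (piece U W k))) :
    ∃! t : F.obj (op U), ∀ k, F.map (pieceι U W k).op t = x k := by
  have hc := isColimitCofan U W hcov hdisj
  haveI : PreservesLimitsOfShape (Discrete (Fin n)) F := PreservesFiniteProducts.preserves n
  have hl := isLimitOfPreserves F (Cofan.IsColimit.op hc)
  have := (Types.isLimit_iff _).mp ⟨hl⟩ (fun j => x j.as) (by
    intro j j' f
    obtain rfl : j = j' := Discrete.ext (Discrete.eq_of_hom f)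
    obtain rfl : f = 𝟙 _ := Subsingleton.elim _ _
    simp)
  obtain ⟨t, ht, hu⟩ := this
  exact ⟨t, fun k => ht ⟨k⟩, fun t' ht' => hu t' (fun j => ht' j.as)⟩

end SplitData

end Groth.Agent.H7.PWC
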