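import Mathlib
import Groth.Agent.Lib.Helper7.PWC3

/-!
# Helper7: EZP1 — extension by zero on the small pro-étale site: vanishing of sections (S0732)
-/

set_option autoImplicit false

universe u

open CategoryTheory CategoryTheory.Limits Opposite AlgebraicGeometry

namespace Groth.Agent.H7.PWC

variable {X : Scheme.{u}}

set_option backward.isDefEq.respectTransparency false in
/-- a finite jointly surjective family of quasi-compact objects generates a covering sieve -/
lemma generate_ofArrows_mem_topology (V : X.ProEt) {ι : Type} [Finite ι] (W : ι → X.ProEt)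
    (g : ∀ k, W k ⟶ V) [∀ k, IsAffine (W k).left] [IsAffine V.left]
    (hcov : ∀ x : V.left, ∃ k, x ∈ Set.range (g k).left) :
    Sieve.generate (Presieve.ofArrows W g) ∈ Scheme.ProEt.topology X V := by
  apply Precoverage.generate_mem_toGrothendieck
  rw [Scheme.ProEt.precoverage, Precoverage.mem_comap_iff, Presieve.map_ofArrows]
  refine ⟨?_, ?_⟩
  · let E : PreZeroHypercover V.left := ⟨ι, fun k => (W k).left, fun k => (g k).left⟩
    change E.presieve₀ ∈ Scheme.qcPrecoverage V.left
    rw [Scheme.presieve₀_mem_qcPrecoverage_iff]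
    refine ⟨fun {U} hU => ?_⟩
    refine .of_finite_of_isSpectralMap (fun k => ((g k).left).isSpectralMap) ?_ U.2 hU.isCompact
    intro x _
    exact hcov x
  · rw [Scheme.ofArrows_mem_precoverage_iff]
    refine ⟨fun x => ?_, fun k => ?_⟩
    · obtain ⟨k, hk⟩ := hcov x
      exact ⟨k, hk⟩
    · exact inferInstanceAs (WeaklyEtale (g k).left)


section ExtZero

variable {U Z : Scheme.{u}} (j : U ⟶ X) [WeaklyEtale j]

/-- the left Kan extension presheaf along `compP j` -/
noncomputable abbrev lanJ (F : U.ProEtᵒᵖ ⥤ AddCommGrpCat.{u + 1}) :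
    X.ProEtᵒᵖ ⥤ AddCommGrpCat.{u + 1} :=
  (ProEtS.compP j).op.lan.obj F

set_option backward.isDefEq.respectTransparency false in
lemma isEmpty_costructuredArrow (i : Z ⟶ X)
    (hUZ : Disjoint (Set.range j.base) (Set.range i.base))
    (W : X.ProEt) (z : W.left) (hz : W.hom.base z ∈ Set.range i.base) :
    IsEmpty (CostructuredArrow (ProEtS.compP j).op (op W)) := by
  refine ⟨fun a => ?_⟩
  have a' : W ⟶ (ProEtS.compP j).obj a.left.unop := a.hom.unop
  have hw : a'.left ≫ (a.left.unop.hom ≫ j) = W.hom := MorphismProperty.Over.w a'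
  have h1 : W.hom.base z ∈ Set.range j.base := by
    rw [← hw]
    exact ⟨a.left.unop.hom.base (a'.left.base z), rfl⟩
  exact Set.disjoint_left.mp hUZ h1 hz

lemma subsingleton_lanJ (i : Z ⟶ X)
    (hUZ : Disjoint (Set.range j.base) (Set.range i.base))
    (F : U.ProEtᵒᵖ ⥤ AddCommGrpCat.{u + 1})
    (W : X.ProEt) (z : W.left) (hz : W.hom.base z ∈ Set.range i.base) :
    Subsingleton ((lanJ j F).obj (op W)) := by
  haveI := isEmpty_costructuredArrow j i hUZ W z hz
  have hc := (ProEtS.compP j).op.isPointwiseLeftKanExtensionLeftKanExtensionUnit F (op W)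
  apply AddCommGrpCat.subsingleton_of_isZero
  rw [IsZero.iff_id_eq_zero]
  exact hc.hom_ext (fun a => isEmptyElim a)


set_option backward.isDefEq.respectTransparency false in
theorem S732_aux (i : Z ⟶ X)
    (hUZ : Disjoint (Set.range j.base) (Set.range i.base))
    (V : X.ProEt) [IsAffine V.left]
    (hV : ∀ v : ↥V.left, ∃ z : ↥V.left, V.hom.base z ∈ Set.range i.base ∧ v ⤳ z)
    (F : U.ProEtᵒᵖ ⥤ AddCommGrpCat.{u + 1}) :
    Subsingleton (((presheafToSheaf (Scheme.ProEt.topology X) AddCommGrpCat.{u + 1}).obj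
      (lanJ j F)).obj.obj (op V)) := by
  let G := (presheafToSheaf (Scheme.ProEt.topology X) AddCommGrpCat.{u + 1}).obj (lanJ j F)
  let η : lanJ j F ⟶ G.obj := toSheafify (Scheme.ProEt.topology X) (lanJ j F)
  suffices h0 : ∀ s : G.obj.obj (op V), s = 0 by
    exact ⟨fun s t => (h0 s).trans (h0 t).symm⟩
  intro s
  have hS := Presheaf.imageSieve_mem (Scheme.ProEt.topology X) η (U := op V) s
  obtain ⟨n, Vk, gk, haff, hin, hcov⟩ := exists_finite_affine_refinement V _ hS
  let ι : Type := {k : Fin n // ∃ z' : (Vk k).left, (Vk k).hom.base z' ∈ Set.range i.base}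
  have hcov' : ∀ x : V.left, ∃ k : ι, x ∈ Set.range (gk k.1).left := by
    intro x
    obtain ⟨z, hz, hxz⟩ := hV x
    obtain ⟨k, z', hz'⟩ := hcov z
    have hfl : GeneralizingMap (gk k).left := Flat.generalizingMap _
    have hxz' : x ⤳ (gk k).left z' := by rw [hz']; exact hxz
    obtain ⟨x', -, hx'⟩ := hfl hxz'
    refine ⟨⟨k, z', ?_⟩, x', hx'⟩
    have hw : (gk k).left ≫ V.hom = (Vk k).hom := MorphismProperty.Over.w (gk k)
    rw [← hw]
    change V.hom.base ((gk k).left z') ∈ _
    rw [hz']
    exact hz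
  haveI : ∀ k : ι, IsAffine (Vk k.1).left := fun k => haff k.1
  have hS' := generate_ofArrows_mem_topology V (fun k : ι => Vk k.1) (fun k => gk k.1) hcov'
  apply (Sheaf.isSeparated G) V _ hS' s 0
  intro Y f hf
  obtain ⟨W, h, g', hg', rfl⟩ := hf
  obtain ⟨k⟩ := hg'
  obtain ⟨t, ht⟩ := hin k.1
  obtain ⟨z', hz'⟩ := k.2
  haveI := subsingleton_lanJ j i hUZ F (Vk k.1) z' hz'
  have t0 : t = 0 := Subsingleton.elim _ _
  rw [op_comp, Functor.map_comp, ConcreteCategory.comp_apply, ConcreteCategory.comp_apply,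
    ← ht, t0, map_zero, map_zero, map_zero]
  exact (map_zero _).symm


set_option backward.isDefEq.respectTransparency false in
theorem S732_main [ProEtS.JPCont j] (i : Z ⟶ X)
    (hUZ : Disjoint (Set.range j.base) (Set.range i.base))
    (V : X.ProEt) [IsAffine V.left]
    (hV : ∀ v : ↥V.left, ∃ z : ↥V.left, V.hom.base z ∈ Set.range i.base ∧ v ⤳ z)
    (F : ProEtS.AbP U) :
    Subsingleton (ProEtS.sectP ((ProEtS.extZeroP j).obj F) V) := by
  have h0 := S732_aux j i hUZ V hV F.obj
  let e := (Functor.sheafPullbackConstruction.sheafPullbackIso (ProEtS.compP j)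
    AddCommGrpCat.{u + 1} (Scheme.ProEt.topology U) (Scheme.ProEt.topology X)).app F
  let e' := ((sheafToPresheaf _ _).mapIso e).app (op V)
  exact @Equiv.subsingleton _ _ e'.addCommGroupIsoToAddEquiv.toEquiv h0

end ExtZero

end Groth.Agent.H7.PWC
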