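import Mathlib
import Groth.Agent.Lib.Helper7.CechF2

/-!
# Helper7: Eff1 — injective abelian étale sheaves are divisible; their `n`-torsion parts are
acyclic torsion sheaves.
-/

set_option autoImplicit false

universe u

open CategoryTheory CategoryTheory.Limits Opposite AlgebraicGeometry

namespace Groth.Agent.H7.Eff

variable {X : Scheme.{u}}

/-- the free abelian presheaf on an object. -/
noncomputable def PU (U : X.Etale) : X.Etaleᵒᵖ ⥤ AddCommGrpCat.{u + 1} :=
  uliftYoneda.{u + 1}.obj U ⋙ AddCommGrpCat.free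

/-- the tautological section. -/
noncomputable def genSec (U : X.Etale) : (PU U).obj (op U) :=
  FreeAbelianGroup.of (ULift.up (𝟙 U))

/-- the morphism of presheaves attached to a section. -/
noncomputable def sectMap (G : EtCoh.Ab X) (U : X.Etale) (s : G.obj.obj (op U)) :
    PU U ⟶ G.obj where
  app V := AddCommGrpCat.ofHom
    (FreeAbelianGroup.lift (fun f : ULift.{u + 1} (V.unop ⟶ U) => G.obj.map f.down.op s))
  naturality V V' g := by
    apply AddCommGrpCat.hom_ext
    apply FreeAbelianGroup.lift_ext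
    intro f
    change FreeAbelianGroup.lift _ ((FreeAbelianGroup.map _) (FreeAbelianGroup.of f)) =
      G.obj.map g (FreeAbelianGroup.lift _ (FreeAbelianGroup.of f))
    rw [FreeAbelianGroup.map_of_apply, FreeAbelianGroup.lift_apply_of,
      FreeAbelianGroup.lift_apply_of]
    change G.obj.map (g.unop ≫ f.down).op s = G.obj.map g (G.obj.map f.down.op s)
    rw [op_comp, G.obj.map_comp]
    rfl

lemma sectMap_gen (G : EtCoh.Ab X) (U : X.Etale) (s : G.obj.obj (op U)) :
    (sectMap G U s).app (op U) (genSec U) = s := by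
  change FreeAbelianGroup.lift _ (FreeAbelianGroup.of _) = s
  rw [FreeAbelianGroup.lift_apply_of]
  change G.obj.map (𝟙 (op U)) s = s
  rw [G.obj.map_id]
  rfl

/-- the free abelian sheaf on an object. -/
noncomputable def ZU (U : X.Etale) : EtCoh.Ab X :=
  (presheafToSheaf X.smallEtaleTopology AddCommGrpCat.{u + 1}).obj (PU U)

/-- the morphism of sheaves attached to a section. -/
noncomputable def sectHom (G : EtCoh.Ab X) (U : X.Etale) (s : G.obj.obj (op U)) : ZU U ⟶ G :=
  ⟨sheafifyLift X.smallEtaleTopology (sectMap G U s) G.property⟩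

/-- evaluation at the tautological section. -/
noncomputable def ev {G : EtCoh.Ab X} {U : X.Etale} (h : ZU U ⟶ G) : G.obj.obj (op U) :=
  h.hom.app (op U) ((toSheafify X.smallEtaleTopology (PU U)).app (op U) (genSec U))

lemma ev_sectHom (G : EtCoh.Ab X) (U : X.Etale) (s : G.obj.obj (op U)) :
    ev (sectHom G U s) = s := by
  have h := toSheafify_sheafifyLift X.smallEtaleTopology (sectMap G U s) G.property
  have h2 := congrArg (fun m : PU U ⟶ G.obj => m.app (op U) (genSec U)) h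
  exact h2.trans (sectMap_gen G U s)

lemma ev_nsmul_comp {G : EtCoh.Ab X} {U : X.Etale} (n : ℕ) (h : ZU U ⟶ G) :
    ev ((n • 𝟙 (ZU U)) ≫ h) = n • ev h := by
  have : (n • 𝟙 (ZU U)) ≫ h = n • h := by
    rw [Preadditive.nsmul_comp, Category.id_comp]
  rw [this]
  rfl

lemma mono_nsmul_PU (U : X.Etale) (n : ℕ) (hn : 0 < n) : Mono (n • 𝟙 (PU U)) := by
  haveI : ∀ V, Mono ((n • 𝟙 (PU U) : PU U ⟶ PU U).app V) := by
    intro V
    rw [AddCommGrpCat.mono_iff_injective]
    intro (x : FreeAbelianGroup (ULift.{u + 1} (V.unop ⟶ U)))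
      (y : FreeAbelianGroup (ULift.{u + 1} (V.unop ⟶ U))) hxy
    have hxy' : n • x = n • y := hxy
    let e := FreeAbelianGroup.equivFinsupp (ULift.{u + 1} (V.unop ⟶ U))
    apply e.injective
    have h2 : n • e x = n • e y := by rw [← map_nsmul, ← map_nsmul, hxy']
    ext a
    have h3 := DFunLike.congr_fun h2 a
    simp only [Finsupp.smul_apply, smul_eq_mul, nsmul_eq_mul] at h3
    exact mul_left_cancel₀ (by exact_mod_cast hn.ne') h3
  exact NatTrans.mono_of_mono_app _

lemma mono_nsmul_ZU (U : X.Etale) (n : ℕ) (hn : 0 < n) : Mono (n • 𝟙 (ZU U)) := by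
  haveI := mono_nsmul_PU U n hn
  have : (n • 𝟙 (ZU U)) =
      (presheafToSheaf X.smallEtaleTopology AddCommGrpCat.{u + 1}).map (n • 𝟙 (PU U)) := by
    rw [Functor.map_nsmul, CategoryTheory.Functor.map_id]
    rfl
  rw [this]
  haveI : PreservesFiniteLimits (presheafToSheaf X.smallEtaleTopology AddCommGrpCat.{u + 1}) :=
    inferInstance
  exact Functor.map_mono _ _

/-- sections of injective sheaves are divisible. -/
theorem exists_nsmul_eq (I : EtCoh.Ab X) [Injective I] (n : ℕ) (hn : 0 < n) (U : X.Etale)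
    (s : I.obj.obj (op U)) : ∃ t : I.obj.obj (op U), n • t = s := by
  haveI := mono_nsmul_ZU U n hn
  refine ⟨ev (Injective.factorThru (sectHom I U s) (n • 𝟙 (ZU U))), ?_⟩
  rw [← ev_nsmul_comp, Injective.comp_factorThru, ev_sectHom]

lemma nsmul_app (G : EtCoh.Ab X) (n : ℕ) (U : X.Etaleᵒᵖ) (x : G.obj.obj U) :
    (n • 𝟙 G : G ⟶ G).hom.app U x = n • x := rfl

/-- multiplication by a positive integer on an injective sheaf is an epimorphism. -/
lemma epi_nsmul (I : EtCoh.Ab X) [Injective I] (n : ℕ) (hn : 0 < n) :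
    Epi (n • 𝟙 I : I ⟶ I) := by
  rw [← Sheaf.isLocallySurjective_iff_epi' (φ := (n • 𝟙 I : I ⟶ I))]
  refine ⟨fun {U} s => ?_⟩
  obtain ⟨t, ht⟩ := exists_nsmul_eq I n hn U s
  refine X.smallEtaleTopology.superset_covering ?_ (X.smallEtaleTopology.top_mem _)
  intro V f _
  refine ⟨I.obj.map f.op t, ?_⟩
  rw [nsmul_app, ← map_nsmul, ht]

/-- the short exact sequence `0 → I[n] → I → I → 0`. -/
lemma shortExact_tors (I : EtCoh.Ab X) [Injective I] (n : ℕ) (hn : 0 < n) :
    (ShortComplex.mk (kernel.ι (n • 𝟙 I : I ⟶ I)) (n • 𝟙 I)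
      (kernel.condition _)).ShortExact :=
  { exact := ShortComplex.exact_of_f_is_kernel _ (kernelIsKernel _)
    mono_f := inferInstanceAs (Mono (kernel.ι _))
    epi_g := epi_nsmul I n hn }

open Abelian in
/-- the `n`-torsion part of an injective sheaf is acyclic. -/
theorem H_tors_eq_zero (I : EtCoh.Ab X) [Injective I] (n : ℕ) (hn : 0 < n) (q : ℕ) (hq : 0 < q)
    (β : EtCoh.H X (kernel (n • 𝟙 I : I ⟶ I)) q) : β = 0 := by
  obtain ⟨p, rfl⟩ : ∃ p, q = p + 1 := ⟨q - 1, by omega⟩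
  have hS := shortExact_tors I n hn
  have hx₁ : β.comp (Ext.mk₀ (kernel.ι (n • 𝟙 I : I ⟶ I))) (add_zero (p + 1)) = 0 :=
    Ext.eq_zero_of_injective _
  obtain ⟨x₃, hx₃⟩ := Ext.covariant_sequence_exact₁ _ hS β hx₁ (rfl : p + 1 = p + 1)
  rw [← hx₃]
  rcases p with _ | p
  · -- degree zero: use divisibility of global sections
    let hT := EtCore.topIsTerminal X
    let s := Sheaf.H.equiv₀ I hT x₃
    obtain ⟨t, ht⟩ := exists_nsmul_eq I n hn (EtCoh.top X) s
    let y : EtCoh.H X I 0 := (Sheaf.H.equiv₀ I hT).symm t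
    have hy : y.comp (Ext.mk₀ (n • 𝟙 I : I ⟶ I)) (add_zero 0) = x₃ := by
      have h1 := Sheaf.H.equiv₀_symm_naturality hT (n • 𝟙 I : I ⟶ I) t
      rw [Sheaf.H.map_apply] at h1
      refine h1.trans ?_
      rw [nsmul_app, ht]
      exact (Sheaf.H.equiv₀ I hT).symm_apply_apply x₃
    rw [← hy, Ext.comp_assoc_of_second_deg_zero, hS.comp_extClass, Ext.comp_zero]
  · have : x₃ = 0 := Ext.eq_zero_of_injective _
    rw [this, Ext.zero_comp]

lemma killedBy_tors (I : EtCoh.Ab X) (n : ℕ) :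
    EtCoh.KilledBy n (kernel (n • 𝟙 I : I ⟶ I)) := by
  intro U s
  apply CechF.app_injective_of_mono (kernel.ι (n • 𝟙 I : I ⟶ I)) (op U)
  rw [map_nsmul, map_zero, ← nsmul_app]
  have h := kernel.condition (n • 𝟙 I : I ⟶ I)
  exact congrArg (fun m : kernel (n • 𝟙 I : I ⟶ I) ⟶ I => m.hom.app (op U) s) h

lemma isTorsion_of_killedBy (G : EtCoh.Ab X) (n : ℕ) (hn : 0 < n) (h : EtCoh.KilledBy n G) :
    EtCoh.IsTorsion G := by
  intro U s x
  refine ⟨U, 𝟙 U, ⟨x, rfl⟩, ?_⟩
  rw [isOfFinAddOrder_iff_nsmul_eq_zero]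
  exact ⟨n, hn, h U _⟩

end Groth.Agent.H7.Eff
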