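import Mathlib
import Groth.Agent.Lib.Helper7.Eff1
import Groth.Agent.Lib.Helper2.EtSmallC
import Groth.Agent.Lib.Helper2.ColimB
import Groth.Agent.Lib.Helper2.CompactB
import Groth.Agent.Lib.Helper2.GenF

/-!
# Helper7: Eff2 — positive degree cohomology is effaceable in constructible sheaves on a qcqs
scheme (S13504, S8613).
-/

set_option autoImplicit false

universe u

open CategoryTheory CategoryTheory.Limits Opposite AlgebraicGeometry

namespace Groth.Agent.H7.Eff

theorem S13504_main (X : Scheme.{u}) [CompactSpace X] [QuasiSeparatedSpace X]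
    (F : EtCoh.Ab X) (hF : EtPBC.IsConstructible F) (q : ℕ) (hq : 0 < q) (α : EtCoh.H X F q) :
    ∃ (G : EtCoh.Ab X) (u : F ⟶ G), EtPBC.IsConstructible G ∧ Mono u ∧
      (EtCoh.HF X q).map u α = 0 := by
  obtain ⟨n, hn, hk⟩ := Groth.Agent.H2.Gen.exists_killedBy X F hF
  -- embed into the `n`-torsion of an injective sheaf
  let I := Injective.under F
  let ι : F ⟶ I := Injective.ι F
  have hzero : ι ≫ (n • 𝟙 I : I ⟶ I) = 0 := by
    rw [Preadditive.comp_nsmul, Category.comp_id]
    have h0 : (n • 𝟙 F : F ⟶ F) = 0 := by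
      apply Sheaf.hom_ext
      ext U s
      exact hk U.unop s
    have : n • ι = (n • 𝟙 F : F ⟶ F) ≫ ι := by
      rw [Preadditive.nsmul_comp, Category.id_comp]
    rw [this, h0, zero_comp]
  let T := kernel (n • 𝟙 I : I ⟶ I)
  let v₀ : F ⟶ T := kernel.lift _ ι hzero
  haveI : Mono v₀ := mono_of_mono_fac (kernel.lift_ι _ ι hzero)
  have hT : EtCoh.IsTorsion T := isTorsion_of_killedBy T n hn (killedBy_tors I n)
  obtain ⟨J, _, _, D, c, hc, hD, ⟨e⟩⟩ := Groth.Agent.H2.Colim.S0134_main X T hT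
  haveI : PreservesColimitsOfShape J (forget AddCommGrpCat.{u + 1}) :=
    PreservesFilteredColimitsOfSize.preserves_filtered_colimits J
  obtain ⟨i, hi, hfac⟩ :=
    (Groth.Agent.H2.Compact.compactFor_of_isConstructible D c hc F hF).1 (v₀ ≫ e.inv)
  haveI : Mono hi := by
    haveI : Mono (hi ≫ c.ι.app i) := by
      rw [← hfac]
      infer_instance
    exact mono_of_mono hi (c.ι.app i)
  -- the class dies in the colimit
  have hdie : (EtCoh.HF X q).map (hi ≫ c.ι.app i) α = 0 := by
    rw [← hfac]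
    have h1 : (EtCoh.HF X q).map (v₀ ≫ e.inv) α =
        (EtCoh.HF X q).map e.inv ((EtCoh.HF X q).map v₀ α) := by
      rw [CategoryTheory.Functor.map_comp]
      rfl
    rw [h1, H_tors_eq_zero I n hn q hq ((EtCoh.HF X q).map v₀ α)]
    exact map_zero ((EtCoh.HF X q).map e.inv).hom
  haveI := Groth.Agent.H2.EtSmall.preservesColimit_HF X q D
  have hcol : IsColimit ((EtCoh.HF X q).mapCocone c) := isColimitOfPreserves (EtCoh.HF X q) hc
  let z : (EtCoh.HF X q).obj (D.obj i) := (EtCoh.HF X q).map hi α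
  have hz : ((EtCoh.HF X q).mapCocone c).ι.app i z =
      ((EtCoh.HF X q).mapCocone c).ι.app i (0 : (EtCoh.HF X q).obj (D.obj i)) := by
    change (EtCoh.HF X q).map (c.ι.app i) ((EtCoh.HF X q).map hi α) =
      (EtCoh.HF X q).map (c.ι.app i) 0
    rw [map_zero, ← ConcreteCategory.comp_apply, ← CategoryTheory.Functor.map_comp]
    exact hdie
  obtain ⟨k, f, g, hfg⟩ := (Concrete.isColimit_rep_eq_iff_exists
    (F := D ⋙ EtCoh.HF X q) hcol z 0).1 hz
  have hfg' : (EtCoh.HF X q).map (D.map f) z = 0 := by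
    refine hfg.trans ?_
    exact map_zero ((EtCoh.HF X q).map (D.map g)).hom
  refine ⟨D.obj k, hi ≫ D.map f, hD k, ?_, ?_⟩
  · haveI : Mono ((hi ≫ D.map f) ≫ c.ι.app k) := by
      rw [Category.assoc, c.w, ← hfac]
      infer_instance
    exact mono_of_mono (hi ≫ D.map f) (c.ι.app k)
  · rw [CategoryTheory.Functor.map_comp]
    exact hfg'

theorem S8613_main {X : Scheme.{u}} [IsNoetherian X] (F : EtCoh.Ab X)
    (hF : EtPBC.IsConstructible F) (q : ℕ) (hq : 0 < q) (α : EtCoh.H X F q) :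
    ∃ (G : EtCoh.Ab X) (u : F ⟶ G), EtPBC.IsConstructible G ∧ Mono u ∧
      (EtCoh.HF X q).map u α = 0 :=
  S13504_main X F hF q hq α

end Groth.Agent.H7.Eff
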