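import Groth.Prelude.Def_AlgSpSub
import Groth.Agent.Lib.Lead.QC.IdealComap
import Groth.Agent.Lib.Helper5.AlgSp.LocPCalc
import Mathlib

/-!
# Effective Cartier divisors on algebraic spaces: flat pullback
-/

set_option autoImplicit false

universe u

open CategoryTheory CategoryTheory.Limits AlgebraicGeometry Opposite Topology

namespace Groth.Agent.H7.EffCart

open _root_.AlgSp Groth.Agent.H5.AlgSp

variable {S : Scheme.{u}}

/-- The closed subscheme of an ideal sheaf on a scheme over `S`, as an object over `S`. -/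
noncomputable abbrev subOver (V : Over S) (𝓘 : V.left.IdealSheafData) : Over S :=
  Over.mk (𝓘.subschemeι ≫ V.hom)

/-- Its inclusion. -/
noncomputable abbrev subOverι (V : Over S) (𝓘 : V.left.IdealSheafData) : subOver V 𝓘 ⟶ V :=
  Over.homMk 𝓘.subschemeι rfl

/-- The closed subscheme of the pulled back ideal sheaf is the pullback, over `S` and on
representable sheaves. -/
theorem isPullback_comap {U V : Over S} (h : U ⟶ V) (𝓘 : V.left.IdealSheafData) :
    ∃ m : subOver U (𝓘.comap h.left) ⟶ subOver V 𝓘,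
      IsPullback ((yon S).map (subOverι U (𝓘.comap h.left))) ((yon S).map m) ((yon S).map h)
        ((yon S).map (subOverι V 𝓘)) := by
  let m₀ : (𝓘.comap h.left).subscheme ⟶ 𝓘.subscheme :=
    Scheme.IdealSheafData.subschemeMap _ _ h.left (𝓘.le_map_comap h.left)
  have hm₀ : m₀ ≫ 𝓘.subschemeι = (𝓘.comap h.left).subschemeι ≫ h.left :=
    Scheme.IdealSheafData.subschemeMap_subschemeι _ _ _ _
  let m : subOver U (𝓘.comap h.left) ⟶ subOver V 𝓘 := Over.homMk m₀ (by
    change m₀ ≫ 𝓘.subschemeι ≫ V.hom = (𝓘.comap h.left).subschemeι ≫ U.hom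
    rw [← Category.assoc, hm₀, Category.assoc, Over.w h])
  have hm : subOverι U (𝓘.comap h.left) ≫ h = m ≫ subOverι V 𝓘 :=
    Over.OverMorphism.ext hm₀.symm
  have sqS : IsPullback (𝓘.comap h.left).subschemeι m₀ h.left 𝓘.subschemeι :=
    IsPullback.of_iso_pullback ⟨hm₀.symm⟩ (𝓘.comapIso h.left)
      (Scheme.IdealSheafData.comapIso_hom_fst 𝓘 h.left)
      (Scheme.IdealSheafData.comapIso_hom_snd 𝓘 h.left)
  have sqO : IsPullback (subOverι U (𝓘.comap h.left)) m h (subOverι V 𝓘) :=
    IsPullback.of_map (Over.forget S) hm sqS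
  exact ⟨m, sqO.map (yon S)⟩

/-- **The inverse image of an effective Cartier divisor under a flat morphism is an effective
Cartier divisor.** -/
theorem isEffCartierSub_of_isPullback_of_flat {X Y D P : Sp S} (hX : IsAlgSpace X) {f : X ⟶ Y}
    (hf : LocP @Flat f) {i : D ⟶ Y} (hD : IsEffCartierSub i) {fst : P ⟶ D} {snd : P ⟶ X}
    (hP : IsPullback fst snd i f) : IsEffCartierSub snd := by
  obtain ⟨hi, V, φ, 𝓘, fstD, hφe, hφs, sqD, hC⟩ := hD
  obtain ⟨U, a, h, hae, has, comm⟩ := exists_chart_diagram_surj hX f hφe hφs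
  haveI hflat : Flat h.left := hf a φ h hae hφe comm
  have hsnd : RepWith @IsClosedImmersion snd := (RepWith @IsClosedImmersion).of_isPullback hP hi
  have hJ : BlowUp.IsEffCartierIdeal (𝓘.comap h.left) :=
    Groth.Agent.LD.QC.isEffCartierIdeal_comap_of_flat h.left 𝓘 hC
  obtain ⟨m, sqY⟩ := isPullback_comap h 𝓘
  have hw : ((yon S).map m ≫ fstD) ≫ i =
      ((yon S).map (subOverι U (𝓘.comap h.left)) ≫ a) ≫ f := by
    rw [Category.assoc, sqD.w, ← Category.assoc, ← sqY.w, Category.assoc, Category.assoc, comm]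
  refine ⟨hsnd, U, a, 𝓘.comap h.left, hP.lift _ _ hw, hae, has, ?_, hJ⟩
  have big : IsPullback ((yon S).map (subOverι U (𝓘.comap h.left)))
      (hP.lift _ _ hw ≫ fst) (a ≫ f) i := by
    rw [hP.lift_fst, comm]
    exact sqY.paste_vert sqD.flip
  exact (IsPullback.of_bot big (hP.lift_snd _ _ hw).symm hP.flip).flip

theorem S10795_main (X Y D P : AlgSp.Space S) (f : X ⟶ Y)
    (hf : AlgSp.LocP @Flat f.hom) (i : D ⟶ Y) (hD : AlgSp.IsEffCartierSub i.hom)
    (fst : P ⟶ D) (snd : P ⟶ X) (hP : IsPullback fst.hom snd.hom i.hom f.hom) :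
    AlgSp.IsEffCartierSub snd.hom :=
  isEffCartierSub_of_isPullback_of_flat X.property hf hD hP

end Groth.Agent.H7.EffCart
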