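import Groth.Prelude.Def_AlgSpSub
import Groth.Agent.Lib.Helper2.SchDense
import Groth.Agent.Lib.Helper5.AlgSp.SchDenseQC
import Mathlib

/-!
# The complement of an effective Cartier divisor on a scheme
-/

set_option autoImplicit false

universe u

open CategoryTheory CategoryTheory.Limits AlgebraicGeometry Opposite Topology

namespace Groth.Agent.H7.EffCart

variable {V : Scheme.{u}}

/-- On an affine open where the ideal is principal, the complement of the support is the basic
open of the generator. -/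
theorem inf_eq_basicOpen (𝓘 : V.IdealSheafData) (W : V.Opens)
    (hW : (W : Set V) = (𝓘.support : Set V)ᶜ) (A : V.affineOpens) (f : Γ(V, A.1))
    (hI : 𝓘.ideal A = Ideal.span {f}) : A.1 ⊓ W = V.basicOpen f := by
  ext x
  constructor
  · rintro ⟨hxA, hxW⟩
    have h1 : x ∉ (𝓘.support : Set V) := by
      have : x ∈ (W : Set V) := hxW
      rw [hW] at this
      exact this
    have h2 : x ∉ V.zeroLocus (U := A.1) (𝓘.ideal A) := fun h =>
      h1 ((Scheme.IdealSheafData.mem_support_iff_of_mem hxA).2 h)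
    rw [hI, Scheme.zeroLocus_span, Scheme.zeroLocus_singleton] at h2
    simpa using h2
  · intro hx
    have hxA : x ∈ A.1 := V.basicOpen_le f hx
    refine ⟨hxA, ?_⟩
    change x ∈ (W : Set V)
    rw [hW]
    intro h
    have h2 := (Scheme.IdealSheafData.mem_support_iff_of_mem hxA).1 h
    rw [hI, Scheme.zeroLocus_span, Scheme.zeroLocus_singleton] at h2
    exact h2 hx

/-- The complement of an effective Cartier divisor is affine over the scheme. -/
theorem isAffineHom_ι_of_isEffCartierIdeal (𝓘 : V.IdealSheafData)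
    (hC : BlowUp.IsEffCartierIdeal 𝓘) (W : V.Opens)
    (hW : (W : Set V) = (𝓘.support : Set V)ᶜ) : IsAffineHom W.ι := by
  apply isAffineHom_of_forall_exists_isAffineOpen
  intro v
  obtain ⟨A, hvA, f, hf, hI⟩ := hC v
  refine ⟨A.1, hvA, A.2, ?_⟩
  apply (W.ι).isAffineOpen_iff_of_isOpenImmersion.mp
  rw [Groth.Agent.H5.AlgSp.ι_image_preimage_eq_inf, inf_eq_basicOpen 𝓘 W hW A f hI]
  exact A.2.basicOpen f

/-- The complement of an effective Cartier divisor is scheme theoretically dense. -/
theorem isSchematicallyDense_of_isEffCartierIdeal (𝓘 : V.IdealSheafData)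
    (hC : BlowUp.IsEffCartierIdeal 𝓘) (W : V.Opens)
    (hW : (W : Set V) = (𝓘.support : Set V)ᶜ) : CInt.IsSchematicallyDense W := by
  apply Groth.Agent.H2.SchDense.of_forall_eq_zero
  intro V' a ha
  apply Groth.Agent.H2.SchDense.eq_zero_of_locally
  intro x hx
  obtain ⟨A, hxA, f, hf, hI⟩ := hC x
  obtain ⟨g, hgV', hxg⟩ := A.2.exists_basicOpen_le ⟨x, hx⟩ hxA
  refine ⟨V.basicOpen g, hgV', hxg, ?_⟩
  have hBA : V.basicOpen g ≤ A.1 := V.basicOpen_le g
  have hB : IsAffineOpen (V.basicOpen g) := A.2.basicOpen g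
  set b := V.presheaf.map (homOfLE hgV').op a with hb
  set fB := V.presheaf.map (homOfLE hBA).op f with hfB_def
  have hloc : IsLocalization.Away g Γ(V, V.basicOpen g) := A.2.isLocalization_basicOpen g
  have hfB : fB ∈ nonZeroDivisors Γ(V, V.basicOpen g) := by
    have := IsLocalization.map_nonZeroDivisors_le (Submonoid.powers g) Γ(V, V.basicOpen g)
      (Submonoid.mem_map_of_mem (algebraMap Γ(V, A.1) Γ(V, V.basicOpen g)) hf)
    exact this
  have hbo : V.basicOpen fB = V.basicOpen g ⊓ W := by
    rw [hfB_def, Scheme.basicOpen_res, ← inf_eq_basicOpen 𝓘 W hW A f hI, ← inf_assoc,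
      inf_eq_left.2 hBA]
  have hle : V.basicOpen fB ≤ V' ⊓ W := by
    rw [hbo]
    exact inf_le_inf_right W hgV'
  have hb0 : V.presheaf.map (homOfLE (V.basicOpen_le fB)).op b = 0 := by
    have e : V.presheaf.map (homOfLE (V.basicOpen_le fB)).op b =
        V.presheaf.map (homOfLE hle).op
          (V.presheaf.map (homOfLE (inf_le_left : V' ⊓ W ≤ V')).op a) := by
      rw [hb, ← CommRingCat.comp_apply, ← CommRingCat.comp_apply, ← Functor.map_comp,
        ← Functor.map_comp]
      rfl
    rw [e, ha, map_zero]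
  have hloc2 : IsLocalization.Away fB Γ(V, V.basicOpen fB) := hB.isLocalization_basicOpen fB
  have hb0' : algebraMap Γ(V, V.basicOpen g) Γ(V, V.basicOpen fB) b = 0 := hb0
  obtain ⟨⟨_, n, rfl⟩, hn⟩ := (IsLocalization.map_eq_zero_iff (Submonoid.powers fB) _ b).1 hb0'
  have hn' : fB ^ n * b = 0 := hn
  exact (mul_left_mem_nonZeroDivisors_eq_zero_iff (pow_mem hfB n)).1 hn'

end Groth.Agent.H7.EffCart
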