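import Groth.Prelude.Def_AlgSpSub
import Groth.Agent.Lib.Helper7.EffCart2
import Groth.Agent.Lib.Helper5.AlgSp.SchDenseQC
import Groth.Agent.Lib.Helper5.AlgSp.Points
import Groth.Agent.Lib.Helper5.AlgSp.PointsTop
import Groth.Agent.Lib.Helper5.AlgSp.AffineMor
import Groth.Agent.Lib.Helper5.Descent.AffineMorDescent
import Mathlib

/-!
# The complement of an effective Cartier divisor on an algebraic space
-/

set_option autoImplicit false

universe u

open CategoryTheory CategoryTheory.Limits AlgebraicGeometry Opposite Topology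

namespace Groth.Agent.H7.EffCart

open _root_.AlgSp Groth.Agent.H5.AlgSp

variable {S : Scheme.{u}}

/-- The inclusion of the closed subscheme, over `S`. -/
noncomputable abbrev subOverι' (V : Over S) (𝓘 : V.left.IdealSheafData) :
    Over.mk (𝓘.subschemeι ≫ V.hom) ⟶ V := Over.homMk 𝓘.subschemeι rfl

theorem S10793_main (X D U : AlgSp.Space S)
    (i : D ⟶ X) (hD : AlgSp.IsEffCartierSub i.hom) (j : U ⟶ X)
    (hj : AlgSp.RepWith @IsOpenImmersion j.hom)
    (hU : Set.range (AlgSp.Points.map j.hom) = (Set.range (AlgSp.Points.map i.hom))ᶜ) :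
    AlgSp.IsAffineMor j.hom ∧ AlgSp.IsSchDense j.hom := by
  obtain ⟨hi, V, φ, 𝓘, fstD, hφe, hφs, sqD, hC⟩ := hD
  have sq₀ := hj.rep.isPullback φ
  haveI : IsOpenImmersion (hj.rep.snd φ).left := hj.property_snd φ
  obtain ⟨W, fstW, sqW, -⟩ := exists_isPullback_overOpen sq₀
  have hW : (W : Set V.left) = (𝓘.support : Set V.left)ᶜ := by
    ext v
    constructor
    · intro hv hsupp
      rw [← Scheme.IdealSheafData.range_subschemeι] at hsupp
      obtain ⟨z, rfl⟩ := hsupp
      have h1 : Points.ofPt φ (𝓘.subschemeι z) ∈ Set.range (Points.map j.hom) := by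
        refine ⟨Points.ofPt fstW ⟨_, hv⟩, ?_⟩
        rw [Points.map_ofPt, sqW.w]
        exact ofPt_restrict φ W ⟨_, hv⟩
      have h2 : Points.ofPt φ (𝓘.subschemeι z) ∈ Set.range (Points.map i.hom) := by
        refine ⟨Points.ofPt fstD z, ?_⟩
        rw [Points.map_ofPt, sqD.w]
        exact ofPt_yon_map_comp (subOverι' V 𝓘) φ z
      rw [hU] at h1
      exact h1 h2
    · intro hv
      have h1 : Points.ofPt φ v ∉ Set.range (Points.map i.hom) := by
        rintro ⟨x, hx⟩
        obtain ⟨z, hz, -⟩ := exists_point_of_isPullback sqD x v hx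
        apply hv
        rw [← Scheme.IdealSheafData.range_subschemeι]
        exact ⟨z, hz⟩
      have h2 : Points.ofPt φ v ∈ Set.range (Points.map j.hom) := by
        rw [hU]
        exact h1
      obtain ⟨y, hy⟩ := h2
      obtain ⟨w, hw, -⟩ := exists_point_of_isPullback sqW y v hy
      have hmem : W.ι w ∈ Set.range W.ι := ⟨w, rfl⟩
      rw [Scheme.Opens.range_ι] at hmem
      have hw' : W.ι w = v := hw
      rw [← hw']
      exact hmem
  constructor
  · apply Groth.Agent.H5.Descent.isAffineMor_of_baseChange_etale hφe hφs sqW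
    apply isAffineMor_of_repWith
    rw [repWith_yon_map_iff]
    exact isAffineHom_ι_of_isEffCartierIdeal 𝓘 hC W hW
  · exact ⟨hj, V, φ, W, fstW, hφe, hφs, sqW,
      isSchematicallyDense_of_isEffCartierIdeal 𝓘 hC W hW⟩

end Groth.Agent.H7.EffCart
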