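import Mathlib

/-!
# Descent of "locally generated by one nonzerodivisor" along faithfully flat ring maps
-/

set_option autoImplicit false

universe u

open TensorProduct

namespace Groth.Agent.H7.InvDesc

variable {A B : Type u} [CommRing A] [CommRing B] [Algebra A B]

/-- For `B` flat over `A`, `B ⊗ J` is the extended ideal. -/
theorem nonempty_tensor_equiv_map [Module.Flat A B] (J : Ideal A) :
    Nonempty (B ⊗[A] J ≃ₗ[B] J.map (algebraMap A B)) := by
  let f : B ⊗[A] J →ₗ[B] B :=
    (AlgebraTensorModule.rid _ _ _).toLinearMap ∘ₗ AlgebraTensorModule.lTensor B B J.subtype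
  have hf : Function.Injective f := by
    simp [f]
    exact Module.Flat.lTensor_preserves_injective_linearMap _ Subtype.val_injective
  have : J.map (algebraMap A B) = LinearMap.range f := by
    refine le_antisymm ?_ ?_
    · rw [Ideal.map_le_iff_le_comap]
      intro x hx
      use 1 ⊗ₜ ⟨x, hx⟩
      simp [f, Algebra.smul_def]
    · rintro - ⟨x, rfl⟩
      induction x with
      | zero => simp
      | add _ _ _ _ => simp_all [Ideal.add_mem]
      | tmul s x =>
        have : f (s ⊗ₜ[A] x) = s • f (1 ⊗ₜ x) := by simp [f]
        rw [this]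
        apply Ideal.mul_mem_left
        simpa [f, Algebra.smul_def] using Ideal.mem_map_of_mem _ x.2
  exact ⟨.ofInjective _ hf ≪≫ₗ .ofEq _ _ this.symm⟩

/-- A principal ideal generated by a nonzerodivisor is free of rank one. -/
theorem nonempty_equiv_span_singleton (t : B) (ht : t ∈ nonZeroDivisors B) :
    Nonempty (B ≃ₗ[B] (Ideal.span {t} : Ideal B)) := by
  let ψ : B →ₗ[B] B := LinearMap.toSpanSingleton B B t
  have hψ : Function.Injective ψ := by
    intro a b hab
    have h : (a - b) * t = 0 := by
      have : a * t = b * t := hab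
      rw [sub_mul, this, sub_self]
    exact sub_eq_zero.mp ((mul_right_mem_nonZeroDivisors_eq_zero_iff ht).1 h)
  have hr : LinearMap.range ψ = (Ideal.span {t} : Ideal B) := by
    rw [Ideal.span, LinearMap.span_singleton_eq_range]
  exact ⟨.ofInjective ψ hψ ≪≫ₗ .ofEq _ _ hr⟩

theorem nonempty_tensor_equiv_self [Module.Flat A B] (J : Ideal A) (t : B)
    (ht : t ∈ nonZeroDivisors B) (hJ : J.map (algebraMap A B) = Ideal.span {t}) :
    Nonempty (B ⊗[A] J ≃ₗ[B] B) := by
  obtain ⟨e1⟩ := nonempty_tensor_equiv_map (B := B) J
  obtain ⟨e2⟩ := nonempty_equiv_span_singleton t ht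
  exact ⟨e1 ≪≫ₗ .ofEq _ _ hJ ≪≫ₗ e2.symm⟩


/-- Finite presentation of modules descends along faithfully flat ring maps. -/
theorem finitePresentation_of_tensor [Module.FaithfullyFlat A B] (M : Type u) [AddCommGroup M]
    [Module A M] [Module.FinitePresentation B (B ⊗[A] M)] : Module.FinitePresentation A M := by
  haveI : Module.Finite B (B ⊗[A] M) := inferInstance
  haveI : Module.Finite A M := Module.Finite.of_finite_tensorProduct_of_faithfullyFlat B
  obtain ⟨n, f, hf⟩ := Module.Finite.exists_fin' A M
  apply Module.finitePresentation_of_surjective f hf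
  have hex : Function.Exact ((LinearMap.ker f).subtype.baseChange B) (f.baseChange B) :=
    lTensor_exact B f.exact_subtype_ker_map hf
  have hfg : (LinearMap.ker (f.baseChange B)).FG :=
    Module.FinitePresentation.fg_ker (f.baseChange B) (LinearMap.lTensor_surjective B hf)
  rw [LinearMap.exact_iff] at hex
  rw [hex] at hfg
  have hinj : Function.Injective ((LinearMap.ker f).subtype.baseChange B) :=
    Module.Flat.lTensor_preserves_injective_linearMap _ (Submodule.injective_subtype _)
  haveI : Module.Finite B (B ⊗[A] LinearMap.ker f) := by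
    have e := LinearEquiv.ofInjective _ hinj
    rw [Module.Finite.equiv_iff e, Module.Finite.iff_fg]
    exact hfg
  haveI : Module.Finite A (LinearMap.ker f) :=
    Module.Finite.of_finite_tensorProduct_of_faithfullyFlat B
  exact Module.Finite.iff_fg.1 inferInstance


/-- **Descent of local principality.** If `A → B` is faithfully flat and the extension of `J`
to `B` is generated by a nonzerodivisor, then `J` is locally generated by a nonzerodivisor. -/
theorem exists_principal_away [Module.FaithfullyFlat A B] (J : Ideal A) (t : B)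
    (ht : t ∈ nonZeroDivisors B) (hJ : J.map (algebraMap A B) = Ideal.span {t})
    (p : PrimeSpectrum A) :
    ∃ r : A, r ∉ p.asIdeal ∧ ∃ s : Localization.Away r,
      s ∈ nonZeroDivisors (Localization.Away r) ∧
        J.map (algebraMap A (Localization.Away r)) = Ideal.span {s} := by
  obtain ⟨e⟩ := nonempty_tensor_equiv_self J t ht hJ
  haveI : Module.FinitePresentation B (B ⊗[A] J) := Module.FinitePresentation.of_equiv e.symm
  haveI : Module.FinitePresentation A J := finitePresentation_of_tensor (B := B) J
  haveI : Module.Flat B (B ⊗[A] J) := Module.Flat.of_linearEquiv e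
  haveI : Module.Flat A J := Module.Flat.of_flat_tensorProduct A J B
  obtain ⟨q, hq⟩ := PrimeSpectrum.comap_surjective_of_faithfullyFlat (B := B) p
  haveI : Nontrivial B := ⟨⟨0, 1, fun h => q.2.ne_top ((Ideal.eq_top_iff_one _).2 (h ▸ zero_mem _))⟩⟩
  have hrank : Module.rankAtStalk (R := A) J p = 1 := by
    have h1 := Module.rankAtStalk_baseChange (R := A) (M := J) (S := B) q
    rw [Module.rankAtStalk_eq_of_equiv e, Module.rankAtStalk_self] at h1
    rw [← hq]
    exact h1.symm
  haveI : Module.Free (Localization.AtPrime p.asIdeal)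
      (LocalizedModule p.asIdeal.primeCompl J) := Module.free_of_flat_of_isLocalRing
  obtain ⟨r, hr, hfree, hfin⟩ := Module.FinitePresentation.exists_free_localizedModule_powers
    p.asIdeal.primeCompl (LocalizedModule.mkLinearMap p.asIdeal.primeCompl J)
    (Localization.AtPrime p.asIdeal)
  have hfin1 : Module.finrank (Localization.Away r) (LocalizedModule.Away r J) = 1 := by
    rw [hfin]
    exact hrank
  refine ⟨r, hr, ?_⟩
  haveI : Nontrivial (Localization.Away r) :=
    (IsLocalization.Away.lift (S := Localization.Away r) r
      (g := algebraMap A (Localization.AtPrime p.asIdeal))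
      (IsLocalization.map_units _ (⟨r, hr⟩ : p.asIdeal.primeCompl))).domain_nontrivial
  haveI : Module.Finite (Localization.Away r) (LocalizedModule.Away r J) :=
    Module.Finite.of_isLocalizedModule (Submonoid.powers r) (Rₚ := Localization.Away r)
      (LocalizedModule.mkLinearMap (Submonoid.powers r) J)
  let ε₁ : Localization.Away r ≃ₗ[Localization.Away r] LocalizedModule.Away r J :=
    LinearEquiv.ofFinrankEq _ _ (by rw [hfin1, Module.finrank_self])
  let ε₀ : LocalizedModule.Away r J ≃ₗ[A] J.map (algebraMap A (Localization.Away r)) :=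
    IsLocalizedModule.linearEquiv (Submonoid.powers r)
      (LocalizedModule.mkLinearMap (Submonoid.powers r) J)
      (Algebra.idealMap (Localization.Away r) J)
  let ε₂ : LocalizedModule.Away r J ≃ₗ[Localization.Away r]
      J.map (algebraMap A (Localization.Away r)) :=
    ε₀.extendScalarsOfIsLocalization (Submonoid.powers r) (Localization.Away r)
  let ε := ε₁ ≪≫ₗ ε₂
  refine ⟨(ε 1 : Localization.Away r), ?_, ?_⟩
  · rw [mem_nonZeroDivisors_iff_right]
    intro a ha
    have h1 : ε a = 0 := by
      apply Subtype.ext
      have : ε a = a • ε 1 := by rw [← map_smul, smul_eq_mul, mul_one]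
      rw [this]
      exact ha
    exact (LinearEquiv.map_eq_zero_iff ε).1 h1
  · apply le_antisymm
    · intro y hy
      rw [Ideal.mem_span_singleton']
      refine ⟨ε.symm ⟨y, hy⟩, ?_⟩
      have : ε (ε.symm ⟨y, hy⟩) = ε.symm ⟨y, hy⟩ • ε 1 := by
        rw [← map_smul, smul_eq_mul, mul_one]
      have h2 := congrArg Subtype.val this
      rw [LinearEquiv.apply_symm_apply] at h2
      exact h2.symm
    · rw [Ideal.span_le, Set.singleton_subset_iff]
      exact (ε 1).2

end Groth.Agent.H7.InvDesc
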