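import Groth.Prelude.Def_BlowUp2
import Groth.Agent.Lib.Helper7.InvDesc1
import Groth.Agent.Lib.Lead.QC.IdealComap
import Mathlib

/-!
# Descent of effective Cartier ideals along flat surjective open morphisms
-/

set_option autoImplicit false

universe u

open CategoryTheory CategoryTheory.Limits AlgebraicGeometry Opposite Topology

namespace Groth.Agent.H7.EffCart

open Groth.Agent.H7.InvDesc

variable {R U : Scheme.{u}}

/-- Local descent over a pair of affine opens with `s(B) ⊇ A`. -/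
theorem exists_principal_of_chart (s : R ⟶ U) [Flat s] (𝓙 : U.IdealSheafData)
    (A : U.affineOpens) (B : R.affineOpens) (e : B.1 ≤ s ⁻¹ᵁ A.1)
    (hsurj : (A.1 : Set U) ⊆ s '' (B.1 : Set R)) (t : Γ(R, B.1))
    (ht : t ∈ nonZeroDivisors Γ(R, B.1)) (hI : (𝓙.comap s).ideal B = Ideal.span {t})
    (u : U) (hu : u ∈ A.1) :
    ∃ A' : U.affineOpens, u ∈ A'.1 ∧
      ∃ f : Γ(U, A'.1), f ∈ nonZeroDivisors Γ(U, A'.1) ∧ 𝓙.ideal A' = Ideal.span {f} := by
  have hflat : (s.appLE A.1 B.1 e).hom.Flat := s.flat_appLE A.2 B.2 e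
  have hsurjSpec : Function.Surjective (PrimeSpectrum.comap (s.appLE A.1 B.1 e).hom) := by
    intro 𝔭
    have hy : A.2.fromSpec 𝔭 ∈ (A.1 : Set U) := by
      rw [← A.2.range_fromSpec]
      exact Set.mem_range_self 𝔭
    obtain ⟨x, hxB, hx⟩ := hsurj hy
    refine ⟨B.2.primeIdealOf ⟨x, hxB⟩, ?_⟩
    have h1 := IsAffineOpen.comap_primeIdealOf_appLE A.1 A.2 B.1 B.2 e hxB
    rw [h1]
    apply A.2.fromSpec.isOpenEmbedding.injective
    rw [A.2.fromSpec_primeIdealOf]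
    exact hx
  have hff : (s.appLE A.1 B.1 e).hom.FaithfullyFlat :=
    RingHom.FaithfullyFlat.iff_flat_and_comap_surjective.2 ⟨hflat, hsurjSpec⟩
  algebraize [(s.appLE A.1 B.1 e).hom]
  have hJ : (𝓙.ideal A).map (algebraMap Γ(U, A.1) Γ(R, B.1)) = Ideal.span {t} := by
    rw [← hI, Groth.Agent.LD.QC.ideal_comap_of_le 𝓙 s A B e]
    rfl
  obtain ⟨r, hr, s', hs', hJ'⟩ :=
    exists_principal_away (𝓙.ideal A) t ht hJ (A.2.primeIdealOf ⟨u, hu⟩)
  refine ⟨U.affineBasicOpen r, ?_, ?_⟩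
  · have h1 : A.2.fromSpec (A.2.primeIdealOf ⟨u, hu⟩) = u := A.2.fromSpec_primeIdealOf ⟨u, hu⟩
    have h2 : A.2.primeIdealOf ⟨u, hu⟩ ∈ (A.2.fromSpec ⁻¹ᵁ U.basicOpen r) := by
      rw [A.2.fromSpec_preimage_basicOpen]
      exact hr
    have h3 : A.2.fromSpec (A.2.primeIdealOf ⟨u, hu⟩) ∈ U.basicOpen r := h2
    rwa [h1] at h3
  · have hloc : IsLocalization.Away r Γ(U, U.basicOpen r) := A.2.isLocalization_basicOpen r
    let ε : Localization.Away r ≃ₐ[Γ(U, A.1)] Γ(U, U.basicOpen r) :=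
      IsLocalization.algEquiv (Submonoid.powers r) _ _
    refine ⟨ε s', ?_, ?_⟩
    · rw [mem_nonZeroDivisors_iff_right]
      intro a ha
      have h1 : ε (ε.symm a * s') = 0 := by
        rw [map_mul, AlgEquiv.apply_symm_apply]
        exact ha
      have h2 : ε.symm a * s' = 0 := (EmbeddingLike.map_eq_zero_iff (f := ε)).1 h1
      have h3 : ε.symm a = 0 := (mul_right_mem_nonZeroDivisors_eq_zero_iff hs').1 h2
      exact (EmbeddingLike.map_eq_zero_iff (f := ε.symm)).1 h3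
    · rw [← 𝓙.map_ideal_basicOpen A r]
      have hε : (U.presheaf.map (homOfLE (U.basicOpen_le r)).op).hom =
          (ε : Localization.Away r →+* Γ(U, U.basicOpen r)).comp
            (algebraMap Γ(U, A.1) (Localization.Away r)) := by
        ext x
        change algebraMap Γ(U, A.1) Γ(U, U.basicOpen r) x = ε (algebraMap _ _ x)
        rw [AlgEquiv.commutes]
      rw [hε, ← Ideal.map_map, hJ', Ideal.map_span, Set.image_singleton]
      rfl

/-- **Effective Cartier ideals descend along flat surjective open morphisms.** -/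
theorem isEffCartierIdeal_of_comap (s : R ⟶ U) [Flat s] [Surjective s] (hopen : IsOpenMap s)
    (𝓙 : U.IdealSheafData) (h : BlowUp.IsEffCartierIdeal (𝓙.comap s)) :
    BlowUp.IsEffCartierIdeal 𝓙 := by
  intro u
  obtain ⟨r, rfl⟩ := s.surjective u
  obtain ⟨B₀, hrB₀, t₀, ht₀, hI₀⟩ := h r
  obtain ⟨_, ⟨A₀, hA₀, rfl⟩, hsrA₀, -⟩ := U.isBasis_affineOpens.exists_subset_of_mem_open
    (Set.mem_univ (s r)) isOpen_univ
  obtain ⟨b, hbO, hrb⟩ := B₀.2.exists_basicOpen_le (V := B₀.1 ⊓ s ⁻¹ᵁ A₀)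
    ⟨r, ⟨hrB₀, hsrA₀⟩⟩ hrB₀
  have hB₁ : IsAffineOpen (R.basicOpen b) := B₀.2.basicOpen b
  have hB₁A₀ : R.basicOpen b ≤ s ⁻¹ᵁ A₀ := hbO.trans inf_le_right
  let O₂ : U.Opens := ⟨s '' (R.basicOpen b : Set R), hopen _ (R.basicOpen b).2⟩
  have hsrO₂ : s r ∈ O₂ := ⟨r, hrb, rfl⟩
  obtain ⟨a, haO, hsra⟩ := IsAffineOpen.exists_basicOpen_le hA₀ (V := O₂) ⟨s r, hsrO₂⟩ hsrA₀
  set a' := s.appLE A₀ (R.basicOpen b) hB₁A₀ a with ha'
  have hB₂ : R.basicOpen a' = R.basicOpen b ⊓ s ⁻¹ᵁ U.basicOpen a :=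
    Scheme.basicOpen_appLE s (R.basicOpen b) A₀ hB₁A₀ a
  let A₁ : U.affineOpens := ⟨U.basicOpen a, hA₀.basicOpen a⟩
  let B₂ : R.affineOpens := ⟨R.basicOpen a', hB₁.basicOpen a'⟩
  have e : B₂.1 ≤ s ⁻¹ᵁ A₁.1 := by
    change R.basicOpen a' ≤ _
    rw [hB₂]
    exact inf_le_right
  have hsurj : (A₁.1 : Set U) ⊆ s '' (B₂.1 : Set R) := by
    intro y hy
    obtain ⟨x, hxb, rfl⟩ := haO hy
    refine ⟨x, ?_, rfl⟩
    change x ∈ R.basicOpen a'
    rw [hB₂]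
    exact ⟨hxb, hy⟩
  have hB₂B₀ : B₂.1 ≤ B₀.1 := (R.basicOpen_le a').trans (R.basicOpen_le b)
  set t := R.presheaf.map (homOfLE hB₂B₀).op t₀ with ht_def
  have ht : t ∈ nonZeroDivisors Γ(R, B₂.1) := by
    have hfl : ((𝟙 R : R ⟶ R).appLE B₀.1 B₂.1 hB₂B₀).hom.Flat :=
      (𝟙 R : R ⟶ R).flat_appLE B₀.2 B₂.2 hB₂B₀
    have hid : (𝟙 R : R ⟶ R).appLE B₀.1 B₂.1 hB₂B₀ = R.presheaf.map (homOfLE hB₂B₀).op := by
      rw [Scheme.Hom.appLE, Scheme.Hom.id_app]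
      exact Category.id_comp _
    rw [hid] at hfl
    algebraize [(R.presheaf.map (homOfLE hB₂B₀).op).hom]
    exact Groth.Agent.LD.QC.map_mem_nonZeroDivisors_of_flat ht₀
  have hI : (𝓙.comap s).ideal B₂ = Ideal.span {t} := by
    rw [← (𝓙.comap s).map_ideal (U := B₂) (V := B₀) hB₂B₀, hI₀, Ideal.map_span, Set.image_singleton]
    rfl
  exact exists_principal_of_chart s 𝓙 A₁ B₂ e hsurj t ht hI (s r) hsra

end Groth.Agent.H7.EffCart
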