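import Groth.Prelude.Def_AlgSpSub
import Groth.Agent.Lib.Helper7.EffCart1
import Groth.Agent.Lib.Helper7.EffCartDesc
import Groth.Agent.Lib.Helper5.AlgSp.LocPCalc
import Mathlib

/-!
# Effective Cartier divisors on algebraic spaces: independence of the chart
-/

set_option autoImplicit false

universe u

open CategoryTheory CategoryTheory.Limits AlgebraicGeometry Opposite Topology

namespace Groth.Agent.H7.EffCart

open _root_.AlgSp Groth.Agent.H5.AlgSp

variable {S : Scheme.{u}}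

/-- Two closed subschemes of a scheme `R` over `S` which are both base changes of the same
morphism have the same ideal sheaf. -/
theorem ideal_eq_of_isPullback {X D : Sp S} {i : D ⟶ X} {R : Over S} {ξ : (yon S).obj R ⟶ X}
    {𝓚₁ 𝓚₂ : R.left.IdealSheafData} {f₁ : (yon S).obj (subOver R 𝓚₁) ⟶ D}
    {f₂ : (yon S).obj (subOver R 𝓚₂) ⟶ D}
    (sq₁ : IsPullback ((yon S).map (subOverι R 𝓚₁)) f₁ ξ i)
    (sq₂ : IsPullback ((yon S).map (subOverι R 𝓚₂)) f₂ ξ i) : 𝓚₁ = 𝓚₂ := by
  have aux : ∀ {𝓚₁ 𝓚₂ : R.left.IdealSheafData} {f₁ : (yon S).obj (subOver R 𝓚₁) ⟶ D}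
      {f₂ : (yon S).obj (subOver R 𝓚₂) ⟶ D}
      (_ : IsPullback ((yon S).map (subOverι R 𝓚₁)) f₁ ξ i)
      (_ : IsPullback ((yon S).map (subOverι R 𝓚₂)) f₂ ξ i), 𝓚₂ ≤ 𝓚₁ := by
    intro 𝓚₁ 𝓚₂ f₁ f₂ sq₁ sq₂
    obtain ⟨m, hm⟩ := (yon S).map_surjective (sq₂.lift ((yon S).map (subOverι R 𝓚₁)) f₁ sq₁.w)
    have h1 : m ≫ subOverι R 𝓚₂ = subOverι R 𝓚₁ := by
      apply (yon S).map_injective
      rw [Functor.map_comp, hm, sq₂.lift_fst]
    have h2 : m.left ≫ 𝓚₂.subschemeι = 𝓚₁.subschemeι := congrArg (fun k => k.left) h1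
    have h3 := Scheme.Hom.le_ker_comp m.left 𝓚₂.subschemeι
    rw [h2, Scheme.IdealSheafData.ker_subschemeι, Scheme.IdealSheafData.ker_subschemeι] at h3
    exact h3
  exact le_antisymm (aux sq₂ sq₁) (aux sq₁ sq₂)

/-- **Chart independence**: if `D` is effective Cartier (one-chart sense) then its ideal on every
étale chart is effective Cartier. -/
theorem isEffCartierIdeal_of_isEffCartierSub {X D : Sp S} (hX : IsAlgSpace X) {i : D ⟶ X}
    (hD : IsEffCartierSub i) {U : Over S} {ψ : (yon S).obj U ⟶ X} (hψ : RepWith @Etale ψ)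
    (𝓙 : U.left.IdealSheafData) (fstU : (yon S).obj (subOver U 𝓙) ⟶ D)
    (sqU : IsPullback fstU ((yon S).map (subOverι U 𝓙)) i ψ) : BlowUp.IsEffCartierIdeal 𝓙 := by
  obtain ⟨hi, V, φ, 𝓘, fstD, hφe, hφs, sqD, hC⟩ := hD
  have hrep := hX.representable_from_yon ψ
  have sqR := hrep.isPullback φ
  obtain ⟨s, hs⟩ := (yon S).map_surjective (hrep.fst φ)
  rw [← hs] at sqR
  set t := hrep.snd φ with ht_def
  have hse : RepWith @Etale ((yon S).map s) := (RepWith @Etale).of_isPullback sqR.flip hφe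
  have hss : RepWith @Surjective ((yon S).map s) :=
    (RepWith @Surjective).of_isPullback sqR.flip hφs
  have hte : RepWith @Etale ((yon S).map t) := (RepWith @Etale).of_isPullback sqR hψ
  haveI : Etale s.left := (repWith_yon_map_iff @Etale s).1 hse
  haveI : Surjective s.left := (repWith_yon_map_iff @Surjective s).1 hss
  haveI : Etale t.left := (repWith_yon_map_iff @Etale t).1 hte
  obtain ⟨m₁, sq₁⟩ := isPullback_comap s 𝓙
  obtain ⟨m₂, sq₂⟩ := isPullback_comap t 𝓘
  have big₁ := sq₁.paste_vert sqU.flip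
  have big₂ := sq₂.paste_vert sqD.flip
  rw [← sqR.w] at big₂
  have heq : 𝓙.comap s.left = 𝓘.comap t.left := ideal_eq_of_isPullback big₁ big₂
  have hK : BlowUp.IsEffCartierIdeal (𝓙.comap s.left) := by
    rw [heq]
    exact Groth.Agent.LD.QC.isEffCartierIdeal_comap_of_flat t.left 𝓘 hC
  exact isEffCartierIdeal_of_comap s.left s.left.isOpenMap 𝓙 hK

theorem S10791_main (X D : AlgSp.Space S) (i : D ⟶ X)
    (hi : AlgSp.RepWith @IsClosedImmersion i.hom) :
    AlgSp.IsEffCartierSub i.hom ↔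
      ∀ (U : Over S) (φ : (AlgSp.yon S).obj U ⟶ X.obj), AlgSp.RepWith @Etale φ →
        ∀ (I : U.left.IdealSheafData)
          (fst : (AlgSp.yon S).obj (Over.mk (I.subschemeι ≫ U.hom)) ⟶ D.obj),
          IsPullback fst ((AlgSp.yon S).map
            (Over.homMk I.subschemeι rfl : Over.mk (I.subschemeι ≫ U.hom) ⟶ U)) i.hom φ →
            BlowUp.IsEffCartierIdeal I := by
  constructor
  · intro hD U φ hφ I fst sq
    exact isEffCartierIdeal_of_isEffCartierSub X.property hD hφ I fst sq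
  · intro h
    obtain ⟨V, φ, hφe, hφs⟩ := X.property.atlas
    have sq := hi.1.isPullback φ
    haveI : IsClosedImmersion (hi.1.snd φ).left := hi.property _ _ _ sq
    let 𝓘 : V.left.IdealSheafData := (hi.1.snd φ).left.ker
    -- the pulled back closed subscheme is the closed subscheme of its ideal
    let e₀ : (hi.1.pullback φ).left ≅ 𝓘.subscheme := asIso (hi.1.snd φ).left.toImage
    have he₀ : e₀.hom ≫ 𝓘.subschemeι = (hi.1.snd φ).left := Scheme.Hom.toImage_imageι _
    let e : hi.1.pullback φ ≅ subOver V 𝓘 := Over.isoMk e₀ (by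
      change e₀.hom ≫ 𝓘.subschemeι ≫ V.hom = _
      rw [← Category.assoc, he₀, Over.w])
    have he : e.hom ≫ subOverι V 𝓘 = hi.1.snd φ := Over.OverMorphism.ext he₀
    have sq' : IsPullback ((yon S).map e.inv ≫ hi.1.fst φ) ((yon S).map (subOverι V 𝓘)) i.hom φ := by
      refine IsPullback.of_iso sq ((yon S).mapIso e) (Iso.refl _) (Iso.refl _) (Iso.refl _)
        ?_ ?_ ?_ ?_
      · simp [← Functor.map_comp_assoc]
      · simp only [Functor.mapIso_hom, Iso.refl_hom, Category.comp_id, ← Functor.map_comp, he]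
      · simp
      · simp
    exact ⟨hi, V, φ, 𝓘, _, hφe, hφs, sq', h V φ hφe 𝓘 _ sq'⟩

end Groth.Agent.H7.EffCart
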