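import Groth.Prelude.Def_BlowUp2
import Groth.Agent.Lib.Helper7.EffCartDesc
import Mathlib

/-!
# Descent of effective Cartier ideals: pointwise version
-/

set_option autoImplicit false

universe u

open CategoryTheory CategoryTheory.Limits AlgebraicGeometry Opposite Topology

namespace Groth.Agent.H7.EffCart

open Groth.Agent.H7.InvDesc

variable {R U : Scheme.{u}}

/-- Local version of `isEffCartierIdeal_of_comap`: descent at one point. -/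
theorem exists_principal_of_comap_at (s : R ⟶ U) [Flat s] (hopen : IsOpenMap s)
    (𝓙 : U.IdealSheafData) (r : R)
    (h : ∃ B₀ : R.affineOpens, r ∈ B₀.1 ∧ ∃ t₀ : Γ(R, B₀.1), t₀ ∈ nonZeroDivisors Γ(R, B₀.1) ∧
      (𝓙.comap s).ideal B₀ = Ideal.span {t₀}) :
    ∃ A' : U.affineOpens, s r ∈ A'.1 ∧
      ∃ f : Γ(U, A'.1), f ∈ nonZeroDivisors Γ(U, A'.1) ∧ 𝓙.ideal A' = Ideal.span {f} := by
  obtain ⟨B₀, hrB₀, t₀, ht₀, hI₀⟩ := h
  obtain ⟨_, ⟨A₀, hA₀, rfl⟩, hsrA₀, -⟩ := U.isBasis_affineOpens.exists_subset_of_mem_open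
    (Set.mem_univ (s r)) isOpen_univ
  obtain ⟨b, hbO, hrb⟩ := B₀.2.exists_basicOpen_le (V := B₀.1 ⊓ s ⁻¹ᵁ A₀)
    ⟨r, ⟨hrB₀, hsrA₀⟩⟩ hrB₀
  have hB₁ : IsAffineOpen (R.basicOpen b) := B₀.2.basicOpen b
  have hB₁A₀ : R.basicOpen b ≤ s ⁻¹ᵁ A₀ := hbO.trans inf_le_right
  let O₂ : U.Opens := ⟨s '' (R.basicOpen b : Set R), hopen _ (R.basicOpen b).2⟩
  have hsrO₂ : s r ∈ O₂ := ⟨r, hrb, rfl⟩
  obtain ⟨a, haO, hsra⟩ := IsAffineOpen.exists_basicOpen_le hA₀ (V := O₂) ⟨s r, hsrO₂⟩ hsrA₀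
  set a' := s.appLE A₀ (R.basicOpen b) hB₁A₀ a with ha'
  have hB₂ : R.basicOpen a' = R.basicOpen b ⊓ s ⁻¹ᵁ U.basicOpen a :=
    Scheme.basicOpen_appLE s (R.basicOpen b) A₀ hB₁A₀ a
  let A₁ : U.affineOpens := ⟨U.basicOpen a, hA₀.basicOpen a⟩
  let B₂ : R.affineOpens := ⟨R.basicOpen a', hB₁.basicOpen a'⟩
  have e : B₂.1 ≤ s ⁻¹ᵁ A₁.1 := by
    change R.basicOpen a' ≤ _
    rw [hB₂]
    exact inf_le_right
  have hsurj : (A₁.1 : Set U) ⊆ s '' (B₂.1 : Set R) := by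
    intro y hy
    obtain ⟨x, hxb, rfl⟩ := haO hy
    refine ⟨x, ?_, rfl⟩
    change x ∈ R.basicOpen a'
    rw [hB₂]
    exact ⟨hxb, hy⟩
  have hB₂B₀ : B₂.1 ≤ B₀.1 := (R.basicOpen_le a').trans (R.basicOpen_le b)
  set t := R.presheaf.map (homOfLE hB₂B₀).op t₀ with ht_def
  have ht : t ∈ nonZeroDivisors Γ(R, B₂.1) := by
    have hfl : ((𝟙 R : R ⟶ R).appLE B₀.1 B₂.1 hB₂B₀).hom.Flat :=
      (𝟙 R : R ⟶ R).flat_appLE B₀.2 B₂.2 hB₂B₀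
    have hid : (𝟙 R : R ⟶ R).appLE B₀.1 B₂.1 hB₂B₀ = R.presheaf.map (homOfLE hB₂B₀).op := by
      rw [Scheme.Hom.appLE, Scheme.Hom.id_app]
      exact Category.id_comp _
    rw [hid] at hfl
    algebraize [(R.presheaf.map (homOfLE hB₂B₀).op).hom]
    exact Groth.Agent.LD.QC.map_mem_nonZeroDivisors_of_flat ht₀
  have hI : (𝓙.comap s).ideal B₂ = Ideal.span {t} := by
    rw [← (𝓙.comap s).map_ideal (U := B₂) (V := B₀) hB₂B₀, hI₀, Ideal.map_span, Set.image_singleton]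
    rfl
  exact exists_principal_of_chart s 𝓙 A₁ B₂ e hsurj t ht hI (s r) hsra

end Groth.Agent.H7.EffCart
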