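import Groth.Prelude.Def_AlgSpSub
import Groth.Agent.Lib.Helper7.EffCart4
import Groth.Agent.Lib.Helper7.EffCartDesc2
import Groth.Agent.Lib.Helper5.AlgSp.Points
import Groth.Agent.Lib.Helper5.AlgSp.PointsTop
import Mathlib

/-!
# Effective Cartier divisors on algebraic spaces: pointed affine form
-/

set_option autoImplicit false

universe u

open CategoryTheory CategoryTheory.Limits AlgebraicGeometry Opposite Topology

namespace Groth.Agent.H7.EffCart

open _root_.AlgSp Groth.Agent.H5.AlgSp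

variable {S : Scheme.{u}}

/-- The inverse image of a closed subspace in an étale chart is the closed subscheme of an ideal
sheaf. -/
theorem exists_chart_ideal {X D : Sp S} {i : D ⟶ X} (hi : RepWith @IsClosedImmersion i)
    {V : Over S} (φ : (yon S).obj V ⟶ X) :
    ∃ (𝓘 : V.left.IdealSheafData) (fst : (yon S).obj (subOver V 𝓘) ⟶ D),
      IsPullback fst ((yon S).map (subOverι V 𝓘)) i φ := by
  have sq := hi.1.isPullback φ
  haveI : IsClosedImmersion (hi.1.snd φ).left := hi.property _ _ _ sq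
  let 𝓘 : V.left.IdealSheafData := (hi.1.snd φ).left.ker
  let e₀ : (hi.1.pullback φ).left ≅ 𝓘.subscheme := asIso (hi.1.snd φ).left.toImage
  have he₀ : e₀.hom ≫ 𝓘.subschemeι = (hi.1.snd φ).left := Scheme.Hom.toImage_imageι _
  let e : hi.1.pullback φ ≅ subOver V 𝓘 := Over.isoMk e₀ (by
    change e₀.hom ≫ 𝓘.subschemeι ≫ V.hom = _
    rw [← Category.assoc, he₀, Over.w])
  have he : e.hom ≫ subOverι V 𝓘 = hi.1.snd φ := Over.OverMorphism.ext he₀
  refine ⟨𝓘, (yon S).map e.inv ≫ hi.1.fst φ, ?_⟩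
  refine IsPullback.of_iso sq ((yon S).mapIso e) (Iso.refl _) (Iso.refl _) (Iso.refl _)
    ?_ ?_ ?_ ?_
  · simp [← Functor.map_comp_assoc]
  · simp only [Functor.mapIso_hom, Iso.refl_hom, Category.comp_id, ← Functor.map_comp, he]
  · simp
  · simp

/-- An ideal sheaf whose global ideal on an affine scheme is generated by a nonzerodivisor pulls
back under a flat morphism to an ideal sheaf which is principal, generated by a nonzerodivisor,
on every affine open. -/
theorem comap_principal_of_flat {R U : Scheme.{u}} [IsAffine U] (s : R ⟶ U) [Flat s]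
    (I : U.IdealSheafData) (f : Γ(U, ⊤)) (hf : f ∈ nonZeroDivisors Γ(U, ⊤))
    (hI : I.ideal ⟨⊤, isAffineOpen_top U⟩ = Ideal.span {f}) (B : R.affineOpens) :
    ∃ t : Γ(R, B.1), t ∈ nonZeroDivisors Γ(R, B.1) ∧ (I.comap s).ideal B = Ideal.span {t} := by
  have e : B.1 ≤ s ⁻¹ᵁ (⊤ : U.Opens) := le_top
  refine ⟨(s.appLE ⊤ B.1 e).hom f, ?_, ?_⟩
  · have hfl : (s.appLE ⊤ B.1 e).hom.Flat := s.flat_appLE (isAffineOpen_top U) B.2 e
    algebraize [(s.appLE ⊤ B.1 e).hom]
    exact Groth.Agent.LD.QC.map_mem_nonZeroDivisors_of_flat hf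
  · rw [Groth.Agent.LD.QC.ideal_comap_of_le I s ⟨⊤, isAffineOpen_top U⟩ B e, hI, Ideal.map_span,
      Set.image_singleton]

theorem S10792_main (X D : AlgSp.Space S) (i : D ⟶ X)
    (hi : AlgSp.RepWith @IsClosedImmersion i.hom) :
    AlgSp.IsEffCartierSub i.hom ↔
      ∀ x : AlgSp.Points D.obj,
        ∃ (U : Over S) (_ : IsAffine U.left) (a : (AlgSp.yon S).obj U ⟶ X.obj) (u : ↥U.left)
          (f : Γ(U.left, ⊤)) (I : U.left.IdealSheafData)
          (fst : (AlgSp.yon S).obj (Over.mk (I.subschemeι ≫ U.hom)) ⟶ D.obj),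
          AlgSp.RepWith @Etale a ∧ AlgSp.Points.ofPt a u = AlgSp.Points.map i.hom x ∧
            f ∈ nonZeroDivisors Γ(U.left, ⊤) ∧
            I.ideal ⟨⊤, isAffineOpen_top U.left⟩ = Ideal.span {f} ∧
            IsPullback fst ((AlgSp.yon S).map
              (Over.homMk I.subschemeι rfl : Over.mk (I.subschemeι ≫ U.hom) ⟶ U)) i.hom a := by
  constructor
  · rintro ⟨-, V, φ, 𝓘, fstD, hφe, hφs, sqD, hC⟩ x
    obtain ⟨v, hv⟩ := ofPt_surjective_of_repWith hφs (Points.map i.hom x)
    obtain ⟨A, hvA, f, hf, hI⟩ := hC v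
    haveI hAff : IsAffine (overOpen V A.1).left := A.2
    have e : (⊤ : (A.1 : Scheme).Opens) ≤ A.1.ι ⁻¹ᵁ A.1 := by
      rw [Scheme.Opens.ι_preimage_self]
    obtain ⟨m, sqm⟩ := isPullback_comap (overOpenι V A.1) 𝓘
    refine ⟨overOpen V A.1, hAff, (yon S).map (overOpenι V A.1) ≫ φ, ⟨v, hvA⟩,
      (A.1.ι.appLE A.1 ⊤ e).hom f, 𝓘.comap A.1.ι, (yon S).map m ≫ fstD,
      repWith_etale_restrict hφe A.1, ?_, ?_, ?_, ?_⟩
    · rw [ofPt_restrict, hv]
    · have hfl : (A.1.ι.appLE A.1 ⊤ e).hom.Flat :=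
        A.1.ι.flat_appLE A.2 (isAffineOpen_top _) e
      algebraize [(A.1.ι.appLE A.1 ⊤ e).hom]
      have := Groth.Agent.LD.QC.map_mem_nonZeroDivisors_of_flat (A := Γ(V.left, A.1))
        (B := Γ((A.1 : Scheme), ⊤)) hf
      exact this
    · rw [Groth.Agent.LD.QC.ideal_comap_of_le 𝓘 A.1.ι A ⟨⊤, isAffineOpen_top _⟩ e, hI,
        Ideal.map_span, Set.image_singleton]
      rfl
    · exact (sqm.paste_vert sqD.flip).flip
  · intro h
    obtain ⟨V, φ, hφe, hφs⟩ := X.property.atlas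
    obtain ⟨𝓘, fst', sq'⟩ := exists_chart_ideal hi φ
    refine ⟨hi, V, φ, 𝓘, fst', hφe, hφs, sq', ?_⟩
    intro v
    by_cases hv : v ∈ 𝓘.support
    · rw [← SetLike.mem_coe, ← Scheme.IdealSheafData.range_subschemeι] at hv
      obtain ⟨z, rfl⟩ := hv
      obtain ⟨U, hU, a, u, f, I, fstU, hae, hau, hf, hIf, sqU⟩ := h (Points.ofPt fst' z)
      haveI : IsAffine U.left := hU
      have hx : Points.map i.hom (Points.ofPt fst' z) = Points.ofPt φ (𝓘.subschemeι z) := by
        rw [Points.map_ofPt, sq'.w]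
        exact ofPt_yon_map_comp (subOverι V 𝓘) φ z
      have hrep := X.property.representable_from_yon a
      have sqR := hrep.isPullback φ
      obtain ⟨s, hs⟩ := (yon S).map_surjective (hrep.fst φ)
      rw [← hs] at sqR
      set t := hrep.snd φ with ht_def
      have hse : RepWith @Etale ((yon S).map s) := (RepWith @Etale).of_isPullback sqR.flip hφe
      have hte : RepWith @Etale ((yon S).map t) := (RepWith @Etale).of_isPullback sqR hae
      haveI : Etale s.left := (repWith_yon_map_iff @Etale s).1 hse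
      haveI : Etale t.left := (repWith_yon_map_iff @Etale t).1 hte
      obtain ⟨r, hr, -⟩ := exists_point_of_isPullback sqR (Points.ofScheme U u)
        (𝓘.subschemeι z) (by rw [← Points.ofPt_eq_map_ofScheme, hau, hx])
      obtain ⟨m₁, sq₁⟩ := isPullback_comap s I
      obtain ⟨m₂, sq₂⟩ := isPullback_comap t 𝓘
      have big₁ := sq₁.paste_vert sqU.flip
      have big₂ := sq₂.paste_vert sq'.flip
      rw [← sqR.w] at big₂
      have heq : I.comap s.left = 𝓘.comap t.left := ideal_eq_of_isPullback big₁ big₂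
      obtain ⟨_, ⟨B₀, hB₀, rfl⟩, hrB₀, -⟩ :=
        (hrep.pullback φ).left.isBasis_affineOpens.exists_subset_of_mem_open
          (Set.mem_univ r) isOpen_univ
      obtain ⟨t₀, ht₀, hI₀⟩ := comap_principal_of_flat s.left I f hf hIf ⟨B₀, hB₀⟩
      rw [heq] at hI₀
      have := exists_principal_of_comap_at t.left t.left.isOpenMap 𝓘 r
        ⟨⟨B₀, hB₀⟩, hrB₀, t₀, ht₀, hI₀⟩
      rw [hr] at this
      exact this
    · obtain ⟨_, ⟨A, hA, rfl⟩, hvA, hAs⟩ := V.left.isBasis_affineOpens.exists_subset_of_mem_open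
        (show v ∈ ((𝓘.support : Set V.left)ᶜ) from hv) 𝓘.support.isClosed.isOpen_compl
      refine ⟨⟨A, hA⟩, hvA, 1, one_mem _, ?_⟩
      rw [Ideal.span_singleton_one]
      have h1 := (hA.fromSpec_image_zeroLocus (𝓘.ideal ⟨A, hA⟩ : Set Γ(V.left, A)))
      rw [← 𝓘.coe_support_inter ⟨A, hA⟩] at h1
      have h2 : (𝓘.support : Set V.left) ∩ A = ∅ := by
        ext y
        simp only [Set.mem_inter_iff, Set.mem_empty_iff_false, iff_false, not_and]
        intro hy hyA
        exact hAs hyA hy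
      rw [h2, Set.image_eq_empty] at h1
      exact PrimeSpectrum.zeroLocus_empty_iff_eq_top.mp h1

end Groth.Agent.H7.EffCart
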