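import Groth.Prelude.Def_AlgSpSub
import Groth.Prelude.Def_AlgSpModX
import Groth.Agent.Lib.Helper7.EffCart5
import Groth.Agent.Lib.Helper7.CutOut2
import Groth.Agent.Lib.Helper7.IdealAff1
import Groth.Agent.Lib.Lead.QC.RelCartier
import Mathlib

/-!
# Sums of effective Cartier divisors on algebraic spaces
-/

set_option autoImplicit false

universe u

open CategoryTheory CategoryTheory.Limits AlgebraicGeometry Opposite Topology

namespace Groth.Agent.H7.EffCart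

open _root_.AlgSp Groth.Agent.H5.AlgSp

variable {S : Scheme.{u}}

/-- The product of two effective Cartier ideals is effective Cartier. -/
theorem isEffCartierIdeal_mul {V : Scheme.{u}} (D₁ D₂ : V.IdealSheafData)
    (h₁ : BlowUp.IsEffCartierIdeal D₁) (h₂ : BlowUp.IsEffCartierIdeal D₂) :
    BlowUp.IsEffCartierIdeal (D₁ * D₂) := by
  intro x
  obtain ⟨U, hxU, -, ⟨a₁, ha₁, hI₁⟩, ⟨a₂, ha₂, hI₂⟩⟩ :=
    Groth.Agent.LD.QC.exists_affine_principal₂ D₁ D₂ h₁ h₂ x ⊤ trivial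
  refine ⟨U, hxU, a₁ * a₂, mul_mem ha₁ ha₂, ?_⟩
  rw [Scheme.IdealSheafData.ideal_mul, Pi.mul_apply, hI₁, hI₂,
    Ideal.span_singleton_mul_span_singleton]

/-- The value of the kernel family of `i` on an affine open of an étale chart is the ideal of
global sections of the restricted chart ideal. -/
theorem idealOfRep_chart {X D : Sp S} {i : D ⟶ X} (hi : Representable i) {V : Over S}
    {φ : (yon S).obj V ⟶ X} (hφ : RepWith @Etale φ) (𝓘 : V.left.IdealSheafData)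
    (fst : (yon S).obj (subOver V 𝓘) ⟶ D)
    (sq : IsPullback fst ((yon S).map (subOverι V 𝓘)) i φ) (A : V.left.affineOpens) :
    (idealOfRep hi).ideal
        (EtOver.mk ((yon S).map (overOpenι V A.1) ≫ φ) (repWith_etale_restrict hφ A.1)) A.2 =
      (𝓘.comap A.1.ι).ideal ⟨⊤, isAffineOpen_top _⟩ := by
  obtain ⟨m, sqm⟩ := isPullback_comap (overOpenι V A.1) 𝓘
  have sq' := (sqm.paste_vert sq.flip).flip
  have sq₀ := hi.isPullback ((yon S).map (overOpenι V A.1) ≫ φ)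
  have h1 := Groth.Agent.H7.CutOut2.ker_appTop_eq_of_isPullback sq₀ sq'
  change RingHom.ker (hi.snd ((yon S).map (overOpenι V A.1) ≫ φ)).left.appTop.hom = _
  rw [h1]
  have h2 := Scheme.Hom.ker_apply (𝓘.comap A.1.ι).subschemeι ⟨⊤, isAffineOpen_top _⟩
  rw [Scheme.IdealSheafData.ker_subschemeι] at h2
  exact h2.symm

theorem S10814_main (X D₁ D₂ D : AlgSp.Space S)
    (i₁ : D₁ ⟶ X) (i₂ : D₂ ⟶ X) (i : D ⟶ X) (I₁ I₂ : AlgSp.IdealEt X.obj)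
    (h₁ : AlgSp.IsCutOutBy I₁ i₁.hom) (h₂ : AlgSp.IsCutOutBy I₂ i₂.hom)
    (hD : AlgSp.IsCutOutBy (I₁ * I₂) i.hom)
    (e₁ : AlgSp.IsEffCartierSub i₁.hom) (e₂ : AlgSp.IsEffCartierSub i₂.hom) :
    AlgSp.IsEffCartierSub i.hom := by
  obtain ⟨hi, hD'⟩ := hD
  obtain ⟨hi₁, h₁'⟩ := h₁
  obtain ⟨hi₂, h₂'⟩ := h₂
  subst h₁' h₂'
  obtain ⟨V, φ, hφe, hφs⟩ := X.property.atlas
  obtain ⟨𝓘, fst, sq⟩ := exists_chart_ideal hi φ
  obtain ⟨𝓘₁, fst₁, sq₁⟩ := exists_chart_ideal hi₁ φ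
  obtain ⟨𝓘₂, fst₂, sq₂⟩ := exists_chart_ideal hi₂ φ
  have hC₁ := isEffCartierIdeal_of_isEffCartierSub X.property e₁ hφe 𝓘₁ fst₁ sq₁
  have hC₂ := isEffCartierIdeal_of_isEffCartierSub X.property e₂ hφe 𝓘₂ fst₂ sq₂
  have heq : 𝓘 = 𝓘₁ * 𝓘₂ := by
    apply Groth.Agent.H7.IdealAff.ext_of_comap_ι
    intro A
    haveI : IsAffine (A.1 : Scheme) := A.2
    apply Scheme.IdealSheafData.ext_of_isAffine
    have e : (⊤ : (A.1 : Scheme).Opens) ≤ A.1.ι ⁻¹ᵁ A.1 := by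
      rw [Scheme.Opens.ι_preimage_self]
    rw [← idealOfRep_chart hi.1 hφe 𝓘 fst sq A, hD', IdealEt.mul_ideal,
      idealOfRep_chart hi₁.1 hφe 𝓘₁ fst₁ sq₁ A, idealOfRep_chart hi₂.1 hφe 𝓘₂ fst₂ sq₂ A,
      Groth.Agent.LD.QC.ideal_comap_of_le 𝓘₁ A.1.ι A ⟨⊤, isAffineOpen_top _⟩ e,
      Groth.Agent.LD.QC.ideal_comap_of_le 𝓘₂ A.1.ι A ⟨⊤, isAffineOpen_top _⟩ e,
      Groth.Agent.LD.QC.ideal_comap_of_le (𝓘₁ * 𝓘₂) A.1.ι A ⟨⊤, isAffineOpen_top _⟩ e,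
      ← Ideal.map_mul]
    rfl
  refine ⟨hi, V, φ, 𝓘, fst, hφe, hφs, sq, ?_⟩
  rw [heq]
  exact isEffCartierIdeal_mul 𝓘₁ 𝓘₂ hC₁ hC₂

end Groth.Agent.H7.EffCart
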