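import Groth.Prelude.Def_AlgSpSub
import Groth.Prelude.Def_AlgSpModX
import Groth.Agent.Lib.Helper7.EffCart6
import Mathlib

/-!
# Factors of effective Cartier divisors on algebraic spaces
-/

set_option autoImplicit false

universe u

open CategoryTheory CategoryTheory.Limits AlgebraicGeometry Opposite Topology

namespace Groth.Agent.H7.EffCart

open _root_.AlgSp Groth.Agent.H5.AlgSp

section Ring

variable {A : Type u} [CommRing A]

/-- If `I * J = (f)` with `f` a nonzerodivisor then near every prime, `f` times a unit is a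
product of an element of `I` and an element of `J`. -/
theorem exists_mul_eq_of_mul_eq_span (I J : Ideal A) (f : A) (hf : f ∈ nonZeroDivisors A)
    (h : I * J = Ideal.span {f}) (p : Ideal A) [p.IsPrime] :
    ∃ a ∈ I, ∃ b ∈ J, ∃ c : A, c ∉ p ∧ a * b = c * f := by
  by_contra hcon
  push_neg at hcon
  have key : ∀ x ∈ I * J, ∃ c ∈ p, x = c * f := by
    intro x hx
    refine Submodule.mul_induction_on hx ?_ ?_
    · intro a ha b hb
      have hab : a * b ∈ Ideal.span {f} := h ▸ Ideal.mul_mem_mul ha hb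
      obtain ⟨c, hc⟩ := Ideal.mem_span_singleton'.1 hab
      refine ⟨c, ?_, hc.symm⟩
      by_contra hcp
      exact hcon a ha b hb c hcp hc.symm
    · rintro x y ⟨c, hc, rfl⟩ ⟨d, hd, rfl⟩
      exact ⟨c + d, p.add_mem hc hd, by ring⟩
  have hfmem : f ∈ I * J := h ▸ Ideal.mem_span_singleton_self f
  obtain ⟨c, hc, hcf⟩ := key f hfmem
  have h1 : (c - 1) * f = 0 := by
    rw [sub_mul, one_mul, ← hcf, sub_self]
  have h2 : c - 1 = 0 := (mul_right_mem_nonZeroDivisors_eq_zero_iff hf).1 h1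
  have h3 : c = 1 := sub_eq_zero.1 h2
  rw [h3] at hc
  exact (Ideal.IsPrime.ne_top ‹_›) ((Ideal.eq_top_iff_one p).2 hc)

/-- After inverting `c`, `I` is generated by the nonzerodivisor `a`. -/
theorem map_eq_span_of_mul_eq (I J : Ideal A) (f : A) (hf : f ∈ nonZeroDivisors A)
    (h : I * J = Ideal.span {f}) (a b c : A) (ha : a ∈ I) (hb : b ∈ J) (habc : a * b = c * f)
    (A' : Type u) [CommRing A'] [Algebra A A'] [IsLocalization.Away c A'] :
    algebraMap A A' a ∈ nonZeroDivisors A' ∧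
      I.map (algebraMap A A') = Ideal.span {algebraMap A A' a} := by
  have hcu : IsUnit (algebraMap A A' c) := IsLocalization.Away.algebraMap_isUnit c
  have hf' : algebraMap A A' f ∈ nonZeroDivisors A' :=
    IsLocalization.map_nonZeroDivisors_le (Submonoid.powers c) A'
      (Submonoid.mem_map_of_mem (algebraMap A A') hf)
  have hab' : algebraMap A A' a * algebraMap A A' b ∈ nonZeroDivisors A' := by
    rw [← map_mul, habc, map_mul]
    exact mul_mem hcu.mem_nonZeroDivisors hf'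
  have ha' : algebraMap A A' a ∈ nonZeroDivisors A' := (mul_mem_nonZeroDivisors.1 hab').1
  have hb' : algebraMap A A' b ∈ nonZeroDivisors A' := (mul_mem_nonZeroDivisors.1 hab').2
  refine ⟨ha', le_antisymm ?_ ?_⟩
  · rw [Ideal.map_le_iff_le_comap]
    intro y hy
    rw [Ideal.mem_comap]
    have hyb : y * b ∈ Ideal.span {f} := h ▸ Ideal.mul_mem_mul hy hb
    obtain ⟨d, hd⟩ := Ideal.mem_span_singleton'.1 hyb
    obtain ⟨cu, hcu'⟩ := hcu
    have e1 : algebraMap A A' y * algebraMap A A' b =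
        (algebraMap A A' d * ↑cu⁻¹ * algebraMap A A' a) * algebraMap A A' b := by
      have h1 : algebraMap A A' y * algebraMap A A' b = algebraMap A A' d * algebraMap A A' f := by
        rw [← map_mul, ← hd, map_mul]
      have h2 : algebraMap A A' a * algebraMap A A' b = ↑cu * algebraMap A A' f := by
        rw [← map_mul, habc, map_mul, hcu']
      have h3 : algebraMap A A' f = ↑cu⁻¹ * (algebraMap A A' a * algebraMap A A' b) := by
        rw [h2, ← mul_assoc, Units.inv_mul, one_mul]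
      rw [h1, h3]
      ring
    have e2 : algebraMap A A' y = algebraMap A A' d * ↑cu⁻¹ * algebraMap A A' a := by
      have h4 : (algebraMap A A' y - algebraMap A A' d * ↑cu⁻¹ * algebraMap A A' a) *
          algebraMap A A' b = 0 := by
        rw [sub_mul, e1, sub_self]
      exact sub_eq_zero.1 ((mul_right_mem_nonZeroDivisors_eq_zero_iff hb').1 h4)
    rw [e2]
    exact Ideal.mul_mem_left _ _ (Ideal.mem_span_singleton_self _)
  · rw [Ideal.span_le, Set.singleton_subset_iff]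
    exact Ideal.mem_map_of_mem _ ha

end Ring

/-- A factor of an effective Cartier ideal is effective Cartier. -/
theorem isEffCartierIdeal_of_mul_left {V : Scheme.{u}} (𝓘 𝓙 : V.IdealSheafData)
    (h : BlowUp.IsEffCartierIdeal (𝓘 * 𝓙)) : BlowUp.IsEffCartierIdeal 𝓘 := by
  intro v
  obtain ⟨A, hvA, f, hf, hI⟩ := h v
  rw [Scheme.IdealSheafData.ideal_mul, Pi.mul_apply] at hI
  haveI : (A.2.primeIdealOf ⟨v, hvA⟩).asIdeal.IsPrime := (A.2.primeIdealOf ⟨v, hvA⟩).2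
  obtain ⟨a, ha, b, hb, c, hc, habc⟩ := exists_mul_eq_of_mul_eq_span (𝓘.ideal A) (𝓙.ideal A) f hf hI
    (A.2.primeIdealOf ⟨v, hvA⟩).asIdeal
  have hloc : IsLocalization.Away c Γ(V, V.basicOpen c) := A.2.isLocalization_basicOpen c
  obtain ⟨h1, h2⟩ := map_eq_span_of_mul_eq (𝓘.ideal A) (𝓙.ideal A) f hf hI a b c ha hb habc
    Γ(V, V.basicOpen c)
  refine ⟨V.affineBasicOpen c, ?_, algebraMap Γ(V, A.1) Γ(V, V.basicOpen c) a, h1, ?_⟩
  · have e1 : A.2.fromSpec (A.2.primeIdealOf ⟨v, hvA⟩) = v := A.2.fromSpec_primeIdealOf ⟨v, hvA⟩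
    have e2 : A.2.primeIdealOf ⟨v, hvA⟩ ∈ (A.2.fromSpec ⁻¹ᵁ V.basicOpen c) := by
      rw [A.2.fromSpec_preimage_basicOpen]
      exact hc
    have e3 : A.2.fromSpec (A.2.primeIdealOf ⟨v, hvA⟩) ∈ V.basicOpen c := e2
    rwa [e1] at e3
  · rw [← 𝓘.map_ideal_basicOpen A c]
    exact h2


variable {S : Scheme.{u}}

/-- The chart ideal of a closed subspace cut out by a product is the product of the chart
ideals. -/
theorem chart_ideal_mul {X D D₁ D₂ : Sp S} {i : D ⟶ X} {i₁ : D₁ ⟶ X} {i₂ : D₂ ⟶ X}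
    (hi : Representable i) (hi₁ : Representable i₁) (hi₂ : Representable i₂)
    (hmul : idealOfRep hi = idealOfRep hi₁ * idealOfRep hi₂) {V : Over S}
    {φ : (yon S).obj V ⟶ X} (hφe : RepWith @Etale φ) (𝓘 𝓘₁ 𝓘₂ : V.left.IdealSheafData)
    (fst : (yon S).obj (subOver V 𝓘) ⟶ D) (fst₁ : (yon S).obj (subOver V 𝓘₁) ⟶ D₁)
    (fst₂ : (yon S).obj (subOver V 𝓘₂) ⟶ D₂)
    (sq : IsPullback fst ((yon S).map (subOverι V 𝓘)) i φ)
    (sq₁ : IsPullback fst₁ ((yon S).map (subOverι V 𝓘₁)) i₁ φ)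
    (sq₂ : IsPullback fst₂ ((yon S).map (subOverι V 𝓘₂)) i₂ φ) : 𝓘 = 𝓘₁ * 𝓘₂ := by
  apply Groth.Agent.H7.IdealAff.ext_of_comap_ι
  intro A
  haveI : IsAffine (A.1 : Scheme) := A.2
  apply Scheme.IdealSheafData.ext_of_isAffine
  have e : (⊤ : (A.1 : Scheme).Opens) ≤ A.1.ι ⁻¹ᵁ A.1 := by
    rw [Scheme.Opens.ι_preimage_self]
  rw [← idealOfRep_chart hi hφe 𝓘 fst sq A, hmul, IdealEt.mul_ideal,
    idealOfRep_chart hi₁ hφe 𝓘₁ fst₁ sq₁ A, idealOfRep_chart hi₂ hφe 𝓘₂ fst₂ sq₂ A,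
    Groth.Agent.LD.QC.ideal_comap_of_le 𝓘₁ A.1.ι A ⟨⊤, isAffineOpen_top _⟩ e,
    Groth.Agent.LD.QC.ideal_comap_of_le 𝓘₂ A.1.ι A ⟨⊤, isAffineOpen_top _⟩ e,
    Groth.Agent.LD.QC.ideal_comap_of_le (𝓘₁ * 𝓘₂) A.1.ι A ⟨⊤, isAffineOpen_top _⟩ e,
    ← Ideal.map_mul]
  rfl

theorem S10813_main (X Z Y D : AlgSp.Space S)
    (iZ : Z ⟶ X) (iY : Y ⟶ X) (iD : D ⟶ X) (I J : AlgSp.IdealEt X.obj)
    (hZ : AlgSp.IsCutOutBy I iZ.hom) (hY : AlgSp.IsCutOutBy J iY.hom)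
    (hD : AlgSp.IsCutOutBy (I * J) iD.hom) (hDc : AlgSp.IsEffCartierSub iD.hom) :
    AlgSp.IsEffCartierSub iZ.hom ∧ AlgSp.IsEffCartierSub iY.hom := by
  obtain ⟨hiD, hD'⟩ := hD
  obtain ⟨hiZ, hZ'⟩ := hZ
  obtain ⟨hiY, hY'⟩ := hY
  subst hZ' hY'
  obtain ⟨V, φ, hφe, hφs⟩ := X.property.atlas
  obtain ⟨𝓘, fst, sq⟩ := exists_chart_ideal hiD φ
  obtain ⟨𝓘₁, fst₁, sq₁⟩ := exists_chart_ideal hiZ φ
  obtain ⟨𝓘₂, fst₂, sq₂⟩ := exists_chart_ideal hiY φ
  have hC := isEffCartierIdeal_of_isEffCartierSub X.property hDc hφe 𝓘 fst sq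
  have heq : 𝓘 = 𝓘₁ * 𝓘₂ :=
    chart_ideal_mul hiD.1 hiZ.1 hiY.1 hD' hφe 𝓘 𝓘₁ 𝓘₂ fst fst₁ fst₂ sq sq₁ sq₂
  rw [heq] at hC
  have hC' : BlowUp.IsEffCartierIdeal (𝓘₂ * 𝓘₁) := by
    rw [mul_comm]
    exact hC
  exact ⟨⟨hiZ, V, φ, 𝓘₁, fst₁, hφe, hφs, sq₁, isEffCartierIdeal_of_mul_left 𝓘₁ 𝓘₂ hC⟩,
    ⟨hiY, V, φ, 𝓘₂, fst₂, hφe, hφs, sq₂, isEffCartierIdeal_of_mul_left 𝓘₂ 𝓘₁ hC'⟩⟩

end Groth.Agent.H7.EffCart
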