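import Mathlib

open CategoryTheory CategoryTheory.Limits Opposite

namespace Groth.Agent.H7.ShVK

universe u

/-- cofans in `Type u` are van Kampen -/
theorem isVanKampen_type_cofan {ι : Type u} {X : ι → Type u} (c : Cofan X) (hc : IsColimit c) :
    IsVanKampenColimit c := by
  intro F' c' α f e hα
  -- replace F' by a discrete functor
  let Z : ι → Type u := F'.obj ∘ Discrete.mk
  have hF' : F' = Discrete.functor Z :=
    Functor.hext (fun i ↦ rfl) (by rintro ⟨i⟩ ⟨j⟩ ⟨⟨rfl : i = j⟩⟩; simp [Z])
  clear_value Z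
  subst hF'
  have he : ∀ (k : ι) (y : Z k), f (c'.ι.app ⟨k⟩ y) = c.inj k (α.app ⟨k⟩ y) := fun k y => by
    have := ConcreteCategory.congr_hom (congr_app e ⟨k⟩) y
    simp only [NatTrans.comp_app, Functor.const_obj_obj, Functor.const_map_app,
      ConcreteCategory.comp_apply] at this
    exact this.symm
  constructor
  · rintro ⟨hc'⟩ ⟨j⟩
    rw [Types.isPullback_iff]
    refine ⟨(congr_app e ⟨j⟩).symm, ?_, ?_⟩
    · rintro x y ⟨h1, h2⟩
      exact Cofan.inj_injective_of_isColimit (c := c') hc' j h1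
    · intro z x hzx
      obtain ⟨k, y, rfl⟩ := Cofan.inj_jointly_surjective_of_isColimit (c := c') hc' z
      have h3 : c.inj k (α.app ⟨k⟩ y) = c.inj j x := (he k y).symm.trans hzx
      obtain ⟨hkj, hx⟩ := (Cofan.inj_apply_eq_iff_of_isColimit hc _ _).mp h3
      subst hkj
      exact ⟨y, rfl, hx.symm⟩
  · intro H
    rw [Cofan.nonempty_isColimit_iff_bijective_fromSigma (c := c')]
    constructor
    · rintro ⟨k, y⟩ ⟨k', y'⟩ h
      have h' : c'.ι.app ⟨k⟩ y = c'.ι.app ⟨k'⟩ y' := h
      have h3 : c.inj k (α.app ⟨k⟩ y) = c.inj k' (α.app ⟨k'⟩ y') := by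
        rw [← he, ← he, h']
      obtain ⟨hkk, hx⟩ := (Cofan.inj_apply_eq_iff_of_isColimit hc _ _).mp h3
      subst hkk
      have := Types.ext_of_isPullback (H ⟨k⟩) h' hx.symm
      rw [this]
    · intro z
      obtain ⟨k, x, hx⟩ := Cofan.inj_jointly_surjective_of_isColimit hc (f z)
      obtain ⟨y, hy1, hy2⟩ := Types.exists_of_isPullback (H ⟨k⟩) z x hx.symm
      exact ⟨⟨k, y⟩, hy1⟩

/-- colimit cocones over discrete diagrams in `Type u` are van Kampen -/
theorem isVanKampen_type {ι : Type u} {F : Discrete ι ⥤ Type u} (c : Cocone F) (hc : IsColimit c) :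
    IsVanKampenColimit c := by
  let Z : ι → Type u := F.obj ∘ Discrete.mk
  have hF : F = Discrete.functor Z :=
    Functor.hext (fun i ↦ rfl) (by rintro ⟨i⟩ ⟨j⟩ ⟨⟨rfl : i = j⟩⟩; simp [Z])
  clear_value Z
  subst hF
  exact isVanKampen_type_cofan c hc

/-- colimit cocones over discrete diagrams of presheaves are van Kampen -/
theorem isVanKampen_presheaf {C : Type u} [SmallCategory C] {ι : Type u}
    {F : Discrete ι ⥤ (Cᵒᵖ ⥤ Type u)} (c : Cocone F) (hc : IsColimit c) :
    IsVanKampenColimit c := by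
  apply isVanKampenColimit_of_evaluation
  intro x
  exact isVanKampen_type _ (isColimitOfPreserves _ hc)

/-- colimit cocones over discrete diagrams of sheaves of sets are van Kampen -/
theorem isVanKampen_sheaf {C : Type u} [SmallCategory C] (J : GrothendieckTopology C) {ι : Type u}
    {F : Discrete ι ⥤ Sheaf J (Type u)} (c : Cocone F) (hc : IsColimit c) :
    IsVanKampenColimit c := by
  let adj := sheafificationAdjunction J (Type u)
  apply (IsVanKampenColimit.precompose_isIso_iff
    (Functor.isoWhiskerLeft _ (asIso adj.counit) ≪≫ Functor.rightUnitor _).hom).mp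
  refine ((isVanKampen_presheaf _ (colimit.isColimit <| F ⋙ sheafToPresheaf J (Type u))).map_reflective
    adj).of_iso (IsColimit.uniqueUpToIso ?_ ?_)
  · exact isColimitOfPreserves (presheafToSheaf J (Type u)) (colimit.isColimit _)
  · exact (IsColimit.precomposeHomEquiv _ _).symm hc

end Groth.Agent.H7.ShVK
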