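import Mathlib
import Groth.Prelude.Def_SGA4a
import Groth.Agent.Lib.Helper7.ShVK
import Groth.Agent.Lib.Helper7.CofanExt
import Groth.Agent.Lib.Helper7.DetectFam

open CategoryTheory CategoryTheory.Limits Opposite

universe u

namespace Groth.Agent.H7.Giraud

open Groth.Agent.H7.ShCoprod

variable {C : Type u} [SmallCategory C] (J : GrothendieckTopology C)

theorem partA : SGA4.HasDisjointUniversalCoproducts.{u + 1, u} (Sheaf J (Type u)) := by
  intro ι X
  haveI : HasColimitsOfShape (Discrete ι) (Type u) := inferInstance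
  haveI : HasWeakSheafify J (Type u) := inferInstance
  haveI : HasColimitsOfShape (Discrete ι) (Sheaf J (Type u)) := Sheaf.instHasColimitsOfShape
  haveI : FinitaryExtensive (Sheaf J (Type u)) := inferInstance
  refine ⟨Cofan.mk _ (Sigma.ι X), coproductIsCoproduct X, ?_, ?_⟩
  · constructor
    · intro c hc i j hij s hs
      exact CofanExt.cofan_disjoint hc i j hij s.fst s.snd s.condition
    · intro c hc i
      exact CofanExt.cofan_mono_inj hc i
  · exact (ShVK.isVanKampen_sheaf J _ (coproductIsCoproduct X)).isUniversal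

section B
variable {J}
variable {R A : Sheaf J (Type u)} (p₁ p₂ : R ⟶ A)

/-- objectwise relation -/
def rel (X : Cᵒᵖ) (a b : A.obj.obj X) : Prop :=
  ∃ r : R.obj.obj X, p₁.hom.app X r = a ∧ p₂.hom.app X r = b

theorem rel_iff (X : C) (a b : A.obj.obj (op X)) :
    rel p₁ p₂ (op X) a b ↔ ∃ f : (presheafToSheaf J (Type u)).obj (yoneda.obj X) ⟶ R,
      f ≫ p₁ = (elEquiv J X A).symm a ∧ f ≫ p₂ = (elEquiv J X A).symm b := by
  constructor
  · rintro ⟨r, h1, h2⟩
    refine ⟨(elEquiv J X R).symm r, ?_, ?_⟩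
    · apply (elEquiv J X A).injective
      rw [DetectFam.elEquiv_naturality_right, Equiv.apply_symm_apply, Equiv.apply_symm_apply, h1]
    · apply (elEquiv J X A).injective
      rw [DetectFam.elEquiv_naturality_right, Equiv.apply_symm_apply, Equiv.apply_symm_apply, h2]
  · rintro ⟨f, h1, h2⟩
    refine ⟨elEquiv J X R f, ?_, ?_⟩
    · rw [← DetectFam.elEquiv_naturality_right, h1, Equiv.apply_symm_apply]
    · rw [← DetectFam.elEquiv_naturality_right, h2, Equiv.apply_symm_apply]

variable (hR : SGA4.IsEquivRel p₁ p₂)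

include hR in
theorem rel_equivalence (X : Cᵒᵖ) : Equivalence (rel p₁ p₂ X) := by
  obtain ⟨X⟩ := X
  have hE := (hR ((presheafToSheaf J (Type u)).obj (yoneda.obj X))).2
  refine ⟨fun a => ?_, fun {a b} h => ?_, fun {a b c} h1 h2 => ?_⟩
  · rw [rel_iff]
    exact hE.refl _
  · rw [rel_iff] at h ⊢
    exact hE.symm h
  · rw [rel_iff] at h1 h2 ⊢
    exact hE.trans h1 h2

include hR in
theorem rel_inj (X : Cᵒᵖ) (r r' : R.obj.obj X) (h1 : p₁.hom.app X r = p₁.hom.app X r')
    (h2 : p₂.hom.app X r = p₂.hom.app X r') : r = r' := by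
  obtain ⟨X⟩ := X
  have hI := (hR ((presheafToSheaf J (Type u)).obj (yoneda.obj X))).1
  have := @hI ((elEquiv J X R).symm r) ((elEquiv J X R).symm r') (by
    refine Prod.ext ?_ ?_
    · apply (elEquiv J X A).injective
      show elEquiv J X A ((elEquiv J X R).symm r ≫ p₁) = elEquiv J X A ((elEquiv J X R).symm r' ≫ p₁)
      rw [DetectFam.elEquiv_naturality_right, DetectFam.elEquiv_naturality_right,
        Equiv.apply_symm_apply, Equiv.apply_symm_apply, h1]
    · apply (elEquiv J X A).injective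
      show elEquiv J X A ((elEquiv J X R).symm r ≫ p₂) = elEquiv J X A ((elEquiv J X R).symm r' ≫ p₂)
      rw [DetectFam.elEquiv_naturality_right, DetectFam.elEquiv_naturality_right,
        Equiv.apply_symm_apply, Equiv.apply_symm_apply, h2])
  exact (elEquiv J X R).symm.injective this

theorem rel_map {X Y : Cᵒᵖ} (g : X ⟶ Y) (a b : A.obj.obj X) (h : rel p₁ p₂ X a b) :
    rel p₁ p₂ Y (A.obj.map g a) (A.obj.map g b) := by
  obtain ⟨r, h1, h2⟩ := h
  refine ⟨R.obj.map g r, ?_, ?_⟩
  · rw [← h1]; exact NatTrans.naturality_apply p₁.hom g r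
  · rw [← h2]; exact NatTrans.naturality_apply p₂.hom g r

/-- the quotient presheaf -/
def Q : Cᵒᵖ ⥤ Type u where
  obj X := Quot (rel p₁ p₂ X)
  map {X Y} g := ↾(Quot.map (A.obj.map g) (rel_map p₁ p₂ g))
  map_id X := by
    ext ⟨a⟩
    simp [Quot.map]
  map_comp g g' := by
    ext ⟨a⟩
    simp [Quot.map]

/-- the quotient map -/
def q : A.obj ⟶ Q p₁ p₂ where
  app X := ↾(Quot.mk _)
  naturality X Y g := rfl

include hR in
theorem isPullback_psh : IsPullback p₁.hom p₂.hom (q p₁ p₂) (q p₁ p₂) := by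
  apply IsPullback.of_forall_isPullback_app
  intro X
  rw [Types.isPullback_iff]
  refine ⟨?_, ?_, ?_⟩
  · ext r
    exact Quot.sound ⟨r, rfl, rfl⟩
  · rintro r r' ⟨h1, h2⟩
    exact rel_inj p₁ p₂ hR X r r' h1 h2
  · intro a b hab
    have h1 : Quot.mk (rel p₁ p₂ X) a = Quot.mk (rel p₁ p₂ X) b := hab
    have h2 := Quot.eqvGen_exact h1
    rw [(rel_equivalence p₁ p₂ hR X).eqvGen_iff] at h2
    exact h2

/-- the quotient sheaf -/
noncomputable abbrev B : Sheaf J (Type u) := (presheafToSheaf J (Type u)).obj (Q p₁ p₂)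

/-- the quotient map of sheaves -/
noncomputable def π : A ⟶ B p₁ p₂ := ⟨q p₁ p₂ ≫ toSheafify J (Q p₁ p₂)⟩

theorem map_q_eq :
    (presheafToSheaf J (Type u)).map (q p₁ p₂) =
      (sheafificationAdjunction J (Type u)).counit.app A ≫ π p₁ p₂ := by
  apply Sheaf.hom_ext
  apply sheafify_hom_ext _ _ _ (B p₁ p₂).property
  have h1 : toSheafify J A.obj ≫ ((sheafificationAdjunction J (Type u)).counit.app A).hom = 𝟙 _ := by
    rw [sheafificationAdjunction_counit_app_val, toSheafify_sheafifyLift]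
  have h2 : toSheafify J A.obj ≫ ((presheafToSheaf J (Type u)).map (q p₁ p₂)).hom =
      q p₁ p₂ ≫ toSheafify J (Q p₁ p₂) := (toSheafify_naturality J (q p₁ p₂)).symm
  refine h2.trans ?_
  show _ = toSheafify J A.obj ≫ ((sheafificationAdjunction J (Type u)).counit.app A).hom ≫
    (π p₁ p₂).hom
  rw [reassoc_of% h1]
  rfl

include hR in
theorem isPullback_sh : IsPullback p₁ p₂ (π p₁ p₂) (π p₁ p₂) := by
  have h := (isPullback_psh p₁ p₂ hR).map (presheafToSheaf J (Type u))
  refine h.of_iso (asIso ((sheafificationAdjunction J (Type u)).counit.app R))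
    (asIso ((sheafificationAdjunction J (Type u)).counit.app A))
    (asIso ((sheafificationAdjunction J (Type u)).counit.app A)) (Iso.refl _) ?_ ?_ ?_ ?_
  · exact (sheafificationAdjunction J (Type u)).counit.naturality p₁
  · exact (sheafificationAdjunction J (Type u)).counit.naturality p₂
  · exact (Category.comp_id _).trans (map_q_eq p₁ p₂)
  · exact (Category.comp_id _).trans (map_q_eq p₁ p₂)

/-- descending a morphism to the quotient -/
noncomputable def desc {Z : Sheaf J (Type u)} (f : A ⟶ Z) (hf : p₁ ≫ f = p₂ ≫ f) :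
    B p₁ p₂ ⟶ Z :=
  ⟨sheafifyLift J
    ({ app := fun X => ↾(Quot.lift (f.hom.app X) (by
        rintro a b ⟨r, h1, h2⟩
        rw [← h1, ← h2]
        have := congrArg (fun t => t.hom.app X r) hf
        exact this))
       naturality := by
        intro X Y g
        ext ⟨a⟩
        exact NatTrans.naturality_apply f.hom g a } : Q p₁ p₂ ⟶ Z.obj) Z.property⟩

theorem π_desc {Z : Sheaf J (Type u)} (f : A ⟶ Z) (hf : p₁ ≫ f = p₂ ≫ f) :
    π p₁ p₂ ≫ desc p₁ p₂ f hf = f := by
  apply Sheaf.hom_ext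
  show (q p₁ p₂ ≫ toSheafify J (Q p₁ p₂)) ≫ sheafifyLift J _ Z.property = f.hom
  rw [Category.assoc, toSheafify_sheafifyLift]
  rfl

theorem π_epi_ext {Z : Sheaf J (Type u)} (d d' : B p₁ p₂ ⟶ Z)
    (h : π p₁ p₂ ≫ d = π p₁ p₂ ≫ d') : d = d' := by
  apply Sheaf.hom_ext
  apply sheafify_hom_ext _ _ _ Z.property
  apply NatTrans.ext
  funext X
  ext ⟨a⟩
  have := congrArg (fun t => t.hom.app X a) h
  exact this

include hR in
theorem isPushout_sh : IsPushout p₁ p₂ (π p₁ p₂) (π p₁ p₂) := by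
  obtain ⟨r, hr1, hr2⟩ := (hR A).2.refl (𝟙 A)
  have hw : p₁ ≫ π p₁ p₂ = p₂ ≫ π p₁ p₂ := (isPullback_sh p₁ p₂ hR).w
  refine ⟨⟨hw⟩, ⟨PushoutCocone.IsColimit.mk hw
    (fun s => desc p₁ p₂ s.inl (by
      have h1 : s.inl = s.inr := by
        have := s.condition
        calc s.inl = r ≫ p₁ ≫ s.inl := by rw [reassoc_of% hr1]
          _ = r ≫ p₂ ≫ s.inr := by rw [this]
          _ = s.inr := by rw [reassoc_of% hr2]
      rw [s.condition, h1]))
    (fun s => π_desc p₁ p₂ _ _)
    (fun s => by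
      have h1 : s.inl = s.inr := by
        have := s.condition
        calc s.inl = r ≫ p₁ ≫ s.inl := by rw [reassoc_of% hr1]
          _ = r ≫ p₂ ≫ s.inr := by rw [this]
          _ = s.inr := by rw [reassoc_of% hr2]
      rw [π_desc, h1])
    (fun s m hm1 hm2 => by
      apply π_epi_ext
      rw [π_desc, hm1])⟩⟩

instance π_locSurj : Sheaf.IsLocallySurjective (π p₁ p₂) := by
  haveI : Presheaf.IsLocallySurjective J (q p₁ p₂) :=
    Presheaf.isLocallySurjective_of_surjective J _ (fun X => Quot.mk_surjective)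
  show Presheaf.IsLocallySurjective J (q p₁ p₂ ≫ toSheafify J (Q p₁ p₂))
  infer_instance

theorem epi_snd {B' : Sheaf J (Type u)} (g : B' ⟶ B p₁ p₂) :
    Epi (pullback.snd (π p₁ p₂) g) := by
  haveI : Sheaf.IsLocallySurjective (pullback.snd (π p₁ p₂) g) := by
    constructor
    intro U s
    have hpb := ((IsPullback.of_hasPullback (π p₁ p₂) g).map (sheafToPresheaf J (Type u))).app (op U)
    refine J.superset_covering ?_
      (Presheaf.imageSieve_mem J (π p₁ p₂).hom (U := op U) (g.hom.app (op U) s))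
    rintro V f ⟨a, ha⟩
    have hnat : g.hom.app (op V) (B'.obj.map f.op s) =
        (B p₁ p₂).obj.map f.op (g.hom.app (op U) s) := NatTrans.naturality_apply g.hom f.op s
    obtain ⟨x, hx1, hx2⟩ := Types.exists_of_isPullback (((IsPullback.of_hasPullback (π p₁ p₂) g).map
      (sheafToPresheaf J (Type u))).app (op V)) a (B'.obj.map f.op s) (ha.trans hnat.symm)
    exact ⟨x, hx2⟩
  infer_instance

end B

theorem main {C : Type u} [SmallCategory C] (J : GrothendieckTopology C) :
    SGA4.HasDisjointUniversalCoproducts.{u + 1, u} (Sheaf J (Type u)) ∧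
    ∀ (R A : Sheaf J (Type u)) (p₁ p₂ : R ⟶ A), SGA4.IsEquivRel p₁ p₂ →
      SGA4.IsEffectiveUniversalEquivRel p₁ p₂ := by
  refine ⟨partA J, ?_⟩
  intro R A p₁ p₂ hR
  refine ⟨B p₁ p₂, π p₁ p₂, isPullback_sh p₁ p₂ hR, isPushout_sh p₁ p₂ hR, ?_⟩
  intro B' g
  haveI := epi_snd p₁ p₂ g
  haveI := IsRegularEpiCategory.regularEpiOfEpi (pullback.snd (π p₁ p₂) g)
  infer_instance

end Groth.Agent.H7.Giraud
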