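import Mathlib
import Groth.Prelude.Def_SGA4a
import Groth.Agent.Lib.Helper7.Giraud

open CategoryTheory CategoryTheory.Limits Opposite

universe u

namespace Groth.Agent.H7.EffRel

section general
variable {E : Type*} [Category E]

/-- pushout of a pair with equal legs gives a coequalizer -/
noncomputable def coforkOfIsPushout {R A B : E} {p₁ p₂ : R ⟶ A} {π : A ⟶ B}
    (h : IsPushout p₁ p₂ π π) : IsColimit (Cofork.ofπ π h.w) :=
  Cofork.IsColimit.mk' _ (fun s => ⟨h.desc s.π s.π s.condition, h.inl_desc _ _ _, by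
    intro m hm
    apply h.hom_ext
    · exact hm.trans (h.inl_desc _ _ _).symm
    · exact hm.trans (h.inr_desc _ _ _).symm⟩)

/-- coequalizer of a reflexive pair gives a pushout -/
theorem isPushout_of_cofork {R A : E} {p₁ p₂ : R ⟶ A} (r : A ⟶ R) (hr1 : r ≫ p₁ = 𝟙 A)
    (hr2 : r ≫ p₂ = 𝟙 A) (c : Cofork p₁ p₂) (hc : IsColimit c) : IsPushout p₁ p₂ c.π c.π := by
  have heq : ∀ s : PushoutCocone p₁ p₂, s.inl = s.inr := by
    intro s
    have := s.condition
    calc s.inl = r ≫ p₁ ≫ s.inl := by rw [reassoc_of% hr1]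
      _ = r ≫ p₂ ≫ s.inr := by rw [this]
      _ = s.inr := by rw [reassoc_of% hr2]
  refine ⟨⟨c.condition⟩, ⟨PushoutCocone.IsColimit.mk c.condition
    (fun s => Cofork.IsColimit.desc hc s.inl (by rw [s.condition, heq s]))
    (fun s => Cofork.IsColimit.π_desc' hc _ _)
    (fun s => by rw [Cofork.IsColimit.π_desc' hc, heq s])
    (fun s m hm1 hm2 => by
      apply Cofork.IsColimit.hom_ext hc
      rw [Cofork.IsColimit.π_desc' hc, hm1])⟩⟩

end general

variable {C : Type u} [SmallCategory C] [HasPullbacks C]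

/-- L3 -/
theorem mem_canonical_iff {A B : C} (f : A ⟶ B) :
    Sieve.generate (Presieve.singleton f) ∈ Sheaf.canonicalTopology C B ↔
      ∀ (B' : C) (g : B' ⟶ B), EffectiveEpi (pullback.snd f g) := by
  have key : ∀ (B' : C) (g : B' ⟶ B), (Sieve.generate (Presieve.singleton f)).pullback g =
      Sieve.generate (Presieve.singleton (pullback.snd f g)) := by
    intro B' g
    rw [← Sieve.pullbackArrows_comm, Presieve.pullback_singleton]
  constructor
  · intro h B' g
    rw [← Sieve.effectiveEpimorphic_singleton]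
    show (Sieve.generate _).EffectiveEpimorphic
    rw [Sieve.EffectiveEpimorphic.iff_forall_isSheafFor_yoneda, ← key]
    intro W
    exact Sheaf.isSheaf_yoneda_obj W _ ((Sheaf.canonicalTopology C).pullback_stable g h)
  · intro h
    apply Sheaf.mem_finestTopology_of_forall_isSheafFor
    rintro _ ⟨W, rfl⟩ B' g
    rw [key]
    have := (Sieve.effectiveEpimorphic_singleton _).mpr (h B' g)
    exact (Sieve.EffectiveEpimorphic.iff_forall_isSheafFor_yoneda _).mp this W

theorem imageSieve_yoneda_map {A B V : C} (f : A ⟶ B) (h : V ⟶ B) :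
    Presheaf.imageSieve (yoneda.map f) (U := V) h =
      (Sieve.generate (Presieve.singleton f)).pullback h := by
  rw [Sieve.generateSingleton_eq]
  ext W i
  rfl

/-- L2 -/
theorem epi_yoneda_map_iff {A B : C} (f : A ⟶ B) :
    Epi ((Sheaf.canonicalTopology C).yoneda.map f) ↔
      Sieve.generate (Presieve.singleton f) ∈ Sheaf.canonicalTopology C B := by
  rw [← Sheaf.isLocallySurjective_iff_epi]
  constructor
  · intro h
    haveI : Presheaf.IsLocallySurjective (Sheaf.canonicalTopology C) (yoneda.map f) := h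
    have := Presheaf.imageSieve_mem (Sheaf.canonicalTopology C) (yoneda.map f) (U := op B) (𝟙 B)
    rw [imageSieve_yoneda_map, Sieve.pullback_id] at this
    exact this
  · intro h
    constructor
    intro U s
    have := imageSieve_yoneda_map f s
    exact this ▸ (Sheaf.canonicalTopology C).pullback_stable s h


/-- L6 -/
theorem isEquivRel_yoneda {R A : C} (p₁ p₂ : R ⟶ A) (hR : SGA4.IsEquivRel p₁ p₂) :
    SGA4.IsEquivRel ((Sheaf.canonicalTopology C).yoneda.map p₁)
      ((Sheaf.canonicalTopology C).yoneda.map p₂) := by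
  intro T
  have key : ∀ a b : T ⟶ (Sheaf.canonicalTopology C).yoneda.obj A,
      (∃ f : T ⟶ (Sheaf.canonicalTopology C).yoneda.obj R,
        f ≫ (Sheaf.canonicalTopology C).yoneda.map p₁ = a ∧
        f ≫ (Sheaf.canonicalTopology C).yoneda.map p₂ = b) ↔
      ∀ (V : Cᵒᵖ) (t : T.obj.obj V), ∃ r : V.unop ⟶ R,
        r ≫ p₁ = a.hom.app V t ∧ r ≫ p₂ = b.hom.app V t := by
    intro a b
    constructor
    · rintro ⟨f, rfl, rfl⟩ V t
      exact ⟨f.hom.app V t, rfl, rfl⟩
    · intro h
      choose r hr1 hr2 using h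
      refine ⟨⟨{ app := fun V => ↾(r V), naturality := ?_ }⟩, ?_, ?_⟩
      · intro V W g
        ext t
        apply (hR W.unop).1
        simp only [Prod.mk.injEq]
        constructor
        · show r W (T.obj.map g t) ≫ p₁ = (g.unop ≫ r V t) ≫ p₁
          rw [hr1, Category.assoc, hr1]
          exact NatTrans.naturality_apply a.hom g t
        · show r W (T.obj.map g t) ≫ p₂ = (g.unop ≫ r V t) ≫ p₂
          rw [hr2, Category.assoc, hr2]
          exact NatTrans.naturality_apply b.hom g t
      · apply Sheaf.hom_ext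
        apply NatTrans.ext
        funext V
        ext t
        exact hr1 V t
      · apply Sheaf.hom_ext
        apply NatTrans.ext
        funext V
        ext t
        exact hr2 V t
  refine ⟨?_, ?_⟩
  · intro f f' h
    simp only [Prod.mk.injEq] at h
    apply Sheaf.hom_ext
    apply NatTrans.ext
    funext V
    ext t
    apply (hR V.unop).1
    simp only [Prod.mk.injEq]
    exact ⟨congrArg (fun k => k.hom.app V t) h.1, congrArg (fun k => k.hom.app V t) h.2⟩
  · refine ⟨fun a => ?_, fun {a b} h => ?_, fun {a b c} h1 h2 => ?_⟩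
    · rw [key]
      intro V t
      exact (hR V.unop).2.refl _
    · rw [key] at h ⊢
      intro V t
      exact (hR V.unop).2.symm (h V t)
    · rw [key] at h1 h2 ⊢
      intro V t
      exact (hR V.unop).2.trans (h1 V t) (h2 V t)

/-- ε ≅ Y -/
noncomputable def θ : yoneda ⋙ presheafToSheaf (Sheaf.canonicalTopology C) (Type u) ≅
    (Sheaf.canonicalTopology C).yoneda :=
  Functor.isoWhiskerLeft (Sheaf.canonicalTopology C).yoneda
    (sheafificationNatIso (Sheaf.canonicalTopology C) (Type u)).symm ≪≫ Functor.rightUnitor _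


/-- conversion of the colimit condition -/
theorem conv {R X : C} {p₁ p₂ : R ⟶ X} (c : Cofork p₁ p₂) :
    Nonempty (IsColimit ((yoneda ⋙ presheafToSheaf (Sheaf.canonicalTopology C)
      (Type u)).mapCocone c)) ↔
    Nonempty (IsColimit (Cofork.ofπ ((Sheaf.canonicalTopology C).yoneda.map c.π)
      (by rw [← Functor.map_comp, c.condition, Functor.map_comp]) :
      Cofork ((Sheaf.canonicalTopology C).yoneda.map p₁)
        ((Sheaf.canonicalTopology C).yoneda.map p₂))) := by
  constructor
  · rintro ⟨h⟩
    have h1 := IsColimit.mapCoconeEquiv θ h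
    have h2 : IsColimit ((Sheaf.canonicalTopology C).yoneda.mapCocone
        (Cofork.ofπ c.π c.condition)) :=
      h1.ofIsoColimit ((Cocones.functoriality _ (Sheaf.canonicalTopology C).yoneda).mapIso
        c.isoCoforkOfπ)
    exact ⟨isColimitMapCoconeCoforkEquiv (Sheaf.canonicalTopology C).yoneda c.condition h2⟩
  · rintro ⟨h⟩
    have h2 := (isColimitMapCoconeCoforkEquiv (Sheaf.canonicalTopology C).yoneda c.condition).symm h
    have h1 : IsColimit ((Sheaf.canonicalTopology C).yoneda.mapCocone c) :=
      h2.ofIsoColimit ((Cocones.functoriality _ (Sheaf.canonicalTopology C).yoneda).mapIso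
        c.isoCoforkOfπ.symm)
    exact ⟨IsColimit.mapCoconeEquiv θ.symm h1⟩


theorem main {R X : C} (p₁ p₂ : R ⟶ X)
    (hR : SGA4.IsEquivRel p₁ p₂) (c : Cofork p₁ p₂) (hc : IsColimit c) :
    SGA4.IsEffectiveUniversalEquivRel p₁ p₂ ↔
      Nonempty (IsColimit ((yoneda ⋙ presheafToSheaf (Sheaf.canonicalTopology C)
        (Type u)).mapCocone c)) := by
  constructor
  · rintro ⟨B', π', hpb, hpo, heff⟩
    have hepi : Epi ((Sheaf.canonicalTopology C).yoneda.map π') :=
      (epi_yoneda_map_iff π').mpr ((mem_canonical_iff π').mpr heff)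
    have hk : IsKernelPair ((Sheaf.canonicalTopology C).yoneda.map π')
        ((Sheaf.canonicalTopology C).yoneda.map p₁) ((Sheaf.canonicalTopology C).yoneda.map p₂) :=
      hpb.map (Sheaf.canonicalTopology C).yoneda
    haveI := IsRegularEpiCategory.regularEpiOfEpi ((Sheaf.canonicalTopology C).yoneda.map π')
    have hco := hk.toCoequalizer'
    have h2 := (isColimitMapCoconeCoforkEquiv (Sheaf.canonicalTopology C).yoneda hpb.w).symm hco
    have hc' := coforkOfIsPushout hpo
    have h1 : IsColimit ((Sheaf.canonicalTopology C).yoneda.mapCocone c) :=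
      h2.ofIsoColimit ((Cocones.functoriality _ (Sheaf.canonicalTopology C).yoneda).mapIso
        (hc'.uniqueUpToIso hc))
    exact ⟨IsColimit.mapCoconeEquiv θ.symm h1⟩
  · intro h
    rw [conv] at h
    obtain ⟨hco⟩ := h
    have hw : p₁ ≫ c.π = p₂ ≫ c.π := c.condition
    obtain ⟨r, hr1, hr2⟩ := (hR X).2.refl (𝟙 X)
    have hepi : Epi ((Sheaf.canonicalTopology C).yoneda.map c.π) := Cofork.IsColimit.epi hco
    refine ⟨c.pt, c.π, ?_, isPushout_of_cofork r hr1 hr2 c hc,
      (mem_canonical_iff c.π).mp ((epi_yoneda_map_iff c.π).mp hepi)⟩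
    have hE := isEquivRel_yoneda p₁ p₂ hR
    obtain ⟨B', π', hpb, hpo, -⟩ := (Giraud.main (Sheaf.canonicalTopology C)).2 _ _ _ _ hE
    have hco' := coforkOfIsPushout hpo
    have he : π' ≫ (hco'.coconePointUniqueUpToIso hco).hom =
        (Sheaf.canonicalTopology C).yoneda.map c.π :=
      IsColimit.comp_coconePointUniqueUpToIso_hom hco' hco WalkingParallelPair.one
    have hpbY : IsPullback ((Sheaf.canonicalTopology C).yoneda.map p₁)
        ((Sheaf.canonicalTopology C).yoneda.map p₂) ((Sheaf.canonicalTopology C).yoneda.map c.π)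
        ((Sheaf.canonicalTopology C).yoneda.map c.π) :=
      hpb.of_iso (Iso.refl _) (Iso.refl _) (Iso.refl _) (hco'.coconePointUniqueUpToIso hco)
        (by simp) (by simp) (by simpa using he) (by simpa using he)
    exact IsPullback.of_map (Sheaf.canonicalTopology C).yoneda hw hpbY

end Groth.Agent.H7.EffRel
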