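import Mathlib
import Groth.Prelude.Def_AnFib

set_option autoImplicit false
universe u
open CategoryTheory CategoryTheory.Limits AlgebraicGeometry

namespace Groth.Agent.H7.ElemFib

variable {X Xb S S' : Scheme.{u}}

/-- the base change of `j` along `Xb ×_S S' ⟶ Xb` -/
noncomputable abbrev bcMap (j : X ⟶ Xb) (fb : Xb ⟶ S) (u : S' ⟶ S) :
    pullback (j ≫ fb) u ⟶ pullback fb u :=
  pullback.map (j ≫ fb) u fb u j (𝟙 _) (𝟙 _) (by simp) (by simp)

lemma bcMap_snd (j : X ⟶ Xb) (fb : Xb ⟶ S) (u : S' ⟶ S) :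
    bcMap j fb u ≫ pullback.snd fb u = pullback.snd (j ≫ fb) u :=
  (pullback.lift_snd _ _ _).trans (Category.comp_id _)

lemma bcMap_fst (j : X ⟶ Xb) (fb : Xb ⟶ S) (u : S' ⟶ S) :
    bcMap j fb u ≫ pullback.fst fb u = pullback.fst (j ≫ fb) u ≫ j :=
  pullback.lift_fst _ _ _

lemma isPullback_bcMap (j : X ⟶ Xb) (fb : Xb ⟶ S) (u : S' ⟶ S) :
    IsPullback (pullback.fst (j ≫ fb) u) (bcMap j fb u) j (pullback.fst fb u) := by
  refine IsPullback.of_bot ?_ (bcMap_fst j fb u).symm (IsPullback.of_hasPullback fb u)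
  rw [bcMap_snd]
  exact IsPullback.of_hasPullback (j ≫ fb) u

lemma range_bcMap (j : X ⟶ Xb) (fb : Xb ⟶ S) (u : S' ⟶ S) :
    Set.range (bcMap j fb u).base = (pullback.fst fb u).base ⁻¹' Set.range j.base := by
  have h := Scheme.image_preimage_eq_of_isPullback (isPullback_bcMap j fb u) Set.univ
  rw [Set.preimage_univ, Set.image_univ, Set.image_univ] at h
  exact h


lemma exists_map_isPullback {P Z : Scheme.{u}} (π : P ⟶ Z) (t : S ⟶ Z) (t' : S' ⟶ Z) (u : S' ⟶ S)
    (ht : t' = u ≫ t) :
    ∃ q : pullback π t' ⟶ pullback π t, IsPullback q (pullback.snd π t') (pullback.snd π t) u := by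
  subst ht
  have hS := IsPullback.of_hasPullback π t
  have hS' := IsPullback.of_hasPullback π (u ≫ t)
  have hw : pullback.fst π (u ≫ t) ≫ π = (pullback.snd π (u ≫ t) ≫ u) ≫ t := by
    rw [Category.assoc]
    exact pullback.condition
  refine ⟨hS.lift _ _ hw, ?_⟩
  refine IsPullback.of_right ?_ (hS.lift_snd _ _ hw) hS
  rw [hS.lift_fst]
  exact hS'

/-- `P^n_{S'} ⟶ P^n_S` over `u : S' ⟶ S`, with its pullback square. -/
lemma exists_projSpaceOver_map (n : ℕ) (u : S' ⟶ S) :
    ∃ q : CohB1.ProjSpaceOver n S' ⟶ CohB1.ProjSpaceOver n S,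
      IsPullback q (CohB1.ProjSpaceOver.toBase n S') (CohB1.ProjSpaceOver.toBase n S) u :=
  exists_map_isPullback (CohB1.ProjSpace.toSpec n (ULift.{u} ℤ)) (specULiftZIsTerminal.from S)
    (specULiftZIsTerminal.from S') u (specULiftZIsTerminal.hom_ext _ _)

theorem isStronglyProjective_baseChange {fb : Xb ⟶ S} (h : An.IsStronglyProjective fb)
    (u : S' ⟶ S) : An.IsStronglyProjective (pullback.snd fb u) := by
  obtain ⟨n, c, hc, hcf⟩ := h
  obtain ⟨q, hq⟩ := exists_projSpaceOver_map n u
  have hw : (pullback.fst fb u ≫ c) ≫ CohB1.ProjSpaceOver.toBase n S = pullback.snd fb u ≫ u := by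
    rw [Category.assoc, hcf]
    exact pullback.condition
  refine ⟨n, hq.lift _ _ hw, ?_, hq.lift_snd _ _ hw⟩
  have sq : IsPullback (pullback.fst fb u) (hq.lift _ _ hw) c q := by
    refine IsPullback.of_bot ?_ (hq.lift_fst _ _ hw).symm hq
    rw [hq.lift_snd, hcf]
    exact IsPullback.of_hasPullback fb u
  exact MorphismProperty.of_isPullback (P := @IsClosedImmersion) sq hc


/-- the fibre of `fb' = pullback.snd fb u` over a point is irreducible when the geometric fibres are -/
lemma isPreirreducible_fibre {fb : Xb ⟶ S}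
    (hgeom : ∀ (Ω : Type u) [Field Ω] [IsAlgClosed Ω] (σ : Spec (CommRingCat.of Ω) ⟶ S),
      IrreducibleSpace ↥(pullback fb σ) ∧ topologicalKrullDim ↥(pullback fb σ) = 1) (s : S) :
    IsPreirreducible (fb.base ⁻¹' {s}) := by
  let Ω := AlgebraicClosure (S.residueField s)
  let σ : Spec (CommRingCat.of Ω) ⟶ S :=
    Spec.map (CommRingCat.ofHom (algebraMap (S.residueField s) Ω)) ≫ S.fromSpecResidueField s
  haveI := (hgeom Ω σ).1
  have hr : Set.range σ.base = {s} := by
    ext y
    constructor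
    · rintro ⟨z, rfl⟩
      change (Spec.map _ ≫ S.fromSpecResidueField s).base z = s
      rw [Scheme.Hom.comp_base, TopCat.comp_app]
      exact Scheme.fromSpecResidueField_apply _ _
    · rintro rfl
      refine ⟨IsLocalRing.closedPoint Ω, ?_⟩
      change (Spec.map _ ≫ S.fromSpecResidueField y).base _ = y
      rw [Scheme.Hom.comp_base, TopCat.comp_app]
      exact Scheme.fromSpecResidueField_apply _ _
  have h1 : Set.range (pullback.fst fb σ).base = fb.base ⁻¹' {s} := by
    rw [← hr]
    exact Scheme.Pullback.range_fst fb σ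
  rw [← h1, ← Set.image_univ]
  exact ((IrreducibleSpace.isIrreducible_univ _).image _
    (pullback.fst fb σ).continuous.continuousOn).isPreirreducible

theorem main {X S S' : Scheme.{u}} (f : X ⟶ S) (u : S' ⟶ S) (hf : An.IsElementaryFibration f) :
    An.IsElementaryFibration (pullback.snd f u) := by
  obtain ⟨Xb, Y, j, fb, i, rfl, hj, hi, hrange, hdense, hsm, hproj, hgeom, hfin, het, hsurj⟩ := hf
  have hgeom' : ∀ (Ω : Type u) [Field Ω] [IsAlgClosed Ω] (σ : Spec (CommRingCat.of Ω) ⟶ S'),
      IrreducibleSpace ↥(pullback (pullback.snd fb u) σ) ∧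
        topologicalKrullDim ↥(pullback (pullback.snd fb u) σ) = 1 := by
    intro Ω _ _ σ
    obtain ⟨h1, h2⟩ := hgeom Ω (σ ≫ u)
    let e := pullbackLeftPullbackSndIso fb u σ
    let eh : ↥(pullback (pullback.snd fb u) σ) ≃ₜ ↥(pullback fb (σ ≫ u)) := Scheme.homeoOfIso e
    exact ⟨eh.irreducibleSpace_iff.2 h1, (IsHomeomorph.topologicalKrullDim_eq eh eh.isHomeomorph).trans h2⟩
  refine ⟨pullback fb u, pullback (i ≫ fb) u, bcMap j fb u, pullback.snd fb u, bcMap i fb u,
    bcMap_snd j fb u, ?_, ?_, ?_, ?_, inferInstance, isStronglyProjective_baseChange hproj u,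
    hgeom', ?_, ?_, ?_⟩
  · exact MorphismProperty.of_isPullback (P := @IsOpenImmersion) (isPullback_bcMap j fb u) hj
  · exact MorphismProperty.of_isPullback (P := @IsClosedImmersion) (isPullback_bcMap i fb u) hi
  · rw [range_bcMap, range_bcMap, hrange, Set.preimage_compl]
  · intro s'
    -- irreducibility of the fibre
    have hirr : IsPreirreducible ((pullback.snd fb u).base ⁻¹' {s'}) :=
      isPreirreducible_fibre hgeom' s'
    have hopen : IsOpen (Set.range (bcMap j fb u).base) :=
      (MorphismProperty.of_isPullback (P := @IsOpenImmersion) (isPullback_bcMap j fb u)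
        hj).base_open.isOpen_range
    -- nonemptiness
    have hne : ((pullback.snd fb u).base ⁻¹' {s'} ∩ Set.range (bcMap j fb u).base).Nonempty := by
      obtain ⟨y, hy⟩ := hsurj (u.base s')
      have hfib : (i.base y) ∈ fb.base ⁻¹' {u.base s'} := by
        change fb.base (i.base y) = u.base s'
        rw [← hy]; rfl
      have h2 := hdense (u.base s') hfib
      have hne0 : (Set.range j.base ∩ fb.base ⁻¹' {u.base s'}).Nonempty := by
        by_contra h0
        rw [Set.not_nonempty_iff_eq_empty] at h0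
        rw [h0, closure_empty] at h2
        exact h2
      obtain ⟨_, ⟨x, rfl⟩, hx⟩ := hne0
      have hx' : (j ≫ fb).base x = u.base s' := hx
      obtain ⟨z, hz1, hz2⟩ := Scheme.Pullback.exists_preimage_pullback (f := j ≫ fb) (g := u) x s' hx'
      refine ⟨(bcMap j fb u).base z, ?_, ⟨z, rfl⟩⟩
      change (pullback.snd fb u).base ((bcMap j fb u).base z) = s'
      rw [← TopCat.comp_app, ← Scheme.Hom.comp_base, bcMap_snd]
      exact hz2
    have := subset_closure_inter_of_isPreirreducible_of_isOpen hirr hopen hne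
    rwa [Set.inter_comm] at this
  · rw [bcMap_snd]; infer_instance
  · rw [bcMap_snd]; infer_instance
  · rw [bcMap_snd]
    have : Surjective (i ≫ fb) := ⟨hsurj⟩
    exact (inferInstance : Surjective (pullback.snd (i ≫ fb) u)).surj

end Groth.Agent.H7.ElemFib
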