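import Mathlib
import Groth.Agent.Lib.Helper2.DepthS1Sch
import Groth.Agent.Lib.Lead.QC.TensorPow
import Groth.Agent.Lib.Helper1.CartierKit
import Groth.Prelude.Def_FDesc

/-! helper7: a Noetherian one-dimensional scheme with reduced ring of global sections has no
embedded points (S7835). -/

set_option autoImplicit false

universe u

open CategoryTheory Limits AlgebraicGeometry TopologicalSpace Opposite

namespace Groth.Agent.H7.EmbRed

open Groth.Agent.LD.QC

variable {C : Scheme.{u}}

/-- in a space of dimension `≤ 1`, a point with a proper generization is closed. -/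
theorem isClosed_singleton_of_specializes {T : Type*} [TopologicalSpace T] [T0Space T]
    (hdim : topologicalKrullDim T ≤ 1) {x y : T} (h : y ⤳ x) (hne : x ≠ y) :
    IsClosed ({x} : Set T) := by
  rw [topologicalKrullDim, Order.krullDim_le_one_iff] at hdim
  let cx : IrreducibleCloseds T := ⟨closure {x}, isIrreducible_singleton.closure, isClosed_closure⟩
  let cy : IrreducibleCloseds T := ⟨closure {y}, isIrreducible_singleton.closure, isClosed_closure⟩
  have hxy : closure ({x} : Set T) ⊆ closure {y} :=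
    closure_minimal (Set.singleton_subset_iff.mpr (specializes_iff_mem_closure.mp h))
      isClosed_closure
  have hle : cx ≤ cy := hxy
  rcases hdim cx with hmin | hmax
  · -- `closure {x}` is minimal: `x` is closed
    have key : closure ({x} : Set T) = {x} := by
      apply Set.Subset.antisymm _ subset_closure
      intro z hz
      let cz : IrreducibleCloseds T :=
        ⟨closure {z}, isIrreducible_singleton.closure, isClosed_closure⟩
      have hzx : closure ({z} : Set T) ⊆ closure {x} :=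
        closure_minimal (Set.singleton_subset_iff.mpr hz) isClosed_closure
      have hle' : cz ≤ cx := hzx
      have h2 : cx ≤ cz := hmin hle'
      have h3 : x ⤳ z := specializes_iff_mem_closure.mpr hz
      have h4 : z ⤳ x := specializes_iff_mem_closure.mpr (h2 (subset_closure rfl))
      exact (h3.antisymm h4).eq.symm
    rw [← key]
    exact isClosed_closure
  · exfalso
    have h2 : cy ≤ cx := hmax hle
    have h4 : x ⤳ y := specializes_iff_mem_closure.mpr (h2 (subset_closure rfl))
    exact hne (h4.antisymm h).eq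

/-- **S7835**. -/
theorem S7835_main (C : Scheme.{u}) [IsNoetherian C]
    (hdim : topologicalKrullDim C = 1) (hred : IsReduced Γ(C, ⊤)) :
    AssSch.NoEmbedded (Coh.structureModule C) := by
  haveI : (Coh.structureModule C).IsQuasicoherent := qc_of_isInvertible _ (isInvertible_unit C)
  intro x hx y hy hyx
  by_contra hne
  have hxcl : IsClosed ({x} : Set C) := isClosed_singleton_of_specializes hdim.le hyx hne
  obtain ⟨U, hU, hxU, -⟩ := exists_isAffineOpen_mem_and_subset (x := x) (U := ⊤) trivial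
  have hyU : y ∈ U := hyx.mem_open U.isOpen hxU
  haveI : IsNoetherianRing Γ(C, U) := IsLocallyNoetherian.component_noetherian ⟨U, hU⟩
  have hPx : IsAssociatedPrime (hU.primeIdealOf ⟨x, hxU⟩).asIdeal Γ(C, U) :=
    (Groth.Agent.H2.DepthS1.isAssPoint_iff (Coh.structureModule C) hU x hxU).mp hx
  obtain ⟨-, a, ha⟩ := (isAssociatedPrime_iff (R := Γ(C, U)) (M := Γ(C, U))).mp hPx
  have hmem : ∀ p : Γ(C, U), p ∈ (hU.primeIdealOf ⟨x, hxU⟩).asIdeal ↔ p * a = 0 := by
    intro p
    rw [ha, Submodule.mem_colon_singleton, Submodule.mem_bot, smul_eq_mul]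
  have ha0 : a ≠ 0 := by
    rintro rfl
    have : (1 : Γ(C, U)) ∈ (hU.primeIdealOf ⟨x, hxU⟩).asIdeal := (hmem 1).mpr (mul_zero 1)
    exact (hU.primeIdealOf ⟨x, hxU⟩).isPrime.ne_top ((Ideal.eq_top_iff_one _).mpr this)
  -- the prime of `y` is strictly smaller
  have hyP : ∃ p, p ∈ (hU.primeIdealOf ⟨x, hxU⟩).asIdeal ∧
      p ∉ (hU.primeIdealOf ⟨y, hyU⟩).asIdeal := by
    by_contra hcon
    push_neg at hcon
    have hle1 : (hU.primeIdealOf ⟨x, hxU⟩).asIdeal ≤ (hU.primeIdealOf ⟨y, hyU⟩).asIdeal := hcon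
    have hle2 : (hU.primeIdealOf ⟨y, hyU⟩).asIdeal ≤ (hU.primeIdealOf ⟨x, hxU⟩).asIdeal := by
      intro t ht
      rw [Groth.Agent.H1.CartierKit.mem_primeIdealOf_iff] at ht ⊢
      intro hc
      exact ht (hyx.mem_open (C.basicOpen t).isOpen hc)
    have heq : hU.primeIdealOf ⟨x, hxU⟩ = hU.primeIdealOf ⟨y, hyU⟩ :=
      PrimeSpectrum.ext (le_antisymm hle1 hle2)
    have h4 := hU.fromSpec_primeIdealOf ⟨x, hxU⟩
    have h5 := hU.fromSpec_primeIdealOf ⟨y, hyU⟩
    rw [heq] at h4
    exact hne (h4.symm.trans h5)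
  obtain ⟨p, hpx, hpy⟩ := hyP
  -- `a` lies in the prime of `x`, hence `a * a = 0`
  have haP : a ∈ (hU.primeIdealOf ⟨x, hxU⟩).asIdeal := by
    have h1 : p * a = 0 := (hmem p).mp hpx
    have h2 : p * a ∈ (hU.primeIdealOf ⟨y, hyU⟩).asIdeal := h1 ▸ Ideal.zero_mem _
    rcases (hU.primeIdealOf ⟨y, hyU⟩).isPrime.mem_or_mem h2 with h3 | h3
    · exact absurd h3 hpy
    · -- the prime of y is contained in the prime of x
      rw [Groth.Agent.H1.CartierKit.mem_primeIdealOf_iff] at h3 ⊢
      intro hc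
      exact h3 (hyx.mem_open (C.basicOpen a).isOpen hc)
  have haa : a * a = 0 := (hmem a).mp haP
  -- germs of `a` away from `x` vanish
  have hgerm : ∀ (z : C) (hz : z ∈ U), z ≠ x → C.presheaf.germ U z hz a = 0 := by
    intro z hz hzx
    -- some element of the prime of `x` is a unit at `z`
    have : ∃ q, q ∈ (hU.primeIdealOf ⟨x, hxU⟩).asIdeal ∧
        q ∉ (hU.primeIdealOf ⟨z, hz⟩).asIdeal := by
      by_contra hcon
      push_neg at hcon
      have hle1 : (hU.primeIdealOf ⟨x, hxU⟩).asIdeal ≤ (hU.primeIdealOf ⟨z, hz⟩).asIdeal := hcon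
      -- then `z` is a specialization of `x`, hence `z = x`
      have hsp : x ⤳ z := by
        have h4 := hU.fromSpec_primeIdealOf ⟨x, hxU⟩
        have h5 := hU.fromSpec_primeIdealOf ⟨z, hz⟩
        have h6 : hU.primeIdealOf ⟨x, hxU⟩ ⤳ hU.primeIdealOf ⟨z, hz⟩ :=
          (PrimeSpectrum.le_iff_specializes _ _).mp hle1
        have h7 := h6.map hU.fromSpec.continuous
        rw [h4, h5] at h7
        exact h7
      have : z ∈ closure ({x} : Set C) := specializes_iff_mem_closure.mp hsp
      rw [hxcl.closure_eq] at this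
      exact hzx this
    obtain ⟨q, hqx, hqz⟩ := this
    have hq0 : q * a = 0 := (hmem q).mp hqx
    have hunit : IsUnit (C.presheaf.germ U z hz q) := by
      rw [Groth.Agent.H1.CartierKit.mem_primeIdealOf_iff, not_not] at hqz
      exact (C.mem_basicOpen q z hz).mp hqz
    have h8 : C.presheaf.germ U z hz q * C.presheaf.germ U z hz a = 0 := by
      rw [← map_mul, hq0, map_zero]
    exact (hunit.mul_right_eq_zero).mp h8
  -- glue `a` on `U` with `0` on the complement of `x`
  obtain ⟨V0, hV0⟩ : ∃ V0 : C.Opens, ∀ z : C, z ∈ V0 ↔ z ≠ x :=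
    ⟨⟨{x}ᶜ, hxcl.isOpen_compl⟩, fun z => Iff.rfl⟩
  obtain ⟨W, hWt, hWf⟩ : ∃ W : Bool → C.Opens, W true = U ∧ W false = V0 :=
    ⟨fun b => cond b U V0, rfl, rfl⟩
  obtain ⟨sf, hsft, hsff⟩ : ∃ sf : ∀ b, Γ(C, W b),
      (∀ (z : C) (hz : z ∈ W true) (hz' : z ∈ U), C.presheaf.germ (W true) z hz (sf true) =
        C.presheaf.germ U z hz' a) ∧
      (∀ (z : C) (hz : z ∈ W false), C.presheaf.germ (W false) z hz (sf false) = 0) := by
    subst hWt hWf
    exact ⟨fun b => match b with | true => a | false => 0, fun z hz hz' => rfl,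
      fun z hz => map_zero _⟩
  have hgermsf : ∀ (b : Bool) (z : C) (hz : z ∈ W b) (hzU : z ∈ U),
      C.presheaf.germ (W b) z hz (sf b) = C.presheaf.germ U z hzU a := by
    intro b z hz hzU
    cases b
    · rw [hsff z hz]
      have hzx : z ≠ x := (hV0 z).mp (hWf ▸ hz)
      exact (hgerm z hzU hzx).symm
    · exact hsft z hz hzU
  have hgermsf0 : ∀ (b : Bool) (z : C) (hz : z ∈ W b), z ∉ U →
      C.presheaf.germ (W b) z hz (sf b) = 0 := by
    intro b z hz hzU
    cases b
    · exact hsff z hz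
    · exact absurd (hWt ▸ hz) hzU
  have hcompat : TopCat.Presheaf.IsCompatible C.presheaf W sf := by
    intro i j
    apply TopCat.Presheaf.section_ext C.sheaf
    intro z hz
    change C.presheaf.germ _ z hz (C.presheaf.map (Opens.infLELeft (W i) (W j)).op (sf i)) =
      C.presheaf.germ _ z hz (C.presheaf.map (Opens.infLERight (W i) (W j)).op (sf j))
    rw [TopCat.Presheaf.germ_res_apply, TopCat.Presheaf.germ_res_apply]
    by_cases hzU : z ∈ U
    · rw [hgermsf i z _ hzU, hgermsf j z _ hzU]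
    · rw [hgermsf0 i z _ hzU, hgermsf0 j z _ hzU]
  have hcover : (⊤ : C.Opens) ≤ iSup W := by
    intro z _
    by_cases hzx : z = x
    · exact Opens.mem_iSup.mpr ⟨true, hWt ▸ hzx ▸ hxU⟩
    · exact Opens.mem_iSup.mpr ⟨false, hWf ▸ (hV0 z).mpr hzx⟩
  obtain ⟨s, hs, -⟩ : ∃! s : Γ(C, ⊤), ∀ b, C.presheaf.map (homOfLE (le_top : W b ≤ ⊤)).op s = sf b :=
    C.sheaf.existsUnique_gluing' W ⊤ (fun b => homOfLE le_top) hcover sf hcompat
  have hsgerm : ∀ (z : C) (hzU : z ∈ U),
      C.presheaf.germ ⊤ z trivial s = C.presheaf.germ U z hzU a := by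
    intro z hzU
    have hzW : z ∈ W true := hWt ▸ hzU
    rw [← hgermsf true z hzW hzU, ← hs true, TopCat.Presheaf.germ_res_apply]
  have hsgerm0 : ∀ (z : C), z ∉ U → C.presheaf.germ ⊤ z trivial s = 0 := by
    intro z hzU
    have hzx : z ≠ x := fun h => hzU (h ▸ hxU)
    have hzW : z ∈ W false := hWf ▸ (hV0 z).mpr hzx
    rw [← hgermsf0 false z hzW hzU, ← hs false, TopCat.Presheaf.germ_res_apply]
  have hss : s * s = 0 := by
    apply TopCat.Presheaf.section_ext C.sheaf
    intro z hz
    change C.presheaf.germ ⊤ z hz (s * s) = C.presheaf.germ ⊤ z hz 0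
    rw [map_mul, map_zero]
    by_cases hzU : z ∈ U
    · rw [hsgerm z hzU, ← map_mul, haa, map_zero]
    · rw [hsgerm0 z hzU, mul_zero]
  have hs0 : s = 0 := by
    haveI := hred
    exact IsReduced.eq_zero s ⟨2, by rw [sq]; exact hss⟩
  apply ha0
  apply TopCat.Presheaf.section_ext C.sheaf
  intro z hz
  change C.presheaf.germ U z hz a = C.presheaf.germ U z hz 0
  rw [← hsgerm z hz, hs0, map_zero, map_zero]

end Groth.Agent.H7.EmbRed
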