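import Mathlib
import Groth.Agent.Lib.Helper7.LG.AzSep
import Groth.Agent.Lib.Helper7.Azu8

set_option autoImplicit false
universe u v w

namespace Groth.Agent.H7.EndIso

open scoped TensorProduct

section Basic
variable {A : Type u} [CommRing A] {F : Type v} {G : Type w} [AddCommGroup F] [Module A F]
  [AddCommGroup G] [Module A G]
variable (φ : Module.End A F →ₐ[A] Module.End A G)

/-- maps intertwining `f` and `φ f` -/
def interHom : Submodule A (F →ₗ[A] G) where
  carrier := {h | ∀ f : Module.End A F, h ∘ₗ f = φ f ∘ₗ h}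
  add_mem' := by
    intro h h' hh hh' f
    rw [LinearMap.add_comp, LinearMap.comp_add, hh f, hh' f]
  zero_mem' := by
    intro f
    simp
  smul_mem' := by
    intro a h hh f
    rw [LinearMap.smul_comp, LinearMap.comp_smul, hh f]

theorem mem_interHom (h : F →ₗ[A] G) :
    h ∈ interHom φ ↔ ∀ f : Module.End A F, h ∘ₗ f = φ f ∘ₗ h := Iff.rfl

theorem interHom_apply (h : interHom φ) (f : Module.End A F) (x : F) :
    h.1 (f x) = φ f (h.1 x) := LinearMap.congr_fun (h.2 f) x

/-- evaluation `F ⊗ L → G` -/
noncomputable def evalMap : F ⊗[A] interHom φ →ₗ[A] G :=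
  TensorProduct.lift ((interHom φ).subtype.flip)

theorem evalMap_tmul (x : F) (h : interHom φ) : evalMap φ (x ⊗ₜ h) = h.1 x := by
  simp [evalMap]

theorem smulRight_apply_comp (f : Module.End A F) (g : F →ₗ[A] A) (x : F) :
    LinearMap.smulRight g (f x) = f ∘ₗ LinearMap.smulRight g x := by
  ext y
  simp

/-- the maps `n ↦ (x ↦ φ(θ_{x,g}) n)` -/
noncomputable def hmap (g : F →ₗ[A] A) : G →ₗ[A] interHom φ :=
  LinearMap.codRestrict (interHom φ) ((φ.toLinearMap ∘ₗ (LinearMap.smulRightₗ g)).flip)
    (fun n => by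
      intro f
      ext x
      simp only [LinearMap.comp_apply, LinearMap.flip_apply, LinearMap.smulRightₗ_apply,
        AlgHom.toLinearMap_apply]
      rw [smulRight_apply_comp]
      show φ (f * LinearMap.smulRight g x) n = _
      rw [map_mul]
      rfl)

theorem hmap_apply (g : F →ₗ[A] A) (n : G) (x : F) :
    (hmap φ g n).1 x = φ (LinearMap.smulRight g x) n := rfl

theorem evalMap_bijective [Module.Finite A F] [Module.Projective A F] :
    Function.Bijective (evalMap φ) := by
  classical
  obtain ⟨k, π, hπ⟩ := Module.Finite.exists_fin' A F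
  obtain ⟨s, hs⟩ := Module.projective_lifting_property π LinearMap.id hπ
  let p : Fin k → F := fun j => π (fun j' => if j = j' then (1 : A) else 0)
  let g : Fin k → (F →ₗ[A] A) := fun j => (LinearMap.proj j : (Fin k → A) →ₗ[A] A) ∘ₗ s
  have hdual : ∀ x : F, x = ∑ j, g j x • p j := by
    intro x
    have h2 : s x = ∑ j, (s x) j • (fun j' => if j = j' then (1 : A) else 0 : Fin k → A) :=
      pi_eq_sum_univ (s x)
    have h3 := congrArg π h2
    rw [map_sum] at h3
    simp only [map_smul] at h3
    rw [show π (s x) = x from LinearMap.congr_fun hs x] at h3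
    exact h3
  have hid : ∑ j, LinearMap.smulRight (g j) (p j) = (LinearMap.id : F →ₗ[A] F) := by
    ext x
    rw [LinearMap.sum_apply]
    simp only [LinearMap.smulRight_apply, LinearMap.id_apply]
    exact (hdual x).symm
  let inv : G →ₗ[A] F ⊗[A] interHom φ :=
    ∑ j, (TensorProduct.mk A F (interHom φ) (p j)) ∘ₗ hmap φ (g j)
  have hinv : ∀ n, inv n = ∑ j, p j ⊗ₜ[A] hmap φ (g j) n := by
    intro n
    simp [inv, LinearMap.sum_apply]
  have h1 : ∀ n, evalMap φ (inv n) = n := by
    intro n
    rw [hinv, map_sum]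
    simp only [evalMap_tmul, hmap_apply]
    have : ∑ j, φ (LinearMap.smulRight (g j) (p j)) n = φ (∑ j, LinearMap.smulRight (g j) (p j)) n := by
      rw [map_sum, LinearMap.sum_apply]
    rw [this, hid]
    have : φ (LinearMap.id : F →ₗ[A] F) = 1 := map_one φ
    rw [this]
    rfl
  have h2 : ∀ z, inv (evalMap φ z) = z := by
    intro z
    induction z using TensorProduct.induction_on with
    | zero => simp
    | tmul x h =>
      rw [evalMap_tmul, hinv]
      have hh : ∀ j, hmap φ (g j) (h.1 x) = g j x • h := by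
        intro j
        apply Subtype.ext
        ext y
        rw [hmap_apply, ← interHom_apply]
        simp
      simp only [hh]
      conv_rhs => rw [hdual x, TensorProduct.sum_tmul]
      apply Finset.sum_congr rfl
      intro j _
      rw [TensorProduct.tmul_smul, TensorProduct.smul_tmul']
    | add z₁ z₂ h₁ h₂ => rw [map_add, map_add, h₁, h₂]
  exact ⟨Function.LeftInverse.injective h2, Function.RightInverse.surjective h1⟩

end Basic

section Inv
variable {A : Type u} [CommRing A] {F : Type v} {G : Type w} [AddCommGroup F] [Module A F]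
  [Module.Finite A F] [Module.Projective A F] [Module.FaithfullyFlat A F]
  [AddCommGroup G] [Module A G] [Module.Finite A G] [Module.Projective A G]
variable (φ : Module.End A F ≃ₐ[A] Module.End A G)

/-- the pairing `L' ⊗ L → A`, depending on a retraction `τ` -/
noncomputable def mu (τ : Module.End A F →ₗ[A] A) :
    interHom (φ.symm : Module.End A G →ₐ[A] Module.End A F) ⊗[A]
      interHom (φ : Module.End A F →ₐ[A] Module.End A G) →ₗ[A] A :=
  TensorProduct.lift (((LinearMap.llcomp A F G F).domRestrict₁₂ _ _).compr₂ τ)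

theorem mu_tmul (τ : Module.End A F →ₗ[A] A)
    (h' : interHom (φ.symm : Module.End A G →ₐ[A] Module.End A F))
    (h : interHom (φ : Module.End A F →ₐ[A] Module.End A G)) :
    mu φ τ (h' ⊗ₜ h) = τ (h'.1 ∘ₗ h.1) := by
  rw [mu, TensorProduct.lift.tmul]
  rfl

theorem comp_eq_smul [FaithfulSMul A F] (τ : Module.End A F →ₗ[A] A) (hτ : τ 1 = 1)
    (h' : interHom (φ.symm : Module.End A G →ₐ[A] Module.End A F))
    (h : interHom (φ : Module.End A F →ₐ[A] Module.End A G)) :
    h'.1 ∘ₗ h.1 = mu φ τ (h' ⊗ₜ h) • (LinearMap.id : F →ₗ[A] F) := by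
  haveI : IsAzumaya A (Module.End A F) := Azu.isAzumaya_end A F
  obtain ⟨a, ha⟩ := LG.center_azumaya A (Module.End A F) (h'.1 ∘ₗ h.1) (fun f => by
    show (h'.1 ∘ₗ h.1) ∘ₗ f = f ∘ₗ (h'.1 ∘ₗ h.1)
    ext x
    simp only [LinearMap.comp_apply]
    have e1 : h.1 (f x) = φ f (h.1 x) := interHom_apply _ h f x
    have e2 : h'.1 (φ f (h.1 x)) = (φ.symm (φ f)) (h'.1 (h.1 x)) :=
      interHom_apply _ h' (φ f) (h.1 x)
    rw [e1, e2, φ.symm_apply_apply])
  rw [mu_tmul, ha, Algebra.algebraMap_eq_smul_one, map_smul, hτ, smul_eq_mul, mul_one]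
  rfl

theorem mu_bijective [FaithfulSMul A F] (τ : Module.End A F →ₗ[A] A) (hτ : τ 1 = 1) :
    Function.Bijective (mu φ τ) := by
  have hiff := Module.FaithfullyFlat.lTensor_bijective_iff_bijective A F
    (N := interHom (φ.symm : Module.End A G →ₐ[A] Module.End A F) ⊗[A]
      interHom (φ : Module.End A F →ₐ[A] Module.End A G)) (N' := A) (mu φ τ)
  refine hiff.mp ?_
  let L := interHom (φ : Module.End A F →ₐ[A] Module.End A G)
  let L' := interHom (φ.symm : Module.End A G →ₐ[A] Module.End A F)
  let ξ : F ⊗[A] L ≃ₗ[A] G := LinearEquiv.ofBijective (evalMap _) (evalMap_bijective _)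
  let ξ' : G ⊗[A] L' ≃ₗ[A] F := LinearEquiv.ofBijective (evalMap _) (evalMap_bijective _)
  let e : F ⊗[A] (L' ⊗[A] L) ≃ₗ[A] F ⊗[A] A :=
    (TensorProduct.congr (LinearEquiv.refl A F) (TensorProduct.comm A L' L)) ≪≫ₗ
      (TensorProduct.assoc A F L L').symm ≪≫ₗ
      (TensorProduct.congr ξ (LinearEquiv.refl A L')) ≪≫ₗ ξ' ≪≫ₗ (TensorProduct.rid A F).symm
  have heq : ∀ z, (mu φ τ).lTensor F z = e z := by
    intro z
    induction z using TensorProduct.induction_on with
    | zero => simp
    | tmul x w =>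
      induction w using TensorProduct.induction_on with
      | zero => simp
      | tmul h' h =>
        have h1 : e (x ⊗ₜ[A] (h' ⊗ₜ[A] h)) = (h'.1 (h.1 x)) ⊗ₜ[A] (1 : A) := by
          simp only [e, ξ, ξ', LinearEquiv.trans_apply, TensorProduct.congr_tmul,
            LinearEquiv.refl_apply, TensorProduct.comm_tmul, TensorProduct.assoc_symm_tmul,
            LinearEquiv.ofBijective_apply, TensorProduct.rid_symm_apply]
          rw [evalMap_tmul, evalMap_tmul]
        rw [h1, LinearMap.lTensor_tmul]
        have h2 := LinearMap.congr_fun (comp_eq_smul φ τ hτ h' h) x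
        rw [LinearMap.comp_apply, LinearMap.smul_apply, LinearMap.id_apply] at h2
        rw [h2, TensorProduct.smul_tmul, smul_eq_mul, mul_one]
      | add w₁ w₂ h₁ h₂ => rw [TensorProduct.tmul_add, map_add, map_add, h₁, h₂]
    | add z₁ z₂ h₁ h₂ => rw [map_add, map_add, h₁, h₂]
  have : ((mu φ τ).lTensor F : F ⊗[A] (L' ⊗[A] L) → F ⊗[A] A) = e := funext heq
  rw [this]
  exact e.bijective

omit [Module.Finite A F] [Module.Projective A F] in
theorem faithfulSMul_of_faithfullyFlat : FaithfulSMul A F := by
  constructor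
  intro a b hab
  rw [← sub_eq_zero]
  have h0 : (LinearMap.lsmul A A (a - b)).lTensor F = 0 := by
    ext x
    simp only [TensorProduct.AlgebraTensorModule.curry_apply, TensorProduct.curry_apply,
      LinearMap.coe_restrictScalars, LinearMap.lTensor_tmul, LinearMap.lsmul_apply, smul_eq_mul,
      mul_one, LinearMap.zero_apply]
    have : x ⊗ₜ[A] (a - b) = ((a - b) • x) ⊗ₜ[A] (1 : A) := by
      rw [TensorProduct.smul_tmul, smul_eq_mul, mul_one]
    rw [this, sub_smul, hab x, sub_self, TensorProduct.zero_tmul]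
  have h1 := (Module.FaithfullyFlat.zero_iff_lTensor_zero A F (LinearMap.lsmul A A (a - b))).mpr h0
  have := LinearMap.congr_fun h1 1
  simpa using this

omit [Module.Finite A F] [Module.Projective A F] [Module.FaithfullyFlat A F] [Module.Finite A G]
  [Module.Projective A G] in
theorem evalMap_map (f : Module.End A F)
    (z : F ⊗[A] interHom (φ : Module.End A F →ₐ[A] Module.End A G)) :
    φ f (evalMap _ z) = evalMap _ (TensorProduct.map f LinearMap.id z) := by
  induction z using TensorProduct.induction_on with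
  | zero => simp
  | tmul x h =>
    rw [TensorProduct.map_tmul, evalMap_tmul, evalMap_tmul, LinearMap.id_apply, interHom_apply]
    rfl
  | add z₁ z₂ h₁ h₂ => rw [map_add, map_add, map_add, map_add, h₁, h₂]

/-- S13795 -/
theorem exists_invertible_tensor_equiv :
    Module.Invertible A (interHom (φ : Module.End A F →ₐ[A] Module.End A G)) ∧
    ∃ ξ : F ⊗[A] interHom (φ : Module.End A F →ₐ[A] Module.End A G) ≃ₗ[A] G,
      ∀ f : Module.End A F, φ f = ξ.conj (TensorProduct.map f LinearMap.id) := by
  haveI : FaithfulSMul A F := faithfulSMul_of_faithfullyFlat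
  haveI : IsAzumaya A (Module.End A F) := Azu.isAzumaya_end A F
  obtain ⟨τ, hτ⟩ := LG.exists_retraction A (Module.End A F)
  refine ⟨Module.Invertible.right (LinearEquiv.ofBijective (mu φ τ) (mu_bijective φ τ hτ)), ?_⟩
  refine ⟨LinearEquiv.ofBijective (evalMap _) (evalMap_bijective _), fun f => ?_⟩
  ext n
  rw [LinearEquiv.conj_apply, LinearMap.comp_apply, LinearMap.comp_apply]
  obtain ⟨z, rfl⟩ := (evalMap_bijective (φ : Module.End A F →ₐ[A] Module.End A G)).2 n
  have h1 : ((LinearEquiv.ofBijective (evalMap _) (evalMap_bijective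
      (φ : Module.End A F →ₐ[A] Module.End A G))).symm : G →ₗ[A] _) (evalMap _ z) = z :=
    (LinearEquiv.ofBijective (evalMap _) (evalMap_bijective _)).symm_apply_apply z
  rw [h1]
  exact evalMap_map φ f z

end Inv

end Groth.Agent.H7.EndIso
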