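import Mathlib

open CategoryTheory CategoryTheory.Limits Opposite

universe u

namespace Groth.Agent.H7.EnoughPts

theorem main {C : Type u} [SmallCategory C] (J : GrothendieckTopology C) {ι : Type u}
    (X : ι → C) (hX : J.CoversTop X)
    (h : ∀ i, GrothendieckTopology.HasEnoughPoints.{u} (J.over (X i))) :
    GrothendieckTopology.HasEnoughPoints.{u} J := by
  choose P hPs hPc using fun i => (h i).exists_objectProperty
  let Q : ObjectProperty (GrothendieckTopology.Point.{u} J) :=
    ObjectProperty.ofObj (fun (ψ : Σ i, (P i).FullSubcategory) =>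
      ψ.2.obj.map (Over.forget (X ψ.1)) J)
  refine ⟨Q, ?_, ?_⟩
  · infer_instance
  · refine ⟨⟨fun {F G} f hf => ?_⟩⟩
    apply Sheaf.isIso_of_coversTop hX
    intro i
    apply ((hPc i).jointlyReflectIsomorphisms_type.isIso_iff _).mpr
    intro Ψ
    let Φ : Q.FullSubcategory := ⟨Ψ.obj.map (Over.forget (X i)) J,
      ObjectProperty.ofObj_apply _ (⟨i, Ψ⟩ : Σ i, (P i).FullSubcategory)⟩
    have h1 : IsIso (Φ.obj.sheafFiber.map f) := hf Φ
    exact (NatIso.isIso_map_iff (Ψ.obj.sheafFiberMapIso (Over.forget (X i)) J (Type u)) f).mp h1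

end Groth.Agent.H7.EnoughPts
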