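import Mathlib

/-! Algebra for S9727: lifting a standard étale pair along a ring map `ψ : B → B̄` such that
every element of `B̄` is a fraction `ψ β / ψ e` with `ψ e` a unit. -/
set_option autoImplicit false
open Polynomial TensorProduct
universe u

namespace Groth.Agent.H7.EtFib

/-- `(★)`: every element of the target is `ψ β / ψ e` with `ψ e` a unit. -/
def Star {B B' : Type*} [CommRing B] [CommRing B'] (ψ : B →+* B') : Prop :=
  ∀ a : B', ∃ β e : B, IsUnit (ψ e) ∧ a * ψ e = ψ β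

section
variable {B B' : Type*} [CommRing B] [CommRing B'] {ψ : B →+* B'}

lemma Star.finset (hψ : Star ψ) {ι : Type*} (s : Finset ι) (c : ι → B') :
    ∃ e : B, IsUnit (ψ e) ∧ ∀ i ∈ s, ∃ β : B, c i * ψ e = ψ β := by
  classical
  induction s using Finset.induction_on with
  | empty => exact ⟨1, by simp, by simp⟩
  | insert j s hj ih =>
    obtain ⟨b, hb, hbs⟩ := ih
    obtain ⟨aj, bj, hbj, haj⟩ := hψ (c j)
    refine ⟨b * bj, by rw [map_mul]; exact hb.mul hbj, ?_⟩
    intro i hi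
    rcases Finset.mem_insert.mp hi with rfl | hi
    · exact ⟨aj * b, by rw [map_mul, map_mul, ← haj]; ring⟩
    · obtain ⟨a, ha⟩ := hbs i hi
      exact ⟨a * bj, by rw [map_mul, map_mul, ← ha]; ring⟩

lemma Star.poly (hψ : Star ψ) (q : B'[X]) :
    ∃ e : B, IsUnit (ψ e) ∧ ∀ i : ℕ, ∃ β : B, q.coeff i * ψ e = ψ β := by
  obtain ⟨e, he, h⟩ := hψ.finset q.support (fun i => q.coeff i)
  refine ⟨e, he, fun i => ?_⟩
  by_cases hi : i ∈ q.support
  · exact h i hi
  · refine ⟨0, ?_⟩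
    rw [Polynomial.notMem_support_iff.mp hi, zero_mul, map_zero]

/-- if `q.coeff i * ψ e ∈ range ψ` for all `i` and `ψ e` is a unit, then `q` lifts along any
`ψ' : B₁ → B'` through which `ψ` factors and in which `e` becomes a unit. -/
lemma lifts_of_coeff {B₁ : Type*} [CommRing B₁] (j : B →+* B₁) (ψ₁ : B₁ →+* B')
    (hj : ψ₁.comp j = ψ) (q : B'[X]) (e : B) (he : IsUnit (j e))
    (h : ∀ i : ℕ, ∃ β : B, q.coeff i * ψ e = ψ β) : q ∈ Polynomial.lifts ψ₁ := by
  rw [Polynomial.lifts_iff_coeff_lifts]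
  intro i
  obtain ⟨β, hβ⟩ := h i
  obtain ⟨u, hu⟩ := he
  refine ⟨j β * ↑u⁻¹, ?_⟩
  have h1 : ψ₁ (j e) = ψ e := by rw [← hj]; rfl
  have h2 : ψ₁ (j β) = ψ β := by rw [← hj]; rfl
  have h3 : ψ₁ (↑u⁻¹) * ψ e = 1 := by
    rw [← h1, ← hu, ← map_mul, Units.inv_mul, map_one]
  rw [map_mul, h2, ← hβ, mul_assoc, mul_comm (ψ e), h3, mul_one]

end

section Pair
variable {B' : Type u} [CommRing B']

/-- Two standard étale pairs with the same `f` and with `g₂ = g₁ * f'` have isomorphic rings. -/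
noncomputable def pairEquiv (P Q : StandardEtalePair B') (hf : Q.f = P.f)
    (hg : Q.g = P.g * derivative P.f) : Q.Ring ≃ₐ[B'] P.Ring := by
  have h1 : Q.HasMap P.X := by
    refine ⟨by rw [hf]; exact P.hasMap_X.1, ?_⟩
    rw [hg, map_mul]
    exact P.hasMap_X.2.mul P.hasMap_X.isUnit_derivative_f
  have h2 : P.HasMap Q.X := by
    refine ⟨by rw [← hf]; exact Q.hasMap_X.1, ?_⟩
    have := Q.hasMap_X.2
    rw [hg, map_mul] at this
    exact isUnit_of_mul_isUnit_left this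
  exact AlgEquiv.ofAlgHom (Q.lift P.X h1) (P.lift Q.X h2)
    (P.hom_ext (by simp)) (Q.hom_ext (by simp))

end Pair

/-- **Lemma A.** -/
theorem lemmaA {B B' : Type u} [CommRing B] [CommRing B'] (ψ : B →+* B') (hψ : Star ψ)
    (P' : StandardEtalePair B') :
    ∃ (e : B) (he : IsUnit (ψ e)) (P : StandardEtalePair (Localization.Away e)),
      letI := (IsLocalization.Away.lift e he : Localization.Away e →+* B').toAlgebra
      Nonempty ((B' ⊗[Localization.Away e] P.Ring) ≃ₐ[B'] P'.Ring) := by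
  obtain ⟨e₁, he₁, h₁⟩ := hψ.poly P'.f
  obtain ⟨e₂, he₂, h₂⟩ := hψ.poly P'.g
  have he : IsUnit (ψ (e₁ * e₂)) := by rw [map_mul]; exact he₁.mul he₂
  refine ⟨e₁ * e₂, he, ?_⟩
  let ψ₁ : Localization.Away (e₁ * e₂) →+* B' := IsLocalization.Away.lift (e₁ * e₂) he
  letI := ψ₁.toAlgebra
  have hj : ψ₁.comp (algebraMap B (Localization.Away (e₁ * e₂))) = ψ :=
    IsLocalization.Away.lift_comp ..
  have hu : IsUnit (algebraMap B (Localization.Away (e₁ * e₂)) (e₁ * e₂)) :=
    IsLocalization.Away.algebraMap_isUnit _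
  have hf : P'.f ∈ Polynomial.lifts ψ₁ := by
    refine lifts_of_coeff _ ψ₁ hj _ (e₁ * e₂) hu (fun i => ?_)
    obtain ⟨β, hβ⟩ := h₁ i
    exact ⟨β * e₂, by rw [map_mul, map_mul, ← hβ]; ring⟩
  have hg : P'.g ∈ Polynomial.lifts ψ₁ := by
    refine lifts_of_coeff _ ψ₁ hj _ (e₁ * e₂) hu (fun i => ?_)
    obtain ⟨β, hβ⟩ := h₂ i
    exact ⟨β * e₁, by rw [map_mul, map_mul, ← hβ]; ring⟩
  obtain ⟨F, hF, -, hFm⟩ := Polynomial.lifts_and_natDegree_eq_and_monic hf P'.monic_f
  obtain ⟨G, hG⟩ := (Polynomial.mem_lifts _).mp hg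
  let P : StandardEtalePair (Localization.Away (e₁ * e₂)) :=
    ⟨F, hFm, G * derivative F, ⟨G, 0, 1, by ring⟩⟩
  refine ⟨P, ?_⟩
  let Pres : StandardEtalePresentation (Localization.Away (e₁ * e₂)) P.Ring :=
    { P := P, x := P.X, hasMap := P.hasMap_X
      lift_bijective := by simpa [StandardEtalePair.lift_X_left] using Function.bijective_id }
  let e1 : (B' ⊗[Localization.Away (e₁ * e₂)] P.Ring) ≃ₐ[B'] (P.map (algebraMap _ B')).Ring :=
    Pres.baseChange.equivRing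
  have hf' : (P.map (algebraMap _ B')).f = P'.f := hF
  have hg' : (P.map (algebraMap _ B')).g = P'.g * derivative P'.f := by
    change (G * derivative F).map ψ₁ = _
    rw [Polynomial.map_mul, ← Polynomial.derivative_map, hF, hG]
  exact ⟨e1.trans (pairEquiv P' (P.map (algebraMap _ B')) hf' hg')⟩

end Groth.Agent.H7.EtFib
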