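import Groth.Agent.Lib.Helper7.EtFibG
import Groth.Prelude.Def_MoreMor
import Mathlib

/-! Fibre wrapper for S9727. -/
set_option autoImplicit false
open CategoryTheory Limits AlgebraicGeometry TensorProduct
universe u

namespace Groth.Agent.H7.EtFib

/-- (copied from helper1's `Groth.Agent.S9734`) every element of the residue field at a point of an
affine open is a fraction of sections -/
lemma exists_frac_evaluation {S : Scheme.{u}} {W : S.Opens} (hW : IsAffineOpen W) (s : S)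
    (hs : s ∈ W) (c : S.residueField s) :
    ∃ a b : Γ(S, W), S.evaluation W s hs b ≠ 0 ∧
      c * S.evaluation W s hs b = S.evaluation W s hs a := by
  obtain ⟨t, rfl⟩ := S.residue_surjective s c
  letI := S.presheaf.algebra_section_stalk ⟨s, hs⟩
  haveI := hW.isLocalization_stalk ⟨s, hs⟩
  obtain ⟨⟨a, b⟩, hab⟩ := IsLocalization.surj (hW.primeIdealOf ⟨s, hs⟩).asIdeal.primeCompl t
  have hu : IsUnit (algebraMap Γ(S, W) (S.presheaf.stalk s) b) :=
    IsLocalization.map_units (S.presheaf.stalk s) b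
  have halg : ∀ x : Γ(S, W), algebraMap Γ(S, W) (S.presheaf.stalk s) x =
      S.presheaf.germ W s hs x := fun x => rfl
  refine ⟨a, b, ?_, ?_⟩
  · have : IsUnit (S.residue s (S.presheaf.germ W s hs b)) := by
      rw [← halg]; exact hu.map (S.residue s).hom
    exact this.ne_zero
  · show S.residue s t * S.residue s (S.presheaf.germ W s hs b) =
      S.residue s (S.presheaf.germ W s hs a)
    rw [← map_mul, ← halg, ← halg]
    exact congrArg _ hab

/-- `(★)` is stable under base change. -/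
lemma star_includeLeft {R B K : Type u} [CommRing R] [CommRing B] [Field K] [Algebra R B]
    [Algebra R K]
    (hK : ∀ c : K, ∃ a b : R, algebraMap R K b ≠ 0 ∧ c * algebraMap R K b = algebraMap R K a) :
    Star (Algebra.TensorProduct.includeLeftRingHom : B →+* B ⊗[R] K) := by
  intro z
  induction z using TensorProduct.induction_on with
  | zero => exact ⟨0, 1, by rw [map_one]; exact isUnit_one, by simp⟩
  | tmul b c =>
    obtain ⟨a, d, hd, hc⟩ := hK c
    refine ⟨a • b, algebraMap R B d, ?_, ?_⟩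
    · have h1 : (Algebra.TensorProduct.includeLeftRingHom : B →+* B ⊗[R] K) (algebraMap R B d)
          = (1 : B) ⊗ₜ[R] (algebraMap R K d) := by
        change (algebraMap R B d) ⊗ₜ[R] (1 : K) = _
        rw [Algebra.algebraMap_eq_smul_one, Algebra.algebraMap_eq_smul_one, TensorProduct.smul_tmul]
      rw [h1]
      exact (hd.isUnit.map (Algebra.TensorProduct.includeRight : K →ₐ[R] B ⊗[R] K))
    · change b ⊗ₜ[R] c * (algebraMap R B d) ⊗ₜ[R] (1 : K) = (a • b) ⊗ₜ[R] (1 : K)
      rw [Algebra.TensorProduct.tmul_mul_tmul, mul_one, Algebra.algebraMap_eq_smul_one,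
        mul_smul_comm, mul_one, TensorProduct.smul_tmul, TensorProduct.smul_tmul]
      congr 1
      rw [Algebra.smul_def, Algebra.smul_def, mul_comm, hc, mul_one]
  | add z₁ z₂ h₁ h₂ =>
    obtain ⟨β₁, e₁, he₁, h₁⟩ := h₁
    obtain ⟨β₂, e₂, he₂, h₂⟩ := h₂
    refine ⟨β₁ * e₂ + β₂ * e₁, e₁ * e₂, by rw [map_mul]; exact he₁.mul he₂, ?_⟩
    rw [map_mul, map_add, map_mul, map_mul, ← h₁, ← h₂]
    ring

lemma isPullback_comp_mono {𝒞 : Type*} [Category 𝒞] {P A K R S : 𝒞} {iR : P ⟶ K} {iL : P ⟶ A}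
    {a : K ⟶ R} {b : A ⟶ R} (hα : IsPullback iR iL a b) (i : R ⟶ S) [Mono i] :
    IsPullback iR iL (a ≫ i) (b ≫ i) := by
  have h1 := hα.paste_horiz (isPullback_id_of_mono a i)
  simpa only [Category.comp_id] using h1

/-- `S.fromSpecResidueField s` through an affine open. -/
lemma evaluation_fromSpec {S : Scheme.{u}} {W : S.Opens} (hW : IsAffineOpen W) (s : S) (hs : s ∈ W) :
    Spec.map (S.evaluation W s hs) ≫ hW.fromSpec = S.fromSpecResidueField s := by
  rw [Scheme.fromSpecResidueField, ← hW.fromSpecStalk_eq_fromSpecStalk hs,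
    IsAffineOpen.fromSpecStalk, Scheme.evaluation, Spec.map_comp, Category.assoc]

theorem S9727_main {X S V : Scheme.{u}} (f : X ⟶ S) (x : X)
    (g : V ⟶ f.fiber (f x)) [Etale g] (v : V) (hv : g v = f.asFiber x) :
    ∃ (U : Scheme.{u}) (p : U ⟶ X) (u : U) (m : (p ≫ f).fiber (f x) ⟶ V)
      (u' : ↑((p ≫ f).fiber (f x))),
      Etale p ∧ p u = x ∧ IsOpenImmersion m ∧ m ≫ g = MoreMor.fiberMap p f (f x) ∧
      (p ≫ f).fiberι (f x) u' = u ∧ m u' = v := by
  -- affine opens
  obtain ⟨_, ⟨W, hW, rfl⟩, hs, -⟩ := S.isBasis_affineOpens.exists_subset_of_mem_open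
    (Set.mem_univ (f x)) isOpen_univ
  replace hW : IsAffineOpen W := hW
  obtain ⟨_, ⟨X₀, hX₀, rfl⟩, hx, hX₀W⟩ := X.isBasis_affineOpens.exists_subset_of_mem_open
    (show x ∈ ((f ⁻¹ᵁ W : X.Opens) : Set X) from hs) (f ⁻¹ᵁ W).isOpen
  replace hX₀ : IsAffineOpen X₀ := hX₀
  have e : X₀ ≤ f ⁻¹ᵁ W := hX₀W
  letI algRB : Algebra Γ(S, W) Γ(X, X₀) := (f.appLE W X₀ e).hom.toAlgebra
  letI algRK : Algebra Γ(S, W) (S.residueField (f x)) := (S.evaluation W (f x) hs).hom.toAlgebra
  let ψ : Γ(X, X₀) →+* Γ(X, X₀) ⊗[Γ(S, W)] (S.residueField (f x)) :=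
    Algebra.TensorProduct.includeLeftRingHom
  have hψ : Star ψ := star_includeLeft (fun c => exists_frac_evaluation hW (f x) hs c)
  -- the maps
  let jX : Spec Γ(X, X₀) ⟶ X := hX₀.fromSpec
  let iL : Spec (.of (Γ(X, X₀) ⊗[Γ(S, W)] (S.residueField (f x)))) ⟶ Spec Γ(X, X₀) :=
    Spec.map (CommRingCat.ofHom ψ)
  let iR : Spec (.of (Γ(X, X₀) ⊗[Γ(S, W)] (S.residueField (f x)))) ⟶ Spec (S.residueField (f x)) :=
    Spec.map (CommRingCat.ofHom (Algebra.TensorProduct.includeRight :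
      S.residueField (f x) →ₐ[Γ(S, W)] Γ(X, X₀) ⊗[Γ(S, W)] (S.residueField (f x))).toRingHom)
  have sqα : IsPullback iL iR (Spec.map (CommRingCat.ofHom (algebraMap Γ(S, W) Γ(X, X₀))))
      (Spec.map (CommRingCat.ofHom (algebraMap Γ(S, W) (S.residueField (f x))))) :=
    isPullback_SpecMap_of_isPushout _ _ _ _
      (CommRingCat.isPushout_tensorProduct Γ(S, W) Γ(X, X₀) (S.residueField (f x)))
  have hB : Spec.map (CommRingCat.ofHom (algebraMap Γ(S, W) Γ(X, X₀))) ≫ hW.fromSpec = jX ≫ f :=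
    IsAffineOpen.SpecMap_appLE_fromSpec f hW hX₀ e
  have hK : Spec.map (CommRingCat.ofHom (algebraMap Γ(S, W) (S.residueField (f x)))) ≫ hW.fromSpec
      = S.fromSpecResidueField (f x) := evaluation_fromSpec hW (f x) hs
  have sqβ : IsPullback iR iL (S.fromSpecResidueField (f x)) (jX ≫ f) := by
    have h1 := isPullback_comp_mono sqα.flip hW.fromSpec
    rw [← hK, ← hB]
    exact h1
  -- the open immersion `t`
  let ι := f.fiberι (f x)
  let t : Spec (.of (Γ(X, X₀) ⊗[Γ(S, W)] (S.residueField (f x)))) ⟶ f.fiber (f x) :=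
    pullback.lift (iL ≫ jX) iR (by rw [Category.assoc]; exact sqβ.w.symm)
  have ht1 : t ≫ ι = iL ≫ jX := pullback.lift_fst _ _ _
  have ht2 : t ≫ f.fiberToSpecResidueField (f x) = iR := pullback.lift_snd _ _ _
  have hpb : IsPullback t iL ι jX := by
    refine IsPullback.of_right (h₁₂ := f.fiberToSpecResidueField (f x))
      (v₁₃ := S.fromSpecResidueField (f x)) (h₂₂ := f) ?_ ht1 ?_
    · rw [ht2]; exact sqβ
    · exact (IsPullback.of_hasPullback f (S.fromSpecResidueField (f x))).flip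
  -- `g v` lies in the range of `t`
  have hv' : g v ∈ Set.range t := by
    rw [hv]
    have hxr : x ∈ Set.range jX := by
      rw [hX₀.range_fromSpec]; exact hx
    obtain ⟨y, hy⟩ := hxr
    obtain ⟨z, hz1, hz2⟩ := Scheme.Pullback.exists_preimage_pullback (f := ι) (g := jX)
      (f.asFiber x) y ((f.fiberι_asFiber x).trans hy.symm)
    refine ⟨hpb.isoPullback.inv z, ?_⟩
    have : hpb.isoPullback.inv ≫ t = pullback.fst ι jX := hpb.isoPullback_inv_fst
    rw [← Scheme.Hom.comp_apply, this]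
    exact hz1
  obtain ⟨U, p, P, a, b, m, u', hp, hP, hm, hmg, hmu⟩ := lemmaG ψ hψ ι jX t hpb g v hv'
  -- the fibre of `p ≫ f` is the pullback of `p` along `ι`
  have hF1 : MoreMor.fiberMap p f (f x) ≫ ι = (p ≫ f).fiberι (f x) ≫ p := pullback.lift_fst _ _ _
  have hF2 : MoreMor.fiberMap p f (f x) ≫ f.fiberToSpecResidueField (f x)
      = (p ≫ f).fiberToSpecResidueField (f x) := pullback.lift_snd _ _ _
  have hF : IsPullback (MoreMor.fiberMap p f (f x)) ((p ≫ f).fiberι (f x)) ι p := by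
    refine IsPullback.of_right (h₁₂ := f.fiberToSpecResidueField (f x))
      (v₁₃ := S.fromSpecResidueField (f x)) (h₂₂ := f) ?_ hF1 ?_
    · rw [hF2]
      exact (IsPullback.of_hasPullback (p ≫ f) (S.fromSpecResidueField (f x))).flip
    · exact (IsPullback.of_hasPullback f (S.fromSpecResidueField (f x))).flip
  let φ : (p ≫ f).fiber (f x) ≅ P := hF.isoIsPullback _ _ hP
  have hφ1 : φ.hom ≫ b = MoreMor.fiberMap p f (f x) := hF.isoIsPullback_hom_fst _ _ hP
  have hφ2 : φ.hom ≫ a = (p ≫ f).fiberι (f x) := hF.isoIsPullback_hom_snd _ _ hP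
  have hmg' : (φ.hom ≫ m) ≫ g = MoreMor.fiberMap p f (f x) := by
    rw [Category.assoc, hmg, hφ1]
  have hpt : (φ.hom ≫ m) (φ.inv u') = v := by
    rw [← Scheme.Hom.comp_apply, Iso.inv_hom_id_assoc]
    exact hmu
  refine ⟨U, p, (p ≫ f).fiberι (f x) (φ.inv u'), φ.hom ≫ m, φ.inv u', hp, ?_, inferInstance,
    hmg', rfl, hpt⟩
  have h1 : p ((p ≫ f).fiberι (f x) (φ.inv u')) = ι (MoreMor.fiberMap p f (f x) (φ.inv u')) := by
    have := congr_arg (fun q => (q : _ ⟶ X) (φ.inv u')) hF1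
    simp only [Scheme.Hom.comp_apply] at this
    exact this.symm
  rw [h1, ← hmg', Scheme.Hom.comp_apply, hpt, hv]
  exact f.fiberι_asFiber x

end Groth.Agent.H7.EtFib
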