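import Groth.Agent.Lib.Helper7.EtFibA
import Mathlib

/-! Geometric core for S9727. -/
set_option autoImplicit false
open CategoryTheory Limits AlgebraicGeometry TensorProduct
universe u

namespace Groth.Agent.H7.EtFib

set_option backward.isDefEq.respectTransparency.types false in
/-- (copied from helper1's `Groth.Agent.S9722`) -/
lemma etale_appLE_of_etale_ι_comp {X S : Scheme.{u}} (f : X ⟶ S) (V : S.Opens) (hV : IsAffineOpen V)
    (U : X.Opens) (hU : IsAffineOpen U) (e : U ≤ f ⁻¹ᵁ V) :
    Etale (U.ι ≫ f) ↔ (f.appLE V U e).hom.Etale := by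
  have : IsAffine U := hU
  have : IsAffine V := hV
  have h1 : Etale (U.ι ≫ f) ↔ Etale (f.resLE V U e) := by
    rw [← Scheme.Hom.resLE_comp_ι f e]
    exact ⟨fun h => MorphismProperty.of_postcomp (W := @Etale) (W' := @IsOpenImmersion)
      (f.resLE V U e) V.ι inferInstance h, fun h => inferInstance⟩
  rw [h1, HasRingHomProperty.iff_of_isAffine (P := @Etale)]
  exact RingHom.Etale.propertyIsLocal.respectsIso.arrow_mk_iso_iff (arrowResLEAppIso f V U e)

/-- the square `Spec B' = Spec B' → Spec B`, `Spec B' → Spec B₁ → Spec B` for a mono `Spec B₁ → Spec B`. -/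
lemma isPullback_id_of_mono {𝒞 : Type*} [Category 𝒞] {A A₁ A' : 𝒞} (a : A' ⟶ A₁) (i : A₁ ⟶ A) [Mono i] :
    IsPullback (𝟙 A') a (a ≫ i) i := by
  have h1 : IsPullback (𝟙 A₁) (𝟙 A₁) i i := IsKernelPair.id_of_mono i
  have h2 : IsPullback a (𝟙 A') (𝟙 A₁) a := IsPullback.of_vert_isIso ⟨by simp⟩
  have h3 := h2.paste_horiz h1
  simpa using h3.flip

theorem lemmaG {B B' : Type u} [CommRing B] [CommRing B'] (ψ : B →+* B') (hψ : Star ψ)
    {X Z V : Scheme.{u}} (ι : Z ⟶ X) (jX : Spec (.of B) ⟶ X) [IsOpenImmersion jX]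
    (t : Spec (.of B') ⟶ Z) (hpb : IsPullback t (Spec.map (CommRingCat.ofHom ψ)) ι jX)
    (g : V ⟶ Z) [Etale g] (v : V) (hv : g v ∈ Set.range t) :
    ∃ (U : Scheme.{u}) (p : U ⟶ X) (P : Scheme.{u}) (a : P ⟶ U) (b : P ⟶ Z) (m : P ⟶ V)
      (u' : P), Etale p ∧ IsPullback b a ι p ∧ IsOpenImmersion m ∧ m ≫ g = b ∧ m u' = v := by
  haveI ht : IsOpenImmersion t :=
    MorphismProperty.of_isPullback (P := @IsOpenImmersion) hpb.flip inferInstance
  -- the pullback `V' = V ×_Z Spec B'`
  let V' := pullback g t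
  let fst' : V' ⟶ V := pullback.fst g t
  let h : V' ⟶ Spec (.of B') := pullback.snd g t
  obtain ⟨y, hy⟩ := hv
  obtain ⟨v', hv'1, hv'2⟩ := Scheme.Pullback.exists_preimage_pullback (f := g) (g := t) v y hy.symm
  -- affine open around `v'`
  obtain ⟨_, ⟨U₀, hU₀, rfl⟩, hvU₀, -⟩ :=
    V'.isBasis_affineOpens.exists_subset_of_mem_open (Set.mem_univ v') isOpen_univ
  replace hU₀ : IsAffineOpen U₀ := hU₀
  let ψC : B' →+* Γ(V', U₀) :=
    (h.appLE ⊤ U₀ le_top).hom.comp (Scheme.ΓSpecIso (.of B')).inv.hom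
  have hψC : ψC.Etale := by
    have h1 : (h.appLE ⊤ U₀ le_top).hom.Etale :=
      (etale_appLE_of_etale_ι_comp h ⊤ (isAffineOpen_top _) U₀ hU₀ le_top).mp
        inferInstance
    exact RingHom.Etale.respectsIso.2 _
      (Scheme.ΓSpecIso (.of B')).commRingCatIsoToRingEquiv.symm h1
  algebraize [ψC]
  let q := hU₀.primeIdealOf ⟨v', hvU₀⟩
  have hq : hU₀.fromSpec q = v' := hU₀.fromSpec_primeIdealOf ⟨v', hvU₀⟩
  have : Algebra.FormallyEtale B' (Localization.AtPrime q.asIdeal) :=
    Algebra.FormallyEtale.comp B' Γ(V', U₀) (Localization.AtPrime q.asIdeal)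
  obtain ⟨r, hrq, hst⟩ := Algebra.IsEtaleAt.exists_isStandardEtale (R := B') q.asIdeal
  obtain ⟨Ppres⟩ := hst.nonempty_standardEtalePresentation
  -- the localization
  let jr : Spec (.of (Localization.Away r)) ⟶ Spec Γ(V', U₀) :=
    Spec.map (CommRingCat.ofHom (algebraMap Γ(V', U₀) (Localization.Away r)))
  obtain ⟨qr, hqr⟩ : ∃ qr : Spec (.of (Localization.Away r)), jr qr = q := by
    have h1 : q ∈ Set.range (PrimeSpectrum.comap (algebraMap Γ(V', U₀) (Localization.Away r))) := by
      rw [PrimeSpectrum.localization_away_comap_range (Localization.Away r) r]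
      exact hrq
    obtain ⟨qr, hqr⟩ := h1
    exact ⟨qr, hqr⟩
  -- Lemma A
  obtain ⟨e, he, P, hθ⟩ := lemmaA ψ hψ Ppres.P
  letI algE : Algebra (Localization.Away e) B' :=
    (IsLocalization.Away.lift e he : Localization.Away e →+* B').toAlgebra
  obtain ⟨θ⟩ := hθ
  let Θ : (B' ⊗[Localization.Away e] P.Ring) ≃ₐ[B'] Localization.Away r :=
    θ.trans Ppres.equivRing.symm
  have hj : (algebraMap (Localization.Away e) B').comp (algebraMap B (Localization.Away e)) = ψ :=
    IsLocalization.Away.lift_comp ..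
  -- the étale neighbourhood
  let pU : Spec (.of P.Ring) ⟶ Spec (.of (Localization.Away e)) :=
    Spec.map (CommRingCat.ofHom (algebraMap (Localization.Away e) P.Ring))
  let je : Spec (.of (Localization.Away e)) ⟶ Spec (.of B) :=
    Spec.map (CommRingCat.ofHom (algebraMap B (Localization.Away e)))
  let aE : Spec (.of B') ⟶ Spec (.of (Localization.Away e)) :=
    Spec.map (CommRingCat.ofHom (algebraMap (Localization.Away e) B'))
  have haE : aE ≫ je = Spec.map (CommRingCat.ofHom ψ) := by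
    rw [← Spec.map_comp, ← CommRingCat.ofHom_comp, hj]
  haveI : Etale pU := by
    rw [HasRingHomProperty.Spec_iff (P := @Etale)]
    exact RingHom.etale_algebraMap.mpr inferInstance
  let iL : Spec (.of (B' ⊗[Localization.Away e] P.Ring)) ⟶ Spec (.of B') :=
    Spec.map (CommRingCat.ofHom Algebra.TensorProduct.includeLeftRingHom)
  let iR : Spec (.of (B' ⊗[Localization.Away e] P.Ring)) ⟶ Spec (.of P.Ring) :=
    Spec.map (CommRingCat.ofHom Algebra.TensorProduct.includeRight.toRingHom)
  have sq1 : IsPullback iL iR aE pU :=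
    isPullback_SpecMap_of_isPushout _ _ _ _
      (CommRingCat.isPushout_tensorProduct (Localization.Away e) B' P.Ring)
  have sq2 : IsPullback (𝟙 _) aE (Spec.map (CommRingCat.ofHom ψ)) je := by
    rw [← haE]; exact isPullback_id_of_mono aE je
  have sq := (sq1.paste_horiz sq2).paste_horiz hpb
  haveI : IsOpenImmersion jr := by
    change IsOpenImmersion (Spec.map (CommRingCat.ofHom (algebraMap Γ(V', U₀) (Localization.Away r))))
    infer_instance
  haveI : IsOpenImmersion fst' := by
    change IsOpenImmersion (pullback.fst g t)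
    infer_instance
  haveI : IsIso (Spec.map (CommRingCat.ofHom Θ.symm.toRingHom)) := by
    have : IsIso (CommRingCat.ofHom Θ.symm.toRingHom) :=
      (Θ.symm.toRingEquiv.toCommRingCatIso).isIso_hom
    infer_instance
  haveI : IsOpenImmersion je := by
    change IsOpenImmersion (Spec.map (CommRingCat.ofHom (algebraMap B (Localization.Away e))))
    infer_instance
  refine ⟨Spec (.of P.Ring), pU ≫ je ≫ jX, Spec (.of (B' ⊗[Localization.Away e] P.Ring)), iR,
    iL ≫ t, Spec.map (CommRingCat.ofHom Θ.symm.toRingHom) ≫ jr ≫ hU₀.fromSpec ≫ fst',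
    Spec.map (CommRingCat.ofHom Θ.toRingHom) qr, inferInstance, ?_, inferInstance, ?_, ?_⟩
  · simpa using sq
  · -- `m ≫ g = b`
    have h1 : fst' ≫ g = h ≫ t := pullback.condition
    have h2 : hU₀.fromSpec ≫ h = Spec.map (CommRingCat.ofHom ψC) := by
      rw [← IsAffineOpen.SpecMap_appLE_fromSpec h (isAffineOpen_top _) hU₀ le_top,
        IsAffineOpen.fromSpec_top, Scheme.isoSpec_Spec_inv, ← Spec.map_comp]
      rfl
    have h3 : Spec.map (CommRingCat.ofHom Θ.symm.toRingHom) ≫ jr ≫ Spec.map (CommRingCat.ofHom ψC)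
        = iL := by
      rw [← Spec.map_comp, ← Spec.map_comp]
      congr 1
      ext x
      change Θ.symm (algebraMap Γ(V', U₀) (Localization.Away r) (ψC x)) = x ⊗ₜ 1
      have : algebraMap Γ(V', U₀) (Localization.Away r) (ψC x)
          = algebraMap B' (Localization.Away r) x :=
        (IsScalarTower.algebraMap_apply B' Γ(V', U₀) (Localization.Away r) x).symm
      rw [this, AlgEquiv.commutes]
      rfl
    simp only [Category.assoc]
    rw [h1, reassoc_of% h2, reassoc_of% h3]
  · -- the point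
    have h1 : (Spec.map (CommRingCat.ofHom Θ.toRingHom) ≫
        Spec.map (CommRingCat.ofHom Θ.symm.toRingHom)) = 𝟙 _ := by
      rw [← Spec.map_comp, ← CommRingCat.ofHom_comp]
      have : (Θ.toRingHom).comp (Θ.symm.toRingHom) = RingHom.id _ := by
        ext x; exact Θ.apply_symm_apply x
      rw [this]
      exact Spec.map_id _
    have h2 : (Spec.map (CommRingCat.ofHom Θ.symm.toRingHom))
        (Spec.map (CommRingCat.ofHom Θ.toRingHom) qr) = qr := by
      rw [← Scheme.Hom.comp_apply, h1]; rfl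
    simp only [Scheme.Hom.comp_apply]
    rw [h2, hqr, hq]
    exact hv'1

end Groth.Agent.H7.EtFib
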