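import Mathlib

/-! Lifting étale algebras along surjections with nilpotent kernel. -/

set_option autoImplicit false
universe u v

namespace Groth.Agent.H7.EtLift

open MvPolynomial Algebra

theorem isUnit_of_map_of_nilpotent_ker {R S : Type*} [CommRing R] [CommRing S] (f : R →+* S)
    (hf : Function.Surjective f) (hN : IsNilpotent (RingHom.ker f)) {x : R} (hx : IsUnit (f x)) :
    IsUnit x := by
  rw [← IsNilpotent.isUnit_quotient_mk_iff hN]
  let e := RingHom.quotientKerEquivOfSurjective hf
  have he : e (Ideal.Quotient.mk _ x) = f x := rfl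
  rw [← he] at hx
  exact (isUnit_map_iff e _).mp hx

section
variable {A' A : Type v} [CommRing A'] [CommRing A] (π : A' →+* A) (hπ : Function.Surjective π)
  (E : Type v) [CommRing E] [Algebra A E]
  {ι σ : Type} [Finite ι] [Finite σ] (P : SubmersivePresentation A E ι σ)

/-- lifts of the relations -/
noncomputable def rel' (s : σ) : MvPolynomial ι A' :=
  (MvPolynomial.map_surjective π hπ (P.relation s)).choose

theorem map_rel' (s : σ) : MvPolynomial.map π (rel' π hπ E P s) = P.relation s :=
  (MvPolynomial.map_surjective π hπ (P.relation s)).choose_spec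

/-- the lifted algebra -/
abbrev E' : Type v := MvPolynomial ι A' ⧸ Ideal.span (Set.range (rel' π hπ E P))

/-- the composite `A'[X] → A[X] → E` -/
noncomputable def ev : MvPolynomial ι A' →+* E :=
  ((aeval P.val : MvPolynomial ι A →ₐ[A] E) : MvPolynomial ι A →+* E).comp (MvPolynomial.map π)

theorem ev_apply (f : MvPolynomial ι A') : ev π E P f = aeval P.val (MvPolynomial.map π f) := rfl

include hπ in
theorem ev_surjective : Function.Surjective (ev π E P) := by
  intro c
  obtain ⟨f, rfl⟩ := P.aeval_val_surjective c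
  obtain ⟨g, rfl⟩ := MvPolynomial.map_surjective π hπ f
  exact ⟨g, rfl⟩

theorem ker_ev : RingHom.ker (ev π E P) =
    Ideal.span (Set.range (rel' π hπ E P)) ⊔
      Ideal.map (MvPolynomial.C : A' →+* MvPolynomial ι A') (RingHom.ker π) := by
  have h1 : RingHom.ker (ev π E P) = Ideal.comap (MvPolynomial.map π) P.ker := by
    ext f
    rw [RingHom.mem_ker, Ideal.mem_comap, ev_apply, P.ker_eq_ker_aeval_val, RingHom.mem_ker]
  have h2 : P.ker = Ideal.map (MvPolynomial.map π) (Ideal.span (Set.range (rel' π hπ E P))) := by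
    rw [Ideal.map_span, ← P.span_range_relation_eq_ker, ← Set.range_comp]
    congr 2
    funext s
    exact (map_rel' π hπ E P s).symm
  rw [h1, h2, Ideal.comap_map_of_surjective _ (MvPolynomial.map_surjective π hπ), ← RingHom.ker,
    MvPolynomial.ker_map]

/-- the reduction map `E' → E` -/
noncomputable def πE : E' π hπ E P →+* E :=
  Ideal.Quotient.lift _ (ev π E P) (fun f hf => by
    have : f ∈ RingHom.ker (ev π E P) := by
      rw [ker_ev π hπ]; exact Ideal.mem_sup_left hf
    exact this)

theorem πE_mk (f : MvPolynomial ι A') : πE π hπ E P (Ideal.Quotient.mk _ f) = ev π E P f := rfl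

theorem πE_surjective : Function.Surjective (πE π hπ E P) := by
  intro c
  obtain ⟨f, rfl⟩ := ev_surjective π hπ E P c
  exact ⟨Ideal.Quotient.mk _ f, rfl⟩

theorem πE_algebraMap (a : A') :
    πE π hπ E P (algebraMap A' (E' π hπ E P) a) = algebraMap A E (π a) := by
  show πE π hπ E P (Ideal.Quotient.mk _ (MvPolynomial.C a)) = _
  rw [πE_mk, ev_apply, MvPolynomial.map_C, aeval_C]

theorem ker_πE : RingHom.ker (πE π hπ E P) =
    Ideal.map (algebraMap A' (E' π hπ E P)) (RingHom.ker π) := by
  apply le_antisymm
  · intro x hx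
    obtain ⟨f, rfl⟩ := Ideal.Quotient.mk_surjective x
    have hf : f ∈ RingHom.ker (ev π E P) := hx
    rw [ker_ev π hπ, Submodule.mem_sup] at hf
    obtain ⟨g, hg, h, hh, rfl⟩ := hf
    rw [map_add, Ideal.Quotient.eq_zero_iff_mem.mpr hg, zero_add]
    have : Ideal.map (algebraMap A' (E' π hπ E P)) (RingHom.ker π) =
        Ideal.map (Ideal.Quotient.mk _)
          (Ideal.map (MvPolynomial.C : A' →+* MvPolynomial ι A') (RingHom.ker π)) := by
      rw [Ideal.map_map]; rfl
    rw [this]
    exact Ideal.mem_map_of_mem _ hh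
  · rw [Ideal.map_le_iff_le_comap]
    intro a ha
    rw [Ideal.mem_comap, RingHom.mem_ker, πE_algebraMap, (RingHom.mem_ker).mp ha, map_zero]

/-- the lifted pre-submersive presentation -/
noncomputable def preP' : PreSubmersivePresentation A' (E' π hπ E P) ι σ where
  __ := Presentation.naive (v := rel' π hπ E P)
  map := P.map
  map_inj := P.map_inj

theorem πE_jacobian : πE π hπ E P (preP' π hπ E P).jacobian = P.jacobian := by
  classical
  cases nonempty_fintype σ
  rw [PreSubmersivePresentation.jacobian_eq_jacobiMatrix_det,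
    PreSubmersivePresentation.jacobian_eq_jacobiMatrix_det]
  show πE π hπ E P (Ideal.Quotient.mk _ ((preP' π hπ E P).jacobiMatrix.det)) = _
  rw [πE_mk, ev_apply, RingHom.map_det, P.algebraMap_eq]
  show aeval P.val _ = aeval P.val _
  congr 2
  refine Matrix.ext fun i j => ?_
  rw [RingHom.mapMatrix_apply, Matrix.map_apply, PreSubmersivePresentation.jacobiMatrix_apply,
    PreSubmersivePresentation.jacobiMatrix_apply, ← MvPolynomial.pderiv_map]
  show pderiv (P.map i) (MvPolynomial.map π (rel' π hπ E P j)) = _
  rw [map_rel']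

theorem isUnit_jacobian (hN : IsNilpotent (RingHom.ker π)) : IsUnit (preP' π hπ E P).jacobian := by
  apply isUnit_of_map_of_nilpotent_ker (πE π hπ E P) (πE_surjective π hπ E P)
  · rw [ker_πE]
    obtain ⟨n, hn⟩ := hN
    exact ⟨n, by rw [← Ideal.map_pow, hn, Ideal.zero_eq_bot, Ideal.map_bot]; rfl⟩
  · rw [πE_jacobian]; exact P.jacobian_isUnit

/-- the lifted submersive presentation -/
noncomputable def P' (hN : IsNilpotent (RingHom.ker π)) :
    SubmersivePresentation A' (E' π hπ E P) ι σ where
  __ := preP' π hπ E P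
  jacobian_isUnit := isUnit_jacobian π hπ E P hN

end

/-- **Étale algebras lift along surjections with nilpotent kernel.** -/
theorem exists_etale_lift {A' A : Type v} [CommRing A'] [CommRing A] (π : A' →+* A)
    (hπ : Function.Surjective π) (hN : IsNilpotent (RingHom.ker π))
    (E : Type v) [CommRing E] [Algebra A E] [Algebra.Etale A E] :
    ∃ (E' : Type v) (_ : CommRing E') (_ : Algebra A' E') (_ : Algebra.Etale A' E')
      (πE : E' →+* E), Function.Surjective πE ∧
        RingHom.ker πE = Ideal.map (algebraMap A' E') (RingHom.ker π) ∧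
        ∀ a, πE (algebraMap A' E' a) = algebraMap A E (π a) := by
  have h0 : IsStandardSmoothOfRelativeDimension 0 A E :=
    Etale.iff_isStandardSmoothOfRelativeDimension_zero.mp inferInstance
  obtain ⟨ι, σ, hσ, hι, P, hP⟩ := h0.out
  refine ⟨E' π hπ E P, inferInstance, inferInstance, ?_, πE π hπ E P, πE_surjective π hπ E P,
    ker_πE π hπ E P, πE_algebraMap π hπ E P⟩
  rw [Etale.iff_isStandardSmoothOfRelativeDimension_zero]
  exact (P' π hπ E P hN).isStandardSmoothOfRelativeDimension hP

end Groth.Agent.H7.EtLift
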