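import Groth.Agent.Lib.Helper7.EtLift
import Mathlib

/-!
# A formally etale algebra which is etale modulo a nilpotent ideal is etale
-/

set_option autoImplicit false
universe u

namespace Groth.Agent.H7.EtNil

theorem etale_of_formallyEtale_of_etale_quotient {A B : Type u} [CommRing A] [CommRing B]
    [Algebra A B] [Algebra.FormallyEtale A B] (I : Ideal A) (hI : IsNilpotent I)
    (E : Type u) [CommRing E] [Algebra (A ⧸ I) E] [Algebra.Etale (A ⧸ I) E]
    (q : B →+* E) (hq : Function.Surjective q) (hker : RingHom.ker q = I.map (algebraMap A B))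
    (hcomm : ∀ a, q (algebraMap A B a) = algebraMap (A ⧸ I) E (Ideal.Quotient.mk I a)) :
    Algebra.Etale A B := by
  obtain ⟨E', _, _, hE', πE, hπ, hkerπ, hcommπ⟩ := Groth.Agent.H7.EtLift.exists_etale_lift
    (Ideal.Quotient.mk I) Ideal.Quotient.mk_surjective (by rw [Ideal.mk_ker]; exact hI) E
  rw [Ideal.mk_ker] at hkerπ
  letI : Algebra A E := ((algebraMap (A ⧸ I) E).comp (Ideal.Quotient.mk I)).toAlgebra
  let qa : B →ₐ[A] E := { q with commutes' := fun a => hcomm a }
  let πa : E' →ₐ[A] E := { πE with commutes' := fun a => hcommπ a }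
  have hnil : ∀ {C : Type u} [CommRing C] (f : A →+* C), IsNilpotent (I.map f) := by
    intro C _ f
    obtain ⟨n, hn⟩ := hI
    exact ⟨n, by rw [← Ideal.map_pow, hn, Ideal.zero_eq_bot, Ideal.map_bot]; rfl⟩
  have hqn : IsNilpotent (RingHom.ker (qa : B →+* E)) := by
    have : RingHom.ker (qa : B →+* E) = I.map (algebraMap A B) := hker
    rw [this]; exact hnil _
  have hπn : IsNilpotent (RingHom.ker (πa : E' →+* E)) := by
    have : RingHom.ker (πa : E' →+* E) = I.map (algebraMap A E') := hkerπ
    rw [this]; exact hnil _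
  have hqs : Function.Surjective qa := hq
  have hπs : Function.Surjective πa := hπ
  let f : B →ₐ[A] E' := Algebra.FormallySmooth.liftOfSurjective qa πa hπs hπn
  let g : E' →ₐ[A] B := Algebra.FormallySmooth.liftOfSurjective πa qa hqs hqn
  have hf : πa.comp f = qa := Algebra.FormallySmooth.comp_liftOfSurjective _ _ _ _
  have hg : qa.comp g = πa := Algebra.FormallySmooth.comp_liftOfSurjective _ _ _ _
  have hgf : g.comp f = AlgHom.id A B :=
    Algebra.FormallyUnramified.lift_unique' qa hqn _ _ (by
      rw [← AlgHom.comp_assoc, hg, hf, AlgHom.comp_id])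
  have hfg : f.comp g = AlgHom.id A E' :=
    Algebra.FormallyUnramified.lift_unique' πa hπn _ _ (by
      rw [← AlgHom.comp_assoc, hf, hg, AlgHom.comp_id])
  exact Algebra.Etale.of_equiv (AlgEquiv.ofAlgHom g f hgf hfg)

end Groth.Agent.H7.EtNil
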