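import Groth.Agent.Lib.Helper5.Thick.FOThick
import Groth.Agent.Lib.Helper5.Descent.AffineHomDescent
import Groth.Prelude.Def_AlgSpInf
import Mathlib

/-!
# First order thickenings of schemes descend along fppf morphisms
-/

set_option autoImplicit false
universe u

open AlgebraicGeometry CategoryTheory Limits MorphismProperty TensorProduct

namespace Groth.Agent.H7.FOSp1

open Groth.Agent.H5.Thick

lemma sqZeroSurj_codescendsAlong :
    RingHom.CodescendsAlong @SqZeroSurj RingHom.FaithfullyFlat := by
  apply RingHom.CodescendsAlong.mk _ sqZeroSurj_respectsIso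
  introv h H
  rw [RingHom.faithfullyFlat_algebraMap_iff] at h
  refine ⟨h.surjective_of_tensorProduct H.1, fun x y hx hy => ?_⟩
  have hinj : Function.Injective (algebraMap R S) := FaithfulSMul.algebraMap_injective R S
  apply hinj
  rw [map_mul, map_zero]
  have key : ∀ z : R, algebraMap R T z = 0 →
      algebraMap S (S ⊗[R] T) (algebraMap R S z) = 0 := by
    intro z hz
    rw [Algebra.TensorProduct.algebraMap_apply, Algebra.algebraMap_self_apply,
      Algebra.algebraMap_eq_smul_one, TensorProduct.smul_tmul, ← Algebra.algebraMap_eq_smul_one,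
      hz, TensorProduct.tmul_zero]
  exact H.2 _ _ (key x hx) (key y hy)

instance descendsAlong_FOT_fppf_qc :
    FOT.{u}.DescendsAlong ((@Surjective ⊓ @Flat ⊓ @LocallyOfFinitePresentation) ⊓ @QuasiCompact) := by
  refine HasAffineProperty.descendsAlong_of_affineAnd (P := FOT.{u})
    (P' := (@Surjective ⊓ @Flat ⊓ @LocallyOfFinitePresentation))
    (Q := @SqZeroSurj) (Q' := RingHom.FaithfullyFlat) ?_ ?_ hasAffineProperty_FOT
    sqZeroSurj_respectsIso sqZeroSurj_codescendsAlong
  · rintro X Y f ⟨h1, h2⟩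
    haveI : MorphismProperty.ContainsIdentities @LocallyOfFinitePresentation.{u} :=
      ⟨fun X => (inferInstance : LocallyOfFinitePresentation (𝟙 X))⟩
    exact ⟨⟨h2, IsLocalIso.le_of_isZariskiLocalAtSource @Flat _ _ _ h1⟩,
      IsLocalIso.le_of_isZariskiLocalAtSource @LocallyOfFinitePresentation _ _ _ h1⟩
  · intro R S f ⟨⟨hf₁, hf₂⟩, _⟩
    rw [RingHom.FaithfullyFlat.iff_flat_and_comap_surjective]
    refine ⟨?_, (Spec.map f).surjective⟩
    rwa [HasRingHomProperty.Spec_iff (P := @Flat)] at hf₂

end Groth.Agent.H7.FOSp1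

namespace Groth.Agent.H7.FOSp1

open Groth.Agent.H5.Thick

instance descendsAlong_FOT_fppf :
    FOT.{u}.DescendsAlong (@Surjective ⊓ @Flat ⊓ @LocallyOfFinitePresentation) := by
  apply IsZariskiLocalAtTarget.descendsAlong
  rintro R X Y f g ⟨⟨h₁, h₂⟩, h₃⟩ H
  have : Flat f := h₂
  have : LocallyOfFinitePresentation f := h₃
  obtain ⟨V : X.Opens, hV, e⟩ := f.isOpenMap.exists_opens_image_eq_of_prespectralSpace
    f.continuous (by simp) isOpen_univ isCompact_univ
  refine MorphismProperty.of_isPullback_of_descendsAlong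
    (Q := (@Surjective ⊓ @Flat ⊓ @LocallyOfFinitePresentation) ⊓ @QuasiCompact)
    (.paste_vert (.of_hasPullback V.ι _) (.of_hasPullback f g)) ⟨⟨⟨?_, inferInstance⟩, inferInstance⟩,
      (quasiCompact_iff_compactSpace _).mpr (isCompact_iff_compactSpace.mp hV)⟩ ?_
  · exact ⟨fun x ↦ have ⟨y, hyV, e⟩ := e.ge (Set.mem_univ x); ⟨⟨y, hyV⟩, e⟩⟩
  · exact IsZariskiLocalAtTarget.of_isPullback (.flip <| .of_hasPullback _ _) H

/-- first order thickenings of schemes as a morphism property. -/
def FOThick : MorphismProperty Scheme.{u} := fun _ _ i => MoreMor.IsFirstOrderThickening i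

lemma FOThick_eq : FOThick.{u} = FOT.{u} ⊓ @Surjective := by
  ext X Y i
  exact isFirstOrderThickening_iff i

instance : FOThick.{u}.IsStableUnderBaseChange := by
  rw [FOThick_eq]; infer_instance

instance : IsZariskiLocalAtTarget FOThick.{u} := by
  rw [FOThick_eq]; infer_instance

instance : FOThick.{u}.DescendsAlong (@Surjective ⊓ @Flat ⊓ @LocallyOfFinitePresentation) := by
  rw [FOThick_eq]; infer_instance

instance : FOThick.{u}.RespectsIso := by
  rw [FOThick_eq]; infer_instance

lemma FOThick_le_thick : FOThick.{u} ≤ AlgSp.thick.{u} := fun _ _ _ h => h.1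

/-- descent of first order thickenings along a single surjective étale morphism. -/
theorem FOThick_of_isPullback_etale {X Y X' Y' : Scheme.{u}} {i' : X' ⟶ Y'}
    {p' : X' ⟶ X} {p : Y' ⟶ Y} {i : X ⟶ Y} (hsq : IsPullback i' p' p i)
    [Etale p] [Surjective p] (hi' : FOThick i') : FOThick i :=
  MorphismProperty.of_isPullback_of_descendsAlong
    (Q := @Surjective ⊓ @Flat ⊓ @LocallyOfFinitePresentation) hsq
    ⟨⟨inferInstance, inferInstance⟩, inferInstance⟩ hi'

end Groth.Agent.H7.FOSp1
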