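import Groth.Agent.Lib.Helper7.EtNil
import Groth.Agent.Lib.Helper7.FOSp8
import Groth.Agent.Lib.Helper7.FOSp1
import Groth.Agent.Lib.Helper5.Thick.FEtHom2
import Groth.Agent.Lib.Helper5.Thick.GlueLift
import Mathlib

/-!
# A formally etale morphism of affine schemes which is etale over a first order thickening of the
base is etale
-/

set_option autoImplicit false
universe u

open AlgebraicGeometry CategoryTheory Limits

namespace Groth.Agent.H7.EtNilSch

open Groth.Agent.H5.Thick Groth.Agent.H7.FOSp1 Groth.Agent.H7.FOSp8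

theorem etale_SpecMap_of_quotient {A B : CommRingCat.{u}} (φ : A ⟶ B) (I : Ideal A)
    (hI : I ^ 2 = ⊥) {N₀ : Scheme.{u}} (g₀ : N₀ ⟶ Spec (.of (A ⧸ I))) (i' : N₀ ⟶ Spec B)
    (sq : IsPullback g₀ i' (Spec.map (CommRingCat.ofHom (Ideal.Quotient.mk I))) (Spec.map φ))
    (hg₀ : Etale g₀) (hφ : MoreMor.IsFormallyEtaleHom (Spec.map φ)) : Etale (Spec.map φ) := by
  let J : Ideal B := I.map φ.hom
  let φ' : A ⧸ I →+* B ⧸ J := Ideal.quotientMap J φ.hom Ideal.le_comap_map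
  have po := isPushout_of_ker_eq I φ.hom (Ideal.Quotient.mk J) φ' Ideal.Quotient.mk_surjective
    Ideal.mk_ker (fun a => rfl)
  have pb := (isPullback_SpecMap_of_isPushout _ _ _ _ po).flip
  have e1 : (sq.isoIsPullback _ _ pb).inv ≫ g₀ = Spec.map (CommRingCat.ofHom φ') :=
    IsPullback.isoIsPullback_inv_fst _ _ _ _
  have h1 : Etale (Spec.map (CommRingCat.ofHom φ')) := by
    rw [← e1]; infer_instance
  rw [HasRingHomProperty.Spec_iff (P := @Etale)] at h1 ⊢
  have h2 := (isFormallyEtaleHom_SpecMap_iff φ).1 hφ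
  letI : Algebra A B := φ.hom.toAlgebra
  letI : Algebra (A ⧸ I) (B ⧸ J) := φ'.toAlgebra
  haveI : Algebra.FormallyEtale A B := h2
  haveI : Algebra.Etale (A ⧸ I) (B ⧸ J) := h1
  exact Groth.Agent.H7.EtNil.etale_of_formallyEtale_of_etale_quotient I ⟨2, hI⟩ (B ⧸ J)
    (Ideal.Quotient.mk J) Ideal.Quotient.mk_surjective Ideal.mk_ker (fun a => rfl)

theorem etale_of_formallyEtaleHom_of_etale_pullback {N Q Q₀ N₀ : Scheme.{u}} [IsAffine N]
    [IsAffine Q] (g : N ⟶ Q) (i : Q₀ ⟶ Q) (hi : MoreMor.IsFirstOrderThickening i)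
    (g₀ : N₀ ⟶ Q₀) (i' : N₀ ⟶ N) (sq : IsPullback g₀ i' i g) (hg₀ : Etale g₀)
    (hg : MoreMor.IsFormallyEtaleHom g) : Etale g := by
  have ht₀ : MoreMor.IsFirstOrderThickening (i ≫ Q.isoSpec.hom) :=
    (FOThick.cancel_right_of_respectsIso i Q.isoSpec.hom).2 hi
  obtain ⟨I, hI, E, hE⟩ := exists_iso_SpecMap_mk (i ≫ Q.isoSpec.hom) ht₀
  have hnat : g ≫ Q.isoSpec.hom = N.isoSpec.hom ≫ Spec.map g.appTop :=
    (Scheme.isoSpec_hom_naturality g).symm
  have sq' : IsPullback (g₀ ≫ E.inv) (i' ≫ N.isoSpec.hom)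
      (Spec.map (CommRingCat.ofHom (Ideal.Quotient.mk I))) (Spec.map g.appTop) := by
    refine IsPullback.of_iso sq (Iso.refl _) E.symm N.isoSpec Q.isoSpec ?_ ?_ ?_ hnat
    · simp
    · simp
    · rw [Iso.symm_hom, ← hE, Iso.inv_hom_id_assoc]
  have hfe : MoreMor.IsFormallyEtaleHom (Spec.map g.appTop) :=
    isFormallyEtaleHom_of_iso hg N.isoSpec.symm Q.isoSpec.symm (by
      rw [Iso.symm_hom, Iso.symm_hom, ← cancel_mono Q.isoSpec.hom, Category.assoc,
        Category.assoc, Iso.inv_hom_id, Category.comp_id, hnat, Iso.inv_hom_id_assoc])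
  haveI : Etale (g₀ ≫ E.inv) := inferInstance
  have h1 := etale_SpecMap_of_quotient g.appTop I hI _ _ sq' inferInstance hfe
  have h2 : g = N.isoSpec.hom ≫ Spec.map g.appTop ≫ Q.isoSpec.inv := by
    rw [← Category.assoc, ← hnat, Category.assoc, Iso.hom_inv_id, Category.comp_id]
  rw [h2]; infer_instance

end Groth.Agent.H7.EtNilSch
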