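import Groth.Agent.Lib.Helper5.AlgSp.EtaleQuot
import Groth.Agent.Lib.Helper3.RepDesc.Rep
import Mathlib

/-!
# S10108: algebraic spaces for the étale topology are algebraic spaces
-/

set_option autoImplicit false
universe u

open AlgebraicGeometry CategoryTheory Limits Opposite

namespace Groth.Agent.H7.EtSp

open _root_.AlgSp Groth.Agent.H5.AlgSp

variable {S : Scheme.{u}}

instance : Scheme.etalePrecoverage.{u}.IsStableUnderBaseChange := by
  unfold Scheme.etalePrecoverage; infer_instance

instance : Scheme.etalePrecoverage.{u}.HasPullbacks := by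
  unfold Scheme.etalePrecoverage; infer_instance

/-- a single étale surjective morphism generates a covering sieve of the big étale site. -/
lemma generate_singleton_mem_Jet {T T' : Over S} (c : T' ⟶ T) (h1 : Etale c.left)
    (h2 : Surjective c.left) :
    Sieve.generate (Presieve.singleton c) ∈ QuotSh.J Scheme.etalePrecoverage S T := by
  rw [show QuotSh.J Scheme.etalePrecoverage S = _ from
    over_toGrothendieck_eq_toGrothendieck_comap_forget _ S]
  apply Precoverage.generate_mem_toGrothendieck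
  show (Presieve.singleton c).map (Over.forget S) ∈ Scheme.etalePrecoverage T.left
  rw [Presieve.map_singleton]
  exact (Scheme.singleton_mem_precoverage_iff (P := @Etale) c.left).2 ⟨h2.surj, h1⟩

variable {𝒥 : GrothendieckTopology (Over S)} {G : PSp S}

lemma ulift_nat {T T' : Over S} (x : (pyon S).obj T ⟶ G) (c : T' ⟶ T) :
    G.map c.op (uliftYonedaEquiv x) = uliftYonedaEquiv ((pyon S).map c ≫ x) :=
  uliftYonedaEquiv_naturality x c.op

/-- uniqueness of descent of generalized elements along a covering morphism. -/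
theorem hom_ext_of_singleton (hG : Presheaf.IsSheaf 𝒥 G) {T T' : Over S} (c : T' ⟶ T)
    (hc : Sieve.generate (Presieve.singleton c) ∈ 𝒥 T) (x₁ x₂ : (pyon S).obj T ⟶ G)
    (h : (pyon S).map c ≫ x₁ = (pyon S).map c ≫ x₂) : x₁ = x₂ := by
  have hF : Presieve.IsSheaf 𝒥 G := (isSheaf_iff_isSheaf_of_type _ _).1 hG
  have hsh : Presieve.IsSheafFor G (Presieve.singleton c) :=
    (Presieve.isSheafFor_iff_generate _).2 (hF _ hc)
  rw [Presieve.isSheafFor_singleton] at hsh
  apply uliftYonedaEquiv.injective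
  have h1 : G.map c.op (uliftYonedaEquiv x₁) = G.map c.op (uliftYonedaEquiv x₂) := by
    rw [ulift_nat, ulift_nat, h]
  obtain ⟨y, -, hy⟩ := hsh (G.map c.op (uliftYonedaEquiv x₁)) (by
    intro Z p₁ p₂ hp
    rw [ulift_nat, ulift_nat, ulift_nat, ← Category.assoc, ← Category.assoc,
      ← Functor.map_comp, ← Functor.map_comp, hp])
  rw [hy _ rfl, hy _ h1.symm]

/-- existence of descent of generalized elements along a covering morphism. -/
theorem exists_desc_of_singleton (hG : Presheaf.IsSheaf 𝒥 G) {T T' : Over S} (c : T' ⟶ T)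
    (hc : Sieve.generate (Presieve.singleton c) ∈ 𝒥 T) (x' : (pyon S).obj T' ⟶ G)
    (h : ∀ {Z : Over S} (g₁ g₂ : Z ⟶ T'), g₁ ≫ c = g₂ ≫ c →
      (pyon S).map g₁ ≫ x' = (pyon S).map g₂ ≫ x') :
    ∃ x : (pyon S).obj T ⟶ G, (pyon S).map c ≫ x = x' := by
  have hF : Presieve.IsSheaf 𝒥 G := (isSheaf_iff_isSheaf_of_type _ _).1 hG
  have hsh : Presieve.IsSheafFor G (Presieve.singleton c) :=
    (Presieve.isSheafFor_iff_generate _).2 (hF _ hc)
  rw [Presieve.isSheafFor_singleton] at hsh
  obtain ⟨y, hy, -⟩ := hsh (uliftYonedaEquiv x') (by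
    intro Z p₁ p₂ hp
    rw [ulift_nat, ulift_nat, h p₁ p₂ hp])
  refine ⟨uliftYonedaEquiv.symm y, ?_⟩
  apply uliftYonedaEquiv.injective
  rw [← ulift_nat, Equiv.apply_symm_apply, hy]


/-- points of a fibre product represented through a full and faithful functor. -/
lemma exists_of_isPullback_map {C D : Type*} [Category C] [Category D] (Φ : C ⥤ D) [Φ.Full]
    [Φ.Faithful] {R U T : C} {s t : R ⟶ U} {P : D} {p : Φ.obj U ⟶ P}
    (sq : IsPullback (Φ.map t) (Φ.map s) p p) (a b : T ⟶ U)
    (h : Φ.map a ≫ p = Φ.map b ≫ p) : ∃ r : T ⟶ R, r ≫ t = a ∧ r ≫ s = b := by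
  refine ⟨Φ.preimage (sq.lift _ _ h), ?_, ?_⟩
  · apply Φ.map_injective
    rw [Functor.map_comp, Functor.map_preimage, sq.lift_fst]
  · apply Φ.map_injective
    rw [Functor.map_comp, Functor.map_preimage, sq.lift_snd]

section Main

variable {F : PSp S} {U R : Over S} {p : (pyon S).obj U ⟶ F} {s t : R ⟶ U}
  {X : Sp S} {q : (yon S).obj U ⟶ X}

/-- the key equivalence: two points of `U` have the same image in `F` iff they have the same image
in the quotient `X`. -/
lemma p_eq_iff_q_eq (sqF : IsPullback ((pyon S).map t) ((pyon S).map s) p p)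
    (sqX : IsPullback ((yon S).map t) ((yon S).map s) q q) {T : Over S} (a b : T ⟶ U) :
    (pyon S).map a ≫ p = (pyon S).map b ≫ p ↔ (yon S).map a ≫ q = (yon S).map b ≫ q := by
  constructor
  · intro h
    obtain ⟨r, rfl, rfl⟩ := exists_of_isPullback_map (pyon S) sqF a b h
    rw [Functor.map_comp, Functor.map_comp, Category.assoc, Category.assoc, sqX.w]
  · intro h
    obtain ⟨r, rfl, rfl⟩ := exists_of_isPullback_map (yon S) sqX a b h
    rw [Functor.map_comp, Functor.map_comp, Category.assoc, Category.assoc, sqF.w]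

/-- compatibility of a point of `X` with a point of `F`. -/
def Compat (p : (pyon S).obj U ⟶ F) (q : (yon S).obj U ⟶ X) {T : Over S}
    (x : (pyon S).obj T ⟶ F) (y : (yon S).obj T ⟶ X) : Prop :=
  ∀ (T' : Over S) (g : T' ⟶ T) (b : T' ⟶ U),
    (pyon S).map b ≫ p = (pyon S).map g ≫ x → (yon S).map b ≫ q = (yon S).map g ≫ y

lemma Compat.map {T T' : Over S} {x : (pyon S).obj T ⟶ F} {y : (yon S).obj T ⟶ X}
    (h : Compat p q x y) (g : T' ⟶ T) :
    Compat p q ((pyon S).map g ≫ x) ((yon S).map g ≫ y) := by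
  intro T'' g' b hb
  rw [← Category.assoc, ← Functor.map_comp] at hb ⊢
  exact h T'' (g' ≫ g) b hb

/-- base change of an étale surjective morphism of schemes over `S`. -/
lemma etale_surjective_fst {T T' A : Over S} (g : T' ⟶ T) (a : A ⟶ T) (ha : Etale a.left)
    (hs : Surjective a.left) :
    Etale (pullback.fst g a).left ∧ Surjective (pullback.fst g a).left := by
  have sq := (IsPullback.of_hasPullback g a).flip
  exact ⟨MorphismProperty.of_isPullback
      (P := MorphismProperty.inverseImage (@Etale : MorphismProperty Scheme.{u}) (Over.forget S))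
      sq ha,
    MorphismProperty.of_isPullback
      (P := MorphismProperty.inverseImage (@Surjective : MorphismProperty Scheme.{u})
        (Over.forget S)) sq hs⟩

lemma hom_ext_etale {G : Sp S} {T T' : Over S} (c : T' ⟶ T) (h1 : Etale c.left)
    (h2 : Surjective c.left) (y₁ y₂ : (yon S).obj T ⟶ G)
    (h : (yon S).map c ≫ y₁ = (yon S).map c ≫ y₂) : y₁ = y₂ := by
  haveI := h1
  haveI := h2
  exact Groth.Agent.H3.RepDesc.hom_ext_fppf c y₁ y₂ h

variable (hpe : (MorphismProperty.inverseImage @Etale (Over.forget S)).relative (pyon S) p)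
  (hps : (MorphismProperty.inverseImage @Surjective (Over.forget S)).relative (pyon S) p)

include hpe hps in
/-- uniqueness of the compatible point. -/
lemma Compat.unique {T : Over S} {x : (pyon S).obj T ⟶ F} {y₁ y₂ : (yon S).obj T ⟶ X}
    (h₁ : Compat p q x y₁) (h₂ : Compat p q x y₂) : y₁ = y₂ := by
  have sq := hpe.rep.isPullback' x
  apply hom_ext_etale (hpe.rep.snd x) (hpe.property_snd x) (hps.property _ _ _ (hpe.rep.isPullback x))
  rw [← h₁ _ (hpe.rep.snd x) (hpe.rep.fst' x) sq.w, ← h₂ _ (hpe.rep.snd x) (hpe.rep.fst' x) sq.w]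

variable (sqF : IsPullback ((pyon S).map t) ((pyon S).map s) p p)
  (sqX : IsPullback ((yon S).map t) ((yon S).map s) q q)

lemma exists_desc_etale {G : Sp S} {T T' : Over S} (c : T' ⟶ T) (h1 : Etale c.left)
    (h2 : Surjective c.left) (y' : (yon S).obj T' ⟶ G)
    (h : ∀ {Z : Over S} (g₁ g₂ : Z ⟶ T'), g₁ ≫ c = g₂ ≫ c →
      (yon S).map g₁ ≫ y' = (yon S).map g₂ ≫ y') :
    ∃ y : (yon S).obj T ⟶ G, (yon S).map c ≫ y = y' := by
  haveI := h1
  haveI := h2
  exact Groth.Agent.H3.RepDesc.exists_desc_fppf c y' h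

/-- the common step: a point of `X` which is compatible on one étale cover is compatible. -/
lemma compat_of_cover {T A : Over S} {x : (pyon S).obj T ⟶ F} {y : (yon S).obj T ⟶ X}
    (a : A ⟶ T) (ha : Etale a.left) (has : Surjective a.left) (b₀ : A ⟶ U)
    (hx : (pyon S).map b₀ ≫ p = (pyon S).map a ≫ x)
    (hy : (yon S).map b₀ ≫ q = (yon S).map a ≫ y)
    (sqF : IsPullback ((pyon S).map t) ((pyon S).map s) p p)
    (sqX : IsPullback ((yon S).map t) ((yon S).map s) q q) : Compat p q x y := by
  intro T' g b hb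
  obtain ⟨he, hs⟩ := etale_surjective_fst g a ha has
  apply hom_ext_etale (pullback.fst g a) he hs
  have h1 : (pyon S).map (pullback.fst g a ≫ b) ≫ p =
      (pyon S).map (pullback.snd g a ≫ b₀) ≫ p := by
    rw [Functor.map_comp, Functor.map_comp, Category.assoc, Category.assoc, hb, hx,
      ← Category.assoc, ← Category.assoc, ← Functor.map_comp, ← Functor.map_comp,
      pullback.condition]
  have h2 := (p_eq_iff_q_eq sqF sqX _ _).1 h1
  rw [Functor.map_comp, Functor.map_comp, Category.assoc, Category.assoc, hy] at h2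
  rw [h2, ← Category.assoc, ← Category.assoc, ← Functor.map_comp, ← Functor.map_comp,
    pullback.condition]

include hpe hps sqF sqX in
/-- existence of the compatible point. -/
lemma exists_compat {T : Over S} (x : (pyon S).obj T ⟶ F) :
    ∃ y : (yon S).obj T ⟶ X, Compat p q x y := by
  have sq := hpe.rep.isPullback' x
  have ha : Etale (hpe.rep.snd x).left := hpe.property_snd x
  have has : Surjective (hpe.rep.snd x).left := hps.property _ _ _ (hpe.rep.isPullback x)
  obtain ⟨y, hy⟩ := exists_desc_etale (hpe.rep.snd x) ha has ((yon S).map (hpe.rep.fst' x) ≫ q)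
    (by
      intro Z g₁ g₂ hg
      rw [← Category.assoc, ← Category.assoc, ← Functor.map_comp, ← Functor.map_comp]
      apply (p_eq_iff_q_eq sqF sqX _ _).1
      rw [Functor.map_comp, Functor.map_comp, Category.assoc, Category.assoc, sq.w,
        ← Category.assoc, ← Category.assoc, ← Functor.map_comp, ← Functor.map_comp, hg])
  exact ⟨y, compat_of_cover (hpe.rep.snd x) ha has (hpe.rep.fst' x) sq.w hy.symm sqF sqX⟩

include hpe hps sqF sqX in
/-- injectivity: two points of `F` compatible with the same point of `X` are equal. -/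
lemma eq_of_compat (hF : Presheaf.IsSheaf (QuotSh.J Scheme.etalePrecoverage S) F) {T : Over S}
    {x₁ x₂ : (pyon S).obj T ⟶ F} {y : (yon S).obj T ⟶ X} (h₁ : Compat p q x₁ y)
    (h₂ : Compat p q x₂ y) : x₁ = x₂ := by
  have sq₁ := hpe.rep.isPullback' x₁
  have sq₂ := hpe.rep.isPullback' x₂
  have ha₁ : Etale (hpe.rep.snd x₁).left := hpe.property_snd x₁
  have has₁ : Surjective (hpe.rep.snd x₁).left := hps.property _ _ _ (hpe.rep.isPullback x₁)
  have ha₂ : Etale (hpe.rep.snd x₂).left := hpe.property_snd x₂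
  have has₂ : Surjective (hpe.rep.snd x₂).left := hps.property _ _ _ (hpe.rep.isPullback x₂)
  obtain ⟨he, hs⟩ := etale_surjective_fst (hpe.rep.snd x₁) (hpe.rep.snd x₂) ha₂ has₂
  -- the common refinement `c`
  have hce : Etale (pullback.fst (hpe.rep.snd x₁) (hpe.rep.snd x₂) ≫ hpe.rep.snd x₁).left := by
    rw [Over.comp_left]
    haveI := he
    haveI := ha₁
    infer_instance
  have hcs : Surjective (pullback.fst (hpe.rep.snd x₁) (hpe.rep.snd x₂) ≫ hpe.rep.snd x₁).left := by
    rw [Over.comp_left]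
    haveI := hs
    haveI := has₁
    infer_instance
  apply hom_ext_of_singleton hF _ (generate_singleton_mem_Jet _ hce hcs)
  have e₁ : (pyon S).map (pullback.fst (hpe.rep.snd x₁) (hpe.rep.snd x₂) ≫ hpe.rep.fst' x₁) ≫ p =
      (pyon S).map (pullback.fst (hpe.rep.snd x₁) (hpe.rep.snd x₂) ≫ hpe.rep.snd x₁) ≫ x₁ := by
    rw [Functor.map_comp, Functor.map_comp, Category.assoc, Category.assoc, sq₁.w]
  have e₂ : (pyon S).map (pullback.snd (hpe.rep.snd x₁) (hpe.rep.snd x₂) ≫ hpe.rep.fst' x₂) ≫ p =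
      (pyon S).map (pullback.fst (hpe.rep.snd x₁) (hpe.rep.snd x₂) ≫ hpe.rep.snd x₁) ≫ x₂ := by
    rw [pullback.condition, Functor.map_comp, Functor.map_comp, Category.assoc, Category.assoc,
      sq₂.w]
  rw [← e₁, ← e₂]
  apply (p_eq_iff_q_eq sqF sqX _ _).2
  rw [h₁ _ _ _ e₁, h₂ _ _ _ e₂]

include sqF sqX in
/-- surjectivity: every point of `X` is compatible with a point of `F`. -/
lemma exists_compat' (hF : Presheaf.IsSheaf (QuotSh.J Scheme.etalePrecoverage S) F)
    (hqe : RepWith @Etale q) (hqs : RepWith @Surjective q) {T : Over S}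
    (y : (yon S).obj T ⟶ X) : ∃ x : (pyon S).obj T ⟶ F, Compat p q x y := by
  have sq := hqe.rep.isPullback' y
  have ha : Etale (hqe.rep.snd y).left := hqe.property_snd y
  have has : Surjective (hqe.rep.snd y).left := hqs.property _ _ _ (hqe.rep.isPullback y)
  obtain ⟨x, hx⟩ := exists_desc_of_singleton hF (hqe.rep.snd y)
    (generate_singleton_mem_Jet _ ha has) ((pyon S).map (hqe.rep.fst' y) ≫ p) (by
      intro Z g₁ g₂ hg
      rw [← Category.assoc, ← Category.assoc, ← Functor.map_comp, ← Functor.map_comp]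
      apply (p_eq_iff_q_eq sqF sqX _ _).2
      rw [Functor.map_comp, Functor.map_comp, Category.assoc, Category.assoc, sq.w,
        ← Category.assoc, ← Category.assoc, ← Functor.map_comp, ← Functor.map_comp, hg])
  exact ⟨x, compat_of_cover (hqe.rep.snd y) ha has (hqe.rep.fst' y) hx.symm sq.w sqF sqX⟩

include hpe hps sqF sqX in
/-- the presheaf `F` is isomorphic to the underlying presheaf of `X`. -/
theorem nonempty_iso (hF : Presheaf.IsSheaf (QuotSh.J Scheme.etalePrecoverage S) F)
    (hqe : RepWith @Etale q) (hqs : RepWith @Surjective q) : Nonempty (F ≅ X.obj) := by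
  choose Y hY using fun (T : Over S) (x : (pyon S).obj T ⟶ F) =>
    exists_compat (q := q) hpe hps sqF sqX x
  have hnat : ∀ {T T' : Over S} (g : T' ⟶ T) (x : (pyon S).obj T ⟶ F),
      Y T' ((pyon S).map g ≫ x) = (yon S).map g ≫ Y T x := fun g x =>
    Compat.unique hpe hps (hY _ _) ((hY _ x).map g)
  let φ : F ⟶ X.obj :=
    { app := fun T => ↾(fun ξ => yEquiv X T.unop (Y T.unop (uliftYonedaEquiv.symm ξ)))
      naturality := by
        rintro ⟨T₁⟩ ⟨T₂⟩ ⟨g⟩
        ext ξ
        simp only [types_comp_apply, TypeCat.ofHom_apply]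
        have h1 : uliftYonedaEquiv.symm (F.map (Quiver.Hom.op g) ξ) =
            (pyon S).map g ≫ uliftYonedaEquiv.symm ξ := uliftYonedaEquiv_symm_map _ ξ
        have h2 := Groth.Agent.H3.DescSh.yEquiv_map g (Y T₁ (uliftYonedaEquiv.symm ξ))
        change yEquiv X T₂ (Y T₂ (uliftYonedaEquiv.symm (F.map (Quiver.Hom.op g) ξ))) =
          X.obj.map g.op (yEquiv X T₁ (Y T₁ (uliftYonedaEquiv.symm ξ)))
        rw [h1, hnat, h2] }
  have hbij : ∀ T : (Over S)ᵒᵖ, Function.Bijective (φ.app T) := by
    rintro ⟨T⟩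
    constructor
    · intro ξ₁ ξ₂ h
      have h' : Y T (uliftYonedaEquiv.symm ξ₁) = Y T (uliftYonedaEquiv.symm ξ₂) :=
        (yEquiv X T).injective h
      have h3 := hY T (uliftYonedaEquiv.symm ξ₂)
      rw [← h'] at h3
      exact uliftYonedaEquiv.symm.injective
        (eq_of_compat hpe hps sqF sqX hF (hY T (uliftYonedaEquiv.symm ξ₁)) h3)
    · intro η
      obtain ⟨x, hx⟩ := exists_compat' (p := p) sqF sqX hF hqe hqs ((yEquiv X T).symm η)
      refine ⟨uliftYonedaEquiv x, ?_⟩
      change yEquiv X T (Y T (uliftYonedaEquiv.symm (uliftYonedaEquiv x))) = η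
      rw [Equiv.symm_apply_apply, Compat.unique hpe hps (hY T x) hx, Equiv.apply_symm_apply]
  haveI : ∀ T, IsIso (φ.app T) := fun T => (isIso_iff_bijective _).2 (hbij T)
  haveI : IsIso φ := NatIso.isIso_of_isIso_app φ
  exact ⟨asIso φ⟩

end Main

/-- the relation defined by a representable étale atlas of a presheaf is an étale equivalence
relation. -/
theorem isEtaleEqvRel_of_isPullback_presheaf {F : PSp S} {U R : Over S}
    {p : (pyon S).obj U ⟶ F} {s t : R ⟶ U}
    (hpe : (MorphismProperty.inverseImage @Etale (Over.forget S)).relative (pyon S) p)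
    (sqF : IsPullback ((pyon S).map t) ((pyon S).map s) p p) : IsEtaleEqvRel s t := by
  have hrel : ∀ {T : Over S} (a b : T ⟶ U),
      (∃ r : T ⟶ R, r ≫ t = a ∧ r ≫ s = b) ↔ (pyon S).map a ≫ p = (pyon S).map b ≫ p := by
    intro T a b
    constructor
    · rintro ⟨r, rfl, rfl⟩
      rw [Functor.map_comp, Functor.map_comp, Category.assoc, Category.assoc, sqF.w]
    · exact exists_of_isPullback_map (pyon S) sqF a b
  refine ⟨⟨?_, ?_⟩, hpe.property _ _ _ sqF, hpe.property _ _ _ sqF.flip⟩
  · intro T r r' h1 h2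
    apply (pyon S).map_injective
    apply sqF.hom_ext
    · rw [← Functor.map_comp, ← Functor.map_comp, h1]
    · rw [← Functor.map_comp, ← Functor.map_comp, h2]
  · intro T
    refine ⟨fun a => (hrel a a).2 rfl, fun {a b} h => (hrel b a).2 ((hrel a b).1 h).symm,
      fun {a b c} h₁ h₂ => (hrel a c).2 (((hrel a b).1 h₁).trans ((hrel b c).1 h₂))⟩

theorem S10108_main (S : Scheme.{u}) (F : AlgSp.PSp S)
    (h1 : Presheaf.IsSheaf (QuotSh.J Scheme.etalePrecoverage S) F)
    (U : Over S) (p : (AlgSp.pyon S).obj U ⟶ F)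
    (h3 : (MorphismProperty.inverseImage @Etale (Over.forget S)).relative (AlgSp.pyon S) p ∧
      (MorphismProperty.inverseImage @Surjective (Over.forget S)).relative (AlgSp.pyon S) p) :
    AlgSp.IsAlgSpaceP F := by
  obtain ⟨hpe, hps⟩ := h3
  have sqF : IsPullback ((pyon S).map (hpe.rep.fst' p)) ((pyon S).map (hpe.rep.snd p)) p p :=
    hpe.rep.isPullback' p
  have heq : IsEtaleEqvRel (hpe.rep.snd p) (hpe.rep.fst' p) :=
    isEtaleEqvRel_of_isPullback_presheaf hpe sqF
  have hpres := isPresentation_quotSpπ _ _ heq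
  obtain ⟨e⟩ := nonempty_iso hpe hps sqF hpres.isPullback h1 hpres.etale hpres.surjective
  exact ((isAlgSpaceP_obj_iff _).2 (isAlgSpace_quotSp _ _ heq)).of_iso e.symm

end Groth.Agent.H7.EtSp
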