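import Groth.Agent.Lib.Helper7.QFin12
import Groth.Agent.Lib.Helper7.ClImm5
import Mathlib

/-!
# Unramified monomorphisms of algebraic spaces (S10613)
-/

set_option autoImplicit false
universe u

open AlgebraicGeometry CategoryTheory Limits

namespace Groth.Agent.H7.QFinSp

open _root_.AlgSp Groth.Agent.H5.AlgSp Groth.Agent.H5.EtSrc Groth.Agent.H5.Descent
open Groth.Agent.H7.QFin Groth.Agent.H7.ClImmSp

variable {S : Scheme.{u}}

theorem isFormallyUnramifiedMor_of_mono {X Y : Sp S} (f : X ⟶ Y) [Mono f] :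
    IsFormallyUnramifiedMor f := by
  intro sq l l' _ h2 _ h4
  exact (cancel_mono f).1 (h2.trans h4.symm)

theorem unr_le_lqf_lft :
    (@LocallyOfFiniteType ⊓ @FormallyUnramified : MorphismProperty Scheme.{u}) ≤
      (@LocallyQuasiFinite ⊓ @LocallyOfFiniteType : MorphismProperty Scheme.{u}) := by
  intro _ _ g hg
  have h1 : LocallyOfFiniteType g := hg.1
  have h2 : FormallyUnramified g := hg.2
  exact ⟨locallyQuasiFinite_of_unramified' g, h1⟩

theorem S10613_main {X Y : AlgSp.Space S} (f : X ⟶ Y) :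
    ((AlgSp.LocP (@LocallyOfFiniteType ⊓ @FormallyUnramified) f.hom ∧ Mono f.hom) ↔
      (AlgSp.LocP (@LocallyOfFiniteType ⊓ @FormallyUnramified) f.hom ∧ AlgSp.IsUnivInjectiveMor f.hom)) ∧
    ((AlgSp.LocP (@LocallyOfFiniteType ⊓ @FormallyUnramified) f.hom ∧ Mono f.hom) ↔
      (AlgSp.LocP @LocallyOfFiniteType f.hom ∧ Mono f.hom)) ∧
    ((AlgSp.LocP (@LocallyOfFiniteType ⊓ @FormallyUnramified) f.hom ∧ Mono f.hom) ↔
      (AlgSp.IsUnivInjectiveMor f.hom ∧ AlgSp.LocP @LocallyOfFiniteType f.hom ∧ AlgSp.IsFormallyUnramifiedMor f.hom)) ∧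
    (AlgSp.LocP @LocallyOfFiniteType f.hom ∧ Mono f.hom →
      AlgSp.Representable f.hom ∧ AlgSp.IsSeparatedMor f.hom ∧
        AlgSp.LocP (@LocallyQuasiFinite ⊓ @LocallyOfFiniteType) f.hom) := by
  have hfu := (Groth.Agent.H7.FOSp7.S10621_main f).1
  have lft_of : AlgSp.LocP (@LocallyOfFiniteType ⊓ @FormallyUnramified) f.hom →
      AlgSp.LocP @LocallyOfFiniteType f.hom := fun h U V a b k ha hb comm => (h a b k ha hb comm).1
  have fu_of : AlgSp.LocP (@LocallyOfFiniteType ⊓ @FormallyUnramified) f.hom →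
      AlgSp.LocP @FormallyUnramified f.hom := fun h U V a b k ha hb comm => (h a b k ha hb comm).2
  have unr_of : AlgSp.LocP @LocallyOfFiniteType f.hom → AlgSp.IsFormallyUnramifiedMor f.hom →
      AlgSp.LocP (@LocallyOfFiniteType ⊓ @FormallyUnramified) f.hom :=
    fun h3 h4 U V a b k ha hb comm => ⟨h3 a b k ha hb comm, hfu.1 h4 a b k ha hb comm⟩
  have unr_of_mono : AlgSp.LocP @LocallyOfFiniteType f.hom → Mono f.hom →
      AlgSp.LocP (@LocallyOfFiniteType ⊓ @FormallyUnramified) f.hom :=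
    fun h3 hm => unr_of h3 (isFormallyUnramifiedMor_of_mono f.hom)
  refine ⟨⟨fun h => ?_, fun h => ?_⟩, ⟨fun h => ?_, fun h => ?_⟩, ⟨fun h => ?_, fun h => ?_⟩,
    fun h => ?_⟩
  · have := h.2
    exact ⟨h.1, isUnivInjectiveMor_of_mono f.hom⟩
  · exact ⟨h.1, mono_of_unr_univInj X.property Y.property f.hom h.1 h.2⟩
  · exact ⟨lft_of h.1, h.2⟩
  · exact ⟨unr_of_mono h.1 h.2, h.2⟩
  · have := h.2
    exact ⟨isUnivInjectiveMor_of_mono f.hom, lft_of h.1, hfu.2 (fu_of h.1)⟩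
  · have hunr := unr_of h.2.1 h.2.2
    exact ⟨hunr, mono_of_unr_univInj X.property Y.property f.hom hunr h.1⟩
  · have hm := h.2
    have hunr := unr_of_mono h.1 h.2
    have hl : AlgSp.LocP (@LocallyQuasiFinite ⊓ @LocallyOfFiniteType) f.hom :=
      locP_mono unr_le_lqf_lft hunr
    have hsep : AlgSp.IsSeparatedMor f.hom := isSeparatedMor_of_mono f.hom
    exact ⟨representable_of_sepLQF X.property Y.property f.hom hsep hl, hsep, hl⟩

end Groth.Agent.H7.QFinSp
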