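import Groth.Agent.Lib.Helper7.RepLqf2
import Groth.Agent.Lib.Helper7.QFin13
import Groth.Agent.Lib.Helper7.CartSq1
import Groth.Agent.Lib.Helper5.AlgSp.EtaleQuot
import Mathlib

set_option autoImplicit false
universe u

open AlgebraicGeometry CategoryTheory Limits

namespace Groth.Agent.H7.RepLqf

open _root_.AlgSp Groth.Agent.H5.AlgSp Groth.Agent.H5.EtSrc Groth.Agent.H5.Descent
open Groth.Agent.H7.QFin Groth.Agent.H7.QFinSp

variable {S : Scheme.{u}}

/-- an algebraic space with a jointly monic pair of maps to schemes, the second locally of finite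
type, is a scheme. -/
theorem exists_iso_of_jointly_mono_lft {W : Sp S} (hW : IsAlgSpace W) {X T : Over S}
    (a : W ⟶ (yon S).obj X) (b : W ⟶ (yon S).obj T)
    (hmono : ∀ {Z : Sp S} (x y : Z ⟶ W), x ≫ a = y ≫ a → x ≫ b = y ≫ b → x = y)
    (hl : LocP @LocallyOfFiniteType b) :
    ∃ Z : Over S, Nonempty ((yon S).obj Z ≅ W) := by
  let m : W ⟶ (yon S).obj (X ⨯ T) := prod.lift a b ≫ (PreservesLimitPair.iso (yon S) X T).inv
  have hm1 : m ≫ (yon S).map prod.fst = a := by
    simp only [m, Category.assoc, PreservesLimitPair.iso_inv_fst, prod.lift_fst]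
  have hm2 : m ≫ (yon S).map prod.snd = b := by
    simp only [m, Category.assoc, PreservesLimitPair.iso_inv_snd, prod.lift_snd]
  haveI : Mono m := ⟨fun x y hxy => hmono x y
    (by rw [← hm1, ← Category.assoc, hxy, Category.assoc])
    (by rw [← hm2, ← Category.assoc, hxy, Category.assoc])⟩
  have hl' : LocP @LocallyOfFiniteType m := by
    refine locP_of_comp (Pc := ⊤) (fun _ _ f hf => by
        have : Etale f := hf
        exact (inferInstance : LocallyOfFiniteType f))
      (fun u v h _ => by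
        have : LocallyOfFiniteType (u ≫ v) := h
        exact locallyOfFiniteType_of_comp u v)
      (g := (yon S).map prod.snd) (IsAlgSpace.yon_obj T) (by rw [hm2]; exact hl) ?_
    exact (locP_yon_map_iff (P := ⊤) le_top _).2 trivial
  let X' : AlgSp.Space S := ⟨W, hW⟩
  let Y' : AlgSp.Space S := ⟨(yon S).obj (X ⨯ T), IsAlgSpace.yon_obj _⟩
  let f' : X' ⟶ Y' := ObjectProperty.homMk m
  have hmm : Mono f'.hom := (inferInstance : Mono m)
  obtain ⟨-, hsep, hlq⟩ := (S10613_main f').2.2.2 ⟨hl', hmm⟩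
  exact exists_iso_of_sepLQF hW m hsep hlq

/-- The kernel pair of a chart `h_U ⟶ X ⟶ F`, for `X ⟶ F` representable by algebraic spaces with
base changes having a property `P` contained in "locally of finite type", is a scheme, with both
projections in `P`. -/
theorem exists_kernelPair_scheme {P : MorphismProperty Scheme.{u}} [P.IsStableUnderBaseChange]
    [P.IsStableUnderComposition] [IsEtaleLocalSource P]
    (hP : (@Etale : MorphismProperty Scheme.{u}) ≤ P) (hP' : P ≤ @LocallyOfFiniteType)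
    {X F : Sp S} (hX : IsAlgSpace X) (p : X ⟶ F)
    (hp : ∀ ⦃U : Over S⦄ (ξ : (yon S).obj U ⟶ F) ⦃F' : Sp S⦄ (fst : F' ⟶ X)
      (snd : F' ⟶ (yon S).obj U), IsPullback fst snd p ξ → IsAlgSpace F' ∧ LocP P snd)
    {U : Over S} (a : (yon S).obj U ⟶ X) (hae : RepWith @Etale a) :
    ∃ (R : Over S) (t s : R ⟶ U),
      IsPullback ((yon S).map t) ((yon S).map s) (a ≫ p) (a ≫ p) ∧ P t.left ∧ P s.left := by
  have sq1 := IsPullback.of_hasPullback p (a ≫ p)
  obtain ⟨hXU, hl1⟩ := hp (a ≫ p) _ _ sq1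
  have sq2 := IsPullback.of_hasPullback a (pullback.fst p (a ≫ p))
  have hR' : IsAlgSpace (pullback a (pullback.fst p (a ≫ p))) :=
    isAlgSpace_pullback hX.diag (IsAlgSpace.yon_obj U) hXU sq2
  have hsnd2 : RepWith @Etale (pullback.snd a (pullback.fst p (a ≫ p))) :=
    MorphismProperty.of_isPullback sq2 hae
  have sqR := sq2.paste_vert sq1
  have hs : LocP P (pullback.snd a (pullback.fst p (a ≫ p)) ≫ pullback.snd p (a ≫ p)) :=
    locP_comp_etale hsnd2 hl1
  -- the swap
  let σ := sqR.lift _ _ sqR.w.symm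
  have hσ1 : σ ≫ pullback.fst a (pullback.fst p (a ≫ p)) =
      pullback.snd a (pullback.fst p (a ≫ p)) ≫ pullback.snd p (a ≫ p) := sqR.lift_fst _ _ _
  have hσ2 : σ ≫ pullback.snd a (pullback.fst p (a ≫ p)) ≫ pullback.snd p (a ≫ p) =
      pullback.fst a (pullback.fst p (a ≫ p)) := sqR.lift_snd _ _ _
  have hσσ : σ ≫ σ = 𝟙 _ := by
    apply sqR.hom_ext
    · rw [Category.assoc, hσ1, hσ2, Category.id_comp]
    · rw [Category.assoc, hσ2, hσ1, Category.id_comp]
  haveI : IsIso σ := ⟨σ, hσσ, hσσ⟩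
  have ht : LocP P (pullback.fst a (pullback.fst p (a ≫ p))) := by
    rw [← hσ2]
    exact locP_comp_etale (repWith_of_isIso σ) hs
  obtain ⟨Z, ⟨e⟩⟩ := exists_iso_of_jointly_mono_lft hR'
    (pullback.fst a (pullback.fst p (a ≫ p)))
    (pullback.snd a (pullback.fst p (a ≫ p)) ≫ pullback.snd p (a ≫ p))
    (fun x y h1 h2 => sqR.hom_ext h1 h2) (locP_mono hP' hs)
  obtain ⟨t', ht'⟩ := (yon S).map_surjective (e.hom ≫ pullback.fst a (pullback.fst p (a ≫ p)))
  obtain ⟨s', hs'⟩ := (yon S).map_surjective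
    (e.hom ≫ pullback.snd a (pullback.fst p (a ≫ p)) ≫ pullback.snd p (a ≫ p))
  refine ⟨Z, t', s', ?_, ?_, ?_⟩
  · have sq' : IsPullback e.hom ((yon S).map s')
        (pullback.snd a (pullback.fst p (a ≫ p)) ≫ pullback.snd p (a ≫ p)) (𝟙 _) :=
      IsPullback.of_horiz_isIso ⟨by rw [hs', Category.comp_id]⟩
    have := sq'.paste_horiz sqR
    rwa [Category.id_comp, ← ht'] at this
  · refine (locP_yon_map_iff hP t').1 ?_
    rw [ht']
    exact locP_comp_etale (repWith_of_isIso e.hom) ht
  · refine (locP_yon_map_iff hP s').1 ?_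
    rw [hs']
    exact locP_comp_etale (repWith_of_isIso e.hom) hs

theorem S10099_main (F : AlgSp.Sp S) (X : AlgSp.Space S)
    (p : X.obj ⟶ F) (hp : AlgSp.RepBySpWith (AlgSp.IsSurjectiveMor ⊓ AlgSp.LocP @Flat ⊓ AlgSp.LocP @LocallyOfFinitePresentation) p.hom) :
    AlgSp.Representable (Limits.diag F) := by
  haveI : Sheaf.IsLocallySurjective p := epi_of_repBySpWith_fppf p hp
  rw [repBySpWith_hom_iff] at hp
  obtain ⟨U, a, hae, has⟩ := X.property.atlas
  haveI : Sheaf.IsLocallySurjective a := isLocallySurjective_of_etale_surjective a hae has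
  obtain ⟨R, t, s, sq, ht, -⟩ := exists_kernelPair_scheme (P := @LocallyOfFinitePresentation)
    etale_le_lfp (fun _ _ f hf => by
      have : LocallyOfFinitePresentation f := hf
      exact (inferInstance : LocallyOfFiniteType f)) X.property p
    (fun U ξ F' fst snd sq => ⟨(hp ξ fst snd sq).1, (hp ξ fst snd sq).2.2⟩) a hae
  have : LocallyOfFinitePresentation t.left := ht
  exact representable_diag_of_chart (a ≫ p) s t sq inferInstance

/-- local surjectivity can be checked on base changes to schemes. -/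
theorem isLocallySurjective_of_forall_pullback {F G : Sp S} (f : F ⟶ G)
    (h : ∀ ⦃T : Over S⦄ (ξ : (yon S).obj T ⟶ G),
      Sheaf.IsLocallySurjective (pullback.snd f ξ)) : Sheaf.IsLocallySurjective f := by
  apply isLocallySurjective_of_liftSieve
  intro T ξ
  haveI := h ξ
  refine (J S).superset_covering ?_ (liftSieve_mem (pullback.snd f ξ) (𝟙 _))
  rintro T' g ⟨τ, hτ⟩
  refine ⟨τ ≫ pullback.fst f ξ, ?_⟩
  rw [Category.assoc, pullback.condition, ← Category.assoc, hτ, Category.assoc, Category.id_comp]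

theorem S10101_main (F : AlgSp.Sp S) (X : AlgSp.Space S)
    (p : X.obj ⟶ F) (hp : AlgSp.RepBySpWith (AlgSp.IsSurjectiveMor ⊓ AlgSp.IsEtaleMor) p.hom) :
    AlgSp.IsAlgSpace F := by
  rw [repBySpWith_hom_iff] at hp
  haveI : Sheaf.IsLocallySurjective p := by
    apply isLocallySurjective_of_forall_pullback
    intro T ξ
    obtain ⟨hA, hs, he⟩ := hp ξ _ _ (IsPullback.of_hasPullback p ξ)
    exact Groth.Agent.H7.CartSq.isLocallySurjective_of_isEtaleMor hA _ hs he
  obtain ⟨U, a, hae, has⟩ := X.property.atlas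
  haveI : Sheaf.IsLocallySurjective a := isLocallySurjective_of_etale_surjective a hae has
  obtain ⟨R, t, s, sq, ht, hs⟩ := exists_kernelPair_scheme (P := @Etale)
    le_rfl (fun _ _ f hf => by
      have : Etale f := hf
      exact (inferInstance : LocallyOfFiniteType f)) X.property p
    (fun U ξ F' fst snd sq => ⟨(hp ξ fst snd sq).1,
      locP_etale_of_isEtaleMor (hp ξ fst snd sq).2.2⟩) a hae
  exact isAlgSpace_of_isPullback (a ≫ p) s t sq hs ht

end Groth.Agent.H7.RepLqf
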