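import Groth.Agent.Lib.Helper7.EtSp1
import Groth.Agent.Lib.Helper7.RepLqf3
import Mathlib

/-!
# S10109: a presheaf, étale sheaf, with a surjective étale cover (representable by algebraic spaces)
by an algebraic space is an algebraic space
-/

set_option autoImplicit false
universe u

open AlgebraicGeometry CategoryTheory Limits Opposite

namespace Groth.Agent.H7.EtSp2

open _root_.AlgSp Groth.Agent.H5.AlgSp Groth.Agent.H7.EtSp Groth.Agent.H7.RepLqf

variable {S : Scheme.{u}}

/-- étale local lifting of generalized points along `p`. -/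
def LL {F : PSp S} {U : Over S} (p : (pyon S).obj U ⟶ F) : Prop :=
  ∀ (T : Over S) (x : (pyon S).obj T ⟶ F), ∃ (A : Over S) (c : A ⟶ T) (b : A ⟶ U),
    Etale c.left ∧ Surjective c.left ∧ (pyon S).map b ≫ p = (pyon S).map c ≫ x

section Main

variable {F : PSp S} {U R : Over S} {p : (pyon S).obj U ⟶ F} {s t : R ⟶ U}
  {X : Sp S} {q : (yon S).obj U ⟶ X}

lemma compat_unique (hp : LL p) {T : Over S} {x : (pyon S).obj T ⟶ F}
    {y₁ y₂ : (yon S).obj T ⟶ X} (h₁ : Compat p q x y₁) (h₂ : Compat p q x y₂) : y₁ = y₂ := by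
  obtain ⟨A, c, b, hce, hcs, hcb⟩ := hp T x
  apply hom_ext_etale c hce hcs
  rw [← h₁ _ c b hcb, ← h₂ _ c b hcb]

lemma exists_compat_LL (hp : LL p)
    (sqF : IsPullback ((pyon S).map t) ((pyon S).map s) p p)
    (sqX : IsPullback ((yon S).map t) ((yon S).map s) q q) {T : Over S}
    (x : (pyon S).obj T ⟶ F) : ∃ y : (yon S).obj T ⟶ X, Compat p q x y := by
  obtain ⟨A, c, b, hce, hcs, hcb⟩ := hp T x
  obtain ⟨y, hy⟩ := exists_desc_etale c hce hcs ((yon S).map b ≫ q)
    (by
      intro Z g₁ g₂ hg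
      rw [← Category.assoc, ← Category.assoc, ← Functor.map_comp, ← Functor.map_comp]
      apply (p_eq_iff_q_eq sqF sqX _ _).1
      rw [Functor.map_comp, Functor.map_comp, Category.assoc, Category.assoc, hcb,
        ← Category.assoc, ← Category.assoc, ← Functor.map_comp, ← Functor.map_comp, hg])
  exact ⟨y, compat_of_cover c hce hcs b hcb hy.symm sqF sqX⟩

lemma eq_of_compat_LL (hp : LL p)
    (sqF : IsPullback ((pyon S).map t) ((pyon S).map s) p p)
    (sqX : IsPullback ((yon S).map t) ((yon S).map s) q q)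
    (hF : Presheaf.IsSheaf (QuotSh.J Scheme.etalePrecoverage S) F) {T : Over S}
    {x₁ x₂ : (pyon S).obj T ⟶ F} {y : (yon S).obj T ⟶ X} (h₁ : Compat p q x₁ y)
    (h₂ : Compat p q x₂ y) : x₁ = x₂ := by
  obtain ⟨A₁, c₁, b₁, hce₁, hcs₁, hcb₁⟩ := hp T x₁
  obtain ⟨A₂, c₂, b₂, hce₂, hcs₂, hcb₂⟩ := hp T x₂
  obtain ⟨he, hs⟩ := etale_surjective_fst c₁ c₂ hce₂ hcs₂
  have hce : Etale (pullback.fst c₁ c₂ ≫ c₁).left := by
    rw [Over.comp_left]
    haveI := he
    haveI := hce₁
    infer_instance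
  have hcs : Surjective (pullback.fst c₁ c₂ ≫ c₁).left := by
    rw [Over.comp_left]
    haveI := hs
    haveI := hcs₁
    infer_instance
  apply hom_ext_of_singleton hF _ (generate_singleton_mem_Jet _ hce hcs)
  have e₁ : (pyon S).map (pullback.fst c₁ c₂ ≫ b₁) ≫ p =
      (pyon S).map (pullback.fst c₁ c₂ ≫ c₁) ≫ x₁ := by
    rw [Functor.map_comp, Functor.map_comp, Category.assoc, Category.assoc, hcb₁]
  have e₂ : (pyon S).map (pullback.snd c₁ c₂ ≫ b₂) ≫ p =
      (pyon S).map (pullback.fst c₁ c₂ ≫ c₁) ≫ x₂ := by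
    rw [pullback.condition, Functor.map_comp, Functor.map_comp, Category.assoc, Category.assoc,
      hcb₂]
  rw [← e₁, ← e₂]
  apply (p_eq_iff_q_eq sqF sqX _ _).2
  rw [h₁ _ _ _ e₁, h₂ _ _ _ e₂]

/-- the presheaf `F` is isomorphic to the underlying presheaf of `X`. -/
theorem nonempty_iso_LL (hp : LL p)
    (sqF : IsPullback ((pyon S).map t) ((pyon S).map s) p p)
    (sqX : IsPullback ((yon S).map t) ((yon S).map s) q q)
    (hF : Presheaf.IsSheaf (QuotSh.J Scheme.etalePrecoverage S) F)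
    (hqe : RepWith @Etale q) (hqs : RepWith @Surjective q) : Nonempty (F ≅ X.obj) := by
  choose Y hY using fun (T : Over S) (x : (pyon S).obj T ⟶ F) =>
    exists_compat_LL (q := q) hp sqF sqX x
  have hnat : ∀ {T T' : Over S} (g : T' ⟶ T) (x : (pyon S).obj T ⟶ F),
      Y T' ((pyon S).map g ≫ x) = (yon S).map g ≫ Y T x := fun g x =>
    compat_unique hp (hY _ _) ((hY _ x).map g)
  let φ : F ⟶ X.obj :=
    { app := fun T => ↾(fun ξ => yEquiv X T.unop (Y T.unop (uliftYonedaEquiv.symm ξ)))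
      naturality := by
        rintro ⟨T₁⟩ ⟨T₂⟩ ⟨g⟩
        ext ξ
        simp only [types_comp_apply, TypeCat.ofHom_apply]
        have h1 : uliftYonedaEquiv.symm (F.map (Quiver.Hom.op g) ξ) =
            (pyon S).map g ≫ uliftYonedaEquiv.symm ξ := uliftYonedaEquiv_symm_map _ ξ
        have h2 := Groth.Agent.H3.DescSh.yEquiv_map g (Y T₁ (uliftYonedaEquiv.symm ξ))
        change yEquiv X T₂ (Y T₂ (uliftYonedaEquiv.symm (F.map (Quiver.Hom.op g) ξ))) =
          X.obj.map g.op (yEquiv X T₁ (Y T₁ (uliftYonedaEquiv.symm ξ)))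
        rw [h1, hnat, h2] }
  have hbij : ∀ T : (Over S)ᵒᵖ, Function.Bijective (φ.app T) := by
    rintro ⟨T⟩
    constructor
    · intro ξ₁ ξ₂ h
      have h' : Y T (uliftYonedaEquiv.symm ξ₁) = Y T (uliftYonedaEquiv.symm ξ₂) :=
        (yEquiv X T).injective h
      have h3 := hY T (uliftYonedaEquiv.symm ξ₂)
      rw [← h'] at h3
      exact uliftYonedaEquiv.symm.injective
        (eq_of_compat_LL hp sqF sqX hF (hY T (uliftYonedaEquiv.symm ξ₁)) h3)
    · intro η
      obtain ⟨x, hx⟩ := exists_compat' (p := p) sqF sqX hF hqe hqs ((yEquiv X T).symm η)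
      refine ⟨uliftYonedaEquiv x, ?_⟩
      change yEquiv X T (Y T (uliftYonedaEquiv.symm (uliftYonedaEquiv x))) = η
      rw [Equiv.symm_apply_apply, compat_unique hp (hY T x) hx, Equiv.apply_symm_apply]
  haveI : ∀ T, IsIso (φ.app T) := fun T => (isIso_iff_bijective _).2 (hbij T)
  haveI : IsIso φ := NatIso.isIso_of_isIso_app φ
  exact ⟨asIso φ⟩

end Main

/-- a kernel pair of schemes with étale projections is an étale equivalence relation. -/
theorem isEtaleEqvRel_of_isPullback_etale {F : PSp S} {U R : Over S}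
    {p : (pyon S).obj U ⟶ F} {s t : R ⟶ U}
    (sqF : IsPullback ((pyon S).map t) ((pyon S).map s) p p)
    (hs : Etale s.left) (ht : Etale t.left) : IsEtaleEqvRel s t := by
  have hrel : ∀ {T : Over S} (a b : T ⟶ U),
      (∃ r : T ⟶ R, r ≫ t = a ∧ r ≫ s = b) ↔ (pyon S).map a ≫ p = (pyon S).map b ≫ p := by
    intro T a b
    constructor
    · rintro ⟨r, rfl, rfl⟩
      rw [Functor.map_comp, Functor.map_comp, Category.assoc, Category.assoc, sqF.w]
    · exact exists_of_isPullback_map (pyon S) sqF a b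
  refine ⟨⟨?_, ?_⟩, hs, ht⟩
  · intro T r r' h1 h2
    apply (pyon S).map_injective
    apply sqF.hom_ext
    · rw [← Functor.map_comp, ← Functor.map_comp, h1]
    · rw [← Functor.map_comp, ← Functor.map_comp, h2]
  · intro T
    refine ⟨fun a => (hrel a a).2 rfl, fun {a b} h => (hrel b a).2 ((hrel a b).1 h).symm,
      fun {a b c} h₁ h₂ => (hrel a c).2 (((hrel a b).1 h₁).trans ((hrel b c).1 h₂))⟩

/-- surjectivity of a scheme chart from surjectivity of the atlas and of the map of spaces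
(helper3's `surjective_of_chart`, copied to avoid a heavy import). -/
lemma surjective_of_chart {G : Sp S} {T U : Over S} (q : (yon S).obj T ⟶ G)
    (b : G ⟶ (yon S).obj U) (c : T ⟶ U) (hc : (yon S).map c = q ≫ b)
    (hq : RepWith @Surjective q) (hb : IsSurjectiveMor b) :
    Function.Surjective c.left := by
  intro u
  obtain ⟨g, hg⟩ := hb (Points.ofScheme U u)
  obtain ⟨t', ht'⟩ := points_map_surjective_of_repWith hq g
  refine ⟨Points.toScheme T t', ?_⟩
  rw [← Points.toScheme_ofPt c (Points.toScheme T t')]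
  have h1 : Points.ofPt ((yon S).map c) (Points.toScheme T t') =
      Points.map ((yon S).map c) (Points.ofScheme T (Points.toScheme T t')) := by
    rw [Points.map_ofPt, Category.id_comp]
  rw [h1, Points.ofScheme_toScheme, hc, Points.map_comp, ht', hg, Points.toScheme_ofScheme]

/-- local lifting for the composite of an atlas of `X` with `p`. -/
theorem LL_of_repBySpWith {X : Sp S} {F : PSp S} (p : X.obj ⟶ F)
    (hp : RepBySpWith (IsSurjectiveMor ⊓ IsEtaleMor) p)
    {U : Over S} (a : (yon S).obj U ⟶ X) (hae : RepWith @Etale a) (has : RepWith @Surjective a) :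
    LL (p := (a.hom ≫ p : (pyon S).obj U ⟶ F)) := by
  intro T x
  have sq1 := IsPullback.of_hasPullback p x
  obtain ⟨hsh, hP, hsurj, het⟩ := hp x _ _ sq1
  let P₁ : Sp S := ⟨pullback p x, hsh⟩
  let f₁ : P₁ ⟶ X := ObjectProperty.homMk (pullback.fst p x)
  let g₁ : P₁ ⟶ (yon S).obj T := ObjectProperty.homMk (pullback.snd p x)
  obtain ⟨A, a', ha'e, ha's⟩ := hP.atlas
  have sqA : IsPullback ((yon S).map (hae.rep.fst' (a' ≫ f₁))) ((yon S).map (hae.rep.snd (a' ≫ f₁)))
      a (a' ≫ f₁) := hae.rep.isPullback' _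
  have hc₁e : Etale (hae.rep.snd (a' ≫ f₁)).left := hae.property_snd _
  have hc₁s : Surjective (hae.rep.snd (a' ≫ f₁)).left :=
    has.property _ _ _ (hae.rep.isPullback _)
  obtain ⟨c₂, hc₂⟩ := (yon S).map_surjective (a' ≫ g₁)
  have hc₂e : Etale c₂.left := by
    have h := het a' ha'e
    change RepWith @Etale (a' ≫ g₁) at h
    rw [← hc₂] at h
    exact (repWith_yon_map_iff _ _).1 h
  have hc₂s : Surjective c₂.left := ⟨surjective_of_chart a' g₁ c₂ hc₂ ha's hsurj⟩
  refine ⟨_, hae.rep.snd (a' ≫ f₁) ≫ c₂, hae.rep.fst' (a' ≫ f₁), ?_, ?_, ?_⟩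
  · rw [Over.comp_left]
    infer_instance
  · rw [Over.comp_left]
    infer_instance
  · have h1 : (pyon S).map (hae.rep.fst' (a' ≫ f₁)) ≫ a.hom =
        (pyon S).map (hae.rep.snd (a' ≫ f₁)) ≫ a'.hom ≫ pullback.fst p x :=
      congrArg (fun k => k.hom) sqA.w
    have h2 : (pyon S).map c₂ = a'.hom ≫ pullback.snd p x := congrArg (fun k => k.hom) hc₂
    rw [← Category.assoc, h1, Functor.map_comp, h2]
    simp only [Category.assoc]
    rw [pullback.condition]
    rfl

/-- precomposing a pullback cone with an isomorphism. -/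
lemma isPullback_precomp_iso {C : Type*} [Category C] {P P' X Y Z : C} {fst : P ⟶ X}
    {snd : P ⟶ Y} {f : X ⟶ Z} {g : Y ⟶ Z} (sq : IsPullback fst snd f g) (e : P' ⟶ P) [IsIso e]
    {fst' : P' ⟶ X} {snd' : P' ⟶ Y} (h1 : fst' = e ≫ fst) (h2 : snd' = e ≫ snd) :
    IsPullback fst' snd' f g := by
  subst h1 h2
  have sq' : IsPullback e (e ≫ snd) snd (𝟙 _) :=
    IsPullback.of_horiz_isIso ⟨by rw [Category.comp_id]⟩
  have := sq'.paste_horiz sq
  rwa [Category.id_comp] at this

/-- The kernel pair of a chart `h_U ⟶ X ⟶ F`, for `X ⟶ F` a map to a presheaf representable by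
algebraic spaces, surjective and étale, is a scheme, with both projections étale. -/
theorem exists_kernelPair_scheme_psh {X : Sp S} {F : PSp S} (hX : IsAlgSpace X) (p : X.obj ⟶ F)
    (hp : RepBySpWith (IsSurjectiveMor ⊓ IsEtaleMor) p)
    {U : Over S} (a : (yon S).obj U ⟶ X) (hae : RepWith @Etale a) :
    ∃ (R : Over S) (t s : R ⟶ U),
      IsPullback ((pyon S).map t) ((pyon S).map s) (a.hom ≫ p) (a.hom ≫ p) ∧
        Etale t.left ∧ Etale s.left := by
  have sq1 := IsPullback.of_hasPullback p (a.hom ≫ p)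
  obtain ⟨hsh, hXU, hsurj, het⟩ := hp (a.hom ≫ p) _ _ sq1
  let P₁ : Sp S := ⟨pullback p (a.hom ≫ p), hsh⟩
  let f₁ : P₁ ⟶ X := ObjectProperty.homMk (pullback.fst p (a.hom ≫ p))
  let g₁ : P₁ ⟶ (yon S).obj U := ObjectProperty.homMk (pullback.snd p (a.hom ≫ p))
  have hl1 : LocP @Etale g₁ := locP_etale_of_isEtaleMor het
  have sq2 := IsPullback.of_hasPullback a f₁
  have hR' : IsAlgSpace (pullback a f₁) :=
    isAlgSpace_pullback hX.diag (IsAlgSpace.yon_obj U) hXU sq2
  have hsnd2 : RepWith @Etale (pullback.snd a f₁) := MorphismProperty.of_isPullback sq2 hae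
  have sqR : IsPullback (pullback.fst a f₁).hom
      ((pullback.snd a f₁).hom ≫ pullback.snd p (a.hom ≫ p)) (a.hom ≫ p) (a.hom ≫ p) :=
    (sq2.map (sheafToPresheaf (J S) (Type (u + 1)))).paste_vert sq1
  have hs : LocP @Etale (pullback.snd a f₁ ≫ g₁) := locP_comp_etale hsnd2 hl1
  -- the swap
  let σ : pullback a f₁ ⟶ pullback a f₁ := ObjectProperty.homMk (sqR.lift _ _ sqR.w.symm)
  have hσ1 : σ ≫ pullback.fst a f₁ = pullback.snd a f₁ ≫ g₁ := by
    apply ObjectProperty.hom_ext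
    exact sqR.lift_fst _ _ _
  have hσ2 : σ ≫ pullback.snd a f₁ ≫ g₁ = pullback.fst a f₁ := by
    apply ObjectProperty.hom_ext
    exact sqR.lift_snd _ _ _
  have hext : ∀ {Z : Sp S} (x y : Z ⟶ pullback a f₁), x ≫ pullback.fst a f₁ = y ≫ pullback.fst a f₁ →
      x ≫ pullback.snd a f₁ ≫ g₁ = y ≫ pullback.snd a f₁ ≫ g₁ → x = y := by
    intro Z x y h1 h2
    apply ObjectProperty.hom_ext
    apply sqR.hom_ext
    · exact congrArg (fun k => k.hom) h1
    · exact congrArg (fun k => k.hom) h2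
  have hσσ : σ ≫ σ = 𝟙 _ := by
    apply hext
    · rw [Category.assoc, hσ1, hσ2, Category.id_comp]
    · rw [Category.assoc, hσ2, hσ1, Category.id_comp]
  haveI : IsIso σ := ⟨σ, hσσ, hσσ⟩
  have ht : LocP @Etale (pullback.fst a f₁) := by
    rw [← hσ2]
    exact locP_comp_etale (repWith_of_isIso σ) hs
  obtain ⟨Z, ⟨e⟩⟩ := exists_iso_of_jointly_mono_lft hR'
    (pullback.fst a f₁) (pullback.snd a f₁ ≫ g₁) (fun x y h1 h2 => hext x y h1 h2)
    (locP_mono (fun _ _ f hf => by
      have : Etale f := hf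
      exact (inferInstance : LocallyOfFiniteType f)) hs)
  obtain ⟨t', ht'⟩ := (yon S).map_surjective (e.hom ≫ pullback.fst a f₁)
  obtain ⟨s', hs'⟩ := (yon S).map_surjective (e.hom ≫ pullback.snd a f₁ ≫ g₁)
  refine ⟨Z, t', s', ?_, ?_, ?_⟩
  · haveI hiso : IsIso e.hom.hom := (inferInstance : IsIso ((sheafToPresheaf _ _).map e.hom))
    have h4 : (pyon S).map t' = e.hom.hom ≫ (pullback.fst a f₁).hom :=
      congrArg (fun k => k.hom) ht'
    have h5 : (pyon S).map s' =
        e.hom.hom ≫ (pullback.snd a f₁).hom ≫ pullback.snd p (a.hom ≫ p) :=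
      congrArg (fun k => k.hom) hs'
    exact isPullback_precomp_iso sqR e.hom.hom h4 h5
  · refine (locP_yon_map_iff le_rfl t').1 ?_
    rw [ht']
    exact locP_comp_etale (repWith_of_isIso e.hom) ht
  · refine (locP_yon_map_iff le_rfl s').1 ?_
    rw [hs']
    exact locP_comp_etale (repWith_of_isIso e.hom) hs

theorem S10109_main (S : Scheme.{u}) (F : AlgSp.PSp S)
    (h1 : Presheaf.IsSheaf (QuotSh.J Scheme.etalePrecoverage S) F) (U : AlgSp.Space S)
    (p : U.obj.obj ⟶ F)
    (h2 : AlgSp.RepBySpWith (AlgSp.IsSurjectiveMor ⊓ AlgSp.IsEtaleMor) p) :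
    AlgSp.IsAlgSpaceP F := by
  obtain ⟨U₀, a, hae, has⟩ := U.property.atlas
  obtain ⟨R, t, s, sqF, hte, hse⟩ := exists_kernelPair_scheme_psh U.property p h2 a hae
  have hLL := LL_of_repBySpWith p h2 a hae has
  have heq : IsEtaleEqvRel s t := isEtaleEqvRel_of_isPullback_etale sqF hse hte
  have hpres := isPresentation_quotSpπ _ _ heq
  obtain ⟨e⟩ := nonempty_iso_LL hLL sqF hpres.isPullback h1 hpres.etale hpres.surjective
  exact ((isAlgSpaceP_obj_iff _).2 (isAlgSpace_quotSp _ _ heq)).of_iso e.symm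

end Groth.Agent.H7.EtSp2
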