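import Mathlib
import Groth.Agent.Lib.Helper1.EtLoc2
import Groth.Agent.Lib.Helper1.PBU

/-!
# Helper7: FCA — étale neighbourhood adapted to a locally quasi-finite subscheme (S14078)
-/

set_option autoImplicit false

universe u

open CategoryTheory CategoryTheory.Limits AlgebraicGeometry

namespace Groth.Agent.H7.FCA

open Groth.Agent.H1

variable {Z X S : Scheme.{u}}

/-- the base change of `i : Z ⟶ X` over `S` along `g : T ⟶ S` -/
noncomputable abbrev iT (f : X ⟶ S) (i : Z ⟶ X) {T : Scheme.{u}} (g : T ⟶ S) :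
    pullback (i ≫ f) g ⟶ pullback f g :=
  pullback.map (i ≫ f) g f g i (𝟙 T) (𝟙 S) (by simp) (by simp)

lemma iT_snd (f : X ⟶ S) (i : Z ⟶ X) {T : Scheme.{u}} (g : T ⟶ S) :
    iT f i g ≫ pullback.snd f g = pullback.snd (i ≫ f) g := by
  simp only [iT, pullback.map, pullback.lift_snd, Category.comp_id]

lemma iT_fst (f : X ⟶ S) (i : Z ⟶ X) {T : Scheme.{u}} (g : T ⟶ S) :
    iT f i g ≫ pullback.fst f g = pullback.fst (i ≫ f) g ≫ i := by
  simp only [iT, pullback.map, pullback.lift_fst]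

lemma isPullback_iT (f : X ⟶ S) (i : Z ⟶ X) {T : Scheme.{u}} (g : T ⟶ S) :
    IsPullback (iT f i g) (pullback.fst (i ≫ f) g) (pullback.fst f g) i := by
  refine IsPullback.of_right (h₁₂ := pullback.snd f g) (h₂₂ := f) (v₁₃ := g) ?_ (iT_fst f i g)
    (IsPullback.of_hasPullback f g).flip
  rw [iT_snd]
  exact (IsPullback.of_hasPullback (i ≫ f) g).flip

instance isImmersion_iT (f : X ⟶ S) (i : Z ⟶ X) [IsImmersion i] {T : Scheme.{u}} (g : T ⟶ S) :
    IsImmersion (iT f i g) :=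
  MorphismProperty.of_isPullback (P := @IsImmersion) (isPullback_iT f i g).flip inferInstance

theorem S14078_main (f : X ⟶ S) [LocallyOfFiniteType f] (i : Z ⟶ X) [IsImmersion i]
    [LocallyQuasiFinite (i ≫ f)] (z : Z) :
    ∃ (T : Scheme.{u}) (g : T ⟶ S) (U : (pullback f g).Opens)
      (u : ↥(pullback (U.ι ≫ pullback.fst f g) i)),
      Etale g ∧
      IsFinite (pullback.fst (U.ι ≫ pullback.fst f g) i ≫ U.ι ≫ pullback.snd f g) ∧
      (pullback.snd (U.ι ≫ pullback.fst f g) i).base u = z ∧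
      IsIso ((pullback.snd (U.ι ≫ pullback.fst f g) i).residueFieldMap u) ∧
      ∀ u' : ↥(pullback (U.ι ≫ pullback.fst f g) i),
        (pullback.fst (U.ι ≫ pullback.fst f g) i ≫ U.ι ≫ pullback.snd f g).base u' =
          (pullback.fst (U.ι ≫ pullback.fst f g) i ≫ U.ι ≫ pullback.snd f g).base u → u' = u := by
  haveI : LocallyOfFiniteType (i ≫ f) := inferInstance
  obtain ⟨T, g, u₀, hg, V₀, v, hFP⟩ := EtLoc.exists_finPart' (i ≫ f) ((i ≫ f).quasiFiniteAt z)
  haveI := hg.etale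
  -- an open of `X_T` cutting out `V₀`
  obtain ⟨Uset, hUopen, hUpre⟩ := (iT f i g).isEmbedding.isInducing.isOpen_iff.mp V₀.2
  let U : (pullback f g).Opens := ⟨Uset, hUopen⟩
  have hUV : (iT f i g) ⁻¹ᵁ U = V₀ := TopologicalSpace.Opens.ext hUpre
  subst hUV
  -- the pullback square
  have sqA := isPullback_morphismRestrict (iT f i g) U
  have sq : IsPullback ((iT f i g) ∣_ U) (((iT f i g) ⁻¹ᵁ U).ι ≫ pullback.fst (i ≫ f) g)
      (U.ι ≫ pullback.fst f g) i := sqA.paste_vert (isPullback_iT f i g)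
  let θ := (IsPullback.of_hasPullback (U.ι ≫ pullback.fst f g) i).isoIsPullback _ _ sq
  have hθ1 : θ.hom ≫ ((iT f i g) ∣_ U) = pullback.fst (U.ι ≫ pullback.fst f g) i :=
    IsPullback.isoIsPullback_hom_fst _ _ _ sq
  have hθ2 : θ.hom ≫ (((iT f i g) ⁻¹ᵁ U).ι ≫ pullback.fst (i ≫ f) g) =
      pullback.snd (U.ι ≫ pullback.fst f g) i := IsPullback.isoIsPullback_hom_snd _ _ _ sq
  have hstr : pullback.fst (U.ι ≫ pullback.fst f g) i ≫ U.ι ≫ pullback.snd f g =
      θ.hom ≫ (((iT f i g) ⁻¹ᵁ U).ι ≫ pullback.snd (i ≫ f) g) := by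
    rw [← hθ1, Category.assoc, ← Category.assoc ((iT f i g) ∣_ U), morphismRestrict_ι,
      Category.assoc, iT_snd]
  let v' : ↥((iT f i g) ⁻¹ᵁ U) := ⟨v, hFP.mem⟩
  refine ⟨T, g, U, θ.inv v', hg.etale, ?_, ?_, ?_, ?_⟩
  · rw [hstr]
    haveI := hFP.finite
    infer_instance
  · change (pullback.snd (U.ι ≫ pullback.fst f g) i) (θ.inv v') = z
    rw [← hθ2, ← Scheme.Hom.comp_apply, Iso.inv_hom_id_assoc]
    exact hFP.fst_eq
  · rw [ConcreteCategory.isIso_iff_bijective]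
    rw [PBU.bij_congr_hom hθ2.symm, PBU.bij_comp_iso]
    have e : θ.hom (θ.inv v') = v' := by
      rw [← Scheme.Hom.comp_apply, Iso.inv_hom_id]
      rfl
    rw [PBU.bij_congr_point _ e]
    have hcomp : ⇑((((iT f i g) ⁻¹ᵁ U).ι ≫ pullback.fst (i ≫ f) g).residueFieldMap v').hom =
        ⇑(((iT f i g) ⁻¹ᵁ U).ι.residueFieldMap v').hom ∘
          ⇑((pullback.fst (i ≫ f) g).residueFieldMap (((iT f i g) ⁻¹ᵁ U).ι v')).hom := by
      rw [Scheme.residueFieldMap_comp]; rfl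
    rw [hcomp]
    have hb : Function.Bijective ⇑(((iT f i g) ⁻¹ᵁ U).ι.residueFieldMap v').hom :=
      ConcreteCategory.bijective_of_isIso _
    refine hb.comp ?_
    refine PBU.bijective_residueFieldMap_fst (f := i ≫ f) (g := g) v ?_
    exact (PBU.bij_congr_point g hFP.snd_eq).mpr hg.bij
  · intro u' hu'
    rw [hstr] at hu'
    have h1 : (((iT f i g) ⁻¹ᵁ U).ι ≫ pullback.snd (i ≫ f) g) (θ.hom u') =
        (((iT f i g) ⁻¹ᵁ U).ι ≫ pullback.snd (i ≫ f) g) (θ.hom (θ.inv v')) := hu'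
    have e : θ.hom (θ.inv v') = v' := by
      rw [← Scheme.Hom.comp_apply, Iso.inv_hom_id]
      rfl
    rw [e] at h1
    have h2 : pullback.snd (i ≫ f) g (((iT f i g) ⁻¹ᵁ U).ι (θ.hom u')) = u₀ :=
      h1.trans hFP.snd_eq
    have h3 : ((iT f i g) ⁻¹ᵁ U).ι (θ.hom u') = v :=
      hFP.uniq _ (θ.hom u').2 h2
    have h4 : θ.hom u' = v' := Subtype.ext h3
    have h5 : θ.inv (θ.hom u') = u' := by
      rw [← Scheme.Hom.comp_apply, Iso.hom_inv_id]
      rfl
    rw [← h5, h4]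

end Groth.Agent.H7.FCA
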