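import Mathlib
import Groth.Prelude.Def_W4bk4goldsch23Ext
import Groth.Agent.Lib.Helper5.FunFld.FF
import Groth.Agent.Lib.Helper5.FunFld.Ext

set_option autoImplicit false

/-! function fields: subfields and constant field extensions (helper7) -/

namespace Groth.Agent.H7.FF
universe u v u' v'
open FunFld TensorProduct

section Sub
variable {k : Type u} {K : Type v} [Field k] [Field K] [Algebra k K]

/-- a subfield of a field that stays a field after a finite base extension has the same property. -/
theorem isField_tensor_sub (K₀ : IntermediateField k K) (k' : Type u) [Field k'] [Algebra k k']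
    [FiniteDimensional k k'] (hF : IsField (k' ⊗[k] K)) : IsField (k' ⊗[k] K₀) := by
  have e1 : K ⊗[k] k' ≃+* k' ⊗[k] K := (Algebra.TensorProduct.comm k K k').toRingEquiv
  haveI : IsDomain (k' ⊗[k] K) := hF.isDomain
  haveI : IsDomain (K ⊗[k] k') := e1.injective.isDomain e1.toRingHom
  let j : K₀ ⊗[k] k' →ₐ[k] K ⊗[k] k' := Algebra.TensorProduct.map K₀.val (AlgHom.id k k')
  have hj : Function.Injective j :=
    Module.Flat.rTensor_preserves_injective_linearMap (M := k') K₀.val.toLinearMap
      Subtype.val_injective
  haveI : IsDomain (K₀ ⊗[k] k') := hj.isDomain j.toRingHom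
  haveI : Algebra.IsIntegral K₀ (K₀ ⊗[k] k') := Algebra.IsIntegral.of_finite _ _
  have h2 : IsField (K₀ ⊗[k] k') := by
    have := isField_of_isIntegral_of_isField' (R := K₀) (S := K₀ ⊗[k] k') (Field.toIsField K₀)
    exact this
  exact (Algebra.TensorProduct.comm k k' K₀).toMulEquiv.isField h2

theorem isGeometric_sub (hg : IsGeometric k K) (K₀ : IntermediateField k K) :
    IsGeometric k K₀ := by
  intro k' _ _ hfin
  exact isField_tensor_sub K₀ k' (hg k' hfin)

theorem isFunctionField_sub (hK : IsFunctionField k K) (K₀ : IntermediateField k K)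
    (h₀ : ∃ x ∈ K₀, Transcendental k x) : IsFunctionField k K₀ := by
  obtain ⟨x, hx, hxt⟩ := h₀
  set x₀ : K₀ := ⟨x, hx⟩ with hx₀
  have hxt₀ : Transcendental k x₀ := by
    intro halg
    apply hxt
    have := halg.algebraMap (A := K)
    exact this
  refine ⟨⟨x₀, hxt₀, ?_⟩, ?_⟩
  · set F : IntermediateField k K₀ := IntermediateField.adjoin k {x₀} with hF
    have hlift : IntermediateField.lift F = IntermediateField.adjoin k ({x} : Set K) := by
      rw [IntermediateField.lift, hF, IntermediateField.adjoin_map]
      congr 1
      simp [hx₀]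
    have hfin : FiniteDimensional (IntermediateField.adjoin k ({x} : Set K)) K :=
      hK.finiteDimensional_adjoin hxt
    have hfin' : FiniteDimensional (IntermediateField.lift F) K := by
      rw [hlift]; exact hfin
    let e : F ≃ₐ[k] IntermediateField.lift F := IntermediateField.liftAlgEquiv F
    have : Module.Finite F K := by
      refine Module.Finite.of_equiv_equiv (A₁ := IntermediateField.lift F) (B₁ := K)
        e.symm.toRingEquiv (RingEquiv.refl K) ?_
      ext y
      obtain ⟨z, rfl⟩ := e.surjective y
      simp only [RingHom.comp_apply, RingEquiv.coe_toRingHom, AlgEquiv.toRingEquiv_eq_coe,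
        RingEquiv.refl_apply]
      erw [AlgEquiv.symm_apply_apply]
      rfl
    exact FiniteDimensional.of_injective (IsScalarTower.toAlgHom F K₀ K).toLinearMap
      (algebraMap K₀ K).injective
  · intro y hy
    have hy' : IsAlgebraic k (algebraMap K₀ K y) := hy.algebraMap
    obtain ⟨c, hc⟩ := hK.2 _ hy'
    exact ⟨c, Subtype.ext hc⟩

end Sub

section ConstExt
variable (k : Type u) (k' : Type u') (K : Type v) (K' : Type v') [Field k] [Field k'] [Field K] [Field K']
    [Algebra k k'] [FiniteDimensional k k'] [Algebra k K] [Algebra K K'] [Algebra k' K'] [Algebra k K']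
    [IsScalarTower k k' K'] [IsScalarTower k K K']

/-- the `K`-linear version of the product map. -/
noncomputable def prodK : K ⊗[k] k' →ₐ[K] K' :=
  Algebra.TensorProduct.lift (Algebra.ofId K K') (IsScalarTower.toAlgHom k k' K')
    (fun _ _ => Commute.all _ _)

theorem prodK_tmul (x : K) (c : k') :
    prodK k k' K K' (x ⊗ₜ c) = algebraMap K K' x * algebraMap k' K' c := by
  simp [prodK, Algebra.ofId_apply]

variable {k k' K K'}

theorem prodK_bijective (h : Function.Bijective (Algebra.TensorProduct.productMap
      (IsScalarTower.toAlgHom k k' K') (IsScalarTower.toAlgHom k K K'))) :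
    Function.Bijective (prodK k k' K K') := by
  have hcomp : ∀ t : K ⊗[k] k', prodK k k' K K' t =
      Algebra.TensorProduct.productMap (IsScalarTower.toAlgHom k k' K')
        (IsScalarTower.toAlgHom k K K') (Algebra.TensorProduct.comm k K k' t) := by
    intro t
    induction t using TensorProduct.induction_on with
    | zero => simp
    | tmul x c =>
      rw [prodK_tmul, Algebra.TensorProduct.comm_tmul, Algebra.TensorProduct.productMap_apply_tmul,
        mul_comm]
      rfl
    | add a b ha hb => rw [map_add, map_add, map_add, ha, hb]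
  have : (prodK k k' K K' : K ⊗[k] k' → K') =
      (Algebra.TensorProduct.productMap (IsScalarTower.toAlgHom k k' K')
        (IsScalarTower.toAlgHom k K K')) ∘ (Algebra.TensorProduct.comm k K k') := funext hcomp
  rw [this]
  exact h.comp (Algebra.TensorProduct.comm k K k').bijective

theorem finrank_constExt (h : Function.Bijective (Algebra.TensorProduct.productMap
      (IsScalarTower.toAlgHom k k' K') (IsScalarTower.toAlgHom k K K'))) :
    Module.finrank K K' = Module.finrank k k' := by
  have e := LinearEquiv.ofBijective (prodK k k' K K').toLinearMap (prodK_bijective h)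
  rw [← e.finrank_eq, Module.finrank_baseChange]

theorem finiteDimensional_constExt (h : Function.Bijective (Algebra.TensorProduct.productMap
      (IsScalarTower.toAlgHom k k' K') (IsScalarTower.toAlgHom k K K'))) :
    FiniteDimensional K K' :=
  Module.Finite.of_surjective (prodK k k' K K').toLinearMap (prodK_bijective h).2

theorem isFF1_constExt (h : Function.Bijective (Algebra.TensorProduct.productMap
      (IsScalarTower.toAlgHom k k' K') (IsScalarTower.toAlgHom k K K')))
    (hK : IsFunctionField k K) : IsFF1 k' K' := by
  haveI := finiteDimensional_constExt h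
  have h1 : IsFF1 k K' := IsFF1.of_finite (K := K) hK.isFF1
  refine IsFF1.of_trdeg_essFiniteType ?_ ?_
  · have h2 := lift_trdeg_add_eq k k' K'
    have h3 : Algebra.trdeg k k' = 0 := trdeg_eq_zero
    rw [h3, h1.trdeg_eq_one] at h2
    simp only [Cardinal.lift_zero, zero_add, Cardinal.lift_one] at h2
    have h4 : Cardinal.lift.{u'} (Algebra.trdeg k' K') = Cardinal.lift.{u'} 1 := by
      rw [h2]; simp
    exact Cardinal.lift_injective h4
  · haveI := h1.essFiniteType
    exact Algebra.EssFiniteType.of_comp k k' K'

variable (k k' K K') in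
/-- the `k'`-linear version of the product map. -/
noncomputable def prodk' : k' ⊗[k] K →ₐ[k'] K' :=
  Algebra.TensorProduct.lift (Algebra.ofId k' K') (IsScalarTower.toAlgHom k K K')
    (fun _ _ => Commute.all _ _)

theorem prodk'_bijective (h : Function.Bijective (Algebra.TensorProduct.productMap
      (IsScalarTower.toAlgHom k k' K') (IsScalarTower.toAlgHom k K K'))) :
    Function.Bijective (prodk' k k' K K') := by
  have hcomp : ∀ t : k' ⊗[k] K, prodk' k k' K K' t =
      Algebra.TensorProduct.productMap (IsScalarTower.toAlgHom k k' K')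
        (IsScalarTower.toAlgHom k K K') t := by
    intro t
    induction t using TensorProduct.induction_on with
    | zero => simp
    | tmul c x =>
      rw [Algebra.TensorProduct.productMap_apply_tmul]
      simp [prodk', Algebra.ofId_apply]
    | add a b ha hb => rw [map_add, map_add, ha, hb]
  have : (prodk' k k' K K' : k' ⊗[k] K → K') =
      (Algebra.TensorProduct.productMap (IsScalarTower.toAlgHom k k' K')
        (IsScalarTower.toAlgHom k K K')) := funext hcomp
  rw [this]
  exact h

end ConstExt

section ConstExtGeom
variable {k k' : Type u} {K : Type v} {K' : Type v'} [Field k] [Field k'] [Field K] [Field K']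
    [Algebra k k'] [FiniteDimensional k k'] [Algebra k K] [Algebra K K'] [Algebra k' K'] [Algebra k K']
    [IsScalarTower k k' K'] [IsScalarTower k K K']

/-- `k'` is algebraically closed in `k' ⊗ K`. -/
theorem algClosed_constExt (h : Function.Bijective (Algebra.TensorProduct.productMap
      (IsScalarTower.toAlgHom k k' K') (IsScalarTower.toAlgHom k K K')))
    (hg : IsGeometric k K) (y : K') (hy : IsAlgebraic k' y) :
    y ∈ Set.range (algebraMap k' K') := by
  have hint : IsIntegral k' y := hy.isIntegral
  have hirr : Irreducible (minpoly k' y) := minpoly.irreducible hint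
  haveI : Fact (Irreducible (minpoly k' y)) := ⟨hirr⟩
  let F := AdjoinRoot (minpoly k' y)
  have hmon : (minpoly k' y).Monic := minpoly.monic hint
  haveI : FiniteDimensional k' F := (AdjoinRoot.powerBasis hmon.ne_zero).finite
  haveI : FiniteDimensional k F := FiniteDimensional.trans k k' F
  let g' : F →ₐ[k'] K' := AdjoinRoot.liftAlgHom (minpoly k' y) (Algebra.ofId k' K') y (by
    have := minpoly.aeval k' y
    rwa [Polynomial.aeval_def] at this)
  let g : F →ₐ[k] K' := g'.restrictScalars k
  -- the field `F ⊗ K`
  have hfield : IsField (F ⊗[k] K) := hg F inferInstance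
  have hfield' : IsField (K ⊗[k] F) := (Algebra.TensorProduct.comm k K F).toMulEquiv.isField hfield
  letI : Field (K ⊗[k] F) := hfield'.toField
  let ψ : K ⊗[k] F →ₐ[K] K' :=
    Algebra.TensorProduct.lift (Algebra.ofId K K') g (fun _ _ => Commute.all _ _)
  have hψ : Function.Injective ψ := ψ.toRingHom.injective
  haveI := finiteDimensional_constExt h
  have h1 := LinearMap.finrank_le_finrank_of_injective (f := ψ.toLinearMap) hψ
  rw [Module.finrank_baseChange, finrank_constExt h, ← Module.finrank_mul_finrank k k' F] at h1
  have hpos : 0 < Module.finrank k k' := Module.finrank_pos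
  have h2 : Module.finrank k' F ≤ 1 := by
    by_contra hc
    push Not at hc
    have : Module.finrank k k' * 2 ≤ Module.finrank k k' * Module.finrank k' F :=
      Nat.mul_le_mul_left _ hc
    omega
  have h3 : (minpoly k' y).natDegree ≤ 1 := by
    have := (AdjoinRoot.powerBasis hmon.ne_zero).finrank
    rw [AdjoinRoot.powerBasis_dim] at this
    rw [← this]; exact h2
  have h4 : (minpoly k' y).natDegree = 1 := by
    have := minpoly.natDegree_pos hint
    omega
  exact (minpoly.natDegree_eq_one_iff).mp h4

theorem isGeometric_constExt (h : Function.Bijective (Algebra.TensorProduct.productMap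
      (IsScalarTower.toAlgHom k k' K') (IsScalarTower.toAlgHom k K K')))
    (hg : IsGeometric k K) : IsGeometric k' K' := by
  intro k'' _ _ hfin
  letI : Algebra k k'' := ((algebraMap k' k'').comp (algebraMap k k')).toAlgebra
  haveI : IsScalarTower k k' k'' := IsScalarTower.of_algebraMap_eq fun _ => rfl
  haveI : FiniteDimensional k k'' := FiniteDimensional.trans k k' k''
  have h1 : IsField (k'' ⊗[k] K) := hg k'' inferInstance
  let Φ : k' ⊗[k] K ≃ₐ[k'] K' := AlgEquiv.ofBijective (prodk' k k' K K') (prodk'_bijective h)
  let e1 : k'' ⊗[k'] (k' ⊗[k] K) ≃ₐ[k''] k'' ⊗[k'] K' :=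
    Algebra.TensorProduct.congr AlgEquiv.refl Φ
  let e2 : k'' ⊗[k'] (k' ⊗[k] K) ≃ₐ[k''] k'' ⊗[k] K :=
    Algebra.TensorProduct.cancelBaseChange k k' k'' k'' K
  exact (e1.symm.trans e2).toMulEquiv.isField h1

/-- **S11006** -/
theorem constExt (h : Function.Bijective (Algebra.TensorProduct.productMap
      (IsScalarTower.toAlgHom k k' K') (IsScalarTower.toAlgHom k K K')))
    (hK : IsFunctionField k K) (hg : IsGeometric k K) :
    IsFunctionField k' K' ∧ IsGeometric k' K' :=
  ⟨⟨isFF1_constExt h hK, fun y hy => algClosed_constExt h hg y hy⟩, isGeometric_constExt h hg⟩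

end ConstExtGeom

end Groth.Agent.H7.FF
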