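import Mathlib

open CategoryTheory CategoryTheory.Limits Opposite

universe u

namespace Groth.Agent.H7.FFSite

theorem main {C D : Type u} [SmallCategory C] [SmallCategory D]
    (J : GrothendieckTopology C) (K : GrothendieckTopology D) (u : C ⥤ D)
    [u.IsCocontinuous J K] [u.IsContinuous J K] [u.Full] [u.Faithful]
    (F : Sheaf J AddCommGrpCat.{u}) :
    IsIso ((u.sheafAdjunctionContinuous AddCommGrpCat.{u} J K).unit.app F) ∧
      IsIso ((u.sheafAdjunctionCocontinuous AddCommGrpCat.{u} J K).counit.app F) := by
  have hcounit : ∀ F : Sheaf J AddCommGrpCat.{u},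
      IsIso ((u.sheafAdjunctionCocontinuous AddCommGrpCat.{u} J K).counit.app F) := by
    intro F
    rw [← isIso_iff_of_reflects_iso _ (sheafToPresheaf J _)]
    show IsIso ((u.sheafAdjunctionCocontinuous _ J K).counit.app F).hom
    rw [Functor.sheafAdjunctionCocontinuous_counit_app_hom]
    haveI : u.op.Full := inferInstance
    haveI : u.op.Faithful := inferInstance
    haveI : ∀ G : Cᵒᵖ ⥤ AddCommGrpCat.{u}, u.op.HasPointwiseRightKanExtension G := inferInstance
    rw [Functor.ranAdjunction_counit]
    apply (config := {allowSynthFailures := true}) NatIso.isIso_of_isIso_app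
    intro X
    obtain ⟨X⟩ := X
    exact (Functor.isPointwiseRightKanExtensionRanCounit u.op F.obj (u.op.obj (op X))).isIso_hom_app
  let t : Adjunction.Triple (u.sheafPullback AddCommGrpCat.{u} J K)
      (u.sheafPushforwardContinuous AddCommGrpCat.{u} J K)
      (u.sheafPushforwardCocontinuous AddCommGrpCat.{u} J K) :=
    ⟨u.sheafAdjunctionContinuous AddCommGrpCat.{u} J K,
      u.sheafAdjunctionCocontinuous AddCommGrpCat.{u} J K⟩
  haveI h2 : IsIso t.adj₂.counit := by
    apply (config := {allowSynthFailures := true}) NatIso.isIso_of_isIso_app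
  haveI h1 : IsIso t.adj₁.unit := t.isIso_unit_iff_isIso_counit.mpr h2
  exact ⟨(inferInstance : IsIso (t.adj₁.unit.app F)), hcounit F⟩

end Groth.Agent.H7.FFSite
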