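import Groth.Agent.Lib.Helper5.FunFld.Weil2

/-! Misc. function field lemmas (helper7): independence by distinct orders. -/

set_option autoImplicit false

namespace Groth.Agent.H7.FFX

open FunFld WithZero

variable {k K : Type*} [Field k] [Field K] [Algebra k K]

/-- nonzero elements with pairwise distinct valuations at a place are linearly independent -/
theorem linearIndependent_of_v_injective {ι : Type*} (P : Place k K) (x : ι → K)
    (h0 : ∀ i, x i ≠ 0) (hinj : Function.Injective (fun i => P.1 (x i))) :
    LinearIndependent k x := by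
  classical
  rw [linearIndependent_iff']
  intro s c hsum
  by_contra hne
  push Not at hne
  obtain ⟨i1, hi1, hc1⟩ := hne
  set s' := s.filter (fun i => c i ≠ 0) with hs'
  have hne' : s'.Nonempty := ⟨i1, by rw [hs', Finset.mem_filter]; exact ⟨hi1, hc1⟩⟩
  obtain ⟨i0, hi0, hmax⟩ := Finset.exists_max_image s' (fun i => P.1 (x i)) hne'
  rw [hs', Finset.mem_filter] at hi0
  have hsplit : ∑ i ∈ s, c i • x i = c i0 • x i0 + ∑ i ∈ s.erase i0, c i • x i := by
    exact (Finset.add_sum_erase s (fun i => c i • x i) hi0.1).symm
  have hv0 : P.1 (c i0 • x i0) = P.1 (x i0) := P.v_smul _ _ hi0.2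
  have hlt : P.1 (∑ i ∈ s.erase i0, c i • x i) < P.1 (c i0 • x i0) := by
    apply Valuation.map_sum_lt
    · rw [hv0]; exact P.v_ne_zero (h0 i0)
    · intro i hi
      rw [Finset.mem_erase] at hi
      rw [hv0]
      by_cases hci : c i = 0
      · rw [hci, zero_smul, map_zero]
        exact zero_lt_iff.2 (P.v_ne_zero (h0 i0))
      · rw [P.v_smul _ _ hci]
        have hle := hmax i (by rw [hs', Finset.mem_filter]; exact ⟨hi.2, hci⟩)
        refine lt_of_le_of_ne hle ?_
        intro heq
        exact hi.1 (hinj heq)
  have := Valuation.map_add_eq_of_lt_left P.1 hlt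
  rw [← hsplit, hsum, map_zero, hv0] at this
  exact P.v_ne_zero (h0 i0) this.symm

theorem linearIndependent_of_ord_injective {ι : Type*} (P : Place k K) (x : ι → K)
    (h0 : ∀ i, x i ≠ 0) (hinj : Function.Injective (fun i => P.ord (x i))) :
    LinearIndependent k x := by
  apply linearIndependent_of_v_injective P x h0
  intro i j hij
  apply hinj
  simp only [Place.ord] at hij ⊢
  rw [hij]

end Groth.Agent.H7.FFX
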