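import Mathlib

/-! F-finiteness of algebras essentially of finite type over `k[[t]]`, `k` a finite field
(helper7, S19093). -/

set_option autoImplicit false
universe u
open Polynomial

namespace Groth.Agent.H7.FFinite

variable (p : ℕ)

/-- the additive subgroup generated by the `c ^ p * s`, `s ∈ S` -/
def fspan (A : Type*) [CommRing A] (S : Set A) : AddSubgroup A :=
  AddSubgroup.closure {x | ∃ c : A, ∃ s ∈ S, x = c ^ p * s}

/-- `A` is generated over its `p`-th powers by finitely many elements -/
def FF (A : Type*) [CommRing A] : Prop := ∃ S : Finset A, ∀ a : A, a ∈ fspan p A (S : Set A)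

variable {p}

theorem pow_mul_mem {A : Type*} [CommRing A] {S : Set A} (c : A) {x : A} (hx : x ∈ fspan p A S) :
    c ^ p * x ∈ fspan p A S := by
  refine AddSubgroup.closure_induction (p := fun x _ => c ^ p * x ∈ fspan p A S) ?_ ?_ ?_ ?_ hx
  · rintro _ ⟨c', s, hs, rfl⟩
    apply AddSubgroup.subset_closure
    exact ⟨c * c', s, hs, by rw [mul_pow, mul_assoc]⟩
  · rw [mul_zero]; exact AddSubgroup.zero_mem _
  · intro x y _ _ hx hy
    rw [mul_add]; exact AddSubgroup.add_mem _ hx hy
  · intro x _ hx
    rw [mul_neg]; exact AddSubgroup.neg_mem _ hx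

theorem fspan_mono {A : Type*} [CommRing A] {S T : Set A} (h : S ⊆ T) : fspan p A S ≤ fspan p A T := by
  apply AddSubgroup.closure_mono
  rintro _ ⟨c, s, hs, rfl⟩
  exact ⟨c, s, h hs, rfl⟩

theorem map_mem {A B : Type*} [CommRing A] [CommRing B] (f : A →+* B) {S : Set A} {x : A}
    (hx : x ∈ fspan p A S) : f x ∈ fspan p B (f '' S) := by
  refine AddSubgroup.closure_induction (p := fun x _ => f x ∈ fspan p B (f '' S)) ?_ ?_ ?_ ?_ hx
  · rintro _ ⟨c, s, hs, rfl⟩
    apply AddSubgroup.subset_closure
    exact ⟨f c, f s, ⟨s, hs, rfl⟩, by rw [map_mul, map_pow]⟩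
  · rw [map_zero]; exact AddSubgroup.zero_mem _
  · intro x y _ _ hx hy
    rw [map_add]; exact AddSubgroup.add_mem _ hx hy
  · intro x _ hx
    rw [map_neg]; exact AddSubgroup.neg_mem _ hx

theorem FF.of_surjective {A B : Type*} [CommRing A] [CommRing B] (f : A →+* B)
    (hf : Function.Surjective f) (h : FF p A) : FF p B := by
  classical
  obtain ⟨S, hS⟩ := h
  refine ⟨S.image f, fun b => ?_⟩
  obtain ⟨a, rfl⟩ := hf b
  have := map_mem f (hS a)
  rwa [← Finset.coe_image] at this

theorem FF.polynomial {B : Type*} [CommRing B] (hp : 0 < p) (h : FF p B) : FF p B[X] := by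
  classical
  obtain ⟨S, hS⟩ := h
  let T : Finset B[X] := (S ×ˢ Finset.range p).image (fun sj => C sj.1 * X ^ sj.2)
  refine ⟨T, fun f => ?_⟩
  induction f using Polynomial.induction_on' with
  | add f g hf hg => exact AddSubgroup.add_mem _ hf hg
  | monomial n b =>
    have hb := hS b
    refine AddSubgroup.closure_induction
      (p := fun b _ => (monomial n) b ∈ fspan p B[X] (T : Set B[X])) ?_ ?_ ?_ ?_ hb
    · rintro _ ⟨c, s, hs, rfl⟩
      apply AddSubgroup.subset_closure
      refine ⟨C c * X ^ (n / p), C s * X ^ (n % p), ?_, ?_⟩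
      · rw [Finset.mem_coe, Finset.mem_image]
        exact ⟨(s, n % p), Finset.mem_product.mpr ⟨hs, Finset.mem_range.mpr (Nat.mod_lt _ hp)⟩, rfl⟩
      · rw [← C_mul_X_pow_eq_monomial, mul_pow, ← pow_mul, ← map_pow]
        conv_lhs => rw [← Nat.div_add_mod n p, pow_add, map_mul]
        rw [mul_comm p (n / p)]
        ring
    · rw [map_zero]; exact AddSubgroup.zero_mem _
    · intro x y _ _ hx hy
      rw [map_add]; exact AddSubgroup.add_mem _ hx hy
    · intro x _ hx
      rw [map_neg]; exact AddSubgroup.neg_mem _ hx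

theorem FF.mvPolynomial {B : Type*} [CommRing B] (hp : 0 < p) (h : FF p B) (n : ℕ) :
    FF p (MvPolynomial (Fin n) B) := by
  induction n with
  | zero =>
    exact FF.of_surjective (MvPolynomial.isEmptyRingEquiv B (Fin 0)).symm.toRingHom
      (MvPolynomial.isEmptyRingEquiv B (Fin 0)).symm.surjective h
  | succ n ih =>
    exact FF.of_surjective ((MvPolynomial.finSuccEquiv B n).symm : _ →+* _)
      (MvPolynomial.finSuccEquiv B n).symm.surjective (FF.polynomial hp ih)

theorem FF.localization {A : Type*} [CommRing A] (hp : 0 < p) (M : Submonoid A) (L : Type*)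
    [CommRing L] [Algebra A L] [IsLocalization M L] (h : FF p A) : FF p L := by
  classical
  obtain ⟨S, hS⟩ := h
  refine ⟨S.image (algebraMap A L), fun x => ?_⟩
  obtain ⟨a, s, rfl⟩ := IsLocalization.exists_mk'_eq M x
  have h1 : IsLocalization.mk' L a s =
      (IsLocalization.mk' L 1 s) ^ p * algebraMap A L (a * (s : A) ^ (p - 1)) := by
    rw [← IsLocalization.mk'_pow, one_pow, ← IsLocalization.mk'_one (M := M) L (a * (s : A) ^ (p - 1)),
      ← IsLocalization.mk'_mul, one_mul, mul_one, IsLocalization.mk'_eq_iff_eq]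
    congr 1
    have hpp : p = (p - 1) + 1 := by omega
    simp only [SubmonoidClass.coe_pow]
    conv_lhs => rw [hpp, pow_succ]
    ring
  rw [h1]
  apply pow_mul_mem
  have := map_mem (algebraMap A L) (hS (a * (s : A) ^ (p - 1)))
  rwa [← Finset.coe_image] at this


theorem coeff_pow_char (k : Type*) [Field k] [Fact p.Prime] [CharP k p] (g : PowerSeries k) (n : ℕ) :
    PowerSeries.coeff n (g ^ p) = if p ∣ n then (PowerSeries.coeff (n / p) g) ^ p else 0 := by
  have hp0 : p ≠ 0 := (Fact.out : p.Prime).ne_zero
  have h := MvPowerSeries.map_frobenius_expand (σ := Unit) (R := k) p hp0 (f := g)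
  have h2 : g ^ p = PowerSeries.map (frobenius k p) (PowerSeries.expand p hp0 g) := h.symm
  rw [h2, PowerSeries.coeff_map, PowerSeries.coeff_expand]
  split_ifs
  · rfl
  · rw [map_zero]

theorem FF.powerSeries (k : Type*) [Field k] [Finite k] [Fact p.Prime] [CharP k p] :
    FF p (PowerSeries k) := by
  classical
  have hp : 0 < p := (Fact.out : p.Prime).pos
  refine ⟨(Finset.range p).image (fun i => (PowerSeries.X : PowerSeries k) ^ i), fun f => ?_⟩
  let g : ℕ → PowerSeries k := fun i =>
    PowerSeries.mk fun m => (frobeniusEquiv k p).symm (PowerSeries.coeff (m * p + i) f)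
  have hf : f = ∑ i ∈ Finset.range p, (g i) ^ p * PowerSeries.X ^ i := by
    ext n
    rw [map_sum]
    have hterm : ∀ i ∈ Finset.range p, PowerSeries.coeff n ((g i) ^ p * PowerSeries.X ^ i) =
        if i = n % p then PowerSeries.coeff n f else 0 := by
      intro i hi
      have hip : i < p := Finset.mem_range.mp hi
      rw [PowerSeries.coeff_mul_X_pow']
      split_ifs with h1 h2 h2
      · rw [coeff_pow_char, if_pos, PowerSeries.coeff_mk, frobeniusEquiv_symm_pow_p]
        · congr 1
          have := Nat.div_add_mod n p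
          have h3 : (n - i) / p = n / p := by
            rw [h2]
            have : n - n % p = p * (n / p) := by omega
            rw [this, Nat.mul_div_cancel_left _ hp]
          rw [h3, h2]
          rw [mul_comm] at this
          rw [this]
        · rw [h2]
          exact (Nat.modEq_iff_dvd' (Nat.mod_le n p)).mp (Nat.mod_modEq n p)
      · rw [coeff_pow_char, if_neg]
        intro hdvd
        apply h2
        obtain ⟨c, hc⟩ := hdvd
        have hn : n = i + p * c := by omega
        rw [hn, Nat.add_mul_mod_self_left, Nat.mod_eq_of_lt hip]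
      · exfalso
        apply h1
        rw [h2]
        exact Nat.mod_le n p
      · rfl
    rw [Finset.sum_congr rfl hterm, Finset.sum_ite_eq' (Finset.range p) (n % p),
      if_pos (Finset.mem_range.mpr (Nat.mod_lt n hp))]
  rw [hf]
  apply AddSubgroup.sum_mem
  intro i hi
  apply AddSubgroup.subset_closure
  exact ⟨g i, PowerSeries.X ^ i, Finset.mem_coe.mpr (Finset.mem_image.mpr ⟨i, hi, rfl⟩), rfl⟩

theorem FF.finite_frobenius (A : Type*) [CommRing A] [Fact p.Prime] [CharP A p] (h : FF p A) :
    (frobenius A p).Finite := by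
  obtain ⟨S, hS⟩ := h
  let alg : Algebra A A := (frobenius A p).toAlgebra
  have key : @Module.Finite A A _ _ alg.toModule := by
    refine @Module.Finite.of_fg_top A A _ _ alg.toModule ⟨S, ?_⟩
    apply (@eq_top_iff (@Submodule A A _ _ alg.toModule) _ _ _).mpr
    intro a _
    refine AddSubgroup.closure_induction
      (p := fun x _ => x ∈ @Submodule.span A A _ _ alg.toModule (S : Set A)) ?_ ?_ ?_ ?_ (hS a)
    · rintro _ ⟨c, s, hs, rfl⟩
      have h1 : c ^ p * s = @HSMul.hSMul A A A (@instHSMul A A alg.toModule.toSMul) c s := rfl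
      rw [h1]
      exact @Submodule.smul_mem A A _ _ alg.toModule _ _ c
        (@Submodule.subset_span A A _ _ alg.toModule _ _ hs)
    · exact Submodule.zero_mem _
    · intro x y _ _ hx hy
      exact Submodule.add_mem _ hx hy
    · intro x _ hx
      exact Submodule.neg_mem _ hx
  exact key

theorem finite_frobenius_localization (k : Type u) [Field k] [Finite k] [Fact p.Prime] [CharP k p]
    (A : Type u) [CommRing A] [Algebra (PowerSeries k) A] [Algebra.FiniteType (PowerSeries k) A]
    (P : Ideal A) [P.IsPrime] [CharP (Localization.AtPrime P) p] :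
    (frobenius (Localization.AtPrime P) p).Finite := by
  have hp : 0 < p := (Fact.out : p.Prime).pos
  obtain ⟨n, f, hf⟩ := (Algebra.FiniteType.iff_quotient_mvPolynomial''
    (R := PowerSeries k) (S := A)).mp inferInstance
  have h1 : FF p A := FF.of_surjective (f : _ →+* A) hf (FF.mvPolynomial hp (FF.powerSeries k) n)
  exact FF.finite_frobenius _ (FF.localization hp P.primeCompl _ h1)

end Groth.Agent.H7.FFinite
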