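import Mathlib
import Groth.Prelude.Def_EtDual
import Groth.Prelude.Def_EtDepth
import Groth.Agent.Lib.Helper2.RDer7

/-! # Dévissage for constant sheaves with finite `ℓ`-primary value group -/

set_option autoImplicit false
universe u
open CategoryTheory CategoryTheory.Limits Opposite AlgebraicGeometry

namespace Groth.Agent.H7.FLC

section Const
variable {C : Type*} [Category C] {D : Type*} [Category D]

instance constPresFinLim [HasFiniteLimits D] :
    PreservesFiniteLimits (Functor.const C : D ⥤ C ⥤ D) := by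
  constructor
  intro J _ _
  apply preservesLimitsOfShape_of_evaluation
  intro k
  exact inferInstanceAs (PreservesLimitsOfShape J (𝟭 D))

instance constPresFinColim [HasFiniteColimits D] :
    PreservesFiniteColimits (Functor.const C : D ⥤ C ⥤ D) := by
  constructor
  intro J _ _
  apply preservesColimitsOfShape_of_evaluation
  intro k
  exact inferInstanceAs (PreservesColimitsOfShape J (𝟭 D))

variable (X : Scheme.{u})

noncomputable instance cstPresFinLim :
    PreservesFiniteLimits (constantSheaf X.smallEtaleTopology AddCommGrpCat.{u+1}) := by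
  unfold constantSheaf
  infer_instance

noncomputable instance cstPresFinColim :
    PreservesFiniteColimits (constantSheaf X.smallEtaleTopology AddCommGrpCat.{u+1}) := by
  unfold constantSheaf
  infer_instance

end Const

section Alg

/-- lift a homomorphism to `ULift`s -/
def upHom {M N : Type} [AddCommGroup M] [AddCommGroup N] (g : M →+ N) :
    ULift.{u + 1} M →+ ULift.{u + 1} N :=
  AddEquiv.ulift.symm.toAddMonoidHom.comp (g.comp AddEquiv.ulift.toAddMonoidHom)

@[simp] lemma upHom_apply {M N : Type} [AddCommGroup M] [AddCommGroup N] (g : M →+ N)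
    (m : ULift.{u + 1} M) : upHom g m = ULift.up (g m.down) := rfl

/-- short exact sequence of `ULift`ed groups -/
theorem shortExact_up {M N Q : Type} [AddCommGroup M] [AddCommGroup N] [AddCommGroup Q]
    (f : M →+ N) (g : N →+ Q) (hf : Function.Injective f) (hg : Function.Surjective g)
    (hfg : ∀ n, g n = 0 ↔ ∃ m, f m = n) :
    ∃ (w : AddCommGrpCat.ofHom (upHom.{u} f) ≫ AddCommGrpCat.ofHom (upHom.{u} g) = 0),
      (ShortComplex.mk _ _ w).ShortExact := by
  have w : AddCommGrpCat.ofHom (upHom.{u} f) ≫ AddCommGrpCat.ofHom (upHom.{u} g) = 0 := by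
    apply AddCommGrpCat.hom_ext
    ext m
    change g (f m.down) = 0
    exact (hfg _).2 ⟨_, rfl⟩
  refine ⟨w, ?_⟩
  haveI : Mono (AddCommGrpCat.ofHom (upHom.{u} f)) := by
    rw [AddCommGrpCat.mono_iff_injective]
    intro a b hab
    have := congrArg ULift.down hab
    exact ULift.ext _ _ (hf this)
  haveI : Epi (AddCommGrpCat.ofHom (upHom.{u} g)) := by
    rw [AddCommGrpCat.epi_iff_surjective]
    intro q
    obtain ⟨n, hn⟩ := hg q.down
    exact ⟨ULift.up n, ULift.ext _ _ hn⟩
  refine ShortComplex.ShortExact.mk ?_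
  rw [ShortComplex.ab_exact_iff]
  intro x hx
  have hx' : g x.down = 0 := congrArg ULift.down hx
  obtain ⟨m, hm⟩ := (hfg _).1 hx'
  exact ⟨ULift.up m, ULift.ext _ _ hm⟩

/-- in a nontrivial finite `ℓ`-primary group, there is an element of order exactly `ℓ` -/
theorem exists_order_eq {M : Type} [AddCommGroup M] (ℓ : ℕ)
    (ht : ∀ m : M, ∃ k : ℕ, (ℓ ^ k) • m = 0) (m : M) (hm : m ≠ 0) :
    ∃ y : M, y ≠ 0 ∧ ℓ • y = 0 := by
  classical
  have hex := ht m
  let k := Nat.find hex
  have hk : (ℓ ^ k) • m = 0 := Nat.find_spec hex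
  have hk0 : k ≠ 0 := by
    intro h0
    rw [h0, pow_zero, one_smul] at hk
    exact hm hk
  obtain ⟨k', hk'⟩ : ∃ k', k = k' + 1 := ⟨k - 1, by omega⟩
  refine ⟨(ℓ ^ k') • m, ?_, ?_⟩
  · intro h
    have := Nat.find_min hex (m := k') (by omega)
    exact this h
  · rw [← mul_smul, ← pow_succ', ← hk']
    exact hk

end Alg

section Dev

/-- right derived functors kill zero objects -/
theorem isZero_rightDerived_of_isZero {A : Type*} [Category A] [Abelian A] [HasInjectiveResolutions A]
    {B : Type*} [Category B] [Abelian B] (F : A ⥤ B) [F.Additive] (Z : A) (hZ : IsZero Z) (p : ℕ) :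
    IsZero ((F.rightDerived p).obj Z) := by
  haveI : Injective Z := hZ.injective
  cases p with
  | zero => exact (Functor.map_isZero F hZ).of_iso (asIso (F.toRightDerivedZero.app Z)).symm
  | succ p => exact Functor.isZero_rightDerived_obj_injective_succ F p Z

variable {X U : Scheme.{u}} (j : U ⟶ X) [EtCoh.BCCont j]

/-- the map of constant sheaves induced by a homomorphism -/
noncomputable def constMap {M N : Type} [AddCommGroup M] [AddCommGroup N] (g : M →+ N) :
    EtCoh.const X M ⟶ EtCoh.const X N :=
  (constantSheaf X.smallEtaleTopology AddCommGrpCat.{u + 1}).map (AddCommGrpCat.ofHom (upHom.{u} g))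

/-- middle vanishing from outer vanishing -/
theorem isZero_mid {M N Q : Type} [AddCommGroup M] [AddCommGroup N] [AddCommGroup Q]
    (f : M →+ N) (g : N →+ Q) (hf : Function.Injective f) (hg : Function.Surjective g)
    (hfg : ∀ n, g n = 0 ↔ ∃ m, f m = n) (p : ℕ)
    (h1 : IsZero ((EtDual.locCoh j p).obj (EtCoh.const X M)))
    (h3 : IsZero ((EtDual.locCoh j p).obj (EtCoh.const X Q))) :
    IsZero ((EtDual.locCoh j p).obj (EtCoh.const X N)) := by
  obtain ⟨w, hS⟩ := shortExact_up.{u} f g hf hg hfg
  have hS' := hS.map_of_exact (constantSheaf X.smallEtaleTopology AddCommGrpCat.{u + 1})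
  have hex := Groth.Agent.H2.RDer.LES.exact₂ (EtDual.secSupp j) hS' p
  exact hex.isZero_of_both_zeros (h1.eq_of_src _ _) (h3.eq_of_tgt _ _)

/-- dévissage: depth of a constant sheaf with finite `ℓ`-primary value group -/
theorem depth_const_of_prime (ℓ : ℕ) (hℓ : ℓ.Prime) (n : ℕ)
    (h0 : ∀ p : ℕ, p < n → IsZero ((EtDual.locCoh j p).obj (EtCoh.const X (ZMod ℓ)))) :
    ∀ (N : ℕ) (M : Type) [AddCommGroup M] [Finite M], Nat.card M ≤ N →
      (∀ m : M, ∃ k : ℕ, (ℓ ^ k) • m = 0) →
      ∀ p : ℕ, p < n → IsZero ((EtDual.locCoh j p).obj (EtCoh.const X M)) := by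
  intro N
  induction N with
  | zero =>
    intro M _ _ hc
    have := Nat.card_pos (α := M)
    omega
  | succ N ih =>
    intro M _ _ hc ht p hp
    by_cases hsub : Subsingleton M
    · have hz : IsZero (AddCommGrpCat.of (ULift.{u + 1} M)) := by
        haveI : Subsingleton (ULift.{u + 1} M) := ⟨fun a b => ULift.ext _ _ (Subsingleton.elim _ _)⟩
        exact AddCommGrpCat.isZero_of_subsingleton _
      have hz2 : IsZero (EtCoh.const X M) :=
        Functor.map_isZero (constantSheaf X.smallEtaleTopology AddCommGrpCat.{u + 1}) hz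
      exact isZero_rightDerived_of_isZero (EtDual.secSupp j) _ hz2 p
    · rw [not_subsingleton_iff_nontrivial] at hsub
      obtain ⟨m, hm⟩ := exists_ne (0 : M)
      obtain ⟨y, hy0, hy⟩ := exists_order_eq ℓ ht m hm
      haveI : NeZero ℓ := ⟨hℓ.ne_zero⟩
      let f0 : {f : ℤ →+ M // f ℓ = 0} := ⟨zmultiplesHom M y, by
        change (ℓ : ℤ) • y = 0
        rw [natCast_zsmul]; exact hy⟩
      let f : ZMod ℓ →+ M := ZMod.lift ℓ f0
      have hf : Function.Injective f := by
        rw [ZMod.lift_injective]
        intro a ha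
        change a • y = 0 at ha
        rw [ZMod.intCast_zmod_eq_zero_iff_dvd]
        have hord : addOrderOf y = ℓ := by
          have hd : addOrderOf y ∣ ℓ := addOrderOf_dvd_of_nsmul_eq_zero hy
          rcases (Nat.dvd_prime hℓ).1 hd with h1 | h1
          · exact absurd (AddMonoid.addOrderOf_eq_one_iff.1 h1) hy0
          · exact h1
        rw [← hord]
        exact (addOrderOf_dvd_iff_zsmul_eq_zero).2 ha
      let H : AddSubgroup M := f.range
      let g : M →+ M ⧸ H := QuotientAddGroup.mk' H
      have hg : Function.Surjective g := QuotientAddGroup.mk'_surjective H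
      have hfg : ∀ x, g x = 0 ↔ ∃ a, f a = x := by
        intro x
        change (QuotientAddGroup.mk x : M ⧸ H) = 0 ↔ _
        rw [QuotientAddGroup.eq_zero_iff]
        exact AddMonoidHom.mem_range
      have hcard : Nat.card (M ⧸ H) ≤ N := by
        have h1 := AddSubgroup.card_eq_card_quotient_mul_card_addSubgroup H
        have h2 : 2 ≤ Nat.card H := by
          have hf1 : f 1 = y := by
            have h := ZMod.lift_coe ℓ f0 1
            simpa [f0] using h
          have : Nontrivial H := ⟨⟨⟨y, ⟨1, hf1⟩⟩, 0, by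
            intro h
            exact hy0 (congrArg Subtype.val h)⟩⟩
          exact Finite.one_lt_card
        have h3 := Nat.card_pos (α := M ⧸ H)
        nlinarith
      have htQ : ∀ q : M ⧸ H, ∃ k : ℕ, (ℓ ^ k) • q = 0 := by
        intro q
        obtain ⟨x, rfl⟩ := hg q
        obtain ⟨k, hk⟩ := ht x
        exact ⟨k, by rw [← map_nsmul, hk, map_zero]⟩
      exact isZero_mid j f g hf hg hfg p (h0 p hp) (ih (M ⧸ H) hcard htQ p hp)

end Dev

end Groth.Agent.H7.FLC
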