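import Mathlib

/-!
# Helper7: MuN1 — roots of unity in a ring containing a root of the cyclotomic polynomial
-/

set_option autoImplicit false

open Polynomial

namespace Groth.Agent.H7.MuN

section Universal

variable (n : ℕ)

/-- the universal ring with a root of `Φ_n` -/
abbrev B : Type := AdjoinRoot (cyclotomic n ℤ)

theorem prime_cyclotomic (hn : 0 < n) : Prime (cyclotomic n ℤ) :=
  (cyclotomic.irreducible hn).prime

instance isDomain_B [hn : NeZero n] : IsDomain (B n) :=
  AdjoinRoot.isDomain_of_prime (prime_cyclotomic n (Nat.pos_of_ne_zero hn.out))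

theorem injective_of_B (hn : 0 < n) : Function.Injective (AdjoinRoot.of (cyclotomic n ℤ)) := by
  apply AdjoinRoot.of.injective_of_degree_ne_zero
  rw [degree_cyclotomic]
  intro h
  have : (Nat.totient n : WithBot ℕ) = (0 : ℕ) := h
  have h2 : Nat.totient n = 0 := by exact_mod_cast this
  exact (Nat.totient_pos.2 hn).ne' h2

instance charZero_B [hn : NeZero n] : CharZero (B n) := by
  have hinj := injective_of_B n (Nat.pos_of_ne_zero hn.out)
  refine ⟨fun a b h => ?_⟩
  have h1 : AdjoinRoot.of (cyclotomic n ℤ) (a : ℤ) = AdjoinRoot.of (cyclotomic n ℤ) (b : ℤ) := by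
    simpa using h
  exact_mod_cast hinj h1

theorem isPrimitiveRoot_root [hn : NeZero n] :
    IsPrimitiveRoot (AdjoinRoot.root (cyclotomic n ℤ)) n := by
  rw [← isRoot_cyclotomic_iff_charZero (Nat.pos_of_ne_zero hn.out), ← map_cyclotomic_int n (B n)]
  rw [IsRoot.def, eval_map]
  exact AdjoinRoot.eval₂_root _

end Universal

section Ring

variable {R : Type*} [CommRing R] {n : ℕ} (hn : 1 ≤ n) (ζ : R)
  (hζ : aeval ζ (cyclotomic n ℤ) = 0)

/-- the classifying map of a root of `Φ_n` -/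
noncomputable def cls : B n →+* R :=
  AdjoinRoot.lift (Int.castRingHom R) ζ (by
    rw [← hζ, aeval_def, algebraMap_int_eq])

theorem cls_root : cls ζ hζ (AdjoinRoot.root (cyclotomic n ℤ)) = ζ := by
  unfold cls
  exact AdjoinRoot.lift_root _

include hn hζ in
theorem X_pow_sub_one_eq_prod :
    (X ^ n - 1 : R[X]) = ∏ i ∈ Finset.range n, (X - C (ζ ^ i)) := by
  haveI : NeZero n := ⟨by omega⟩
  have h := X_pow_sub_C_eq_prod (isPrimitiveRoot_root n) (by omega : 0 < n) (one_pow n)
  have h2 := congrArg (Polynomial.map (cls ζ hζ)) h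
  simp only [Polynomial.map_sub, Polynomial.map_pow, map_X, map_C, map_pow,
    Polynomial.map_prod, map_one, mul_one, cls_root, Polynomial.map_one] at h2
  simpa using h2

include hn hζ in
theorem pow_sub_one_eq_prod (a : R) :
    a ^ n - 1 = ∏ i ∈ Finset.range n, (a - ζ ^ i) := by
  have h := congrArg (Polynomial.eval a) (X_pow_sub_one_eq_prod hn ζ hζ)
  simpa [eval_prod] using h

include hn hζ in
theorem pow_eq_one : ζ ^ n = 1 := by
  haveI : NeZero n := ⟨by omega⟩
  have h := (isPrimitiveRoot_root n).pow_eq_one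
  have h2 := congrArg (cls ζ hζ) h
  simpa [cls_root] using h2

include hn hζ in
theorem prod_one_sub_pow : ∏ k ∈ Finset.range (n - 1), (1 - ζ ^ (k + 1)) = (n : R) := by
  obtain ⟨m, rfl⟩ : ∃ m, n = m + 1 := ⟨n - 1, by omega⟩
  haveI : NeZero (m + 1) := ⟨by omega⟩
  have h := (isPrimitiveRoot_root (m + 1)).prod_one_sub_pow_eq_order
  have h2 := congrArg (cls ζ hζ) h
  simpa [cls_root] using h2

include hn hζ in
theorem isUnit_one_sub_pow (hu : IsUnit (n : R)) (m : ℕ) (h0 : 0 < m) (hm : m < n) :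
    IsUnit (1 - ζ ^ m) := by
  have h := prod_one_sub_pow hn ζ hζ
  rw [← h] at hu
  have h3 : (1 - ζ ^ m) ∣ ∏ k ∈ Finset.range (n - 1), (1 - ζ ^ (k + 1)) := by
    have hmem : m - 1 ∈ Finset.range (n - 1) := by
      rw [Finset.mem_range]; omega
    have := Finset.dvd_prod_of_mem (fun k => (1 - ζ ^ (k + 1))) hmem
    have e : m - 1 + 1 = m := by omega
    simpa [e] using this
  exact isUnit_of_dvd_unit h3 hu

include hn hζ in
theorem isUnit_zeta : IsUnit ζ := by
  have h := pow_eq_one hn ζ hζ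
  exact IsUnit.of_pow_eq_one h (by omega)

include hn hζ in
theorem isUnit_pow_sub_pow (hu : IsUnit (n : R)) (k l : ℕ) (hk : k < n) (hl : l < n) (hkl : k ≠ l) :
    IsUnit (ζ ^ k - ζ ^ l) := by
  have hz := isUnit_zeta hn ζ hζ
  rcases Nat.lt_or_gt_of_ne hkl with h | h
  · -- k < l : ζ^k - ζ^l = ζ^k (1 - ζ^(l-k))
    have e : ζ ^ k - ζ ^ l = ζ ^ k * (1 - ζ ^ (l - k)) := by
      rw [mul_sub, mul_one, ← pow_add]; congr 2; omega
    rw [e]
    exact (hz.pow k).mul (isUnit_one_sub_pow hn ζ hζ hu (l - k) (by omega) (by omega))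
  · have e : ζ ^ k - ζ ^ l = -(ζ ^ l * (1 - ζ ^ (k - l))) := by
      rw [mul_sub, mul_one, ← pow_add, neg_sub]; congr 2; omega
    rw [e]
    exact ((hz.pow l).mul (isUnit_one_sub_pow hn ζ hζ hu (k - l) (by omega) (by omega))).neg

include hn hζ in
/-- local description of `n`-th roots of unity at a prime -/
theorem exists_local_eq (hu : IsUnit (n : R)) (a : R) (ha : a ^ n = 1) (p : Ideal R) [hp : p.IsPrime] :
    ∃ k < n, ∃ g : R, g ∉ p ∧ g * (a - ζ ^ k) = 0 := by
  classical
  have hprod := pow_sub_one_eq_prod hn ζ hζ a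
  rw [ha, sub_self] at hprod
  have hmem : ∏ i ∈ Finset.range n, (a - ζ ^ i) ∈ p := by rw [← hprod]; exact p.zero_mem
  obtain ⟨k, hk, hkp⟩ := (hp.prod_mem_iff).1 hmem
  rw [Finset.mem_range] at hk
  refine ⟨k, hk, ∏ i ∈ (Finset.range n).erase k, (a - ζ ^ i), ?_, ?_⟩
  · intro hg
    obtain ⟨l, hl, hlp⟩ := (hp.prod_mem_iff).1 hg
    rw [Finset.mem_erase, Finset.mem_range] at hl
    have hd : ζ ^ l - ζ ^ k ∈ p := by
      have : ζ ^ l - ζ ^ k = (a - ζ ^ k) - (a - ζ ^ l) := by ring
      rw [this]; exact p.sub_mem hkp hlp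
    exact hp.ne_top (p.eq_top_of_isUnit_mem hd (isUnit_pow_sub_pow hn ζ hζ hu l k hl.2 hk hl.1))
  · rw [mul_comm, Finset.mul_prod_erase _ (fun i => a - ζ ^ i) (Finset.mem_range.2 hk), ← hprod]

include hn hζ in
/-- distinct exponents give distinct powers in a nontrivial ring -/
theorem subsingleton_of_pow_eq (hu : IsUnit (n : R)) (k l : ℕ) (hk : k < n) (hl : l < n) (hkl : k ≠ l)
    (h : ζ ^ k = ζ ^ l) : Subsingleton R := by
  have h1 := isUnit_pow_sub_pow hn ζ hζ hu k l hk hl hkl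
  rw [h, sub_self] at h1
  exact subsingleton_of_zero_eq_one (isUnit_zero_iff.1 h1)

end Ring

end Groth.Agent.H7.MuN
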