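import Mathlib
import Groth.Prelude.Def_EtBase
import Groth.Prelude.Def_EtGm
import Groth.Agent.Lib.Helper7.Kum1
import Groth.Agent.Lib.Helper7.MuN1
import Groth.Agent.Lib.Helper7.ES12

/-!
# Helper7: MuN2 — `μ_n ≅ ℤ/n` on the small étale site when a root of `Φ_n` exists
-/

set_option autoImplicit false

open CategoryTheory Limits AlgebraicGeometry Opposite

namespace Groth.Agent.H7.MuN

universe u

theorem isUnit_of_basicOpen_eq_top (X : Scheme.{u}) (f : Γ(X, ⊤)) (h : X.basicOpen f = ⊤) :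
    IsUnit f := by
  refine RingedSpace.isUnit_of_isUnit_germ X.toRingedSpace ⊤ f (fun x hx => ?_)
  have hx' : x ∈ X.basicOpen f := by rw [h]; trivial
  exact (X.mem_basicOpen_top f x).1 hx'

section Setup

variable {S : Scheme.{u}} {n : ℕ} (hn : 1 ≤ n) (hunit : IsUnit (n : Γ(S, ⊤))) (ζ : Γ(S, ⊤))
  (hζ : Polynomial.aeval ζ (Polynomial.cyclotomic n ℤ) = 0)

/-- restriction of `ζ` to an étale `U` -/
noncomputable def zetaOn (U : S.Etale) : Γ(U.left, ⊤) := U.hom.appTop.hom ζ

include hζ in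
theorem zetaOn_root (U : S.Etale) :
    Polynomial.aeval (zetaOn ζ U) (Polynomial.cyclotomic n ℤ) = 0 := by
  have h := Polynomial.aeval_algHom_apply (U.hom.appTop.hom.toIntAlgHom) ζ
    (Polynomial.cyclotomic n ℤ)
  have h2 : (U.hom.appTop.hom.toIntAlgHom) ζ = zetaOn ζ U := rfl
  rw [h2] at h
  rw [h, hζ, map_zero]

include hunit in
theorem isUnit_n_on (U : S.Etale) : IsUnit (n : Γ(U.left, ⊤)) := by
  have h := hunit.map U.hom.appTop.hom
  rwa [map_natCast] at h

theorem zetaOn_map {U V : S.Etale} (p : V ⟶ U) :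
    p.left.appTop.hom (zetaOn ζ U) = zetaOn ζ V := by
  have hw : p.left ≫ U.hom = V.hom := MorphismProperty.Over.w p
  have h2 : (p.left ≫ U.hom).appTop = V.hom.appTop := by rw [hw]
  rw [Scheme.Hom.comp_appTop] at h2
  exact ConcreteCategory.congr_hom h2 ζ

/-- the unit `ζ|_U` -/
noncomputable def zU (U : S.Etale) : Γ(U.left, ⊤)ˣ :=
  (isUnit_zeta hn (zetaOn ζ U) (zetaOn_root ζ hζ U)).unit

theorem zU_val (U : S.Etale) : ((zU hn ζ hζ U : Γ(U.left, ⊤)ˣ) : Γ(U.left, ⊤)) = zetaOn ζ U :=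
  IsUnit.unit_spec _

theorem zU_map {U V : S.Etale} (p : V ⟶ U) :
    Units.map p.left.appTop.hom.toMonoidHom (zU hn ζ hζ U) = zU hn ζ hζ V := by
  apply Units.ext
  rw [Units.coe_map, zU_val, zU_val]
  exact zetaOn_map ζ p

theorem zU_pow_n (U : S.Etale) : (zU hn ζ hζ U) ^ n = 1 := by
  apply Units.ext
  rw [Units.val_pow_eq_pow_val, zU_val, Units.val_one]
  exact pow_eq_one hn _ (zetaOn_root ζ hζ U)

/-- the section `ζ|_U` of `G_m` -/
noncomputable def gU (U : S.Etale) : (EtCoh.Gm S).obj.obj (op U) := Kum.toGm U (zU hn ζ hζ U)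

theorem nsmul_toGm (U : S.Etale) (a : Γ(U.left, ⊤)ˣ) (m : ℕ) :
    m • Kum.toGm U a = Kum.toGm U (a ^ m) := rfl

theorem toGm_injective (U : S.Etale) : Function.Injective (Kum.toGm (X := S) U) := by
  intro a b h
  have := congrArg (Kum.ofGm U) h
  exact this

theorem toGm_one (U : S.Etale) : Kum.toGm (X := S) U 1 = 0 := rfl

/-- the group homomorphism `ℤ/n → G_m(U)`, `k ↦ ζ^k` -/
noncomputable def homU (U : S.Etale) : ULift.{u + 1} (ZMod n) →+ (EtCoh.Gm S).obj.obj (op U) :=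
  (ZMod.lift n ⟨zmultiplesHom _ (gU hn ζ hζ U), by
    rw [zmultiplesHom_apply, natCast_zsmul]
    unfold gU
    rw [nsmul_toGm, zU_pow_n, toGm_one]⟩).comp AddEquiv.ulift.toAddMonoidHom

theorem homU_intCast (U : S.Etale) (m : ℤ) :
    homU hn ζ hζ U (ULift.up (m : ZMod n)) = m • gU hn ζ hζ U := by
  unfold homU
  rw [AddMonoidHom.comp_apply]
  change (ZMod.lift n _) (m : ZMod n) = _
  rw [ZMod.lift_coe]
  rfl

include hn in
theorem homU_apply (U : S.Etale) (a : ZMod n) :
    homU hn ζ hζ U (ULift.up a) = Kum.toGm U ((zU hn ζ hζ U) ^ a.val) := by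
  haveI : NeZero n := ⟨by omega⟩
  have h := homU_intCast hn ζ hζ U (a.val : ℤ)
  rw [Int.cast_natCast, ZMod.natCast_zmod_val, natCast_zsmul] at h
  rw [h]
  rfl

/-- the constant presheaf `ℤ/n` -/
noncomputable abbrev P (S : Scheme.{u}) (n : ℕ) : S.Etaleᵒᵖ ⥤ AddCommGrpCat.{u + 1} :=
  (Functor.const _).obj (AddCommGrpCat.of (ULift.{u + 1} (ZMod n)))

/-- the presheaf map `ℤ/n → G_m` -/
noncomputable def chi0 : P S n ⟶ (EtCoh.Gm S).obj where
  app U := AddCommGrpCat.ofHom (homU hn ζ hζ U.unop)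
  naturality U V f := by
    apply AddCommGrpCat.hom_ext
    apply AddMonoidHom.ext
    rintro ⟨a⟩
    obtain ⟨m, rfl⟩ := ZMod.intCast_surjective a
    change homU hn ζ hζ V.unop (ULift.up (m : ZMod n)) =
      (EtCoh.Gm S).obj.map f (homU hn ζ hζ U.unop (ULift.up (m : ZMod n)))
    rw [homU_intCast, homU_intCast]
    have h1 : (EtCoh.Gm S).obj.map f (m • gU hn ζ hζ U.unop) =
        m • (EtCoh.Gm S).obj.map f (gU hn ζ hζ U.unop) :=
      map_zsmul ((EtCoh.Gm S).obj.map f).hom m _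
    rw [h1]
    congr 1
    have h2 := Kum.Gm_map_toGm (X := S) f.unop (zU hn ζ hζ U.unop)
    rw [zU_map] at h2
    exact h2.symm

theorem chi0_app (U : S.Etale) (a : ZMod n) :
    (chi0 hn ζ hζ).app (op U) (ULift.up a) = Kum.toGm U ((zU hn ζ hζ U) ^ a.val) :=
  homU_apply hn ζ hζ U a

include hunit in
theorem isLocallyInjective_chi0 :
    Presheaf.IsLocallyInjective S.smallEtaleTopology (chi0 hn ζ hζ) := by
  haveI : NeZero n := ⟨by omega⟩
  refine ⟨fun {U} x y h => ?_⟩
  obtain ⟨a⟩ := x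
  obtain ⟨b⟩ := y
  by_cases hab : a = b
  · subst hab
    rw [Presheaf.equalizerSieve_self_eq_top]
    exact S.smallEtaleTopology.top_mem _
  · have h1 : (chi0 hn ζ hζ).app (op U.unop) (ULift.up a) =
        (chi0 hn ζ hζ).app (op U.unop) (ULift.up b) := h
    rw [chi0_app, chi0_app] at h1
    have h2 := congrArg Units.val (toGm_injective U.unop h1)
    rw [Units.val_pow_eq_pow_val, Units.val_pow_eq_pow_val, zU_val] at h2
    haveI : Subsingleton Γ(U.unop.left, ⊤) :=
      subsingleton_of_pow_eq hn (zetaOn ζ U.unop) (zetaOn_root ζ hζ U.unop)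
        (isUnit_n_on hunit U.unop) a.val b.val (ZMod.val_lt a) (ZMod.val_lt b)
        (fun hv => hab (ZMod.val_injective n hv)) h2
    haveI : IsEmpty U.unop.left := Kum.isEmpty_of_subsingleton_Γ _
    exact ES.sieve_mem_of_jointly_surjective _ (fun x => isEmptyElim x)

/-- the map `ℤ/n → G_m` of sheaves, on underlying presheaves -/
noncomputable def chiHom : sheafify S.smallEtaleTopology (P S n) ⟶ (EtCoh.Gm S).obj :=
  sheafifyLift S.smallEtaleTopology (chi0 hn ζ hζ) (EtCoh.Gm S).2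

theorem toSheafify_chiHom :
    toSheafify S.smallEtaleTopology (P S n) ≫ chiHom hn ζ hζ = chi0 hn ζ hζ :=
  toSheafify_sheafifyLift _ _ _

include hunit in
theorem isLocallyInjective_chiHom :
    Presheaf.IsLocallyInjective S.smallEtaleTopology (chiHom hn ζ hζ) := by
  haveI := isLocallyInjective_chi0 hn hunit ζ hζ
  haveI : Presheaf.IsLocallySurjective S.smallEtaleTopology
      (toSheafify S.smallEtaleTopology (P S n)) :=
    Presheaf.isLocallySurjective_toSheafify' S.smallEtaleTopology (P S n)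
  exact Presheaf.isLocallyInjective_of_isLocallyInjective_of_isLocallySurjective_fac
      S.smallEtaleTopology (chi0 hn ζ hζ) (toSheafify_chiHom hn ζ hζ)

/-- the map `ℤ/n → G_m` of sheaves -/
noncomputable def chi : EtCoh.const S (ZMod n) ⟶ EtCoh.Gm S :=
  ⟨chiHom hn ζ hζ⟩

theorem toSheafify_chi :
    toSheafify S.smallEtaleTopology (P S n) ≫ (chi hn ζ hζ).hom = chi0 hn ζ hζ :=
  toSheafify_sheafifyLift _ _ _

include hunit in
theorem mono_chi : Mono (chi hn ζ hζ) := by
  haveI : Sheaf.IsLocallyInjective (chi hn ζ hζ) := isLocallyInjective_chiHom hn hunit ζ hζ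
  exact Sheaf.mono_of_isLocallyInjective _

theorem chi_powMap : chi hn ζ hζ ≫ EtCoh.powMap S n = 0 := by
  have hz : chi0 hn ζ hζ ≫ (EtCoh.powMap S n).hom = 0 := by
    ext U ⟨a⟩
    change (EtCoh.powMap S n).hom.app (op U.unop) ((chi0 hn ζ hζ).app (op U.unop) (ULift.up a)) = 0
    rw [chi0_app, Kum.powMap_toGm, ← pow_mul, mul_comm, pow_mul, zU_pow_n, one_pow]
    rfl
  apply Sheaf.hom_ext
  refine sheafify_hom_ext S.smallEtaleTopology (P := P S n) _ _ (EtCoh.Gm S).2 ?_
  have e1 : toSheafify S.smallEtaleTopology (P S n) ≫ (chi hn ζ hζ ≫ EtCoh.powMap S n).hom =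
      (toSheafify S.smallEtaleTopology (P S n) ≫ (chi hn ζ hζ).hom) ≫ (EtCoh.powMap S n).hom :=
    (Category.assoc _ _ _).symm
  have e2 : toSheafify S.smallEtaleTopology (P S n) ≫
      (0 : EtCoh.const S (ZMod n) ⟶ EtCoh.Gm S).hom = 0 := comp_zero
  refine e1.trans (Eq.trans ?_ e2.symm)
  rw [toSheafify_chi]
  exact hz

/-- the comparison `ℤ/n → μ_n` -/
noncomputable def psi : EtCoh.const S (ZMod n) ⟶ EtCoh.mu S n :=
  kernel.lift (EtCoh.powMap S n) (chi hn ζ hζ) (chi_powMap hn ζ hζ)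

theorem psi_muι : psi hn ζ hζ ≫ EtCoh.muι S n = chi hn ζ hζ :=
  kernel.lift_ι _ _ _

include hunit in
theorem mono_psi : Mono (psi hn ζ hζ) := by
  haveI := mono_chi hn hunit ζ hζ
  haveI : Mono (psi hn ζ hζ ≫ EtCoh.muι S n) := by rw [psi_muι]; infer_instance
  exact mono_of_mono (psi hn ζ hζ) (EtCoh.muι S n)

theorem muι_injective (U : S.Etale) :
    Function.Injective ((EtCoh.muι S n).hom.app (op U)) := by
  haveI : Mono (EtCoh.muι S n) := inferInstanceAs (Mono (kernel.ι _))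
  haveI : Mono (EtCoh.muι S n).hom := (sheafToPresheaf _ _).map_mono (EtCoh.muι S n)
  haveI : Mono ((EtCoh.muι S n).hom.app (op U)) := inferInstance
  exact (AddCommGrpCat.mono_iff_injective _).1 inferInstance

theorem muι_pow (U : S.Etale) (t : (EtCoh.mu S n).obj.obj (op U)) :
    (Kum.ofGm U ((EtCoh.muι S n).hom.app (op U) t)) ^ n = 1 := by
  have h : EtCoh.muι S n ≫ EtCoh.powMap S n = 0 := kernel.condition _
  have h1 : (EtCoh.powMap S n).hom.app (op U) ((EtCoh.muι S n).hom.app (op U) t) = 0 := by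
    have h2 := congrArg (fun φ => φ.hom.app (op U)) h
    exact ConcreteCategory.congr_hom h2 t
  rw [← Kum.toGm_ofGm U ((EtCoh.muι S n).hom.app (op U) t), Kum.powMap_toGm] at h1
  exact toGm_injective U h1

include hunit in
theorem epi_psi : Epi (psi hn ζ hζ) := by
  haveI : NeZero n := ⟨by omega⟩
  refine Kum.epi_of_forall_exists _ (fun U t x => ?_)
  let s := (EtCoh.muι S n).hom.app (op U) t
  let a : Γ(U.left, ⊤)ˣ := Kum.ofGm U s
  have ha : a ^ n = 1 := muι_pow U t
  have ha' : (a : Γ(U.left, ⊤)) ^ n = 1 := by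
    rw [← Units.val_pow_eq_pow_val, ha, Units.val_one]
  let germ : Γ(U.left, ⊤) →+* U.left.presheaf.stalk x := (U.left.presheaf.germ ⊤ x trivial).hom
  let p : Ideal Γ(U.left, ⊤) := (IsLocalRing.maximalIdeal (U.left.presheaf.stalk x)).comap germ
  haveI : p.IsPrime := Ideal.comap_isPrime _ _
  obtain ⟨k, hk, g, hg, hgk⟩ := exists_local_eq hn (zetaOn ζ U) (zetaOn_root ζ hζ U)
    (isUnit_n_on hunit U) (a : Γ(U.left, ⊤)) ha' p
  have hxg : x ∈ U.left.basicOpen g := by
    rw [Scheme.mem_basicOpen_top]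
    by_contra hnu
    exact hg ((IsLocalRing.mem_maximalIdeal _).2 hnu)
  let W : U.left.Opens := U.left.basicOpen g
  haveI : Etale U.hom := U.prop
  let V : S.Etale := Scheme.Etale.mk (W.ι ≫ U.hom)
  let q : V ⟶ U := MorphismProperty.Over.homMk W.ι rfl
  let φ : Γ(U.left, ⊤) →+* Γ(V.left, ⊤) := q.left.appTop.hom
  have hφg : IsUnit (φ g) := by
    apply isUnit_of_basicOpen_eq_top
    exact (Scheme.preimage_basicOpen_top W.ι g).symm.trans (Scheme.Opens.ι_preimage_self W)
  have heq : φ (a : Γ(U.left, ⊤)) = (zetaOn ζ V) ^ k := by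
    have h1 := congrArg φ hgk
    rw [map_mul, map_zero, map_sub, map_pow] at h1
    have h2 := (hφg.mul_right_eq_zero).1 h1
    have h3 : φ (zetaOn ζ U) = zetaOn ζ V := zetaOn_map ζ q
    rw [h3] at h2
    exact sub_eq_zero.1 h2
  refine ⟨V, q, ⟨x, hxg⟩,
    (toSheafify S.smallEtaleTopology (P S n)).app (op V) (ULift.up (k : ZMod n)), rfl, ?_⟩
  apply muι_injective V
  have hL : (EtCoh.muι S n).hom.app (op V) ((psi hn ζ hζ).hom.app (op V)
      ((toSheafify S.smallEtaleTopology (P S n)).app (op V) (ULift.up (k : ZMod n)))) =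
      Kum.toGm V ((zU hn ζ hζ V) ^ k) := by
    have e1 : (psi hn ζ hζ).hom ≫ (EtCoh.muι S n).hom = (chi hn ζ hζ).hom :=
      congrArg (fun f => f.hom) (psi_muι hn ζ hζ)
    have e2 := ConcreteCategory.congr_hom (congrArg (fun f => f.app (op V)) e1)
      ((toSheafify S.smallEtaleTopology (P S n)).app (op V) (ULift.up (k : ZMod n)))
    have e3' : (toSheafify S.smallEtaleTopology (P S n)).app (op V) ≫
        (chi hn ζ hζ).hom.app (op V) = (chi0 hn ζ hζ).app (op V) :=
      congrArg (fun f => f.app (op V)) (toSheafify_chi hn ζ hζ)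
    have e3 : (chi hn ζ hζ).hom.app (op V)
        ((toSheafify S.smallEtaleTopology (P S n)).app (op V) (ULift.up (k : ZMod n))) =
        (chi0 hn ζ hζ).app (op V) (ULift.up (k : ZMod n)) :=
      ConcreteCategory.congr_hom e3' _
    refine e2.trans (e3.trans ?_)
    rw [chi0_app, ZMod.val_natCast_of_lt hk]
  have hR : (EtCoh.muι S n).hom.app (op V) ((EtCoh.mu S n).obj.map q.op t) =
      Kum.toGm V (Units.map q.left.appTop.hom.toMonoidHom a) := by
    have e1 := (EtCoh.muι S n).hom.naturality q.op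
    have e2 := ConcreteCategory.congr_hom e1 t
    refine e2.trans ?_
    exact Kum.Gm_map_toGm q a
  rw [hL, hR]
  congr 1
  apply Units.ext
  rw [Units.val_pow_eq_pow_val, zU_val, Units.coe_map]
  exact heq.symm

include hn hunit hζ in
theorem S13507_main : Nonempty (EtCoh.mu S n ≅ EtCoh.const S (ZMod n)) := by
  haveI := mono_psi hn hunit ζ hζ
  haveI := epi_psi hn hunit ζ hζ
  haveI : IsIso (psi hn ζ hζ) := isIso_of_mono_of_epi _
  exact ⟨(asIso (psi hn ζ hζ)).symm⟩

end Setup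

end Groth.Agent.H7.MuN
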