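import Mathlib
import Groth.Prelude.Def_EtDual
import Groth.Prelude.Def_EtTens2
import Groth.Agent.Lib.Helper7.ES1
import Groth.Agent.Lib.Helper7.XC1

set_option autoImplicit false

universe u

open CategoryTheory CategoryTheory.Limits Opposite AlgebraicGeometry

namespace Groth.Agent.H7.SP

open Groth.Agent.H7.ES Groth.Agent.H7.XC EtShriek

attribute [local instance] jCont_of_etale

variable {X' X : Scheme.{u}} (f : X' ⟶ X) [hf : AlgebraicGeometry.Etale f]

instance compEtale_isCocontinuous :
    (compEtale f).IsCocontinuous X'.smallEtaleTopology X.smallEtaleTopology :=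
  ((compBcAdj f).isCocontinuous_iff_coverPreserving _ _).2 (EtCoh.coverPreserving_bc f)

instance restrAlong_additive : (restrAlong f).Additive :=
  (restrPushAdj f).left_adjoint_additive

instance restrAlong_preservesFiniteLimits : PreservesFiniteLimits (restrAlong f) := by
  haveI : PreservesLimitsOfSize.{0, 0} (restrAlong f) :=
    (extZeroAdj f).rightAdjoint_preservesLimits
  exact PreservesLimitsOfSize.preservesFiniteLimits _

instance restrAlong_preservesFiniteColimits : PreservesFiniteColimits (restrAlong f) := by
  haveI : PreservesColimitsOfSize.{0, 0} (restrAlong f) :=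
    (restrPushAdj f).leftAdjoint_preservesColimits
  exact PreservesColimitsOfSize.preservesFiniteColimits _

/-- restriction along an étale map commutes with sheafification -/
noncomputable def restrSheafifyIso :
    (Functor.whiskeringLeft _ _ AddCommGrpCat.{u + 1}).obj (compEtale f).op ⋙
      presheafToSheaf X'.smallEtaleTopology AddCommGrpCat.{u + 1} ≅
    presheafToSheaf X.smallEtaleTopology AddCommGrpCat.{u + 1} ⋙ restrAlong f :=
  (compEtale f).pushforwardContinuousSheafificationCompatibility AddCommGrpCat.{u + 1}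
    X'.smallEtaleTopology X.smallEtaleTopology

/-- restriction commutes with the tensor product of sheaves -/
noncomputable def restrTensor (F G : EtCoh.Ab X) :
    (restrAlong f).obj (EtDual.tensorAb F G) ≅
      EtDual.tensorAb ((restrAlong f).obj F) ((restrAlong f).obj G) :=
  ((restrSheafifyIso f).app (EtDual.tensorPre F G)).symm

/-- restriction of a constant sheaf is constant -/
noncomputable def restrConst (M : Type) [AddCommGroup M] :
    (restrAlong f).obj (EtCoh.const X M) ≅ EtCoh.const X' M :=
  ((restrSheafifyIso f).app ((Functor.const _).obj (AddCommGrpCat.of (ULift.{u + 1} M)))).symm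

/-- functoriality of `tensorAb` in isomorphisms -/
noncomputable def tensorAbIso {Y : Scheme.{u}} {F F' G G' : EtCoh.Ab Y} (e₁ : F ≅ F') (e₂ : G ≅ G') :
    EtDual.tensorAb F G ≅ EtDual.tensorAb F' G' :=
  (presheafToSheaf Y.smallEtaleTopology AddCommGrpCat.{u + 1}).mapIso
    (show EtTens.tensorObj F.obj G.obj ≅ EtTens.tensorObj F'.obj G'.obj from
      { hom := EtTens.tensorHom e₁.hom.hom e₂.hom.hom
        inv := EtTens.tensorHom e₁.inv.hom e₂.inv.hom
        hom_inv_id := by
          have h1 : e₁.hom.hom ≫ e₁.inv.hom = 𝟙 F.obj := congrArg (fun t => t.hom) e₁.hom_inv_id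
          have h2 : e₂.hom.hom ≫ e₂.inv.hom = 𝟙 G.obj := congrArg (fun t => t.hom) e₂.hom_inv_id
          rw [← EtTens.tensorHom_comp, h1, h2]
          exact EtTens.tensorHom_id _ _
        inv_hom_id := by
          have h1 : e₁.inv.hom ≫ e₁.hom.hom = 𝟙 F'.obj := congrArg (fun t => t.hom) e₁.inv_hom_id
          have h2 : e₂.inv.hom ≫ e₂.hom.hom = 𝟙 G'.obj := congrArg (fun t => t.hom) e₂.inv_hom_id
          rw [← EtTens.tensorHom_comp, h1, h2]
          exact EtTens.tensorHom_id _ _ })

/-- restriction of `G_m` is `G_m` -/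
noncomputable def restrGm : (restrAlong f).obj (EtCoh.Gm X) ≅ EtCoh.Gm X' := Iso.refl _

lemma restr_powMap (n : ℕ) :
    (restrAlong f).map (EtCoh.powMap X n) ≫ (restrGm f).hom =
      (restrGm f).hom ≫ EtCoh.powMap X' n := by
  unfold EtCoh.powMap
  rw [Functor.map_nsmul, CategoryTheory.Functor.map_id, Preadditive.nsmul_comp, Preadditive.comp_nsmul,
    Category.id_comp, Category.comp_id]

/-- restriction of `μ_n` is `μ_n` -/
noncomputable def restrMu (n : ℕ) : (restrAlong f).obj (EtCoh.mu X n) ≅ EtCoh.mu X' n :=
  PreservesKernel.iso (restrAlong f) (EtCoh.powMap X n) ≪≫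
    kernel.mapIso _ _ (restrGm f) (restrGm f) (restr_powMap f n)

/-- restriction of the Tate twist -/
noncomputable def restrTate (n : ℕ) : ∀ c : ℕ,
    (restrAlong f).obj (EtDual.tate X n c) ≅ EtDual.tate X' n c
  | 0 => restrConst f (ZMod n)
  | c + 1 => restrTensor f (EtDual.tate X n c) (EtCoh.mu X n) ≪≫
      tensorAbIso (restrTate n c) (restrMu f n)

end Groth.Agent.H7.SP
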