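import Mathlib

set_option autoImplicit false

universe u

open CategoryTheory CategoryTheory.Limits Opposite AlgebraicGeometry

namespace Groth.Agent.H7.XC

open AlgebraicGeometry.Scheme.Pullback

/-- If the residue field extension on the `y`-side is trivial, the fibre of the fibre product over
the triplet is a single point. -/
lemma subsingleton_spec_tensor {X Y S : Scheme.{u}} {f : X ⟶ S} {g : Y ⟶ S} (T : Triplet f g)
    (h : Function.Surjective (g.residueFieldMap T.y).hom) : Subsingleton ↥(Spec T.tensor) := by
  have hs : Function.Surjective
      ((S.residueFieldCongr T.hy).inv ≫ g.residueFieldMap T.y).hom := by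
    rw [CommRingCat.hom_comp]
    refine h.comp ?_
    exact (ConcreteCategory.bijective_of_isIso (S.residueFieldCongr T.hy).inv).surjective
  have h1 : Function.Surjective (pushout.inl ((S.residueFieldCongr T.hx).inv ≫ f.residueFieldMap T.x)
      ((S.residueFieldCongr T.hy).inv ≫ g.residueFieldMap T.y)).hom :=
    RingHom.IsStableUnderBaseChange.pushout_inl (P := fun f => Function.Surjective f)
      RingHom.surjective_isStableUnderBaseChange RingHom.surjective_respectsIso _ _ hs
  have h2 : Function.Injective (PrimeSpectrum.comap (pushout.inl
      ((S.residueFieldCongr T.hx).inv ≫ f.residueFieldMap T.x)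
      ((S.residueFieldCongr T.hy).inv ≫ g.residueFieldMap T.y)).hom) :=
    PrimeSpectrum.comap_injective_of_surjective _ h1
  exact h2.subsingleton

/-- Two points of a fibre product over the same triplet with one-point fibre coincide. -/
lemma eq_of_ofPoint_eq {X Y S : Scheme.{u}} {f : X ⟶ S} {g : Y ⟶ S} (t₁ t₂ : ↑(pullback f g))
    (e : Triplet.ofPoint t₁ = Triplet.ofPoint t₂)
    (h : Subsingleton ↥(Spec (Triplet.ofPoint t₂).tensor)) : t₁ = t₂ := by
  apply (carrierEquiv (f := f) (g := g)).injective
  rw [carrierEquiv_eq_iff]
  haveI : Subsingleton ↥(Spec (carrierEquiv t₂).fst.tensor) := h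
  exact ⟨e, Subsingleton.elim _ _⟩

theorem diag_or_fst_mem {X X' U' U : Scheme.{u}} (f : X' ⟶ X) (j : U ⟶ X) (j' : U' ⟶ X')
    (hU' : Set.range j'.base = f.base ⁻¹' Set.range j.base)
    (hZ : Set.InjOn f.base (Set.range j'.base)ᶜ)
    (hκ : ∀ x' : ↥X', x' ∉ Set.range j'.base → Function.Surjective (f.residueFieldMap x'))
    (w : ↑(pullback f f)) :
    (∃ x' : X', (pullback.diagonal f).base x' = w) ∨
      (pullback.fst f f).base w ∈ Set.range j'.base := by
  by_cases h1 : (pullback.fst f f).base w ∈ Set.range j'.base
  · exact Or.inr h1
  · left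
    have hc : f.base ((pullback.fst f f).base w) = f.base ((pullback.snd f f).base w) := by
      have := congrArg (fun m => m.base w) (pullback.condition (f := f) (g := f))
      simpa using this
    have h2 : (pullback.snd f f).base w ∉ Set.range j'.base := by
      rw [hU'] at h1 ⊢
      simp only [Set.mem_preimage] at h1 ⊢
      rwa [← hc]
    have e : (pullback.fst f f).base w = (pullback.snd f f).base w := hZ h1 h2 hc
    refine ⟨(pullback.fst f f).base w, ?_⟩
    apply eq_of_ofPoint_eq
    · apply Triplet.ext
      · change (pullback.fst f f).base ((pullback.diagonal f).base _) = (pullback.fst f f).base w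
        rw [← Scheme.Hom.comp_apply, pullback.diagonal_fst]
        rfl
      · change (pullback.snd f f).base ((pullback.diagonal f).base _) = (pullback.snd f f).base w
        rw [← Scheme.Hom.comp_apply, pullback.diagonal_snd]
        exact e
    · exact subsingleton_spec_tensor _ (hκ _ h2)

end Groth.Agent.H7.XC
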