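import Mathlib
import Groth.Prelude.Def_EtDual
import Groth.Agent.Lib.Helper7.ES10

set_option autoImplicit false

universe u v w

open CategoryTheory CategoryTheory.Limits Opposite AlgebraicGeometry

namespace Groth.Agent.H7.XC

open Groth.Agent.H7.ES

section Abstract

variable {C : Type w} [Category.{v} C] {K₁ K₂ Γ₁ Γ₂ : C ⥤ AddCommGrpCat.{u}}

/-- Two subfunctors (given by injective natural maps with prescribed ranges) are isomorphic as soon
as a natural map between the ambient functors induces bijections between the ranges. -/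
theorem nonempty_natIso_of_bijOn (ι₁ : K₁ ⟶ Γ₁) (ι₂ : K₂ ⟶ Γ₂) (ρ : Γ₁ ⟶ Γ₂)
    (P₁ : ∀ F, Set (Γ₁.obj F)) (P₂ : ∀ F, Set (Γ₂.obj F))
    (h₁ : ∀ F, Function.Injective (ι₁.app F).hom ∧ Set.range (ι₁.app F).hom = P₁ F)
    (h₂ : ∀ F, Function.Injective (ι₂.app F).hom ∧ Set.range (ι₂.app F).hom = P₂ F)
    (hρ : ∀ F, Set.BijOn (ρ.app F).hom (P₁ F) (P₂ F)) : Nonempty (K₁ ≅ K₂) := by
  classical
  have hex : ∀ F (x : K₁.obj F), ∃ y : K₂.obj F,
      (ι₂.app F).hom y = (ρ.app F).hom ((ι₁.app F).hom x) := by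
    intro F x
    have hx : (ι₁.app F).hom x ∈ P₁ F := by rw [← (h₁ F).2]; exact ⟨x, rfl⟩
    have hy := (hρ F).mapsTo hx
    rw [← (h₂ F).2] at hy
    exact hy
  let θ : ∀ F, K₁.obj F → K₂.obj F := fun F x => (hex F x).choose
  have hθ : ∀ F (x : K₁.obj F), (ι₂.app F).hom (θ F x) = (ρ.app F).hom ((ι₁.app F).hom x) :=
    fun F x => (hex F x).choose_spec
  have hadd : ∀ F (x y : K₁.obj F), θ F (x + y) = θ F x + θ F y := by
    intro F x y
    apply (h₂ F).1
    rw [map_add, hθ, hθ, hθ, map_add, map_add]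
  let θh : ∀ F, K₁.obj F →+ K₂.obj F := fun F => AddMonoidHom.mk' (θ F) (hadd F)
  have hbij : ∀ F, Function.Bijective (θh F) := by
    intro F
    constructor
    · intro x x' hxx
      apply (h₁ F).1
      have hx : (ι₁.app F).hom x ∈ P₁ F := by rw [← (h₁ F).2]; exact ⟨x, rfl⟩
      have hx' : (ι₁.app F).hom x' ∈ P₁ F := by rw [← (h₁ F).2]; exact ⟨x', rfl⟩
      apply (hρ F).injOn hx hx'
      rw [← hθ, ← hθ]
      exact congrArg _ hxx
    · intro y
      have hy : (ι₂.app F).hom y ∈ P₂ F := by rw [← (h₂ F).2]; exact ⟨y, rfl⟩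
      obtain ⟨s, hs, hsy⟩ := (hρ F).surjOn hy
      rw [← (h₁ F).2] at hs
      obtain ⟨x, rfl⟩ := hs
      refine ⟨x, ?_⟩
      apply (h₂ F).1
      exact (hθ F x).trans hsy
  refine ⟨NatIso.ofComponents
    (fun F => (AddEquiv.ofBijective (θh F) (hbij F)).toAddCommGrpIso) ?_⟩
  intro F G φ
  ext x
  apply (h₂ G).1
  have n1 : (ι₁.app G).hom ((K₁.map φ).hom x) = (Γ₁.map φ).hom ((ι₁.app F).hom x) :=
    ConcreteCategory.congr_hom (ι₁.naturality φ) x
  have n2 : (ι₂.app G).hom ((K₂.map φ).hom (θ F x)) = (Γ₂.map φ).hom ((ι₂.app F).hom (θ F x)) :=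
    ConcreteCategory.congr_hom (ι₂.naturality φ) (θ F x)
  have n3 : (ρ.app G).hom ((Γ₁.map φ).hom ((ι₁.app F).hom x)) =
      (Γ₂.map φ).hom ((ρ.app F).hom ((ι₁.app F).hom x)) :=
    ConcreteCategory.congr_hom (ρ.naturality φ) ((ι₁.app F).hom x)
  change (ι₂.app G).hom (θ G ((K₁.map φ).hom x)) = (ι₂.app G).hom ((K₂.map φ).hom (θ F x))
  rw [hθ, n1, n3, n2, hθ]

end Abstract

section Concrete

variable {V X : Scheme.{u}} (a : V ⟶ X) [AlgebraicGeometry.Etale a] [EtShriek.JCont a]

/-- `secRes` is natural. -/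
noncomputable def secResNT :
    EtCore.gsec X ⟶ EtShriek.restrAlong a ⋙ EtCore.gsec V where
  app G := secRes a G
  naturality {G G'} φ := by
    unfold secRes
    exact (φ.hom.naturality ((EtCore.topIsTerminal X).from (etObj a)).op).symm

instance gsec_preservesFiniteLimits : PreservesFiniteLimits (EtCore.gsec X) := by
  haveI : PreservesLimitsOfSize.{0, 0} (EtCore.gsec X) :=
    (EtCore.constAdj X).rightAdjoint_preservesLimits
  exact PreservesLimitsOfSize.preservesFiniteLimits _

/-- The inclusion of global sections with support off `V` into all global sections. -/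
noncomputable def gammaSuppι : EtDual.gammaSupp a ⟶ EtCore.gsec X where
  app G := show (EtCore.gsec X).obj ((EtDual.secSupp a).obj G) ⟶ (EtCore.gsec X).obj G from
    (EtCore.gsec X).map (kernel.ι (EtDual.unitApp a G))
  naturality {G G'} φ := by
    change (EtCore.gsec X).map ((EtDual.secSupp a).map φ) ≫
      (EtCore.gsec X).map (kernel.ι (EtDual.unitApp a G')) =
      (EtCore.gsec X).map (kernel.ι (EtDual.unitApp a G)) ≫ (EtCore.gsec X).map φ
    rw [← Functor.map_comp, ← Functor.map_comp]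
    congr 1
    exact kernel.lift_ι _ _ _

theorem gammaSuppι_spec (G : EtCoh.Ab X) :
    Function.Injective ((gammaSuppι a).app G).hom ∧
      Set.range ((gammaSuppι a).app G).hom = {s | (secRes a G).hom s = 0} := by
  let uu := EtDual.unitApp a G
  let S : ShortComplex (EtCoh.Ab X) := ShortComplex.mk (kernel.ι uu) uu (kernel.condition uu)
  have hS : S.Exact := ShortComplex.exact_of_f_is_kernel S (kernelIsKernel uu)
  have hSm : (S.map (EtCore.gsec X)).Exact :=
    hS.map_of_mono_of_preservesKernel (EtCore.gsec X) (inferInstanceAs (Mono (kernel.ι uu)))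
      inferInstance
  haveI : Mono ((EtCore.gsec X).map (kernel.ι uu)) := inferInstance
  have hinj : Function.Injective ((EtCore.gsec X).map (kernel.ι uu)).hom :=
    (AddCommGrpCat.mono_iff_injective _).1 inferInstance
  let e : (EtCore.gsec X).obj ((EtCoh.push a).obj ((EtCoh.pull a).obj G)) ≅
      (EtCore.gsec V).obj ((EtShriek.restrAlong a).obj G) :=
    (EtCore.pushGsecIso a).app ((EtCoh.pull a).obj G) ≪≫ gammaIso a G
  have key : secRes a G = (EtCore.gsec X).map uu ≫ e.hom := by
    rw [← res_gammaIso]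
    unfold res
    simp only [e, Iso.trans_hom, Iso.app_hom, Category.assoc]
    rfl
  have hzero : ∀ s, (secRes a G).hom s = 0 ↔ ((EtCore.gsec X).map uu).hom s = 0 := by
    intro s
    rw [key]
    change e.hom.hom (((EtCore.gsec X).map uu).hom s) = 0 ↔ _
    constructor
    · intro h
      apply (ConcreteCategory.bijective_of_isIso e.hom).injective
      rw [map_zero]
      exact h
    · intro h
      rw [h, map_zero]
  refine ⟨hinj, ?_⟩
  ext s
  simp only [Set.mem_range, Set.mem_setOf_eq]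
  rw [hzero]
  constructor
  · rintro ⟨x, rfl⟩
    exact ConcreteCategory.congr_hom (S.map (EtCore.gsec X)).zero x
  · intro h
    exact (ShortComplex.ab_exact_iff _).1 hSm s h

end Concrete

end Groth.Agent.H7.XC
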