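import Mathlib
import Groth.Prelude.Def_EtDual
import Groth.Agent.Lib.Helper7.ES12
import Groth.Agent.Lib.Helper7.XC1
import Groth.Agent.Lib.Helper7.XC2
import Groth.Agent.Lib.Helper7.XC3
import Groth.Agent.Lib.Helper2.SecColimA

set_option autoImplicit false

universe u

open CategoryTheory CategoryTheory.Limits Opposite AlgebraicGeometry

namespace Groth.Agent.H7.XC

open Groth.Agent.H7.ES Groth.Agent.H2.SecColim EtShriek

attribute [local instance] jCont_of_etale

lemma cond_apply {P A B S : Scheme.{u}} {p₁ : P ⟶ A} {p₂ : P ⟶ B} {a : A ⟶ S} {b : B ⟶ S}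
    (h : p₁ ≫ a = p₂ ≫ b) (w : P) : a.base (p₁.base w) = b.base (p₂.base w) := by
  have := congrArg (fun m => m.base w) h
  simpa using this

section

variable {X : Scheme.{u}}

/-- The explicit structure map `(V → X) ⟶ (X → X)` with underlying morphism `a`. -/
noncomputable def toTop {V : Scheme.{u}} (a : V ⟶ X) [AlgebraicGeometry.Etale a] :
    etObj a ⟶ EtCoh.top X :=
  MorphismProperty.Over.homMk a ((Category.comp_id a).trans (Category.id_comp a).symm)

lemma toTop_eq {V : Scheme.{u}} (a : V ⟶ X) [AlgebraicGeometry.Etale a] :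
    toTop a = (EtCore.topIsTerminal X).from (etObj a) :=
  (EtCore.topIsTerminal X).hom_ext _ _

variable {X' U U' : Scheme.{u}} (f : X' ⟶ X) [AlgebraicGeometry.Etale f]
  (j : U ⟶ X) [IsOpenImmersion j] (j' : U' ⟶ X') [IsOpenImmersion j']

/-- `(U' → X' → X) ⟶ (X' → X)`. -/
noncomputable def cMap : (compEtale f).obj (etObj j') ⟶ etObj f :=
  (compEtale f).map (toTop j')

lemma exists_hom_etObj (W : X.Etale) (h : Set.range W.hom.base ⊆ Set.range j.base) :
    Nonempty (W ⟶ etObj j) := by
  let l : W.left ⟶ U := IsOpenImmersion.lift j (W.hom : W.left ⟶ X) h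
  have hl : l ≫ j = W.hom := IsOpenImmersion.lift_fac _ _ _
  refine ⟨MorphismProperty.Over.homMk l ?_⟩
  change l ≫ (etObj j).hom = W.hom
  rw [etObj_hom_eq]
  exact hl

lemma exists_lift_cMap (W : X.Etale) (b : W ⟶ etObj f)
    (h : Set.range b.left.base ⊆ Set.range j'.base) :
    ∃ l : W ⟶ (compEtale f).obj (etObj j'), l ≫ cMap f j' = b := by
  have hb : b.left ≫ f = W.hom :=
    (congrArg (b.left ≫ ·) (etObj_hom_eq f)).symm.trans (MorphismProperty.Over.w b)
  let l : W.left ⟶ U' := IsOpenImmersion.lift j' (b.left : W.left ⟶ X') h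
  have hl : l ≫ j' = b.left := IsOpenImmersion.lift_fac _ _ _
  refine ⟨MorphismProperty.Over.homMk l ?_, ?_⟩
  · change l ≫ ((etObj j').hom ≫ f) = W.hom
    rw [etObj_hom_eq, ← Category.assoc, hl]
    exact hb
  · apply MorphismProperty.Over.Hom.ext
    exact hl

lemma res_eq_zero_of_range (F : EtCoh.Ab X) (t : F.obj.obj (op (etObj f)))
    (ht : res F (cMap f j') t = 0) {W : X.Etale} (b : W ⟶ etObj f)
    (h : Set.range b.left.base ⊆ Set.range j'.base) : res F b t = 0 := by
  obtain ⟨l, rfl⟩ := exists_lift_cMap f j' W b h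
  rw [H2.SecColim.res_comp, ht, map_zero]

/-- The diagonal `(X' → X) ⟶ (X' ×_X X' → X)`. -/
noncomputable def diagMap : etObj f ⟶ pb (toTop f) (toTop f) :=
  MorphismProperty.Over.homMk (pullback.diagonal f) (by
    change pullback.diagonal f ≫ pullback.fst f f ≫ (etObj f).hom = (etObj f).hom
    rw [pullback.diagonal_fst_assoc])

lemma diagMap_fst : diagMap f ≫ pbFst (toTop f) (toTop f) = 𝟙 _ := by
  apply MorphismProperty.Over.Hom.ext
  exact pullback.diagonal_fst f

lemma diagMap_snd : diagMap f ≫ pbSnd (toTop f) (toTop f) = 𝟙 _ := by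
  apply MorphismProperty.Over.Hom.ext
  exact pullback.diagonal_snd f

variable (hU' : Set.range j'.base = f.base ⁻¹' Set.range j.base)
  (hZ : Set.BijOn f.base (Set.range j'.base)ᶜ (Set.range j.base)ᶜ)
  (hκ : ∀ x' : ↥X', x' ∉ Set.range j'.base → Function.Surjective (f.residueFieldMap x'))

include hU' in
lemma mem_range_j'_iff (x' : X') : x' ∈ Set.range j'.base ↔ f.base x' ∈ Set.range j.base := by
  rw [hU']; rfl

include hU' hZ hκ in
/-- the two restrictions to `X' ×_X X'` of a section supported off `U'` agree. -/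
lemma res_fst_eq_res_snd (F : EtCoh.Ab X) (t : F.obj.obj (op (etObj f)))
    (ht : res F (cMap f j') t = 0) :
    res F (pbFst (toTop f) (toTop f)) t = res F (pbSnd (toTop f) (toTop f)) t := by
  let PP : X.Etale := pb (toTop f) (toTop f)
  let Q : X.Etale := pb (pbFst (toTop f) (toTop f)) (cMap f j')
  let q : Q ⟶ PP := pbFst (pbFst (toTop f) (toTop f)) (cMap f j')
  let W' : Bool → X.Etale := fun b => cond b (etObj f) Q
  let g' : ∀ b, W' b ⟶ PP := fun b => Bool.rec (motive := fun b => W' b ⟶ PP) q (diagMap f) b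
  have hcov : ∀ w : PP.left, ∃ k z, (g' k).left z = w := by
    intro w
    rcases diag_or_fst_mem f j j' hU' hZ.injOn hκ w with ⟨x', hx'⟩ | h
    · exact ⟨true, x', hx'⟩
    · obtain ⟨u', hu'⟩ := h
      obtain ⟨z, hz1, -⟩ := Scheme.Pullback.exists_preimage_pullback
        (f := pullback.fst f f) (g := j') w u' hu'.symm
      exact ⟨false, z, hz1⟩
  refine res_ext F W' g' hcov _ _ ?_
  intro k
  cases k with
  | true =>
    change res F (diagMap f) (res F (pbFst (toTop f) (toTop f)) t) =
      res F (diagMap f) (res F (pbSnd (toTop f) (toTop f)) t)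
    rw [← H2.SecColim.res_comp, ← H2.SecColim.res_comp, diagMap_fst, diagMap_snd]
  | false =>
    change res F q (res F (pbFst (toTop f) (toTop f)) t) =
      res F q (res F (pbSnd (toTop f) (toTop f)) t)
    rw [← H2.SecColim.res_comp, ← H2.SecColim.res_comp]
    have h1 : res F (q ≫ pbFst (toTop f) (toTop f)) t = 0 := by
      have hc : q ≫ pbFst (toTop f) (toTop f) =
          pbSnd (pbFst (toTop f) (toTop f)) (cMap f j') ≫ cMap f j' := pb_condition _ _
      rw [hc, H2.SecColim.res_comp, ht, map_zero]
    have h2 : res F (q ≫ pbSnd (toTop f) (toTop f)) t = 0 := by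
      apply res_eq_zero_of_range f j' F t ht
      rintro _ ⟨w, rfl⟩
      refine (mem_range_j'_iff f j j' hU' _).2 ?_
      -- `w : pullback (pullback.fst f f) j'`
      let w₁ : ↑(pullback f f) := (pullback.fst (pullback.fst f f) j').base w
      have e1 : (pullback.fst f f).base w₁ = j'.base ((pullback.snd (pullback.fst f f) j').base w) :=
        cond_apply (pullback.condition (f := pullback.fst f f) (g := j')) w
      have e2 : f.base ((pullback.fst f f).base w₁) = f.base ((pullback.snd f f).base w₁) :=
        cond_apply (pullback.condition (f := f) (g := f)) w₁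
      change f.base ((pullback.snd f f).base w₁) ∈ Set.range j.base
      rw [← e2, e1, ← mem_range_j'_iff f j j' hU']
      exact ⟨_, rfl⟩
    rw [h1, h2]

include hU' hZ hκ in
theorem bijOn_res (F : EtCoh.Ab X) :
    Set.BijOn (res F (toTop f)) {s | res F (toTop j) s = 0} {t | res F (cMap f j') t = 0} := by
  let W : Bool → X.Etale := fun b => cond b (etObj j) (etObj f)
  let g : ∀ b, W b ⟶ EtCoh.top X :=
    fun b => Bool.rec (motive := fun b => W b ⟶ EtCoh.top X) (toTop f) (toTop j) b
  have hcov : ∀ x : (EtCoh.top X).left, ∃ k z, (g k).left z = x := by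
    intro x
    by_cases hx : x ∈ Set.range j.base
    · obtain ⟨u, hu⟩ := hx
      exact ⟨true, u, hu⟩
    · obtain ⟨z', -, hz'⟩ := hZ.surjOn hx
      exact ⟨false, z', hz'⟩
  refine ⟨?_, ?_, ?_⟩
  · intro s hs
    simp only [Set.mem_setOf_eq] at hs ⊢
    obtain ⟨d⟩ := exists_hom_etObj j ((compEtale f).obj (etObj j')) (by
      rintro _ ⟨u', rfl⟩
      change f.base (j'.base u') ∈ Set.range j.base
      rw [← mem_range_j'_iff f j j' hU']
      exact ⟨_, rfl⟩)
    have e : cMap f j' ≫ toTop f = d ≫ toTop j := (EtCore.topIsTerminal X).hom_ext _ _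
    rw [← H2.SecColim.res_comp, e, H2.SecColim.res_comp, hs, map_zero]
  · intro s₁ hs₁ s₂ hs₂ h12
    simp only [Set.mem_setOf_eq] at hs₁ hs₂
    refine res_ext F W g hcov s₁ s₂ ?_
    intro k
    cases k with
    | true => exact hs₁.trans hs₂.symm
    | false => exact h12
  · intro t ht
    simp only [Set.mem_setOf_eq] at ht
    let x : ∀ b, F.obj.obj (op (W b)) :=
      fun b => Bool.rec (motive := fun b => F.obj.obj (op (W b))) t 0 b
    have hx : ∀ i i', res F (pbFst (g i) (g i')) (x i) = res F (pbSnd (g i) (g i')) (x i') := by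
      intro i i'
      cases i with
      | true =>
        cases i' with
        | true =>
          change res F (pbFst (toTop j) (toTop j)) 0 = res F (pbSnd (toTop j) (toTop j)) 0
          rw [map_zero, map_zero]
        | false =>
          change res F (pbFst (toTop j) (toTop f)) 0 = res F (pbSnd (toTop j) (toTop f)) t
          rw [map_zero]
          symm
          apply res_eq_zero_of_range f j' F t ht
          rintro _ ⟨w, rfl⟩
          refine (mem_range_j'_iff f j j' hU' _).2 ?_
          change f.base ((pullback.snd j f).base w) ∈ Set.range j.base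
          rw [← cond_apply (pullback.condition (f := j) (g := f)) w]
          exact ⟨_, rfl⟩
      | false =>
        cases i' with
        | true =>
          change res F (pbFst (toTop f) (toTop j)) t = res F (pbSnd (toTop f) (toTop j)) 0
          rw [map_zero]
          apply res_eq_zero_of_range f j' F t ht
          rintro _ ⟨w, rfl⟩
          refine (mem_range_j'_iff f j j' hU' _).2 ?_
          change f.base ((pullback.fst f j).base w) ∈ Set.range j.base
          rw [cond_apply (pullback.condition (f := f) (g := j)) w]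
          exact ⟨_, rfl⟩
        | false =>
          exact res_fst_eq_res_snd f j j' hU' hZ hκ F t ht
    obtain ⟨s, hs⟩ := glue F W g hcov x hx
    exact ⟨s, hs true, hs false⟩

end

end Groth.Agent.H7.XC
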