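import Mathlib
import Groth.Prelude.Def_EtDual
import Groth.Agent.Lib.Helper7.ES1
import Groth.Agent.Lib.Helper7.BS4
import Groth.Agent.Lib.Helper7.XC4
import Groth.Agent.Lib.Helper6.ScHA

set_option autoImplicit false

universe u

open CategoryTheory CategoryTheory.Limits Opposite AlgebraicGeometry

namespace Groth.Agent.H7.XC

open Groth.Agent.H7.ES Groth.Agent.H2.SecColim EtShriek

attribute [local instance] jCont_of_etale

section LeftExact

variable {X U : Scheme.{u}} (j : U ⟶ X)

/-- `F ↦ ker (F → j_* j⁻¹ F)` is left exact. -/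
instance secSupp_preservesFiniteLimits : PreservesFiniteLimits (EtDual.secSupp j) := by
  rw [Functor.preservesFiniteLimits_iff_forall_exact_map_and_mono]
  intro S hS
  haveI := hS.mono_f
  have hmono : Mono ((EtDual.secSupp j).map S.f) := by
    have h : (EtDual.secSupp j).map S.f ≫ kernel.ι (EtDual.unitApp j S.X₂) =
        kernel.ι (EtDual.unitApp j S.X₁) ≫ S.f := kernel.lift_ι _ _ _
    haveI : Mono ((EtDual.secSupp j).map S.f ≫ kernel.ι (EtDual.unitApp j S.X₂)) := by
      rw [h]; infer_instance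
    exact mono_of_mono _ (kernel.ι (EtDual.unitApp j S.X₂))
  refine ⟨?_, hmono⟩
  haveI h1 : PreservesFiniteLimits (EtCoh.pull j) := pull_preservesFiniteLimits j
  haveI h2 : PreservesFiniteLimits (EtCoh.push j) := push_preservesFiniteLimits j
  haveI : Mono ((EtCoh.pull j).map S.f) := inferInstance
  haveI : Mono ((EtCoh.push j).map ((EtCoh.pull j).map S.f)) := inferInstance
  refine ShortComplex.exact_of_f_is_kernel _ ?_
  haveI : Mono (S.map (EtDual.secSupp j)).f := hmono
  refine KernelFork.IsLimit.ofι' _ _ ?_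
  intro T (x : T ⟶ kernel (EtDual.unitApp j S.X₂)) hx
  have hx' : (x ≫ kernel.ι (EtDual.unitApp j S.X₂)) ≫ S.g = 0 := by
    have h : (EtDual.secSupp j).map S.g ≫ kernel.ι (EtDual.unitApp j S.X₃) =
        kernel.ι (EtDual.unitApp j S.X₂) ≫ S.g := kernel.lift_ι _ _ _
    rw [Category.assoc, ← h, ← Category.assoc]
    have hx2 : x ≫ (EtDual.secSupp j).map S.g = 0 := hx
    rw [hx2, zero_comp]
  obtain ⟨y, hy'⟩ := KernelFork.IsLimit.lift' hS.fIsKernel
    (x ≫ kernel.ι (EtDual.unitApp j S.X₂)) hx'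
  have hy : y ≫ S.f = x ≫ kernel.ι (EtDual.unitApp j S.X₂) := hy'
  have hy0 : y ≫ EtDual.unitApp j S.X₁ = 0 := by
    rw [← cancel_mono ((EtCoh.push j).map ((EtCoh.pull j).map S.f)), zero_comp, Category.assoc]
    have hn : EtDual.unitApp j S.X₁ ≫ (EtCoh.push j).map ((EtCoh.pull j).map S.f) =
        S.f ≫ EtDual.unitApp j S.X₂ := ((EtCoh.pullPushAdj j).unit.naturality S.f).symm
    rw [hn, ← Category.assoc, hy, Category.assoc, kernel.condition, comp_zero]
  refine ⟨kernel.lift _ y hy0, ?_⟩
  change kernel.lift (EtDual.unitApp j S.X₁) y hy0 ≫ (EtDual.secSupp j).map S.f = x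
  rw [← cancel_mono (kernel.ι (EtDual.unitApp j S.X₂))]
  have h : (EtDual.secSupp j).map S.f ≫ kernel.ι (EtDual.unitApp j S.X₂) =
      kernel.ι (EtDual.unitApp j S.X₁) ≫ S.f := kernel.lift_ι _ _ _
  rw [Category.assoc, h, ← Category.assoc, kernel.lift_ι, hy]

instance gammaSupp_preservesFiniteLimits : PreservesFiniteLimits (EtDual.gammaSupp j) := by
  unfold EtDual.gammaSupp
  infer_instance

end LeftExact

section Derived

variable {C D : Type*} [Category C] [Category D] [Abelian C] [Abelian D] [HasInjectiveResolutions C]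

/-- Isomorphic additive functors have isomorphic right derived functors. -/
noncomputable def rightDerivedIso {F G : C ⥤ D} [F.Additive] [G.Additive] (e : F ≅ G) (n : ℕ) :
    F.rightDerived n ≅ G.rightDerived n where
  hom := NatTrans.rightDerived e.hom n
  inv := NatTrans.rightDerived e.inv n
  hom_inv_id := by
    rw [← NatTrans.rightDerived_comp, e.hom_inv_id, NatTrans.rightDerived_id]
  inv_hom_id := by
    rw [← NatTrans.rightDerived_comp, e.inv_hom_id, NatTrans.rightDerived_id]

end Derived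

section Main

variable {X X' U U' : Scheme.{u}} (f : X' ⟶ X) [AlgebraicGeometry.Etale f]
  (j : U ⟶ X) [IsOpenImmersion j] (j' : U' ⟶ X') [IsOpenImmersion j']
  (hU' : Set.range j'.base = f.base ⁻¹' Set.range j.base)
  (hZ : Set.BijOn f.base (Set.range j'.base)ᶜ (Set.range j.base)ᶜ)
  (hκ : ∀ x' : ↥X', x' ∉ Set.range j'.base → Function.Surjective (f.residueFieldMap x'))

/-- The inclusion of `Γ_{Z'}(X', f⁻¹F)` into `F(X' → X)`. -/
noncomputable def ι₂ :
    EtCoh.pull f ⋙ EtDual.gammaSupp j' ⟶ EtShriek.restrAlong f ⋙ EtCore.gsec X' :=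
  Functor.whiskerLeft (EtCoh.pull f) (gammaSuppι j') ≫
    Functor.whiskerRight (pullIsoRestr f).hom (EtCore.gsec X')

lemma ι₂_spec (F : EtCoh.Ab X) :
    Function.Injective ((ι₂ f j').app F).hom ∧ Set.range ((ι₂ f j').app F).hom =
      {t | (secRes j' ((EtShriek.restrAlong f).obj F)).hom t = 0} := by
  obtain ⟨h1, h2⟩ := gammaSuppι_spec j' ((EtCoh.pull f).obj F)
  let φ : (EtCoh.pull f).obj F ≅ (EtShriek.restrAlong f).obj F := (pullIsoRestr f).app F
  let e : (EtCore.gsec X').obj ((EtCoh.pull f).obj F) ≅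
      (EtCore.gsec X').obj ((EtShriek.restrAlong f).obj F) := (EtCore.gsec X').mapIso φ
  let e' := (EtShriek.restrAlong j' ⋙ EtCore.gsec U').mapIso φ
  have hcomp : ((ι₂ f j').app F).hom =
      e.hom.hom.comp ((gammaSuppι j').app ((EtCoh.pull f).obj F)).hom := rfl
  have hnat : ∀ x, (secRes j' ((EtShriek.restrAlong f).obj F)).hom (e.hom.hom x) =
      e'.hom.hom ((secRes j' ((EtCoh.pull f).obj F)).hom x) := fun x =>
    ConcreteCategory.congr_hom ((secResNT j').naturality φ.hom) x
  have he : Function.Bijective e.hom.hom := ConcreteCategory.bijective_of_isIso e.hom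
  have he' : Function.Injective e'.hom.hom := (ConcreteCategory.bijective_of_isIso e'.hom).injective
  refine ⟨?_, ?_⟩
  · rw [hcomp]
    exact he.injective.comp h1
  · ext t
    obtain ⟨x, rfl⟩ := he.surjective t
    change (∃ y, ((ι₂ f j').app F).hom y = e.hom.hom x) ↔
      (secRes j' ((EtShriek.restrAlong f).obj F)).hom (e.hom.hom x) = 0
    rw [hnat]
    constructor
    · rintro ⟨y, hy⟩
      have hy' : ((gammaSuppι j').app ((EtCoh.pull f).obj F)).hom y = x := he.injective hy
      have hx : x ∈ Set.range ((gammaSuppι j').app ((EtCoh.pull f).obj F)).hom := ⟨y, hy'⟩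
      rw [h2] at hx
      have hx0 : (secRes j' ((EtCoh.pull f).obj F)).hom x = 0 := hx
      rw [hx0, map_zero]
    · intro h
      have hx0 : (secRes j' ((EtCoh.pull f).obj F)).hom x = 0 := by
        apply he'
        rw [map_zero]
        exact h
      have hx : x ∈ Set.range ((gammaSuppι j').app ((EtCoh.pull f).obj F)).hom := by
        rw [h2]; exact hx0
      obtain ⟨y, hy⟩ := hx
      exact ⟨y, congrArg e.hom.hom hy⟩

include hU' hZ hκ in
theorem nonempty_gammaSupp_iso :
    Nonempty (EtDual.gammaSupp j ≅ EtCoh.pull f ⋙ EtDual.gammaSupp j') := by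
  refine nonempty_natIso_of_bijOn (gammaSuppι j) (ι₂ f j') (secResNT f)
    (fun F => {s | (secRes j F).hom s = 0})
    (fun F => {t | (secRes j' ((EtShriek.restrAlong f).obj F)).hom t = 0})
    (fun F => gammaSuppι_spec j F) (fun F => ι₂_spec f j' F) ?_
  intro F
  have h := bijOn_res f j j' hU' hZ hκ F
  have e1 : toTop f = (EtCore.topIsTerminal X).from (etObj f) := toTop_eq f
  have e2 : toTop j = (EtCore.topIsTerminal X).from (etObj j) := toTop_eq j
  have e3 : cMap f j' = (compEtale f).map ((EtCore.topIsTerminal X').from (etObj j')) := by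
    unfold cMap
    rw [toTop_eq j']
  rw [e1, e2, e3] at h
  exact h

include hU' hZ hκ in
theorem S14454_main (F : EtCoh.Ab X) (r : ℕ) :
    Nonempty ((EtDual.HY j r).obj F ≅ (EtDual.HY j' r).obj ((EtCoh.pull f).obj F)) := by
  obtain ⟨e⟩ := nonempty_gammaSupp_iso f j j' hU' hZ hκ
  haveI : (EtCoh.pull f).PreservesInjectiveObjects :=
    ⟨fun {I} hI => pull_injective_of_etale f I⟩
  have hvan : ∀ q, 1 ≤ q → q ≤ r → IsZero (((EtCoh.pull f).rightDerived q).obj F) := by
    intro q hq _
    obtain ⟨n, rfl⟩ : ∃ n, q = n + 1 := ⟨q - 1, by omega⟩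
    exact Groth.Agent.H7.BS.isZero_rightDerived_succ_of_exact (EtCoh.pull f) F n
  obtain ⟨e2⟩ := Groth.Agent.H6.ScHA.nonempty_iso_comp (EtCoh.pull f) (EtDual.gammaSupp j') r F hvan
    r le_rfl
  exact ⟨(rightDerivedIso e r).app F ≪≫ e2.symm⟩

end Main

end Groth.Agent.H7.XC
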