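import Mathlib
import Groth.Prelude.Def_EtDual
import Groth.Agent.Lib.Helper7.XC5
import Groth.Agent.Lib.Helper7.SP1
import Groth.Agent.Lib.Helper7.SP2
import Groth.Agent.Lib.Lead.EO.HomCmp

set_option autoImplicit false

universe u

open CategoryTheory CategoryTheory.Limits Opposite AlgebraicGeometry

namespace Groth.Agent.H7.SP

open Groth.Agent.H7.ES Groth.Agent.H7.XC EtShriek

attribute [local instance] jCont_of_etale

section H

variable {U X X' U' : Scheme.{u}} (j : U ⟶ X) [hj : AlgebraicGeometry.Etale j]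
  (f : X' ⟶ X) [hf : AlgebraicGeometry.Etale f]
  (j' : U' ⟶ X') [hj' : AlgebraicGeometry.Etale j'] (f' : U' ⟶ U)
  (hpb : IsPullback j' f' f j)

include hpb in
/-- local cohomology sheaves commute with étale localisation -/
theorem nonempty_locCoh_restr (A : EtCoh.Ab X) (p : ℕ) :
    Nonempty ((restrAlong f).obj ((EtDual.locCoh j p).obj A) ≅
      (EtDual.locCoh j' p).obj ((restrAlong f).obj A)) := by
  obtain ⟨e⟩ := nonempty_secSupp_baseChange j f j' f' hpb
  have hvan : ∀ q, 1 ≤ q → q ≤ p → IsZero (((restrAlong f).rightDerived q).obj A) := by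
    intro q hq _
    obtain ⟨n, rfl⟩ : ∃ n, q = n + 1 := ⟨q - 1, by omega⟩
    exact Groth.Agent.H7.BS.isZero_rightDerived_succ_of_exact (restrAlong f) A n
  obtain ⟨e2⟩ := Groth.Agent.H6.ScHA.nonempty_iso_comp (restrAlong f) (EtDual.secSupp j') p A hvan
    p le_rfl
  have hac : ∀ B : EtCoh.Ab X, Groth.Agent.LD.EO.Acyc (restrAlong f) B := fun B n =>
    Groth.Agent.H7.BS.isZero_rightDerived_succ_of_exact (restrAlong f) B n
  haveI : IsIso (RDer.edgeOut (EtDual.secSupp j) (restrAlong f) p A) :=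
    Groth.Agent.LD.EO.isIso_edgeOut (EtDual.secSupp j) (restrAlong f) A (fun I _ => hac _)
      (fun n => hac _) p
  let e3 := asIso (RDer.edgeOut (EtDual.secSupp j) (restrAlong f) p A)
  exact ⟨(e2 ≪≫ (rightDerivedIso e p).app A ≪≫ e3).symm⟩

end H

end Groth.Agent.H7.SP
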