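import Mathlib
import Groth.Prelude.Def_EtDual
import Groth.Agent.Lib.Helper7.SP1
import Groth.Agent.Lib.Helper7.SP2
import Groth.Agent.Lib.Helper2.SecColimA

set_option autoImplicit false

universe u

open CategoryTheory CategoryTheory.Limits Opposite AlgebraicGeometry

namespace Groth.Agent.H7.SP

open Groth.Agent.H7.ES Groth.Agent.H7.XC EtShriek

attribute [local instance] jCont_of_etale

section B

variable {X : Scheme.{u}}

lemma sections_eq_zero_of_isZero {Y : Scheme.{u}} (H : EtCoh.Ab Y) (h : IsZero H) (W : Y.Etale)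
    (t : H.obj.obj (op W)) : t = 0 := by
  have h1 : IsZero ((secAt W).obj H) := Functor.map_isZero (secAt W) h
  haveI := AddCommGrpCat.subsingleton_of_isZero h1
  exact Subsingleton.elim (α := ((secAt W).obj H : AddCommGrpCat)) _ _

/-- a sheaf vanishing on a jointly surjective étale family vanishes -/
theorem isZero_of_restr {ι : Type*} (Y : ι → Scheme.{u}) (f : ∀ i, Y i ⟶ X)
    [∀ i, AlgebraicGeometry.Etale (f i)] (hsurj : ∀ x : X, ∃ (i : ι) (y : Y i), (f i).base y = x)
    (G : EtCoh.Ab X) (h : ∀ i, IsZero ((restrAlong (f i)).obj G)) : IsZero G := by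
  rw [IsZero.iff_id_eq_zero]
  apply Sheaf.hom_ext
  apply NatTrans.ext
  funext V
  apply AddCommGrpCat.hom_ext
  ext s
  change s = 0
  refine Groth.Agent.H2.SecColim.res_ext G
    (fun i => (compEtale (f i)).obj ((EtCoh.bc (f i)).obj V.unop))
    (fun i => (compBcAdj (f i)).counit.app V.unop) ?_ s 0 ?_
  · intro b
    obtain ⟨i, y, hy⟩ := hsurj (V.unop.hom.base b)
    obtain ⟨z, hz, -⟩ := Scheme.Pullback.exists_preimage_pullback (f := V.unop.hom) (g := f i) b y
      hy.symm
    refine ⟨i, z, ?_⟩
    rw [counit_left]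
    exact hz
  · intro i
    rw [map_zero]
    exact sections_eq_zero_of_isZero ((restrAlong (f i)).obj G) (h i)
      ((EtCoh.bc (f i)).obj V.unop) _

end B

end Groth.Agent.H7.SP
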