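import Mathlib

set_option autoImplicit false

universe u

open CategoryTheory CategoryTheory.Limits Opposite AlgebraicGeometry Polynomial

namespace Groth.Agent.H7.SP

section Alg

variable (R : Type u) [CommRing R] (n : ℕ)

/-- the standard étale pair `(Φ_n, n X^{n-1})` -/
noncomputable def cycPair : StandardEtalePair R where
  f := cyclotomic n R
  monic_f := cyclotomic.monic n R
  g := C (n : R) * X ^ (n - 1)
  cond := by
    obtain ⟨h, hh⟩ := cyclotomic.dvd_X_pow_sub_one n R
    refine ⟨h, derivative h, 1, ?_⟩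
    have := congrArg derivative hh
    rw [derivative_mul] at this
    rw [pow_one, ← this, derivative_sub, derivative_one, sub_zero, derivative_X_pow]

lemma cycPair_root : aeval (cycPair R n).X (cyclotomic n ℤ) = 0 := by
  have h := (cycPair R n).hasMap_X.1
  have h2 : (cycPair R n).f = (cyclotomic n ℤ).map (algebraMap ℤ R) := by
    change cyclotomic n R = _
    rw [map_cyclotomic]
  rw [h2, aeval_map_algebraMap] at h
  exact h

variable {R n}

lemma comap_cycPair_surjective (hn : 1 ≤ n) (hu : IsUnit (n : R)) :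
    Function.Surjective (PrimeSpectrum.comap (algebraMap R (cycPair R n).Ring)) := by
  intro p
  let k := p.asIdeal.ResidueField
  let K := AlgebraicClosure k
  have hnk : (n : k) ≠ 0 := by
    have h := hu.map (algebraMap R k)
    rw [map_natCast] at h
    exact h.ne_zero
  haveI : NeZero (n : k) := ⟨hnk⟩
  obtain ⟨ζ, hζ⟩ := HasEnoughRootsOfUnity.exists_primitiveRoot K n
  have hζ0 : ζ ≠ 0 := hζ.ne_zero (by omega)
  have hnK : (n : K) ≠ 0 := by
    have h := hu.map (algebraMap R K)
    rw [map_natCast] at h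
    exact h.ne_zero
  have h1 : aeval ζ (cycPair R n).f = 0 := by
    change aeval ζ (cyclotomic n R) = 0
    rw [aeval_def, eval₂_eq_eval_map, map_cyclotomic]
    exact hζ.isRoot_cyclotomic (by omega)
  have h2 : IsUnit (aeval ζ (cycPair R n).g) := by
    change IsUnit (aeval ζ (C (n : R) * X ^ (n - 1)))
    rw [map_mul, aeval_C, map_pow, aeval_X, map_natCast]
    exact (mul_ne_zero hnK (pow_ne_zero _ hζ0)).isUnit
  let ψ : (cycPair R n).Ring →ₐ[R] K := (cycPair R n).lift ζ ⟨h1, h2⟩
  refine ⟨⟨RingHom.ker ψ.toRingHom, RingHom.ker_isPrime _⟩, ?_⟩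
  ext r
  change ψ (algebraMap R _ r) = 0 ↔ r ∈ p.asIdeal
  rw [ψ.commutes, IsScalarTower.algebraMap_apply R k K, map_eq_zero_iff _ (algebraMap k K).injective,
    Ideal.algebraMap_residueField_eq_zero]

end Alg

section Sch

variable (X : Scheme.{u}) (n : ℕ)

/-- the cyclotomic étale neighbourhood over an affine open -/
noncomputable abbrev cycSch (U : X.affineOpens) : Scheme.{u} :=
  Spec (CommRingCat.of (cycPair (Γ(X, U.1)) n).Ring)

noncomputable def cycMap (U : X.affineOpens) : cycSch X n U ⟶ X :=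
  Spec.map (CommRingCat.ofHom (algebraMap (Γ(X, U.1)) (cycPair (Γ(X, U.1)) n).Ring)) ≫
    IsAffineOpen.fromSpec (U := U.1) U.2

instance (U : X.affineOpens) : AlgebraicGeometry.Etale (cycMap X n U) := by
  unfold cycMap
  haveI : AlgebraicGeometry.Etale
      (Spec.map (CommRingCat.ofHom (algebraMap (Γ(X, U.1)) (cycPair (Γ(X, U.1)) n).Ring))) := by
    rw [HasRingHomProperty.Spec_iff (P := @AlgebraicGeometry.Etale)]
    exact RingHom.etale_algebraMap.2 inferInstance
  haveI : IsOpenImmersion (IsAffineOpen.fromSpec (U := U.1) U.2) :=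
    IsAffineOpen.isOpenImmersion_fromSpec _
  infer_instance

lemma cycSch_root (U : X.affineOpens) :
    ∃ ζ : Γ(cycSch X n U, ⊤), aeval ζ (cyclotomic n ℤ) = 0 := by
  let e := (Scheme.ΓSpecIso (CommRingCat.of (cycPair (Γ(X, U.1)) n).Ring)).inv.hom
  refine ⟨e (cycPair (Γ(X, U.1)) n).X, ?_⟩
  have h := Polynomial.aeval_algHom_apply (e.toIntAlgHom) (cycPair (Γ(X, U.1)) n).X
    (cyclotomic n ℤ)
  have h2 : (e.toIntAlgHom) (cycPair (Γ(X, U.1)) n).X = e (cycPair (Γ(X, U.1)) n).X := rfl
  rw [h2] at h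
  rw [h, cycPair_root, map_zero]

variable {X n}

lemma cycMap_surjective (hn : 1 ≤ n) (hu : IsUnit (n : Γ(X, ⊤))) (x : X) :
    ∃ (U : X.affineOpens) (y : cycSch X n U), (cycMap X n U).base y = x := by
  obtain ⟨U, hU, hxU, -⟩ := exists_isAffineOpen_mem_and_subset (x := x) (U := ⊤) trivial
  have hx : x ∈ Set.range hU.fromSpec := by
    rw [hU.range_fromSpec]; exact hxU
  obtain ⟨y, hy⟩ := hx
  have huU : IsUnit (n : Γ(X, U)) := by
    have h := hu.map (X.presheaf.map (homOfLE (le_top : U ≤ ⊤)).op).hom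
    rwa [map_natCast] at h
  obtain ⟨z, hz⟩ := comap_cycPair_surjective hn huU y
  have : (Spec.map (CommRingCat.ofHom (algebraMap (Γ(X, U)) (cycPair (Γ(X, U)) n).Ring))).base z
      = y := hz
  refine ⟨⟨U, hU⟩, z, ?_⟩
  change hU.fromSpec.base ((Spec.map (CommRingCat.ofHom
    (algebraMap (Γ(X, U)) (cycPair (Γ(X, U)) n).Ring))).base z) = x
  rw [this]
  exact hy

end Sch

end Groth.Agent.H7.SP
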