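import Mathlib
import Groth.Prelude.Def_EtTens2
import Groth.Prelude.Def_EtBase
import Groth.Agent.Lib.Helper7.ST4

/-!
# Helper7: TS1 — stalks of tensor products of presheaves of abelian groups on the small étale site
-/

set_option autoImplicit false

universe u

open CategoryTheory CategoryTheory.Limits Opposite AlgebraicGeometry TensorProduct

namespace Groth.Agent.H7.TS

open Groth.Agent.H7.ST

variable {X : Scheme.{u}} {Ω : Type u} [Field Ω] [IsSepClosed Ω]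
  (ξ : Spec (CommRingCat.of Ω) ⟶ X)

section Pre

variable (P Q : X.Etaleᵒᵖ ⥤ AddCommGrpCat.{u + 1})

/-- the stalk of a presheaf -/
noncomputable abbrev St : AddCommGrpCat.{u + 1} := (Scheme.pointSmallEtale ξ).presheafFiber.obj P

/-- germs -/
noncomputable abbrev gm (U : X.Etale) (x : (Scheme.pointSmallEtale ξ).fiber.obj U) :
    P.obj (op U) ⟶ St ξ P :=
  (Scheme.pointSmallEtale ξ).toPresheafFiber U x P

lemma gm_map {U V : X.Etale} (f : V ⟶ U) (y : (Scheme.pointSmallEtale ξ).fiber.obj V)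
    (a : P.obj (op U)) :
    gm ξ P V y (P.map f.op a) = gm ξ P U ((Scheme.pointSmallEtale ξ).fiber.map f y) a :=
  (Scheme.pointSmallEtale ξ).toPresheafFiber_w_apply f y P a

/-- common refinements of two étale neighbourhoods -/
lemma exists_common (U U' : X.Etale) (x : (Scheme.pointSmallEtale ξ).fiber.obj U)
    (x' : (Scheme.pointSmallEtale ξ).fiber.obj U') :
    ∃ (W : X.Etale) (w : (Scheme.pointSmallEtale ξ).fiber.obj W) (f : W ⟶ U) (f' : W ⟶ U'),
      (Scheme.pointSmallEtale ξ).fiber.map f w = x ∧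
        (Scheme.pointSmallEtale ξ).fiber.map f' w = x' := by
  let A : (Scheme.pointSmallEtale ξ).fiber.Elements := ⟨U, x⟩
  let B : (Scheme.pointSmallEtale ξ).fiber.Elements := ⟨U', x'⟩
  let M := IsCofiltered.min A B
  exact ⟨M.1, M.2, (IsCofiltered.minToLeft A B).1, (IsCofiltered.minToRight A B).1,
    (IsCofiltered.minToLeft A B).2, (IsCofiltered.minToRight A B).2⟩

lemma gm_eq_iff {U U' : X.Etale} (x : (Scheme.pointSmallEtale ξ).fiber.obj U)
    (x' : (Scheme.pointSmallEtale ξ).fiber.obj U') (a : P.obj (op U)) (a' : P.obj (op U')) :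
    gm ξ P U x a = gm ξ P U' x' a' ↔
      ∃ (W : X.Etale) (w : (Scheme.pointSmallEtale ξ).fiber.obj W) (f : W ⟶ U) (f' : W ⟶ U'),
        (Scheme.pointSmallEtale ξ).fiber.map f w = x ∧
        (Scheme.pointSmallEtale ξ).fiber.map f' w = x' ∧ P.map f.op a = P.map f'.op a' := by
  constructor
  · intro h
    obtain ⟨W, w, f, f', hf, hf'⟩ := exists_common ξ U U' x x'
    rw [← hf, ← hf', ← gm_map, ← gm_map] at h
    obtain ⟨W', g, w', hw', hg⟩ :=
      ((Scheme.pointSmallEtale ξ).toPresheafFiber_eq_iff' (P := P) W w _ _).1 h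
    refine ⟨W', w', g ≫ f, g ≫ f', ?_, ?_, ?_⟩
    · rw [FunctorToTypes.map_comp_apply, hw', hf]
    · rw [FunctorToTypes.map_comp_apply, hw', hf']
    · rw [op_comp, op_comp, P.map_comp, P.map_comp]
      exact hg
  · rintro ⟨W, w, f, f', hf, hf', h⟩
    rw [← hf, ← hf', ← gm_map, ← gm_map, h]

lemma exists_rep_over (U : X.Etale) (x : (Scheme.pointSmallEtale ξ).fiber.obj U) (α : St ξ P) :
    ∃ (W : X.Etale) (w : (Scheme.pointSmallEtale ξ).fiber.obj W) (f : W ⟶ U) (a : P.obj (op W)),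
      (Scheme.pointSmallEtale ξ).fiber.map f w = x ∧ gm ξ P W w a = α := by
  obtain ⟨U₁, x₁, a, rfl⟩ :=
    (Scheme.pointSmallEtale ξ).toPresheafFiber_jointly_surjective (P := P) α
  obtain ⟨W, w, f, f', hf, hf'⟩ := exists_common ξ U U₁ x x₁
  exact ⟨W, w, f, P.map f'.op a, hf, by rw [gm_map, hf']⟩

lemma exists_rep₂ (α : St ξ P) (β : St ξ Q) :
    ∃ (U : X.Etale) (x : (Scheme.pointSmallEtale ξ).fiber.obj U) (a : P.obj (op U))
      (b : Q.obj (op U)), gm ξ P U x a = α ∧ gm ξ Q U x b = β := by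
  obtain ⟨U₁, x₁, a, rfl⟩ :=
    (Scheme.pointSmallEtale ξ).toPresheafFiber_jointly_surjective (P := P) α
  obtain ⟨W, w, f, b, hf, rfl⟩ := exists_rep_over ξ Q U₁ x₁ β
  exact ⟨W, w, P.map f.op a, b, by rw [gm_map, hf], rfl⟩

/-- the comparison `(P ⊗ Q)_ξ → P_ξ ⊗ Q_ξ` -/
noncomputable def nu :
    St ξ (EtTens.tensorObj P Q) ⟶ AddCommGrpCat.of (St ξ P ⊗[ℤ] St ξ Q) :=
  (Scheme.pointSmallEtale ξ).presheafFiberDesc
    (fun U x => AddCommGrpCat.ofHom
      (TensorProduct.map (gm ξ P U x).hom.toIntLinearMap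
        (gm ξ Q U x).hom.toIntLinearMap).toAddMonoidHom)
    (by
      intro V U f y
      apply EtTens.hom_ext_tmul
      intro m n
      change (gm ξ P V y (P.map f.op m)) ⊗ₜ[ℤ] (gm ξ Q V y (Q.map f.op n)) =
        (gm ξ P U _ m) ⊗ₜ[ℤ] (gm ξ Q U _ n)
      rw [gm_map, gm_map])

lemma nu_gm (U : X.Etale) (x : (Scheme.pointSmallEtale ξ).fiber.obj U) (a : P.obj (op U))
    (b : Q.obj (op U)) :
    nu ξ P Q (gm ξ (EtTens.tensorObj P Q) U x (a ⊗ₜ[ℤ] b)) =
      (gm ξ P U x a) ⊗ₜ[ℤ] (gm ξ Q U x b) := by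
  have h := (Scheme.pointSmallEtale ξ).toPresheafFiber_presheafFiberDesc
    (P := EtTens.tensorObj P Q)
    (fun U x => AddCommGrpCat.ofHom
      (TensorProduct.map (gm ξ P U x).hom.toIntLinearMap
        (gm ξ Q U x).hom.toIntLinearMap).toAddMonoidHom)
    (by
      intro V U f y
      apply EtTens.hom_ext_tmul
      intro m n
      change (gm ξ P V y (P.map f.op m)) ⊗ₜ[ℤ] (gm ξ Q V y (Q.map f.op n)) =
        (gm ξ P U _ m) ⊗ₜ[ℤ] (gm ξ Q U _ n)
      rw [gm_map, gm_map]) U x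
  exact ConcreteCategory.congr_hom h (a ⊗ₜ[ℤ] b)

lemma gm_tmul_eq {U U' : X.Etale} (x : (Scheme.pointSmallEtale ξ).fiber.obj U)
    (x' : (Scheme.pointSmallEtale ξ).fiber.obj U') (a : P.obj (op U)) (b : Q.obj (op U))
    (a' : P.obj (op U')) (b' : Q.obj (op U'))
    (ha : gm ξ P U x a = gm ξ P U' x' a') (hb : gm ξ Q U x b = gm ξ Q U' x' b') :
    gm ξ (EtTens.tensorObj P Q) U x (a ⊗ₜ[ℤ] b) =
      gm ξ (EtTens.tensorObj P Q) U' x' (a' ⊗ₜ[ℤ] b') := by
  obtain ⟨W, w, f, f', hf, hf', h⟩ := (gm_eq_iff ξ P x x' a a').1 ha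
  have hb' : gm ξ Q W w (Q.map f.op b) = gm ξ Q W w (Q.map f'.op b') := by
    rw [gm_map, gm_map, hf, hf', hb]
  obtain ⟨W', g, w', hw', hg⟩ :=
    ((Scheme.pointSmallEtale ξ).toPresheafFiber_eq_iff' (P := Q) W w _ _).1 hb'
  rw [gm_eq_iff]
  refine ⟨W', w', g ≫ f, g ≫ f', ?_, ?_, ?_⟩
  · rw [FunctorToTypes.map_comp_apply, hw', hf]
  · rw [FunctorToTypes.map_comp_apply, hw', hf']
  · rw [EtTens.tensorObj_map_tmul, EtTens.tensorObj_map_tmul]
    congr 1
    · rw [op_comp, op_comp, P.map_comp, P.map_comp]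
      exact congrArg (P.map g.op) h
    · rw [op_comp, op_comp, Q.map_comp, Q.map_comp]
      exact hg

lemma exists_rep₂' (α : St ξ P) (β : St ξ Q) :
    ∃ r : (Σ U : X.Etale, (Scheme.pointSmallEtale ξ).fiber.obj U × P.obj (op U) × Q.obj (op U)),
      gm ξ P r.1 r.2.1 r.2.2.1 = α ∧ gm ξ Q r.1 r.2.1 r.2.2.2 = β := by
  obtain ⟨U, x, a, b, h1, h2⟩ := exists_rep₂ ξ P Q α β
  exact ⟨⟨U, x, a, b⟩, h1, h2⟩

/-- the product of two germs -/
noncomputable def mfun (α : St ξ P) (β : St ξ Q) : St ξ (EtTens.tensorObj P Q) :=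
  gm ξ (EtTens.tensorObj P Q) (exists_rep₂' ξ P Q α β).choose.1
    (exists_rep₂' ξ P Q α β).choose.2.1
    ((exists_rep₂' ξ P Q α β).choose.2.2.1 ⊗ₜ[ℤ] (exists_rep₂' ξ P Q α β).choose.2.2.2)

lemma mfun_gm (U : X.Etale) (x : (Scheme.pointSmallEtale ξ).fiber.obj U) (a : P.obj (op U))
    (b : Q.obj (op U)) :
    mfun ξ P Q (gm ξ P U x a) (gm ξ Q U x b) =
      gm ξ (EtTens.tensorObj P Q) U x (a ⊗ₜ[ℤ] b) :=
  gm_tmul_eq ξ P Q _ _ _ _ _ _
    (exists_rep₂' ξ P Q (gm ξ P U x a) (gm ξ Q U x b)).choose_spec.1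
    (exists_rep₂' ξ P Q (gm ξ P U x a) (gm ξ Q U x b)).choose_spec.2

lemma mfun_add_left (α α' : St ξ P) (β : St ξ Q) :
    mfun ξ P Q (α + α') β = mfun ξ P Q α β + mfun ξ P Q α' β := by
  obtain ⟨U, x, a, b, rfl, rfl⟩ := exists_rep₂ ξ P Q α β
  obtain ⟨W, w, f, a', hf, rfl⟩ := exists_rep_over ξ P U x α'
  subst hf
  rw [← gm_map, ← gm_map, ← map_add, mfun_gm, mfun_gm, mfun_gm, ← map_add,
    TensorProduct.add_tmul]
  rfl

lemma mfun_add_right (α : St ξ P) (β β' : St ξ Q) :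
    mfun ξ P Q α (β + β') = mfun ξ P Q α β + mfun ξ P Q α β' := by
  obtain ⟨U, x, a, b, rfl, rfl⟩ := exists_rep₂ ξ P Q α β
  obtain ⟨W, w, f, b', hf, rfl⟩ := exists_rep_over ξ Q U x β'
  subst hf
  rw [← gm_map, ← gm_map, ← map_add, mfun_gm, mfun_gm, mfun_gm, ← map_add,
    TensorProduct.tmul_add]
  rfl

/-- the comparison `P_ξ ⊗ Q_ξ → (P ⊗ Q)_ξ` -/
noncomputable def mu : (St ξ P ⊗[ℤ] St ξ Q) →+ St ξ (EtTens.tensorObj P Q) :=
  TensorProduct.liftAddHom
    (AddMonoidHom.mk' (fun α => AddMonoidHom.mk' (fun β => mfun ξ P Q α β)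
      (mfun_add_right ξ P Q α)) (by
        intro α α'
        ext β
        exact mfun_add_left ξ P Q α α' β))
    (by
      intro r α β
      simp only [map_zsmul, AddMonoidHom.smul_apply])

lemma mu_tmul (α : St ξ P) (β : St ξ Q) : mu ξ P Q (α ⊗ₜ[ℤ] β) = mfun ξ P Q α β := rfl

lemma mu_gm (U : X.Etale) (x : (Scheme.pointSmallEtale ξ).fiber.obj U) (a : P.obj (op U))
    (b : Q.obj (op U)) :
    mu ξ P Q ((gm ξ P U x a) ⊗ₜ[ℤ] (gm ξ Q U x b)) =
      gm ξ (EtTens.tensorObj P Q) U x (a ⊗ₜ[ℤ] b) := by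
  rw [mu_tmul, mfun_gm]

lemma nu_mu (t : St ξ P ⊗[ℤ] St ξ Q) : nu ξ P Q (mu ξ P Q t) = t := by
  induction t using TensorProduct.induction_on with
  | zero => rw [map_zero, map_zero]
  | tmul α β =>
    obtain ⟨U, x, a, b, rfl, rfl⟩ := exists_rep₂ ξ P Q α β
    rw [mu_gm, nu_gm]
  | add s t hs ht => rw [map_add, map_add, hs, ht]

lemma mu_nu (z : St ξ (EtTens.tensorObj P Q)) : mu ξ P Q (nu ξ P Q z) = z := by
  obtain ⟨U, x, t, rfl⟩ :=
    (Scheme.pointSmallEtale ξ).toPresheafFiber_jointly_surjective (P := EtTens.tensorObj P Q) z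
  have h : (gm ξ (EtTens.tensorObj P Q) U x ≫ nu ξ P Q ≫ AddCommGrpCat.ofHom (mu ξ P Q) :
      AddCommGrpCat.of (↑(P.obj (op U)) ⊗[ℤ] ↑(Q.obj (op U))) ⟶ St ξ (EtTens.tensorObj P Q)) =
      gm ξ (EtTens.tensorObj P Q) U x := by
    apply EtTens.hom_ext_tmul
    intro a b
    change mu ξ P Q (nu ξ P Q (gm ξ (EtTens.tensorObj P Q) U x (a ⊗ₜ[ℤ] b))) = _
    rw [nu_gm, mu_gm]
    rfl
  exact ConcreteCategory.congr_hom h t

/-- stalks commute with tensor products of presheaves -/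
noncomputable def tsEquiv : (St ξ P ⊗[ℤ] St ξ Q) ≃+ St ξ (EtTens.tensorObj P Q) where
  toFun := mu ξ P Q
  invFun := nu ξ P Q
  left_inv := nu_mu ξ P Q
  right_inv := mu_nu ξ P Q
  map_add' := map_add _

end Pre

section Sheaf

variable (F H : EtCoh.Ab X)

/-- the tensor product sheaf -/
noncomputable abbrev TT : EtCoh.Ab X := (EtTens.tensorBi.obj F).obj H

lemma TT_obj : (TT F H).obj = sheafify X.smallEtaleTopology (EtTens.tensorObj F.obj H.obj) := rfl

/-- the class of a pure tensor in the tensor product sheaf -/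
noncomputable def tm (U : X.Etale) (a : F.obj.obj (op U)) (b : H.obj.obj (op U)) :
    (TT F H).obj.obj (op U) :=
  (toSheafify X.smallEtaleTopology (EtTens.tensorObj F.obj H.obj)).app (op U) (a ⊗ₜ[ℤ] b)

lemma tm_map {U V : X.Etale} (f : V ⟶ U) (a : F.obj.obj (op U)) (b : H.obj.obj (op U)) :
    (TT F H).obj.map f.op (tm F H U a b) = tm F H V (F.obj.map f.op a) (H.obj.map f.op b) := by
  have h := ConcreteCategory.congr_hom
    ((toSheafify X.smallEtaleTopology (EtTens.tensorObj F.obj H.obj)).naturality f.op)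
    (a ⊗ₜ[ℤ] b)
  exact h.symm

lemma tm_zero_left (U : X.Etale) (b : H.obj.obj (op U)) : tm F H U 0 b = 0 := by
  unfold tm
  rw [TensorProduct.zero_tmul]
  exact map_zero _

/-- stalks commute with tensor products of abelian étale sheaves -/
noncomputable def tau :
    (↑((EtCoh.stalk ξ).obj F) ⊗[ℤ] ↑((EtCoh.stalk ξ).obj H)) ≃+ ↑((EtCoh.stalk ξ).obj (TT F H)) :=
  (tsEquiv ξ F.obj H.obj).trans
    (AddEquiv.ofBijective
      ((Scheme.pointSmallEtale ξ).presheafFiber.map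
        (toSheafify X.smallEtaleTopology (EtTens.tensorObj F.obj H.obj))).hom
      ((Scheme.pointSmallEtale ξ).toPresheafFiber_map_bijective _))

lemma tau_gm (U : X.Etale) (x : (Scheme.pointSmallEtale ξ).fiber.obj U) (a : F.obj.obj (op U))
    (b : H.obj.obj (op U)) :
    tau ξ F H ((gm ξ F.obj U x a) ⊗ₜ[ℤ] (gm ξ H.obj U x b)) =
      gm ξ (TT F H).obj U x (tm F H U a b) := by
  have h1 : tsEquiv ξ F.obj H.obj ((gm ξ F.obj U x a) ⊗ₜ[ℤ] (gm ξ H.obj U x b)) =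
      gm ξ (EtTens.tensorObj F.obj H.obj) U x (a ⊗ₜ[ℤ] b) := mu_gm ξ F.obj H.obj U x a b
  have h2 := (Scheme.pointSmallEtale ξ).toPresheafFiber_naturality_apply
    (toSheafify X.smallEtaleTopology (EtTens.tensorObj F.obj H.obj)) U x (a ⊗ₜ[ℤ] b)
  change (Scheme.pointSmallEtale ξ).presheafFiber.map
    (toSheafify X.smallEtaleTopology (EtTens.tensorObj F.obj H.obj))
    (tsEquiv ξ F.obj H.obj ((gm ξ F.obj U x a) ⊗ₜ[ℤ] (gm ξ H.obj U x b))) = _
  rw [h1]
  exact h2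

end Sheaf

end Groth.Agent.H7.TS
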