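import Mathlib
import Groth.Prelude.Def_EtDual
import Groth.Prelude.Def_EtTens2
import Groth.Agent.Lib.Helper7.TS1
import Groth.Agent.Lib.Helper7.ST5

set_option autoImplicit false

universe u

open CategoryTheory CategoryTheory.Limits Opposite AlgebraicGeometry TensorProduct

namespace Groth.Agent.H7.SP

open Groth.Agent.H7.ST Groth.Agent.H7.TS

section Const

variable {Y : Scheme.{u}} (M : AddCommGrpCat.{u + 1})

/-- the constant presheaf -/
noncomputable abbrev Dl : Y.Etaleᵒᵖ ⥤ AddCommGrpCat.{u + 1} := (Functor.const _).obj M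

/-- the constant sheaf -/
noncomputable abbrev Lam : EtCoh.Ab Y :=
  (constantSheaf Y.smallEtaleTopology AddCommGrpCat.{u + 1}).obj M

/-- constant sections -/
noncomputable def cs (V : Y.Etale) : M ⟶ (Lam (Y := Y) M).obj.obj (op V) :=
  (toSheafify Y.smallEtaleTopology (Dl (Y := Y) M)).app (op V)

lemma cs_map {V W : Y.Etale} (g : W ⟶ V) (m : M) :
    (Lam (Y := Y) M).obj.map g.op (cs M V m) = cs M W m := by
  have h := ConcreteCategory.congr_hom
    ((toSheafify Y.smallEtaleTopology (Dl (Y := Y) M)).naturality g.op) m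
  exact h.symm

variable {Ω : Type u} [Field Ω] [IsSepClosed Ω] (ξ : Spec (CommRingCat.of Ω) ⟶ Y)

lemma gm_Dl_eq (V W : Y.Etale) (x : (Scheme.pointSmallEtale ξ).fiber.obj V)
    (w : (Scheme.pointSmallEtale ξ).fiber.obj W) (m : M) :
    gm ξ (Dl (Y := Y) M) V x m = gm ξ (Dl (Y := Y) M) W w m := by
  rw [gm_eq_iff]
  obtain ⟨T, t, f, f', hf, hf'⟩ := exists_common ξ V W x w
  exact ⟨T, t, f, f', hf, hf', rfl⟩

lemma gm_Dl_bijective (V : Y.Etale) (x : (Scheme.pointSmallEtale ξ).fiber.obj V) :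
    Function.Bijective (gm ξ (Dl (Y := Y) M) V x) := by
  constructor
  · intro m m' h
    obtain ⟨W, w, f, f', -, -, h'⟩ := (gm_eq_iff ξ (Dl (Y := Y) M) x x m m').1 h
    exact h'
  · intro α
    obtain ⟨U₁, x₁, a, rfl⟩ :=
      (Scheme.pointSmallEtale ξ).toPresheafFiber_jointly_surjective (P := Dl (Y := Y) M) α
    exact ⟨a, gm_Dl_eq M ξ V U₁ x x₁ a⟩

/-- the germ of a constant section -/
noncomputable def gam (V : Y.Etale) (x : (Scheme.pointSmallEtale ξ).fiber.obj V) :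
    M →+ ((EtCoh.stalk ξ).obj (Lam (Y := Y) M) : AddCommGrpCat) :=
  ((cs M V) ≫ gm ξ (Lam (Y := Y) M).obj V x).hom

lemma gam_apply (V : Y.Etale) (x : (Scheme.pointSmallEtale ξ).fiber.obj V) (m : M) :
    gam M ξ V x m = gm ξ (Lam (Y := Y) M).obj V x (cs M V m) := rfl

lemma gam_bijective (V : Y.Etale) (x : (Scheme.pointSmallEtale ξ).fiber.obj V) :
    Function.Bijective (gam M ξ V x) := by
  have h1 := gm_Dl_bijective M ξ V x
  have h2 := (Scheme.pointSmallEtale ξ).toPresheafFiber_map_bijective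
    (toSheafify Y.smallEtaleTopology (Dl (Y := Y) M))
  have h3 : ∀ m, gam M ξ V x m =
      (Scheme.pointSmallEtale ξ).presheafFiber.map
        (toSheafify Y.smallEtaleTopology (Dl (Y := Y) M)) (gm ξ (Dl (Y := Y) M) V x m) := by
    intro m
    exact ((Scheme.pointSmallEtale ξ).toPresheafFiber_naturality_apply
      (toSheafify Y.smallEtaleTopology (Dl (Y := Y) M)) V x m).symm
  have h4 : (gam M ξ V x : M → _) = (fun t => (Scheme.pointSmallEtale ξ).presheafFiber.map
        (toSheafify Y.smallEtaleTopology (Dl (Y := Y) M)) t) ∘ (gm ξ (Dl (Y := Y) M) V x) :=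
    funext h3
  rw [h4]
  exact h2.comp h1

section Phi

variable (b₀ : M)

/-- components of the presheaf map `m ↦ [m ⊗ b₀]` -/
noncomputable def etaApp (V : Y.Etale) :
    M →+ ((TT (Lam (Y := Y) M) (Lam (Y := Y) M)).obj.obj (op V) : AddCommGrpCat) where
  toFun := fun m => tm (Lam (Y := Y) M) (Lam (Y := Y) M) V (cs M V m) (cs M V b₀)
  map_zero' := by
    rw [map_zero]
    exact tm_zero_left _ _ _ _
  map_add' := fun m m' => by
    unfold tm
    rw [map_add, TensorProduct.add_tmul]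
    exact map_add _ _ _

/-- the presheaf map `m ↦ [m ⊗ b₀]` -/
noncomputable def eta : Dl (Y := Y) M ⟶ (TT (Lam (Y := Y) M) (Lam (Y := Y) M)).obj where
  app V := AddCommGrpCat.ofHom (etaApp M b₀ V.unop)
  naturality := by
    intro V W g
    apply AddCommGrpCat.hom_ext
    ext m
    change etaApp M b₀ W.unop m = (TT (Lam (Y := Y) M) (Lam (Y := Y) M)).obj.map g
      (etaApp M b₀ V.unop m)
    change tm _ _ _ _ _ = (TT (Lam (Y := Y) M) (Lam (Y := Y) M)).obj.map g.unop.op (tm _ _ _ _ _)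
    rw [tm_map, cs_map, cs_map]

/-- the map `Λ → Λ ⊗ Λ`, `m ↦ m ⊗ b₀` -/
noncomputable def phi : Lam (Y := Y) M ⟶ TT (Lam (Y := Y) M) (Lam (Y := Y) M) :=
  ⟨sheafifyLift Y.smallEtaleTopology (eta M b₀) (TT (Lam (Y := Y) M) (Lam (Y := Y) M)).property⟩

lemma phi_cs (V : Y.Etale) (m : M) :
    (phi M b₀).hom.app (op V) (cs M V m) =
      tm (Lam (Y := Y) M) (Lam (Y := Y) M) V (cs M V m) (cs M V b₀) := by
  have h := congrArg (fun t => t.app (op V))
    (toSheafify_sheafifyLift Y.smallEtaleTopology (eta M b₀)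
      (TT (Lam (Y := Y) M) (Lam (Y := Y) M)).property)
  exact ConcreteCategory.congr_hom h m

lemma stalk_phi_gam (V : Y.Etale) (x : (Scheme.pointSmallEtale ξ).fiber.obj V) (m : M) :
    (EtCoh.stalk ξ).map (phi M b₀) (gam M ξ V x m) =
      tau ξ (Lam (Y := Y) M) (Lam (Y := Y) M) (gam M ξ V x m ⊗ₜ[ℤ] gam M ξ V x b₀) := by
  rw [gam_apply, gam_apply, tau_gm, ← phi_cs]
  exact (Scheme.pointSmallEtale ξ).toPresheafFiber_naturality_apply (phi M b₀).hom V x _

end Phi

section Bij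

variable (b₀ : M) (hb : Function.Bijective (fun m : M => (m ⊗ₜ[ℤ] b₀ : (M : Type (u + 1)) ⊗[ℤ] M)))

include hb in
theorem stalk_phi_bijective : Function.Bijective ((EtCoh.stalk ξ).map (phi (Y := Y) M b₀)) := by
  obtain ⟨⟨V, x⟩⟩ := IsCofiltered.nonempty (C := (Scheme.pointSmallEtale ξ).fiber.Elements)
  let γ := AddEquiv.ofBijective (gam M ξ V x) (gam_bijective M ξ V x)
  let L : (M : Type (u + 1)) ≃ₗ[ℤ] (((EtCoh.stalk ξ).obj (Lam (Y := Y) M) : AddCommGrpCat) : Type (u + 1)) :=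
    γ.toIntLinearEquiv
  let T := TensorProduct.congr L L
  have hcomp : ((EtCoh.stalk ξ).map (phi (Y := Y) M b₀) : _ → _) ∘ γ =
      (tau ξ (Lam (Y := Y) M) (Lam (Y := Y) M)) ∘ T ∘ (fun m : M => m ⊗ₜ[ℤ] b₀) := by
    funext m
    exact stalk_phi_gam M ξ b₀ V x m
  have h1 : Function.Bijective
      ((tau ξ (Lam (Y := Y) M) (Lam (Y := Y) M)) ∘ T ∘ (fun m : M => m ⊗ₜ[ℤ] b₀)) :=
    (tau ξ _ _).bijective.comp (T.bijective.comp hb)
  rw [← hcomp] at h1
  exact (Function.Bijective.of_comp_iff _ γ.bijective).1 h1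

include hb in
theorem isIso_phi : IsIso (phi (Y := Y) M b₀) := by
  have hs : ⋃ y : Y, Set.range (geomξ Y y) = Set.univ := by
    ext y
    simp only [Set.mem_iUnion, Set.mem_range, Set.mem_univ, iff_true]
    exact ⟨y, default, geomξ_default Y y⟩
  haveI : Mono (phi (Y := Y) M b₀) :=
    ab_mono_of_family (fun y => geomξ Y y) hs _ (fun y => (stalk_phi_bijective M _ b₀ hb).injective)
  haveI : Epi (phi (Y := Y) M b₀) :=
    ab_epi_of_family (fun y => geomξ Y y) hs _ (fun y => (stalk_phi_bijective M _ b₀ hb).surjective)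
  exact isIso_of_mono_of_epi _

end Bij

end Const

section ZModN

lemma tmul_one_bijective (n : ℕ) :
    Function.Bijective (fun m : ULift.{u + 1} (ZMod n) =>
      (m ⊗ₜ[ℤ] (ULift.up 1 : ULift.{u + 1} (ZMod n)) :
        ULift.{u + 1} (ZMod n) ⊗[ℤ] ULift.{u + 1} (ZMod n))) := by
  constructor
  · intro m m' h
    have h2 := congrArg (LinearMap.mul' ℤ (ULift.{u + 1} (ZMod n))) h
    simp only [LinearMap.mul'_apply] at h2
    have h1 : (ULift.up 1 : ULift.{u + 1} (ZMod n)) = 1 := rfl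
    rw [h1, mul_one, mul_one] at h2
    exact h2
  · intro t
    induction t using TensorProduct.induction_on with
    | zero => exact ⟨0, TensorProduct.zero_tmul _ _⟩
    | tmul a b =>
      refine ⟨((b.down).cast : ℤ) • a, ?_⟩
      have hbk : b = ((b.down).cast : ℤ) • (ULift.up 1 : ULift.{u + 1} (ZMod n)) := by
        apply ULift.ext
        change b.down = ((b.down).cast : ℤ) • (1 : ZMod n)
        rw [zsmul_one, ZMod.intCast_zmod_cast]
      change (((b.down).cast : ℤ) • a) ⊗ₜ[ℤ] (ULift.up 1 : ULift.{u + 1} (ZMod n)) = a ⊗ₜ[ℤ] b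
      rw [TensorProduct.smul_tmul, ← hbk]
    | add t t' ht ht' =>
      obtain ⟨m, hm⟩ := ht
      obtain ⟨m', hm'⟩ := ht'
      exact ⟨m + m', by
        change (m + m') ⊗ₜ[ℤ] _ = _
        rw [TensorProduct.add_tmul]
        exact congrArg₂ (· + ·) hm hm'⟩

/-- `ℤ/n ⊗ ℤ/n ≅ ℤ/n` for constant sheaves -/
theorem nonempty_tensor_const_iso (Y : Scheme.{u}) (n : ℕ) :
    Nonempty (EtDual.tensorAb (EtCoh.const Y (ZMod n)) (EtCoh.const Y (ZMod n)) ≅
      EtCoh.const Y (ZMod n)) := by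
  haveI := isIso_phi (Y := Y) (AddCommGrpCat.of (ULift.{u + 1} (ZMod n))) (ULift.up 1)
    (tmul_one_bijective n)
  exact ⟨(asIso (phi (Y := Y) (AddCommGrpCat.of (ULift.{u + 1} (ZMod n))) (ULift.up 1))).symm⟩

end ZModN

end Groth.Agent.H7.SP
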