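import Mathlib
import Groth.Prelude.Def_EtBase
import Groth.Prelude.Def_EtShriek2
import Groth.Prelude.Def_EtDual
import Groth.Agent.Lib.Helper7.ES1
import Groth.Agent.Lib.Helper7.ES2
import Groth.Agent.Lib.Helper7.ES8
import Groth.Agent.Lib.Helper7.BS10
import Groth.Agent.Lib.Lead.SC.FunSES

/-!
# Helper7: LSup1 — local cohomology sheaves and `R^p j_*`
-/

set_option autoImplicit false

open CategoryTheory Limits AlgebraicGeometry Opposite

namespace Groth.Agent.H7.LSup

universe u

section General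

variable {C D : Type*} [Category C] [Category D] {L : D ⥤ C} {P : C ⥤ D} {R : D ⥤ C}
  (adj1 : L ⊣ P) (adj2 : P ⊣ R)

/-- adjoint triple `L ⊣ P ⊣ R` with `L P T → T` mono: the unit `I → R P I` is a split epi for
injective `I`. -/
theorem exists_section_unit (h : ∀ T, Mono (adj1.counit.app T)) (I : C) [Injective I] :
    ∃ s : R.obj (P.obj I) ⟶ I, s ≫ adj2.unit.app I = 𝟙 _ := by
  haveI := h (R.obj (P.obj I))
  let φ : L.obj (P.obj (R.obj (P.obj I))) ⟶ I :=
    (adj1.homEquiv _ _).symm (adj2.counit.app (P.obj I))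
  let s : R.obj (P.obj I) ⟶ I := Injective.factorThru φ (adj1.counit.app _)
  have hs : adj1.counit.app _ ≫ s = φ := Injective.comp_factorThru _ _
  have h1 : P.map s = adj2.counit.app (P.obj I) := by
    have := congrArg (adj1.homEquiv _ _) hs
    simpa [φ, Adjunction.homEquiv_unit] using this
  refine ⟨s, ?_⟩
  have h2 := adj2.unit.naturality s
  simp only [Functor.id_obj, Functor.id_map, Functor.comp_obj, Functor.comp_map] at h2
  rw [h2, h1]
  exact adj2.right_triangle_components _

end General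

end Groth.Agent.H7.LSup

namespace Groth.Agent.H7.LSup

universe u

open Groth.Agent.H7.ES

section Et

variable {U X : Scheme.{u}} (j : U ⟶ X) [IsOpenImmersion j]

/-- for an open immersion `j` and injective `I`, the unit `I → j_* j⁻¹ I` is an epimorphism -/
theorem epi_unit_of_injective (I : EtCoh.Ab X) [Injective I] :
    Epi ((EtCoh.pullPushAdj j).unit.app I) := by
  obtain ⟨s, hs⟩ := exists_section_unit (EtShriek.extZeroAdj j) (restrPushAdj j)
    (fun T => mono_extZeroAdj_counit j T) I
  haveI : Epi ((restrPushAdj j).unit.app I) := ⟨fun {Z} a b hab => by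
    have := congrArg (fun t => s ≫ t) hab
    simpa [reassoc_of% hs] using this⟩
  have h := Adjunction.unit_leftAdjointUniq_hom_app (EtCoh.pullPushAdj j) (restrPushAdj j) I
  have h2 : (EtCoh.pullPushAdj j).unit.app I =
      (restrPushAdj j).unit.app I ≫ (EtCoh.push j).map ((pullIsoRestr j).inv.app I) := by
    rw [← h]
    change _ = (_ ≫ (EtCoh.push j).map ((pullIsoRestr j).hom.app I)) ≫ _
    rw [Category.assoc, ← CategoryTheory.Functor.map_comp, Iso.hom_inv_id_app,
      CategoryTheory.Functor.map_id, Category.comp_id]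
  rw [h2]
  infer_instance

/-- the inclusion `Γ_Z ⟶ 𝟭` -/
noncomputable def secSuppι : EtDual.secSupp j ⟶ 𝟭 (EtCoh.Ab X) where
  app F := kernel.ι (EtDual.unitApp j F)
  naturality F G f := by
    exact kernel.lift_ι _ _ _

/-- the unit, as a transformation `𝟭 ⟶ j⁻¹ ⋙ j_*` -/
noncomputable abbrev unitNT : 𝟭 (EtCoh.Ab X) ⟶ EtCoh.pull j ⋙ EtCoh.push j :=
  (EtCoh.pullPushAdj j).unit

theorem secSuppι_unit : secSuppι j ≫ unitNT j = 0 := by
  apply NatTrans.ext
  funext F
  exact kernel.condition (EtDual.unitApp j F)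

theorem shortExact_of_injective (I : EtCoh.Ab X) (hI : Injective I) :
    (ShortComplex.mk ((secSuppι j).app I) ((unitNT j).app I)
      (Groth.Agent.LD.SC.FunSES.app_comp_app _ _ (secSuppι_unit j) I)).ShortExact := by
  haveI : Mono ((secSuppι j).app I) := inferInstanceAs (Mono (kernel.ι _))
  haveI : Epi ((unitNT j).app I) := epi_unit_of_injective j I
  refine ShortComplex.ShortExact.mk' ?_ inferInstance inferInstance
  exact ShortComplex.exact_of_f_is_kernel _ (kernelIsKernel _)

end Et

end Groth.Agent.H7.LSup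

namespace Groth.Agent.H7.LSup

universe u

open Groth.Agent.H7.ES Groth.Agent.LD.SC.FunSES

section Et2

variable {U X : Scheme.{u}} (j : U ⟶ X) [IsOpenImmersion j]

instance : (EtCoh.pull j).PreservesInjectiveObjects :=
  ⟨fun {I} _ => pull_injective_of_etale j I⟩

theorem S6658_main (F : EtCoh.Ab X) :
    Nonempty (cokernel (EtDual.unitApp j F) ≅ (EtDual.locCoh j 1).obj F) ∧
      ∀ p : ℕ, 1 ≤ p →
        Nonempty ((EtCoh.Rpush j p).obj ((EtCoh.pull j).obj F) ≅
          (EtDual.locCoh j (p + 1)).obj F) := by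
  have hZ : ∀ (n : ℕ) (Y : EtCoh.Ab X), IsZero (((𝟭 (EtCoh.Ab X)).rightDerived (n + 1)).obj Y) :=
    fun n Y => isZero_rightDerived_succ_of_exact (𝟭 (EtCoh.Ab X)) n Y
  constructor
  · let e := cokerIso (secSuppι j) (unitNT j) (secSuppι_unit j) (shortExact_of_injective j)
      (hZ 0)
    let e1 := PreservesCokernel.iso ((evaluation (EtCoh.Ab X) (EtCoh.Ab X)).obj F) (unitNT j)
    exact ⟨e1.symm ≪≫ e.app F⟩
  · intro p hp
    obtain ⟨q, rfl⟩ : ∃ q, p = q + 1 := ⟨p - 1, by omega⟩
    let e := δIso (secSuppι j) (unitNT j) (secSuppι_unit j) (shortExact_of_injective j) (q + 1)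
      (hZ q) (hZ (q + 1))
    let e2 := Groth.Agent.H7.BS.rightDerivedPrecompIso (EtCoh.pull j) (EtCoh.push j)
      (EtCoh.pull j ⋙ EtCoh.push j) (Iso.refl _) F (q + 1)
    exact ⟨e2 ≪≫ e.app F⟩

end Et2

end Groth.Agent.H7.LSup
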