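import Mathlib
import Groth.Prelude.Def_EtBase
import Groth.Prelude.Def_EtCore
import Groth.Prelude.Def_EtDual
import Groth.Prelude.Def_EtDepth
import Groth.Prelude.Def_RDer
import Groth.Agent.Lib.Helper7.SplitCx1
import Groth.Agent.Lib.Helper7.SplitCx2
import Groth.Agent.Lib.Helper7.LSup1
import Groth.Agent.Lib.Helper7.CI12

/-!
# Helper7: SplitCx3 — étale depth: monotonicity in the closed subset and the edge map
-/

set_option autoImplicit false

open CategoryTheory Limits AlgebraicGeometry Opposite HomologicalComplex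

namespace Groth.Agent.H7.SplitCx

universe u

section Abs

variable {A : Type*} [Category A] [Abelian A] {T : A ⥤ A} [T.PreservesMonomorphisms]
  (η : 𝟭 A ⟶ T) {Γ G : A ⥤ A} (ι : Γ ⟶ 𝟭 A) (ι' : G ⟶ 𝟭 A)
  (w : ∀ F, ι.app F ≫ η.app F = 0) (hΓ : ∀ F, IsLimit (KernelFork.ofι (ι.app F) (w F)))
  (hG : ∀ F, Mono (ι'.app F)) (hle : ∀ F, ∃ κ : Γ.obj F ⟶ G.obj F, κ ≫ ι'.app F = ι.app F)

include hΓ hG hle in
/-- `Γ ∘ G ≅ Γ` when `Γ = ker η ⊆ G ⊆ 𝟭` -/
theorem isIso_map_of_le (F : A) : IsIso (Γ.map (ι'.app F)) := by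
  haveI := hG F
  have hmono : ∀ F, Mono (ι.app F) := fun F =>
    mono_of_isLimit_fork (hΓ F)
  haveI := hmono F
  haveI := hmono (G.obj F)
  have hnat : Γ.map (ι'.app F) ≫ ι.app F = ι.app (G.obj F) ≫ ι'.app F := ι.naturality (ι'.app F)
  haveI : Mono (Γ.map (ι'.app F)) := by
    haveI : Mono (Γ.map (ι'.app F) ≫ ι.app F) := by rw [hnat]; infer_instance
    exact mono_of_mono _ (ι.app F)
  obtain ⟨κ, hκ⟩ := hle F
  haveI : Mono (T.map (ι'.app F)) := inferInstance
  have h0 : κ ≫ η.app (G.obj F) = 0 := by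
    rw [← cancel_mono (T.map (ι'.app F)), zero_comp, Category.assoc]
    have := η.naturality (ι'.app F)
    simp only [Functor.id_obj, Functor.id_map] at this
    rw [← this, reassoc_of% hκ, w]
  obtain ⟨l, hl⟩ := KernelFork.IsLimit.lift' (hΓ (G.obj F)) κ h0
  have hl' : l ≫ ι.app (G.obj F) = κ := hl
  have h1 : l ≫ Γ.map (ι'.app F) = 𝟙 _ := by
    rw [← cancel_mono (ι.app F), Category.assoc, hnat, reassoc_of% hl', hκ, Category.id_comp]
  haveI : IsSplitEpi (Γ.map (ι'.app F)) := ⟨⟨⟨l, h1⟩⟩⟩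
  exact isIso_of_mono_of_isSplitEpi _

end Abs

section Et

open Groth.Agent.H7.ES Groth.Agent.H7.LSup

variable {U X : Scheme.{u}} (j : U ⟶ X) [IsOpenImmersion j]

/-- for an open immersion `j` and injective `I`, the unit `I → j_* j⁻¹ I` is a split epi -/
theorem exists_section_unit_et (I : EtCoh.Ab X) [Injective I] :
    ∃ s : (EtCoh.push j).obj ((EtCoh.pull j).obj I) ⟶ I,
      s ≫ (EtCoh.pullPushAdj j).unit.app I = 𝟙 _ := by
  obtain ⟨s, hs⟩ := exists_section_unit (EtShriek.extZeroAdj j) (restrPushAdj j)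
    (fun T => mono_extZeroAdj_counit j T) I
  have h := Adjunction.unit_leftAdjointUniq_hom_app (EtCoh.pullPushAdj j) (restrPushAdj j) I
  refine ⟨(EtCoh.push j).map ((pullIsoRestr j).hom.app I) ≫ s, ?_⟩
  have h2 : (EtCoh.pullPushAdj j).unit.app I =
      (restrPushAdj j).unit.app I ≫ (EtCoh.push j).map ((pullIsoRestr j).inv.app I) := by
    rw [← h]
    change _ = (_ ≫ (EtCoh.push j).map ((pullIsoRestr j).hom.app I)) ≫ _
    rw [Category.assoc, ← CategoryTheory.Functor.map_comp, Iso.hom_inv_id_app,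
      CategoryTheory.Functor.map_id, Category.comp_id]
  rw [h2, Category.assoc, reassoc_of% hs, ← CategoryTheory.Functor.map_comp, Iso.hom_inv_id_app,
    CategoryTheory.Functor.map_id]

/-- `Γ_Z` preserves injectives -/
instance secSupp_preservesInjectiveObjects : (EtDual.secSupp j).PreservesInjectiveObjects :=
  ⟨fun {I} _ => by
    obtain ⟨s, hs⟩ := exists_section_unit_et j I
    let η := EtDual.unitApp j I
    have hη : s ≫ η = 𝟙 _ := hs
    let r : I ⟶ kernel η := kernel.lift η (𝟙 _ - η ≫ s) (by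
      rw [Preadditive.sub_comp, Category.id_comp, Category.assoc, hη, Category.comp_id, sub_self])
    have hr : kernel.ι η ≫ r = 𝟙 _ := by
      rw [← cancel_mono (kernel.ι η), Category.assoc, kernel.lift_ι, Preadditive.comp_sub,
        Category.comp_id, kernel.condition_assoc, zero_comp, sub_zero, Category.id_comp]
    exact (Retract.mk (kernel.ι η) r hr).injective⟩

end Et

end Groth.Agent.H7.SplitCx

namespace Groth.Agent.H7.SplitCx

universe u v₁ u₁ v₂ u₂ v₃ u₃

section Edge

variable {A : Type u₁} [Category.{v₁} A] [Abelian A] [HasInjectiveResolutions A]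
  {B : Type u₂} [Category.{v₂} B] [Abelian B] [HasInjectiveResolutions B]
  {C : Type u₃} [Category.{v₃} C] [Abelian C]

theorem isIso_edgeOut (Φ : A ⥤ B) [Φ.Additive] [Φ.PreservesInjectiveObjects] (Ψ : B ⥤ C)
    [Ψ.Additive] [PreservesFiniteLimits Ψ] (X : A) (n : ℕ)
    (h : ∀ p, p < n → IsZero ((Φ.rightDerived p).obj X)) : IsIso (RDer.edgeOut Φ Ψ n X) := by
  have hK : ∀ p, p < n →
      ((Φ.mapHomologicalComplex _).obj (injectiveResolution X).cocomplex).ExactAt p := fun p hp => by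
    rw [exactAt_iff_isZero_homology]
    exact (h p hp).of_iso ((injectiveResolution X).isoRightDerivedObj Φ p).symm
  have h0 : IsIso (RDer.homologyComparison Ψ
      ((Φ.mapHomologicalComplex _).obj (injectiveResolution X).cocomplex) n) :=
    isIso_homologyComparison Ψ _ n hK
  have h1 : IsIso (Ψ.map ((injectiveResolution X).isoRightDerivedObj Φ n).inv) := inferInstance
  have h2 : IsIso ((injectiveResolution X).isoRightDerivedObj (Φ ⋙ Ψ) n).hom := inferInstance
  unfold RDer.edgeOut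
  exact @IsIso.comp_isIso _ _ _ _ _ _ _ h2 (@IsIso.comp_isIso _ _ _ _ _ _ _ h0 h1)

end Edge

section Et2

variable {U X : Scheme.{u}} (j : U ⟶ X) [IsOpenImmersion j]

theorem S5189_main (F : EtCoh.Ab X) (n : ℕ) (h : EtDepth.DepthGE j F n) :
    IsIso (RDer.edgeOut (EtDual.secSupp j)
      (sheafToPresheaf X.smallEtaleTopology AddCommGrpCat.{u+1} ⋙
        (evaluation X.Etaleᵒᵖ AddCommGrpCat.{u+1}).obj (op (EtCoh.top X))) n F) :=
  isIso_edgeOut _ _ F n h

end Et2

end Groth.Agent.H7.SplitCx
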