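import Mathlib
import Groth.Prelude.Def_EtDual
import Groth.Prelude.Def_EtDepth
import Groth.Agent.Lib.Helper7.SP1
import Groth.Agent.Lib.Helper7.SP3
import Groth.Agent.Lib.Helper7.SP4
import Groth.Agent.Lib.Helper7.SP5
import Groth.Agent.Lib.Helper7.SP6
import Groth.Agent.Lib.Helper7.MuN2
import Groth.Agent.Lib.Helper7.SplitCx3

set_option autoImplicit false

universe u

open CategoryTheory CategoryTheory.Limits Opposite AlgebraicGeometry

namespace Groth.Agent.H7.SP

open Groth.Agent.H7.ES Groth.Agent.H7.XC EtShriek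

attribute [local instance] jCont_of_etale

section Tate

variable {Y : Scheme.{u}} (n : ℕ)

/-- if `μ_n ≅ ℤ/n` then all Tate twists are constant -/
theorem nonempty_tate_iso_const (eμ : EtCoh.mu Y n ≅ EtCoh.const Y (ZMod n)) :
    ∀ c : ℕ, Nonempty (EtDual.tate Y n c ≅ EtCoh.const Y (ZMod n))
  | 0 => ⟨Iso.refl _⟩
  | c + 1 => by
    obtain ⟨e⟩ := nonempty_tate_iso_const eμ c
    obtain ⟨e2⟩ := nonempty_tensor_const_iso Y n
    exact ⟨tensorAbIso e eμ ≪≫ e2⟩

end Tate

section Depth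

variable {X U : Scheme.{u}} (j : U ⟶ X) [IsOpenImmersion j]

lemma isEmpty_of_isUnit_zero (h : IsUnit ((0 : ℕ) : Γ(X, ⊤))) : IsEmpty X := by
  constructor
  intro x
  have h1 := h.map (X.presheaf.germ ⊤ x trivial).hom
  rw [Nat.cast_zero, map_zero] at h1
  exact not_isUnit_zero h1

/-- vanishing of `H^p_Y(ℤ/n)` for `p < m` implies vanishing of `H^p_Y(ℤ/n(c))` for `p < m` -/
theorem depth_tate (n : ℕ) (hn : IsUnit (n : Γ(X, ⊤))) (c m : ℕ)
    (h : ∀ p : ℕ, p < m → IsZero ((EtDual.locCoh j p).obj (EtCoh.const X (ZMod n)))) :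
    ∀ p : ℕ, p < m → IsZero ((EtDual.locCoh j p).obj (EtDual.tate X n c)) := by
  intro p hp
  rcases Nat.eq_zero_or_pos n with h0 | hpos
  · subst h0
    haveI := isEmpty_of_isUnit_zero hn
    refine isZero_of_restr (ι := PEmpty.{1}) (fun i => i.elim) (fun i => i.elim)
      (fun x => isEmptyElim x) _ (fun i => i.elim)
  · refine isZero_of_restr (fun V : X.affineOpens => cycSch X n V) (fun V => cycMap X n V)
      (fun x => cycMap_surjective hpos hn x) _ ?_
    intro V
    let f := cycMap X n V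
    let j' := pullback.fst f j
    let f' := pullback.snd f j
    have hpb : IsPullback j' f' f j := IsPullback.of_hasPullback f j
    obtain ⟨ζ, hζ⟩ := cycSch_root X n V
    have hunit : IsUnit (n : Γ(cycSch X n V, ⊤)) := by
      have h1 := hn.map f.appTop.hom
      rwa [map_natCast] at h1
    obtain ⟨eμ⟩ := Groth.Agent.H7.MuN.S13507_main hpos hunit ζ hζ
    obtain ⟨eT⟩ := nonempty_tate_iso_const n eμ c
    obtain ⟨e1⟩ := nonempty_locCoh_restr j f j' f' hpb (EtDual.tate X n c) p
    obtain ⟨e5⟩ := nonempty_locCoh_restr j f j' f' hpb (EtCoh.const X (ZMod n)) p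
    have e2 : (restrAlong f).obj (EtDual.tate X n c) ≅
        (restrAlong f).obj (EtCoh.const X (ZMod n)) :=
      restrTate f n c ≪≫ eT ≪≫ (restrConst f (ZMod n)).symm
    have hz : IsZero ((restrAlong f).obj ((EtDual.locCoh j p).obj (EtCoh.const X (ZMod n)))) :=
      Functor.map_isZero _ (h p hp)
    exact hz.of_iso (e1 ≪≫ (EtDual.locCoh j' p).mapIso e2 ≪≫ e5.symm)

end Depth

end Groth.Agent.H7.SP
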