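import Mathlib
import Groth.Prelude.Def_EtDual
import Groth.Prelude.Def_EtDepth
import Groth.Agent.Lib.Helper7.FLC1
import Groth.Agent.Lib.Helper7.SP7
import Groth.Agent.Lib.Helper2.CdlF

/-! # Depth of finite locally constant `ℓ`-torsion sheaves -/

set_option autoImplicit false
universe u
open CategoryTheory CategoryTheory.Limits Opposite AlgebraicGeometry

namespace Groth.Agent.H7.FLC

open Groth.Agent.H7.ES Groth.Agent.H7.XC EtShriek Groth.Agent.H7.SP Groth.Agent.H7.ST

attribute [local instance] jCont_of_etale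

section CS

variable {Y : Scheme.{u}} (M : AddCommGrpCat.{u + 1})

/-- constant sections over a nonempty étale scheme are faithful -/
lemma cs_injective (W : Y.Etale) (w : W.left) : Function.Injective (cs M W) := by
  let ξ' := geomξ W.left w
  let x : (Scheme.pointSmallEtale (ξ' ≫ W.hom)).fiber.obj W := Over.homMk ξ' rfl
  intro m m' h
  apply (gam_bijective M (ξ' ≫ W.hom) W x).1
  rw [gam_apply, gam_apply, h]

/-- an `ℓ`-torsion constant sheaf on a nonempty scheme has `ℓ`-primary value group -/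
theorem torsion_of_const (y : Y) (ℓ : ℕ) (G : EtCoh.Ab Y) (e : G ≅ Lam (Y := Y) M)
    (hG : EtDepth.IsLTorsion ℓ G) (m : M) : ∃ k : ℕ, (ℓ ^ k) • m = 0 := by
  let U := EtCoh.top Y
  let s : EtCoh.sect G U := e.inv.hom.app (op U) (cs M U m)
  obtain ⟨V, g, ⟨v, hv⟩, k, hk⟩ := hG U s y
  refine ⟨k, ?_⟩
  apply cs_injective M V v
  rw [map_nsmul, map_zero]
  have h1 : e.hom.hom.app (op V) (G.obj.map g.op s) = cs M V m := by
    have hn := ConcreteCategory.congr_hom (e.hom.hom.naturality g.op) s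
    rw [ConcreteCategory.comp_apply, ConcreteCategory.comp_apply] at hn
    rw [hn]
    have h2 : e.hom.hom.app (op U) s = cs M U m := by
      have h3 := congrArg (fun φ : Lam (Y := Y) M ⟶ Lam (Y := Y) M => φ.hom.app (op U) (cs M U m))
        e.inv_hom_id
      exact h3
    rw [h2]
    exact cs_map M g m
  rw [← h1, ← map_nsmul, hk, map_zero]

end CS

section Restr

variable {X X' : Scheme.{u}} (f : X' ⟶ X) [AlgebraicGeometry.Etale f]

theorem isLTorsion_restr (ℓ : ℕ) (F : EtCoh.Ab X) (h : EtDepth.IsLTorsion ℓ F) :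
    EtDepth.IsLTorsion ℓ ((restrAlong f).obj F) := by
  intro U' s x
  obtain ⟨V, g, ⟨v, hv⟩, k, hk⟩ := h ((compEtale f).obj U') s x
  let L := compEtaleLift f g
  let g' : L.1 ⟶ U' := MorphismProperty.Over.homMk g.left rfl
  have hg' : (compEtale f).map g' = L.2.hom ≫ g := by
    apply MorphismProperty.Over.Hom.ext
    change g.left = 𝟙 _ ≫ g.left
    rw [Category.id_comp]
  refine ⟨L.1, g', ⟨v, hv⟩, k, ?_⟩
  change (ℓ ^ k) • (F.obj.map ((compEtale f).map g').op s) = 0
  rw [hg', op_comp, F.obj.map_comp, ConcreteCategory.comp_apply, ← map_nsmul, hk, map_zero]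

end Restr

section Main

/-- sheaves on the empty scheme vanish -/
theorem isZero_of_isEmpty (Y : Scheme.{u}) [IsEmpty Y] (G : EtCoh.Ab Y) : IsZero G :=
  isZero_of_restr (ι := PEmpty.{1}) (fun i => i.elim) (fun i => i.elim)
    (fun x => isEmptyElim x) _ (fun i => i.elim)

variable {X U : Scheme.{u}} (j : U ⟶ X) [IsOpenImmersion j]

theorem S5201_main (ℓ : ℕ) (hℓ : ℓ.Prime) (n : ℕ)
    (hX : ∀ p : ℕ, p < n → IsZero ((EtDual.locCoh j p).obj (EtCoh.const X (ZMod ℓ))))
    (F : EtCoh.Ab X) (hFlc : EtCoh.IsFiniteLocallyConstant F) (hFt : EtDepth.IsLTorsion ℓ F) :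
    ∀ p : ℕ, p < n → IsZero ((EtDual.locCoh j p).obj F) := by
  intro p hp
  obtain ⟨ι, V, hcov, hV⟩ := hFlc
  refine isZero_of_restr (fun i => (V i).left) (fun i => (V i).hom) hcov _ ?_
  intro i
  obtain ⟨M, _, _, ⟨α⟩⟩ := hV i
  let f : (V i).left ⟶ X := (V i).hom
  let j' := pullback.fst f j
  let f' := pullback.snd f j
  have hpb : IsPullback j' f' f j := IsPullback.of_hasPullback f j
  obtain ⟨e1⟩ := nonempty_locCoh_restr j f j' f' hpb F p
  refine IsZero.of_iso ?_ e1
  let y : (compEtale f).obj (EtCoh.top (V i).left) ⟶ V i :=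
    MorphismProperty.Over.homMk (𝟙 _) rfl
  obtain ⟨β⟩ := Groth.Agent.H2.Cdl.nonempty_pull_iso_const f F (V i) _ α y
  have e2 : (restrAlong f).obj F ≅ EtCoh.const (V i).left M := ((pullIsoRestr f).app F).symm ≪≫ β
  refine IsZero.of_iso ?_ ((EtDual.locCoh j' p).mapIso e2)
  by_cases hne : Nonempty (V i).left
  · obtain ⟨y0⟩ := hne
    have ht : ∀ m : M, ∃ k : ℕ, (ℓ ^ k) • m = 0 := by
      intro m
      obtain ⟨k, hk⟩ := torsion_of_const (AddCommGrpCat.of (ULift.{u + 1} M)) y0 ℓ _ e2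
        (isLTorsion_restr f ℓ F hFt) (ULift.up m)
      exact ⟨k, congrArg ULift.down hk⟩
    have h0 : ∀ q : ℕ, q < n →
        IsZero ((EtDual.locCoh j' q).obj (EtCoh.const (V i).left (ZMod ℓ))) := by
      intro q hq
      obtain ⟨e6⟩ := nonempty_locCoh_restr j f j' f' hpb (EtCoh.const X (ZMod ℓ)) q
      have hz : IsZero ((restrAlong f).obj ((EtDual.locCoh j q).obj (EtCoh.const X (ZMod ℓ)))) :=
        Functor.map_isZero _ (hX q hq)
      exact (hz.of_iso e6.symm).of_iso ((EtDual.locCoh j' q).mapIso (restrConst f (ZMod ℓ)).symm)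
    exact depth_const_of_prime j' ℓ hℓ n h0 (Nat.card M) M le_rfl ht p hp
  · haveI : IsEmpty (V i).left := not_nonempty_iff.1 hne
    exact isZero_of_isEmpty (V i).left _

end Main

end Groth.Agent.H7.FLC
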