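import Mathlib
import Groth.Agent.H4.WEt

set_option autoImplicit false

universe u

namespace Groth.Agent.H7.FlatMono

section spread

variable {A B : Type u} [CommRing A] [CommRing B]

/-- **Spreading out a surjection on local rings** (elementwise form).  `φ : A → B` of finite
type, `q` a prime of `B` such that every element of `B` is, in `B_q`, a fraction of elements
coming from `A`.  Then there are `t ∉ q` and `a` with `φ a ∣ t` such that in `B_t` every element
of `B`, and `1/t`, is a fraction `φ w / φ a ^ n`. -/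
theorem exists_surjective_away (φ : A →+* B) (hft : φ.FiniteType) (q : Ideal B) [q.IsPrime]
    (H : ∀ b : B, ∃ x y : A, φ y ∉ q ∧ ∃ t ∉ q, t * (b * φ y - φ x) = 0) :
    ∃ (t : B) (a : A), t ∉ q ∧ φ a ∣ t ∧
      (∀ b : B, ∃ (w : A) (n m : ℕ), t ^ m * (b * φ a ^ n) = t ^ m * φ w) ∧
      (∃ (w : A) (n m : ℕ), t ^ m * (t * φ w) = t ^ m * φ a ^ n) := by
  classical
  letI := φ.toAlgebra
  obtain ⟨s, hs⟩ := (hft : Algebra.FiniteType A B).out
  choose x y hy tt htt hrel using H
  set Y : A := ∏ b ∈ s, y b with hY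
  set t₀ : B := (∏ b ∈ s, tt b) * φ Y with ht₀
  have hφY : φ Y ∉ q := by
    rw [hY, map_prod]
    intro h
    obtain ⟨b, -, hb⟩ := (Ideal.IsPrime.prod_mem_iff).1 h
    exact hy b hb
  have ht₀q : t₀ ∉ q := by
    intro h
    rcases Ideal.IsPrime.mem_or_mem inferInstance h with h | h
    · obtain ⟨b, -, hb⟩ := (Ideal.IsPrime.prod_mem_iff).1 h
      exact htt b hb
    · exact hφY h
  -- every element of `B` is a fraction in `B_{t₀}`
  have C : ∀ b : B, ∃ (w : A) (n m : ℕ), t₀ ^ m * (b * φ Y ^ n) = t₀ ^ m * φ w := by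
    intro b
    have hb : b ∈ Algebra.adjoin A (s : Set B) := by rw [hs]; trivial
    induction hb using Algebra.adjoin_induction with
    | mem b hb =>
      have hbs : b ∈ s := hb
      refine ⟨x b * ∏ c ∈ s.erase b, y c, 1, 1, ?_⟩
      have h1 : Y = y b * ∏ c ∈ s.erase b, y c := by
        rw [hY, Finset.mul_prod_erase s y hbs]
      have h2 : (∏ c ∈ s, tt c) = tt b * ∏ c ∈ s.erase b, tt c := by
        rw [Finset.mul_prod_erase s tt hbs]
      have h3 := hrel b
      rw [ht₀, h2, h1, map_mul, map_mul, pow_one, pow_one]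
      linear_combination ((∏ c ∈ s.erase b, tt c) * (φ (y b) * φ (∏ c ∈ s.erase b, y c)) *
        φ (∏ c ∈ s.erase b, y c)) * h3
    | algebraMap r =>
      exact ⟨r, 0, 0, by simp [RingHom.algebraMap_toAlgebra]⟩
    | add b₁ b₂ _ _ h₁ h₂ =>
      obtain ⟨w₁, n₁, m₁, e₁⟩ := h₁
      obtain ⟨w₂, n₂, m₂, e₂⟩ := h₂
      refine ⟨w₁ * Y ^ n₂ + w₂ * Y ^ n₁, n₁ + n₂, m₁ + m₂, ?_⟩
      simp only [map_add, map_mul, map_pow, pow_add]
      linear_combination (t₀ ^ m₂ * φ Y ^ n₂) * e₁ + (t₀ ^ m₁ * φ Y ^ n₁) * e₂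
    | mul b₁ b₂ _ _ h₁ h₂ =>
      obtain ⟨w₁, n₁, m₁, e₁⟩ := h₁
      obtain ⟨w₂, n₂, m₂, e₂⟩ := h₂
      refine ⟨w₁ * w₂, n₁ + n₂, m₁ + m₂, ?_⟩
      simp only [map_mul, pow_add]
      linear_combination (t₀ ^ m₂ * b₂ * φ Y ^ n₂) * e₁ + (t₀ ^ m₁ * φ w₁) * e₂
  obtain ⟨w, n, m, hw⟩ := C t₀
  have hφw : φ w ∉ q := by
    intro h
    have h1 : t₀ ^ m * (t₀ * φ Y ^ n) ∈ q := by rw [hw]; exact Ideal.mul_mem_left _ _ h
    rcases Ideal.IsPrime.mem_or_mem inferInstance h1 with h2 | h2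
    · exact ht₀q (Ideal.IsPrime.mem_of_pow_mem inferInstance _ h2)
    · rcases Ideal.IsPrime.mem_or_mem inferInstance h2 with h3 | h3
      · exact ht₀q h3
      · exact hφY (Ideal.IsPrime.mem_of_pow_mem inferInstance _ h3)
  refine ⟨t₀ * φ (Y * w), Y * w, ?_, Dvd.intro_left _ rfl, ?_, ?_⟩
  · intro h
    rcases Ideal.IsPrime.mem_or_mem inferInstance h with h | h
    · exact ht₀q h
    · rw [map_mul] at h
      rcases Ideal.IsPrime.mem_or_mem inferInstance h with h | h
      · exact hφY h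
      · exact hφw h
  · intro b
    obtain ⟨wb, nb, mb, hb⟩ := C b
    refine ⟨wb * w ^ nb, nb, mb, ?_⟩
    simp only [map_mul, map_pow, mul_pow]
    linear_combination ((φ Y * φ w) ^ mb * φ w ^ nb) * hb
  · refine ⟨Y ^ (n + 1), 2, m, ?_⟩
    simp only [map_mul, map_pow, mul_pow]
    linear_combination ((φ Y) ^ m * (φ w) ^ m * φ Y * φ w * φ Y) * hw

/-- The elementwise conclusion of `exists_surjective_away` gives surjectivity of the induced map
between any models of the localizations. -/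
theorem surjective_of_away (φ : A →+* B) (t : B) (a : A)
    {A' B' : Type u} [CommRing A'] [CommRing B'] [Algebra A A'] [IsLocalization.Away a A']
    [Algebra B B'] [IsLocalization.Away t B']
    (φ' : A' →+* B') (hφ' : φ'.comp (algebraMap A A') = (algebraMap B B').comp φ)
    (h1 : ∀ b : B, ∃ (w : A) (n m : ℕ), t ^ m * (b * φ a ^ n) = t ^ m * φ w)
    (h2 : ∃ (w : A) (n m : ℕ), t ^ m * (t * φ w) = t ^ m * φ a ^ n) :
    Function.Surjective φ' := by
  have hc : ∀ r : A, algebraMap B B' (φ r) = φ' (algebraMap A A' r) := fun r =>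
    (RingHom.congr_fun hφ' r).symm
  have ht : IsUnit (algebraMap B B' t) := IsLocalization.Away.algebraMap_isUnit t
  have ha : IsUnit (algebraMap A A' a) := IsLocalization.Away.algebraMap_isUnit a
  have ha' : IsUnit (algebraMap B B' (φ a)) := by rw [hc]; exact ha.map φ'
  -- the image of `B` lies in the range
  have hB : ∀ b : B, algebraMap B B' b ∈ φ'.range := by
    intro b
    obtain ⟨w, n, m, e⟩ := h1 b
    have e' := congrArg (algebraMap B B') e
    simp only [map_mul, map_pow] at e'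
    have e'' : algebraMap B B' b * algebraMap B B' (φ a) ^ n = algebraMap B B' (φ w) :=
      (ht.pow m).mul_left_cancel e'
    obtain ⟨u, hu⟩ := ha.pow n
    refine ⟨algebraMap A A' w * ((u⁻¹ : A'ˣ) : A'), ?_⟩
    have hu' : φ' (u : A') = algebraMap B B' (φ a) ^ n := by rw [hu, map_pow, hc]
    have h3 : φ' ((u⁻¹ : A'ˣ) : A') * algebraMap B B' (φ a) ^ n = 1 := by
      rw [← hu', ← map_mul, Units.inv_mul, map_one]
    rw [map_mul, ← hc, ← e'']
    rw [mul_assoc, mul_comm (algebraMap B B' (φ a) ^ n), h3, mul_one]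
  have hT : ((ht.unit⁻¹ : B'ˣ) : B') ∈ φ'.range := by
    obtain ⟨w, n, m, e⟩ := h2
    have e' := congrArg (algebraMap B B') e
    simp only [map_mul, map_pow] at e'
    have e'' : algebraMap B B' t * algebraMap B B' (φ w) = algebraMap B B' (φ a) ^ n :=
      (ht.pow m).mul_left_cancel e'
    obtain ⟨u, hu⟩ := ha.pow n
    refine ⟨algebraMap A A' w * ((u⁻¹ : A'ˣ) : A'), ?_⟩
    have hu' : φ' (u : A') = algebraMap B B' (φ a) ^ n := by rw [hu, map_pow, hc]
    have h3 : φ' ((u⁻¹ : A'ˣ) : A') * algebraMap B B' (φ a) ^ n = 1 := by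
      rw [← hu', ← map_mul, Units.inv_mul, map_one]
    rw [map_mul, ← hc]
    have h4 : algebraMap B B' (φ w) = ((ht.unit⁻¹ : B'ˣ) : B') * algebraMap B B' (φ a) ^ n := by
      rw [← e'', ← mul_assoc]
      have : ((ht.unit⁻¹ : B'ˣ) : B') * algebraMap B B' t = 1 := by
        have := ht.unit.inv_mul
        rwa [IsUnit.unit_spec] at this
      rw [this, one_mul]
    rw [h4, mul_assoc, mul_comm (algebraMap B B' (φ a) ^ n), h3, mul_one]
  intro z
  obtain ⟨b, ⟨_, k, rfl⟩, rfl⟩ := IsLocalization.exists_mk'_eq (Submonoid.powers t) z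
  have : IsLocalization.mk' B' b (⟨t ^ k, k, rfl⟩ : Submonoid.powers t) =
      algebraMap B B' b * ((ht.unit⁻¹ : B'ˣ) : B') ^ k := by
    rw [IsLocalization.mk'_eq_iff_eq_mul]
    change _ = _ * algebraMap B B' (t ^ k)
    rw [map_pow, mul_assoc, ← mul_pow]
    have : ((ht.unit⁻¹ : B'ˣ) : B') * algebraMap B B' t = 1 := by
      have := ht.unit.inv_mul
      rwa [IsUnit.unit_spec] at this
    rw [this, one_pow, mul_one]
  rw [this]
  exact φ'.range.mul_mem (hB b) (φ'.range.pow_mem hT k)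

end spread

end Groth.Agent.H7.FlatMono
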