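import Mathlib
import Groth.Agent.H4.WEt

set_option autoImplicit false

universe u

namespace Groth.Agent.H7.FlatMono

section pure

variable {E B : Type u} [CommRing E] [CommRing B]

/-- If the localization `π' : E_f → B_{π f}` of a surjection `π` is of finite presentation, the
kernel of `π` is, up to powers of `f`, generated by finitely many of its elements. -/
theorem exists_finset_of_finitePresentation (π : E →+* B) (hπ : Function.Surjective π) (f : E)
    {E' B' : Type u} [CommRing E'] [CommRing B'] [Algebra E E'] [IsLocalization.Away f E']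
    [Algebra B B'] [IsLocalization.Away (π f) B']
    (π' : E' →+* B') (hc : π'.comp (algebraMap E E') = (algebraMap B B').comp π)
    (hfp : π'.FinitePresentation) :
    ∃ T : Finset E, (∀ k ∈ T, π k = 0) ∧
      ∀ x, π x = 0 → ∃ m : ℕ, f ^ m * x ∈ Ideal.span (T : Set E) := by
  classical
  have hc' : ∀ r : E, π' (algebraMap E E' r) = algebraMap B B' (π r) := fun r =>
    RingHom.congr_fun hc r
  have hf : IsUnit (algebraMap E E' f) := IsLocalization.Away.algebraMap_isUnit f
  -- `π'` is surjective
  have hsurj : Function.Surjective π' := by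
    intro z
    obtain ⟨b, ⟨_, k, rfl⟩, rfl⟩ := IsLocalization.exists_mk'_eq (Submonoid.powers (π f)) z
    obtain ⟨e, rfl⟩ := hπ b
    refine ⟨IsLocalization.mk' E' e (⟨f ^ k, k, rfl⟩ : Submonoid.powers f), ?_⟩
    rw [IsLocalization.eq_mk'_iff_mul_eq]
    change _ * algebraMap B B' (π f ^ k) = _
    rw [← map_pow, ← hc', ← map_mul]
    change π' (_ * algebraMap E E' ((⟨f ^ k, k, rfl⟩ : Submonoid.powers f) : E)) = _
    rw [IsLocalization.mk'_spec, hc']
  -- its kernel is finitely generated
  have hker : (RingHom.ker π').FG := by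
    letI := π'.toAlgebra
    haveI : Algebra.FinitePresentation E' B' := hfp
    have := Algebra.FinitePresentation.ker_fG_of_surjective (Algebra.ofId E' B') hsurj
    exact this
  -- the kernel is the extension of the kernel of `π`
  have hkereq : RingHom.ker π' = (RingHom.ker π).map (algebraMap E E') := by
    apply le_antisymm
    · intro z hz
      obtain ⟨e, ⟨_, k, rfl⟩, rfl⟩ := IsLocalization.exists_mk'_eq (Submonoid.powers f) z
      have h1 : π' (IsLocalization.mk' E' e (⟨f ^ k, k, rfl⟩ : Submonoid.powers f)) = 0 := hz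
      have h2 : algebraMap B B' (π e) = 0 := by
        rw [← hc', ← IsLocalization.mk'_spec E' e (⟨f ^ k, k, rfl⟩ : Submonoid.powers f),
          map_mul, h1, zero_mul]
      obtain ⟨⟨_, m, rfl⟩, hm⟩ :=
        (IsLocalization.map_eq_zero_iff (Submonoid.powers (π f)) B' (π e)).1 h2
      have hm' : π (f ^ m * e) = 0 := by
        rw [map_mul, map_pow]; exact hm
      have h3 : IsLocalization.mk' E' e (⟨f ^ k, k, rfl⟩ : Submonoid.powers f) =
          IsLocalization.mk' E' (f ^ m * e) (⟨f ^ m, m, rfl⟩ * ⟨f ^ k, k, rfl⟩ :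
            Submonoid.powers f) := by
        rw [IsLocalization.mk'_eq_iff_eq]
        simp only [Submonoid.coe_mul]
        congr 1
        ring
      rw [h3, IsLocalization.mk'_mem_map_algebraMap_iff]
      exact ⟨1, Submonoid.one_mem _, by rw [one_mul]; exact hm'⟩
    · rw [Ideal.map_le_iff_le_comap]
      intro x hx
      have hx' : π x = 0 := hx
      change π' (algebraMap E E' x) = 0
      rw [hc', hx', map_zero]
  rw [hkereq, Ideal.map, Ideal.span] at hker
  obtain ⟨T', hT'sub, hT'⟩ := (Submodule.fg_span_iff_fg_span_finset_subset _).1 hker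
  obtain ⟨T, hTsub, hTimg⟩ := Finset.subset_set_image_iff.1 hT'sub
  refine ⟨T, fun k hk => hTsub hk, fun x hx => ?_⟩
  have h1 : algebraMap E E' x ∈ (Ideal.span (T : Set E)).map (algebraMap E E') := by
    have h2 : algebraMap E E' x ∈ Submodule.span E' (algebraMap E E' '' (RingHom.ker π : Set E)) :=
      Submodule.subset_span ⟨x, hx, rfl⟩
    rw [hT', ← hTimg] at h2
    rw [Ideal.map_span]
    simpa using h2
  obtain ⟨⟨⟨i, hi⟩, ⟨_, m, rfl⟩⟩, e⟩ :=
    (IsLocalization.mem_map_algebraMap_iff (Submonoid.powers f) E').1 h1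
  have e' : algebraMap E E' (x * f ^ m) = algebraMap E E' i := by
    rw [map_mul]; exact e
  obtain ⟨⟨_, m', rfl⟩, hm'⟩ :=
    (IsLocalization.eq_iff_exists (Submonoid.powers f) E').1 e'
  refine ⟨m' + m, ?_⟩
  have h3 : f ^ (m' + m) * x = f ^ m' * i := by
    rw [pow_add]
    have : f ^ m' * (x * f ^ m) = f ^ m' * i := hm'
    linear_combination this
  rw [h3]
  exact Ideal.mul_mem_left _ _ hi

/-- **A pure ideal that is finitely generated over a separating finite family of basic opens is
principal.**  `π : E → B` surjective and flat, `f i` a finite family such that an element killed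
by powers of every `f i` vanishes, and over every `D(f i)` the kernel is finitely generated.
Then the kernel of `π` is generated by one element. -/
theorem ker_principal_of_flat (π : E →+* B) (hπ : Function.Surjective π) (hfl : π.Flat)
    {ι : Type*} [Finite ι] (f : ι → E)
    (hsep : ∀ x : E, (∀ i, ∃ m : ℕ, f i ^ m * x = 0) → x = 0)
    (hfg : ∀ i, ∃ T : Finset E, (∀ k ∈ T, π k = 0) ∧
      ∀ x, π x = 0 → ∃ m : ℕ, f i ^ m * x ∈ Ideal.span (T : Set E)) :
    ∃ y : E, RingHom.ker π = Ideal.span {y} := by
  classical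
  haveI := Fintype.ofFinite ι
  choose T hT0 hT using hfg
  let TT : Finset E := Finset.univ.biUnion T
  have hTT0 : ∀ k ∈ TT, π k = 0 := by
    intro k hk
    obtain ⟨i, -, hi⟩ := Finset.mem_biUnion.1 hk
    exact hT0 i k hi
  -- enumerate
  obtain ⟨l, c, hc⟩ : ∃ (l : ℕ) (c : Fin l → E), Set.range c = (TT : Set E) := by
    refine ⟨TT.card, fun j => (TT.equivFin.symm j : E), ?_⟩
    ext z
    constructor
    · rintro ⟨j, rfl⟩
      exact (TT.equivFin.symm j).2
    · intro hz
      exact ⟨TT.equivFin ⟨z, hz⟩, by simp⟩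
  have hc0 : ∀ j, π (c j) = 0 := fun j => hTT0 _ (by
    have : c j ∈ Set.range c := ⟨j, rfl⟩
    rw [hc] at this
    exact this)
  obtain ⟨e, he1, he0⟩ := Groth.Agent.H4.WEt.pure_of_flat_fin π hπ hfl c hc0
  have hTTe : ∀ z ∈ Ideal.span (TT : Set E), z * e = 0 := by
    intro z hz
    induction hz using Submodule.span_induction with
    | mem z hz =>
      have : z ∈ Set.range c := by rw [hc]; exact hz
      obtain ⟨j, rfl⟩ := this
      exact he0 j
    | zero => rw [zero_mul]
    | add a b _ _ ha hb => rw [add_mul, ha, hb, add_zero]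
    | smul r a _ ha => rw [smul_eq_mul, mul_assoc, ha, mul_zero]
  refine ⟨1 - e, le_antisymm ?_ ?_⟩
  · intro x hx
    have hx' : π x = 0 := hx
    have hxe : x * e = 0 := by
      apply hsep
      intro i
      obtain ⟨m, hm⟩ := hT i x hx'
      refine ⟨m, ?_⟩
      have h1 : f i ^ m * x ∈ Ideal.span (TT : Set E) :=
        Ideal.span_mono (by
          intro z hz
          exact Finset.mem_biUnion.2 ⟨i, Finset.mem_univ _, hz⟩) hm
      have := hTTe _ h1
      rw [← mul_assoc]; exact this
    rw [Ideal.mem_span_singleton]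
    exact ⟨x, by rw [sub_mul, one_mul, mul_comm e x, hxe, sub_zero]⟩
  · rw [Ideal.span_le]
    rintro _ rfl
    change π (1 - e) = 0
    rw [map_sub, map_one, he1, sub_self]

end pure

end Groth.Agent.H7.FlatMono
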