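import Mathlib
import Groth.Prelude

set_option autoImplicit false

universe u

open CategoryTheory CategoryTheory.Limits AlgebraicGeometry

namespace Groth.Agent.H7.FlatMono

/-- The stalk maps of a flat monomorphism of schemes are isomorphisms. -/
theorem isIso_stalkMap_of_flat_mono {Z Y : Scheme.{u}} (g : Z ⟶ Y) [Flat g] [Mono g] (z : Z) :
    IsIso (g.stalkMap z) := by
  have hfl : (g.stalkMap z).hom.Flat := Flat.stalkMap g z
  have hff : (g.stalkMap z).hom.FaithfullyFlat := by
    algebraize [(g.stalkMap z).hom]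
    exact @Module.FaithfullyFlat.of_flat_of_isLocalHom _ _ _ _ _ _ _ hfl (g.toLRSHom.prop z)
  obtain ⟨h1, h2⟩ := (flat_and_surjective_SpecMap_iff (g.stalkMap z)).2 hff
  haveI := h1
  haveI := h2
  haveI : Mono (Spec.map (g.stalkMap z)) := by
    have e : Spec.map (g.stalkMap z) ≫ Y.fromSpecStalk (g z) = Z.fromSpecStalk z ≫ g :=
      Scheme.SpecMap_stalkMap_fromSpecStalk g
    haveI : Mono (Spec.map (g.stalkMap z) ≫ Y.fromSpecStalk (g z)) := by
      rw [e]; infer_instance
    exact mono_of_mono _ (Y.fromSpecStalk (g z))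
  haveI : IsIso (Spec.map (g.stalkMap z)) := Flat.isIso_of_surjective_of_mono _
  have : IsIso (Scheme.Spec.map (g.stalkMap z).op) := this
  have h3 : IsIso (g.stalkMap z).op := isIso_of_reflects_iso _ Scheme.Spec
  exact isIso_of_op (g.stalkMap z)

end Groth.Agent.H7.FlatMono
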