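import Mathlib
import Groth.Prelude
import Groth.Agent.Lib.Helper7.FM1
import Groth.Agent.Lib.Helper7.FM2
import Groth.Agent.Lib.Helper7.FM3
import Groth.Agent.Lib.Helper2.SchDense

set_option autoImplicit false

universe u

open CategoryTheory CategoryTheory.Limits AlgebraicGeometry TopologicalSpace

namespace Groth.Agent.H7.FlatMono

variable {Z Y : Scheme.{u}}

/-- membership in a basic open in terms of the prime ideal of the point. -/
theorem mem_basicOpen_iff_notMem_primeIdealOf {U : Z.Opens} (hU : IsAffineOpen U) (z : Z)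
    (hz : z ∈ U) (s : Γ(Z, U)) :
    z ∈ Z.basicOpen s ↔ s ∉ (hU.primeIdealOf ⟨z, hz⟩).asIdeal := by
  letI := Z.presheaf.algebra_section_stalk ⟨z, hz⟩
  haveI := hU.isLocalization_stalk ⟨z, hz⟩
  rw [Scheme.mem_basicOpen _ _ _ hz]
  exact IsLocalization.AtPrime.isUnit_to_map_iff (Z.presheaf.stalk z)
    (hU.primeIdealOf ⟨z, hz⟩).asIdeal s

/-- The hypothesis of `exists_surjective_away` from surjectivity of the stalk map. -/
theorem exists_fraction_of_stalkMap_surjective (g : Z ⟶ Y) (z : Z)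
    (hs : Function.Surjective (g.stalkMap z).hom)
    {V : Y.Opens} (hV : IsAffineOpen V) {U : Z.Opens} (hU : IsAffineOpen U) (hzU : z ∈ U)
    (e : U ≤ g ⁻¹ᵁ V) (b : Γ(Z, U)) :
    ∃ x y : Γ(Y, V), (g.appLE V U e).hom y ∉ (hU.primeIdealOf ⟨z, hzU⟩).asIdeal ∧
      ∃ t ∉ (hU.primeIdealOf ⟨z, hzU⟩).asIdeal,
        t * (b * (g.appLE V U e).hom y - (g.appLE V U e).hom x) = 0 := by
  have hzV : g z ∈ V := e hzU
  letI algZ := Z.presheaf.algebra_section_stalk ⟨z, hzU⟩
  haveI locZ := hU.isLocalization_stalk ⟨z, hzU⟩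
  letI algY := Y.presheaf.algebra_section_stalk ⟨g z, hzV⟩
  haveI locY := hV.isLocalization_stalk ⟨g z, hzV⟩
  -- compatibility of germs
  have hgerm : ∀ r : Γ(Y, V), (g.stalkMap z).hom (algebraMap Γ(Y, V) (Y.presheaf.stalk (g z)) r) =
      algebraMap Γ(Z, U) (Z.presheaf.stalk z) ((g.appLE V U e).hom r) := by
    intro r
    change (g.stalkMap z).hom ((Y.presheaf.germ V (g z) hzV).hom r) =
      (Z.presheaf.germ U z hzU).hom ((g.appLE V U e).hom r)
    have h1 := Scheme.Hom.germ_stalkMap_apply g V z hzV r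
    rw [Scheme.Hom.appLE, CommRingCat.hom_comp, RingHom.comp_apply]
    have h2 := Z.presheaf.germ_res_apply (homOfLE e) z hzU ((g.app V).hom r)
    exact h1.trans h2.symm
  obtain ⟨s, hs'⟩ := hs (algebraMap Γ(Z, U) (Z.presheaf.stalk z) b)
  obtain ⟨⟨x, ⟨y, hy⟩⟩, hxy⟩ :=
    IsLocalization.surj (hV.primeIdealOf ⟨g z, hzV⟩).asIdeal.primeCompl s
  have hxy' : s * algebraMap Γ(Y, V) (Y.presheaf.stalk (g z)) y =
      algebraMap Γ(Y, V) (Y.presheaf.stalk (g z)) x := hxy
  have h3 := congrArg (g.stalkMap z).hom hxy'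
  rw [map_mul, hs', hgerm, hgerm, ← map_mul] at h3
  refine ⟨x, y, ?_, ?_⟩
  · -- `φ y` is a unit in the stalk
    have hu : IsUnit (algebraMap Γ(Y, V) (Y.presheaf.stalk (g z)) y) :=
      (IsLocalization.AtPrime.isUnit_to_map_iff (Y.presheaf.stalk (g z))
        (hV.primeIdealOf ⟨g z, hzV⟩).asIdeal y).2 hy
    have hu' : IsUnit (algebraMap Γ(Z, U) (Z.presheaf.stalk z) ((g.appLE V U e).hom y)) := by
      rw [← hgerm]; exact hu.map _
    exact (IsLocalization.AtPrime.isUnit_to_map_iff (Z.presheaf.stalk z)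
      (hU.primeIdealOf ⟨z, hzU⟩).asIdeal _).1 hu'
  · obtain ⟨⟨t, ht⟩, htt⟩ := (IsLocalization.eq_iff_exists
      (hU.primeIdealOf ⟨z, hzU⟩).asIdeal.primeCompl (Z.presheaf.stalk z)).1 h3
    refine ⟨t, ht, ?_⟩
    have : t * (b * (g.appLE V U e).hom y) = t * (g.appLE V U e).hom x := htt
    rw [mul_sub, this, sub_self]

end Groth.Agent.H7.FlatMono
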