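import Mathlib
import Groth.Prelude
import Groth.Agent.Lib.Helper7.FM4

set_option autoImplicit false

universe u

open CategoryTheory CategoryTheory.Limits AlgebraicGeometry TopologicalSpace

namespace Groth.Agent.H7.FlatMono

variable {Z Y : Scheme.{u}}

/-- a section of `V` killed by a power of `f` vanishes on the basic open of `f`. -/
theorem res_basicOpen_eq_zero {V : Y.Opens} (f x : Γ(Y, V)) (m : ℕ) (h : f ^ m * x = 0) :
    (Y.presheaf.map (homOfLE (Y.basicOpen_le f)).op).hom x = 0 := by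
  have hu : IsUnit ((Y.presheaf.map (homOfLE (Y.basicOpen_le f)).op).hom f) :=
    RingedSpace.isUnit_res_basicOpen Y.toRingedSpace f
  have h1 := congrArg (Y.presheaf.map (homOfLE (Y.basicOpen_le f)).op).hom h
  rw [map_mul, map_pow, map_zero] at h1
  exact (hu.pow m).mul_right_eq_zero.1 h1

/-- **A flat monomorphism locally of finite type, which is locally of finite presentation over a
quasi-compact scheme theoretically dense open, is locally of finite presentation.** -/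
theorem lfp_of_flat_mono (g : Z ⟶ Y) [Flat g] [Mono g] [LocallyOfFiniteType g]
    (W : Y.Opens) [QuasiCompact W.ι] (hW : CInt.IsSchematicallyDense W)
    (hfp : ∀ (V₁ : Y.Opens) (U₁ : Z.Opens), IsAffineOpen V₁ → IsAffineOpen U₁ → V₁ ≤ W →
      ∀ (e : U₁ ≤ g ⁻¹ᵁ V₁), (g.appLE V₁ U₁ e).hom.FinitePresentation) :
    LocallyOfFinitePresentation g := by
  classical
  rw [HasRingHomProperty.iff_exists_appLE (P := @LocallyOfFinitePresentation)
    (RingHom.finitePresentation_stableUnderComposition.stableUnderCompositionWithLocalizationAway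
      RingHom.finitePresentation_holdsForLocalizationAway).1]
  intro z
  obtain ⟨_, ⟨V, hV, rfl⟩, hzV, -⟩ :=
    Y.isBasis_affineOpens.exists_subset_of_mem_open (Set.mem_univ (g z)) isOpen_univ
  obtain ⟨_, ⟨U, hU, rfl⟩, hzU, hUV⟩ :=
    Z.isBasis_affineOpens.exists_subset_of_mem_open (show z ∈ g ⁻¹ᵁ V from hzV) (g ⁻¹ᵁ V).2
  have e : U ≤ g ⁻¹ᵁ V := hUV
  have hφft : (g.appLE V U e).hom.FiniteType :=
    HasRingHomProperty.appLE (P := @LocallyOfFiniteType) g inferInstance ⟨V, hV⟩ ⟨U, hU⟩ e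
  haveI := isIso_stalkMap_of_flat_mono g z
  have hs : Function.Surjective (g.stalkMap z).hom :=
    (ConcreteCategory.bijective_of_isIso (g.stalkMap z)).2
  obtain ⟨t, a, htq, hat, h1, h2⟩ := exists_surjective_away (g.appLE V U e).hom hφft
    (hU.primeIdealOf ⟨z, hzU⟩).asIdeal
    (exists_fraction_of_stalkMap_surjective g z hs hV hU hzU e)
  have hV' : IsAffineOpen (Y.basicOpen a) := hV.basicOpen a
  have hU' : IsAffineOpen (Z.basicOpen t) := hU.basicOpen t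
  have hV'V : Y.basicOpen a ≤ V := Y.basicOpen_le a
  have hU'U : Z.basicOpen t ≤ U := Z.basicOpen_le t
  have hzU' : z ∈ Z.basicOpen t := (mem_basicOpen_iff_notMem_primeIdealOf hU z hzU t).2 htq
  have e' : Z.basicOpen t ≤ g ⁻¹ᵁ Y.basicOpen a := by
    rw [Scheme.preimage_basicOpen]
    obtain ⟨c, rfl⟩ := hat
    rw [Scheme.basicOpen_mul]
    refine inf_le_left.trans ?_
    have : (g.appLE V U e).hom a = (Z.presheaf.map (homOfLE e).op).hom ((g.app V).hom a) := rfl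
    rw [this, Scheme.basicOpen_res]
    exact inf_le_right
  letI algA : Algebra Γ(Y, V) Γ(Y, Y.basicOpen a) :=
    (Y.presheaf.map (homOfLE hV'V).op).hom.toAlgebra
  haveI locA : IsLocalization.Away a Γ(Y, Y.basicOpen a) :=
    hV.isLocalization_of_eq_basicOpen a (homOfLE hV'V) rfl
  letI algB : Algebra Γ(Z, U) Γ(Z, Z.basicOpen t) :=
    (Z.presheaf.map (homOfLE hU'U).op).hom.toAlgebra
  haveI locB : IsLocalization.Away t Γ(Z, Z.basicOpen t) :=
    hU.isLocalization_of_eq_basicOpen t (homOfLE hU'U) rfl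
  have hcomm : (g.appLE (Y.basicOpen a) (Z.basicOpen t) e').hom.comp
      (algebraMap Γ(Y, V) Γ(Y, Y.basicOpen a)) =
      (algebraMap Γ(Z, U) Γ(Z, Z.basicOpen t)).comp (g.appLE V U e).hom := by
    change (Y.presheaf.map (homOfLE hV'V).op ≫ g.appLE (Y.basicOpen a) (Z.basicOpen t) e').hom =
      (g.appLE V U e ≫ Z.presheaf.map (homOfLE hU'U).op).hom
    rw [Scheme.Hom.map_appLE, Scheme.Hom.appLE_map]
  have hsurj : Function.Surjective (g.appLE (Y.basicOpen a) (Z.basicOpen t) e').hom :=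
    surjective_of_away (g.appLE V U e).hom t a _ hcomm h1 h2
  have hflat : (g.appLE (Y.basicOpen a) (Z.basicOpen t) e').hom.Flat :=
    HasRingHomProperty.appLE (P := @Flat) g inferInstance ⟨_, hV'⟩ ⟨_, hU'⟩ e'
  -- the quasi-compact open `V' ⊓ W`
  have hcpt : IsCompact ((Y.basicOpen a ⊓ W : Y.Opens) : Set Y) := by
    have h1 : IsCompact ((W.ι ⁻¹ᵁ Y.basicOpen a : W.toScheme.Opens) : Set W.toScheme) :=
      W.ι.isCompact_preimage hV'.isCompact
    have h2 := h1.image W.ι.continuous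
    have h3 : (W.ι : W.toScheme → Y) '' ((W.ι ⁻¹ᵁ Y.basicOpen a : W.toScheme.Opens) :
        Set W.toScheme) = ((Y.basicOpen a ⊓ W : Y.Opens) : Set Y) := by
      change (W.ι : W.toScheme → Y) '' ((W.ι : W.toScheme → Y) ⁻¹' (Y.basicOpen a : Set Y)) = _
      rw [Set.image_preimage_eq_inter_range, Scheme.Opens.range_ι]
      rfl
    rw [← h3]; exact h2
  have hchoice : ∀ y (hy : y ∈ ((Y.basicOpen a ⊓ W : Y.Opens) : Set Y)),
      ∃ f : Γ(Y, Y.basicOpen a), Y.basicOpen f ≤ Y.basicOpen a ⊓ W ∧ y ∈ Y.basicOpen f :=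
    fun y hy => hV'.exists_basicOpen_le (V := Y.basicOpen a ⊓ W) ⟨y, hy⟩ hy.1
  choose fc hfc1 hfc2 using hchoice
  obtain ⟨T, hT⟩ := hcpt.elim_nhds_subcover' (fun y hy => ((Y.basicOpen (fc y hy) : Y.Opens) : Set Y))
    (fun y hy => (Y.basicOpen (fc y hy)).2.mem_nhds (hfc2 y hy))
  let f : ↥T → Γ(Y, Y.basicOpen a) := fun i => fc i.1.1 i.1.2
  have hfW : ∀ i, Y.basicOpen (f i) ≤ Y.basicOpen a ⊓ W := fun i => hfc1 i.1.1 i.1.2
  -- separation
  have hsep : ∀ x : Γ(Y, Y.basicOpen a), (∀ i, ∃ m : ℕ, f i ^ m * x = 0) → x = 0 := by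
    intro x hx
    apply Groth.Agent.H2.SchDense.apply_eq_zero hW x
    apply Groth.Agent.H2.SchDense.eq_zero_of_locally
    intro y hy
    have hy' := hT hy
    simp only [Set.mem_iUnion] at hy'
    obtain ⟨i, hiT, hyi⟩ := hy'
    obtain ⟨m, hm⟩ := hx ⟨i, hiT⟩
    refine ⟨Y.basicOpen (f ⟨i, hiT⟩), hfW ⟨i, hiT⟩, hyi, ?_⟩
    have h4 := res_basicOpen_eq_zero (f ⟨i, hiT⟩) x m hm
    rw [← h4, ← ConcreteCategory.comp_apply, ← Y.presheaf.map_comp]
    rfl
  -- finite generation of the kernel over the `D(f i)`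
  have hfg : ∀ i, ∃ T' : Finset Γ(Y, Y.basicOpen a),
      (∀ k ∈ T', (g.appLE (Y.basicOpen a) (Z.basicOpen t) e').hom k = 0) ∧
      ∀ x, (g.appLE (Y.basicOpen a) (Z.basicOpen t) e').hom x = 0 →
        ∃ m : ℕ, f i ^ m * x ∈ Ideal.span (T' : Set Γ(Y, Y.basicOpen a)) := by
    intro i
    have hD : Y.basicOpen (f i) ≤ Y.basicOpen a := Y.basicOpen_le (f i)
    have hD' : Z.basicOpen ((g.appLE (Y.basicOpen a) (Z.basicOpen t) e').hom (f i)) ≤
        Z.basicOpen t := Z.basicOpen_le _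
    have ei : Z.basicOpen ((g.appLE (Y.basicOpen a) (Z.basicOpen t) e').hom (f i)) ≤
        g ⁻¹ᵁ Y.basicOpen (f i) := by
      rw [Scheme.preimage_basicOpen]
      have : (g.appLE (Y.basicOpen a) (Z.basicOpen t) e').hom (f i) =
          (Z.presheaf.map (homOfLE e').op).hom ((g.app (Y.basicOpen a)).hom (f i)) := rfl
      rw [this, Scheme.basicOpen_res]
      exact inf_le_right
    letI algE : Algebra Γ(Y, Y.basicOpen a) Γ(Y, Y.basicOpen (f i)) :=
      (Y.presheaf.map (homOfLE hD).op).hom.toAlgebra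
    haveI locE : IsLocalization.Away (f i) Γ(Y, Y.basicOpen (f i)) :=
      hV'.isLocalization_of_eq_basicOpen (f i) (homOfLE hD) rfl
    letI algB' : Algebra Γ(Z, Z.basicOpen t)
        Γ(Z, Z.basicOpen ((g.appLE (Y.basicOpen a) (Z.basicOpen t) e').hom (f i))) :=
      (Z.presheaf.map (homOfLE hD').op).hom.toAlgebra
    haveI locB' : IsLocalization.Away ((g.appLE (Y.basicOpen a) (Z.basicOpen t) e').hom (f i))
        Γ(Z, Z.basicOpen ((g.appLE (Y.basicOpen a) (Z.basicOpen t) e').hom (f i))) :=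
      hU'.isLocalization_of_eq_basicOpen _ (homOfLE hD') rfl
    refine exists_finset_of_finitePresentation (g.appLE (Y.basicOpen a) (Z.basicOpen t) e').hom
      hsurj (f i) (g.appLE (Y.basicOpen (f i)) _ ei).hom ?_ ?_
    · change (Y.presheaf.map (homOfLE hD).op ≫ g.appLE (Y.basicOpen (f i)) _ ei).hom =
        (g.appLE (Y.basicOpen a) (Z.basicOpen t) e' ≫ Z.presheaf.map (homOfLE hD').op).hom
      rw [Scheme.Hom.map_appLE, Scheme.Hom.appLE_map]
    · exact hfp _ _ (hV'.basicOpen (f i)) (hU'.basicOpen _) ((hfW i).trans inf_le_right) ei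
  obtain ⟨y, hy⟩ := ker_principal_of_flat (g.appLE (Y.basicOpen a) (Z.basicOpen t) e').hom
    hsurj hflat f hsep hfg
  have hker : (RingHom.ker (g.appLE (Y.basicOpen a) (Z.basicOpen t) e').hom).FG := by
    rw [hy]; exact ⟨{y}, by simp⟩
  exact ⟨⟨_, hV'⟩, ⟨_, hU'⟩, hzU', e', RingHom.FinitePresentation.of_surjective _ hsurj hker⟩

/-- **A flat monomorphism locally of finite type which is an isomorphism over a quasi-compact
scheme theoretically dense open is an open immersion.** -/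
theorem isOpenImmersion_of_flat_mono_of_isIso (g : Z ⟶ Y) [Flat g] [Mono g]
    [LocallyOfFiniteType g] (W : Y.Opens) [QuasiCompact W.ι]
    (hW : CInt.IsSchematicallyDense W) (hiso : IsIso (g ∣_ W)) : IsOpenImmersion g := by
  haveI : LocallyOfFinitePresentation g := by
    apply lfp_of_flat_mono g W hW
    intro V₁ U₁ hV₁ hU₁ hV₁W e
    haveI hoi : IsOpenImmersion ((g ⁻¹ᵁ W).ι ≫ g) := by
      rw [← morphismRestrict_ι]
      infer_instance
    have hU₁W : U₁ ≤ (g ⁻¹ᵁ W).ι.opensRange := by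
      rw [Scheme.Opens.opensRange_ι]
      exact e.trans (fun x hx => hV₁W hx)
    have hU₁' : IsAffineOpen ((g ⁻¹ᵁ W).ι ⁻¹ᵁ U₁) :=
      hU₁.preimage_of_isOpenImmersion _ hU₁W
    have e₂ : (g ⁻¹ᵁ W).ι ⁻¹ᵁ U₁ ≤ ((g ⁻¹ᵁ W).ι ≫ g) ⁻¹ᵁ V₁ := by
      intro x hx
      exact e hx
    have h1 : ((g ⁻¹ᵁ W).ι ≫ g).appLE V₁ ((g ⁻¹ᵁ W).ι ⁻¹ᵁ U₁) e₂ =
        g.appLE V₁ U₁ e ≫ (g ⁻¹ᵁ W).ι.appLE U₁ ((g ⁻¹ᵁ W).ι ⁻¹ᵁ U₁) le_rfl :=
      (Scheme.Hom.appLE_comp_appLE _ _ _ _ _ _ _).symm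
    have h2 : (((g ⁻¹ᵁ W).ι ≫ g).appLE V₁ ((g ⁻¹ᵁ W).ι ⁻¹ᵁ U₁) e₂).hom.FinitePresentation :=
      HasRingHomProperty.appLE (P := @LocallyOfFinitePresentation) _ inferInstance
        ⟨V₁, hV₁⟩ ⟨_, hU₁'⟩ e₂
    haveI hiso' : IsIso ((g ⁻¹ᵁ W).ι.appLE U₁ ((g ⁻¹ᵁ W).ι ⁻¹ᵁ U₁) le_rfl) := by
      rw [← Scheme.Hom.app_eq_appLE]
      exact Scheme.Hom.isIso_app _ _ hU₁W
    rw [h1, CommRingCat.hom_comp] at h2
    have h3 := RingHom.finitePresentation_respectsIso.cancel_right_isIso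
      (g.appLE V₁ U₁ e) ((g ⁻¹ᵁ W).ι.appLE U₁ ((g ⁻¹ᵁ W).ι ⁻¹ᵁ U₁) le_rfl)
    exact h3.1 h2
  exact IsOpenImmersion.of_flat_of_mono g

end Groth.Agent.H7.FlatMono
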