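import Groth.Agent.Lib.Helper7.FM5
import Groth.Agent.Lib.Helper7.QFin13
import Groth.Agent.Lib.Helper7.SchDenseSp1
import Groth.Agent.Lib.Helper7.SchDenseSp2
import Groth.Agent.Lib.Helper5.AlgSp.SchDenseFactor
import Groth.Agent.Lib.Helper5.AlgSp.SchImageFlat
import Groth.Agent.Lib.Helper5.AlgSp.SchDenseQC
import Groth.Agent.Lib.Helper5.AlgSp.LocPCalc
import Groth.Agent.Lib.Helper5.AlgSp.Cover
import Groth.Agent.Lib.Helper5.Descent.ImmersionDescent
import Groth.Agent.Lib.Helper5.Descent.SepLQFLocal
import Mathlib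

/-!
# A separated flat morphism, locally of finite type, which is an isomorphism over a quasi-compact
# scheme theoretically dense open subspace, is an open immersion: S10655
-/

set_option autoImplicit false

universe u

open CategoryTheory CategoryTheory.Limits AlgebraicGeometry Opposite

namespace Groth.Agent.H7.FlatMono

open _root_.AlgSp Groth.Agent.H5.AlgSp Groth.Agent.H5.Descent

variable {S : Scheme.{u}}

/-- Step (I): `f` is a monomorphism. -/
theorem mono_of_schDense {X Y V P : Sp S} (hX : IsAlgSpace X) (hY : IsAlgSpace Y)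
    (f : X ⟶ Y) (j : V ⟶ Y) (hsep : IsSeparatedMor f) (hfl : LocP @Flat f)
    (hjq : IsQuasiCompactMor j) (hjd : IsSchDense j)
    {fst : P ⟶ X} {snd : P ⟶ V} (sq : IsPullback fst snd f j) [Mono snd] : Mono f := by
  have sqT := IsPullback.of_hasPullback f f
  have hT : IsAlgSpace (pullback f f) := isAlgSpace_pullback hY.diag hX hX sqT
  -- `T ⟶ Y` is flat
  have hfst : LocP @Flat (pullback.fst f f) :=
    locP_of_isPullback etale_le_flat sqT.flip hX hY hX hfl
  have hc : LocP @Flat (pullback.fst f f ≫ f) := locP_comp etale_le_flat hT hX hY hfst hfl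
  -- base change of `j` to `T`
  have sqTV := IsPullback.of_hasPullback j (pullback.fst f f ≫ f)
  have hcl : IsSchImage (pullback.snd j (pullback.fst f f ≫ f)) (𝟙 (pullback f f)) := by
    refine isSchImage_of_isPullback_of_flat hT hY hc hjq hY
      (isSchImage_id_of_isSchDense hjd) sqTV (i₁ := pullback.fst f f ≫ f) ?_
    exact IsPullback.of_vert_isIso ⟨by simp⟩
  have key : pullback.fst f f = pullback.snd f f := by
    refine eq_of_eq_on_isSchImage_id hT hsep _ _ pullback.condition
      (pullback.snd j (pullback.fst f f ≫ f)) hcl ?_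
    -- both composites factor through `P`, and `snd` is a monomorphism
    have h1 : (pullback.snd j (pullback.fst f f ≫ f) ≫ pullback.fst f f) ≫ f =
        pullback.fst j (pullback.fst f f ≫ f) ≫ j := by
      rw [Category.assoc, ← pullback.condition]
    have h2 : (pullback.snd j (pullback.fst f f ≫ f) ≫ pullback.snd f f) ≫ f =
        pullback.fst j (pullback.fst f f ≫ f) ≫ j := by
      rw [Category.assoc, ← pullback.condition (f := f) (g := f), ← pullback.condition]
    have e1 : sq.lift _ _ h1 ≫ snd = sq.lift _ _ h2 ≫ snd := by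
      rw [sq.lift_snd, sq.lift_snd]
    have e2 := (cancel_mono snd).1 e1
    calc pullback.snd j (pullback.fst f f ≫ f) ≫ pullback.fst f f
        = sq.lift _ _ h1 ≫ fst := (sq.lift_fst _ _ h1).symm
      _ = sq.lift _ _ h2 ≫ fst := by rw [e2]
      _ = _ := sq.lift_fst _ _ h2
  constructor
  intro A a b hab
  have := pullback.lift_fst a b hab
  rw [← this, key, pullback.lift_snd]

/-- On a chart: the base change of `f` to an étale chart of `Y` is an open immersion. -/
theorem isOpenImmersion_chart {X Y V P : Sp S} (hX : IsAlgSpace X) (hY : IsAlgSpace Y)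
    (f : X ⟶ Y) (j : V ⟶ Y) [Mono f]
    (hlft : LocP @LocallyOfFiniteType f) (hfl : LocP @Flat f)
    (hjq : IsQuasiCompactMor j) (hjd : IsSchDense j)
    {fst : P ⟶ X} {snd : P ⟶ V} (sq : IsPullback fst snd f j) [IsIso snd]
    {U Z : Over S} (p : (yon S).obj U ⟶ Y) (hpe : RepWith @Etale p)
    (fstZ : (yon S).obj Z ⟶ X) (g : Z ⟶ U) (sqZ : IsPullback fstZ ((yon S).map g) f p) :
    IsOpenImmersion g.left := by
  have hU : IsAlgSpace ((yon S).obj U) := IsAlgSpace.yon_obj U
  -- properties of `g`
  have hgm : Mono ((yon S).map g) :=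
    MorphismProperty.of_isPullback (P := MorphismProperty.monomorphisms (Sp S)) sqZ
      (MorphismProperty.monomorphisms.infer_property f)
  haveI hgm' : Mono g := (yon S).mono_of_mono_map hgm
  haveI : Mono g.left := inferInstance
  haveI hgfl : Flat g.left :=
    (locP_yon_map_iff etale_le_flat g).1 (locP_of_isPullback etale_le_flat sqZ hX hY hU hfl)
  haveI hglft : LocallyOfFiniteType g.left :=
    (locP_yon_map_iff etale_le_lft g).1 (locP_of_isPullback etale_le_lft sqZ hX hY hU hlft)
  -- the open `W`
  obtain ⟨W, fstW, sqW, -⟩ := Groth.Agent.H7.SchDenseSp.key hjd.1 U p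
  have hWd : CInt.IsSchematicallyDense W :=
    Groth.Agent.H7.SchDenseSp.schDense_of_isSchDense hjd U p hpe W fstW sqW
  haveI hWqc : QuasiCompact W.ι := by
    have h1 : RepWith @QuasiCompact j := repWith_quasiCompact_of_isQuasiCompactMor hjd.1.1 hjq
    exact h1.property _ _ _ sqW
  -- `g` is an isomorphism over `W`
  have sqR : IsPullback (overRestrict g W) (overOpenι Z (g.left ⁻¹ᵁ W)) (overOpenι U W) g :=
    IsPullback.of_map (Over.forget S) (overRestrict_comp g W)
      (isPullback_morphismRestrict g.left W)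
  have sqR' := (sqR.map (yon S)).flip
  have big := sqR'.paste_horiz sqZ
  rw [← sqW.w] at big
  have hcomm : ((yon S).map (overOpenι Z (g.left ⁻¹ᵁ W)) ≫ fstZ) ≫ f =
      ((yon S).map (overRestrict g W) ≫ fstW) ≫ j := by
    rw [Category.assoc, Category.assoc]; exact big.w
  have big' : IsPullback (sq.lift _ _ hcomm ≫ fst) ((yon S).map (overRestrict g W)) f
      (fstW ≫ j) := by
    rw [sq.lift_fst]; exact big
  have small : IsPullback (sq.lift _ _ hcomm) ((yon S).map (overRestrict g W)) snd fstW :=
    IsPullback.of_right big' (sq.lift_snd _ _ hcomm) sq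
  haveI h1 : IsIso ((yon S).map (overRestrict g W)) := small.isIso_snd_of_isIso
  haveI h2 : IsIso (overRestrict g W) := isIso_of_fully_faithful (yon S) _
  have h3 : IsIso (overRestrict g W).left :=
    (inferInstance : IsIso ((Over.forget S).map (overRestrict g W)))
  rw [overRestrict_left] at h3
  exact isOpenImmersion_of_flat_mono_of_isIso g.left W hWd h3

theorem S10655_main {X Y V : AlgSp.Space S} (f : X ⟶ Y) (j : V ⟶ Y)
    (hf1 : AlgSp.IsSeparatedMor f.hom) (hf2 : AlgSp.LocP @LocallyOfFiniteType f.hom)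
    (hf3 : AlgSp.LocP @Flat f.hom)
    (hj1 : AlgSp.IsQuasiCompactMor j.hom) (hj2 : AlgSp.IsSchDense j.hom)
    (P : AlgSp.Space S) (fst : P ⟶ X) (snd : P ⟶ V)
    (hP : IsPullback fst.hom snd.hom f.hom j.hom) (hV : IsIso snd.hom) :
    AlgSp.RepWith @IsOpenImmersion f.hom := by
  haveI := hV
  haveI hmono : Mono f.hom :=
    mono_of_schDense X.property Y.property f.hom j.hom hf1 hf3 hj1 hj2 hP
  have hrep : Representable f.hom :=
    ((Groth.Agent.H7.QFinSp.S10613_main f).2.2.2 ⟨hf2, hmono⟩).1
  obtain ⟨U, p, hpe, hps⟩ := Y.property.atlas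
  have sqZ := hrep.isPullback p
  have hoi : IsOpenImmersion (hrep.snd p).left :=
    isOpenImmersion_chart X.property Y.property f.hom j.hom hf2 hf3 hj1 hj2 hP p hpe _ _ sqZ
  have h' : RepWith @IsOpenImmersion ((yon S).map (hrep.snd p)) :=
    (repWith_yon_map_iff @IsOpenImmersion _).2 hoi
  exact repWith_isOpenImmersion_of_baseChange (repWith_mono etale_le_flat hpe)
    (repWith_mono etale_le_lfp hpe) hps sqZ h'

end Groth.Agent.H7.FlatMono
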