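import Mathlib
import Groth.Prelude
import Groth.Agent.Lib.Helper7.FM5
import Groth.Agent.Lib.Helper9.Misc.SDD1

set_option autoImplicit false

universe u

open CategoryTheory CategoryTheory.Limits AlgebraicGeometry TopologicalSpace

namespace Groth.Agent.H7.FlatMono

variable {X S : Scheme.{u}}

/-- if `a ≫ g` is scheme theoretically dominant then so is `g`. -/
theorem isSchemeTheoreticallyDominant_of_comp {A B C : Scheme.{u}} (a : A ⟶ B) (g : B ⟶ C)
    [IsSchemeTheoreticallyDominant (a ≫ g)] : IsSchemeTheoreticallyDominant g := by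
  rw [isSchemeTheoreticallyDominant_iff]
  have h1 : (a ≫ g).ker = ⊥ := (a ≫ g).ker_eq_bot
  rw [Scheme.Hom.ker_comp] at h1
  have h2 : (⊥ : B.IdealSheafData).map g ≤ a.ker.map g :=
    Scheme.IdealSheafData.map_mono g bot_le
  rw [Scheme.IdealSheafData.map_bot, h1] at h2
  exact le_bot_iff.mp h2

/-- a separated flat morphism which is an isomorphism over a quasi-compact scheme theoretically
dense open is a monomorphism. -/
theorem mono_of_isSeparated_of_flat (f : X ⟶ S) [IsSeparated f] [Flat f] (U : S.Opens)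
    [QuasiCompact U.ι] [IsSchemeTheoreticallyDominant U.ι] [IsIso (f ∣_ U)] : Mono f := by
  rw [← pullback.isIso_diagonal_iff]
  set q : pullback f f ⟶ S := pullback.fst f f ≫ f with hq
  haveI : Flat q := by rw [hq]; infer_instance
  -- the open `q⁻¹ U` of the fibre square is scheme theoretically dense
  haveI hdom : IsSchemeTheoreticallyDominant (q ⁻¹ᵁ U).ι :=
    IsSchemeTheoreticallyDominant.of_isPullback (isPullback_morphismRestrict q U)
  -- the two projections agree on `q⁻¹ U`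
  have hle1 : q ⁻¹ᵁ U ≤ pullback.fst f f ⁻¹ᵁ (f ⁻¹ᵁ U) := le_of_eq (by
    rw [hq, Scheme.Hom.comp_preimage])
  have hle2 : q ⁻¹ᵁ U ≤ pullback.snd f f ⁻¹ᵁ (f ⁻¹ᵁ U) := le_of_eq (by
    rw [hq, pullback.condition, Scheme.Hom.comp_preimage])
  set b₁ := (pullback.fst f f).resLE (f ⁻¹ᵁ U) (q ⁻¹ᵁ U) hle1 with hb₁
  set b₂ := (pullback.snd f f).resLE (f ⁻¹ᵁ U) (q ⁻¹ᵁ U) hle2 with hb₂
  have e1 : b₁ ≫ (f ⁻¹ᵁ U).ι = (q ⁻¹ᵁ U).ι ≫ pullback.fst f f := Scheme.Hom.resLE_comp_ι _ _
  have e2 : b₂ ≫ (f ⁻¹ᵁ U).ι = (q ⁻¹ᵁ U).ι ≫ pullback.snd f f := Scheme.Hom.resLE_comp_ι _ _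
  have hb : b₁ = b₂ := by
    rw [← cancel_mono (f ∣_ U), ← cancel_mono U.ι, Category.assoc, Category.assoc,
      morphismRestrict_ι, ← Category.assoc, ← Category.assoc, e1, e2, Category.assoc,
      Category.assoc, pullback.condition]
  have hfs : (q ⁻¹ᵁ U).ι ≫ pullback.fst f f = (q ⁻¹ᵁ U).ι ≫ pullback.snd f f := by
    rw [← e1, ← e2, hb]
  -- `q⁻¹ U ⟶ X ×_S X` factors through the diagonal
  have hfac : ((q ⁻¹ᵁ U).ι ≫ pullback.fst f f) ≫ pullback.diagonal f = (q ⁻¹ᵁ U).ι := by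
    apply pullback.hom_ext
    · rw [Category.assoc, pullback.diagonal_fst, Category.comp_id]
    · rw [Category.assoc, pullback.diagonal_snd, Category.comp_id, hfs]
  haveI : IsSchemeTheoreticallyDominant
      (((q ⁻¹ᵁ U).ι ≫ pullback.fst f f) ≫ pullback.diagonal f) := by
    rw [hfac]; exact hdom
  haveI : IsSchemeTheoreticallyDominant (pullback.diagonal f) :=
    isSchemeTheoreticallyDominant_of_comp ((q ⁻¹ᵁ U).ι ≫ pullback.fst f f) _
  exact IsClosedImmersion.isIso_iff_ker_eq_bot.mpr (pullback.diagonal f).ker_eq_bot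

/-- **S0449** -/
theorem isOpenImmersion_of_isSeparated_of_flat (f : X ⟶ S) [IsSeparated f]
    [LocallyOfFiniteType f] [Flat f] (U : S.Opens) [QuasiCompact U.ι]
    [IsSchemeTheoreticallyDominant U.ι] [IsIso (f ∣_ U)] : IsOpenImmersion f := by
  haveI := mono_of_isSeparated_of_flat f U
  exact isOpenImmersion_of_flat_mono_of_isIso f U
    (Groth.Agent.H9.SDD.schDense_of_dominant S U) inferInstance

end Groth.Agent.H7.FlatMono
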