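import Groth.Agent.Lib.Helper7.FOSp6
import Groth.Agent.Lib.Helper7.FOSp8
import Mathlib

/-!
# Descent of formal etaleness along representable surjective etale morphisms
-/

set_option autoImplicit false
universe u

open AlgebraicGeometry CategoryTheory Limits MorphismProperty

namespace Groth.Agent.H7.FOSp9

open _root_.AlgSp Groth.Agent.H5.AlgSp Groth.Agent.H7.FOSp1 Groth.Agent.H7.FOSp2
  Groth.Agent.H7.FOSp3 Groth.Agent.H7.FOSp4 Groth.Agent.H7.FOSp6 Groth.Agent.H7.FOSp8
  Groth.Agent.H5.Thick Groth.Agent.H4.AlgSpInf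

variable {S : Scheme.{u}} {F G : Sp S}

/-- a local etale chart of the thickening `T ⊂ T'` lifting an open piece of `P ⟶ T`. -/
structure LChart {f : F ⟶ G} (sq : InfSq f) (P : Over S) (p : P ⟶ sq.ptT) where
  V : Over S
  W : Over S
  q : V ⟶ sq.ptT'
  i : W ⟶ V
  r : W ⟶ P
  hq : Etale q.left
  hr : IsOpenImmersion r.left
  pb : IsPullback i (r ≫ p) q sq.j

theorem exists_lchart {f : F ⟶ G} (sq : InfSq f) (P : Over S) (p : P ⟶ sq.ptT)
    (hp : Etale p.left) (x : ↥P.left) : ∃ c : LChart sq P p, x ∈ Set.range c.r.left := by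
  obtain ⟨V, W, q, i, r, hq, hr, hx, hpb⟩ :=
    exists_local_etale_lift sq.I sq.sq_zero p.left x
  have hw : i ≫ q ≫ sq.str = r ≫ P.hom := by
    rw [← Over.w p, ← Category.assoc, hpb.w, Category.assoc, Category.assoc]
    rfl
  let Vo : Over S := Over.mk (q ≫ sq.str)
  let Wo : Over S := Over.mk (r ≫ P.hom)
  let qo : Vo ⟶ sq.ptT' := Over.homMk q rfl
  let io : Wo ⟶ Vo := Over.homMk i hw
  let ro : Wo ⟶ P := Over.homMk r rfl
  have hcomm : io ≫ qo = (ro ≫ p) ≫ sq.j := by
    apply Over.OverMorphism.ext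
    exact hpb.w
  refine ⟨⟨Vo, Wo, qo, io, ro, hq, hr, IsPullback.of_map (Over.forget S) hcomm hpb⟩, hx⟩

variable (a : F ⟶ G) {H : Sp S} (b : G ⟶ H)

/-- **descent of formal smoothness (for formally etale composites) along a representable surjective
etale morphism.** -/
theorem isFormallySmoothMor_of_comp_cover (ha1 : RepWith @Etale a)
    (ha2 : RepWith @Surjective a) (hab : IsFormallyEtaleMor (a ≫ b)) :
    IsFormallySmoothMor b := by
  have hab' := (isFormallyEtaleMor_iff _).1 hab
  have hbU : IsFormallyUnramifiedMor b := isFormallyUnramifiedMor_of_comp_cover a b ha1 ha2 hab'.2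
  have HUab := affUniq_of_formallyUnramified _ hab'.2
  have HEab := affLift_of_formallySmooth _ hab'.1
  have HUb := affUniq_of_formallyUnramified _ hbU
  intro sq
  have psq := ha1.1.isPullback sq.top
  have hpe : Etale (ha1.1.snd sq.top).left := ha1.2 _ _ _ psq
  have hps : Surjective (ha1.1.snd sq.top).left := ha2.2 _ _ _ psq
  choose c hc using exists_lchart sq _ (ha1.1.snd sq.top) hpe
  have hfo : ∀ x, FOThick (c x).i.left := fun x =>
    FOThick.of_isPullback ((c x).pb.map (Over.forget S)).flip (FOThick_j sq)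
  have hw : ∀ x, (yon S).map (c x).i ≫ (yon S).map (c x).q =
      (yon S).map ((c x).r ≫ ha1.1.snd sq.top) ≫ (yon S).map sq.j := by
    intro x
    rw [← Functor.map_comp, ← Functor.map_comp, (c x).pb.w]
  have e1 : ha1.1.fst sq.top ≫ a ≫ b =
      (yon S).map (ha1.1.snd sq.top) ≫ (yon S).map sq.j ≫ sq.bot := by
    rw [← Category.assoc, psq.w, Category.assoc, sq.comm]
  -- local lifts
  have hloc : ∀ x, ∃ l : (yon S).obj (c x).V ⟶ G,
      (yon S).map (c x).i ≫ l = (yon S).map ((c x).r ≫ ha1.1.snd sq.top) ≫ sq.top ∧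
      l ≫ b = (yon S).map (c x).q ≫ sq.bot := by
    intro x
    obtain ⟨n, hn1, hn2⟩ := sch_lift stable_true HUab HEab (c x).i (hfo x)
      ((yon S).map (c x).r ≫ ha1.1.fst sq.top) ((yon S).map (c x).q ≫ sq.bot) trivial (by
        rw [Category.assoc, e1, ← Category.assoc ((yon S).map (c x).i), hw x, Functor.map_comp,
          Category.assoc, Category.assoc])
    refine ⟨n ≫ a, ?_, ?_⟩
    · rw [← Category.assoc, hn1, Category.assoc, psq.w, ← Category.assoc, ← Functor.map_comp]
    · rw [Category.assoc]; exact hn2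
  choose lk hlk1 hlk2 using hloc
  have hqfl : ∀ x, Flat (c x).q.left := fun x => by haveI := (c x).hq; infer_instance
  have hqfp : ∀ x, LocallyOfFinitePresentation (c x).q.left := fun x => by
    haveI := (c x).hq; infer_instance
  have hqsurj : ∀ t : ↥sq.ptT'.left, ∃ x, t ∈ Set.range (c x).q.left := by
    intro t
    haveI : Surjective sq.j.left := (FOThick_j sq).1.2
    obtain ⟨t₀, rfl⟩ := sq.j.left.surjective t
    obtain ⟨x, rfl⟩ := (ha1.1.snd sq.top).left.surjective t₀
    obtain ⟨w, hw'⟩ := hc x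
    refine ⟨x, (c x).i.left w, ?_⟩
    have := congrArg (fun m => m.left w) (c x).pb.w
    simp only [Over.comp_left, Scheme.Hom.comp_apply] at this
    rw [this, hw']
  obtain ⟨l, hl⟩ := exists_glue (fun x => (c x).V) (fun x => (c x).q) hqfl hqfp hqsurj lk (by
    intro x x' Z gk gl hg
    have key : ∀ (y : ↥(ha1.1.pullback sq.top).left) (gm : Z ⟶ (c y).V) (gV : Z ⟶ sq.ptT'),
        gm ≫ (c y).q = gV →
        (yon S).map (pullback.snd sq.j gV) ≫ (yon S).map gm ≫ lk y =
          (yon S).map (pullback.fst sq.j gV) ≫ sq.top := by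
      rintro y gm _ rfl
      let u : pullback sq.j (gm ≫ (c y).q) ⟶ (c y).W :=
        (c y).pb.lift (pullback.snd _ _ ≫ gm) (pullback.fst _ _)
          (by rw [Category.assoc, ← pullback.condition])
      have hu1 : u ≫ (c y).i = pullback.snd _ _ ≫ gm := (c y).pb.lift_fst _ _ _
      have hu2 : u ≫ ((c y).r ≫ ha1.1.snd sq.top) = pullback.fst _ _ := (c y).pb.lift_snd _ _ _
      rw [← Category.assoc, ← Functor.map_comp, ← hu1, Functor.map_comp, Category.assoc,
        hlk1, ← Category.assoc, ← Functor.map_comp, hu2]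
    have k1 := key x gk _ rfl
    have k2 := key x' gl _ hg.symm
    refine sch_uniq stable_true HUb (pullback.snd sq.j (gk ≫ (c x).q))
      (FOThick_pullback_snd sq.j _ (FOThick_j sq)) _ _ trivial (k1.trans k2.symm) ?_
    rw [Category.assoc, Category.assoc, hlk2, hlk2, ← Category.assoc, ← Category.assoc,
      ← Functor.map_comp, ← Functor.map_comp, hg])
  refine ⟨l, ?_, ?_⟩
  · refine hom_ext_of_family (fun x => (c x).W) (fun x => (c x).r ≫ ha1.1.snd sq.top)
      (fun x => ?_) (fun x => ?_) ?_ _ _ (fun x => ?_)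
    · haveI := (c x).hr
      rw [Over.comp_left]; infer_instance
    · haveI := (c x).hr
      rw [Over.comp_left]; infer_instance
    · intro t
      obtain ⟨x, rfl⟩ := (ha1.1.snd sq.top).left.surjective t
      obtain ⟨w, hw'⟩ := hc x
      refine ⟨x, w, ?_⟩
      rw [Over.comp_left, Scheme.Hom.comp_apply, hw']
    · rw [← Category.assoc, ← hw, Category.assoc, hl, hlk1]
  · refine hom_ext_of_family (fun x => (c x).V) (fun x => (c x).q) hqfl hqfp hqsurj _ _
      (fun x => ?_)
    rw [← Category.assoc, hl, hlk2]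

theorem isFormallyEtaleMor_of_comp_cover (ha1 : RepWith @Etale a)
    (ha2 : RepWith @Surjective a) (hab : IsFormallyEtaleMor (a ≫ b)) :
    IsFormallyEtaleMor b :=
  (isFormallyEtaleMor_iff b).2 ⟨isFormallySmoothMor_of_comp_cover a b ha1 ha2 hab,
    isFormallyUnramifiedMor_of_comp_cover a b ha1 ha2 ((isFormallyEtaleMor_iff _).1 hab).2⟩

end Groth.Agent.H7.FOSp9
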