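import Groth.Agent.Lib.Helper7.FOSp7
import Groth.Agent.Lib.Helper7.FOSp9
import Groth.Agent.Lib.Helper5.AlgSp.EtaleMor
import Mathlib

/-!
# Formally etale morphisms of algebraic spaces: S10617, S10622, S10627, S10628, S10632
-/

set_option autoImplicit false
universe u

open AlgebraicGeometry CategoryTheory Limits MorphismProperty

namespace Groth.Agent.H7.FOSp10

open _root_.AlgSp Groth.Agent.H5.AlgSp Groth.Agent.H7.FOSp1 Groth.Agent.H7.FOSp2
  Groth.Agent.H7.FOSp3 Groth.Agent.H7.FOSp4 Groth.Agent.H7.FOSp6 Groth.Agent.H7.FOSp7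
  Groth.Agent.H7.FOSp9 Groth.Agent.H5.Thick Groth.Agent.H4.AlgSpInf

variable {S : Scheme.{u}}

theorem S10617_main {F G H : AlgSp.Sp S} (a : F ⟶ G) (b : G ⟶ H)
    (ha : AlgSp.RepWith @Etale a) (ha' : AlgSp.RepWith @Surjective a) :
    (AlgSp.IsFormallySmoothMor b → AlgSp.IsFormallySmoothMor (a ≫ b)) ∧
    (AlgSp.IsFormallyEtaleMor b → AlgSp.IsFormallyEtaleMor (a ≫ b)) ∧
    (AlgSp.IsFormallyUnramifiedMor b → AlgSp.IsFormallyUnramifiedMor (a ≫ b)) ∧
    (AlgSp.IsFormallyUnramifiedMor (a ≫ b) → AlgSp.IsFormallyUnramifiedMor b) ∧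
    (AlgSp.IsFormallyEtaleMor (a ≫ b) → AlgSp.IsFormallyEtaleMor b) :=
  ⟨fun hb => formallySmooth_comp a b (isFormallySmoothMor_of_repWith_etale a ha) hb,
   fun hb => formallyEtale_comp a b (isFormallyEtaleMor_of_repWith_etale a ha) hb,
   fun hb => formallyUnramified_comp a b
     (isFormallyUnramifiedMor_of_repWith a ha etale_le_formallyUnramified) hb,
   fun h => isFormallyUnramifiedMor_of_comp_cover a b ha ha' h,
   fun h => isFormallyEtaleMor_of_comp_cover a b ha ha' h⟩

/-- from the sheaf-level lifting property of `h_g` to the scheme-level one. -/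
theorem isFormallyEtaleHom_left_of_isFormallyEtaleMor {U V : Over S} (h : U ⟶ V)
    (H : IsFormallyEtaleMor ((yon S).map h)) : MoreMor.IsFormallyEtaleHom h.left := by
  intro A _ I hI a b w
  have ha : a ≫ U.hom = Spec.map (CommRingCat.ofHom (Ideal.Quotient.mk I)) ≫ b ≫ V.hom := by
    rw [← Over.w h, ← Category.assoc, ← w, Category.assoc]
  let sq : InfSq ((yon S).map h) :=
    { A := A, I := I, sq_zero := hI, str := b ≫ V.hom
      top := (yon S).map (CategoryTheory.Over.homMk a ha)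
      bot := (yon S).map (CategoryTheory.Over.homMk b rfl)
      comm := by
        rw [← Functor.map_comp, ← Functor.map_comp]
        congr 1
        apply CategoryTheory.Over.OverMorphism.ext
        exact w.symm }
  obtain ⟨l, ⟨hl1, hl2⟩, hlu⟩ := H sq
  obtain ⟨m, rfl⟩ := (yon S).map_surjective l
  have hm1 : sq.j ≫ m = CategoryTheory.Over.homMk a ha := by
    apply (yon S).map_injective
    rw [Functor.map_comp]; exact hl1
  have hm2 : m ≫ h = CategoryTheory.Over.homMk b rfl := by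
    apply (yon S).map_injective
    rw [Functor.map_comp]; exact hl2
  refine ⟨m.left, ⟨congrArg (fun k => k.left) hm1, congrArg (fun k => k.left) hm2⟩, ?_⟩
  rintro l' ⟨h1, h2⟩
  have hl' : l' ≫ U.hom = b ≫ V.hom := by
    rw [← Over.w h, ← Category.assoc, h2]
  let m' : sq.ptT' ⟶ U := CategoryTheory.Over.homMk l' hl'
  have := hlu ((yon S).map m') ⟨?_, ?_⟩
  · exact congrArg (fun k => k.left) ((yon S).map_injective this)
  · rw [← Functor.map_comp]
    congr 1
    apply CategoryTheory.Over.OverMorphism.ext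
    exact h1
  · rw [← Functor.map_comp]
    congr 1
    apply CategoryTheory.Over.OverMorphism.ext
    exact h2

/-- from the scheme-level lifting property to the sheaf-level one. -/
theorem isFormallyEtaleMor_of_isFormallyEtaleHom_left {U V : Over S} (h : U ⟶ V)
    (H : MoreMor.IsFormallyEtaleHom h.left) : IsFormallyEtaleMor ((yon S).map h) := by
  intro sq
  obtain ⟨t, ht⟩ := (yon S).map_surjective sq.top
  obtain ⟨β, hβ⟩ := (yon S).map_surjective sq.bot
  have hcomm : t ≫ h = sq.j ≫ β := by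
    apply (yon S).map_injective
    rw [Functor.map_comp, Functor.map_comp, ht, hβ]; exact sq.comm
  obtain ⟨l, ⟨hl1, hl2⟩, hlu⟩ := H sq.A sq.I sq.sq_zero t.left β.left
    (congrArg (fun k => k.left) hcomm).symm
  have hl : l ≫ U.hom = sq.ptT'.hom := by
    rw [← Over.w h, ← Category.assoc, hl2, Over.w β]
  refine ⟨(yon S).map (CategoryTheory.Over.homMk l hl), ⟨?_, ?_⟩, ?_⟩
  · rw [← ht, ← Functor.map_comp]
    congr 1
    apply CategoryTheory.Over.OverMorphism.ext
    exact hl1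
  · rw [← hβ, ← Functor.map_comp]
    congr 1
    apply CategoryTheory.Over.OverMorphism.ext
    exact hl2
  · rintro l' ⟨h1, h2⟩
    obtain ⟨m', rfl⟩ := (yon S).map_surjective l'
    congr 1
    apply CategoryTheory.Over.OverMorphism.ext
    apply hlu
    refine ⟨?_, ?_⟩
    · rw [← ht, ← Functor.map_comp] at h1
      exact congrArg (fun k => k.left) ((yon S).map_injective h1)
    · rw [← hβ, ← Functor.map_comp] at h2
      exact congrArg (fun k => k.left) ((yon S).map_injective h2)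

variable {X Y : Sp S} (f : X ⟶ Y)

theorem isFormallyEtaleMor_of_chart {U V : Over S} (a : (yon S).obj U ⟶ X)
    (b : (yon S).obj V ⟶ Y) (h : U ⟶ V) (ha : RepWith @Etale a) (has : RepWith @Surjective a)
    (hb : RepWith @Etale b) (w : a ≫ f = (yon S).map h ≫ b)
    (hh : MoreMor.IsFormallyEtaleHom h.left) : IsFormallyEtaleMor f := by
  have h1 := isFormallyEtaleMor_of_isFormallyEtaleHom_left h hh
  have h2 := isFormallyEtaleMor_of_repWith_etale b hb
  have h3 := formallyEtale_comp _ _ h1 h2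
  rw [← w] at h3
  exact isFormallyEtaleMor_of_comp_cover a f ha has h3

theorem locP_formallyEtaleHom_of_isFormallyEtaleMor (hf : IsFormallyEtaleMor f) :
    LocP @MoreMor.IsFormallyEtaleHom f := by
  intro U V a b h ha hb w
  apply isFormallyEtaleHom_left_of_isFormallyEtaleMor
  apply formallyEtale_of_comp _ b
    (isFormallyUnramifiedMor_of_repWith b hb etale_le_formallyUnramified)
  rw [← w]
  exact formallyEtale_comp _ _ (isFormallyEtaleMor_of_repWith_etale a ha) hf

theorem S10622_main {X Y : AlgSp.Space S} (f : X ⟶ Y) :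
    (AlgSp.IsFormallyEtaleMor f.hom ↔ AlgSp.LocP @MoreMor.IsFormallyEtaleHom f.hom) ∧
    (∀ (U V : Over S) (a : (AlgSp.yon S).obj U ⟶ X.obj) (b : (AlgSp.yon S).obj V ⟶ Y.obj)
      (h : U ⟶ V), AlgSp.RepWith @Etale a → AlgSp.RepWith @Surjective a →
      AlgSp.RepWith @Etale b → AlgSp.RepWith @Surjective b →
      a ≫ f.hom = (AlgSp.yon S).map h ≫ b → MoreMor.IsFormallyEtaleHom h.left →
      AlgSp.IsFormallyEtaleMor f.hom) := by
  refine ⟨⟨locP_formallyEtaleHom_of_isFormallyEtaleMor f.hom, ?_⟩, ?_⟩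
  · intro hL
    obtain ⟨U₀, a₀, ha₀e, ha₀s⟩ := X.property.atlas
    obtain ⟨V, b, hbe, hbs⟩ := Y.property.atlas
    have psq := hbe.1.isPullback' (a₀ ≫ f.hom)
    have hse : RepWith @Etale ((yon S).map (hbe.1.snd (a₀ ≫ f.hom))) :=
      (repWith_yon_map_iff @Etale _).2 (hbe.2 _ _ _ psq)
    have hss : RepWith @Surjective ((yon S).map (hbe.1.snd (a₀ ≫ f.hom))) :=
      (repWith_yon_map_iff @Surjective _).2 (hbs.2 _ _ _ psq)
    have hae : RepWith @Etale ((yon S).map (hbe.1.snd (a₀ ≫ f.hom)) ≫ a₀) :=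
      (RepWith (S := S) @Etale).comp_mem _ _ hse ha₀e
    have has : RepWith @Surjective ((yon S).map (hbe.1.snd (a₀ ≫ f.hom)) ≫ a₀) :=
      (RepWith (S := S) @Surjective).comp_mem _ _ hss ha₀s
    have w : ((yon S).map (hbe.1.snd (a₀ ≫ f.hom)) ≫ a₀) ≫ f.hom =
        (yon S).map (hbe.1.fst' (a₀ ≫ f.hom)) ≫ b := by
      rw [Category.assoc]; exact psq.w.symm
    exact isFormallyEtaleMor_of_chart f.hom _ b _ hae has hbe w (hL _ _ _ hae hbe w)
  · intro U V a b h ha has hb _ w hh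
    exact isFormallyEtaleMor_of_chart f.hom a b h ha has hb w hh

/-- etale morphisms of algebraic spaces are formally etale. -/
theorem isFormallyEtaleMor_of_isEtaleMor (hX : IsAlgSpace X) (hf : IsEtaleMor f) :
    IsFormallyEtaleMor f := by
  obtain ⟨U, a, hae, has⟩ := hX.atlas
  exact isFormallyEtaleMor_of_comp_cover a f hae has
    (isFormallyEtaleMor_of_repWith_etale _ (hf a hae))

theorem etale_of_lfp_of_isFormallyEtaleHom {X Y : Scheme.{u}} (g : X ⟶ Y)
    (hfp : LocallyOfFinitePresentation g) (hfe : MoreMor.IsFormallyEtaleHom g) : Etale g := by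
  refine ⟨fun {U} hU {V} hV e => ?_⟩
  have h1 := hfp.finitePresentation_appLE hU hV e
  have h2 := formallyEtale_appLE_of_isFormallyEtaleHom g hfe V U hV hU e
  letI := (g.appLE U V e).hom.toAlgebra
  have h1' : Algebra.FinitePresentation Γ(Y, U) Γ(X, V) := h1
  have h2' : Algebra.FormallyEtale Γ(Y, U) Γ(X, V) := h2
  exact (⟨h2', h1'⟩ : Algebra.Etale Γ(Y, U) Γ(X, V))

theorem S10627_main {X Y : AlgSp.Space S} (f : X ⟶ Y) :
    AlgSp.IsEtaleMor f.hom ↔
      AlgSp.LocP @LocallyOfFinitePresentation f.hom ∧ AlgSp.IsFormallyEtaleMor f.hom := by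
  constructor
  · intro hf
    exact ⟨locP_mono etale_le_lfp (locP_etale_of_isEtaleMor hf),
      isFormallyEtaleMor_of_isEtaleMor f.hom X.property hf⟩
  · rintro ⟨h1, h2⟩
    apply isEtaleMor_of_locP_etale Y.property
    intro U V a b h ha hb w
    exact etale_of_lfp_of_isFormallyEtaleHom h.left (h1 a b h ha hb w)
      (locP_formallyEtaleHom_of_isFormallyEtaleMor f.hom h2 a b h ha hb w)

theorem S10628_main {X Y U V : AlgSp.Space S} (f : X ⟶ Y)
    (hf : AlgSp.IsFormallySmoothMor f.hom) (p : U ⟶ X) (q : V ⟶ Y)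
    (hp : AlgSp.IsEtaleMor p.hom) (hq : AlgSp.IsEtaleMor q.hom)
    (ψ : U ⟶ V) (w : ψ ≫ q = p ≫ f) : AlgSp.IsFormallySmoothMor ψ.hom := by
  have hp' := isFormallyEtaleMor_of_isEtaleMor p.hom U.property hp
  have hq' := isFormallyEtaleMor_of_isEtaleMor q.hom V.property hq
  have w' : p.hom ≫ f.hom = ψ.hom ≫ q.hom := (congrArg (fun m => m.hom) w).symm
  have sq := IsPullback.of_hasPullback f.hom q.hom
  -- pr₂ is formally smooth, pr₁ formally etale
  have h2 : IsFormallySmoothMor (pullback.snd f.hom q.hom) :=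
    formallySmooth_baseChange f.hom q.hom _ _ sq hf
  have h1 : IsFormallyEtaleMor (pullback.fst f.hom q.hom) :=
    formallyEtale_baseChange q.hom f.hom _ _ sq.flip hq'
  have hu1 : pullback.lift p.hom ψ.hom w' ≫ pullback.fst f.hom q.hom = p.hom :=
    pullback.lift_fst _ _ _
  have hu2 : pullback.lift p.hom ψ.hom w' ≫ pullback.snd f.hom q.hom = ψ.hom :=
    pullback.lift_snd _ _ _
  have hu : IsFormallyEtaleMor (pullback.lift p.hom ψ.hom w') := by
    apply formallyEtale_of_comp _ (pullback.fst f.hom q.hom) ((isFormallyEtaleMor_iff _).1 h1).2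
    rw [hu1]; exact hp'
  rw [← hu2]
  exact formallySmooth_comp _ _ ((isFormallyEtaleMor_iff _).1 hu).1 h2

theorem S10632_main {Z Y Y' Z' X : AlgSp.Space S} (e : Z ⟶ Y) (hY : Y ⟶ X) (iY : Y ⟶ Y')
    (hY' : Y' ⟶ X) (HU : AlgSp.IsUnivFOThick hY.hom iY.hom hY'.hom) (iZ : Z ⟶ Z')
    (e' : Z' ⟶ Y') (he' : AlgSp.IsEtaleMor e'.hom)
    (sq : IsPullback e.hom iZ.hom iY.hom e'.hom) :
    AlgSp.IsUnivFOThick (e ≫ hY).hom iZ.hom (e' ≫ hY').hom := by
  obtain ⟨hiY, hw, hu⟩ := HU
  have he'f := isFormallyEtaleMor_of_isEtaleMor e'.hom Z'.property he'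
  refine ⟨isFOThickMor_of_isPullback sq Y'.property hiY, ?_, ?_⟩
  · change iZ.hom ≫ e'.hom ≫ hY'.hom = e.hom ≫ hY.hom
    rw [← Category.assoc, ← sq.w, Category.assoc, hw]
  · intro T T' hT hT' j a b hj hjb
    have hjb' : j ≫ b = (a ≫ e.hom) ≫ hY.hom := by rw [Category.assoc]; exact hjb
    obtain ⟨c, ⟨hc1, hc2⟩, hcu⟩ := hu hT hT' j (a ≫ e.hom) b hj hjb'
    obtain ⟨a', ⟨ha1, ha2⟩, hau⟩ := existsUnique_lift e'.hom he'f hT' j hj (a ≫ iZ.hom) c
      (by rw [Category.assoc, ← sq.w, hc1, Category.assoc])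
    refine ⟨a', ⟨ha1, ?_⟩, ?_⟩
    · change a' ≫ e'.hom ≫ hY'.hom = b
      rw [← Category.assoc, ha2, hc2]
    · rintro a'' ⟨h1, h2⟩
      apply hau
      refine ⟨h1, ?_⟩
      apply hcu
      refine ⟨?_, ?_⟩
      · rw [← Category.assoc, h1, Category.assoc, ← sq.w, Category.assoc]
      · rw [Category.assoc]; exact h2

end Groth.Agent.H7.FOSp10
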