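import Groth.Agent.Lib.Helper7.FOSp5
import Groth.Agent.Lib.Helper7.FOSp6
import Mathlib

/-!
# The structure morphism of a universal first order thickening is formally unramified (S10636)
-/

set_option autoImplicit false
universe u

open AlgebraicGeometry CategoryTheory Limits

namespace Groth.Agent.H7.FOSp11

open _root_.AlgSp Groth.Agent.H5.AlgSp Groth.Agent.H7.FOSp1 Groth.Agent.H7.FOSp2
  Groth.Agent.H7.FOSp3 Groth.Agent.H7.FOSp4 Groth.Agent.H7.FOSp6 Groth.Agent.H5.Thick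
  Groth.Agent.H4.AlgSpInf

variable {S : Scheme.{u}} {F G : Sp S} {f : F ⟶ G} (sq : InfSq f)

/-- the closed subscheme `V(J)` of `T' = Spec A`, over `S`. -/
noncomputable def TJ (J : Ideal sq.A) : Over S :=
  Over.mk (Spec.map (CommRingCat.ofHom (Ideal.Quotient.mk J)) ≫ sq.str)

noncomputable def cJ (J : Ideal sq.A) : TJ sq J ⟶ sq.ptT' :=
  Over.homMk (Spec.map (CommRingCat.ofHom (Ideal.Quotient.mk J))) rfl

noncomputable def incl {J J' : Ideal sq.A} (h : J ≤ J') : TJ sq J' ⟶ TJ sq J :=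
  Over.homMk (Spec.map (CommRingCat.ofHom (Ideal.Quotient.factor h))) (by
    change Spec.map _ ≫ Spec.map _ ≫ sq.str = Spec.map _ ≫ sq.str
    rw [← Category.assoc, ← Spec.map_comp, ← CommRingCat.ofHom_comp,
      Ideal.Quotient.factor_comp_mk])

lemma incl_cJ {J J' : Ideal sq.A} (h : J ≤ J') : incl sq h ≫ cJ sq J = cJ sq J' := by
  apply Over.OverMorphism.ext
  change Spec.map _ ≫ Spec.map _ = Spec.map _
  rw [← Spec.map_comp, ← CommRingCat.ofHom_comp, Ideal.Quotient.factor_comp_mk]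

lemma incl_incl {J J' J'' : Ideal sq.A} (h : J ≤ J') (h' : J' ≤ J'') :
    incl sq h' ≫ incl sq h = incl sq (h.trans h') := by
  apply Over.OverMorphism.ext
  change Spec.map _ ≫ Spec.map _ = Spec.map _
  rw [← Spec.map_comp, ← CommRingCat.ofHom_comp, Ideal.Quotient.factor_comp]

lemma FOThick_cJ (J : Ideal sq.A) (hJ : J ^ 2 = ⊥) : FOThick (cJ sq J).left :=
  isFirstOrderThickening_SpecMap_mk J hJ

lemma FOThick_incl {J J' : Ideal sq.A} (h : J ≤ J') (h2 : J' ^ 2 ≤ J) :
    FOThick (incl sq h).left := by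
  refine isFirstOrderThickening_SpecMap _ ⟨Ideal.Quotient.factor_surjective h, ?_⟩
  intro x y hx hy
  obtain ⟨x₀, rfl⟩ := Ideal.Quotient.mk_surjective x
  obtain ⟨y₀, rfl⟩ := Ideal.Quotient.mk_surjective y
  have hx' : x₀ ∈ J' := by
    simpa [Ideal.Quotient.eq_zero_iff_mem] using hx
  have hy' : y₀ ∈ J' := by
    simpa [Ideal.Quotient.eq_zero_iff_mem] using hy
  rw [← map_mul, Ideal.Quotient.eq_zero_iff_mem]
  exact h2 (by rw [pow_two]; exact Ideal.mul_mem_mul hx' hy')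

lemma ptT_eq : sq.ptT = TJ sq sq.I := rfl

lemma j_eq : sq.j = cJ sq sq.I := rfl

/-- for a first order thickening `i` of an algebraic space, the preimage of the source under a map
from an affine scheme is cut out by a square zero ideal. -/
theorem exists_ideal {Z Z' : Sp S} (i : Z ⟶ Z') (hi : RepWith FOThick i)
    (l : (yon S).obj sq.ptT' ⟶ Z') :
    ∃ (K : Ideal sq.A) (_ : K ^ 2 = ⊥) (a : (yon S).obj (TJ sq K) ⟶ Z),
      a ≫ i = (yon S).map (cJ sq K) ≫ l := by
  have psq := hi.1.isPullback l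
  have hfo : FOThick (hi.1.snd l).left := hi.2 _ _ _ psq
  obtain ⟨K, hK, E, hE⟩ := exists_iso_SpecMap_mk (R₀ := .of sq.A) (hi.1.snd l).left hfo
  have hEW : E.hom ≫ (hi.1.pullback l).hom = (TJ sq K).hom := by
    rw [← Over.w (hi.1.snd l), ← Category.assoc, hE]
    rfl
  let e : TJ sq K ⟶ hi.1.pullback l := Over.homMk E.hom hEW
  have he : e ≫ hi.1.snd l = cJ sq K := by
    apply Over.OverMorphism.ext
    exact hE
  refine ⟨K, hK, (yon S).map e ≫ hi.1.fst l, ?_⟩
  rw [Category.assoc, psq.w, ← Category.assoc, ← Functor.map_comp, he]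

theorem S10636_main {Z Z' X : AlgSp.Space S} (h : Z ⟶ X) (i : Z ⟶ Z') (h' : Z' ⟶ X)
    (HU : AlgSp.IsUnivFOThick h.hom i.hom h'.hom) :
    AlgSp.IsFormallyUnramifiedMor h'.hom := by
  obtain ⟨hi, hw, hu⟩ := HU
  have hi' := repWith_FOThick i.hom Z'.property hi
  have hfoM : ∀ ⦃V W : Over S⦄ (snd : W ⟶ V), FOThick snd.left →
      IsFOThickMor ((yon S).map snd) := fun V W snd hs =>
    isFOThickMor_of_repWith _ ((repWith_yon_map_iff FOThick snd).2 hs)
  -- uniqueness in the universal property, for thickenings of schemes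
  have huniq : ∀ ⦃V W : Over S⦄ (snd : W ⟶ V), FOThick snd.left →
      ∀ (a : (yon S).obj W ⟶ Z.obj) (m m' : (yon S).obj V ⟶ Z'.obj),
        (yon S).map snd ≫ m = a ≫ i.hom → (yon S).map snd ≫ m' = a ≫ i.hom →
        m ≫ h'.hom = m' ≫ h'.hom → m = m' := by
    intro V W snd hs a m m' h1 h2 h3
    have hcomm : (yon S).map snd ≫ (m ≫ h'.hom) = a ≫ h.hom := by
      rw [← Category.assoc, h1, Category.assoc, hw]
    obtain ⟨a', -, hau⟩ := hu (IsAlgSpace.yon_obj W) (IsAlgSpace.yon_obj V) _ a (m ≫ h'.hom)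
      (hfoM snd hs) hcomm
    rw [hau m ⟨h1, rfl⟩, hau m' ⟨h2, h3.symm⟩]
  rw [isFormallyUnramifiedMor_iff]
  intro sq l l' h1 h2
  obtain ⟨K, hK, a, ha⟩ := exists_ideal sq i.hom hi' l
  -- the ideals
  have hIK : sq.I * K ≤ K := Ideal.mul_le_right
  have hK' : K ≤ K ⊔ sq.I := le_sup_left
  have hI' : sq.I ≤ K ⊔ sq.I := le_sup_right
  have hIK' : sq.I * K ≤ K ⊔ sq.I := hIK.trans hK'
  have hsq : (K ⊔ sq.I) ^ 2 ≤ sq.I * K := by
    rw [pow_two, Ideal.sup_mul, Ideal.mul_sup, Ideal.mul_sup]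
    refine sup_le (sup_le ?_ ?_) (sup_le ?_ ?_)
    · rw [← pow_two, hK]; exact bot_le
    · rw [mul_comm]
    · exact le_rfl
    · rw [← pow_two, sq.sq_zero]; exact bot_le
  -- step 1: `l` and `l'` agree on `V(I K)`
  have hl' : (yon S).map (cJ sq (K ⊔ sq.I)) ≫ l' = (yon S).map (cJ sq (K ⊔ sq.I)) ≫ l := by
    rw [← incl_cJ sq hI', Functor.map_comp, Category.assoc, Category.assoc]
    congr 1
    exact h1.symm
  have step1 : (yon S).map (cJ sq (sq.I * K)) ≫ l = (yon S).map (cJ sq (sq.I * K)) ≫ l' := by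
    refine huniq (incl sq hIK') (FOThick_incl sq hIK' hsq) ((yon S).map (incl sq hK') ≫ a)
      _ _ ?_ ?_ ?_
    · rw [← Category.assoc, ← Functor.map_comp, incl_cJ, Category.assoc, ha, ← Category.assoc,
        ← Functor.map_comp, incl_cJ]
    · rw [← Category.assoc, ← Functor.map_comp, incl_cJ, hl', Category.assoc, ha,
        ← Category.assoc, ← Functor.map_comp, incl_cJ]
    · rw [Category.assoc, Category.assoc, h2]
  -- step 2
  have hl'' : (yon S).map (cJ sq K) ≫ l' = a ≫ i.hom := by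
    rw [ha, ← incl_cJ sq hIK, Functor.map_comp, Category.assoc, Category.assoc, step1]
  exact huniq (cJ sq K) (FOThick_cJ sq K hK) a l l' ha.symm hl'' h2

end Groth.Agent.H7.FOSp11
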