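import Groth.Agent.Lib.Helper7.FOSp9
import Mathlib

/-!
# Etale local lifts when `a ≫ b` is formally smooth (S12195)
-/

set_option autoImplicit false
universe u

open AlgebraicGeometry CategoryTheory Limits

namespace Groth.Agent.H7.FOSp12

open _root_.AlgSp Groth.Agent.H5.AlgSp Groth.Agent.H7.FOSp1 Groth.Agent.H7.FOSp2
  Groth.Agent.H7.FOSp3 Groth.Agent.H7.FOSp4 Groth.Agent.H7.FOSp6 Groth.Agent.H7.FOSp8
  Groth.Agent.H7.FOSp9 Groth.Agent.H5.Thick Groth.Agent.H4.AlgSpInf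

variable {S : Scheme.{u}} {F G : Sp S}

/-- affine version of `exists_lchart`. -/
theorem exists_lchart_affine {f : F ⟶ G} (sq : InfSq f) (P : Over S) (p : P ⟶ sq.ptT)
    (hp : Etale p.left) (x : ↥P.left) :
    ∃ c : LChart sq P p, x ∈ Set.range c.r.left ∧ IsAffine c.V.left := by
  obtain ⟨V, W, q, i, r, hq, hr, hx, hpb, hV⟩ : ∃ (V W : Scheme.{u}) (q : V ⟶ Spec (.of sq.A))
      (i : W ⟶ V) (r : W ⟶ P.left), Etale q ∧ IsOpenImmersion r ∧ x ∈ Set.range r ∧
      IsPullback i (r ≫ p.left) q (Spec.map (CommRingCat.ofHom (Ideal.Quotient.mk sq.I))) ∧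
      IsAffine V := by
    let k := P.left.affineCover.idx x
    let W₀ := P.left.affineCover.X k
    let E : CommRingCat.{u} := Γ(W₀, ⊤)
    let r : Spec E ⟶ P.left := W₀.isoSpec.inv ≫ P.left.affineCover.f k
    obtain ⟨φ, hφ⟩ := Spec.map_surjective (r ≫ p.left)
    have hre : Etale (r ≫ p.left) := inferInstance
    rw [← hφ, HasRingHomProperty.Spec_iff (P := @Etale)] at hre
    letI : Algebra (sq.A ⧸ sq.I) E := φ.hom.toAlgebra
    haveI : Algebra.Etale (sq.A ⧸ sq.I) E := hre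
    have hN : IsNilpotent (RingHom.ker (Ideal.Quotient.mk sq.I)) := by
      rw [Ideal.mk_ker]
      exact ⟨2, by rw [sq.sq_zero]; rfl⟩
    obtain ⟨E', _, _, hE', πE, hπ, hker, hcomm⟩ := Groth.Agent.H7.EtLift.exists_etale_lift
      (Ideal.Quotient.mk sq.I) Ideal.Quotient.mk_surjective hN E
    rw [Ideal.mk_ker] at hker
    have hpo := isPushout_of_ker_eq sq.I (algebraMap sq.A E') πE φ.hom hπ hker hcomm
    have hpb := isPullback_SpecMap_of_isPushout _ _ _ _ hpo
    refine ⟨Spec (.of E'), Spec E, Spec.map (CommRingCat.ofHom (algebraMap sq.A E')),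
      Spec.map (CommRingCat.ofHom πE), r, ?_, inferInstance, ?_, ?_, inferInstance⟩
    · rw [HasRingHomProperty.Spec_iff (P := @Etale)]
      exact RingHom.etale_algebraMap.2 hE'
    · obtain ⟨y, hy⟩ := P.left.affineCover.covers x
      refine ⟨W₀.isoSpec.hom y, ?_⟩
      change (W₀.isoSpec.inv ≫ P.left.affineCover.f k) (W₀.isoSpec.hom y) = x
      rw [← Scheme.Hom.comp_apply, Iso.hom_inv_id_assoc]
      exact hy
    · rw [← hφ]
      exact hpb
  have hw : i ≫ q ≫ sq.str = r ≫ P.hom := by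
    rw [← Over.w p, ← Category.assoc, hpb.w, Category.assoc, Category.assoc]
    rfl
  let Vo : Over S := Over.mk (q ≫ sq.str)
  let Wo : Over S := Over.mk (r ≫ P.hom)
  let qo : Vo ⟶ sq.ptT' := Over.homMk q rfl
  let io : Wo ⟶ Vo := Over.homMk i hw
  let ro : Wo ⟶ P := Over.homMk r rfl
  have hcomm : io ≫ qo = (ro ≫ p) ≫ sq.j := by
    apply Over.OverMorphism.ext
    exact hpb.w
  exact ⟨⟨Vo, Wo, qo, io, ro, hq, hr, IsPullback.of_map (Over.forget S) hcomm hpb⟩, hx, hV⟩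

theorem S12195_main {F G H : AlgSp.Sp S} (a : F ⟶ G)
    (b : G ⟶ H) (ha : AlgSp.RepWith @Etale a) (ha' : AlgSp.RepWith @Surjective a)
    (hab : AlgSp.IsFormallySmoothMor (a ≫ b)) (sq : AlgSp.InfSq b) (t : ↥sq.ptT'.left) :
    ∃ (U' : Over S) (g : U' ⟶ sq.ptT') (l : (AlgSp.yon S).obj U' ⟶ G),
      IsAffine U'.left ∧ Etale g.left ∧ (∃ u : ↥U'.left, g.left u = t) ∧
        l ≫ b = (AlgSp.yon S).map g ≫ sq.bot ∧
          ∀ (V : Over S) (p : V ⟶ sq.ptT) (q : V ⟶ U'), p ≫ sq.j = q ≫ g →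
            (AlgSp.yon S).map q ≫ l = (AlgSp.yon S).map p ≫ sq.top := by
  have psq := ha.1.isPullback sq.top
  have hpe : Etale (ha.1.snd sq.top).left := ha.2 _ _ _ psq
  have hps : Surjective (ha.1.snd sq.top).left := ha'.2 _ _ _ psq
  haveI : Surjective sq.j.left := (FOThick_j sq).1.2
  obtain ⟨t₀, rfl⟩ := sq.j.left.surjective t
  obtain ⟨x, rfl⟩ := (ha.1.snd sq.top).left.surjective t₀
  obtain ⟨c, ⟨w, hw'⟩, hV⟩ := exists_lchart_affine sq _ (ha.1.snd sq.top) hpe x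
  have hfo : FOThick c.i.left :=
    FOThick.of_isPullback (c.pb.map (Over.forget S)).flip (FOThick_j sq)
  have hw : (yon S).map c.i ≫ (yon S).map c.q =
      (yon S).map (c.r ≫ ha.1.snd sq.top) ≫ (yon S).map sq.j := by
    rw [← Functor.map_comp, ← Functor.map_comp, c.pb.w]
  have e1 : ha.1.fst sq.top ≫ a ≫ b =
      (yon S).map (ha.1.snd sq.top) ≫ (yon S).map sq.j ≫ sq.bot := by
    rw [← Category.assoc, psq.w, Category.assoc, sq.comm]
  obtain ⟨n, hn1, hn2⟩ := affLift_of_formallySmooth _ hab c.i hV hfo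
    ((yon S).map c.r ≫ ha.1.fst sq.top) ((yon S).map c.q ≫ sq.bot) trivial (by
      rw [Category.assoc, e1, ← Category.assoc ((yon S).map c.i), hw, Functor.map_comp,
        Category.assoc, Category.assoc])
  refine ⟨c.V, c.q, n ≫ a, hV, c.hq, ⟨c.i.left w, ?_⟩, ?_, ?_⟩
  · have := congrArg (fun m => m.left w) c.pb.w
    simp only [Over.comp_left, Scheme.Hom.comp_apply] at this
    rw [this, hw']
  · rw [Category.assoc]; exact hn2
  · intro V₀ p₀ q₀ hpq
    let u : V₀ ⟶ c.W := c.pb.lift q₀ p₀ hpq.symm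
    have hu1 : u ≫ c.i = q₀ := c.pb.lift_fst _ _ _
    have hu2 : u ≫ (c.r ≫ ha.1.snd sq.top) = p₀ := c.pb.lift_snd _ _ _
    rw [← hu1, Functor.map_comp, Category.assoc, ← Category.assoc ((yon S).map c.i), hn1,
      Category.assoc, psq.w, ← Category.assoc, ← Category.assoc, ← Functor.map_comp,
      ← Functor.map_comp, Category.assoc, hu2]

end Groth.Agent.H7.FOSp12
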