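import Groth.Agent.Lib.Helper7.FOSp4
import Mathlib

/-!
# Universal first order thickenings of algebraic spaces: formal consequences
-/

set_option autoImplicit false
universe u

open AlgebraicGeometry CategoryTheory Limits MorphismProperty

namespace Groth.Agent.H7.FOSp5

open _root_.AlgSp Groth.Agent.H5.AlgSp Groth.Agent.H7.FOSp1 Groth.Agent.H7.FOSp2
  Groth.Agent.H7.FOSp3 Groth.Agent.H7.FOSp4

variable {S : Scheme.{u}}

theorem S10631_main {Z Z' Y X : AlgSp.Space S} (hZ : Z ⟶ Y) (g : Y ⟶ X)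
    (i : Z ⟶ Z') (h' : Z' ⟶ Y) (HU : AlgSp.IsUnivFOThick hZ.hom i.hom h'.hom)
    (hg : AlgSp.IsFormallyEtaleMor g.hom) :
    AlgSp.IsUnivFOThick (hZ ≫ g).hom i.hom (h' ≫ g).hom := by
  obtain ⟨hi, hw, hu⟩ := HU
  refine ⟨hi, ?_, ?_⟩
  · change i.hom ≫ h'.hom ≫ g.hom = hZ.hom ≫ g.hom
    rw [← Category.assoc, hw]
  · intro T T' hT hT' j a b hj hjb
    have hjb' : (a ≫ hZ.hom) ≫ g.hom = j ≫ b := by rw [Category.assoc]; exact hjb.symm
    obtain ⟨b', ⟨hb1, hb2⟩, hbu⟩ := existsUnique_lift g.hom hg hT' j hj (a ≫ hZ.hom) b hjb'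
    obtain ⟨a', ⟨ha1, ha2⟩, hau⟩ := hu hT hT' j a b' hj hb1
    refine ⟨a', ⟨ha1, ?_⟩, ?_⟩
    · change a' ≫ h'.hom ≫ g.hom = b
      rw [← Category.assoc, ha2, hb2]
    · rintro a'' ⟨h1, h2⟩
      apply hau
      refine ⟨h1, ?_⟩
      apply hbu
      refine ⟨?_, ?_⟩
      · rw [← Category.assoc, h1, Category.assoc, hw]
      · rw [Category.assoc]; exact h2

/-- tops factoring through `i`. -/
def viaC {Z Z' : Sp S} (i : Z ⟶ Z') : ∀ ⦃G : Sp S⦄, (G ⟶ Z') → Prop :=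
  fun _ t => ∃ a₀, t = a₀ ≫ i

lemma stable_viaC {Z Z' : Sp S} (i : Z ⟶ Z') : Stable (viaC i) := by
  rintro G G' g t ⟨a₀, rfl⟩
  exact ⟨g ≫ a₀, (Category.assoc _ _ _).symm⟩

theorem S10630_main {Z Z' X : AlgSp.Space S} (h : Z ⟶ X) (i : Z ⟶ Z')
    (h' : Z' ⟶ X) (hi : AlgSp.IsFOThickMor i.hom) (w : i ≫ h' = h) :
    AlgSp.IsUnivFOThick h.hom i.hom h'.hom ↔
      ∀ (T T' : Over S) (j : T ⟶ T'), IsAffine T'.left → AlgSp.IsFOThickMor ((AlgSp.yon S).map j) →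
        ∀ (a : (AlgSp.yon S).obj T ⟶ Z.obj) (b : (AlgSp.yon S).obj T' ⟶ X.obj),
          (AlgSp.yon S).map j ≫ b = a ≫ h.hom →
          ∃! a' : (AlgSp.yon S).obj T' ⟶ Z'.obj,
            (AlgSp.yon S).map j ≫ a' = a ≫ i.hom ∧ a' ≫ h'.hom = b := by
  have w' : i.hom ≫ h'.hom = h.hom := congrArg (fun m => m.hom) w
  constructor
  · rintro ⟨-, -, hu⟩ T T' j _ hj a b hjb
    exact hu (IsAlgSpace.yon_obj T) (IsAlgSpace.yon_obj T') _ a b hj hjb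
  · intro H
    have hfo : ∀ ⦃V W : Over S⦄ (snd : W ⟶ V), FOThick snd.left →
        IsFOThickMor ((yon S).map snd) := fun V W snd hs =>
      isFOThickMor_of_repWith _ ((repWith_yon_map_iff FOThick snd).2 hs)
    have HU : AffUniq h'.hom (viaC i.hom) := by
      rintro V W snd hV hs l l' ⟨a₀, ha₀⟩ h1 h2
      have hcomm : (yon S).map snd ≫ (l ≫ h'.hom) = a₀ ≫ h.hom := by
        rw [← Category.assoc, ha₀, Category.assoc, w']
      obtain ⟨a', -, hu⟩ := H W V snd hV (hfo snd hs) a₀ (l ≫ h'.hom) hcomm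
      rw [hu l ⟨ha₀, rfl⟩, hu l' ⟨h1 ▸ ha₀, h2.symm⟩]
    have HE : AffLift h'.hom (viaC i.hom) := by
      rintro V W snd hV hs top bot ⟨a₀, rfl⟩ comm
      have hcomm : (yon S).map snd ≫ bot = a₀ ≫ h.hom := by
        rw [← comm, Category.assoc, w']
      obtain ⟨a', ⟨h1, h2⟩, -⟩ := H W V snd hV (hfo snd hs) a₀ bot hcomm
      exact ⟨a', h1, h2⟩
    refine ⟨hi, w', ?_⟩
    intro T T' hT hT' j a b hj hjb
    have hj' := repWith_FOThick j hT' hj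
    have comm : (a ≫ i.hom) ≫ h'.hom = j ≫ b := by rw [Category.assoc, w', hjb]
    obtain ⟨l, hl1, hl2⟩ := sp_lift (stable_viaC i.hom) HU HE hT' j hj' (a ≫ i.hom) b
      ⟨a, rfl⟩ comm
    refine ⟨l, ⟨hl1, hl2⟩, ?_⟩
    rintro l' ⟨h1, h2⟩
    exact sp_uniq (stable_viaC i.hom) HU hT' j hj' l' l ⟨a, h1⟩ (h1.trans hl1.symm)
      (h2.trans hl2.symm)

end Groth.Agent.H7.FOSp5
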