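import Mathlib
import Groth.Prelude.Def_AlgSp4
import Groth.Prelude.Def_AlgSpInf
import Groth.Agent.Lib.Helper5.AlgSp.Proper
import Groth.Agent.Lib.Helper5.AlgSp.Points
import Groth.Agent.Lib.Helper5.AlgSp.UnivClosed2
import Groth.Agent.Lib.Helper5.AlgSp.UnivTop
import Groth.Agent.Lib.Helper5.AlgSp.ProdSp
import Groth.Agent.Lib.Helper5.AlgSp.ImmersionTop
import Groth.Agent.Lib.Helper5.AlgSp.InterClosed

set_option autoImplicit false
universe u
open CategoryTheory CategoryTheory.Limits AlgebraicGeometry Opposite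

namespace Groth.Agent.H7.Thick

open _root_.AlgSp Groth.Agent.H5.AlgSp

variable {S : Scheme.{u}} {F G H : Sp S}

lemma thick_le_isClosedImmersion : (thick : MorphismProperty Scheme.{u}) ≤ @IsClosedImmersion :=
  fun _ _ _ h => h.1

lemma thick_le_surjective : (thick : MorphismProperty Scheme.{u}) ≤ @Surjective :=
  fun _ _ _ h => h.2

theorem isClosedImmersion_of_isThickMor {t : F ⟶ G} (ht : IsThickMor t) :
    RepWith @IsClosedImmersion t := repWith_mono thick_le_isClosedImmersion ht

theorem repWith_surjective_of_isThickMor {t : F ⟶ G} (ht : IsThickMor t) :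
    RepWith @Surjective t := repWith_mono thick_le_surjective ht

theorem isSurjectiveMor_of_isThickMor {t : F ⟶ G} (ht : IsThickMor t) : IsSurjectiveMor t :=
  points_map_surjective_of_repWith (repWith_surjective_of_isThickMor ht)

theorem mono_of_isThickMor {t : F ⟶ G} (ht : IsThickMor t) : Mono t :=
  mono_of_repWith_isClosedImmersion (isClosedImmersion_of_isThickMor ht)

theorem isUnivOpenMor_of_isThickMor {t : F ⟶ G} (ht : IsThickMor t) : IsUnivOpenMor t :=
  univSp_of_repWith (P := thick) (Q := IsOpenMor)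
    (fun f hf => isOpenMap_points_map_of_repWith (P := thick) (fun φ hφ => by
      have h1 : IsClosedImmersion φ := hφ.1
      have h2 : Surjective φ := hφ.2
      exact (φ.isClosedEmbedding.toIsEmbedding.toHomeomorphOfSurjective h2.surj).isOpenMap) hf) ht

theorem isUnivInjectiveMor_of_mono {t : F ⟶ G} [Mono t] : IsUnivInjectiveMor t := by
  intro Z Z' _ g fst snd sq
  have : Mono snd := sq.mono_snd_of_mono
  exact points_map_injective_of_mono snd

/-- If `a ≫ f` is universally injective and `a` is surjective after every base change, then `f`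
is universally injective. -/
theorem isUnivInjectiveMor_of_comp_surjective {a : H ⟶ F} {f : F ⟶ G}
    (ha : RepWith @Surjective a) (h : IsUnivInjectiveMor (a ≫ f)) : IsUnivInjectiveMor f := by
  intro Z Z' hZ g fst snd sq
  have sqa := IsPullback.of_hasPullback a fst
  have ha' : RepWith @Surjective (pullback.snd a fst) :=
    MorphismProperty.of_isPullback (P := RepWith @Surjective) sqa ha
  have big : IsPullback (pullback.fst a fst) (pullback.snd a fst ≫ snd) (a ≫ f) g :=
    sqa.paste_vert sq
  have h1 : Function.Injective (Points.map (pullback.snd a fst ≫ snd)) := h hZ g _ _ big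
  intro x y hxy
  obtain ⟨x', rfl⟩ := points_map_surjective_of_repWith ha' x
  obtain ⟨y', rfl⟩ := points_map_surjective_of_repWith ha' y
  rw [← Points.map_comp, ← Points.map_comp] at hxy
  rw [h1 hxy]

/-- Cancelling a monomorphism on the right: `f` is a base change of `f ≫ j`. -/
lemma isPullback_of_mono {X Y Y' : Sp S} (f : X ⟶ Y) (j : Y ⟶ Y') [Mono j] :
    IsPullback (𝟙 X) f (f ≫ j) j := by
  refine ⟨⟨by rw [Category.id_comp]⟩, ⟨PullbackCone.IsLimit.mk _ (fun s => s.fst) ?_ ?_ ?_⟩⟩
  · intro s; simp
  · intro s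
    rw [← cancel_mono j, Category.assoc]
    exact s.condition
  · intro s m hm _
    simpa using hm

theorem S10587_sp {X X' Y Y' : Sp S} (hX : IsAlgSpace X) (hX' : IsAlgSpace X') (hY : IsAlgSpace Y)
    (hY' : IsAlgSpace Y') (i : X ⟶ X') (j : Y ⟶ Y')
    (f : X ⟶ Y) (f' : X' ⟶ Y')
    (hi : AlgSp.IsThickMor i)
    (hj : AlgSp.IsThickMor j) (w : i ≫ f' = f ≫ j) :
    (AlgSp.IsSurjectiveMor f ↔ AlgSp.IsSurjectiveMor f') ∧
    (AlgSp.IsQuasiCompactMor f ↔ AlgSp.IsQuasiCompactMor f') ∧
    (AlgSp.IsUnivClosedMor f ↔ AlgSp.IsUnivClosedMor f') ∧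
    (AlgSp.IsUnivInjectiveMor f ↔ AlgSp.IsUnivInjectiveMor f') ∧
    (AlgSp.IsUnivOpenMor f ↔ AlgSp.IsUnivOpenMor f') := by
  have hjm : Mono j := mono_of_isThickMor hj
  have him : Mono i := mono_of_isThickMor hi
  have sq : IsPullback (𝟙 X) f (i ≫ f') j := by rw [w]; exact isPullback_of_mono f j
  have his := isSurjectiveMor_of_isThickMor hi
  have hjs := isSurjectiveMor_of_isThickMor hj
  have hic := isClosedImmersion_of_isThickMor hi
  have hjc := isClosedImmersion_of_isThickMor hj
  refine ⟨⟨fun h => ?_, fun h => ?_⟩, ⟨fun h => ?_, fun h => ?_⟩, ⟨fun h => ?_, fun h => ?_⟩,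
    ⟨fun h => ?_, fun h => ?_⟩, ⟨fun h => ?_, fun h => ?_⟩⟩
  · -- surjective
    intro y'
    obtain ⟨y, rfl⟩ := hjs y'
    obtain ⟨x, rfl⟩ := h y
    exact ⟨Points.map i x, by rw [← Points.map_comp, ← Points.map_comp, w]⟩
  · intro y
    obtain ⟨x', hx'⟩ := h (Points.map j y)
    obtain ⟨x, rfl⟩ := his x'
    refine ⟨x, points_map_injective_of_mono j ?_⟩
    rw [← Points.map_comp, ← w, Points.map_comp, hx']
  · -- quasi-compact
    apply isQuasiCompactMor_of_comp_surjective hX' hY' his
    rw [w]
    exact isQuasiCompactMor_comp hY hY' h (isQuasiCompactMor_of_isClosedImmersion hjc)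
  · exact isQuasiCompactMor_of_isPullback sq
      (isQuasiCompactMor_comp hX' hY' (isQuasiCompactMor_of_isClosedImmersion hic) h)
  · -- universally closed
    apply isUnivClosedMor_of_comp_surjective his
    rw [w]
    exact isUnivClosedMor_comp hY hY' h (isProperMor_of_isClosedImmersion hjc).2.2
  · exact univSp_of_isPullback sq
      (isUnivClosedMor_comp hX' hY' (isProperMor_of_isClosedImmersion hic).2.2 h)
  · -- universally injective
    apply isUnivInjectiveMor_of_comp_surjective (repWith_surjective_of_isThickMor hi)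
    rw [w]
    exact univSp_comp (Q := fun _ _ f => Function.Injective (Points.map f)) (fun a b ha hb => by
      change Function.Injective (Points.map (a ≫ b))
      have : Points.map (a ≫ b) = Points.map b ∘ Points.map a := funext (Points.map_comp a b)
      rw [this]
      exact hb.comp ha) hY hY' h isUnivInjectiveMor_of_mono
  · exact univSp_of_isPullback sq
      (univSp_comp (Q := fun _ _ f => Function.Injective (Points.map f)) (fun a b ha hb => by
        change Function.Injective (Points.map (a ≫ b))
        have : Points.map (a ≫ b) = Points.map b ∘ Points.map a := funext (Points.map_comp a b)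
        rw [this]
        exact hb.comp ha) hX' hY' isUnivInjectiveMor_of_mono h)
  · -- universally open
    apply univSp_isOpenMor_of_comp_surjective (repWith_surjective_of_isThickMor hi)
    rw [w]
    exact univSp_comp (Q := IsOpenMor) (fun a b ha hb => by
      change IsOpenMap (Points.map (a ≫ b))
      have : Points.map (a ≫ b) = Points.map b ∘ Points.map a := funext (Points.map_comp a b)
      rw [this]
      exact IsOpenMap.comp hb ha) hY hY' h (isUnivOpenMor_of_isThickMor hj)
  · exact univSp_of_isPullback sq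
      (univSp_comp (Q := IsOpenMor) (fun a b ha hb => by
        change IsOpenMap (Points.map (a ≫ b))
        have : Points.map (a ≫ b) = Points.map b ∘ Points.map a := funext (Points.map_comp a b)
        rw [this]
        exact IsOpenMap.comp hb ha) hX' hY' (isUnivOpenMor_of_isThickMor hi) h)

theorem S10587_main {X X' Y Y' : AlgSp.Space S} (i : X ⟶ X') (j : Y ⟶ Y')
    (f : X ⟶ Y) (f' : X' ⟶ Y')
    (hi : AlgSp.IsThickMor i.hom)
    (hj : AlgSp.IsThickMor j.hom) (w : i ≫ f' = f ≫ j) :
    (AlgSp.IsSurjectiveMor f.hom ↔ AlgSp.IsSurjectiveMor f'.hom) ∧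
    (AlgSp.IsQuasiCompactMor f.hom ↔ AlgSp.IsQuasiCompactMor f'.hom) ∧
    (AlgSp.IsUnivClosedMor f.hom ↔ AlgSp.IsUnivClosedMor f'.hom) ∧
    (AlgSp.IsUnivInjectiveMor f.hom ↔ AlgSp.IsUnivInjectiveMor f'.hom) ∧
    (AlgSp.IsUnivOpenMor f.hom ↔ AlgSp.IsUnivOpenMor f'.hom) :=
  S10587_sp X.property X'.property Y.property Y'.property i.hom j.hom f.hom f'.hom hi hj
    (congrArg (fun m => m.hom) w)

end Groth.Agent.H7.Thick
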