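import Groth.Agent.Lib.Helper7.FOSp10
import Groth.Agent.Lib.Helper7.FOSp5
import Groth.Agent.Lib.Helper7.Thick
import Groth.Agent.Lib.Helper5.AlgSp.FibreProduct
import Mathlib

/-!
# Descent of universal first order thickenings along surjective etale morphisms (S10633)
-/

set_option autoImplicit false
universe u

open AlgebraicGeometry CategoryTheory Limits

namespace Groth.Agent.H7.FOSp13

open _root_.AlgSp Groth.Agent.H5.AlgSp Groth.Agent.H7.FOSp1 Groth.Agent.H7.FOSp2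
  Groth.Agent.H7.FOSp3 Groth.Agent.H7.FOSp4 Groth.Agent.H7.FOSp5 Groth.Agent.H7.FOSp6
  Groth.Agent.H7.FOSp9 Groth.Agent.H7.FOSp10 Groth.Agent.H5.Thick Groth.Agent.H4.AlgSpInf

variable {S : Scheme.{u}}

section Std

variable {X Y : Sp S} (f : X ⟶ Y) (C : ∀ ⦃G : Sp S⦄, (G ⟶ X) → Prop)

/-- uniqueness for standard lifting squares whose top arrow is in the class `C`. -/
def StdUniq : Prop := ∀ sq : InfSq f, C sq.top → sq.HasUniq

/-- existence for standard lifting squares whose top arrow is in the class `C`. -/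
def StdLift : Prop := ∀ sq : InfSq f, C sq.top → sq.HasLift

variable {f C}

theorem affLift_of_std (hC : Stable C) (H : StdLift f C) : AffLift f C := by
  intro V W snd hV hfo top bot hCt comm
  obtain ⟨sq, eV, eW, hj, htop, hbot⟩ := exists_infSq f snd hV hfo top bot comm
  obtain ⟨l₀, h1, h2⟩ := H sq (by rw [htop]; exact hC _ _ hCt)
  refine ⟨(yon S).map eV.hom ≫ l₀, ?_, ?_⟩
  · have e1 : snd ≫ eV.hom = eW.inv ≫ sq.j := by rw [← hj, Iso.inv_hom_id_assoc]
    rw [← Category.assoc, ← Functor.map_comp, e1, Functor.map_comp, Category.assoc, h1, htop,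
      ← Category.assoc, ← Functor.map_comp, Iso.inv_hom_id, CategoryTheory.Functor.map_id,
      Category.id_comp]
  · rw [Category.assoc, h2, hbot, ← Category.assoc, ← Functor.map_comp, Iso.hom_inv_id,
      CategoryTheory.Functor.map_id, Category.id_comp]

theorem affUniq_of_std (hC : Stable C) (H : StdUniq f C) : AffUniq f C := by
  intro V W snd hV hfo l l' hCl h1 h2
  obtain ⟨sq, eV, eW, hj, htop, hbot⟩ := exists_infSq f snd hV hfo ((yon S).map snd ≫ l)
    (l ≫ f) (by rw [Category.assoc])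
  have e1 : sq.j ≫ eV.inv = eW.hom ≫ snd := by
    rw [← hj, Category.assoc, Category.assoc, Iso.hom_inv_id, Category.comp_id]
  have key : ∀ m : (yon S).obj V ⟶ X, (yon S).map snd ≫ m = (yon S).map snd ≫ l →
      m ≫ f = l ≫ f →
      (yon S).map sq.j ≫ (yon S).map eV.inv ≫ m = sq.top ∧
        ((yon S).map eV.inv ≫ m) ≫ f = sq.bot := by
    intro m hm1 hm2
    refine ⟨?_, ?_⟩
    · rw [← Category.assoc, ← Functor.map_comp, e1, Functor.map_comp, Category.assoc, hm1, htop]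
    · rw [Category.assoc, hm2, hbot]
  obtain ⟨a1, a2⟩ := key l rfl rfl
  obtain ⟨b1, b2⟩ := key l' h1.symm h2.symm
  have := H sq (by rw [htop]; exact hC _ _ hCl) _ _ a1 a2 b1 b2
  have h3 := congrArg (fun m => (yon S).map eV.hom ≫ m) this
  simp only [← Category.assoc, ← Functor.map_comp, Iso.hom_inv_id, CategoryTheory.Functor.map_id,
    Category.id_comp] at h3
  exact h3

end Std

/-- a formally etale first order thickening of algebraic spaces is an isomorphism. -/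
theorem isIso_of_isFOThickMor_of_formallyEtale {Z Z₁ : Sp S} (hZ₁ : IsAlgSpace Z₁) (k : Z ⟶ Z₁)
    (hk : IsFOThickMor k) (hke : IsFormallyEtaleMor k) : IsIso k := by
  obtain ⟨ρ, ⟨h1, h2⟩, -⟩ := existsUnique_lift k hke hZ₁ k hk (𝟙 Z) (𝟙 Z₁)
    (by rw [Category.id_comp, Category.comp_id])
  exact ⟨ρ, h1, h2⟩

/-- a commutative square of thickenings over an etale map with etale source map is cartesian. -/
theorem isPullback_of_etale_thickenings {Z Y Z' Y' : Sp S} (hZ : IsAlgSpace Z)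
    (hY : IsAlgSpace Y) (hZ' : IsAlgSpace Z') (hY' : IsAlgSpace Y')
    (e : Z ⟶ Y) (he : IsEtaleMor e) (iZ : Z ⟶ Z') (iY : Y ⟶ Y') (hiZ : IsFOThickMor iZ)
    (hiY : IsFOThickMor iY) (f' : Z' ⟶ Y') (hf' : IsEtaleMor f') (w : iZ ≫ f' = e ≫ iY) :
    IsPullback iZ e f' iY := by
  have sq := IsPullback.of_hasPullback f' iY
  have hZ₁ : IsAlgSpace (pullback f' iY) := isAlgSpace_pullback hY'.diag hZ' hY sq
  have hk1 : pullback.lift iZ e w ≫ pullback.fst f' iY = iZ := pullback.lift_fst _ _ _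
  have hk2 : pullback.lift iZ e w ≫ pullback.snd f' iY = e := pullback.lift_snd _ _ _
  haveI : Mono iY := Groth.Agent.H7.Thick.mono_of_isThickMor hiY.1
  haveI : Mono (pullback.fst f' iY) := inferInstance
  -- `k` is the base change of `iZ` along the monomorphism `pr₁`
  have hpb : IsPullback (𝟙 Z) (pullback.lift iZ e w) iZ (pullback.fst f' iY) := by
    refine ⟨⟨by rw [Category.id_comp, hk1]⟩, ⟨PullbackCone.IsLimit.mk _ (fun s => s.fst) ?_ ?_ ?_⟩⟩
    · intro s; exact Category.comp_id _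
    · intro s
      rw [← cancel_mono (pullback.fst f' iY), Category.assoc, hk1, s.condition]
    · intro s m hm _
      rw [← hm, Category.comp_id]
  have hkFO : IsFOThickMor (pullback.lift iZ e w) := isFOThickMor_of_isPullback hpb hZ' hiZ
  have he' := isFormallyEtaleMor_of_isEtaleMor e hZ he
  have hf'' := isFormallyEtaleMor_of_isEtaleMor f' hZ' hf'
  have hpr2 : IsFormallyEtaleMor (pullback.snd f' iY) :=
    formallyEtale_baseChange f' iY _ _ sq hf''
  have hke : IsFormallyEtaleMor (pullback.lift iZ e w) := by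
    apply formallyEtale_of_comp _ (pullback.snd f' iY) ((isFormallyEtaleMor_iff _).1 hpr2).2
    rw [hk2]; exact he'
  haveI := isIso_of_isFOThickMor_of_formallyEtale hZ₁ _ hkFO hke
  exact IsPullback.of_iso_pullback ⟨w⟩ (asIso (pullback.lift iZ e w)) hk1 hk2

end Groth.Agent.H7.FOSp13

namespace Groth.Agent.H7.FOSp13

open _root_.AlgSp Groth.Agent.H5.AlgSp Groth.Agent.H7.FOSp1 Groth.Agent.H7.FOSp2
  Groth.Agent.H7.FOSp3 Groth.Agent.H7.FOSp4 Groth.Agent.H7.FOSp5 Groth.Agent.H7.FOSp6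
  Groth.Agent.H7.FOSp9 Groth.Agent.H7.FOSp10 Groth.Agent.H5.Thick Groth.Agent.H4.AlgSpInf

variable {S : Scheme.{u}}

lemma lchart_FOThick {F G : Sp S} {f : F ⟶ G} {sq : InfSq f} {P : Over S} {p : P ⟶ sq.ptT}
    (c : LChart sq P p) : FOThick c.i.left :=
  FOThick.of_isPullback (c.pb.map (Over.forget S)).flip (FOThick_j sq)

lemma lchart_w {F G : Sp S} {f : F ⟶ G} {sq : InfSq f} {P : Over S} {p : P ⟶ sq.ptT}
    (c : LChart sq P p) : (yon S).map c.i ≫ (yon S).map c.q =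
      (yon S).map (c.r ≫ p) ≫ (yon S).map sq.j := by
  rw [← Functor.map_comp, ← Functor.map_comp, c.pb.w]

lemma lchart_q_surj {F G : Sp S} {f : F ⟶ G} {sq : InfSq f} {P : Over S} {p : P ⟶ sq.ptT}
    (hps : Surjective p.left) (c : ↥P.left → LChart sq P p)
    (hc : ∀ x, x ∈ Set.range (c x).r.left) (t : ↥sq.ptT'.left) :
    ∃ x, t ∈ Set.range (c x).q.left := by
  haveI : Surjective sq.j.left := (FOThick_j sq).1.2
  obtain ⟨t₀, rfl⟩ := sq.j.left.surjective t
  obtain ⟨x, rfl⟩ := p.left.surjective t₀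
  obtain ⟨w, hw'⟩ := hc x
  refine ⟨x, (c x).i.left w, ?_⟩
  have := congrArg (fun m => m.left w) (c x).pb.w
  simp only [Over.comp_left, Scheme.Hom.comp_apply] at this
  rw [this, hw']

/-- glue local lifts over a family of local etale charts of a thickening. -/
theorem glue_lcharts {X Y : Sp S} {f : X ⟶ Y} {C : ∀ ⦃G : Sp S⦄, (G ⟶ X) → Prop}
    (hC : Stable C) (HU : AffUniq f C) (sq : InfSq f) (hCt : C sq.top) {P : Over S}
    (p : P ⟶ sq.ptT) (hpe : Etale p.left) (hps : Surjective p.left)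
    (c : ↥P.left → LChart sq P p)
    (hc : ∀ x, x ∈ Set.range (c x).r.left) (lk : ∀ x, (yon S).obj (c x).V ⟶ X)
    (hlk1 : ∀ x, (yon S).map (c x).i ≫ lk x = (yon S).map ((c x).r ≫ p) ≫ sq.top)
    (hlk2 : ∀ x, lk x ≫ f = (yon S).map (c x).q ≫ sq.bot) : sq.HasLift := by
  have hqfl : ∀ x, Flat (c x).q.left := fun x => by haveI := (c x).hq; infer_instance
  have hqfp : ∀ x, LocallyOfFinitePresentation (c x).q.left := fun x => by
    haveI := (c x).hq; infer_instance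
  have hqsurj := lchart_q_surj hps c hc
  obtain ⟨l, hl⟩ := exists_glue (fun x => (c x).V) (fun x => (c x).q) hqfl hqfp hqsurj lk (by
    intro x x' Z gk gl hg
    have key : ∀ (y : ↥P.left) (gm : Z ⟶ (c y).V) (gV : Z ⟶ sq.ptT'),
        gm ≫ (c y).q = gV →
        (yon S).map (pullback.snd sq.j gV) ≫ (yon S).map gm ≫ lk y =
          (yon S).map (pullback.fst sq.j gV) ≫ sq.top := by
      rintro y gm _ rfl
      let v : pullback sq.j (gm ≫ (c y).q) ⟶ (c y).W :=
        (c y).pb.lift (pullback.snd _ _ ≫ gm) (pullback.fst _ _)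
          (by rw [Category.assoc, ← pullback.condition])
      have hv1 : v ≫ (c y).i = pullback.snd _ _ ≫ gm := (c y).pb.lift_fst _ _ _
      have hv2 : v ≫ ((c y).r ≫ p) = pullback.fst _ _ := (c y).pb.lift_snd _ _ _
      rw [← Category.assoc, ← Functor.map_comp, ← hv1, Functor.map_comp, Category.assoc,
        hlk1, ← Category.assoc, ← Functor.map_comp, hv2]
    have k1 := key x gk _ rfl
    have k2 := key x' gl _ hg.symm
    refine sch_uniq hC HU (pullback.snd sq.j (gk ≫ (c x).q))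
      (FOThick_pullback_snd sq.j _ (FOThick_j sq)) _ _ ?_ (k1.trans k2.symm) ?_
    · rw [k1]; exact hC _ _ hCt
    · rw [Category.assoc, Category.assoc, hlk2, hlk2, ← Category.assoc, ← Category.assoc,
        ← Functor.map_comp, ← Functor.map_comp, hg])
  refine ⟨l, ?_, ?_⟩
  · refine hom_ext_of_family (fun x => (c x).W) (fun x => (c x).r ≫ p)
      (fun x => ?_) (fun x => ?_) ?_ _ _ (fun x => ?_)
    · haveI := (c x).hr
      haveI := hpe
      rw [Over.comp_left]; infer_instance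
    · haveI := (c x).hr
      haveI := hpe
      rw [Over.comp_left]; infer_instance
    · intro t
      obtain ⟨x, rfl⟩ := p.left.surjective t
      obtain ⟨w, hw'⟩ := hc x
      refine ⟨x, w, ?_⟩
      rw [Over.comp_left, Scheme.Hom.comp_apply, hw']
    · rw [← Category.assoc, ← lchart_w, Category.assoc, hl, hlk1]
  · refine hom_ext_of_family (fun x => (c x).V) (fun x => (c x).q) hqfl hqfp hqsurj _ _
      (fun x => ?_)
    rw [← Category.assoc, hl, hlk2]

section Main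

variable {Z Y Z' Y' X : Sp S} (e : Z ⟶ Y) (hY : Y ⟶ X) (iZ : Z ⟶ Z') (iY : Y ⟶ Y')
  (f' : Z' ⟶ Y') (hY' : Y' ⟶ X)

theorem chart_uniq (hf' : IsFormallyEtaleMor f') (w : iZ ≫ f' = e ≫ iY) (w' : iY ≫ hY' = hY)
    (HU : IsUnivFOThick (e ≫ hY) iZ (f' ≫ hY')) {V W : Over S} (i : W ⟶ V)
    (hi : FOThick i.left) (t : (yon S).obj W ⟶ Z) (m m' : (yon S).obj V ⟶ Y')
    (h1 : (yon S).map i ≫ m = t ≫ e ≫ iY) (h2 : (yon S).map i ≫ m' = t ≫ e ≫ iY)
    (h3 : m ≫ hY' = m' ≫ hY') : m = m' := by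
  have hfoi : IsFOThickMor ((yon S).map i) :=
    isFOThickMor_of_repWith _ ((repWith_yon_map_iff FOThick _).2 hi)
  have hV := IsAlgSpace.yon_obj (S := S) V
  have hW := IsAlgSpace.yon_obj (S := S) W
  have key : ∀ m₁ : (yon S).obj V ⟶ Y', (yon S).map i ≫ m₁ = t ≫ e ≫ iY →
      ∃ n : (yon S).obj V ⟶ Z', (yon S).map i ≫ n = t ≫ iZ ∧ n ≫ f' = m₁ := by
    intro m₁ hm₁
    obtain ⟨n, ⟨hn1, hn2⟩, -⟩ := existsUnique_lift f' hf' hV _ hfoi (t ≫ iZ) m₁
      (by rw [Category.assoc, w, hm₁])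
    exact ⟨n, hn1, hn2⟩
  obtain ⟨n, hn1, hn2⟩ := key m h1
  obtain ⟨n', hn1', hn2'⟩ := key m' h2
  have hcomm : (yon S).map i ≫ (m ≫ hY') = t ≫ e ≫ hY := by
    rw [← Category.assoc, h1, Category.assoc, Category.assoc, w']
  obtain ⟨n₀, -, hu⟩ := HU.2.2 hW hV _ t (m ≫ hY') hfoi hcomm
  have e1 : n = n₀ := hu n ⟨hn1, by rw [← Category.assoc, hn2]⟩
  have e2 : n' = n₀ := hu n' ⟨hn1', by rw [← Category.assoc, hn2', h3]⟩
  rw [← hn2, ← hn2', e1, e2]

theorem chart_lift (w : iZ ≫ f' = e ≫ iY)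
    (HU : IsUnivFOThick (e ≫ hY) iZ (f' ≫ hY')) {V W : Over S} (i : W ⟶ V)
    (hi : FOThick i.left) (t : (yon S).obj W ⟶ Z) (b : (yon S).obj V ⟶ X)
    (hcomm : (yon S).map i ≫ b = t ≫ e ≫ hY) :
    ∃ m : (yon S).obj V ⟶ Y', (yon S).map i ≫ m = t ≫ e ≫ iY ∧ m ≫ hY' = b := by
  have hfoi : IsFOThickMor ((yon S).map i) :=
    isFOThickMor_of_repWith _ ((repWith_yon_map_iff FOThick _).2 hi)
  obtain ⟨n, ⟨hn1, hn2⟩, -⟩ := HU.2.2 (IsAlgSpace.yon_obj W) (IsAlgSpace.yon_obj V) _ t b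
    hfoi hcomm
  refine ⟨n ≫ f', ?_, ?_⟩
  · rw [← Category.assoc, hn1, Category.assoc, w]
  · rw [Category.assoc]; exact hn2

theorem stdUniq_descend (hf' : IsFormallyEtaleMor f') (w : iZ ≫ f' = e ≫ iY)
    (w' : iY ≫ hY' = hY) (HU : IsUnivFOThick (e ≫ hY) iZ (f' ≫ hY')) {U : Over S}
    (φ : (yon S).obj U ⟶ Z) (hε1 : RepWith @Etale (φ ≫ e))
    (hε2 : RepWith @Surjective (φ ≫ e)) : StdUniq hY' (viaC iY) := by
  rintro sq ⟨a₀, ha₀⟩ l l' h1 h2 h3 h4
  have psq := hε1.1.isPullback a₀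
  have hpe : Etale (hε1.1.snd a₀).left := hε1.2 _ _ _ psq
  have hps : Surjective (hε1.1.snd a₀).left := hε2.2 _ _ _ psq
  choose c hc using exists_lchart sq _ (hε1.1.snd a₀) hpe
  have hqfl : ∀ x, Flat (c x).q.left := fun x => by haveI := (c x).hq; infer_instance
  have hqfp : ∀ x, LocallyOfFinitePresentation (c x).q.left := fun x => by
    haveI := (c x).hq; infer_instance
  refine hom_ext_of_family (fun x => (c x).V) (fun x => (c x).q) hqfl hqfp
    (lchart_q_surj hps c hc) _ _ (fun x => ?_)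
  have e2 := congrArg (fun m => m ≫ iY) psq.w
  simp only [Category.assoc] at e2
  have key : ∀ l₁ : (yon S).obj sq.ptT' ⟶ Y', (yon S).map sq.j ≫ l₁ = sq.top →
      (yon S).map (c x).i ≫ (yon S).map (c x).q ≫ l₁ =
        ((yon S).map (c x).r ≫ hε1.1.fst a₀ ≫ φ) ≫ e ≫ iY := by
    intro l₁ hl₁
    rw [← Category.assoc, lchart_w, Category.assoc, hl₁, ha₀]
    simp only [Category.assoc, Functor.map_comp]
    rw [e2]
  refine chart_uniq e hY iZ iY f' hY' hf' w w' HU (c x).i (lchart_FOThick (c x))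
    ((yon S).map (c x).r ≫ hε1.1.fst a₀ ≫ φ) _ _ (key l h1) (key l' h3) ?_
  rw [Category.assoc, Category.assoc, h2, h4]

theorem stdLift_descend (hf' : IsFormallyEtaleMor f') (w : iZ ≫ f' = e ≫ iY)
    (w' : iY ≫ hY' = hY) (HU : IsUnivFOThick (e ≫ hY) iZ (f' ≫ hY')) {U : Over S}
    (φ : (yon S).obj U ⟶ Z) (hε1 : RepWith @Etale (φ ≫ e))
    (hε2 : RepWith @Surjective (φ ≫ e)) : StdLift hY' (viaC iY) := by
  have HUstd := stdUniq_descend e hY iZ iY f' hY' hf' w w' HU φ hε1 hε2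
  rintro sq ⟨a₀, ha₀⟩
  have psq := hε1.1.isPullback a₀
  have hpe : Etale (hε1.1.snd a₀).left := hε1.2 _ _ _ psq
  have hps : Surjective (hε1.1.snd a₀).left := hε2.2 _ _ _ psq
  choose c hc using exists_lchart sq _ (hε1.1.snd a₀) hpe
  have hloc : ∀ x, ∃ m : (yon S).obj (c x).V ⟶ Y',
      (yon S).map (c x).i ≫ m = ((yon S).map (c x).r ≫ hε1.1.fst a₀ ≫ φ) ≫ e ≫ iY ∧
      m ≫ hY' = (yon S).map (c x).q ≫ sq.bot := by
    intro x
    refine chart_lift e hY iZ iY f' hY' w HU (c x).i (lchart_FOThick (c x)) _ _ ?_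
    have e2 := congrArg (fun m => m ≫ hY) psq.w
    simp only [Category.assoc] at e2
    rw [← Category.assoc, lchart_w, Category.assoc, ← sq.comm, ha₀]
    simp only [Category.assoc, Functor.map_comp]
    rw [e2, w']
  choose lk hlk1 hlk2 using hloc
  refine glue_lcharts (stable_viaC iY) (affUniq_of_std (stable_viaC iY) HUstd) sq ⟨a₀, ha₀⟩
    (hε1.1.snd a₀) hpe hps c hc lk (fun x => ?_) hlk2
  have e2 := congrArg (fun m => m ≫ iY) psq.w
  simp only [Category.assoc] at e2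
  rw [hlk1, ha₀]
  simp only [Category.assoc, Functor.map_comp]
  rw [e2]

theorem descend_main (hZ : IsAlgSpace Z) (hZ' : IsAlgSpace Z') (he : IsEtaleMor e)
    (hes : IsSurjectiveMor e) (hiY : IsFOThickMor iY) (hf' : IsEtaleMor f')
    (w : iZ ≫ f' = e ≫ iY) (w' : iY ≫ hY' = hY)
    (HU : IsUnivFOThick (e ≫ hY) iZ (f' ≫ hY')) : IsUnivFOThick hY iY hY' := by
  obtain ⟨U, φ, hφe, hφs⟩ := hZ.atlas
  have hε1 : RepWith @Etale (φ ≫ e) := he φ hφe
  have hε2 : RepWith @Surjective (φ ≫ e) := by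
    refine repWith_surjective_of_points hε1.1 ?_
    intro y
    obtain ⟨z, rfl⟩ := hes y
    obtain ⟨u, rfl⟩ := points_map_surjective_of_repWith hφs z
    exact ⟨u, Points.map_comp _ _ _⟩
  have hf'' := isFormallyEtaleMor_of_isEtaleMor f' hZ' hf'
  have HUs := stdUniq_descend e hY iZ iY f' hY' hf'' w w' HU φ hε1 hε2
  have HEs := stdLift_descend e hY iZ iY f' hY' hf'' w w' HU φ hε1 hε2
  have HUa := affUniq_of_std (stable_viaC iY) HUs
  have HEa := affLift_of_std (stable_viaC iY) HEs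
  refine ⟨hiY, w', ?_⟩
  intro T T' hT hT' j a b hj hjb
  have hj' := repWith_FOThick j hT' hj
  have comm : (a ≫ iY) ≫ hY' = j ≫ b := by rw [Category.assoc, w', hjb]
  obtain ⟨l, hl1, hl2⟩ := sp_lift (stable_viaC iY) HUa HEa hT' j hj' (a ≫ iY) b ⟨a, rfl⟩ comm
  refine ⟨l, ⟨hl1, hl2⟩, ?_⟩
  rintro l' ⟨h1, h2⟩
  exact sp_uniq (stable_viaC iY) HUa hT' j hj' l' l ⟨a, h1⟩ (h1.trans hl1.symm)
    (h2.trans hl2.symm)

end Main

theorem S10633_main {Z Y Z' Y' X : AlgSp.Space S} (e : Z ⟶ Y)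
    (he : AlgSp.IsEtaleMor e.hom) (hes : AlgSp.IsSurjectiveMor e.hom) (hY : Y ⟶ X)
    (iZ : Z ⟶ Z') (iY : Y ⟶ Y') (hiY : AlgSp.IsFOThickMor iY.hom)
    (f' : Z' ⟶ Y') (hf' : AlgSp.IsEtaleMor f'.hom) (w : iZ ≫ f' = e ≫ iY) (hY' : Y' ⟶ X)
    (w' : iY ≫ hY' = hY)
    (HU : AlgSp.IsUnivFOThick (e ≫ hY).hom iZ.hom (f' ≫ hY').hom) :
    AlgSp.IsUnivFOThick hY.hom iY.hom hY'.hom :=
  descend_main e.hom hY.hom iZ.hom iY.hom f'.hom hY'.hom Z.property Z'.property he hes hiY hf'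
    (congrArg (fun m => m.hom) w) (congrArg (fun m => m.hom) w') HU

end Groth.Agent.H7.FOSp13
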