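import Groth.Agent.Lib.Helper7.FOSp13
import Mathlib

/-!
# Etale localization of universal first order thickenings: formal part (S10638)
-/

set_option autoImplicit false
universe u

open AlgebraicGeometry CategoryTheory Limits

namespace Groth.Agent.H7.FOSp14

open _root_.AlgSp Groth.Agent.H5.AlgSp Groth.Agent.H7.FOSp1 Groth.Agent.H7.FOSp2
  Groth.Agent.H7.FOSp3 Groth.Agent.H7.FOSp4 Groth.Agent.H7.FOSp5 Groth.Agent.H7.FOSp6
  Groth.Agent.H7.FOSp9 Groth.Agent.H7.FOSp10 Groth.Agent.H5.Thick Groth.Agent.H4.AlgSpInf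

variable {S : Scheme.{u}}

/-- sheaf-level form of S10631. -/
theorem univ_comp_formallyEtale {Z Z' Y X : Sp S} (hZ : Z ⟶ Y) (g : Y ⟶ X) (i : Z ⟶ Z')
    (h' : Z' ⟶ Y) (HU : IsUnivFOThick hZ i h') (hg : IsFormallyEtaleMor g) :
    IsUnivFOThick (hZ ≫ g) i (h' ≫ g) := by
  obtain ⟨hi, hw, hu⟩ := HU
  refine ⟨hi, ?_, ?_⟩
  · rw [← Category.assoc, hw]
  · intro T T' hT hT' j a b hj hjb
    have hjb' : (a ≫ hZ) ≫ g = j ≫ b := by rw [Category.assoc]; exact hjb.symm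
    obtain ⟨b', ⟨hb1, hb2⟩, hbu⟩ := existsUnique_lift g hg hT' j hj (a ≫ hZ) b hjb'
    obtain ⟨a', ⟨ha1, ha2⟩, hau⟩ := hu hT hT' j a b' hj hb1
    refine ⟨a', ⟨ha1, ?_⟩, ?_⟩
    · rw [← Category.assoc, ha2, hb2]
    · rintro a'' ⟨h1, h2⟩
      apply hau
      refine ⟨h1, ?_⟩
      apply hbu
      refine ⟨?_, ?_⟩
      · rw [← Category.assoc, h1, Category.assoc, hw]
      · rw [Category.assoc]; exact h2

lemma isFOThickMor_yon_map {V W : Over S} (snd : W ⟶ V) (hs : FOThick snd.left) :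
    IsFOThickMor ((yon S).map snd) :=
  isFOThickMor_of_repWith _ ((repWith_yon_map_iff FOThick snd).2 hs)

section Core

variable {Z X Z' V V' : Sp S} (h : Z ⟶ X) (iZ : Z ⟶ Z') (hZ' : Z' ⟶ X) (v : V ⟶ Z)
  (iV : V ⟶ V') (g' : V' ⟶ X) (e' : V' ⟶ Z')

/-- the square of universal thickenings over a formally etale map is cartesian. -/
theorem univ_etale_isPullback (hZa : IsAlgSpace Z) (hZ'a : IsAlgSpace Z') (hVa : IsAlgSpace V)
    (hV'a : IsAlgSpace V') (HZ : IsUnivFOThick h iZ hZ') (hv : IsFormallyEtaleMor v)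
    (HV : IsUnivFOThick (v ≫ h) iV g') (h1 : iV ≫ e' = v ≫ iZ) (h2 : e' ≫ hZ' = g') :
    IsPullback iV v e' iZ := by
  have sq := IsPullback.of_hasPullback e' iZ
  have hV₁ : IsAlgSpace (pullback e' iZ) := isAlgSpace_pullback hZ'a.diag hV'a hZa sq
  have hk1 : pullback.lift iV v h1 ≫ pullback.fst e' iZ = iV := pullback.lift_fst _ _ _
  have hk2 : pullback.lift iV v h1 ≫ pullback.snd e' iZ = v := pullback.lift_snd _ _ _
  haveI : Mono iZ := Groth.Agent.H7.Thick.mono_of_isThickMor HZ.1.1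
  haveI : Mono iV := Groth.Agent.H7.Thick.mono_of_isThickMor HV.1.1
  haveI : Mono (pullback.fst e' iZ) := inferInstance
  have hfstFO : IsFOThickMor (pullback.fst e' iZ) :=
    isFOThickMor_of_isPullback sq.flip hZ'a HZ.1
  have hpb : IsPullback (𝟙 V) (pullback.lift iV v h1) iV (pullback.fst e' iZ) := by
    refine ⟨⟨by rw [Category.id_comp, hk1]⟩, ⟨PullbackCone.IsLimit.mk _ (fun s => s.fst) ?_ ?_ ?_⟩⟩
    · intro s; exact Category.comp_id _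
    · intro s
      rw [← cancel_mono (pullback.fst e' iZ), Category.assoc, hk1, s.condition]
    · intro s m hm _
      rw [← hm, Category.comp_id]
  have hkFO : IsFOThickMor (pullback.lift iV v h1) := isFOThickMor_of_isPullback hpb hV'a HV.1
  obtain ⟨ρ, ⟨hρ1, hρ2⟩, -⟩ := existsUnique_lift v hv hV₁ _ hkFO (𝟙 V) (pullback.snd e' iZ)
    (by rw [Category.id_comp, hk2])
  have hcompat : pullback.fst e' iZ ≫ g' = ρ ≫ v ≫ h := by
    rw [← h2, ← Category.assoc, sq.w, Category.assoc, HZ.2.1, ← Category.assoc, hρ2]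
  obtain ⟨a', ⟨ha1, ha2⟩, -⟩ := HV.2.2 hV₁ hV'a _ ρ g' hfstFO hcompat
  obtain ⟨a₀, -, hu₀⟩ := HV.2.2 hVa hV'a iV (𝟙 V) g' HV.1
    (by rw [Category.id_comp]; exact HV.2.1)
  have e0 : iV ≫ a' = iV := by
    calc iV ≫ a' = (pullback.lift iV v h1 ≫ pullback.fst e' iZ) ≫ a' := by rw [hk1]
      _ = pullback.lift iV v h1 ≫ ρ ≫ iV := by rw [Category.assoc, ha1]
      _ = iV := by rw [← Category.assoc, hρ1, Category.id_comp]
  have e1 : a' = a₀ := hu₀ a' ⟨by rw [Category.id_comp]; exact e0, ha2⟩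
  have e2 : 𝟙 V' = a₀ := hu₀ (𝟙 V') ⟨by rw [Category.comp_id, Category.id_comp],
    Category.id_comp _⟩
  have hfst : ρ ≫ iV = pullback.fst e' iZ := by
    rw [← ha1, e1, ← e2, Category.comp_id]
  haveI : Mono ρ := mono_of_mono_fac hfst
  have hρk : ρ ≫ pullback.lift iV v h1 = 𝟙 _ := by
    rw [← cancel_mono ρ, Category.assoc, hρ1, Category.comp_id, Category.id_comp]
  haveI : IsIso (pullback.lift iV v h1) := ⟨ρ, hρ1, hρk⟩
  exact IsPullback.of_iso_pullback ⟨h1⟩ (asIso (pullback.lift iV v h1)) hk1 hk2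

/-- the induced map of universal thickenings over a formally etale map is formally etale. -/
theorem univ_etale_formallyEtale (hZa : IsAlgSpace Z) (hZ'a : IsAlgSpace Z')
    (hVa : IsAlgSpace V) (hV'a : IsAlgSpace V') (HZ : IsUnivFOThick h iZ hZ')
    (hv : IsFormallyEtaleMor v) (HV : IsUnivFOThick (v ≫ h) iV g') (h1 : iV ≫ e' = v ≫ iZ)
    (h2 : e' ≫ hZ' = g') : IsFormallyEtaleMor e' := by
  have F1 := univ_etale_isPullback h iZ hZ' v iV g' e' hZa hZ'a hVa hV'a HZ hv HV h1 h2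
  haveI : Mono iV := Groth.Agent.H7.Thick.mono_of_isThickMor HV.1.1
  have hiZ' := repWith_FOThick iZ hZ'a HZ.1
  intro sq
  obtain ⟨TZ, sZ, fZ, psq, hsZ⟩ : ∃ (TZ : Over S) (sZ : TZ ⟶ sq.ptT')
      (fZ : (yon S).obj TZ ⟶ Z), IsPullback fZ ((yon S).map sZ) iZ sq.bot ∧ FOThick sZ.left :=
    ⟨_, hiZ'.1.snd sq.bot, hiZ'.1.fst sq.bot, hiZ'.1.isPullback sq.bot,
      hiZ'.2 _ _ _ (hiZ'.1.isPullback sq.bot)⟩
  obtain ⟨T₀, p1, p2, hp, hp1, hp2⟩ : ∃ (T₀ : Over S) (p1 : T₀ ⟶ sq.ptT) (p2 : T₀ ⟶ TZ),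
      p1 ≫ sq.j = p2 ≫ sZ ∧ FOThick p1.left ∧ FOThick p2.left :=
    ⟨pullback sq.j sZ, pullback.fst sq.j sZ, pullback.snd sq.j sZ, pullback.condition,
      FOThick.of_isPullback (isPullback_left sq.j sZ).flip hsZ,
      FOThick_pullback_snd sq.j sZ (FOThick_j sq)⟩
  have hpy : (yon S).map p1 ≫ (yon S).map sq.j = (yon S).map p2 ≫ (yon S).map sZ := by
    rw [← Functor.map_comp, ← Functor.map_comp, hp]
  have hT := IsAlgSpace.yon_obj (S := S) sq.ptT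
  have hT' := IsAlgSpace.yon_obj (S := S) sq.ptT'
  have hTZ := IsAlgSpace.yon_obj (S := S) TZ
  have hT₀ := IsAlgSpace.yon_obj (S := S) T₀
  have hcomm := sq.comm
  -- the map from `T₀` to `V`
  have c0 : ((yon S).map p1 ≫ sq.top) ≫ e' = ((yon S).map p2 ≫ fZ) ≫ iZ := by
    rw [Category.assoc, hcomm, ← Category.assoc, hpy, Category.assoc, Category.assoc, psq.w]
  obtain ⟨top₀, ht1, ht2⟩ : ∃ top₀ : (yon S).obj T₀ ⟶ V,
      top₀ ≫ iV = (yon S).map p1 ≫ sq.top ∧ top₀ ≫ v = (yon S).map p2 ≫ fZ :=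
    ⟨F1.lift _ _ c0, F1.lift_fst _ _ c0, F1.lift_snd _ _ c0⟩
  obtain ⟨aZ, ⟨haZ1, haZ2⟩, haZu⟩ := existsUnique_lift v hv hTZ ((yon S).map p2)
    (isFOThickMor_yon_map p2 hp2) top₀ fZ ht2
  have c1 : (yon S).map sZ ≫ sq.bot ≫ hZ' = aZ ≫ v ≫ h := by
    rw [← Category.assoc, ← psq.w, Category.assoc, HZ.2.1, ← Category.assoc, haZ2]
  obtain ⟨l, ⟨hl1, hl2⟩, hlu⟩ := HV.2.2 hTZ hT' ((yon S).map sZ) aZ (sq.bot ≫ hZ')
    (isFOThickMor_yon_map sZ hsZ) c1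
  have c2 : (yon S).map sZ ≫ sq.bot ≫ hZ' = fZ ≫ h := by
    rw [← Category.assoc, ← psq.w, Category.assoc, HZ.2.1]
  obtain ⟨b₀, -, hbu⟩ := HZ.2.2 hTZ hT' ((yon S).map sZ) fZ (sq.bot ≫ hZ')
    (isFOThickMor_yon_map sZ hsZ) c2
  have claim1 : l ≫ e' = sq.bot := by
    have k1 : l ≫ e' = b₀ := hbu _ ⟨by
      rw [← Category.assoc, hl1, Category.assoc, h1, ← Category.assoc, haZ2], by
      rw [Category.assoc, h2, hl2]⟩
    have k2 : sq.bot = b₀ := hbu _ ⟨psq.w.symm, rfl⟩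
    rw [k1, ← k2]
  have c3 : (yon S).map p1 ≫ sq.top ≫ g' = top₀ ≫ v ≫ h := by
    rw [← Category.assoc, ← ht1, Category.assoc, HV.2.1]
  obtain ⟨t₀, -, htu⟩ := HV.2.2 hT₀ hT ((yon S).map p1) top₀ (sq.top ≫ g')
    (isFOThickMor_yon_map p1 hp1) c3
  have claim2 : (yon S).map sq.j ≫ l = sq.top := by
    have k1 : (yon S).map sq.j ≫ l = t₀ := htu _ ⟨by
      rw [← Category.assoc, hpy, Category.assoc, hl1, ← Category.assoc, haZ1], by
      rw [Category.assoc, hl2, ← Category.assoc, ← hcomm, Category.assoc, h2]⟩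
    have k2 : sq.top = t₀ := htu _ ⟨ht1.symm, rfl⟩
    rw [k1, ← k2]
  refine ⟨l, ⟨claim2, claim1⟩, ?_⟩
  rintro l' ⟨hl'1, hl'2⟩
  have c4 : ((yon S).map sZ ≫ l') ≫ e' = fZ ≫ iZ := by
    rw [Category.assoc, hl'2, psq.w]
  obtain ⟨a'', ha1, ha2⟩ : ∃ a'' : (yon S).obj TZ ⟶ V,
      a'' ≫ iV = (yon S).map sZ ≫ l' ∧ a'' ≫ v = fZ :=
    ⟨F1.lift _ _ c4, F1.lift_fst _ _ c4, F1.lift_snd _ _ c4⟩
  have e1 : a'' = aZ := haZu a'' ⟨by
    rw [← cancel_mono iV, Category.assoc, ha1, ← Category.assoc, ← hpy, Category.assoc, hl'1,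
      ht1], ha2⟩
  exact hlu l' ⟨by rw [← ha1, e1], by rw [← h2, ← Category.assoc, hl'2]⟩

end Core

end Groth.Agent.H7.FOSp14
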