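import Groth.Agent.Lib.Helper7.FOSp14
import Groth.Agent.Lib.Helper7.EtNilSch
import Groth.Agent.Lib.Helper5.AlgSp.EtaleMor
import Mathlib

/-!
# Etale localization of universal first order thickenings (S10638)
-/

set_option autoImplicit false
universe u

open AlgebraicGeometry CategoryTheory Limits

namespace Groth.Agent.H7.FOSp15

open _root_.AlgSp Groth.Agent.H5.AlgSp Groth.Agent.H7.FOSp1 Groth.Agent.H7.FOSp2
  Groth.Agent.H7.FOSp3 Groth.Agent.H7.FOSp4 Groth.Agent.H7.FOSp5 Groth.Agent.H7.FOSp6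
  Groth.Agent.H7.FOSp9 Groth.Agent.H7.FOSp10 Groth.Agent.H7.FOSp14 Groth.Agent.H5.Thick
  Groth.Agent.H4.AlgSpInf Groth.Agent.H7.EtNilSch

variable {S : Scheme.{u}}

section Charts

variable {Z Z' V V' : Sp S} (iZ : Z ⟶ Z') (v : V ⟶ Z) (iV : V ⟶ V') (e' : V' ⟶ Z')

theorem etale_chart_of_affine (hZ'a : IsAlgSpace Z') (hiZ : IsFOThickMor iZ)
    (hv : IsEtaleMor v) (F1 : IsPullback iV v e' iZ) (F2 : IsFormallyEtaleMor e')
    {N Q : Over S} (hN : IsAffine N.left) (hQ : IsAffine Q.left)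
    (a : (yon S).obj N ⟶ V') (b : (yon S).obj Q ⟶ Z') (g : N ⟶ Q) (ha : RepWith @Etale a)
    (hb : RepWith @Etale b) (w : a ≫ e' = (yon S).map g ≫ b) : Etale g.left := by
  have hiZ' := repWith_FOThick iZ hZ'a hiZ
  obtain ⟨Q₀, sQ, fQ, psq, hsQ⟩ : ∃ (Q₀ : Over S) (sQ : Q₀ ⟶ Q) (fQ : (yon S).obj Q₀ ⟶ Z),
      IsPullback fQ ((yon S).map sQ) iZ b ∧ FOThick sQ.left :=
    ⟨_, hiZ'.1.snd b, hiZ'.1.fst b, hiZ'.1.isPullback b, hiZ'.2 _ _ _ (hiZ'.1.isPullback b)⟩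
  have hfQ : RepWith @Etale fQ := (RepWith (S := S) @Etale).of_isPullback psq.flip hb
  have sqNy := (IsPullback.of_hasPullback sQ g).map (yon S)
  have c0 : ((yon S).map (pullback.snd sQ g) ≫ a) ≫ e' =
      ((yon S).map (pullback.fst sQ g) ≫ fQ) ≫ iZ := by
    rw [Category.assoc, w, ← Category.assoc, ← sqNy.w, Category.assoc, ← psq.w, Category.assoc]
  obtain ⟨a₀, ha1, ha2⟩ : ∃ a₀ : (yon S).obj (pullback sQ g) ⟶ V,
      a₀ ≫ iV = (yon S).map (pullback.snd sQ g) ≫ a ∧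
      a₀ ≫ v = (yon S).map (pullback.fst sQ g) ≫ fQ :=
    ⟨F1.lift _ _ c0, F1.lift_fst _ _ c0, F1.lift_snd _ _ c0⟩
  have big : IsPullback ((yon S).map (pullback.fst sQ g) ≫ fQ)
      ((yon S).map (pullback.snd sQ g)) iZ ((yon S).map g ≫ b) := sqNy.paste_horiz psq
  rw [← ha2, ← w] at big
  have ha₀ : RepWith @Etale a₀ :=
    (RepWith (S := S) @Etale).of_isPullback (IsPullback.of_right big ha1 F1.flip).flip ha
  have hg₀ : Etale (pullback.fst sQ g).left :=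
    locP_etale_of_isEtaleMor hv a₀ fQ _ ha₀ hfQ ha2
  have hfe : MoreMor.IsFormallyEtaleHom g.left :=
    locP_formallyEtaleHom_of_isFormallyEtaleMor e' F2 a b g ha hb w
  exact etale_of_formallyEtaleHom_of_etale_pullback g.left sQ.left hsQ
    (pullback.fst sQ g).left (pullback.snd sQ g).left (isPullback_left sQ g) hg₀ hfe

theorem locP_etale_of_univ (hZ'a : IsAlgSpace Z') (hiZ : IsFOThickMor iZ)
    (hv : IsEtaleMor v) (F1 : IsPullback iV v e' iZ) (F2 : IsFormallyEtaleMor e') :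
    LocP @Etale e' := by
  intro N Q a b g ha hb w
  haveI : MorphismProperty.RespectsRight (@Etale) (@IsOpenImmersion) :=
    ⟨fun i hi f hf => by
      haveI : Etale f := hf
      haveI : IsOpenImmersion i := hi
      exact (inferInstance : Etale (f ≫ i))⟩
  rw [IsZariskiLocalAtSource.iff_exists_resLE (P := @Etale)]
  intro x
  obtain ⟨U, hU, hxU, -⟩ := exists_isAffineOpen_mem_and_subset (x := g.left x)
    (U := (⊤ : Q.left.Opens)) trivial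
  obtain ⟨V₀, hV₀, hxV, hle⟩ := exists_isAffineOpen_mem_and_subset (x := x)
    (U := g.left ⁻¹ᵁ U) hxU
  refine ⟨U, V₀, hxV, hle, ?_⟩
  have hg₁ : g.left.resLE U V₀ hle ≫ U.ι ≫ Q.hom = V₀.ι ≫ N.hom := by
    rw [← Category.assoc, Scheme.Hom.resLE_comp_ι, Category.assoc, Over.w g]
  obtain ⟨N₁, Q₁, ιN, ιQ, g₁, hιN, hιQ, hg₁l, hcomm, hN₁, hQ₁⟩ :
      ∃ (N₁ Q₁ : Over S) (ιN : N₁ ⟶ N) (ιQ : Q₁ ⟶ Q) (g₁ : N₁ ⟶ Q₁),
        IsOpenImmersion ιN.left ∧ IsOpenImmersion ιQ.left ∧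
        Etale g₁.left = Etale (g.left.resLE U V₀ hle) ∧ g₁ ≫ ιQ = ιN ≫ g ∧
        IsAffine N₁.left ∧ IsAffine Q₁.left := by
    refine ⟨Over.mk (V₀.ι ≫ N.hom), Over.mk (U.ι ≫ Q.hom), Over.homMk V₀.ι rfl,
      Over.homMk U.ι rfl, Over.homMk (g.left.resLE U V₀ hle) hg₁, ?_, ?_, rfl, ?_, hV₀, hU⟩
    · exact (inferInstance : IsOpenImmersion V₀.ι)
    · exact (inferInstance : IsOpenImmersion U.ι)
    · apply Over.OverMorphism.ext
      exact Scheme.Hom.resLE_comp_ι _ _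
  rw [← hg₁l]
  have haN : RepWith @Etale ((yon S).map ιN ≫ a) :=
    (RepWith (S := S) @Etale).comp_mem _ _
      ((repWith_yon_map_iff @Etale _).2 (by haveI := hιN; infer_instance)) ha
  have hbQ : RepWith @Etale ((yon S).map ιQ ≫ b) :=
    (RepWith (S := S) @Etale).comp_mem _ _
      ((repWith_yon_map_iff @Etale _).2 (by haveI := hιQ; infer_instance)) hb
  exact etale_chart_of_affine iZ v iV e' hZ'a hiZ hv F1 F2 hN₁ hQ₁ _ _ g₁ haN hbQ (by
    rw [Category.assoc, w, ← Category.assoc, ← Functor.map_comp, ← hcomm, Functor.map_comp,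
      Category.assoc])

end Charts

/-- sheaf-level core of S10638. -/
theorem univ_etale_isEtaleMor {Z X Z' V V' : Sp S} (h : Z ⟶ X) (iZ : Z ⟶ Z') (hZ' : Z' ⟶ X)
    (v : V ⟶ Z) (iV : V ⟶ V') (g' : V' ⟶ X) (e' : V' ⟶ Z') (hZa : IsAlgSpace Z)
    (hZ'a : IsAlgSpace Z') (hVa : IsAlgSpace V) (hV'a : IsAlgSpace V')
    (HZ : IsUnivFOThick h iZ hZ') (hv : IsEtaleMor v) (HV : IsUnivFOThick (v ≫ h) iV g')
    (h1 : iV ≫ e' = v ≫ iZ) (h2 : e' ≫ hZ' = g') :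
    IsEtaleMor e' ∧ IsPullback iV v e' iZ := by
  have hvf := isFormallyEtaleMor_of_isEtaleMor v hVa hv
  have F1 := univ_etale_isPullback h iZ hZ' v iV g' e' hZa hZ'a hVa hV'a HZ hvf HV h1 h2
  have F2 := univ_etale_formallyEtale h iZ hZ' v iV g' e' hZa hZ'a hVa hV'a HZ hvf HV h1 h2
  exact ⟨isEtaleMor_of_locP_etale hZ'a (locP_etale_of_univ iZ v iV e' hZ'a HZ.1 hv F1 F2), F1⟩

theorem S10638_main {Z X Z' V U V' : AlgSp.Space S} (h : Z ⟶ X)
    (hh : AlgSp.IsFormallyUnramifiedMor h.hom) (iZ : Z ⟶ Z') (hZ' : Z' ⟶ X)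
    (HZ : AlgSp.IsUnivFOThick h.hom iZ.hom hZ'.hom)
    (v : V ⟶ Z) (w : U ⟶ X) (hv : AlgSp.IsEtaleMor v.hom) (hw : AlgSp.IsEtaleMor w.hom)
    (ψ : V ⟶ U) (c : ψ ≫ w = v ≫ h) :
    AlgSp.IsFormallyUnramifiedMor ψ.hom ∧
    ∀ (iV : V ⟶ V') (hV' : V' ⟶ U), AlgSp.IsUnivFOThick ψ.hom iV.hom hV'.hom →
      ∀ e' : V' ⟶ Z', iV ≫ e' = v ≫ iZ → e' ≫ hZ' = hV' ≫ w →
        AlgSp.IsEtaleMor e'.hom := by
  have c' : ψ.hom ≫ w.hom = v.hom ≫ h.hom := congrArg (fun m => m.hom) c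
  have hvf := isFormallyEtaleMor_of_isEtaleMor v.hom V.property hv
  have hwf := isFormallyEtaleMor_of_isEtaleMor w.hom U.property hw
  refine ⟨?_, ?_⟩
  · have k1 : IsFormallyUnramifiedMor (v.hom ≫ h.hom) :=
      formallyUnramified_comp _ _ ((isFormallyEtaleMor_iff _).1 hvf).2 hh
    rw [← c'] at k1
    exact formallyUnramified_of_comp ψ.hom w.hom k1
  · intro iV hV' HV e' h1 h2
    have HVX := univ_comp_formallyEtale ψ.hom w.hom iV.hom hV'.hom HV hwf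
    rw [c'] at HVX
    exact (univ_etale_isEtaleMor h.hom iZ.hom hZ'.hom v.hom iV.hom (hV'.hom ≫ w.hom) e'.hom
      Z.property Z'.property V.property V'.property HZ hv HVX
      (congrArg (fun m => m.hom) h1) (congrArg (fun m => m.hom) h2)).1

end Groth.Agent.H7.FOSp15
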