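import Groth.Agent.Lib.Helper7.FOSp15
import Groth.Agent.Lib.Helper5.Thick.UnivThickGlue
import Mathlib

/-!
# Universal first order thickenings: scheme charts (towards S10634)
-/

set_option autoImplicit false
universe u

open AlgebraicGeometry CategoryTheory Limits

namespace Groth.Agent.H7.FOSp16

open _root_.AlgSp Groth.Agent.H5.AlgSp Groth.Agent.H7.FOSp1 Groth.Agent.H7.FOSp2
  Groth.Agent.H7.FOSp3 Groth.Agent.H7.FOSp4 Groth.Agent.H7.FOSp5 Groth.Agent.H7.FOSp6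
  Groth.Agent.H7.FOSp9 Groth.Agent.H7.FOSp10 Groth.Agent.H7.FOSp14 Groth.Agent.H7.FOSp15
  Groth.Agent.H5.Thick Groth.Agent.H4.AlgSpInf

variable {S : Scheme.{u}}

/-- uniqueness part of the universal property as an extensionality principle. -/
theorem univ_hom_ext {Z Z' X : Sp S} {h : Z ⟶ X} {i : Z ⟶ Z'} {h' : Z' ⟶ X}
    (HU : IsUnivFOThick h i h') {T T' : Sp S} (hT : IsAlgSpace T) (hT' : IsAlgSpace T')
    (j : T ⟶ T') (hj : IsFOThickMor j) (a : T ⟶ Z) (x y : T' ⟶ Z') (hx : j ≫ x = a ≫ i)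
    (hy : j ≫ y = a ≫ i) (hxy : x ≫ h' = y ≫ h') : x = y := by
  have hc : j ≫ (x ≫ h') = a ≫ h := by rw [← Category.assoc, hx, Category.assoc, HU.2.1]
  obtain ⟨z, -, hu⟩ := HU.2.2 hT hT' j a (x ≫ h') hj hc
  rw [hu x ⟨hx, rfl⟩, hu y ⟨hy, hxy.symm⟩]

/-- the affine test for universal first order thickenings, sheaf-level form. -/
theorem isUnivFOThick_of_affine_test {Z Z' X : Sp S} (h : Z ⟶ X) (i : Z ⟶ Z') (h' : Z' ⟶ X)
    (hi : IsFOThickMor i) (w' : i ≫ h' = h)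
    (H : ∀ (T T' : Over S) (j : T ⟶ T'), IsAffine T'.left → FOThick j.left →
      ∀ (a : (yon S).obj T ⟶ Z) (b : (yon S).obj T' ⟶ X), (yon S).map j ≫ b = a ≫ h →
        ∃! a' : (yon S).obj T' ⟶ Z', (yon S).map j ≫ a' = a ≫ i ∧ a' ≫ h' = b) :
    IsUnivFOThick h i h' := by
  have HU : AffUniq h' (viaC i) := by
    rintro V W snd hV hs l l' ⟨a₀, ha₀⟩ h1 h2
    have hcomm : (yon S).map snd ≫ (l ≫ h') = a₀ ≫ h := by
      rw [← Category.assoc, ha₀, Category.assoc, w']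
    obtain ⟨a', -, hu⟩ := H W V snd hV hs a₀ (l ≫ h') hcomm
    rw [hu l ⟨ha₀, rfl⟩, hu l' ⟨h1 ▸ ha₀, h2.symm⟩]
  have HE : AffLift h' (viaC i) := by
    rintro V W snd hV hs top bot ⟨a₀, rfl⟩ comm
    have hcomm : (yon S).map snd ≫ bot = a₀ ≫ h := by
      rw [← comm, Category.assoc, w']
    obtain ⟨a', ⟨h1, h2⟩, -⟩ := H W V snd hV hs a₀ bot hcomm
    exact ⟨a', h1, h2⟩
  refine ⟨hi, w', ?_⟩
  intro T T' hT hT' j a b hj hjb
  have hj' := repWith_FOThick j hT' hj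
  have comm : (a ≫ i) ≫ h' = j ≫ b := by rw [Category.assoc, w', hjb]
  obtain ⟨l, hl1, hl2⟩ := sp_lift (stable_viaC i) HU HE hT' j hj' (a ≫ i) b ⟨a, rfl⟩ comm
  refine ⟨l, ⟨hl1, hl2⟩, ?_⟩
  rintro l' ⟨h1, h2⟩
  exact sp_uniq (stable_viaC i) HU hT' j hj' l' l ⟨a, h1⟩ (h1.trans hl1.symm)
    (h2.trans hl2.symm)

/-- a scheme-level universal first order thickening is one of sheaves. -/
theorem isUnivFOThick_of_sch {V U : Over S} (ψ₀ : V ⟶ U) {V's : Scheme.{u}}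
    (i : V.left ⟶ V's) (h's : V's ⟶ U.left) (H : OmegaSh.IsUnivThickening ψ₀.left i h's) :
    ∃ (V' : Over S) (iV : V ⟶ V') (hV' : V' ⟶ U), FOThick iV.left ∧
      IsUnivFOThick ((yon S).map ψ₀) ((yon S).map iV) ((yon S).map hV') := by
  obtain ⟨hi, hw, hu⟩ := H
  have hiw : i ≫ h's ≫ U.hom = V.hom := by rw [← Category.assoc, hw, Over.w]
  obtain ⟨V', iV, hV', hiV, hcomp, hVl, hil, hhl⟩ : ∃ (V' : Over S) (iV : V ⟶ V')
      (hV' : V' ⟶ U), FOThick iV.left ∧ iV ≫ hV' = ψ₀ ∧ ∃ (e : V'.left = V's),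
        iV.left = i ≫ eqToHom e.symm ∧ hV'.left = eqToHom e ≫ h's := by
    refine ⟨Over.mk (h's ≫ U.hom), Over.homMk i hiw, Over.homMk h's rfl, hi, ?_, rfl, ?_, ?_⟩
    · apply Over.OverMorphism.ext; exact hw
    · simp
    · simp
  subst hVl
  simp only [eqToHom_refl, Category.comp_id, Category.id_comp] at hil hhl
  refine ⟨V', iV, hV', hiV, ?_⟩
  refine isUnivFOThick_of_affine_test _ _ _ (isFOThickMor_yon_map iV hiV)
    (by rw [← Functor.map_comp, hcomp]) ?_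
  intro T T' j hT' hj a b hjb
  obtain ⟨a₀, rfl⟩ := (yon S).map_surjective a
  obtain ⟨b₀, rfl⟩ := (yon S).map_surjective b
  have hcomm₀ : j ≫ b₀ = a₀ ≫ ψ₀ := by
    apply (yon S).map_injective
    rw [Functor.map_comp, Functor.map_comp]; exact hjb
  obtain ⟨a's, ⟨h1, h2⟩, hau⟩ := hu T.left T'.left j.left b₀.left a₀.left hj
    (congrArg (fun m => m.left) hcomm₀)
  have ha's : a's ≫ V'.hom = T'.hom := by
    rw [← Over.w hV', ← Category.assoc, hhl, h2, Over.w]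
  refine ⟨(yon S).map (Over.homMk a's ha's), ⟨?_, ?_⟩, ?_⟩
  · rw [← Functor.map_comp, ← Functor.map_comp]
    congr 1
    apply Over.OverMorphism.ext
    change j.left ≫ a's = a₀.left ≫ iV.left
    rw [hil]; exact h1
  · rw [← Functor.map_comp]
    congr 1
    apply Over.OverMorphism.ext
    change a's ≫ hV'.left = b₀.left
    rw [hhl]; exact h2
  · rintro l' ⟨k1, k2⟩
    obtain ⟨m', rfl⟩ := (yon S).map_surjective l'
    congr 1
    apply Over.OverMorphism.ext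
    change m'.left = a's
    apply hau
    rw [← Functor.map_comp, ← Functor.map_comp] at k1
    rw [← Functor.map_comp] at k2
    have k1' := congrArg (fun m => m.left) ((yon S).map_injective k1)
    have k2' := congrArg (fun m => m.left) ((yon S).map_injective k2)
    simp only [Over.comp_left, hil, hhl] at k1' k2'
    exact ⟨k1', k2'⟩

/-- existence of universal first order thickenings of scheme charts. -/
theorem exists_univ_chart {X : Sp S} {V U : Over S} (ψ₀ : V ⟶ U)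
    [FormallyUnramified ψ₀.left] (p : (yon S).obj U ⟶ X) (hp : IsFormallyEtaleMor p) :
    ∃ (V' : Over S) (iV : V ⟶ V') (gV' : (yon S).obj V' ⟶ X), FOThick iV.left ∧
      IsUnivFOThick ((yon S).map ψ₀ ≫ p) ((yon S).map iV) gV' := by
  obtain ⟨V's, i, h's, H⟩ := exists_isUnivThickening ψ₀.left
  obtain ⟨V', iV, hV', hiV, HU⟩ := isUnivFOThick_of_sch ψ₀ i h's H
  exact ⟨V', iV, (yon S).map hV' ≫ p, hiV, univ_comp_formallyEtale _ p _ _ HU hp⟩

end Groth.Agent.H7.FOSp16
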