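import Groth.Agent.Lib.Helper7.FOSp16
import Groth.Agent.Lib.Helper7.FOSp7
import Groth.Agent.Lib.Helper5.AlgSp.Presentation
import Mathlib

/-!
# Universal first order thickenings: the thickened etale equivalence relation (towards S10634)
-/

set_option autoImplicit false
universe u

open AlgebraicGeometry CategoryTheory Limits

namespace Groth.Agent.H7.FOSp17

open _root_.AlgSp Groth.Agent.H5.AlgSp Groth.Agent.H7.FOSp1 Groth.Agent.H7.FOSp2
  Groth.Agent.H7.FOSp3 Groth.Agent.H7.FOSp4 Groth.Agent.H7.FOSp5 Groth.Agent.H7.FOSp6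
  Groth.Agent.H7.FOSp7 Groth.Agent.H7.FOSp9 Groth.Agent.H7.FOSp10 Groth.Agent.H7.FOSp14
  Groth.Agent.H7.FOSp15 Groth.Agent.H7.FOSp16 Groth.Agent.H5.Thick Groth.Agent.H4.AlgSpInf

variable {S : Scheme.{u}}

/-- the data of an etale presentation of `Z` with compatible universal thickenings. -/
structure UData {Z X : Sp S} (h : Z ⟶ X) where
  V : Over S
  v : (yon S).obj V ⟶ Z
  hve : RepWith @Etale v
  hvs : RepWith @Surjective v
  V' : Over S
  iV : V ⟶ V'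
  gV' : (yon S).obj V' ⟶ X
  hiV : FOThick iV.left
  HV : IsUnivFOThick (v ≫ h) ((yon S).map iV) gV'
  R : Over S
  s : R ⟶ V
  t : R ⟶ V
  hs : Etale s.left
  ht : Etale t.left
  psqR : IsPullback ((yon S).map t) ((yon S).map s) v v
  R' : Over S
  iR : R ⟶ R'
  gR' : (yon S).obj R' ⟶ X
  hiR : FOThick iR.left
  HR : IsUnivFOThick ((yon S).map s ≫ v ≫ h) ((yon S).map iR) gR'
  s' : R' ⟶ V'
  t' : R' ⟶ V'
  hs'1 : (yon S).map iR ≫ (yon S).map s' = (yon S).map s ≫ (yon S).map iV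
  hs'2 : (yon S).map s' ≫ gV' = gR'
  ht'1 : (yon S).map iR ≫ (yon S).map t' = (yon S).map t ≫ (yon S).map iV
  ht'2 : (yon S).map t' ≫ gV' = gR'
  hs'e : Etale s'.left
  ht'e : Etale t'.left
  F1s : IsPullback ((yon S).map iR) ((yon S).map s) ((yon S).map s') ((yon S).map iV)
  F1t : IsPullback ((yon S).map iR) ((yon S).map t) ((yon S).map t') ((yon S).map iV)

section Construct

variable {Z X : Sp S}

theorem exists_chart_pair (hZ : IsAlgSpace Z) (hX : IsAlgSpace X) (h : Z ⟶ X) :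
    ∃ (V U : Over S) (v : (yon S).obj V ⟶ Z) (p : (yon S).obj U ⟶ X) (ψ₀ : V ⟶ U),
      RepWith @Etale v ∧ RepWith @Surjective v ∧ RepWith @Etale p ∧
      (yon S).map ψ₀ ≫ p = v ≫ h := by
  obtain ⟨U, p, hpe, hps⟩ := hX.atlas
  have sqW := IsPullback.of_hasPullback h p
  have hW : IsAlgSpace (pullback h p) :=
    isAlgSpace_pullback hX.diag hZ (IsAlgSpace.yon_obj U) sqW
  obtain ⟨V, q, hqe, hqs⟩ := hW.atlas
  have hfe : RepWith @Etale (pullback.fst h p) :=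
    (RepWith (S := S) @Etale).of_isPullback sqW.flip hpe
  have hfs : RepWith @Surjective (pullback.fst h p) :=
    (RepWith (S := S) @Surjective).of_isPullback sqW.flip hps
  obtain ⟨ψ₀, hψ₀⟩ := (yon S).map_surjective (q ≫ pullback.snd h p)
  refine ⟨V, U, q ≫ pullback.fst h p, p, ψ₀, (RepWith (S := S) @Etale).comp_mem _ _ hqe hfe,
    (RepWith (S := S) @Surjective).comp_mem _ _ hqs hfs, hpe, ?_⟩
  rw [hψ₀, Category.assoc, Category.assoc, sqW.w]

theorem exists_udata (hZ : IsAlgSpace Z) (hX : IsAlgSpace X) (h : Z ⟶ X)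
    (hh : IsFormallyUnramifiedMor h) : Nonempty (UData h) := by
  obtain ⟨V, U, v, p, ψ₀, hve, hvs, hpe, hc⟩ := exists_chart_pair hZ hX h
  have hpf := isFormallyEtaleMor_of_repWith_etale p hpe
  have hvf := isFormallyEtaleMor_of_repWith_etale v hve
  have hψu : IsFormallyUnramifiedMor ((yon S).map ψ₀) := by
    apply formallyUnramified_of_comp _ p
    rw [hc]
    exact formallyUnramified_comp _ _ ((isFormallyEtaleMor_iff _).1 hvf).2 hh
  haveI : FormallyUnramified ψ₀.left := formallyUnramified_left_of_isFormallyUnramifiedMor ψ₀ hψu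
  obtain ⟨V', iV, gV', hiV, HV⟩ := exists_univ_chart ψ₀ p hpf
  rw [hc] at HV
  obtain ⟨R, s, t, psqR, hs, ht⟩ : ∃ (R : Over S) (s t : R ⟶ V),
      IsPullback ((yon S).map t) ((yon S).map s) v v ∧ Etale s.left ∧ Etale t.left :=
    ⟨_, hve.1.snd v, hve.1.fst' v, hve.1.isPullback' v, hve.2 _ _ _ (hve.1.isPullback v),
      hve.2 _ _ _ (hve.1.isPullback' v).flip⟩
  haveI : Etale s.left := hs
  haveI : FormallyUnramified (s ≫ ψ₀).left := by
    rw [Over.comp_left]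
    exact MorphismProperty.comp_mem (W := @FormallyUnramified) _ _
      (inferInstance : FormallyUnramified s.left) (inferInstance : FormallyUnramified ψ₀.left)
  obtain ⟨R', iR, gR', hiR, HR⟩ := exists_univ_chart (s ≫ ψ₀) p hpf
  rw [Functor.map_comp, Category.assoc, hc] at HR
  have hV := IsAlgSpace.yon_obj (S := S) V
  have hV' := IsAlgSpace.yon_obj (S := S) V'
  have hR := IsAlgSpace.yon_obj (S := S) R
  have hR' := IsAlgSpace.yon_obj (S := S) R'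
  have hfoR := isFOThickMor_yon_map iR hiR
  obtain ⟨s'y, ⟨hs1, hs2⟩, -⟩ := HV.2.2 hR hR' ((yon S).map iR) ((yon S).map s) gR' hfoR HR.2.1
  obtain ⟨s', rfl⟩ := (yon S).map_surjective s'y
  have est : (yon S).map t ≫ v ≫ h = (yon S).map s ≫ v ≫ h := by
    rw [← Category.assoc, psqR.w, Category.assoc]
  have HRt : IsUnivFOThick ((yon S).map t ≫ v ≫ h) ((yon S).map iR) gR' := by
    rw [est]; exact HR
  obtain ⟨t'y, ⟨ht1, ht2⟩, -⟩ := HV.2.2 hR hR' ((yon S).map iR) ((yon S).map t) gR' hfoR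
    HRt.2.1
  obtain ⟨t', rfl⟩ := (yon S).map_surjective t'y
  have Cs := univ_etale_isEtaleMor (v ≫ h) ((yon S).map iV) gV' ((yon S).map s)
    ((yon S).map iR) gR' ((yon S).map s') hV hV' hR hR' HV
    ((isEtaleMor_yon_map_iff s).2 hs) HR hs1 hs2
  have Ct := univ_etale_isEtaleMor (v ≫ h) ((yon S).map iV) gV' ((yon S).map t)
    ((yon S).map iR) gR' ((yon S).map t') hV hV' hR hR' HV
    ((isEtaleMor_yon_map_iff t).2 ht) HRt ht1 ht2
  exact ⟨{ V := V, v := v, hve := hve, hvs := hvs, V' := V', iV := iV, gV' := gV', hiV := hiV,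
           HV := HV, R := R, s := s, t := t, hs := hs, ht := ht, psqR := psqR, R' := R',
           iR := iR, gR' := gR', hiR := hiR, HR := HR, s' := s', t' := t', hs'1 := hs1,
           hs'2 := hs2, ht'1 := ht1, ht'2 := ht2,
           hs'e := (isEtaleMor_yon_map_iff s').1 Cs.1,
           ht'e := (isEtaleMor_yon_map_iff t').1 Ct.1, F1s := Cs.2, F1t := Ct.2 }⟩

end Construct

section EqvRel

variable {Z X : Sp S} {h : Z ⟶ X} (D : UData h)

lemma UData.mono_iV : Mono ((yon S).map D.iV) :=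
  Groth.Agent.H7.Thick.mono_of_isThickMor D.HV.1.1

lemma UData.foV : IsFOThickMor ((yon S).map D.iV) := isFOThickMor_yon_map D.iV D.hiV

lemma UData.foR : IsFOThickMor ((yon S).map D.iR) := isFOThickMor_yon_map D.iR D.hiR

lemma UData.stv : (yon S).map D.t ≫ D.v ≫ h = (yon S).map D.s ≫ D.v ≫ h := by
  rw [← Category.assoc, D.psqR.w, Category.assoc]

/-- the thickening of `T` cut out by a `T`-point of `V'`. -/
lemma UData.exists_T₀ {T : Over S} (b : T ⟶ D.V') :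
    ∃ (T₀ : Over S) (pr : T₀ ⟶ D.V) (ι : T₀ ⟶ T), FOThick ι.left ∧
      (yon S).map pr ≫ (yon S).map D.iV = (yon S).map ι ≫ (yon S).map b :=
  ⟨pullback D.iV b, pullback.fst _ _, pullback.snd _ _, FOThick_pullback_snd D.iV b D.hiV, by
    rw [← Functor.map_comp, ← Functor.map_comp, pullback.condition]⟩

theorem UData.injective (T : Over S) (r r' : T ⟶ D.R') (htt : r ≫ D.t' = r' ≫ D.t')
    (hss : r ≫ D.s' = r' ≫ D.s') : r = r' := by
  haveI := D.mono_iV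
  obtain ⟨T₀, pr, ι, hι, hpr⟩ := D.exists_T₀ (r ≫ D.s')
  have key : ∀ r₁ : T ⟶ D.R', r₁ ≫ D.s' = r ≫ D.s' →
      ∃ ρ : (yon S).obj T₀ ⟶ (yon S).obj D.R,
        ρ ≫ (yon S).map D.iR = (yon S).map ι ≫ (yon S).map r₁ ∧
        ρ ≫ (yon S).map D.s = (yon S).map pr := by
    intro r₁ hr₁
    have c : ((yon S).map ι ≫ (yon S).map r₁) ≫ (yon S).map D.s' =
        (yon S).map pr ≫ (yon S).map D.iV := by
      rw [hpr, Category.assoc, ← (yon S).map_comp r₁, hr₁]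
    exact ⟨D.F1s.lift _ _ c, D.F1s.lift_fst _ _ c, D.F1s.lift_snd _ _ c⟩
  obtain ⟨ρ, hρ1, hρ2⟩ := key r rfl
  obtain ⟨ρ', hρ'1, hρ'2⟩ := key r' hss.symm
  have e : ρ = ρ' := by
    apply D.psqR.hom_ext
    · rw [← cancel_mono ((yon S).map D.iV), Category.assoc, Category.assoc, ← D.ht'1,
        ← Category.assoc, ← Category.assoc, hρ1, hρ'1, Category.assoc, Category.assoc,
        ← (yon S).map_comp r, ← (yon S).map_comp r', htt]
    · rw [hρ2, hρ'2]
  have := univ_hom_ext D.HR (IsAlgSpace.yon_obj T₀) (IsAlgSpace.yon_obj T) ((yon S).map ι)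
    (isFOThickMor_yon_map ι hι) ρ ((yon S).map r) ((yon S).map r') hρ1.symm
    (by rw [e]; exact hρ'1.symm) (by
      rw [← D.hs'2, ← Category.assoc, ← Category.assoc, ← Functor.map_comp,
        ← Functor.map_comp, hss])
  exact (yon S).map_injective this

theorem UData.exists_refl : ∃ ε : D.V' ⟶ D.R', ε ≫ D.t' = 𝟙 _ ∧ ε ≫ D.s' = 𝟙 _ := by
  have hV := IsAlgSpace.yon_obj (S := S) D.V
  have hV' := IsAlgSpace.yon_obj (S := S) D.V'
  obtain ⟨δ, hδ1, hδ2⟩ : ∃ δ : (yon S).obj D.V ⟶ (yon S).obj D.R,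
      δ ≫ (yon S).map D.t = 𝟙 _ ∧ δ ≫ (yon S).map D.s = 𝟙 _ :=
    ⟨D.psqR.lift (𝟙 _) (𝟙 _) rfl, D.psqR.lift_fst _ _ _, D.psqR.lift_snd _ _ _⟩
  have compat : (yon S).map D.iV ≫ D.gV' = δ ≫ (yon S).map D.s ≫ D.v ≫ h := by
    rw [← Category.assoc δ, hδ2, Category.id_comp, D.HV.2.1]
  obtain ⟨εy, ⟨he1, he2⟩, -⟩ := D.HR.2.2 hV hV' ((yon S).map D.iV) δ D.gV' D.foV compat
  obtain ⟨ε, rfl⟩ := (yon S).map_surjective εy
  have k1 : (yon S).map ε ≫ (yon S).map D.t' = 𝟙 _ := by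
    refine univ_hom_ext D.HV hV hV' ((yon S).map D.iV) D.foV (𝟙 _) _ _ ?_ ?_ ?_
    · rw [← Category.assoc, he1, Category.assoc, D.ht'1, ← Category.assoc, hδ1]
    · rw [Category.comp_id, Category.id_comp]
    · rw [Category.assoc, D.ht'2, he2, Category.id_comp]
  have k2 : (yon S).map ε ≫ (yon S).map D.s' = 𝟙 _ := by
    refine univ_hom_ext D.HV hV hV' ((yon S).map D.iV) D.foV (𝟙 _) _ _ ?_ ?_ ?_
    · rw [← Category.assoc, he1, Category.assoc, D.hs'1, ← Category.assoc, hδ2]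
    · rw [Category.comp_id, Category.id_comp]
    · rw [Category.assoc, D.hs'2, he2, Category.id_comp]
  refine ⟨ε, (yon S).map_injective ?_, (yon S).map_injective ?_⟩
  · rw [Functor.map_comp, k1, CategoryTheory.Functor.map_id]
  · rw [Functor.map_comp, k2, CategoryTheory.Functor.map_id]

theorem UData.exists_symm : ∃ σ' : D.R' ⟶ D.R', σ' ≫ D.s' = D.t' ∧ σ' ≫ D.t' = D.s' := by
  have hR := IsAlgSpace.yon_obj (S := S) D.R
  have hR' := IsAlgSpace.yon_obj (S := S) D.R'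
  obtain ⟨σ, hσ1, hσ2⟩ : ∃ σ : (yon S).obj D.R ⟶ (yon S).obj D.R,
      σ ≫ (yon S).map D.t = (yon S).map D.s ∧ σ ≫ (yon S).map D.s = (yon S).map D.t :=
    ⟨D.psqR.lift _ _ D.psqR.w.symm, D.psqR.lift_fst _ _ _, D.psqR.lift_snd _ _ _⟩
  have compat : (yon S).map D.iR ≫ D.gR' = σ ≫ (yon S).map D.s ≫ D.v ≫ h := by
    rw [← Category.assoc σ, hσ2, D.stv, D.HR.2.1]
  obtain ⟨σy, ⟨h1, h2⟩, -⟩ := D.HR.2.2 hR hR' ((yon S).map D.iR) σ D.gR' D.foR compat
  obtain ⟨σ', rfl⟩ := (yon S).map_surjective σy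
  have k1 : (yon S).map σ' ≫ (yon S).map D.s' = (yon S).map D.t' := by
    refine univ_hom_ext D.HV hR hR' ((yon S).map D.iR) D.foR ((yon S).map D.t) _ _ ?_
      D.ht'1 ?_
    · rw [← Category.assoc, h1, Category.assoc, D.hs'1, ← Category.assoc, hσ2]
    · rw [Category.assoc, D.hs'2, h2, D.ht'2]
  have k2 : (yon S).map σ' ≫ (yon S).map D.t' = (yon S).map D.s' := by
    refine univ_hom_ext D.HV hR hR' ((yon S).map D.iR) D.foR ((yon S).map D.s) _ _ ?_
      D.hs'1 ?_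
    · rw [← Category.assoc, h1, Category.assoc, D.ht'1, ← Category.assoc, hσ1]
    · rw [Category.assoc, D.ht'2, h2, D.hs'2]
  refine ⟨σ', (yon S).map_injective ?_, (yon S).map_injective ?_⟩
  · rw [Functor.map_comp, k1]
  · rw [Functor.map_comp, k2]

theorem UData.exists_trans {T : Over S} (r₁ r₂ : T ⟶ D.R') (h12 : r₁ ≫ D.s' = r₂ ≫ D.t') :
    ∃ r₃ : T ⟶ D.R', r₃ ≫ D.t' = r₁ ≫ D.t' ∧ r₃ ≫ D.s' = r₂ ≫ D.s' := by
  haveI := D.mono_iV
  obtain ⟨T₀, pr, ι, hι, hpr⟩ := D.exists_T₀ (r₁ ≫ D.s')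
  have hT₀ := IsAlgSpace.yon_obj (S := S) T₀
  have hT := IsAlgSpace.yon_obj (S := S) T
  have hfo := isFOThickMor_yon_map ι hι
  have c1 : ((yon S).map ι ≫ (yon S).map r₁) ≫ (yon S).map D.s' =
      (yon S).map pr ≫ (yon S).map D.iV := by
    rw [hpr, Category.assoc, ← (yon S).map_comp r₁]
  have c2 : ((yon S).map ι ≫ (yon S).map r₂) ≫ (yon S).map D.t' =
      (yon S).map pr ≫ (yon S).map D.iV := by
    rw [hpr, Category.assoc, ← (yon S).map_comp r₂, h12]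
  obtain ⟨ρ₁, hρ₁1, hρ₁2⟩ : ∃ ρ : (yon S).obj T₀ ⟶ (yon S).obj D.R,
      ρ ≫ (yon S).map D.iR = (yon S).map ι ≫ (yon S).map r₁ ∧
      ρ ≫ (yon S).map D.s = (yon S).map pr :=
    ⟨D.F1s.lift _ _ c1, D.F1s.lift_fst _ _ c1, D.F1s.lift_snd _ _ c1⟩
  obtain ⟨ρ₂, hρ₂1, hρ₂2⟩ : ∃ ρ : (yon S).obj T₀ ⟶ (yon S).obj D.R,
      ρ ≫ (yon S).map D.iR = (yon S).map ι ≫ (yon S).map r₂ ∧
      ρ ≫ (yon S).map D.t = (yon S).map pr :=
    ⟨D.F1t.lift _ _ c2, D.F1t.lift_fst _ _ c2, D.F1t.lift_snd _ _ c2⟩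
  have c3 : (ρ₁ ≫ (yon S).map D.t) ≫ D.v = (ρ₂ ≫ (yon S).map D.s) ≫ D.v := by
    rw [Category.assoc, D.psqR.w, ← Category.assoc, hρ₁2, Category.assoc, ← D.psqR.w,
      ← Category.assoc, hρ₂2]
  obtain ⟨ρ₃, hρ₃1, hρ₃2⟩ : ∃ ρ : (yon S).obj T₀ ⟶ (yon S).obj D.R,
      ρ ≫ (yon S).map D.t = ρ₁ ≫ (yon S).map D.t ∧
      ρ ≫ (yon S).map D.s = ρ₂ ≫ (yon S).map D.s :=
    ⟨D.psqR.lift _ _ c3, D.psqR.lift_fst _ _ c3, D.psqR.lift_snd _ _ c3⟩
  -- the common base map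
  have hb : (yon S).map ι ≫ (yon S).map (r₁ ≫ D.s') ≫ D.gV' = (yon S).map pr ≫ D.v ≫ h := by
    rw [← Category.assoc, ← hpr, Category.assoc, D.HV.2.1]
  have e2 : ρ₂ ≫ (yon S).map D.s ≫ D.v = (yon S).map pr ≫ D.v := by
    rw [← D.psqR.w, ← Category.assoc, hρ₂2]
  have e1 : ρ₁ ≫ (yon S).map D.t ≫ D.v = (yon S).map pr ≫ D.v := by
    rw [D.psqR.w, ← Category.assoc, hρ₁2]
  have compat : (yon S).map ι ≫ (yon S).map (r₁ ≫ D.s') ≫ D.gV' =
      ρ₃ ≫ (yon S).map D.s ≫ D.v ≫ h := by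
    rw [hb, ← Category.assoc ρ₃, hρ₃2, Category.assoc, ← Category.assoc ((yon S).map D.s),
      ← Category.assoc ρ₂, e2, Category.assoc]
  obtain ⟨r₃y, ⟨h1, h2⟩, -⟩ := D.HR.2.2 hT₀ hT ((yon S).map ι) ρ₃
    ((yon S).map (r₁ ≫ D.s') ≫ D.gV') hfo compat
  obtain ⟨r₃, rfl⟩ := (yon S).map_surjective r₃y
  have g1 : (yon S).map r₁ ≫ D.gR' = (yon S).map (r₁ ≫ D.s') ≫ D.gV' := by
    rw [Functor.map_comp, Category.assoc, D.hs'2]
  have g2 : (yon S).map r₂ ≫ D.gR' = (yon S).map (r₁ ≫ D.s') ≫ D.gV' := by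
    rw [h12, Functor.map_comp, Category.assoc, D.ht'2]
  have k1 : (yon S).map r₃ ≫ (yon S).map D.t' = (yon S).map r₁ ≫ (yon S).map D.t' := by
    refine univ_hom_ext D.HV hT₀ hT ((yon S).map ι) hfo (ρ₁ ≫ (yon S).map D.t) _ _ ?_ ?_ ?_
    · rw [← Category.assoc, h1, Category.assoc, D.ht'1, ← Category.assoc, hρ₃1, Category.assoc]
    · rw [← Category.assoc, ← hρ₁1, Category.assoc, D.ht'1, Category.assoc]
    · rw [Category.assoc, Category.assoc, D.ht'2, h2, g1]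
  have k2 : (yon S).map r₃ ≫ (yon S).map D.s' = (yon S).map r₂ ≫ (yon S).map D.s' := by
    refine univ_hom_ext D.HV hT₀ hT ((yon S).map ι) hfo (ρ₂ ≫ (yon S).map D.s) _ _ ?_ ?_ ?_
    · rw [← Category.assoc, h1, Category.assoc, D.hs'1, ← Category.assoc, hρ₃2, Category.assoc]
    · rw [← Category.assoc, ← hρ₂1, Category.assoc, D.hs'1, Category.assoc]
    · rw [Category.assoc, Category.assoc, D.hs'2, h2, g2]
  refine ⟨r₃, (yon S).map_injective ?_, (yon S).map_injective ?_⟩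
  · rw [Functor.map_comp, Functor.map_comp, k1]
  · rw [Functor.map_comp, Functor.map_comp, k2]

theorem UData.isEtaleEqvRel : IsEtaleEqvRel D.s' D.t' where
  injective := D.injective
  equivalence T := by
    refine ⟨fun a => ?_, fun {a b} hab => ?_, fun {a b c} hab hbc => ?_⟩
    · obtain ⟨ε, h1, h2⟩ := D.exists_refl
      exact ⟨a ≫ ε, by rw [Category.assoc, h1, Category.comp_id],
        by rw [Category.assoc, h2, Category.comp_id]⟩
    · obtain ⟨r, rfl, rfl⟩ := hab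
      obtain ⟨σ', h1, h2⟩ := D.exists_symm
      exact ⟨r ≫ σ', by rw [Category.assoc, h2], by rw [Category.assoc, h1]⟩
    · obtain ⟨r₁, rfl, h1⟩ := hab
      obtain ⟨r₂, h2, rfl⟩ := hbc
      exact D.exists_trans r₁ r₂ (h1.trans h2.symm)
  etale_left := D.hs'e
  etale_right := D.ht'e

end EqvRel

end Groth.Agent.H7.FOSp17
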