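import Groth.Agent.Lib.Helper7.FOSp17
import Groth.Agent.Lib.Helper5.AlgSp.EtaleQuot
import Groth.Agent.Lib.Helper5.AlgSp.FppfLocal
import Groth.Agent.Lib.Helper5.AlgSp.LocalBase
import Mathlib

/-!
# Existence of universal first order thickenings of algebraic spaces (S10634)
-/

set_option autoImplicit false
universe u

open AlgebraicGeometry CategoryTheory Limits

namespace Groth.Agent.H7.FOSp18

open _root_.AlgSp Groth.Agent.H5.AlgSp Groth.Agent.H7.FOSp1 Groth.Agent.H7.FOSp2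
  Groth.Agent.H7.FOSp3 Groth.Agent.H7.FOSp4 Groth.Agent.H7.FOSp5 Groth.Agent.H7.FOSp6
  Groth.Agent.H7.FOSp7 Groth.Agent.H7.FOSp9 Groth.Agent.H7.FOSp10 Groth.Agent.H7.FOSp13
  Groth.Agent.H7.FOSp14 Groth.Agent.H7.FOSp15 Groth.Agent.H7.FOSp16 Groth.Agent.H7.FOSp17
  Groth.Agent.H5.Thick Groth.Agent.H4.AlgSpInf Groth.Agent.H5.Descent

variable {S : Scheme.{u}}

end Groth.Agent.H7.FOSp18

namespace Groth.Agent.H7.FOSp17

open _root_.AlgSp Groth.Agent.H5.AlgSp Groth.Agent.H7.FOSp1 Groth.Agent.H7.FOSp2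
  Groth.Agent.H7.FOSp3 Groth.Agent.H7.FOSp4 Groth.Agent.H7.FOSp5 Groth.Agent.H7.FOSp6
  Groth.Agent.H7.FOSp7 Groth.Agent.H7.FOSp9 Groth.Agent.H7.FOSp10 Groth.Agent.H7.FOSp13
  Groth.Agent.H7.FOSp14 Groth.Agent.H7.FOSp15 Groth.Agent.H7.FOSp16
  Groth.Agent.H5.Thick Groth.Agent.H4.AlgSpInf Groth.Agent.H5.Descent

variable {S : Scheme.{u}}

section Quot

variable {Z X : Sp S} {h : Z ⟶ X} (D : UData h)

/-- the quotient of the thickened chart by the thickened relation. -/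
noncomputable def UData.Z' : Sp S := quotSp ((yon S).map D.s') ((yon S).map D.t')

/-- the quotient map. -/
noncomputable def UData.π' : (yon S).obj D.V' ⟶ D.Z' :=
  quotSpπ ((yon S).map D.s') ((yon S).map D.t')

lemma UData.isAlgSpace_Z' : IsAlgSpace D.Z' := isAlgSpace_quotSp D.s' D.t' D.isEtaleEqvRel

lemma UData.pres : IsPresentation D.s' D.t' D.π' :=
  isPresentation_quotSpπ D.s' D.t' D.isEtaleEqvRel

lemma UData.cond : (yon S).map D.s' ≫ D.π' = (yon S).map D.t' ≫ D.π' := quotSp_condition _ _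

instance UData.locSurj_π' : Sheaf.IsLocallySurjective D.π' :=
  inferInstanceAs (Sheaf.IsLocallySurjective (quotSpπ ((yon S).map D.s') ((yon S).map D.t')))

theorem UData.exists_iZ : ∃ iZ : Z ⟶ D.Z', D.v ≫ iZ = (yon S).map D.iV ≫ D.π' := by
  haveI := isLocallySurjective_of_etale_surjective D.v D.hve D.hvs
  refine Groth.Agent.H7.EDSq.exists_desc_of_epi D.v _ ?_
  intro T x y hxy
  obtain ⟨ρ, h1, h2⟩ : ∃ ρ : (yon S).obj T ⟶ (yon S).obj D.R,
      ρ ≫ (yon S).map D.t = x ∧ ρ ≫ (yon S).map D.s = y :=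
    ⟨D.psqR.lift x y hxy, D.psqR.lift_fst _ _ _, D.psqR.lift_snd _ _ _⟩
  have e1 : x ≫ (yon S).map D.iV = ρ ≫ (yon S).map D.iR ≫ (yon S).map D.t' := by
    rw [← h1, Category.assoc, ← D.ht'1]
  have e2 : y ≫ (yon S).map D.iV = ρ ≫ (yon S).map D.iR ≫ (yon S).map D.s' := by
    rw [← h2, Category.assoc, ← D.hs'1]
  rw [← Category.assoc, e1, ← Category.assoc y, e2, Category.assoc, Category.assoc,
    Category.assoc, Category.assoc, D.cond]

theorem UData.exists_hZ' : ∃ hZ' : D.Z' ⟶ X, D.π' ≫ hZ' = D.gV' :=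
  ⟨quotSpDesc D.gV' (by rw [D.hs'2, D.ht'2]), quotSpπ_desc _ _ _ _⟩

theorem UData.isPullback_iZ (iZ : Z ⟶ D.Z') (hiZ : D.v ≫ iZ = (yon S).map D.iV ≫ D.π') :
    IsPullback ((yon S).map D.iV) D.v D.π' iZ := by
  haveI := D.mono_iV
  haveI := isLocallySurjective_of_etale_surjective D.v D.hve D.hvs
  have sq := IsPullback.of_hasPullback D.π' iZ
  have hk1 : pullback.lift ((yon S).map D.iV) D.v hiZ.symm ≫ pullback.fst D.π' iZ =
      (yon S).map D.iV := pullback.lift_fst _ _ _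
  have hk2 : pullback.lift ((yon S).map D.iV) D.v hiZ.symm ≫ pullback.snd D.π' iZ = D.v :=
    pullback.lift_snd _ _ _
  haveI : Mono (pullback.lift ((yon S).map D.iV) D.v hiZ.symm) := mono_of_mono_fac hk1
  have sqE := IsPullback.of_hasPullback (pullback.snd D.π' iZ) D.v
  haveI : Epi (pullback.fst (pullback.snd D.π' iZ) D.v) :=
    Groth.Agent.H8.AlgSp.epi_fst_of_isPullback sqE
  have c : (pullback.fst (pullback.snd D.π' iZ) D.v ≫ pullback.fst D.π' iZ) ≫ D.π' =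
      (pullback.snd (pullback.snd D.π' iZ) D.v ≫ (yon S).map D.iV) ≫ D.π' := by
    rw [Category.assoc, sq.w, ← Category.assoc, sqE.w, Category.assoc, hiZ, Category.assoc]
  obtain ⟨ρ', hρ'1, hρ'2⟩ : ∃ ρ' : pullback (pullback.snd D.π' iZ) D.v ⟶ (yon S).obj D.R',
      ρ' ≫ (yon S).map D.t' = pullback.fst (pullback.snd D.π' iZ) D.v ≫ pullback.fst D.π' iZ ∧
      ρ' ≫ (yon S).map D.s' = pullback.snd (pullback.snd D.π' iZ) D.v ≫ (yon S).map D.iV :=
    ⟨D.pres.isPullback.lift _ _ c, D.pres.isPullback.lift_fst _ _ c,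
      D.pres.isPullback.lift_snd _ _ c⟩
  obtain ⟨ρ, hρ1, hρ2⟩ : ∃ ρ : pullback (pullback.snd D.π' iZ) D.v ⟶ (yon S).obj D.R,
      ρ ≫ (yon S).map D.iR = ρ' ∧
      ρ ≫ (yon S).map D.s = pullback.snd (pullback.snd D.π' iZ) D.v :=
    ⟨D.F1s.lift _ _ hρ'2, D.F1s.lift_fst _ _ hρ'2, D.F1s.lift_snd _ _ hρ'2⟩
  have hm : (ρ ≫ (yon S).map D.t) ≫ pullback.lift ((yon S).map D.iV) D.v hiZ.symm =
      pullback.fst (pullback.snd D.π' iZ) D.v := by
    apply sq.hom_ext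
    · rw [Category.assoc, hk1, Category.assoc, ← D.ht'1, ← Category.assoc, hρ1, hρ'1]
    · rw [Category.assoc, hk2, Category.assoc, D.psqR.w, ← Category.assoc, hρ2, sqE.w]
  haveI : Epi (pullback.lift ((yon S).map D.iV) D.v hiZ.symm) := epi_of_epi_fac hm
  haveI : IsIso (pullback.lift ((yon S).map D.iV) D.v hiZ.symm) := isIso_of_mono_of_epi _
  exact IsPullback.of_iso_pullback ⟨hiZ.symm⟩
    (asIso (pullback.lift ((yon S).map D.iV) D.v hiZ.symm)) hk1 hk2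

theorem UData.isFOThickMor_iZ (iZ : Z ⟶ D.Z') (hiZ : D.v ≫ iZ = (yon S).map D.iV ≫ D.π') :
    IsFOThickMor iZ := by
  have sq := (D.isPullback_iZ iZ hiZ).flip
  haveI : IsClosedImmersion D.iV.left := D.hiV.1.1
  have hrep : Representable iZ := representable_of_locallySurjective_baseChange_sepLQF sq
    ((repWith_yon_map_iff @IsSeparated _).2 inferInstance)
    ((repWith_yon_map_iff @LocallyQuasiFinite _).2 inferInstance)
    ((repWith_yon_map_iff @LocallyOfFiniteType _).2 inferInstance)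
  exact isFOThickMor_of_repWith iZ (repWith_of_locallySurjective_baseChange iZ hrep D.π' D.v _ sq
    FOThick ((repWith_yon_map_iff FOThick _).2 D.hiV))

end Quot

end Groth.Agent.H7.FOSp17

namespace Groth.Agent.H7.FOSp18

open _root_.AlgSp Groth.Agent.H5.AlgSp Groth.Agent.H7.FOSp1 Groth.Agent.H7.FOSp2
  Groth.Agent.H7.FOSp3 Groth.Agent.H7.FOSp4 Groth.Agent.H7.FOSp5 Groth.Agent.H7.FOSp6
  Groth.Agent.H7.FOSp7 Groth.Agent.H7.FOSp9 Groth.Agent.H7.FOSp10 Groth.Agent.H7.FOSp13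
  Groth.Agent.H7.FOSp14 Groth.Agent.H7.FOSp15 Groth.Agent.H7.FOSp16 Groth.Agent.H7.FOSp17
  Groth.Agent.H5.Thick Groth.Agent.H4.AlgSpInf Groth.Agent.H5.Descent

variable {S : Scheme.{u}}

theorem exists_isUnivFOThick {Z X : Sp S} (hZ : IsAlgSpace Z) (hX : IsAlgSpace X) (h : Z ⟶ X)
    (hh : IsFormallyUnramifiedMor h) :
    ∃ (Z' : Sp S) (_ : IsAlgSpace Z') (i : Z ⟶ Z') (h' : Z' ⟶ X), IsUnivFOThick h i h' := by
  obtain ⟨D⟩ := exists_udata hZ hX h hh
  obtain ⟨iZ, hiZ⟩ := D.exists_iZ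
  obtain ⟨hZ', hhZ'⟩ := D.exists_hZ'
  refine ⟨D.Z', D.isAlgSpace_Z', iZ, hZ', ?_⟩
  haveI := isLocallySurjective_of_etale_surjective D.v D.hve D.hvs
  have w' : iZ ≫ hZ' = h := by
    rw [← cancel_epi D.v, ← Category.assoc, hiZ, Category.assoc, hhZ', D.HV.2.1]
  have HU : IsUnivFOThick (D.v ≫ h) ((yon S).map D.iV) (D.π' ≫ hZ') := by
    rw [hhZ']; exact D.HV
  have he : IsEtaleMor D.v := fun _ φ hφ => (RepWith (S := S) @Etale).comp_mem _ _ hφ D.hve
  have hπe : IsEtaleMor D.π' := fun _ φ hφ =>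
    (RepWith (S := S) @Etale).comp_mem _ _ hφ D.pres.etale
  exact descend_main D.v h ((yon S).map D.iV) iZ D.π' hZ' (IsAlgSpace.yon_obj _)
    (IsAlgSpace.yon_obj _) he (points_map_surjective_of_repWith D.hvs)
    (D.isFOThickMor_iZ iZ hiZ) hπe hiZ.symm w' HU

theorem S10634_main {Z X : AlgSp.Space S} (h : Z ⟶ X)
    (hh : AlgSp.IsFormallyUnramifiedMor h.hom) :
    ∃ (Z' : AlgSp.Space S) (i : Z ⟶ Z') (h' : Z' ⟶ X),
      AlgSp.IsUnivFOThick h.hom i.hom h'.hom := by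
  obtain ⟨Z', hZ', i, h', H⟩ := exists_isUnivFOThick Z.property X.property h.hom hh
  exact ⟨⟨Z', hZ'⟩, ObjectProperty.homMk i, ObjectProperty.homMk h', H⟩

end Groth.Agent.H7.FOSp18
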