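import Groth.Agent.Lib.Helper7.FOSp1
import Groth.Agent.Lib.Helper5.Thick.UnivThickSch
import Mathlib

/-!
# Scheme-level lemmas on the first order infinitesimal neighbourhood (towards S10635)
-/

set_option autoImplicit false
universe u

open AlgebraicGeometry CategoryTheory Limits

namespace Groth.Agent.H7.FOSp19

open Groth.Agent.H5.Thick Groth.Agent.H7.FOSp1 Scheme

lemma ideal_top_ofIdealTop {V : Scheme.{u}} [IsAffine V] (I : Ideal Γ(V, ⊤)) :
    (IdealSheafData.ofIdealTop I).ideal ⟨⊤, isAffineOpen_top V⟩ = I :=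
  IdealSheafData.equivOfIsAffine.right_inv I

lemma ker_ideal_top {V Y : Scheme.{u}} [IsAffine V] (g : Y ⟶ V) :
    g.ker.ideal ⟨⊤, isAffineOpen_top V⟩ = RingHom.ker g.appTop.hom := by
  rw [Scheme.ker_of_isAffine g, ideal_top_ofIdealTop]

/-- the closed subscheme cut out by `I` is a first order thickening in the one cut out by
`I ^ 2`. -/
theorem FOThick_of_ker_sq {V W Wn : Scheme.{u}} [IsAffine V] (snd : W ⟶ V) (sndn : Wn ⟶ V)
    [IsClosedImmersion snd] [IsClosedImmersion sndn] (hker : sndn.ker = snd.ker ^ 2)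
    (ι : W ⟶ Wn) (hι : ι ≫ sndn = snd) : MoreMor.IsFirstOrderThickening ι := by
  obtain ⟨hWn, hsn⟩ := IsClosedImmersion.isAffine_surjective_of_isAffine sndn
  obtain ⟨hW, hs⟩ := IsClosedImmersion.isAffine_surjective_of_isAffine snd
  have hnat : ι ≫ Wn.isoSpec.hom = W.isoSpec.hom ≫ Spec.map ι.appTop :=
    (Scheme.isoSpec_hom_naturality ι).symm
  have hcomp : ∀ a, ι.appTop.hom (sndn.appTop.hom a) = snd.appTop.hom a := by
    intro a
    have : sndn.appTop ≫ ι.appTop = snd.appTop := by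
      rw [← Scheme.Hom.comp_appTop, hι]
    exact congrArg (fun m => m.hom a) this
  have e3 : RingHom.ker sndn.appTop.hom = RingHom.ker snd.appTop.hom ^ 2 := by
    rw [← ker_ideal_top sndn, ← ker_ideal_top snd, hker]
    rfl
  have key : SqZeroSurj ι.appTop.hom := by
    refine ⟨?_, ?_⟩
    · intro y
      obtain ⟨a, ha⟩ := hs y
      exact ⟨sndn.appTop.hom a, by rw [hcomp]; exact ha⟩
    · intro x y hx hy
      obtain ⟨x', rfl⟩ := hsn x
      obtain ⟨y', rfl⟩ := hsn y
      have hx' : x' ∈ RingHom.ker snd.appTop.hom := by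
        rw [RingHom.mem_ker, ← hcomp]; exact hx
      have hy' : y' ∈ RingHom.ker snd.appTop.hom := by
        rw [RingHom.mem_ker, ← hcomp]; exact hy
      have : x' * y' ∈ RingHom.ker sndn.appTop.hom := by
        rw [e3, pow_two]; exact Ideal.mul_mem_mul hx' hy'
      rw [← map_mul]; exact this
  have h1 : FOThick (Spec.map ι.appTop) := isFirstOrderThickening_SpecMap ι.appTop key
  have h2 : FOThick (ι ≫ Wn.isoSpec.hom) := by
    rw [hnat]; exact (FOThick.cancel_left_of_respectsIso _ _).2 h1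
  exact (FOThick.cancel_right_of_respectsIso ι Wn.isoSpec.hom).1 h2

/-- a morphism whose restriction to a first order thickening factors through `V(I)` factors
through `V(I ^ 2)`. -/
theorem exists_lift_of_ker_sq {V W Wn Y Y₀ : Scheme.{u}} [IsAffine V] [IsAffine Y]
    (snd : W ⟶ V) (sndn : Wn ⟶ V) [IsClosedImmersion sndn] (hker : sndn.ker = snd.ker ^ 2)
    (g : Y ⟶ V) (ι : Y₀ ⟶ Y) (hι : ι.ker * ι.ker = ⊥) (r : Y₀ ⟶ W) (hr : ι ≫ g = r ≫ snd) :
    ∃ l : Y ⟶ Wn, l ≫ sndn = g := by
  have hK : RingHom.ker ι.appTop.hom * RingHom.ker ι.appTop.hom = ⊥ := by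
    have := congrArg (fun K => K.ideal ⟨⊤, isAffineOpen_top Y⟩) hι
    simp only [IdealSheafData.ideal_mul, Pi.mul_apply, IdealSheafData.ideal_bot, Pi.bot_apply]
      at this
    rw [ker_ideal_top] at this
    exact this
  have H : sndn.ker ≤ g.ker := by
    rw [hker]
    apply IdealSheafData.le_of_isAffine
    rw [ker_ideal_top g]
    change (snd.ker.ideal ⟨⊤, isAffineOpen_top V⟩) ^ 2 ≤ _
    rw [pow_two, Ideal.mul_le]
    intro x hx y hy
    have hx0 : snd.appTop.hom x = 0 := snd.ideal_ker_le _ hx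
    have hy0 : snd.appTop.hom y = 0 := snd.ideal_ker_le _ hy
    have hcomm : ∀ a, ι.appTop.hom (g.appTop.hom a) = r.appTop.hom (snd.appTop.hom a) := by
      intro a
      have : g.appTop ≫ ι.appTop = snd.appTop ≫ r.appTop := by
        rw [← Scheme.Hom.comp_appTop, ← Scheme.Hom.comp_appTop, hr]
      exact congrArg (fun m => m.hom a) this
    have hgx : g.appTop.hom x ∈ RingHom.ker ι.appTop.hom := by
      rw [RingHom.mem_ker, hcomm, hx0, map_zero]
    have hgy : g.appTop.hom y ∈ RingHom.ker ι.appTop.hom := by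
      rw [RingHom.mem_ker, hcomm, hy0, map_zero]
    have := Ideal.mul_mem_mul hgx hgy
    rw [hK, Ideal.mem_bot] at this
    rw [RingHom.mem_ker, map_mul]; exact this
  exact ⟨IsClosedImmersion.lift sndn g H, IsClosedImmersion.lift_fac _ _ _⟩

end Groth.Agent.H7.FOSp19
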