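import Groth.Agent.Lib.Helper7.FOSp1
import Groth.Agent.Lib.Helper5.AlgSp.EtaleLocalTarget
import Groth.Agent.Lib.Helper5.AlgSp.Cover
import Mathlib

/-!
# First order thickenings of algebraic spaces: all represented pullbacks are first order thickenings
-/

set_option autoImplicit false
universe u

open AlgebraicGeometry CategoryTheory Limits MorphismProperty

namespace Groth.Agent.H7.FOSp2

open _root_.AlgSp Groth.Agent.H5.AlgSp Groth.Agent.H7.FOSp1

variable {S : Scheme.{u}}

/-- a first order thickening of an algebraic space has all its represented pullbacks first order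
thickenings of schemes. -/
theorem repWith_FOThick {F G : Sp S} (i : F ⟶ G) (hG : IsAlgSpace G) (hi : IsFOThickMor i) :
    RepWith FOThick i := by
  obtain ⟨U, c, hce, hcs⟩ := hG.atlas
  have hrep : Representable i := hi.1.1
  refine ⟨hrep, fun V W b fst snd sq => ?_⟩
  change FOThick snd.left
  have h1 : ∀ {U' W' : Over S} (c' : (yon S).obj U' ⟶ G) (fst' : (yon S).obj W' ⟶ F)
      (snd' : W' ⟶ U'), RepWith @Etale c' → IsPullback fst' ((yon S).map snd') i c' →
      FOThick snd'.left := by
    intro U' W' c' fst' snd' hc' sq'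
    rw [IsZariskiLocalAtTarget.iff_of_openCover (P := FOThick) U'.left.affineCover]
    intro k
    let T' : Over S := Over.mk (U'.left.affineCover.f k ≫ U'.hom)
    let ι : T' ⟶ U' := Over.homMk (U'.left.affineCover.f k) rfl
    have hι : RepWith @Etale ((yon S).map ι) :=
      (repWith_yon_map_iff @Etale ι).2
        (inferInstanceAs (Etale (U'.left.affineCover.f k)))
    have hιe : RepWith @Etale ((yon S).map ι ≫ c') :=
      (RepWith (S := S) @Etale).comp_mem _ _ hι hc'
    have sqk := isPullback_baseChange_yon sq' ι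
    have hT' : IsAffine T'.left := by
      change IsAffine (U'.left.affineCover.X k); infer_instance
    have h2 : AlgSp.sqZero (pullback.snd snd' ι).left := hi.2 _ _ _ hT' hιe sqk
    have h3 : AlgSp.thick (pullback.snd snd' ι).left := hi.1.2 _ _ _ sqk
    have h4 : FOThick (pullback.snd snd' ι).left := ⟨h3, h2⟩
    rw [left_pullback_snd_iff FOThick] at h4
    exact h4
  -- the fibre product of the atlas with `b`
  let V'' : Over S := hce.1.pullback b
  let q₁ : V'' ⟶ V := hce.1.snd b
  let q₂ : V'' ⟶ U := hce.1.fst' b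
  have hq : IsPullback ((yon S).map q₂) ((yon S).map q₁) c b := by
    have := hce.1.isPullback b
    rwa [← hce.1.map_fst'] at this
  have hq₁e : Etale q₁.left := hce.2 _ _ _ hq
  have hq₁s : Surjective q₁.left := hcs.2 _ _ _ hq
  have sqU := hrep.isPullback c
  have hU : FOThick (hrep.snd c).left := h1 c _ _ hce sqU
  have sqA := isPullback_baseChange_yon sqU q₂
  have sqA' := isPullback_baseChange_yon sq q₁
  rw [← hq.w] at sqA'
  let e := sqA.isoIsPullback _ _ sqA'
  have he : e.hom ≫ (yon S).map (pullback.snd snd q₁) = (yon S).map (pullback.snd (hrep.snd c) q₂) :=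
    sqA.isoIsPullback_hom_snd _ _ sqA'
  let ε := (yon S).preimageIso e
  have hε : ε.hom ≫ pullback.snd snd q₁ = pullback.snd (hrep.snd c) q₂ := by
    apply (yon S).map_injective
    rw [Functor.map_comp]
    simpa [ε] using he
  have h2 : FOThick (pullback.snd (hrep.snd c) q₂).left := by
    rw [left_pullback_snd_iff FOThick]
    exact FOThick.pullback_snd _ _ hU
  have h3 : FOThick (pullback.snd snd q₁).left := by
    rw [← hε, Over.comp_left] at h2
    exact (FOThick.cancel_left_of_respectsIso _ _).1 h2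
  rw [left_pullback_snd_iff FOThick] at h3
  exact FOThick_of_isPullback_etale (IsPullback.of_hasPullback snd.left q₁.left).flip h3

theorem isFOThickMor_of_repWith {F G : Sp S} (i : F ⟶ G) (hi : RepWith FOThick i) :
    IsFOThickMor i :=
  ⟨repWith_mono FOThick_le_thick hi, fun _ _ b fst snd _ _ sq => (hi.2 b fst snd sq).2⟩

/-- base change of first order thickenings of algebraic spaces. -/
theorem isFOThickMor_of_isPullback {F G F' G' : Sp S} {i : F ⟶ G} {i' : F' ⟶ G'}
    {p : F' ⟶ F} {q : G' ⟶ G} (sq : IsPullback p i' i q) (hG : IsAlgSpace G)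
    (hi : IsFOThickMor i) : IsFOThickMor i' :=
  isFOThickMor_of_repWith i'
    ((RepWith (S := S) FOThick).of_isPullback sq (repWith_FOThick i hG hi))

theorem S10637_main {Z X W Y W' P : AlgSp.Space S} (h : Z ⟶ X) (f : Z ⟶ W)
    (g : X ⟶ Y) (h' : W ⟶ Y) (sq : IsPullback h.hom f.hom g.hom h'.hom)
    (iW : W ⟶ W') (hW' : W' ⟶ Y) (HU : AlgSp.IsUnivFOThick h'.hom iW.hom hW'.hom)
    (pX : P ⟶ X) (pW : P ⟶ W') (sq' : IsPullback pX.hom pW.hom g.hom hW'.hom)
    (iZ : Z ⟶ P) (w1 : iZ ≫ pX = h) (w2 : iZ ≫ pW = f ≫ iW) :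
    AlgSp.IsUnivFOThick h.hom iZ.hom pX.hom := by
  obtain ⟨hiW, hw, huniv⟩ := HU
  have w1' : iZ.hom ≫ pX.hom = h.hom := congrArg (fun m => m.hom) w1
  have w2' : iZ.hom ≫ pW.hom = f.hom ≫ iW.hom := congrArg (fun m => m.hom) w2
  have big : IsPullback (iZ.hom ≫ pX.hom) f.hom g.hom (iW.hom ≫ hW'.hom) := by
    rw [w1', hw]; exact sq
  have left : IsPullback iZ.hom f.hom pW.hom iW.hom := IsPullback.of_right big w2' sq'
  refine ⟨isFOThickMor_of_isPullback left.flip W'.property hiW, w1', ?_⟩
  intro T T' hT hT' j a b hj hjb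
  have hcomm : j ≫ (b ≫ g.hom) = (a ≫ f.hom) ≫ h'.hom := by
    rw [← Category.assoc, hjb, Category.assoc, Category.assoc, sq.w]
  obtain ⟨c, ⟨hc1, hc2⟩, hcu⟩ := huniv hT hT' j (a ≫ f.hom) (b ≫ g.hom) hj hcomm
  refine ⟨sq'.lift b c hc2.symm, ⟨?_, sq'.lift_fst _ _ _⟩, ?_⟩
  · apply sq'.hom_ext
    · rw [Category.assoc, sq'.lift_fst, Category.assoc, w1', hjb]
    · rw [Category.assoc, sq'.lift_snd, Category.assoc, w2', hc1, Category.assoc]
  · rintro a'' ⟨h1, h2⟩
    apply sq'.hom_ext
    · rw [sq'.lift_fst, h2]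
    · rw [sq'.lift_snd]
      apply hcu
      refine ⟨?_, ?_⟩
      · rw [← Category.assoc, h1, Category.assoc, w2', Category.assoc]
      · rw [Category.assoc, ← sq'.w, ← Category.assoc, h2]

end Groth.Agent.H7.FOSp2
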