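import Groth.Agent.Lib.Helper7.FOSp19
import Groth.Agent.Lib.Helper7.FOSp16
import Groth.Agent.Lib.Helper5.AlgSp.LocalBaseFam
import Groth.Agent.Lib.Helper5.AlgSp.FppfLocal
import Groth.Agent.Lib.Helper5.AlgSp.Mono
import Mathlib

/-!
# The first order infinitesimal neighbourhood of an immersion is a universal first order
thickening (S10635)
-/

set_option autoImplicit false
universe u

open AlgebraicGeometry CategoryTheory Limits

namespace Groth.Agent.H7.FOSp20

open _root_.AlgSp Groth.Agent.H5.AlgSp Groth.Agent.H7.FOSp1 Groth.Agent.H7.FOSp2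
  Groth.Agent.H7.FOSp3 Groth.Agent.H7.FOSp4 Groth.Agent.H7.FOSp5 Groth.Agent.H7.FOSp6
  Groth.Agent.H7.FOSp16 Groth.Agent.H7.FOSp19 Groth.Agent.H7.EDSq Groth.Agent.H5.Thick

variable {S : Scheme.{u}}

/-- a section of `G` over `T'` which fppf locally factors through the monomorphism `m` factors
through `m`. -/
theorem exists_factor_of_local {F G : Sp S} (m : F ⟶ G) [Mono m] {T' : Over S}
    (b : (yon S).obj T' ⟶ G) {ι : Type*} (A : ι → Over S) (a : ∀ x, A x ⟶ T')
    (hfl : ∀ x, Flat (a x).left) (hlfp : ∀ x, LocallyOfFinitePresentation (a x).left)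
    (hsurj : ∀ t : ↥T'.left, ∃ x, t ∈ Set.range (a x).left)
    (H : ∀ x, ∃ s : (yon S).obj (A x) ⟶ F, s ≫ m = (yon S).map (a x) ≫ b) :
    ∃ a' : (yon S).obj T' ⟶ F, a' ≫ m = b := by
  choose s hs using H
  obtain ⟨t, ht⟩ := exists_glue A a hfl hlfp hsurj s (by
    intro x x' Z gk gl hg
    rw [← cancel_mono m, Category.assoc, Category.assoc, hs, hs, ← Category.assoc,
      ← Category.assoc, ← Functor.map_comp, ← Functor.map_comp, hg])
  refine ⟨t, ?_⟩
  refine hom_ext_of_family A a hfl hlfp hsurj _ _ (fun x => ?_)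
  rw [← Category.assoc, ht, hs]

section

variable {Z U X Z₁ : Sp S} (c : Z ⟶ U) (u : U ⟶ X) (j : Z ⟶ Z₁) (k : Z₁ ⟶ U)

/-- chart data over an affine etale chart of `U`. -/
structure NChart (V : Over S) (b : (yon S).obj V ⟶ U) where
  W : Over S
  Wn : Over S
  snd : W ⟶ V
  sndn : Wn ⟶ V
  fst : (yon S).obj W ⟶ Z
  fstn : (yon S).obj Wn ⟶ Z₁
  psq : IsPullback fst ((yon S).map snd) c b
  psqn : IsPullback fstn ((yon S).map sndn) k b
  hcln : IsClosedImmersion sndn.left
  hker : sndn.left.ker = snd.left.ker ^ 2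
  ι : W ⟶ Wn
  hι2 : ι ≫ sndn = snd
  psqι : IsPullback fst ((yon S).map ι) j fstn
  hfo : FOThick ι.left

theorem exists_nchart (hN : IsInfNbhd 1 c j k) {V : Over S} (hV : IsAffine V.left)
    (b : (yon S).obj V ⟶ U) (hb : RepWith @Etale b) : Nonempty (NChart c j k V b) := by
  obtain ⟨hjk, hc, hk, hI⟩ := hN
  have psq := hc.1.isPullback b
  have psqn := hk.1.isPullback b
  have hcl : IsClosedImmersion (hc.1.snd b).left := hc.2 _ _ _ psq
  have hcln : IsClosedImmersion (hk.1.snd b).left := hk.2 _ _ _ psqn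
  have hker := hI b (hc.1.fst b) (hc.1.snd b) (hk.1.fst b) (hk.1.snd b) hV hb psq psqn
  have cι : (hc.1.fst b ≫ j) ≫ k = (yon S).map (hc.1.snd b) ≫ b := by
    rw [Category.assoc, hjk, psq.w]
  obtain ⟨ιy, h1, h2⟩ : ∃ ιy : (yon S).obj (hc.1.pullback b) ⟶ (yon S).obj (hk.1.pullback b),
      ιy ≫ hk.1.fst b = hc.1.fst b ≫ j ∧
      ιy ≫ (yon S).map (hk.1.snd b) = (yon S).map (hc.1.snd b) :=
    ⟨psqn.lift _ _ cι, psqn.lift_fst _ _ _, psqn.lift_snd _ _ _⟩
  obtain ⟨ι, rfl⟩ := (yon S).map_surjective ιy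
  have hι2 : ι ≫ hk.1.snd b = hc.1.snd b :=
    (yon S).map_injective (by rw [Functor.map_comp]; exact h2)
  have psqι : IsPullback (hc.1.fst b) ((yon S).map ι) j (hk.1.fst b) := by
    refine IsPullback.of_bot ?_ h1.symm psqn
    rw [h2, hjk]; exact psq
  haveI := hV
  have hfo : FOThick ι.left :=
    FOThick_of_ker_sq (hc.1.snd b).left (hk.1.snd b).left hker ι.left (by
      rw [← Over.comp_left, hι2])
  exact ⟨{ W := _, Wn := _, snd := hc.1.snd b, sndn := hk.1.snd b, fst := hc.1.fst b,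
           fstn := hk.1.fst b, psq := psq, psqn := psqn, hcln := hcln, hker := hker, ι := ι,
           hι2 := hι2, psqι := psqι, hfo := hfo }⟩

/-- the affine etale charts of `U` coming from an atlas. -/
lemma repWith_etale_chart {U₀ : Over S} (α : (yon S).obj U₀ ⟶ U) (hαe : RepWith @Etale α)
    (κ : U₀.left.affineCover.I₀) : RepWith @Etale ((yon S).map (affHom U₀ κ) ≫ α) :=
  (RepWith (S := S) @Etale).comp_mem _ _
    ((repWith_yon_map_iff @Etale _).2 (inferInstance : Etale (affHom U₀ κ).left)) hαe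

theorem isFOThickMor_j (hU : IsAlgSpace U) (hN : IsInfNbhd 1 c j k) : IsFOThickMor j := by
  have hjk := hN.1
  have hc := hN.2.1
  have hk := hN.2.2.1
  haveI : Mono k := mono_of_repWith_isClosedImmersion hk
  have hjcl : RepWith @IsClosedImmersion j :=
    (RepWith (S := S) @IsClosedImmersion).of_isPullback (isPullback_of_mono_comp c k j hjk) hc
  obtain ⟨U₀, α, hαe, hαs⟩ := hU.atlas
  have C : ∀ κ : U₀.left.affineCover.I₀,
      NChart c j k (affObj U₀ κ) ((yon S).map (affHom U₀ κ) ≫ α) := fun κ =>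
    (exists_nchart c j k hN (inferInstance : IsAffine (affObj U₀ κ).left) _
      (repWith_etale_chart α hαe κ)).some
  refine isFOThickMor_of_repWith j (repWith_of_jointly_locallySurjective_baseChange j hjcl.1
    (fun κ => (C κ).fstn) ?_ (fun κ => (C κ).fst) (fun κ => (yon S).map (C κ).ι)
    (fun κ => (C κ).psqι) FOThick (fun κ => (repWith_yon_map_iff FOThick _).2 (C κ).hfo))
  intro T ξ
  obtain ⟨T₁, τ, q, psqT, hqe, hqs⟩ : ∃ (T₁ : Over S) (τ : T₁ ⟶ U₀) (q : T₁ ⟶ T),
      IsPullback ((yon S).map τ) ((yon S).map q) α (ξ ≫ k) ∧ Etale q.left ∧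
        Surjective q.left :=
    ⟨_, hαe.1.fst' _, hαe.1.snd _, hαe.1.isPullback' _, hαe.2 _ _ _ (hαe.1.isPullback _),
      hαs.2 _ _ _ (hαe.1.isPullback _)⟩
  refine mem_J_of_family (fun κ => pullback τ (affHom U₀ κ))
    (fun κ => pullback.fst τ (affHom U₀ κ) ≫ q) (fun κ => ?_) (fun κ => ?_) ?_ _ (fun κ => ?_)
  · haveI := isOpenImmersion_pullback_fst τ (affHom U₀ κ)
    rw [Over.comp_left]; infer_instance
  · haveI := isOpenImmersion_pullback_fst τ (affHom U₀ κ)
    rw [Over.comp_left]; infer_instance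
  · intro t
    obtain ⟨t₁, rfl⟩ := q.left.surjective t
    obtain ⟨κ, z, hz⟩ := pullback_fst_surj τ (affObj U₀) (affHom U₀) (affHom_surj U₀) t₁
    exact ⟨κ, z, by rw [Over.comp_left, Scheme.Hom.comp_apply, hz]⟩
  · have cc : ((yon S).map (pullback.fst τ (affHom U₀ κ) ≫ q) ≫ ξ) ≫ k =
        (yon S).map (pullback.snd τ (affHom U₀ κ)) ≫ (yon S).map (affHom U₀ κ) ≫ α := by
      rw [Functor.map_comp, Category.assoc, Category.assoc, ← psqT.w, ← Category.assoc,
        ← Functor.map_comp, pullback.condition, Functor.map_comp, Category.assoc]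
    exact ⟨κ, (C κ).psqn.lift _ _ cc, (C κ).psqn.lift_fst _ _ cc⟩

/-- one affine piece of the factorization. -/
theorem exists_factor_piece [Mono u] {V : Over S} (hV : IsAffine V.left)
    {bV : (yon S).obj V ⟶ U} (C : NChart c j k V bV) {T T' Y : Over S} (jT : T ⟶ T')
    (hjT : FOThick jT.left) (a : (yon S).obj T ⟶ Z) (b : (yon S).obj T' ⟶ X)
    (hab : (yon S).map jT ≫ b = a ≫ c ≫ u) (hY : IsAffine Y.left) (y : Y ⟶ T') (g : Y ⟶ V)
    (hyg : (yon S).map y ≫ b = (yon S).map g ≫ bV ≫ u) :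
    ∃ s : (yon S).obj Y ⟶ Z₁, s ≫ k ≫ u = (yon S).map y ≫ b := by
  have hfoY : FOThick (pullback.snd jT y).left := FOThick_pullback_snd jT y hjT
  have hcond : (yon S).map (pullback.fst jT y) ≫ (yon S).map jT =
      (yon S).map (pullback.snd jT y) ≫ (yon S).map y := by
    rw [← Functor.map_comp, ← Functor.map_comp, pullback.condition]
  have cr : ((yon S).map (pullback.fst jT y) ≫ a) ≫ c =
      ((yon S).map (pullback.snd jT y) ≫ (yon S).map g) ≫ bV := by
    rw [← cancel_mono u, Category.assoc, Category.assoc, ← hab, ← Category.assoc, hcond,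
      Category.assoc, hyg]
    simp only [Category.assoc]
  obtain ⟨ry, -, hry⟩ : ∃ ry : (yon S).obj (pullback jT y) ⟶ (yon S).obj C.W,
      ry ≫ C.fst = (yon S).map (pullback.fst jT y) ≫ a ∧
      ry ≫ (yon S).map C.snd = (yon S).map (pullback.snd jT y) ≫ (yon S).map g :=
    ⟨C.psq.lift _ _ cr, C.psq.lift_fst _ _ cr, C.psq.lift_snd _ _ cr⟩
  obtain ⟨r, rfl⟩ := (yon S).map_surjective ry
  have hr : pullback.snd jT y ≫ g = r ≫ C.snd := by
    apply (yon S).map_injective
    rw [Functor.map_comp, Functor.map_comp, hry]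
  haveI := hV
  haveI := hY
  haveI := C.hcln
  obtain ⟨l₀, hl₀⟩ := exists_lift_of_ker_sq C.snd.left C.sndn.left C.hker g.left
    (pullback.snd jT y).left hfoY.2 r.left (by
      rw [← Over.comp_left, ← Over.comp_left, hr])
  have hl₀' : l₀ ≫ C.Wn.hom = Y.hom := by
    rw [← Over.w C.sndn, ← Category.assoc, hl₀, Over.w]
  have hl : (Over.homMk l₀ hl₀' : Y ⟶ C.Wn) ≫ C.sndn = g := by
    apply Over.OverMorphism.ext
    exact hl₀
  refine ⟨(yon S).map (Over.homMk l₀ hl₀') ≫ C.fstn, ?_⟩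
  rw [Category.assoc, ← Category.assoc C.fstn, C.psqn.w, Category.assoc, ← Category.assoc,
    ← Functor.map_comp, hl, hyg]

theorem univ_main (hU : IsAlgSpace U) (hu : RepWith @IsOpenImmersion u)
    (hN : IsInfNbhd 1 c j k) : IsUnivFOThick (c ≫ u) j (k ≫ u) := by
  have hjFO := isFOThickMor_j c j k hU hN
  haveI : Mono k := mono_of_repWith_isClosedImmersion hN.2.2.1
  haveI : Mono u := mono_of_repWith (fun _ _ f hf => by
    haveI : IsOpenImmersion f := hf
    exact MorphismProperty.monomorphisms.infer_property f) hu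
  have huE : RepWith @Etale u := repWith_mono (fun _ _ f hf => by
    haveI : IsOpenImmersion f := hf
    exact (inferInstance : Etale f)) hu
  refine isUnivFOThick_of_affine_test _ _ _ hjFO (by rw [← Category.assoc, hN.1]) ?_
  intro T T' jT hT' hjT a b hab
  suffices H : ∃ a' : (yon S).obj T' ⟶ Z₁, a' ≫ k ≫ u = b by
    obtain ⟨a', ha'⟩ := H
    refine ⟨a', ⟨?_, ha'⟩, ?_⟩
    · rw [← cancel_mono (k ≫ u), Category.assoc, ha', hab, Category.assoc,
        ← Category.assoc j, hN.1]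
    · rintro y ⟨-, hy⟩
      rw [← cancel_mono (k ≫ u), hy, ha']
  obtain ⟨U₀, α, hαe, hαs⟩ := hU.atlas
  have hbV := repWith_etale_chart α hαe
  have C : ∀ κ : U₀.left.affineCover.I₀,
      NChart c j k (affObj U₀ κ) ((yon S).map (affHom U₀ κ) ≫ α) := fun κ =>
    (exists_nchart c j k hN (inferInstance : IsAffine (affObj U₀ κ).left) _ (hbV κ)).some
  have hβ : ∀ κ, RepWith @Etale (((yon S).map (affHom U₀ κ) ≫ α) ≫ u) := fun κ =>
    (RepWith (S := S) @Etale).comp_mem _ _ (hbV κ) huE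
  -- the pullbacks of the charts to `T'`
  have hT'κ : ∀ κ, ∃ (P : Over S) (τ : P ⟶ affObj U₀ κ) (q : P ⟶ T'),
      IsPullback ((yon S).map τ) ((yon S).map q) (((yon S).map (affHom U₀ κ) ≫ α) ≫ u) b ∧
        Etale q.left := fun κ =>
    ⟨_, (hβ κ).1.fst' b, (hβ κ).1.snd b, (hβ κ).1.isPullback' b,
      (hβ κ).2 _ _ _ ((hβ κ).1.isPullback b)⟩
  choose P τ q psqP hqe using hT'κ
  refine exists_factor_of_local (k ≫ u) b
    (fun x : (Σ κ, (P κ).left.affineCover.I₀) => affObj (P x.1) x.2)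
    (fun x => affHom (P x.1) x.2 ≫ q x.1) (fun x => ?_) (fun x => ?_) ?_ (fun x => ?_)
  · haveI := hqe x.1
    rw [Over.comp_left]; infer_instance
  · haveI := hqe x.1
    rw [Over.comp_left]; infer_instance
  · intro t'
    haveI : Surjective jT.left := hjT.1.2
    obtain ⟨t, rfl⟩ := jT.left.surjective t'
    obtain ⟨T₁, τ₁, q₁, psqT, hq₁s⟩ : ∃ (T₁ : Over S) (τ₁ : T₁ ⟶ U₀) (q₁ : T₁ ⟶ T),
        IsPullback ((yon S).map τ₁) ((yon S).map q₁) α (a ≫ c) ∧ Surjective q₁.left :=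
      ⟨_, hαe.1.fst' _, hαe.1.snd _, hαe.1.isPullback' _, hαs.2 _ _ _ (hαe.1.isPullback _)⟩
    obtain ⟨t₁, rfl⟩ := q₁.left.surjective t
    obtain ⟨κ, z, hz⟩ := pullback_fst_surj τ₁ (affObj U₀) (affHom U₀) (affHom_surj U₀) t₁
    have cl : (yon S).map (pullback.snd τ₁ (affHom U₀ κ)) ≫
        (((yon S).map (affHom U₀ κ) ≫ α) ≫ u) =
        (yon S).map (pullback.fst τ₁ (affHom U₀ κ) ≫ q₁ ≫ jT) ≫ b := by
      have e1 : (yon S).map q₁ ≫ a ≫ c ≫ u = (yon S).map τ₁ ≫ α ≫ u := by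
        have := psqT.w
        rw [← Category.assoc a, ← Category.assoc ((yon S).map q₁), ← this, Category.assoc]
      have e2 : (yon S).map (pullback.fst τ₁ (affHom U₀ κ)) ≫ (yon S).map τ₁ =
          (yon S).map (pullback.snd τ₁ (affHom U₀ κ)) ≫ (yon S).map (affHom U₀ κ) := by
        rw [← Functor.map_comp, ← Functor.map_comp, pullback.condition]
      simp only [Functor.map_comp, Category.assoc]
      rw [hab, e1, ← Category.assoc ((yon S).map (pullback.fst τ₁ (affHom U₀ κ))), e2,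
        Category.assoc]
    obtain ⟨ly, -, hly⟩ : ∃ ly : (yon S).obj (pullback τ₁ (affHom U₀ κ)) ⟶ (yon S).obj (P κ),
        ly ≫ (yon S).map (τ κ) = (yon S).map (pullback.snd τ₁ (affHom U₀ κ)) ∧
        ly ≫ (yon S).map (q κ) = (yon S).map (pullback.fst τ₁ (affHom U₀ κ) ≫ q₁ ≫ jT) :=
      ⟨(psqP κ).lift _ _ cl, (psqP κ).lift_fst _ _ cl, (psqP κ).lift_snd _ _ cl⟩
    obtain ⟨l, rfl⟩ := (yon S).map_surjective ly
    have hl : l ≫ q κ = pullback.fst τ₁ (affHom U₀ κ) ≫ q₁ ≫ jT := by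
      apply (yon S).map_injective
      rw [Functor.map_comp]; exact hly
    obtain ⟨m, w, hw⟩ := affHom_surj (P κ) (l.left z)
    refine ⟨⟨κ, m⟩, w, ?_⟩
    have := congrArg (fun f => f.left z) hl
    simp only [Over.comp_left, Scheme.Hom.comp_apply] at this
    rw [Over.comp_left, Scheme.Hom.comp_apply, hw, this, hz]
  · refine exists_factor_piece c u j k (inferInstance : IsAffine (affObj U₀ x.1).left) (C x.1)
      jT hjT a b hab (inferInstance : IsAffine (affObj (P x.1) x.2).left)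
      (affHom (P x.1) x.2 ≫ q x.1) (affHom (P x.1) x.2 ≫ τ x.1) ?_
    rw [Functor.map_comp, Functor.map_comp, Category.assoc, Category.assoc, ← (psqP x.1).w,
      Category.assoc]

end

theorem S10635_main {Z U X Z₁ : AlgSp.Space S} (c : Z ⟶ U)
    (u : U ⟶ X) (hu : AlgSp.RepWith @IsOpenImmersion u.hom)
    (j : Z ⟶ Z₁) (k : Z₁ ⟶ U) (hN : AlgSp.IsInfNbhd 1 c.hom j.hom k.hom) :
    AlgSp.IsUnivFOThick (c ≫ u).hom j.hom (k ≫ u).hom :=
  univ_main c.hom u.hom j.hom k.hom U.property hu hN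

end Groth.Agent.H7.FOSp20
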