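import Groth.Agent.Lib.Helper7.FOSp3
import Groth.Agent.Lib.Helper5.Thick.GlueLift
import Groth.Agent.Lib.Helper4.AlgSp.Inf
import Mathlib

/-!
# Infinitesimal lifting along first order thickenings of algebraic spaces
-/

set_option autoImplicit false
universe u

open AlgebraicGeometry CategoryTheory Limits MorphismProperty

namespace Groth.Agent.H7.FOSp4

open _root_.AlgSp Groth.Agent.H5.AlgSp Groth.Agent.H7.FOSp1 Groth.Agent.H7.FOSp2
  Groth.Agent.H7.FOSp3 Groth.Agent.H5.Thick

variable {S : Scheme.{u}} {X Y : Sp S} (f : X ⟶ Y)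

/-- an affine first order thickening over `S` with a lifting problem is isomorphic to a standard
infinitesimal lifting square. -/
theorem exists_infSq {V W : Over S} (snd : W ⟶ V) (hV : IsAffine V.left)
    (hfo : FOThick snd.left) (top : (yon S).obj W ⟶ X) (bot : (yon S).obj V ⟶ Y)
    (comm : top ≫ f = (yon S).map snd ≫ bot) :
    ∃ (sq : InfSq f) (eV : V ≅ sq.ptT') (eW : sq.ptT ≅ W), eW.hom ≫ snd ≫ eV.hom = sq.j ∧
      sq.top = (yon S).map eW.hom ≫ top ∧ sq.bot = (yon S).map eV.inv ≫ bot := by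
  let R₀ : CommRingCat.{u} := Γ(V.left, ⊤)
  let t₀ : W.left ⟶ Spec R₀ := snd.left ≫ V.left.isoSpec.hom
  have ht₀ : MoreMor.IsFirstOrderThickening t₀ :=
    (FOThick.cancel_right_of_respectsIso snd.left V.left.isoSpec.hom).2 hfo
  obtain ⟨I, hI, E, hE⟩ := exists_iso_SpecMap_mk t₀ ht₀
  let str : Spec (.of R₀) ⟶ S := V.left.isoSpec.inv ≫ V.hom
  have hEW : E.hom ≫ W.hom = Spec.map (CommRingCat.ofHom (Ideal.Quotient.mk I)) ≫ str := by
    rw [← hE, ← Over.w snd]
    simp only [t₀, str, Category.assoc, Iso.hom_inv_id_assoc]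
  let eV : V ≅ Over.mk str := CategoryTheory.Over.isoMk V.left.isoSpec (by simp [str])
  let eW : Over.mk (Spec.map (CommRingCat.ofHom (Ideal.Quotient.mk I)) ≫ str) ≅ W :=
    CategoryTheory.Over.isoMk E hEW
  have hj : eW.hom ≫ snd ≫ eV.hom = (Over.homMk (Spec.map (CommRingCat.ofHom (Ideal.Quotient.mk I))) rfl :
      Over.mk (Spec.map (CommRingCat.ofHom (Ideal.Quotient.mk I)) ≫ str) ⟶ Over.mk str) := by
    apply Over.OverMorphism.ext
    simp only [Over.comp_left, Over.homMk_left, eW, eV, CategoryTheory.Over.isoMk_hom_left]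
    exact hE
  refine ⟨{ A := R₀, I := I, sq_zero := hI, str := str, top := (yon S).map eW.hom ≫ top,
            bot := (yon S).map eV.inv ≫ bot, comm := ?_ }, eV, eW, hj, rfl, rfl⟩
  rw [Category.assoc, comm, ← hj]
  simp only [Functor.map_comp, Category.assoc]
  rw [← Functor.map_comp_assoc (yon S) eV.hom eV.inv, Iso.hom_inv_id, CategoryTheory.Functor.map_id,
    Category.id_comp]

theorem affLift_of_formallySmooth (hf : IsFormallySmoothMor f) :
    AffLift f (fun _ _ => True) := by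
  intro V W snd hV hfo top bot _ comm
  obtain ⟨sq, eV, eW, hj, htop, hbot⟩ := exists_infSq f snd hV hfo top bot comm
  obtain ⟨l₀, h1, h2⟩ := hf sq
  refine ⟨(yon S).map eV.hom ≫ l₀, ?_, ?_⟩
  · have e1 : snd ≫ eV.hom = eW.inv ≫ sq.j := by rw [← hj, Iso.inv_hom_id_assoc]
    rw [← Category.assoc, ← Functor.map_comp, e1, Functor.map_comp, Category.assoc, h1, htop,
      ← Category.assoc, ← Functor.map_comp, Iso.inv_hom_id, CategoryTheory.Functor.map_id, Category.id_comp]
  · rw [Category.assoc, h2, hbot, ← Category.assoc, ← Functor.map_comp, Iso.hom_inv_id,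
      CategoryTheory.Functor.map_id, Category.id_comp]

theorem affUniq_of_formallyUnramified (hf : IsFormallyUnramifiedMor f) :
    AffUniq f (fun _ _ => True) := by
  intro V W snd hV hfo l l' _ h1 h2
  obtain ⟨sq, eV, eW, hj, htop, hbot⟩ := exists_infSq f snd hV hfo ((yon S).map snd ≫ l)
    (l ≫ f) (by rw [Category.assoc])
  have e1 : sq.j ≫ eV.inv = eW.hom ≫ snd := by
    rw [← hj, Category.assoc, Category.assoc, Iso.hom_inv_id, Category.comp_id]
  have key : ∀ m : (yon S).obj V ⟶ X, (yon S).map snd ≫ m = (yon S).map snd ≫ l →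
      m ≫ f = l ≫ f →
      (yon S).map sq.j ≫ (yon S).map eV.inv ≫ m = sq.top ∧
        ((yon S).map eV.inv ≫ m) ≫ f = sq.bot := by
    intro m hm1 hm2
    refine ⟨?_, ?_⟩
    · rw [← Category.assoc, ← Functor.map_comp, e1, Functor.map_comp, Category.assoc, hm1, htop]
    · rw [Category.assoc, hm2, hbot]
  obtain ⟨a1, a2⟩ := key l rfl rfl
  obtain ⟨b1, b2⟩ := key l' h1.symm h2.symm
  have := hf sq _ _ a1 a2 b1 b2
  have h3 := congrArg (fun m => (yon S).map eV.hom ≫ m) this
  simp only [← Category.assoc, ← Functor.map_comp, Iso.hom_inv_id, CategoryTheory.Functor.map_id,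
    Category.id_comp] at h3
  exact h3

theorem stable_true : Stable (X := X) (fun _ _ => True) := fun _ _ _ _ _ => trivial

/-- **S10624**: uniqueness of lifts for formally unramified morphisms along first order
thickenings of algebraic spaces. -/
theorem S10624_main {X Y : AlgSp.Space S} (f : X ⟶ Y)
    (hf : AlgSp.IsFormallyUnramifiedMor f.hom) {T T' : AlgSp.Space S} (j : T ⟶ T')
    (hj : AlgSp.IsFOThickMor j.hom) (a : T ⟶ X) (b : T' ⟶ Y)
    (l l' : T' ⟶ X) (h1 : j ≫ l = a) (h2 : l ≫ f = b) (h3 : j ≫ l' = a) (h4 : l' ≫ f = b) :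
    l = l' := by
  apply ObjectProperty.hom_ext
  refine sp_uniq (f := f.hom) stable_true (affUniq_of_formallyUnramified f.hom hf) T'.property
    j.hom (repWith_FOThick j.hom T'.property hj) l.hom l'.hom trivial ?_ ?_
  · exact congrArg (fun m => m.hom) (h1.trans h3.symm)
  · exact congrArg (fun m => m.hom) (h2.trans h4.symm)

theorem isFormallySmoothMor_of_etale (hf : IsFormallyEtaleMor f) : IsFormallySmoothMor f :=
  fun sq => (hf sq).exists

theorem isFormallyUnramifiedMor_of_etale (hf : IsFormallyEtaleMor f) :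
    IsFormallyUnramifiedMor f := fun sq l l' h1 h2 h3 h4 =>
  (hf sq).unique ⟨h1, h2⟩ ⟨h3, h4⟩

/-- **S10625**: unique lifts for formally etale morphisms along first order thickenings of
algebraic spaces (sheaf-level form). -/
theorem existsUnique_lift (hf : IsFormallyEtaleMor f) {T T' : Sp S} (hT' : IsAlgSpace T')
    (j : T ⟶ T') (hj : IsFOThickMor j) (a : T ⟶ X) (b : T' ⟶ Y) (w : a ≫ f = j ≫ b) :
    ∃! l : T' ⟶ X, j ≫ l = a ∧ l ≫ f = b := by
  have hj' := repWith_FOThick j hT' hj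
  have HU := affUniq_of_formallyUnramified f (isFormallyUnramifiedMor_of_etale f hf)
  have HE := affLift_of_formallySmooth f (isFormallySmoothMor_of_etale f hf)
  obtain ⟨l, hl1, hl2⟩ := sp_lift stable_true HU HE hT' j hj' a b trivial w
  refine ⟨l, ⟨hl1, hl2⟩, ?_⟩
  rintro l' ⟨h1, h2⟩
  exact sp_uniq stable_true HU hT' j hj' l' l trivial (h1.trans hl1.symm) (h2.trans hl2.symm)

theorem S10625_main {X Y : AlgSp.Space S} (f : X ⟶ Y)
    (hf : AlgSp.IsFormallyEtaleMor f.hom) {T T' : AlgSp.Space S} (j : T ⟶ T')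
    (hj : AlgSp.IsFOThickMor j.hom) (a : T ⟶ X) (b : T' ⟶ Y) (w : a ≫ f = j ≫ b) :
    ∃! l : T' ⟶ X, j ≫ l = a ∧ l ≫ f = b := by
  obtain ⟨l, ⟨hl1, hl2⟩, hlu⟩ := existsUnique_lift f.hom hf T'.property j.hom hj a.hom b.hom
    (congrArg (fun m => m.hom) w)
  refine ⟨ObjectProperty.homMk l, ⟨ObjectProperty.hom_ext _ hl1, ObjectProperty.hom_ext _ hl2⟩,
    ?_⟩
  rintro l' ⟨h1, h2⟩
  apply ObjectProperty.hom_ext
  exact hlu l'.hom ⟨congrArg (fun m => m.hom) h1, congrArg (fun m => m.hom) h2⟩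

end Groth.Agent.H7.FOSp4
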