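import Mathlib
import Groth.Prelude.Def_EtBase
import Groth.Prelude.Def_EtAcyc
import Groth.Prelude.Def_EtLim
import Groth.Agent.Lib.Helper7.FT3
import Groth.Agent.Lib.Helper7.ES14
import Groth.Agent.Lib.Helper2.PropIntG

/-! # Killing cohomology classes by finite étale covers of degree prime to the torsion -/

set_option autoImplicit false
universe u
open CategoryTheory CategoryTheory.Limits Opposite AlgebraicGeometry

namespace Groth.Agent.H7.FT

open Groth.Agent.H7.EZ Groth.Agent.H7.ES Groth.Agent.H7.XC EtShriek Groth.Agent.H7.SP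
  Groth.Agent.H7.ST

attribute [local instance] jCont_of_etale

section Rank

variable {X' X : Scheme.{u}} (f : X' ⟶ X) [IsFinite f] [AlgebraicGeometry.Etale f]

theorem finrank_eq_of_card (d : ℕ)
    (hd : ∀ (Ω : Type u) [Field Ω] [IsSepClosed Ω] (ξ : Spec (CommRingCat.of Ω) ⟶ X),
      Nat.card ↥(pullback f ξ) = d) (x : X) : f.finrank x = d := by
  have h := hd (SeparableClosure (X.residueField x)) (geomξ X x)
  rw [Groth.Agent.H6.FibCard.card_eq_finrank_of_sepClosed _ (pullback.snd f (geomξ X x)) default,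
    Scheme.Hom.finrank_pullback_snd, geomξ_default] at h
  exact h

end Rank

section Torsion

variable {X : Scheme.{u}}

lemma exists_bezout (L : Set ℕ) (d : ℕ) (hL : ∀ p : ℕ, p.Prime → p ∈ L → ¬ p ∣ d) (m : ℕ)
    (hm : EtAcyc.PrimesIn L m) : ∃ a b : ℤ, a * m + b * d = 1 := by
  have hc : Nat.Coprime m d := Nat.coprime_of_dvd (fun k hk hkm => hL k hk (hm.2 k hk hkm))
  have := (Nat.isCoprime_iff_coprime.2 hc)
  obtain ⟨a, b, hab⟩ := this
  exact ⟨a, b, hab⟩

set_option backward.isDefEq.respectTransparency false in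
theorem isIso_nsmul_of_torsion (L : Set ℕ) (d : ℕ) (hL : ∀ p : ℕ, p.Prime → p ∈ L → ¬ p ∣ d)
    (F : EtCoh.Ab X) (hF : EtAcyc.IsLTorsion L F) : IsIso (d • 𝟙 F) := by
  have key : ∀ (V : X.Etale) (s : F.obj.obj (op V)) (v : V.left),
      ∃ (W : X.Etale) (g : W ⟶ V) (w : W.left) (b : ℤ), g.left w = v ∧
        F.obj.map g.op s = d • (b • F.obj.map g.op s) := by
    intro V s v
    obtain ⟨W, g, m, ⟨w, hw⟩, hm, hms⟩ := hF V s v
    obtain ⟨a, b, hab⟩ := exists_bezout L d hL m hm
    refine ⟨W, g, w, b, hw, ?_⟩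
    have h1 : F.obj.map g.op s = (a * m + b * d : ℤ) • F.obj.map g.op s := by
      rw [hab, one_smul]
    rw [add_smul, mul_smul, mul_smul, natCast_zsmul, hms, smul_zero, zero_add, natCast_zsmul,
      smul_comm] at h1
    exact h1
  haveI : Mono (d • 𝟙 F) := by
    haveI : ∀ V, Mono ((d • 𝟙 F).hom.app V) := by
      intro V
      obtain ⟨V⟩ := V
      rw [AddCommGrpCat.mono_iff_injective]
      rw [injective_iff_map_eq_zero]
      intro s hs
      have hs' : d • s = 0 := by
        have := nsmul_hom_app d (𝟙 F) V s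
        rw [← hs]
        exact this.symm
      choose W g w b hw hb using key V s
      refine Groth.Agent.H2.SecColim.res_ext F W g (fun v => ⟨v, w v, hw v⟩) _ _ (fun v => ?_)
      change F.obj.map (g v).op s = F.obj.map (g v).op 0
      rw [map_zero, hb v, smul_comm, ← map_nsmul, hs', map_zero, smul_zero]
    haveI : Mono (d • 𝟙 F).hom := NatTrans.mono_of_mono_app _
    exact Sheaf.Hom.mono_of_presheaf_mono _ _ (d • 𝟙 F)
  haveI : Epi (d • 𝟙 F) := by
    haveI : Sheaf.IsLocallySurjective (d • 𝟙 F) := by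
      constructor
      intro V s
      refine ES.sieve_mem_of_jointly_surjective _ (fun v => ?_)
      obtain ⟨W, g, w, b, hw, hb⟩ := key V s v
      refine ⟨W, g, w, ⟨b • F.obj.map g.op s, ?_⟩, hw⟩
      have := nsmul_hom_app d (𝟙 F) W (b • F.obj.map g.op s)
      exact this.trans hb.symm
    infer_instance
  exact isIso_of_mono_of_epi _

end Torsion

section Main

variable {X X' : Scheme.{u}} (f : X' ⟶ X) [IsFinite f] [AlgebraicGeometry.Etale f]

open Abelian in
theorem S8532_main (d : ℕ)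
    (hd : ∀ (Ω : Type u) [Field Ω] [IsSepClosed Ω] (ξ : Spec (CommRingCat.of Ω) ⟶ X),
      Nat.card ↥(pullback f ξ) = d)
    (L : Set ℕ) (hL : ∀ p : ℕ, p.Prime → p ∈ L → ¬ p ∣ d) (F : EtCoh.Ab X)
    (hF : EtAcyc.IsLTorsion L F) [PreservesFiniteLimits (EtCoh.pull f)] (q : ℕ)
    (h : Subsingleton (EtCoh.H X' ((EtCoh.pull f).obj F) q)) :
    Subsingleton (EtCoh.H X F q) := by
  have hrank := finrank_eq_of_card f d hd
  obtain ⟨adj, hadj⟩ := S12531_main f d hrank
  let G := (EtCoh.pull f).obj F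
  have hR : ∀ p : ℕ, 0 < p → IsZero ((EtCoh.Rpush f p).obj G) := fun p hp =>
    Groth.Agent.H2.PropInt.isZero_Rpush_of_integral f G p hp
  have hbij := S14451_main f G hR q
  haveI hsub : Subsingleton (EtCoh.H X ((EtCoh.push f).obj G) q) := hbij.1.subsingleton
  haveI := isIso_nsmul_of_torsion L d hL F hF
  let u := (EtCoh.pullPushAdj f).unit.app F
  let c := adj.counit.app F
  have huc : u ≫ c = d • 𝟙 F := hadj F
  suffices hz : ∀ x : EtCoh.H X F q, x = 0 from ⟨fun x y => by rw [hz x, hz y]⟩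
  intro x
  have h1 : x.comp (Ext.mk₀ (d • 𝟙 F)) (add_zero q) = 0 := by
    rw [← huc, ← Ext.mk₀_comp_mk₀, ← Ext.comp_assoc_of_third_deg_zero]
    have h0 : x.comp (Ext.mk₀ u) (add_zero q) = 0 := hsub.elim _ _
    rw [h0, Ext.zero_comp]
  have h2 : x = (x.comp (Ext.mk₀ (d • 𝟙 F)) (add_zero q)).comp (Ext.mk₀ (inv (d • 𝟙 F)))
      (add_zero q) := by
    rw [Ext.comp_assoc_of_third_deg_zero, Ext.mk₀_comp_mk₀, IsIso.hom_inv_id, Ext.comp_mk₀_id]
  rw [h2, h1, Ext.zero_comp]

end Main

end Groth.Agent.H7.FT
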