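import Mathlib

/-! A multilinear identity for Frobenius/Verschiebung-type operators (helper7, S13683). -/

set_option autoImplicit false
universe u v

namespace Groth.Agent.H7.FVMultilin

theorem iterate_VF {G : Type*} [AddCommGroup G] (p : ℕ) (f v : G →+ G) (h : ∀ x, v (f x) = p • x)
    (n : ℕ) (x : G) : (⇑v)^[n] ((⇑f)^[n] x) = p ^ n • x := by
  induction n generalizing x with
  | zero => simp
  | succ n ih =>
    rw [Function.iterate_succ_apply, Function.iterate_succ_apply', h, iterate_map_nsmul, ih,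
      smul_smul, pow_succ, mul_comm]

theorem main (p : ℕ) {r : ℕ} (hr : 0 < r)
    (M : Fin r → Type u) (N : Type v) [∀ i, AddCommGroup (M i)] [AddCommGroup N]
    (F V : ∀ i, M i →+ M i) (F₀ V₀ : N →+ N)
    (hVF : ∀ i (x : M i), V i (F i x) = p • x) (hVF₀ : ∀ x : N, V₀ (F₀ x) = p • x)
    (hV₀ : Function.Injective V₀)
    (φ : MultilinearMap ℤ M N) (hφ : ∀ x : ∀ i, M i, φ (fun i => V i (x i)) = V₀ (φ x))
    (Nn Mm : ℕ) (d : Fin r → ℕ) (y z : ∀ i, M i)
    (hyz : ∀ i, (⇑(F i))^[Nn] (z i) = (⇑(V i))^[Mm] (y i)) :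
    (⇑F₀)^[Nn] (p ^ ((r - 1) * Nn) • φ (fun i => (⇑(V i))^[d i] (z i))) =
      (⇑V₀)^[Mm] (φ (fun i => (⇑(V i))^[d i] (y i))) := by
  have hφn : ∀ (n : ℕ) (x : ∀ i, M i), φ (fun i => (⇑(V i))^[n] (x i)) = (⇑V₀)^[n] (φ x) := by
    intro n
    induction n with
    | zero => intro x; rfl
    | succ n ih =>
      intro x
      have h1 : (fun i => (⇑(V i))^[n + 1] (x i)) = fun i => V i ((⇑(V i))^[n] (x i)) := by
        funext i
        rw [Function.iterate_succ_apply']
      rw [h1, hφ (fun i => (⇑(V i))^[n] (x i)), ih, Function.iterate_succ_apply']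
  apply hV₀.iterate Nn
  rw [iterate_VF p F₀ V₀ hVF₀, smul_smul, ← pow_add,
    show Nn + (r - 1) * Nn = r * Nn by
      obtain ⟨r', rfl⟩ : ∃ r', r = r' + 1 := ⟨r - 1, by omega⟩
      simp only [Nat.add_sub_cancel]; ring]
  rw [← Function.iterate_add_apply, ← hφn]
  -- the left side: distribute the scalar over the slots
  have h2 : (p ^ (r * Nn) : ℕ) • φ (fun i => (⇑(V i))^[d i] (z i)) =
      φ (fun i => ((p : ℤ) ^ Nn) • (⇑(V i))^[d i] (z i)) := by
    rw [MultilinearMap.map_smul_univ, Finset.prod_const, Finset.card_univ, Fintype.card_fin,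
      ← pow_mul, mul_comm Nn r, ← natCast_zsmul]
    push_cast
    rfl
  rw [h2]
  congr 1
  funext i
  have h3 : ((p : ℤ) ^ Nn) • (⇑(V i))^[d i] (z i) = (⇑(V i))^[d i] ((p ^ Nn : ℕ) • z i) := by
    rw [iterate_map_nsmul, ← natCast_zsmul]
    push_cast
    rfl
  rw [h3, ← iterate_VF p (F i) (V i) (hVF i), hyz i, ← Function.iterate_add_apply,
    ← Function.iterate_add_apply, ← Function.iterate_add_apply]
  congr 1
  omega

end Groth.Agent.H7.FVMultilin
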