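import Mathlib
import Groth.Prelude.Def_FibSite

set_option backward.isDefEq.respectTransparency false

universe v₃ u₃ v₂ u₂ v₁ u₁

open CategoryTheory CategoryTheory.Limits Opposite Pseudofunctor Pseudofunctor.CoGrothendieck Bicategory

namespace Groth.Agent.H7.FibTot

variable {𝒮 : Type u₁} [Category.{v₁} 𝒮]
variable (F : Pseudofunctor (LocallyDiscrete 𝒮ᵒᵖ) Cat.{v₂, u₂})

attribute [local simp] PrelaxFunctor.map₂_eqToHom

/-- vertical morphism (literal form of `ι.map`) -/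
abbrev vert {T : 𝒮} {W W' : F.obj ⟨op T⟩} (φ : W ⟶ W') : (⟨T, W⟩ : ∫ᶜ F) ⟶ ⟨T, W'⟩ :=
  ⟨𝟙 T, φ ≫ (F.mapId ⟨op T⟩).inv.toNatTrans.app W'⟩

/-- cartesian morphism (literal form) -/
abbrev cart {S T : 𝒮} (U : F.obj ⟨op S⟩) (f : T ⟶ S) :
    (⟨T, (F.map f.op.toLoc).toFunctor.obj U⟩ : ∫ᶜ F) ⟶ ⟨S, U⟩ :=
  ⟨f, 𝟙 _⟩

theorem fac' {S T : 𝒮} (U : F.obj ⟨op S⟩) (f : T ⟶ S) (W : F.obj ⟨op T⟩)
    (φ : W ⟶ (F.map f.op.toLoc).toFunctor.obj U) :
    (⟨f, φ⟩ : (⟨T, W⟩ : ∫ᶜ F) ⟶ ⟨S, U⟩) = vert F φ ≫ cart F U f := by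
  refine Hom.ext _ _ ?_ ?_
  · simp
  · simp [F.mapComp_id_right_inv_app, Strict.rightUnitor_eqToIso,
      ← Cat.Hom₂.comp_app]

theorem cart_nat' {S T : 𝒮} (f : T ⟶ S) {U V : F.obj ⟨op S⟩} (r : V ⟶ U) :
    cart F V f ≫ vert F r = vert F ((F.map f.op.toLoc).toFunctor.map r) ≫ cart F U f := by
  refine Hom.ext _ _ ?_ ?_
  · simp
  · simp [F.mapComp_id_right_inv_app, F.mapComp_id_left_inv_app, Strict.rightUnitor_eqToIso,
      Strict.leftUnitor_eqToIso, ← Functor.map_comp_assoc, ← Cat.Hom₂.comp_app]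

theorem vert_comp {T : 𝒮} {W W' W'' : F.obj ⟨op T⟩} (φ : W ⟶ W') (ψ : W' ⟶ W'') :
    vert F (φ ≫ ψ) = vert F φ ≫ vert F ψ :=
  (ι F T).map_comp φ ψ

variable (J : FibSite.Topologies F)

/-- The candidate topology. -/
def K (hF : FibSite.IsPreFibSite F J) : GrothendieckTopology (∫ᶜ F) where
  sieves X := {S | ∃ R ∈ J X.base X.fiber, ∀ ⦃V⦄ (r : V ⟶ X.fiber), R r → S.arrows (vert F r)}
  top_mem' X := ⟨⊤, (J X.base).top_mem _, fun _ _ _ => trivial⟩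
  pullback_stable' := by
    rintro ⟨Xb, Xf⟩ ⟨Yb, Yf⟩ S ⟨gb, gf⟩ ⟨R, hR, hRS⟩
    haveI : (FibSite.invImage F gb).IsContinuous (J Xb) (J Yb) := hF gb
    have hcp : CoverPreserving (J Xb) (J Yb) (FibSite.invImage F gb) :=
      CoverPreserving.of_isContinuous _ _ _
    refine ⟨(R.functorPushforward (FibSite.invImage F gb)).pullback gf,
      (J Yb).pullback_stable gf (hcp.cover_preserve hR), ?_⟩
    intro V h hh
    obtain ⟨V', r, k, hr, hk⟩ := hh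
    show S.arrows (vert F h ≫ (⟨gb, gf⟩ : (⟨Yb, Yf⟩ : ∫ᶜ F) ⟶ ⟨Xb, Xf⟩))
    rw [fac' F Xf gb Yf gf, ← Category.assoc, ← vert_comp, hk, vert_comp, Category.assoc,
      ← cart_nat', ← Category.assoc]
    exact S.downward_closed (hRS r hr) _
  transitive' := by
    rintro ⟨Xb, Xf⟩ S ⟨R, hR, hRS⟩ T hT
    have hT' : ∀ ⦃V⦄ ⦃r : V ⟶ Xf⦄ (hr : R r), ∃ R' ∈ J Xb V,
        ∀ ⦃V'⦄ (r' : V' ⟶ V), R' r' → T.arrows (vert F r' ≫ vert F r) := by
      intro V r hr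
      obtain ⟨R', hR', h⟩ := hT (hRS r hr)
      exact ⟨R', hR', fun V' r' hr' => h r' hr'⟩
    choose R' hR' hR'T using hT'
    refine ⟨Sieve.bind R.arrows (fun V r hr => R' hr), (J Xb).bind_covering hR (fun V r hr => hR' hr),
      ?_⟩
    rintro V m ⟨W, r', r, hr, hr', rfl⟩
    rw [vert_comp]
    exact hR'T hr r' hr'

theorem totalTopology_eq (hF : FibSite.IsPreFibSite F J) : FibSite.totalTopology F J = K F J hF := by
  apply le_antisymm
  · apply FibSite.totalTopology_le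
    intro S U R hR
    exact ⟨R, hR, fun V r hr => Sieve.image_mem_functorPushforward (ι F S) R hr⟩
  · rintro ⟨Xb, Xf⟩ S ⟨R, hR, hRS⟩
    refine (FibSite.totalTopology F J).superset_covering ?_
      (FibSite.functorPushforward_mem_totalTopology (F := F) (J := J) hR)
    rintro Z m ⟨V, r, k, hr, rfl⟩
    exact S.downward_closed (hRS r hr) k

theorem S13508_main (hF : FibSite.IsPreFibSite F J) (X : ∫ᶜ F) (S : Sieve X) :
    S ∈ FibSite.totalTopology F J X ↔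
      ∃ R ∈ J X.base X.fiber, Sieve.functorPushforward (ι F X.base) R ≤ S := by
  rw [totalTopology_eq F J hF]
  constructor
  · rintro ⟨R, hR, hRS⟩
    refine ⟨R, hR, ?_⟩
    rintro Z m ⟨V, r, k, hr, rfl⟩
    exact S.downward_closed (hRS r hr) k
  · rintro ⟨R, hR, hRS⟩
    exact ⟨R, hR, fun V r hr => hRS _ (Sieve.image_mem_functorPushforward (ι F X.base) R hr)⟩

theorem S13510_main (hF : FibSite.IsPreFibSite F J) (S : 𝒮) :
    (ι F S).IsCocontinuous (J S) (FibSite.totalTopology F J) := by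
  refine ⟨fun {U T} hT => ?_⟩
  obtain ⟨R, hR, hRT⟩ := (S13508_main F J hF ((ι F S).obj U) T).mp hT
  refine (J S).superset_covering ?_ hR
  exact (Sieve.functorPushforward_le_iff_le_functorPullback (ι F S) R T).mp hRT

end Groth.Agent.H7.FibTot
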