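import Mathlib
import Groth.Prelude.Def_FibSite
import Groth.Agent.Lib.Helper7.FibTot
import Groth.Agent.Lib.Helper7.ContLI

set_option backward.isDefEq.respectTransparency false

universe w v₃ u₃ v₂ u₂ v₁ u₁

open CategoryTheory CategoryTheory.Limits Opposite Pseudofunctor Pseudofunctor.CoGrothendieck Bicategory

namespace Groth.Agent.H7.FibTot

variable {𝒮 : Type u₁} [Category.{v₁} 𝒮]
variable (F : Pseudofunctor (LocallyDiscrete 𝒮ᵒᵖ) Cat.{v₂, u₂})

/-- general morphism in literal form -/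
abbrev mor {S T : 𝒮} {V : F.obj ⟨op S⟩} {W : F.obj ⟨op T⟩} (f : T ⟶ S)
    (κ : W ⟶ (F.map f.op.toLoc).toFunctor.obj V) : (⟨T, W⟩ : ∫ᶜ F) ⟶ ⟨S, V⟩ := ⟨f, κ⟩

theorem mor_vert {S T : 𝒮} {V V' : F.obj ⟨op S⟩} {W : F.obj ⟨op T⟩} (f : T ⟶ S)
    (κ : W ⟶ (F.map f.op.toLoc).toFunctor.obj V) (r : V ⟶ V') :
    mor F f κ ≫ vert F r = mor F f (κ ≫ (F.map f.op.toLoc).toFunctor.map r) := by
  rw [mor, fac' F V f W κ, Category.assoc, cart_nat', ← Category.assoc, ← vert_comp, ← fac']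

theorem vert_mor {S T : 𝒮} {V : F.obj ⟨op S⟩} {W W' : F.obj ⟨op T⟩} (f : T ⟶ S)
    (κ : W ⟶ (F.map f.op.toLoc).toFunctor.obj V) (w : W' ⟶ W) :
    vert F w ≫ mor F f κ = mor F f (w ≫ κ) := by
  rw [mor, fac' F V f W κ, ← Category.assoc, ← vert_comp, ← fac']

theorem mor_inj {S T : 𝒮} {V : F.obj ⟨op S⟩} {W : F.obj ⟨op T⟩} (f : T ⟶ S)
    (κ κ' : W ⟶ (F.map f.op.toLoc).toFunctor.obj V) (h : mor F f κ = mor F f κ') : κ = κ' := by
  have := (Hom.ext_iff _ _).mp h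
  obtain ⟨h1, h2⟩ := this
  simpa using h2

variable (J : FibSite.Topologies F)

open Presieve in
/-- well-definedness: the key consequence of continuity of the inverse images -/
theorem WD (hF : FibSite.IsPreFibSite F J) (P : (∫ᶜ F)ᵒᵖ ⥤ Type w)
    (hP : Presieve.IsSheaf (FibSite.totalTopology F J) P) {S : 𝒮} {U : F.obj ⟨op S⟩}
    (R : Sieve U) (hR : R ∈ J S U)
    (x : FamilyOfElements ((ι F S).op ⋙ P) R.arrows) (hx : x.Compatible)
    {T : 𝒮} {W : F.obj ⟨op T⟩} (f : T ⟶ S) {V₁ V₂ : F.obj ⟨op S⟩}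
    (r₁ : V₁ ⟶ U) (r₂ : V₂ ⟶ U) (h₁ : R r₁) (h₂ : R r₂)
    (κ₁ : W ⟶ (FibSite.invImage F f).obj V₁) (κ₂ : W ⟶ (FibSite.invImage F f).obj V₂)
    (hκ : κ₁ ≫ (FibSite.invImage F f).map r₁ = κ₂ ≫ (FibSite.invImage F f).map r₂) :
    P.map (mor F f κ₁).op (x r₁ h₁) = P.map (mor F f κ₂).op (x r₂ h₂) := by
  haveI : (FibSite.invImage F f).IsContinuous (J S) (J T) := hF f
  have hE := ContLI.equalizerSieve_mem (FibSite.invImage F f) (J S) (J T) R hR r₁ r₂ h₁ h₂ κ₁ κ₂ hκ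
  let β : ∀ W' : F.obj ⟨op T⟩, ContLI.Pt (FibSite.invImage F f) R W' →
      P.obj (op (⟨T, W'⟩ : ∫ᶜ F)) := fun W' p => P.map (mor F f p.κ).op (x p.r p.hr)
  have hβ : ∀ W' p p', ContLI.Gen (FibSite.invImage F f) R W' p p' → β W' p = β W' p' := by
    rintro W' _ _ ⟨V, V', a, r', hr', hr, κ⟩
    show P.map (mor F f κ).op (x (a ≫ r') hr) =
      P.map (mor F f (κ ≫ (FibSite.invImage F f).map a)).op (x r' hr')
    rw [← mor_vert, op_comp, Functor.map_comp_apply]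
    congr 1
    exact (Presieve.compatible_iff_sieveCompatible _).mp hx r' a hr'
  have hcov := FibSite.functorPushforward_mem_totalTopology (F := F) (J := J) hE
  apply (hP _ hcov).isSeparatedFor.ext
  rintro Z m ⟨W', w, k, hw, rfl⟩
  have h3 := ContLI.apply_eq (FibSite.invImage F f) R β hβ w ⟨V₁, r₁, h₁, κ₁⟩ ⟨V₂, r₂, h₂, κ₂⟩ hw
  replace h3 : P.map (mor F f (w ≫ κ₁)).op (x r₁ h₁) = P.map (mor F f (w ≫ κ₂)).op (x r₂ h₂) := h3
  rw [← vert_mor, ← vert_mor, op_comp, Functor.map_comp_apply, op_comp,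
    Functor.map_comp_apply] at h3
  rw [op_comp, Functor.map_comp_apply, Functor.map_comp_apply]
  exact congrArg (P.map k.op) h3

open Presieve in
/-- general form of well-definedness -/
theorem WD' (hF : FibSite.IsPreFibSite F J) (P : (∫ᶜ F)ᵒᵖ ⥤ Type w)
    (hP : Presieve.IsSheaf (FibSite.totalTopology F J) P) {S : 𝒮} {U : F.obj ⟨op S⟩}
    (R : Sieve U) (hR : R ∈ J S U)
    (x : FamilyOfElements ((ι F S).op ⋙ P) R.arrows) (hx : x.Compatible)
    {Z : ∫ᶜ F} {V₁ V₂ : F.obj ⟨op S⟩}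
    (r₁ : V₁ ⟶ U) (r₂ : V₂ ⟶ U) (h₁ : R r₁) (h₂ : R r₂)
    (k₁ : Z ⟶ (ι F S).obj V₁) (k₂ : Z ⟶ (ι F S).obj V₂)
    (hk : k₁ ≫ (ι F S).map r₁ = k₂ ≫ (ι F S).map r₂) :
    P.map k₁.op (x r₁ h₁) = P.map k₂.op (x r₂ h₂) := by
  obtain ⟨T, W⟩ := Z
  obtain ⟨f₁, κ₁⟩ := k₁
  obtain ⟨f₂, κ₂⟩ := k₂
  have hf : f₁ = f₂ := by
    have h0 : f₁ ≫ 𝟙 S = f₂ ≫ 𝟙 S := congrArg Hom.base hk
    exact (Category.comp_id f₁).symm.trans (h0.trans (Category.comp_id f₂))
  subst hf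
  have hk' : mor F f₁ κ₁ ≫ vert F r₁ = mor F f₁ κ₂ ≫ vert F r₂ := hk
  rw [mor_vert, mor_vert] at hk'
  exact WD F J hF P hP R hR x hx f₁ r₁ r₂ h₁ h₂ κ₁ κ₂ (mor_inj F f₁ _ _ hk')

open Presieve in
theorem isSheaf_restrict (hF : FibSite.IsPreFibSite F J) (P : (∫ᶜ F)ᵒᵖ ⥤ Type w)
    (hP : Presieve.IsSheaf (FibSite.totalTopology F J) P) (S : 𝒮) :
    Presieve.IsSheaf (J S) ((ι F S).op ⋙ P) := by
  intro U R hR x hx
  let T := R.functorPushforward (ι F S)
  have hT : T ∈ FibSite.totalTopology F J ((ι F S).obj U) :=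
    FibSite.functorPushforward_mem_totalTopology (F := F) (J := J) hR
  have key : ∀ {Z : ∫ᶜ F} (m : Z ⟶ (ι F S).obj U) (hm : T.arrows m), ∃ t : P.obj (op Z),
      ∀ (V : F.obj ⟨op S⟩) (r : V ⟶ U) (k : Z ⟶ (ι F S).obj V) (hr : R r),
        m = k ≫ (ι F S).map r → t = P.map k.op (x r hr) := by
    rintro Z m ⟨V₀, r₀, k₀, hr₀, hm₀⟩
    refine ⟨P.map k₀.op (x r₀ hr₀), ?_⟩
    intro V r k hr hm
    exact WD' F J hF P hP R hR x hx r₀ r hr₀ hr k₀ k (hm₀.symm.trans hm)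
  choose x' hx' using @key
  have hx'c : FamilyOfElements.Compatible (P := P) (R := T.arrows) (fun Z m hm => x' m hm) := by
    rw [Presieve.compatible_iff_sieveCompatible]
    intro Z Z' m g hm
    obtain ⟨V₀, r₀, k₀, hr₀, hm₀⟩ := id hm
    show x' (g ≫ m) _ = P.map g.op (x' m hm)
    rw [hx' (g ≫ m) _ V₀ r₀ (g ≫ k₀) hr₀ (by rw [hm₀, Category.assoc]),
      hx' m _ V₀ r₀ k₀ hr₀ hm₀, op_comp, Functor.map_comp_apply]
  obtain ⟨t, ht, htu⟩ := hP T hT _ hx'c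
  refine ⟨t, ?_, ?_⟩
  · intro V r hr
    have h1 := ht ((ι F S).map r) (Sieve.image_mem_functorPushforward (ι F S) R hr)
    have h2 := hx' ((ι F S).map r) (Sieve.image_mem_functorPushforward (ι F S) R hr) V r (𝟙 _) hr
      (by rw [Category.id_comp])
    show P.map ((ι F S).map r).op t = x r hr
    rw [h1]
    show x' ((ι F S).map r) _ = x r hr
    rw [h2]
    simp
  · intro t' ht'
    apply htu
    rintro Z m ⟨V₀, r₀, k₀, hr₀, hm₀⟩
    have h1 : P.map ((ι F S).map r₀).op t' = x r₀ hr₀ := ht' r₀ hr₀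
    show P.map m.op t' = x' m _
    rw [hx' m _ V₀ r₀ k₀ hr₀ hm₀, ← h1, ← Functor.map_comp_apply, ← op_comp, ← hm₀]

theorem ι_isContinuous (hF : FibSite.IsPreFibSite F J) (S : 𝒮) :
    (ι F S).IsContinuous (J S) (FibSite.totalTopology F J) := by
  refine ⟨fun G => ?_⟩
  exact isSheaf_restrict F J hF G.obj ((isSheaf_iff_isSheaf_of_type _ _).mp G.property) S

open Presieve in
/-- Lemma A: a presheaf whose restriction to the fibre is a sheaf satisfies the sheaf condition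
for images of covering sieves of the fibre. -/
theorem isSheafFor_pushforward (Q : (∫ᶜ F)ᵒᵖ ⥤ Type w) {S : 𝒮}
    (hQ : Presieve.IsSheaf (J S) ((ι F S).op ⋙ Q)) {U : F.obj ⟨op S⟩} (R : Sieve U)
    (hR : R ∈ J S U) : IsSheafFor Q (R.functorPushforward (ι F S)).arrows := by
  intro x hx
  have hxs := (Presieve.compatible_iff_sieveCompatible _).mp hx
  let y : FamilyOfElements ((ι F S).op ⋙ Q) R.arrows := fun V r hr =>
    x ((ι F S).map r) (Sieve.image_mem_functorPushforward (ι F S) R hr)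
  have hy : y.Compatible := by
    rw [Presieve.compatible_iff_sieveCompatible]
    intro V V' r a hr
    show x ((ι F S).map (a ≫ r)) _ = Q.map ((ι F S).map a).op (x ((ι F S).map r) _)
    rw [← hxs]
    congr 1
    exact (ι F S).map_comp a r
  obtain ⟨t, ht, htu⟩ := hQ R hR y hy
  refine ⟨t, ?_, ?_⟩
  · rintro Z m ⟨V₀, r₀, k₀, hr₀, hm₀⟩
    have h1 : Q.map ((ι F S).map r₀).op t = x ((ι F S).map r₀) _ := ht r₀ hr₀
    subst hm₀
    rw [op_comp, Functor.map_comp_apply, h1, ← hxs]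
  · intro t' ht'
    apply htu
    intro V r hr
    exact ht' ((ι F S).map r) _

/-- sheaf criterion, type-valued -/
theorem isSheaf_of_restrict (hF : FibSite.IsPreFibSite F J) (Q : (∫ᶜ F)ᵒᵖ ⥤ Type w)
    (hQ : ∀ S, Presieve.IsSheaf (J S) ((ι F S).op ⋙ Q)) :
    Presieve.IsSheaf (FibSite.totalTopology F J) Q := by
  rw [totalTopology_eq F J hF]
  have hsep : ∀ (X : ∫ᶜ F) (T : Sieve X), T ∈ K F J hF X → Presieve.IsSeparatedFor Q T.arrows := by
    rintro ⟨Xb, Xf⟩ T ⟨R, hR, hRT⟩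
    have h1 := (isSheafFor_pushforward F J Q (hQ Xb) R hR).isSeparatedFor
    intro x t₁ t₂ ht₁ ht₂
    apply h1.ext
    rintro Z m ⟨V₀, r₀, k₀, hr₀, rfl⟩
    have hm : T.arrows (k₀ ≫ (ι F Xb).map r₀) := T.downward_closed (hRT r₀ hr₀) k₀
    exact (ht₁ _ hm).trans (ht₂ _ hm).symm
  rintro ⟨Xb, Xf⟩ T ⟨R, hR, hRT⟩
  have hle : (R.functorPushforward (ι F Xb)).arrows ≤ T.arrows := by
    rintro Z m ⟨V₀, r₀, k₀, hr₀, rfl⟩
    exact T.downward_closed (hRT r₀ hr₀) k₀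
  refine Presieve.isSheafFor_subsieve_aux Q hle (isSheafFor_pushforward F J Q (hQ Xb) R hR) ?_
  intro Y f hf
  apply hsep
  apply (K F J hF).pullback_stable
  exact ⟨R, hR, fun V r hr => Sieve.image_mem_functorPushforward (ι F Xb) R hr⟩

theorem S13511_main (hF : FibSite.IsPreFibSite F J) {A : Type u₃} [Category.{v₃} A]
    (P : (∫ᶜ F)ᵒᵖ ⥤ A) :
    Presheaf.IsSheaf (FibSite.totalTopology F J) P ↔
      ∀ S : 𝒮, Presheaf.IsSheaf (J S) ((ι F S).op ⋙ P) := by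
  constructor
  · intro hP S
    haveI := ι_isContinuous F J hF S
    exact Functor.op_comp_isSheaf_of_isSheaf (ι F S) (J S) (FibSite.totalTopology F J) P hP
  · intro h E
    apply isSheaf_of_restrict F J hF
    intro S
    exact h S E

theorem S13512_main (hF : FibSite.IsPreFibSite F J) {D : Type u₃} [Category.{v₃} D]
    (K' : GrothendieckTopology D) (m : ∫ᶜ F ⥤ D) :
    m.IsContinuous (FibSite.totalTopology F J) K' ↔
      ∀ S : 𝒮, (ι F S ⋙ m).IsContinuous (J S) K' := by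
  constructor
  · intro hm S
    haveI := ι_isContinuous F J hF S
    exact Functor.isContinuous_comp (ι F S) m (J S) (FibSite.totalTopology F J) K'
  · intro h
    refine ⟨fun G => ?_⟩
    apply isSheaf_of_restrict F J hF
    intro S
    haveI := h S
    exact Functor.op_comp_isSheaf_of_types (ι F S ⋙ m) (J S) K' G

theorem vert_injective {T : 𝒮} {W W' : F.obj ⟨op T⟩} (φ ψ : W ⟶ W') (h : vert F φ = vert F ψ) :
    φ = ψ := by
  have h2 := mor_inj F (𝟙 T) _ _ h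
  exact (cancel_mono _).mp h2

/-- a morphism between objects of a fibre whose base is the identity is vertical -/
theorem exists_vert {S : 𝒮} {V V' : F.obj ⟨op S⟩} (k : (⟨S, V⟩ : ∫ᶜ F) ⟶ ⟨S, V'⟩)
    (hk : k.base = 𝟙 S) : ∃ φ : V ⟶ V', k = vert F φ := by
  obtain ⟨b, φ⟩ := k
  dsimp at hk
  subst hk
  refine ⟨φ ≫ (F.mapId ⟨op S⟩).hom.toNatTrans.app V', ?_⟩
  refine Hom.ext _ _ rfl ?_
  simp [← Cat.Hom₂.comp_app]

theorem S13509_main (hF : FibSite.IsPreFibSite F J) (S : 𝒮) :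
    (ι F S).inducedTopology (FibSite.totalTopology F J) = J S := by
  apply le_antisymm
  · intro U T hT
    have hcp : CoverPreserving ((ι F S).inducedTopology (FibSite.totalTopology F J))
        (FibSite.totalTopology F J) (ι F S) := CoverPreserving.of_isContinuous _ _ _
    have h1 := hcp.cover_preserve hT
    rw [totalTopology_eq F J hF] at h1
    obtain ⟨R, hR, hRT⟩ := h1
    refine (J S).superset_covering ?_ hR
    intro V r hr
    obtain ⟨V', t, k, ht, hk⟩ := hRT r hr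
    have hb : k.base = 𝟙 S := by
      have h0 : 𝟙 S = k.base ≫ 𝟙 S := congrArg Hom.base hk
      exact ((Category.comp_id _).symm.trans h0.symm)
    obtain ⟨φ, rfl⟩ := exists_vert F k hb
    have h2 : vert F r = vert F (φ ≫ t) := by
      rw [vert_comp]; exact hk
    rw [vert_injective F _ _ h2]
    exact T.downward_closed ht φ
  · rw [Functor.le_inducedTopology_iff]
    exact ι_isContinuous F J hF S

end Groth.Agent.H7.FibTot
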