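import Mathlib

open CategoryTheory Limits

namespace Groth.Agent.H7.MultiInit

universe v₁ u₁ v₂ u₂ w

variable {Jc : Type u₁} [Category.{v₁} Jc] {A : Type u₂} [Category.{v₂} A] (D : Jc ⥤ A)
  {ι : Type w} (g : ι → Jc) (k : Jc → ι) (m : ∀ t, g (k t) ⟶ t)
  (huniq : ∀ t k' (m' : g k' ⟶ t), (⟨k', m'⟩ : Σ k, g k ⟶ t) = ⟨k t, m t⟩)

include huniq in
theorem key (s : Fan (fun x => D.obj (g x))) (t : Jc) (k' : ι) (m' : g k' ⟶ t) :
    s.proj k' ≫ D.map m' = s.proj (k t) ≫ D.map (m t) :=
  congrArg (fun p : Σ k, g k ⟶ t => s.proj p.1 ≫ D.map p.2) (huniq t k' m')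

/-- cone from a fan on the multi-initial family -/
def coneOfFan (s : Fan (fun x => D.obj (g x))) : Cone D where
  pt := s.pt
  π :=
    { app := fun t => s.proj (k t) ≫ D.map (m t)
      naturality := fun t t' φ => by
        dsimp
        rw [Category.id_comp, Category.assoc, ← D.map_comp]
        exact (key D g k m huniq s t' (k t) (m t ≫ φ)).symm }

/-- a limit cone restricts to a limit fan on a multi-initial family -/
def isLimitFan (c : Cone D) (hc : IsLimit c) :
    IsLimit (Fan.mk c.pt (fun x => c.π.app (g x))) :=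
  mkFanLimit _ (fun s => hc.lift (coneOfFan D g k m huniq s))
    (fun s x => by
      have h1 := hc.fac (coneOfFan D g k m huniq s) (g x)
      have h2 := key D g k m huniq s (g x) x (𝟙 _)
      rw [D.map_id, Category.comp_id] at h2
      exact h1.trans h2.symm)
    (fun s l hl => by
      apply hc.uniq (coneOfFan D g k m huniq s)
      intro t
      have h1 : l ≫ c.π.app (g (k t)) = s.proj (k t) := hl (k t)
      show l ≫ c.π.app t = s.proj (k t) ≫ D.map (m t)
      rw [← h1, Category.assoc, c.w])

end Groth.Agent.H7.MultiInit
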