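import Mathlib
import Groth.Prelude.Def_FibSite
import Groth.Agent.Lib.Helper7.FibTot
import Groth.Agent.Lib.Helper7.FibCont
import Groth.Agent.Lib.Helper7.MultiInit

set_option backward.isDefEq.respectTransparency false

universe w v₃ u₃ v₂ u₂ v₁ u₁ u

open CategoryTheory CategoryTheory.Limits Opposite Pseudofunctor Pseudofunctor.CoGrothendieck Bicategory

namespace Groth.Agent.H7.FibTot

variable {𝒮 : Type u₁} [Category.{v₁} 𝒮]
variable (F : Pseudofunctor (LocallyDiscrete 𝒮ᵒᵖ) Cat.{v₂, u₂})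

/-- the natural transformation `f^* ⋙ ι_i ⟶ ι_j` of cartesian morphisms -/
def cartNT {i j : 𝒮} (f : i ⟶ j) : FibSite.invImage F f ⋙ ι F i ⟶ ι F j where
  app V := cart F V f
  naturality V U r := (cart_nat' F f r).symm

section
variable {i j : 𝒮} (V : F.obj ⟨op j⟩)

/-- the multi-initial family in the structured arrow category -/
def gSA (f : i ⟶ j) : StructuredArrow (op ((ι F j).obj V)) (ι F i).op :=
  StructuredArrow.mk (Y := op ((FibSite.invImage F f).obj V)) (cart F V f).op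

def kSA (t : StructuredArrow (op ((ι F j).obj V)) (ι F i).op) : i ⟶ j := t.hom.unop.base

def mSA (t : StructuredArrow (op ((ι F j).obj V)) (ι F i).op) : gSA F V (kSA F V t) ⟶ t :=
  StructuredArrow.homMk (t.hom.unop.fiber).op (by
    apply Quiver.Hom.unop_inj
    exact (fac' F V t.hom.unop.base t.right.unop t.hom.unop.fiber).symm)

theorem huniqSA (t : StructuredArrow (op ((ι F j).obj V)) (ι F i).op) (k' : i ⟶ j)
    (m' : gSA F V k' ⟶ t) :
    (⟨k', m'⟩ : Σ k, gSA F V k ⟶ t) = ⟨kSA F V t, mSA F V t⟩ := by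
  obtain ⟨⟨⟨⟩⟩, ⟨W⟩, ⟨⟨f, κ⟩⟩⟩ := t
  have hw := StructuredArrow.w m'
  have hw2 : mor F f κ = mor F k' m'.right.unop := by
    have := congrArg Quiver.Hom.unop hw
    exact this.symm.trans (fac' F V k' W m'.right.unop).symm
  have hb : f = k' := congrArg Hom.base hw2
  subst hb
  have hκ := mor_inj F f _ _ hw2
  refine Sigma.ext rfl (heq_of_eq ?_)
  apply StructuredArrow.hom_ext
  exact (congrArg Quiver.Hom.op hκ).symm

end

theorem S13527_main {𝒮 : Type u} [SmallCategory 𝒮]
    (F : Pseudofunctor (LocallyDiscrete 𝒮ᵒᵖ) Cat.{u, u}) (J : FibSite.Topologies F)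
    (i j : 𝒮)
    [∀ S : 𝒮, (ι F S).IsContinuous (J S) (FibSite.totalTopology F J)]
    [(ι F i).IsCocontinuous (J i) (FibSite.totalTopology F J)]
    [∀ (P : (F.obj ⟨op i⟩)ᵒᵖ ⥤ Type u), (ι F i).op.HasPointwiseRightKanExtension P]
    [∀ (R S : 𝒮) (f : R ⟶ S), (FibSite.invImage F f).IsContinuous (J S) (J R)]
    (a : Sheaf (J i) (Type u)) :
    ∃ c : Fan fun f : i ⟶ j => ((FibSite.invImage F f).sheafPushforwardContinuous (Type u) (J j) (J i)).obj a,
      Nonempty (IsLimit c) ∧
        Nonempty (c.pt ≅ (FibSite.restr F J (Type u) j).obj ((FibSite.coextend F J (Type u) i).obj a)) := by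
  let T := (FibSite.restr F J (Type u) j).obj ((FibSite.coextend F J (Type u) i).obj a)
  let R := (ι F i).op.ran.obj a.obj
  let π : ∀ f : i ⟶ j, T ⟶ ((FibSite.invImage F f).sheafPushforwardContinuous (Type u) (J j) (J i)).obj a :=
    fun f => ⟨Functor.whiskerRight (NatTrans.op (cartNT F f)) R ≫
      Functor.whiskerLeft (FibSite.invImage F f).op ((ι F i).op.ranCounit.app a.obj)⟩
  refine ⟨Fan.mk T π, ⟨?_⟩, ⟨Iso.refl _⟩⟩
  apply isLimitOfReflects (sheafToPresheaf (J j) (Type u))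
  apply evaluationJointlyReflectsLimits
  intro V
  have h := MultiInit.isLimitFan (StructuredArrow.proj (op ((ι F j).obj V.unop)) (ι F i).op ⋙ a.obj)
    (gSA F V.unop) (kSA F V.unop) (mSA F V.unop) (huniqSA F V.unop)
    ((Functor.RightExtension.mk _ ((ι F i).op.ranCounit.app a.obj)).coneAt (op ((ι F j).obj V.unop)))
    ((ι F i).op.isPointwiseRightKanExtensionRanCounit a.obj (op ((ι F j).obj V.unop)))
  exact (isLimitMapConeFanMkEquiv (sheafToPresheaf (J j) (Type u) ⋙ (evaluation _ _).obj V) _ π).symm h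

end Groth.Agent.H7.FibTot
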