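import Mathlib
import Groth.Prelude.Def_FibSite
import Groth.Agent.Lib.Helper7.FibKan
import Groth.Agent.Lib.Helper7.AdjCoprod

set_option backward.isDefEq.respectTransparency false

universe w v₃ u₃ v₂ u₂ v₁ u₁ u

open CategoryTheory CategoryTheory.Limits Opposite Pseudofunctor Pseudofunctor.CoGrothendieck Bicategory

namespace Groth.Agent.H7.FibTot

section
variable {𝒮 : Type u} [SmallCategory 𝒮]
    (F : Pseudofunctor (LocallyDiscrete 𝒮ᵒᵖ) Cat.{u, u}) (J : FibSite.Topologies F)

instance hasPointwiseRan (i : 𝒮) (P : (F.obj ⟨op i⟩)ᵒᵖ ⥤ Type u) :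
    (ι F i).op.HasPointwiseRightKanExtension P := fun _ => inferInstance

variable (i j : 𝒮)
    [∀ S : 𝒮, (ι F S).IsContinuous (J S) (FibSite.totalTopology F J)]
    [∀ (R S : 𝒮) (f : R ⟶ S), (FibSite.invImage F f).IsContinuous (J S) (J R)]

/-- the natural transformation `restr_i ⟶ restr_j ⋙ (f^*)_*` for `f : j ⟶ i`. -/
noncomputable def ρ (f : j ⟶ i) : FibSite.restr F J (Type u) i ⟶ FibSite.restr F J (Type u) j ⋙
    (FibSite.invImage F f).sheafPushforwardContinuous (Type u) (J i) (J j) where
  app X := ⟨Functor.whiskerRight (NatTrans.op (cartNT F f)) X.obj⟩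
  naturality X Y φ := by
    apply Sheaf.hom_ext
    apply NatTrans.ext
    funext W
    exact (φ.hom.naturality _).symm

variable [(ι F j).IsCocontinuous (J j) (FibSite.totalTopology F J)]

noncomputable def isLimitFan (b : Sheaf (J j) (Type u)) :
    IsLimit (Fan.mk ((FibSite.restr F J (Type u) i).obj ((FibSite.coextend F J (Type u) j).obj b))
      (fun f : j ⟶ i => (ρ F J i j f).app ((FibSite.coextend F J (Type u) j).obj b) ≫
        ((FibSite.invImage F f).sheafPushforwardContinuous (Type u) (J i) (J j)).map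
          (((ι F j).sheafAdjunctionCocontinuous (Type u) (J j) (FibSite.totalTopology F J)).counit.app b))) := by
  apply isLimitOfReflects (sheafToPresheaf (J i) (Type u))
  apply evaluationJointlyReflectsLimits
  intro V
  have h := MultiInit.isLimitFan (StructuredArrow.proj (op ((ι F i).obj V.unop)) (ι F j).op ⋙ b.obj)
    (gSA F V.unop) (kSA F V.unop) (mSA F V.unop) (huniqSA F V.unop)
    ((Functor.RightExtension.mk _ ((ι F j).op.ranCounit.app b.obj)).coneAt (op ((ι F i).obj V.unop)))
    ((ι F j).op.isPointwiseRightKanExtensionRanCounit b.obj (op ((ι F i).obj V.unop)))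
  refine (isLimitMapConeFanMkEquiv (sheafToPresheaf (J i) (Type u) ⋙ (evaluation _ _).obj V) _
    (fun f : j ⟶ i => (ρ F J i j f).app ((FibSite.coextend F J (Type u) j).obj b) ≫
        ((FibSite.invImage F f).sheafPushforwardContinuous (Type u) (J i) (J j)).map
          (((ι F j).sheafAdjunctionCocontinuous (Type u) (J j) (FibSite.totalTopology F J)).counit.app b))).symm
    (IsLimit.ofIsoLimit h (Fan.ext (Iso.refl _) (fun f => ?_)))
  have hc := (ι F j).sheafAdjunctionCocontinuous_counit_app_hom (Type u) (J j) (FibSite.totalTopology F J) b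
  rw [Functor.ranAdjunction_counit] at hc
  show ((ι F j).op.ran.obj b.obj).map (cart F V.unop f).op ≫
      ((ι F j).op.ranCounit.app b.obj).app (op ((FibSite.invImage F f).obj V.unop)) =
    𝟙 _ ≫ (((ι F j).op.ran.obj b.obj).map (cart F V.unop f).op ≫
      (((ι F j).sheafAdjunctionCocontinuous (Type u) (J j) (FibSite.totalTopology F J)).counit.app b).hom.app
        (op ((FibSite.invImage F f).obj V.unop)))
  rw [Category.id_comp, hc]

end

theorem S13526_main {𝒮 : Type u} [SmallCategory 𝒮]
    (F : Pseudofunctor (LocallyDiscrete 𝒮ᵒᵖ) Cat.{u, u}) (J : FibSite.Topologies F)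
    (hF : FibSite.IsFibSite F J) (i j : 𝒮)
    [∀ S : 𝒮, (ι F S).IsContinuous (J S) (FibSite.totalTopology F J)]
    [((ι F i).sheafPushforwardContinuous (Type u) (J i) (FibSite.totalTopology F J)).IsRightAdjoint]
    [∀ (R S : 𝒮) (f : R ⟶ S), (FibSite.invImage F f).IsContinuous (J S) (J R)]
    [∀ (R S : 𝒮) (f : R ⟶ S),
      ((FibSite.invImage F f).sheafPushforwardContinuous (Type u) (J S) (J R)).IsRightAdjoint]
    (a : Sheaf (J i) (Type u)) :
    ∃ c : Cofan fun f : j ⟶ i => ((FibSite.invImage F f).sheafPullback (Type u) (J i) (J j)).obj a,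
      Nonempty (IsColimit c) ∧
        Nonempty (c.pt ≅ (FibSite.restr F J (Type u) j).obj ((FibSite.extend F J (Type u) i).obj a)) := by
  haveI : (ι F j).IsCocontinuous (J j) (FibSite.totalTopology F J) :=
    S13510_main F J hF.isPreFibSite j
  exact ⟨AdjCoprod.cofan ((ι F i).sheafAdjunctionContinuous (Type u) (J i) (FibSite.totalTopology F J))
      (fun f : j ⟶ i => (FibSite.invImage F f).sheafAdjunctionContinuous (Type u) (J i) (J j))
      (ρ F J i j) a,
    ⟨AdjCoprod.isColimit ((ι F i).sheafAdjunctionContinuous (Type u) (J i) (FibSite.totalTopology F J))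
      ((ι F j).sheafAdjunctionCocontinuous (Type u) (J j) (FibSite.totalTopology F J))
      (fun f : j ⟶ i => (FibSite.invImage F f).sheafAdjunctionContinuous (Type u) (J i) (J j))
      (ρ F J i j) (isLimitFan F J i j) a⟩, ⟨Iso.refl _⟩⟩

end Groth.Agent.H7.FibTot
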