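import Mathlib
import Groth.Prelude.Def_FibSite
import Groth.Agent.Lib.Helper7.FibKan2

set_option backward.isDefEq.respectTransparency false

universe w v₃ u₃ v₂ u₂ v₁ u₁ u

open CategoryTheory CategoryTheory.Limits Opposite Pseudofunctor Pseudofunctor.CoGrothendieck Bicategory

namespace Groth.Agent.H7.AdjCoprod

variable {𝒯 : Type u₁} [Category.{v₁} 𝒯] {𝒜 : Type u₂} [Category.{v₂} 𝒜]
  {ℬ : Type u₃} [Category.{v₃} ℬ] {Φ : Type w}
  {E : 𝒜 ⥤ 𝒯} {Ri : 𝒯 ⥤ 𝒜} (adjE : E ⊣ Ri)
  {Rj : 𝒯 ⥤ ℬ} {Cj : ℬ ⥤ 𝒯} (adjR : Rj ⊣ Cj)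
  {P : Φ → (ℬ ⥤ 𝒜)} {Q : Φ → (𝒜 ⥤ ℬ)} (adj : ∀ f, Q f ⊣ P f)
  (ρ : ∀ f, Ri ⟶ Rj ⋙ P f)

/-- the injections of the cofan as a natural transformation -/
def τ (f : Φ) : Q f ⟶ E ⋙ Rj where
  app a := ((adj f).homEquiv _ _).symm (adjE.unit.app a ≫ (ρ f).app (E.obj a))
  naturality a a' g := by
    rw [← Adjunction.homEquiv_naturality_left_symm]
    dsimp
    rw [← Adjunction.homEquiv_naturality_right_symm]
    congr 1
    have h1 := adjE.unit.naturality g
    have h2 := (ρ f).naturality (E.map g)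
    dsimp at h1 h2
    rw [reassoc_of% h1, Category.assoc, h2]

theorem isIso_inj_of_unique {C : Type*} [Category C] {ι : Type*} [Unique ι] {f : ι → C}
    (c : Cofan f) (hc : IsColimit c) : IsIso (c.inj default) := by
  let s : Cofan f := Cofan.mk (f default) (fun x => eqToHom (by rw [Unique.eq_default x]))
  refine ⟨Cofan.IsColimit.desc hc s.inj, ?_, ?_⟩
  · have := Cofan.IsColimit.fac hc s.inj default
    rw [this]
    rfl
  · apply Cofan.IsColimit.hom_ext hc
    intro x
    cases Unique.eq_default x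
    rw [Cofan.IsColimit.fac_assoc]
    simp [s]

theorem isIso_τ [Unique Φ] (hlim : ∀ b : ℬ, IsLimit (Fan.mk (Ri.obj (Cj.obj b))
      (fun f => (ρ f).app (Cj.obj b) ≫ (P f).map (adjR.counit.app b)))) :
    IsIso (τ adjE adj ρ (default : Φ)) := by
  apply (config := {allowSynthFailures := true}) NatIso.isIso_of_isIso_app
  intro a
  exact isIso_inj_of_unique _ (isColimit adjE adjR adj ρ hlim a)

end Groth.Agent.H7.AdjCoprod

namespace Groth.Agent.H7.FibTot

/-- restrictions to the fibres jointly reflect limits -/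
noncomputable def isLimitOfRestr {𝒮 : Type u} [SmallCategory 𝒮]
    (F : Pseudofunctor (LocallyDiscrete 𝒮ᵒᵖ) Cat.{u, u}) (J : FibSite.Topologies F)
    [∀ S : 𝒮, (ι F S).IsContinuous (J S) (FibSite.totalTopology F J)]
    {Kc : Type} [SmallCategory Kc] [FinCategory Kc] {D : Kc ⥤ FibSite.TotSh F J (Type u)} (c : Cone D)
    (h : ∀ j, IsLimit ((FibSite.restr F J (Type u) j).mapCone c)) : IsLimit c := by
  apply isLimitOfReflects (sheafToPresheaf _ _)
  apply evaluationJointlyReflectsLimits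
  intro X
  obtain ⟨⟨j, V⟩⟩ := X
  exact isLimitOfPreserves ((sheafToPresheaf (J j) (Type u)) ⋙ (evaluation _ _).obj (op V)) (h j)

theorem S13514_main {𝒮 : Type u} [SmallCategory 𝒮]
    (F : Pseudofunctor (LocallyDiscrete 𝒮ᵒᵖ) Cat.{u, u}) (J : FibSite.Topologies F)
    (hF : FibSite.IsFibSite F J) (i : 𝒮) (hi : IsTerminal i)
    [(ι F i).IsContinuous (J i) (FibSite.totalTopology F J)]
    [((ι F i).sheafPushforwardContinuous (Type u) (J i) (FibSite.totalTopology F J)).IsRightAdjoint] :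
    PreservesFiniteLimits (FibSite.extend F J (Type u) i) := by
  haveI : ∀ S : 𝒮, (ι F S).IsContinuous (J S) (FibSite.totalTopology F J) :=
    fun S => ι_isContinuous F J hF.isPreFibSite S
  haveI : ∀ (R S : 𝒮) (f : R ⟶ S), (FibSite.invImage F f).IsContinuous (J S) (J R) :=
    fun R S f => (hF f).choose
  haveI : ∀ (R S : 𝒮) (f : R ⟶ S),
      ((FibSite.invImage F f).sheafPushforwardContinuous (Type u) (J S) (J R)).IsRightAdjoint :=
    fun R S f => (hF f).choose_spec.choose
  have hlex : ∀ (R S : 𝒮) (f : R ⟶ S),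
      PreservesFiniteLimits ((FibSite.invImage F f).sheafPullback (Type u) (J S) (J R)) :=
    fun R S f => (hF f).choose_spec.choose_spec
  constructor
  intro Kc _ _
  constructor
  intro D
  constructor
  intro c hc
  refine ⟨isLimitOfRestr F J _ (fun j => ?_)⟩
  haveI : (ι F j).IsCocontinuous (J j) (FibSite.totalTopology F J) :=
    S13510_main F J hF.isPreFibSite j
  haveI : Unique (j ⟶ i) := ⟨⟨hi.from j⟩, fun f => hi.hom_ext _ _⟩
  haveI := AdjCoprod.isIso_τ ((ι F i).sheafAdjunctionContinuous (Type u) (J i) (FibSite.totalTopology F J))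
      ((ι F j).sheafAdjunctionCocontinuous (Type u) (J j) (FibSite.totalTopology F J))
      (fun f : j ⟶ i => (FibSite.invImage F f).sheafAdjunctionContinuous (Type u) (J i) (J j))
      (ρ F J i j) (isLimitFan F J i j)
  haveI := hlex j i default
  have hpres : PreservesFiniteLimits (FibSite.extend F J (Type u) i ⋙ FibSite.restr F J (Type u) j) :=
    preservesFiniteLimits_of_natIso (asIso (AdjCoprod.τ
      ((ι F i).sheafAdjunctionContinuous (Type u) (J i) (FibSite.totalTopology F J))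
      (fun f : j ⟶ i => (FibSite.invImage F f).sheafAdjunctionContinuous (Type u) (J i) (J j))
      (ρ F J i j) default))
  have h2 : PreservesLimitsOfShape Kc
      (FibSite.extend F J (Type u) i ⋙ FibSite.restr F J (Type u) j) :=
    hpres.preservesFiniteLimits Kc
  have h3 : PreservesLimit D (FibSite.extend F J (Type u) i ⋙ FibSite.restr F J (Type u) j) :=
    h2.preservesLimit
  exact (h3.preserves hc).some

end Groth.Agent.H7.FibTot
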