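import Mathlib
import Groth.Prelude.Def_FibSite
import Groth.Agent.Lib.Helper7.FibTerm2

set_option backward.isDefEq.respectTransparency false

universe w v₃ u₃ v₂ u₂ v₁ u₁ u

open CategoryTheory CategoryTheory.Limits Opposite Pseudofunctor Pseudofunctor.CoGrothendieck Bicategory
open scoped CategoryTheory.Pseudofunctor.StrongTrans

namespace Groth.Agent.H7.FibTot

section
variable {𝒮 : Type u₁} [Category.{v₁} 𝒮]
variable {F G : Pseudofunctor (LocallyDiscrete 𝒮ᵒᵖ) Cat.{v₂, u₂}} (α : G ⟶ F)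

attribute [local simp] PrelaxFunctor.map₂_eqToHom
attribute [local simp]
  Strict.leftUnitor_eqToIso Strict.rightUnitor_eqToIso Strict.associator_eqToIso

theorem map_vert {S : 𝒮} {W W' : G.obj ⟨op S⟩} (φ : W ⟶ W') :
    (CoGrothendieck.map α).map (vert G φ) = vert F ((α.app ⟨op S⟩).toFunctor.map φ) := by
  refine Hom.ext _ _ rfl ?_
  simp [Cat.Hom.comp_toFunctor, StrongTrans.naturality_id_hom_app, Cat.Hom.id_toFunctor,
    ← Functor.map_comp_assoc, ← Cat.Hom₂.comp_app]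

/-- the comparison `α_S (f^* W) ⟶ f^* (α_T W)` -/
abbrev kap {S T : 𝒮} (f : S ⟶ T) (W : G.obj ⟨op T⟩) :
    (α.app ⟨op S⟩).toFunctor.obj ((FibSite.invImage G f).obj W) ⟶
      (FibSite.invImage F f).obj ((α.app ⟨op T⟩).toFunctor.obj W) :=
  (α.naturality f.op.toLoc).hom.toNatTrans.app W

theorem map_cart {S T : 𝒮} (f : S ⟶ T) (W : G.obj ⟨op T⟩) :
    (CoGrothendieck.map α).map (cart G W f) =
      vert F (kap α f W) ≫ cart F ((α.app ⟨op T⟩).toFunctor.obj W) f := by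
  rw [← fac']
  refine Hom.ext _ _ rfl ?_
  simp

/-- `ι_G S ⋙ m ≅ α_S ⋙ ι_F S` -/
def ιMapIso (S : 𝒮) : ι G S ⋙ CoGrothendieck.map α ≅ (α.app ⟨op S⟩).toFunctor ⋙ ι F S :=
  NatIso.ofComponents (fun _ => Iso.refl _) (fun {W W'} φ => by
    dsimp only [Functor.comp_map, Iso.refl_hom]
    rw [Category.comp_id, Category.id_comp]
    exact map_vert α φ)

end

theorem isIso_of_fans {C : Type*} [Category C] {Φ : Type*} {A1 A2 : Φ → C} {c1 : Fan A1}
    {c2 : Fan A2} (h1 : IsLimit c1) (h2 : IsLimit c2) (θ : c1.pt ⟶ c2.pt) (u : ∀ f, A1 f ≅ A2 f)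
    (hθ : ∀ f, θ ≫ c2.proj f = c1.proj f ≫ (u f).hom) : IsIso θ := by
  refine ⟨Fan.IsLimit.lift h1 (fun f => c2.proj f ≫ (u f).inv), ?_, ?_⟩
  · apply Fan.IsLimit.hom_ext h1
    intro f
    rw [Category.assoc, Fan.IsLimit.fac, reassoc_of% (hθ f), Iso.hom_inv_id, Category.comp_id,
      Category.id_comp]
  · apply Fan.IsLimit.hom_ext h2
    intro f
    rw [Category.assoc, hθ f, Fan.IsLimit.fac_assoc, Category.assoc, Iso.inv_hom_id,
      Category.comp_id, Category.id_comp]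

section
variable {𝒮 : Type u} [SmallCategory 𝒮]
  {F G : Pseudofunctor (LocallyDiscrete 𝒮ᵒᵖ) Cat.{u, u}} (α : G ⟶ F)
  (J : FibSite.Topologies F) (K : FibSite.Topologies G)

theorem map_isContinuous (hF : FibSite.IsPreFibSite F J) (hG : FibSite.IsPreFibSite G K)
    (hα : ∀ S : 𝒮, (α.app ⟨op S⟩).toFunctor.IsContinuous (K S) (J S)) :
    (CoGrothendieck.map α).IsContinuous (FibSite.totalTopology G K) (FibSite.totalTopology F J) := by
  rw [S13512_main G K hG]
  intro S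
  haveI := hα S
  haveI := ι_isContinuous F J hF S
  haveI : ((α.app ⟨op S⟩).toFunctor ⋙ ι F S).IsContinuous (K S) (FibSite.totalTopology F J) :=
    Functor.isContinuous_comp _ _ (K S) (J S) _
  exact Functor.isContinuous_of_iso (ιMapIso α S).symm _ _

variable (S : 𝒮)

/-- the 2-cell whose mate is the Beck–Chevalley map -/
noncomputable def βBC (A : (F.obj ⟨op S⟩)ᵒᵖ ⥤ Type u) :
    (ι G S).op ⋙ ((CoGrothendieck.map α).op ⋙ (ι F S).op.ran.obj A) ⟶
      (α.app ⟨op S⟩).toFunctor.op ⋙ A :=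
  Functor.whiskerRight (NatTrans.op (ιMapIso α S).inv) ((ι F S).op.ran.obj A) ≫
    Functor.whiskerLeft (α.app ⟨op S⟩).toFunctor.op ((ι F S).op.ranCounit.app A)

/-- the Beck–Chevalley map at a presheaf -/
noncomputable def ΘBC (A : (F.obj ⟨op S⟩)ᵒᵖ ⥤ Type u) :
    (CoGrothendieck.map α).op ⋙ (ι F S).op.ran.obj A ⟶
      (ι G S).op.ran.obj ((α.app ⟨op S⟩).toFunctor.op ⋙ A) :=
  ((ι G S).op.ranAdjunction (Type u)).homEquiv _ _ (βBC α S A)

theorem ΘBC_counit (A : (F.obj ⟨op S⟩)ᵒᵖ ⥤ Type u) :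
    Functor.whiskerLeft (ι G S).op (ΘBC α S A) ≫
      (ι G S).op.ranCounit.app ((α.app ⟨op S⟩).toFunctor.op ⋙ A) = βBC α S A := by
  have h := ((ι G S).op.ranAdjunction (Type u)).homEquiv_counit
    (X := (CoGrothendieck.map α).op ⋙ (ι F S).op.ran.obj A)
    (Y := (α.app ⟨op S⟩).toFunctor.op ⋙ A) (ΘBC α S A)
  rw [Functor.ranAdjunction_counit] at h
  rw [ΘBC, Equiv.symm_apply_apply] at h
  exact h.symm

theorem ΘBC_proj (A : (F.obj ⟨op S⟩)ᵒᵖ ⥤ Type u) {T : 𝒮} (W : G.obj ⟨op T⟩) (f : S ⟶ T) :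
    (ΘBC α S A).app (op ⟨T, W⟩) ≫
      ((ι G S).op.ran.obj ((α.app ⟨op S⟩).toFunctor.op ⋙ A)).map (cart G W f).op ≫
        ((ι G S).op.ranCounit.app ((α.app ⟨op S⟩).toFunctor.op ⋙ A)).app
          (op ((FibSite.invImage G f).obj W)) =
      (((ι F S).op.ran.obj A).map (cart F ((α.app ⟨op T⟩).toFunctor.obj W) f).op ≫
        ((ι F S).op.ranCounit.app A).app
          (op ((FibSite.invImage F f).obj ((α.app ⟨op T⟩).toFunctor.obj W)))) ≫
        A.map (kap α f W).op := by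
  have h1 := (ΘBC α S A).naturality (cart G W f).op
  have h2 := congr_app (ΘBC_counit α S A) (op ((FibSite.invImage G f).obj W))
  have h3 := ((ι F S).op.ranCounit.app A).naturality (kap α f W).op
  have h4 : (βBC α S A).app (op ((FibSite.invImage G f).obj W)) =
      ((ι F S).op.ranCounit.app A).app
        (op ((α.app ⟨op S⟩).toFunctor.obj ((FibSite.invImage G f).obj W))) := by
    show ((ι F S).op.ran.obj A).map (𝟙 (op ((ι F S).obj ((α.app ⟨op S⟩).toFunctor.obj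
      ((FibSite.invImage G f).obj W))))) ≫ _ = _
    rw [CategoryTheory.Functor.map_id]
    exact Category.id_comp _
  refine ((reassoc_of% h1) _).symm.trans ?_
  refine (congrArg (fun z => ((CoGrothendieck.map α).op ⋙ (ι F S).op.ran.obj A).map
    (cart G W f).op ≫ z) (h2.trans h4)).trans ?_
  show ((ι F S).op.ran.obj A).map ((CoGrothendieck.map α).map (cart G W f)).op ≫ _ = _
  rw [map_cart, op_comp, Functor.map_comp, Category.assoc, Category.assoc]
  congr 1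

/-- `kap` as an isomorphism -/
noncomputable def kapIso {T : 𝒮} (f : S ⟶ T) (W : G.obj ⟨op T⟩) :
    (α.app ⟨op S⟩).toFunctor.obj ((FibSite.invImage G f).obj W) ≅
      (FibSite.invImage F f).obj ((α.app ⟨op T⟩).toFunctor.obj W) :=
  (Cat.Hom.toNatIso (α.naturality f.op.toLoc)).app W

theorem isIso_ΘBC_app (A : (F.obj ⟨op S⟩)ᵒᵖ ⥤ Type u) (X : (∫ᶜ G)ᵒᵖ) :
    IsIso ((ΘBC α S A).app X) := by
  obtain ⟨⟨T, W⟩⟩ := X
  have hF := MultiInit.isLimitFan
    (StructuredArrow.proj (op ((ι F T).obj ((α.app ⟨op T⟩).toFunctor.obj W))) (ι F S).op ⋙ A)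
    (gSA F ((α.app ⟨op T⟩).toFunctor.obj W)) (kSA F _) (mSA F _) (huniqSA F _)
    ((Functor.RightExtension.mk _ ((ι F S).op.ranCounit.app A)).coneAt
      (op ((ι F T).obj ((α.app ⟨op T⟩).toFunctor.obj W))))
    ((ι F S).op.isPointwiseRightKanExtensionRanCounit A
      (op ((ι F T).obj ((α.app ⟨op T⟩).toFunctor.obj W))))
  have hG := MultiInit.isLimitFan
    (StructuredArrow.proj (op ((ι G T).obj W)) (ι G S).op ⋙ ((α.app ⟨op S⟩).toFunctor.op ⋙ A))
    (gSA G W) (kSA G W) (mSA G W) (huniqSA G W)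
    ((Functor.RightExtension.mk _
      ((ι G S).op.ranCounit.app ((α.app ⟨op S⟩).toFunctor.op ⋙ A))).coneAt (op ((ι G T).obj W)))
    ((ι G S).op.isPointwiseRightKanExtensionRanCounit ((α.app ⟨op S⟩).toFunctor.op ⋙ A)
      (op ((ι G T).obj W)))
  exact isIso_of_fans hF hG ((ΘBC α S A).app (op ⟨T, W⟩))
    (fun f => A.mapIso (kapIso α S f W).op) (fun f => ΘBC_proj α S A W f)

theorem isIso_ΘBC (A : (F.obj ⟨op S⟩)ᵒᵖ ⥤ Type u) : IsIso (ΘBC α S A) := by
  apply (config := {allowSynthFailures := true}) NatIso.isIso_of_isIso_app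
  exact isIso_ΘBC_app α S A

theorem βBC_naturality {A A' : (F.obj ⟨op S⟩)ᵒᵖ ⥤ Type u} (g : A ⟶ A') :
    Functor.whiskerLeft (ι G S).op (Functor.whiskerLeft (CoGrothendieck.map α).op
      ((ι F S).op.ran.map g)) ≫ βBC α S A' =
      βBC α S A ≫ Functor.whiskerLeft (α.app ⟨op S⟩).toFunctor.op g := by
  apply NatTrans.ext
  funext V
  have h1 := ((ι F S).op.ran.map g).naturality ((ιMapIso α S).inv.app V.unop).op
  have h2 := congr_app ((ι F S).op.ranCounit.naturality g)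
    (op ((α.app ⟨op S⟩).toFunctor.obj V.unop))
  dsimp [βBC] at h1 h2 ⊢
  rw [← reassoc_of% h1, h2, Category.assoc]

theorem ΘBC_naturality {A A' : (F.obj ⟨op S⟩)ᵒᵖ ⥤ Type u} (g : A ⟶ A') :
    Functor.whiskerLeft (CoGrothendieck.map α).op ((ι F S).op.ran.map g) ≫ ΘBC α S A' =
      ΘBC α S A ≫ (ι G S).op.ran.map (Functor.whiskerLeft (α.app ⟨op S⟩).toFunctor.op g) := by
  rw [ΘBC, ΘBC, ← Adjunction.homEquiv_naturality_right, ← βBC_naturality]
  exact (Adjunction.homEquiv_naturality_left _ _ _).symm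

end

end Groth.Agent.H7.FibTot
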