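import Mathlib
import Groth.Prelude.Def_FibSite
import Groth.Agent.Lib.Helper7.FibMor

set_option backward.isDefEq.respectTransparency false

universe w v₃ u₃ v₂ u₂ v₁ u₁ u

open CategoryTheory CategoryTheory.Limits Opposite Pseudofunctor Pseudofunctor.CoGrothendieck Bicategory
open scoped CategoryTheory.Pseudofunctor.StrongTrans

namespace Groth.Agent.H7.FibTot

section
variable {𝒮 : Type u} [SmallCategory 𝒮]
  {F G : Pseudofunctor (LocallyDiscrete 𝒮ᵒᵖ) Cat.{u, u}} (α : G ⟶ F)
  (J : FibSite.Topologies F) (K : FibSite.Topologies G) (S : 𝒮)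
  [(CoGrothendieck.map α).IsContinuous (FibSite.totalTopology G K) (FibSite.totalTopology F J)]
  [(α.app ⟨op S⟩).toFunctor.IsContinuous (K S) (J S)]
  [(ι F S).IsCocontinuous (J S) (FibSite.totalTopology F J)]
  [(ι G S).IsCocontinuous (K S) (FibSite.totalTopology G K)]

/-- the Beck–Chevalley transformation on sheaves -/
noncomputable def ΘSh :
    FibSite.coextend F J (Type u) S ⋙ (CoGrothendieck.map α).sheafPushforwardContinuous (Type u)
        (FibSite.totalTopology G K) (FibSite.totalTopology F J) ⟶
      (α.app ⟨op S⟩).toFunctor.sheafPushforwardContinuous (Type u) (K S) (J S) ⋙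
        FibSite.coextend G K (Type u) S where
  app a := ⟨ΘBC α S a.obj⟩
  naturality a a' g := by
    apply Sheaf.hom_ext
    exact ΘBC_naturality α S g.hom

instance isIso_ΘSh : IsIso (ΘSh α J K S) := by
  apply (config := {allowSynthFailures := true}) NatIso.isIso_of_isIso_app
  intro a
  have h1 : IsIso ((sheafToPresheaf _ _).map ((ΘSh α J K S).app a)) := isIso_ΘBC α S a.obj
  exact (isIso_iff_of_reflects_iso _ (sheafToPresheaf _ _)).mp h1

variable [(ι F S).IsContinuous (J S) (FibSite.totalTopology F J)]
  [(ι G S).IsContinuous (K S) (FibSite.totalTopology G K)]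
  [((α.app ⟨op S⟩).toFunctor.sheafPushforwardContinuous (Type u) (K S) (J S)).IsRightAdjoint]

/-- Beck–Chevalley for the left adjoints: `restr_S ∘ m^* ≅ α_S^* ∘ restr_S` -/
noncomputable def BCIso :
    (CoGrothendieck.map α).sheafPullback (Type u) (FibSite.totalTopology G K)
        (FibSite.totalTopology F J) ⋙ FibSite.restr F J (Type u) S ≅
      FibSite.restr G K (Type u) S ⋙
        (α.app ⟨op S⟩).toFunctor.sheafPullback (Type u) (K S) (J S) :=
  ((((CoGrothendieck.map α).sheafAdjunctionContinuous (Type u) (FibSite.totalTopology G K)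
      (FibSite.totalTopology F J)).comp
    ((ι F S).sheafAdjunctionCocontinuous (Type u) (J S) (FibSite.totalTopology F J))).ofNatIsoRight
      (asIso (ΘSh α J K S))).leftAdjointUniq
    (((ι G S).sheafAdjunctionCocontinuous (Type u) (K S) (FibSite.totalTopology G K)).comp
      ((α.app ⟨op S⟩).toFunctor.sheafAdjunctionContinuous (Type u) (K S) (J S)))

end

theorem S13515_main {𝒮 : Type u} [SmallCategory 𝒮]
    (F G : Pseudofunctor (LocallyDiscrete 𝒮ᵒᵖ) Cat.{u, u}) (J : FibSite.Topologies F) (K : FibSite.Topologies G)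
    (hF : FibSite.IsFibSite F J) (hG : FibSite.IsFibSite G K) (α : G ⟶ F)
    (hα : ∀ S : 𝒮, ∃ (_ : (α.app ⟨op S⟩).toFunctor.IsContinuous (K S) (J S))
      (_ : ((α.app ⟨op S⟩).toFunctor.sheafPushforwardContinuous (Type u) (K S) (J S)).IsRightAdjoint),
      PreservesFiniteLimits ((α.app ⟨op S⟩).toFunctor.sheafPullback (Type u) (K S) (J S))) :
    ∃ (_ : (Pseudofunctor.CoGrothendieck.map α).IsContinuous
        (FibSite.totalTopology G K) (FibSite.totalTopology F J))
      (_ : ((Pseudofunctor.CoGrothendieck.map α).sheafPushforwardContinuous (Type u)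
        (FibSite.totalTopology G K) (FibSite.totalTopology F J)).IsRightAdjoint),
      PreservesFiniteLimits ((Pseudofunctor.CoGrothendieck.map α).sheafPullback (Type u)
        (FibSite.totalTopology G K) (FibSite.totalTopology F J)) := by
  haveI hcont : (CoGrothendieck.map α).IsContinuous (FibSite.totalTopology G K)
      (FibSite.totalTopology F J) :=
    map_isContinuous α J K hF.isPreFibSite hG.isPreFibSite (fun S => (hα S).choose)
  refine ⟨hcont, inferInstance, ?_⟩
  haveI : ∀ S : 𝒮, (ι F S).IsContinuous (J S) (FibSite.totalTopology F J) :=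
    fun S => ι_isContinuous F J hF.isPreFibSite S
  haveI : ∀ S : 𝒮, (ι G S).IsContinuous (K S) (FibSite.totalTopology G K) :=
    fun S => ι_isContinuous G K hG.isPreFibSite S
  constructor
  intro Kc _ _
  constructor
  intro D
  constructor
  intro c hc
  refine ⟨isLimitOfRestr F J _ (fun S => ?_)⟩
  haveI : (ι F S).IsCocontinuous (J S) (FibSite.totalTopology F J) :=
    S13510_main F J hF.isPreFibSite S
  haveI : (ι G S).IsCocontinuous (K S) (FibSite.totalTopology G K) :=
    S13510_main G K hG.isPreFibSite S
  haveI := (hα S).choose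
  haveI := (hα S).choose_spec.choose
  haveI : PreservesFiniteLimits
      ((α.app ⟨op S⟩).toFunctor.sheafPullback (Type u) (K S) (J S)) :=
    (hα S).choose_spec.choose_spec
  haveI : PreservesLimits (FibSite.restr G K (Type u) S) :=
    (Adjunction.ofIsRightAdjoint (FibSite.restr G K (Type u) S)).rightAdjoint_preservesLimits
  have hpres : PreservesFiniteLimits
      ((CoGrothendieck.map α).sheafPullback (Type u) (FibSite.totalTopology G K)
        (FibSite.totalTopology F J) ⋙ FibSite.restr F J (Type u) S) := by
    haveI : PreservesFiniteLimits (FibSite.restr G K (Type u) S ⋙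
        (α.app ⟨op S⟩).toFunctor.sheafPullback (Type u) (K S) (J S)) :=
      comp_preservesFiniteLimits _ _
    exact preservesFiniteLimits_of_natIso (BCIso α J K S).symm
  have h2 : PreservesLimitsOfShape Kc _ := hpres.preservesFiniteLimits Kc
  have h3 : PreservesLimit D _ := h2.preservesLimit
  exact (h3.preserves hc).some

end Groth.Agent.H7.FibTot
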