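import Mathlib
import Groth.Prelude.Def_FibSite
import Groth.Agent.Lib.Helper7.FibTerm2
import Groth.Agent.Lib.Helper7.CofanExt

set_option backward.isDefEq.respectTransparency false

universe w v₃ u₃ v₂ u₂ v₁ u₁ u

open CategoryTheory CategoryTheory.Limits Opposite Pseudofunctor Pseudofunctor.CoGrothendieck Bicategory

namespace Groth.Agent.H7.FibTot

section
variable {𝒮 : Type u} [SmallCategory 𝒮]
  (F : Pseudofunctor (LocallyDiscrete 𝒮ᵒᵖ) Cat.{u, u}) (J : FibSite.Topologies F) (i : 𝒮)

/-- `(𝟙 i)^* ≅ id` -/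
noncomputable def invImageIdIso : FibSite.invImage F (𝟙 i) ≅ 𝟭 _ :=
  Cat.Hom.toNatIso (F.mapId ⟨op i⟩)

variable [∀ S : 𝒮, (ι F S).IsContinuous (J S) (FibSite.totalTopology F J)]
  [∀ (R S : 𝒮) (f : R ⟶ S), (FibSite.invImage F f).IsContinuous (J S) (J R)]

/-- `((𝟙 i)^*)^* ≅ id` on sheaves -/
noncomputable def pullbackIdIso :
    (FibSite.invImage F (𝟙 i)).sheafPullback (Type u) (J i) (J i) ≅ 𝟭 _ :=
  ((FibSite.invImage F (𝟙 i)).sheafAdjunctionContinuous (Type u) (J i) (J i)).leftAdjointUniq
    (Adjunction.id.ofNatIsoRight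
      (Functor.sheafPushforwardContinuousId' (invImageIdIso F i) (Type u) (J i)).symm)

theorem extend_faithful (hF : FibSite.IsPreFibSite F J) :
    (FibSite.extend F J (Type u) i).Faithful := by
  haveI : (ι F i).IsCocontinuous (J i) (FibSite.totalTopology F J) := S13510_main F J hF i
  refine ⟨fun {b b'} φ φ' h => ?_⟩
  let τ := AdjCoprod.τ ((ι F i).sheafAdjunctionContinuous (Type u) (J i) (FibSite.totalTopology F J))
      (fun f : i ⟶ i => (FibSite.invImage F f).sheafAdjunctionContinuous (Type u) (J i) (J i))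
      (ρ F J i i) (𝟙 i)
  have hcol := AdjCoprod.isColimit
      ((ι F i).sheafAdjunctionContinuous (Type u) (J i) (FibSite.totalTopology F J))
      ((ι F i).sheafAdjunctionCocontinuous (Type u) (J i) (FibSite.totalTopology F J))
      (fun f : i ⟶ i => (FibSite.invImage F f).sheafAdjunctionContinuous (Type u) (J i) (J i))
      (ρ F J i i) (isLimitFan F J i i) b'
  haveI : FinitaryExtensive (Sheaf (J i) (Type u)) := inferInstance
  haveI : Mono (τ.app b') := CofanExt.cofan_mono_inj hcol (𝟙 i)
  have h1 := τ.naturality φ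
  have h2 := τ.naturality φ'
  have h3 : ((FibSite.invImage F (𝟙 i)).sheafPullback (Type u) (J i) (J i)).map φ =
      ((FibSite.invImage F (𝟙 i)).sheafPullback (Type u) (J i) (J i)).map φ' := by
    rw [← cancel_mono (τ.app b'), h1, h2]
    dsimp
    rw [h]
  haveI : ((FibSite.invImage F (𝟙 i)).sheafPullback (Type u) (J i) (J i)).Faithful :=
    Functor.Faithful.of_iso (pullbackIdIso F J i).symm
  exact ((FibSite.invImage F (𝟙 i)).sheafPullback (Type u) (J i) (J i)).map_injective h3

theorem extend_reflectsIso (hF : FibSite.IsPreFibSite F J) :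
    (FibSite.extend F J (Type u) i).ReflectsIsomorphisms := by
  haveI := extend_faithful F J i hF
  haveI : Balanced (Sheaf (J i) (Type u)) := inferInstance
  infer_instance

/-- sheafify then extend = left Kan extend then sheafify -/
noncomputable def lanSheafifyIso :
    presheafToSheaf (J i) (Type u) ⋙ FibSite.extend F J (Type u) i ≅
      (ι F i).op.lan ⋙ presheafToSheaf (FibSite.totalTopology F J) (Type u) :=
  (((sheafificationAdjunction (J i) (Type u)).comp
    ((ι F i).sheafAdjunctionContinuous (Type u) (J i) (FibSite.totalTopology F J))).ofNatIsoRight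
      ((ι F i).sheafPushforwardContinuousCompSheafToPresheafIso (Type u) (J i)
        (FibSite.totalTopology F J))).leftAdjointUniq
    (((ι F i).op.lanAdjunction (Type u)).comp
      (sheafificationAdjunction (FibSite.totalTopology F J) (Type u)))

end

theorem S13528_main {𝒮 : Type u} [SmallCategory 𝒮]
    (F : Pseudofunctor (LocallyDiscrete 𝒮ᵒᵖ) Cat.{u, u}) (J : FibSite.Topologies F)
    (hF : FibSite.IsPreFibSite F J) (i : 𝒮) {R R' : (F.obj ⟨op i⟩)ᵒᵖ ⥤ Type u}
    (u : R ⟶ R') :
    (J i).W u ↔ (FibSite.totalTopology F J).W (((ι F i).op.lan (H := Type u)).map u) := by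
  haveI : ∀ S : 𝒮, (ι F S).IsContinuous (J S) (FibSite.totalTopology F J) :=
    fun S => ι_isContinuous F J hF S
  haveI : ∀ (R S : 𝒮) (f : R ⟶ S), (FibSite.invImage F f).IsContinuous (J S) (J R) :=
    fun R S f => hF f
  constructor
  · intro h
    exact (ι F i).W_map_of_adjunction_of_isContinuous (J := J i)
      (K := FibSite.totalTopology F J) _ ((ι F i).op.lanAdjunction (Type u)) u h
  · intro h
    rw [GrothendieckTopology.W_iff] at h ⊢
    haveI := extend_reflectsIso F J i hF
    have h1 : IsIso (((ι F i).op.lan ⋙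
        presheafToSheaf (FibSite.totalTopology F J) (Type u)).map u) := h
    rw [← NatIso.isIso_map_iff (lanSheafifyIso F J i) u] at h1
    haveI : IsIso ((FibSite.extend F J (Type u) i).map ((presheafToSheaf (J i) (Type u)).map u)) := h1
    exact isIso_of_reflects_iso ((presheafToSheaf (J i) (Type u)).map u)
      (FibSite.extend F J (Type u) i)

end Groth.Agent.H7.FibTot
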