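import Mathlib
import Groth.Prelude.Def_FibSite
import Groth.Agent.Lib.Helper7.FibW
import Groth.Agent.Lib.Helper7.ShVK
import Groth.Agent.Lib.Helper7.CofanPB

set_option backward.isDefEq.respectTransparency false

universe w v₃ u₃ v₂ u₂ v₁ u₁ u

open CategoryTheory CategoryTheory.Limits Opposite Pseudofunctor Pseudofunctor.CoGrothendieck Bicategory

namespace Groth.Agent.H7.FibTot

section
variable {𝒮 : Type u} [SmallCategory 𝒮]
  (F : Pseudofunctor (LocallyDiscrete 𝒮ᵒᵖ) Cat.{u, u}) (J : FibSite.Topologies F) (S : 𝒮)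
  [∀ S : 𝒮, (ι F S).IsContinuous (J S) (FibSite.totalTopology F J)]
  [∀ (R S : 𝒮) (f : R ⟶ S), (FibSite.invImage F f).IsContinuous (J S) (J R)]

/-- `extend_S` preserves pullback squares (fibred site) -/
theorem extend_isPullback (hF : FibSite.IsFibSite F J) {a a₁ a₂ a₀ : Sheaf (J S) (Type u)}
    {p₁ : a ⟶ a₁} {p₂ : a ⟶ a₂} {g₁ : a₁ ⟶ a₀} {g₂ : a₂ ⟶ a₀} (sq : IsPullback p₁ p₂ g₁ g₂) :
    IsPullback ((FibSite.extend F J (Type u) S).map p₁) ((FibSite.extend F J (Type u) S).map p₂)
      ((FibSite.extend F J (Type u) S).map g₁) ((FibSite.extend F J (Type u) S).map g₂) := by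
  have hw : (FibSite.extend F J (Type u) S).map p₁ ≫ (FibSite.extend F J (Type u) S).map g₁ =
      (FibSite.extend F J (Type u) S).map p₂ ≫ (FibSite.extend F J (Type u) S).map g₂ := by
    rw [← Functor.map_comp, ← Functor.map_comp, sq.w]
  refine ⟨⟨hw⟩, ⟨isLimitOfRestr F J _ (fun T => ?_)⟩⟩
  haveI : (ι F T).IsCocontinuous (J T) (FibSite.totalTopology F J) :=
    S13510_main F J hF.isPreFibSite T
  have hlex : ∀ f : T ⟶ S, PreservesFiniteLimits
      ((FibSite.invImage F f).sheafPullback (Type u) (J S) (J T)) :=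
    fun f => (hF f).choose_spec.choose_spec
  have hcol := AdjCoprod.isColimit
      ((ι F S).sheafAdjunctionContinuous (Type u) (J S) (FibSite.totalTopology F J))
      ((ι F T).sheafAdjunctionCocontinuous (Type u) (J T) (FibSite.totalTopology F J))
      (fun f : T ⟶ S => (FibSite.invImage F f).sheafAdjunctionContinuous (Type u) (J S) (J T))
      (ρ F J S T) (isLimitFan F J S T)
  have h := CofanPB.isPullback_map
    (fun f : T ⟶ S => (FibSite.invImage F f).sheafPullback (Type u) (J S) (J T))
    (FibSite.extend F J (Type u) S ⋙ FibSite.restr F J (Type u) T)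
    (AdjCoprod.τ ((ι F S).sheafAdjunctionContinuous (Type u) (J S) (FibSite.totalTopology F J))
      (fun f : T ⟶ S => (FibSite.invImage F f).sheafAdjunctionContinuous (Type u) (J S) (J T))
      (ρ F J S T))
    hcol (fun a => ShVK.isVanKampen_sheaf (J T) _ (hcol a)) sq
    (fun f => by
      haveI := hlex f
      exact sq.map _)
  exact (isLimitMapConePullbackConeEquiv (FibSite.restr F J (Type u) T) hw).symm h.isLimit

end

end Groth.Agent.H7.FibTot
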