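import Mathlib
import Groth.Prelude.Def_FibSite
import Groth.Agent.Lib.Helper7.FibPB
import Groth.Agent.Lib.Helper7.FibMor2

set_option backward.isDefEq.respectTransparency false

universe w v₃ u₃ v₂ u₂ v₁ u₁ u

open CategoryTheory CategoryTheory.Limits Opposite Pseudofunctor Pseudofunctor.CoGrothendieck Bicategory
open scoped CategoryTheory.Pseudofunctor.StrongTrans

namespace Groth.Agent.H7.FibTot

section
variable {𝒮 : Type u} [SmallCategory 𝒮]
  {F G : Pseudofunctor (LocallyDiscrete 𝒮ᵒᵖ) Cat.{u, u}} (α : G ⟶ F)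
  (J : FibSite.Topologies F) (K : FibSite.Topologies G) (S : 𝒮)

/-- `lan_α ⋙ lan_{ι_F} ≅ lan_{ι_G} ⋙ lan_m` -/
noncomputable def lanCompIso :
    (α.app ⟨op S⟩).toFunctor.op.lan (H := Type u) ⋙ (ι F S).op.lan ≅
      (ι G S).op.lan ⋙ (CoGrothendieck.map α).op.lan :=
  ((((α.app ⟨op S⟩).toFunctor.op.lanAdjunction (Type u)).comp
      ((ι F S).op.lanAdjunction (Type u))).ofNatIsoRight
    (show (Functor.whiskeringLeft _ _ (Type u)).obj (ι F S).op ⋙
        (Functor.whiskeringLeft _ _ (Type u)).obj (α.app ⟨op S⟩).toFunctor.op ≅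
      (Functor.whiskeringLeft _ _ (Type u)).obj (CoGrothendieck.map α).op ⋙
        (Functor.whiskeringLeft _ _ (Type u)).obj (ι G S).op from
    NatIso.ofComponents (fun Q => Functor.isoWhiskerRight (NatIso.op (ιMapIso α S)) Q)
      (fun {Q Q'} φ => by
        apply NatTrans.ext
        funext V
        exact (φ.naturality _).symm))).leftAdjointUniq
    (((ι G S).op.lanAdjunction (Type u)).comp ((CoGrothendieck.map α).op.lanAdjunction (Type u)))

theorem α_isContinuous (hF : FibSite.IsPreFibSite F J) (hG : FibSite.IsPreFibSite G K)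
    [hm : (CoGrothendieck.map α).IsContinuous (FibSite.totalTopology G K)
      (FibSite.totalTopology F J)] :
    (α.app ⟨op S⟩).toFunctor.IsContinuous (K S) (J S) := by
  haveI := ι_isContinuous G K hG S
  constructor
  intro P
  refine Presieve.IsSheaf.comp_of_W_map_of_adjunction (J := K S) (K := J S)
    ((α.app ⟨op S⟩).toFunctor.op.lanAdjunction (Type u)) ?_ P.obj
    ((isSheaf_iff_isSheaf_of_type _ _).mp P.property)
  intro V R hR
  rw [S13528_main F J hF S, GrothendieckTopology.W_iff]
  have h1 : (K S).W (Sieve.shrinkFunctor.{u} R).ι := Sieve.W_shrinkFunctor_ι_of_mem (K S) R hR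
  have h2 : (FibSite.totalTopology G K).W ((ι G S).op.lan.map (Sieve.shrinkFunctor.{u} R).ι) :=
    (ι G S).W_map_of_adjunction_of_isContinuous (J := K S) (K := FibSite.totalTopology G K) _
      ((ι G S).op.lanAdjunction (Type u)) _ h1
  have h3 : (FibSite.totalTopology F J).W ((CoGrothendieck.map α).op.lan.map
      ((ι G S).op.lan.map (Sieve.shrinkFunctor.{u} R).ι)) :=
    (CoGrothendieck.map α).W_map_of_adjunction_of_isContinuous (J := FibSite.totalTopology G K)
      (K := FibSite.totalTopology F J) _ ((CoGrothendieck.map α).op.lanAdjunction (Type u)) _ h2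
  rw [GrothendieckTopology.W_iff] at h3
  have h4 : IsIso ((((ι G S).op.lan ⋙ (CoGrothendieck.map α).op.lan) ⋙
      presheafToSheaf (FibSite.totalTopology F J) (Type u)).map (Sieve.shrinkFunctor.{u} R).ι) := h3
  rw [← NatIso.isIso_map_iff (Functor.isoWhiskerRight (lanCompIso α S)
    (presheafToSheaf (FibSite.totalTopology F J) (Type u)))] at h4
  exact h4

end

end Groth.Agent.H7.FibTot
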