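import Mathlib
import Groth.Prelude.Def_FibSite
import Groth.Agent.Lib.Helper7.FibConv

set_option backward.isDefEq.respectTransparency false

universe w v₃ u₃ v₂ u₂ v₁ u₁ u

open CategoryTheory CategoryTheory.Limits Opposite Pseudofunctor Pseudofunctor.CoGrothendieck Bicategory
open scoped CategoryTheory.Pseudofunctor.StrongTrans

namespace Groth.Agent.H7.FibTot

theorem preservesPullbacks_of_map_isPullback {C : Type*} [Category C] {D : Type*} [Category D]
    (L : C ⥤ D) [HasPullbacks C]
    (h : ∀ {a a₁ a₂ a₀ : C} {p₁ : a ⟶ a₁} {p₂ : a ⟶ a₂} {g₁ : a₁ ⟶ a₀} {g₂ : a₂ ⟶ a₀},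
      IsPullback p₁ p₂ g₁ g₂ → IsPullback (L.map p₁) (L.map p₂) (L.map g₁) (L.map g₂)) :
    PreservesLimitsOfShape WalkingCospan L := by
  constructor
  intro K
  haveI : PreservesLimit (cospan (K.map WalkingCospan.Hom.inl) (K.map WalkingCospan.Hom.inr)) L := by
    apply preservesLimit_of_preserves_limit_cone (pullbackIsPullback _ _)
    apply (isLimitMapConePullbackConeEquiv _ _).symm _
    exact (h (IsPullback.of_hasPullback _ _)).isLimit
  exact preservesLimit_of_iso_diagram L (diagramIsoCospan K).symm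

section
variable {𝒮 : Type u} [SmallCategory 𝒮]
  (F : Pseudofunctor (LocallyDiscrete 𝒮ᵒᵖ) Cat.{u, u}) (J : FibSite.Topologies F) (S : 𝒮)
  [∀ S : 𝒮, (ι F S).IsContinuous (J S) (FibSite.totalTopology F J)]
  [∀ (R S : 𝒮) (f : R ⟶ S), (FibSite.invImage F f).IsContinuous (J S) (J R)]

/-- `extend_S` reflects pullback squares -/
theorem extend_reflects_isPullback (hF : FibSite.IsFibSite F J) {a a₁ a₂ a₀ : Sheaf (J S) (Type u)}
    {p₁ : a ⟶ a₁} {p₂ : a ⟶ a₂} {g₁ : a₁ ⟶ a₀} {g₂ : a₂ ⟶ a₀} (hw : p₁ ≫ g₁ = p₂ ≫ g₂)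
    (h : IsPullback ((FibSite.extend F J (Type u) S).map p₁) ((FibSite.extend F J (Type u) S).map p₂)
      ((FibSite.extend F J (Type u) S).map g₁) ((FibSite.extend F J (Type u) S).map g₂)) :
    IsPullback p₁ p₂ g₁ g₂ := by
  let k := pullback.lift p₁ p₂ hw
  have hP := extend_isPullback F J S hF (IsPullback.of_hasPullback g₁ g₂)
  have hk : IsIso ((FibSite.extend F J (Type u) S).map k) := by
    have e1 : (FibSite.extend F J (Type u) S).map k ≫
        (FibSite.extend F J (Type u) S).map (pullback.fst g₁ g₂) =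
        (FibSite.extend F J (Type u) S).map p₁ := by
      rw [← Functor.map_comp, pullback.lift_fst]
    have e2 : (FibSite.extend F J (Type u) S).map k ≫
        (FibSite.extend F J (Type u) S).map (pullback.snd g₁ g₂) =
        (FibSite.extend F J (Type u) S).map p₂ := by
      rw [← Functor.map_comp, pullback.lift_snd]
    have : (FibSite.extend F J (Type u) S).map k = (h.isoIsPullback _ _ hP).hom := by
      apply hP.hom_ext
      · rw [e1, IsPullback.isoIsPullback_hom_fst]
      · rw [e2, IsPullback.isoIsPullback_hom_snd]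
    rw [this]
    infer_instance
  haveI := extend_reflectsIso F J S hF.isPreFibSite
  haveI : IsIso k := isIso_of_reflects_iso k (FibSite.extend F J (Type u) S)
  exact IsPullback.of_iso_pullback ⟨hw⟩ (asIso k) (pullback.lift_fst _ _ _)
    (pullback.lift_snd _ _ _)

end

section
variable {𝒮 : Type u} [SmallCategory 𝒮]
  {F G : Pseudofunctor (LocallyDiscrete 𝒮ᵒᵖ) Cat.{u, u}} (α : G ⟶ F)
  (J : FibSite.Topologies F) (K : FibSite.Topologies G) (S : 𝒮)
  [(CoGrothendieck.map α).IsContinuous (FibSite.totalTopology G K) (FibSite.totalTopology F J)]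
  [(α.app ⟨op S⟩).toFunctor.IsContinuous (K S) (J S)]
  [(ι F S).IsContinuous (J S) (FibSite.totalTopology F J)]
  [(ι G S).IsContinuous (K S) (FibSite.totalTopology G K)]

/-- `restr_S ⋙ (α_S)_* ≅ m_* ⋙ restr_S` -/
noncomputable def pushIso :
    FibSite.restr F J (Type u) S ⋙
        (α.app ⟨op S⟩).toFunctor.sheafPushforwardContinuous (Type u) (K S) (J S) ≅
      (CoGrothendieck.map α).sheafPushforwardContinuous (Type u) (FibSite.totalTopology G K)
        (FibSite.totalTopology F J) ⋙ FibSite.restr G K (Type u) S :=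
  NatIso.ofComponents
    (fun X => (fullyFaithfulSheafToPresheaf _ _).preimageIso
      (Functor.isoWhiskerRight (NatIso.op (ιMapIso α S)) X.obj))
    (fun {X Y} φ => by
      apply Sheaf.hom_ext
      apply NatTrans.ext
      funext V
      exact (φ.hom.naturality _).symm)

/-- `α_S^* ⋙ extend_S ≅ extend_S ⋙ m^*` -/
noncomputable def pullIso :
    (α.app ⟨op S⟩).toFunctor.sheafPullback (Type u) (K S) (J S) ⋙ FibSite.extend F J (Type u) S ≅
      FibSite.extend G K (Type u) S ⋙ (CoGrothendieck.map α).sheafPullback (Type u)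
        (FibSite.totalTopology G K) (FibSite.totalTopology F J) :=
  ((((α.app ⟨op S⟩).toFunctor.sheafAdjunctionContinuous (Type u) (K S) (J S)).comp
      ((ι F S).sheafAdjunctionContinuous (Type u) (J S) (FibSite.totalTopology F J))).ofNatIsoRight
    (pushIso α J K S)).leftAdjointUniq
    (((ι G S).sheafAdjunctionContinuous (Type u) (K S) (FibSite.totalTopology G K)).comp
      ((CoGrothendieck.map α).sheafAdjunctionContinuous (Type u) (FibSite.totalTopology G K)
        (FibSite.totalTopology F J)))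

end

end Groth.Agent.H7.FibTot
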