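import Mathlib
import Groth.Prelude.Def_FibSite
import Groth.Agent.Lib.Helper7.FibConv2

set_option backward.isDefEq.respectTransparency false

universe w v₃ u₃ v₂ u₂ v₁ u₁ u

open CategoryTheory CategoryTheory.Limits Opposite Pseudofunctor Pseudofunctor.CoGrothendieck Bicategory
open scoped CategoryTheory.Pseudofunctor.StrongTrans

namespace Groth.Agent.H7.FibTot

theorem S13516_main {𝒮 : Type u} [SmallCategory 𝒮]
    (F G : Pseudofunctor (LocallyDiscrete 𝒮ᵒᵖ) Cat.{u, u}) (J : FibSite.Topologies F) (K : FibSite.Topologies G)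
    (hF : FibSite.IsFibSite F J) (hG : FibSite.IsFibSite G K) (α : G ⟶ F)
    (hα : ∃ (_ : (Pseudofunctor.CoGrothendieck.map α).IsContinuous
        (FibSite.totalTopology G K) (FibSite.totalTopology F J))
      (_ : ((Pseudofunctor.CoGrothendieck.map α).sheafPushforwardContinuous (Type u)
        (FibSite.totalTopology G K) (FibSite.totalTopology F J)).IsRightAdjoint),
      PreservesFiniteLimits ((Pseudofunctor.CoGrothendieck.map α).sheafPullback (Type u)
        (FibSite.totalTopology G K) (FibSite.totalTopology F J))) (S : 𝒮) :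
    ∃ (_ : (α.app ⟨op S⟩).toFunctor.IsContinuous (K S) (J S))
      (_ : ((α.app ⟨op S⟩).toFunctor.sheafPushforwardContinuous (Type u) (K S) (J S)).IsRightAdjoint),
      PreservesFiniteLimits ((α.app ⟨op S⟩).toFunctor.sheafPullback (Type u) (K S) (J S)) := by
  obtain ⟨hm, hr, hlex⟩ := hα
  haveI := hm
  haveI := hlex
  haveI hc : (α.app ⟨op S⟩).toFunctor.IsContinuous (K S) (J S) :=
    α_isContinuous α J K S hF.isPreFibSite hG.isPreFibSite
  refine ⟨hc, inferInstance, ?_⟩
  haveI : ∀ S : 𝒮, (ι F S).IsContinuous (J S) (FibSite.totalTopology F J) :=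
    fun S => ι_isContinuous F J hF.isPreFibSite S
  haveI : ∀ S : 𝒮, (ι G S).IsContinuous (K S) (FibSite.totalTopology G K) :=
    fun S => ι_isContinuous G K hG.isPreFibSite S
  haveI : ∀ (R S : 𝒮) (f : R ⟶ S), (FibSite.invImage F f).IsContinuous (J S) (J R) :=
    fun R S f => (hF f).choose
  haveI : ∀ (R S : 𝒮) (f : R ⟶ S), (FibSite.invImage G f).IsContinuous (K S) (K R) :=
    fun R S f => (hG f).choose
  haveI : (ι F S).IsCocontinuous (J S) (FibSite.totalTopology F J) :=
    S13510_main F J hF.isPreFibSite S
  haveI : (ι G S).IsCocontinuous (K S) (FibSite.totalTopology G K) :=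
    S13510_main G K hG.isPreFibSite S
  -- terminal object
  haveI : PreservesLimits (FibSite.restr G K (Type u) S) :=
    (Adjunction.ofIsRightAdjoint (FibSite.restr G K (Type u) S)).rightAdjoint_preservesLimits
  haveI : PreservesLimits (FibSite.restr F J (Type u) S) :=
    (Adjunction.ofIsRightAdjoint (FibSite.restr F J (Type u) S)).rightAdjoint_preservesLimits
  haveI hterm : PreservesLimitsOfShape (Discrete.{0} PEmpty)
      ((α.app ⟨op S⟩).toFunctor.sheafPullback (Type u) (K S) (J S)) := by
    have t1 : IsTerminal ((FibSite.restr G K (Type u) S).obj (⊤_ _)) :=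
      IsTerminal.isTerminalObj _ _ terminalIsTerminal
    haveI : PreservesFiniteLimits ((CoGrothendieck.map α).sheafPullback (Type u)
        (FibSite.totalTopology G K) (FibSite.totalTopology F J) ⋙ FibSite.restr F J (Type u) S) :=
      comp_preservesFiniteLimits _ _
    have t2 : IsTerminal (((CoGrothendieck.map α).sheafPullback (Type u)
        (FibSite.totalTopology G K) (FibSite.totalTopology F J) ⋙
          FibSite.restr F J (Type u) S).obj (⊤_ _)) :=
      IsTerminal.isTerminalObj _ _ terminalIsTerminal
    have t3 := t2.ofIso ((BCIso α J K S).app (⊤_ _))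
    have t4 := t3.ofIso (((α.app ⟨op S⟩).toFunctor.sheafPullback (Type u) (K S) (J S)).mapIso
      (t1.uniqueUpToIso terminalIsTerminal))
    haveI := preservesTerminal_of_iso
      ((α.app ⟨op S⟩).toFunctor.sheafPullback (Type u) (K S) (J S))
      (t4.uniqueUpToIso terminalIsTerminal)
    exact preservesLimitsOfShape_pempty_of_preservesTerminal _
  -- pullbacks
  haveI hpb : PreservesLimitsOfShape WalkingCospan
      ((α.app ⟨op S⟩).toFunctor.sheafPullback (Type u) (K S) (J S)) := by
    apply preservesPullbacks_of_map_isPullback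
    intro a a₁ a₂ a₀ p₁ p₂ g₁ g₂ sq
    have h1 := extend_isPullback G K S hG sq
    have h2 := h1.map ((CoGrothendieck.map α).sheafPullback (Type u)
        (FibSite.totalTopology G K) (FibSite.totalTopology F J))
    let Λ := pullIso α J K S
    have h3 : IsPullback
        ((FibSite.extend F J (Type u) S).map
          (((α.app ⟨op S⟩).toFunctor.sheafPullback (Type u) (K S) (J S)).map p₁))
        ((FibSite.extend F J (Type u) S).map
          (((α.app ⟨op S⟩).toFunctor.sheafPullback (Type u) (K S) (J S)).map p₂))
        ((FibSite.extend F J (Type u) S).map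
          (((α.app ⟨op S⟩).toFunctor.sheafPullback (Type u) (K S) (J S)).map g₁))
        ((FibSite.extend F J (Type u) S).map
          (((α.app ⟨op S⟩).toFunctor.sheafPullback (Type u) (K S) (J S)).map g₂)) :=
      h2.of_iso (Λ.symm.app a) (Λ.symm.app a₁) (Λ.symm.app a₂) (Λ.symm.app a₀)
        (Λ.symm.hom.naturality p₁) (Λ.symm.hom.naturality p₂)
        (Λ.symm.hom.naturality g₁) (Λ.symm.hom.naturality g₂)
    refine extend_reflects_isPullback F J S hF ?_ h3
    rw [← Functor.map_comp, ← Functor.map_comp, sq.w]
  exact preservesFiniteLimits_of_preservesTerminal_and_pullbacks _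

end Groth.Agent.H7.FibTot
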