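import Groth.Agent.Lib.Helper7.NAS0
import Mathlib

/-!
# Relative normalization of algebraic spaces, part 1: descent of sheaves along a covering family

Given a family `p i : U i ⟶ X` of morphisms of fppf sheaves which is locally jointly surjective,
sheaves `ν i : M i ⟶ U i` and a transport of points of the `M i` between the charts satisfying the
cocycle condition, we construct a sheaf `N ⟶ X` with cartesian squares `M i = N ×_X U i`.
-/

set_option autoImplicit false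

universe u

open CategoryTheory CategoryTheory.Limits AlgebraicGeometry Opposite

namespace Groth.Agent.H7.NAS

open _root_.AlgSp Groth.Agent.H5.AlgSp

variable {S : Scheme.{u}}

/-- The sieve of arrows along which a point of `X` lifts to one of the charts. -/
def coverSieve {X : Sp S} {ι : Type u} {U : ι → Sp S} (p : ∀ i, U i ⟶ X) {T : Over S}
    (x : (yon S).obj T ⟶ X) : Sieve T where
  arrows T' a := ∃ (i : ι) (u : (yon S).obj T' ⟶ U i), u ≫ p i = (yon S).map a ≫ x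
  downward_closed := by
    rintro T' T'' a ⟨i, u, hu⟩ g
    exact ⟨i, (yon S).map g ≫ u, by rw [Category.assoc, hu, Functor.map_comp, Category.assoc]⟩

/-- Descent data for sheaves over the members of a covering family of `X`. -/
structure DescData (X : Sp S) where
  ι : Type u
  U : ι → Sp S
  p : ∀ i, U i ⟶ X
  M : ι → Sp S
  ν : ∀ i, M i ⟶ U i
  tr : ∀ {i j : ι} {T : Over S} (m : (yon S).obj T ⟶ M i) (u' : (yon S).obj T ⟶ U j),
    m ≫ ν i ≫ p i = u' ≫ p j → ((yon S).obj T ⟶ M j)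
  tr_ν : ∀ {i j : ι} {T : Over S} (m : (yon S).obj T ⟶ M i) (u' : (yon S).obj T ⟶ U j)
    (h : m ≫ ν i ≫ p i = u' ≫ p j), tr m u' h ≫ ν j = u'
  tr_nat : ∀ {i j : ι} {T T' : Over S} (g : T' ⟶ T) (m : (yon S).obj T ⟶ M i)
    (u' : (yon S).obj T ⟶ U j) (h : m ≫ ν i ≫ p i = u' ≫ p j)
    (h' : ((yon S).map g ≫ m) ≫ ν i ≫ p i = ((yon S).map g ≫ u') ≫ p j),
    (yon S).map g ≫ tr m u' h = tr ((yon S).map g ≫ m) ((yon S).map g ≫ u') h'
  tr_id : ∀ {i : ι} {T : Over S} (m : (yon S).obj T ⟶ M i) (u' : (yon S).obj T ⟶ U i)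
    (_ : u' = m ≫ ν i) (h : m ≫ ν i ≫ p i = u' ≫ p i), tr m u' h = m
  tr_tr : ∀ {i j k : ι} {T : Over S} (m : (yon S).obj T ⟶ M i) (u' : (yon S).obj T ⟶ U j)
    (u'' : (yon S).obj T ⟶ U k) (h : m ≫ ν i ≫ p i = u' ≫ p j) (m' : (yon S).obj T ⟶ M j)
    (_ : tr m u' h = m') (h' : m' ≫ ν j ≫ p j = u'' ≫ p k) (h'' : m ≫ ν i ≫ p i = u'' ≫ p k),
    tr m' u'' h' = tr m u'' h''
  cov : ∀ (T : Over S) (x : (yon S).obj T ⟶ X), coverSieve p x ∈ J S T

namespace DescData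

variable {X : Sp S} (D : DescData X)

lemma tr_congr {i j : ι D} {T : Over S} (m : (yon S).obj T ⟶ D.M i)
    (u' u'' : (yon S).obj T ⟶ D.U j) (hu : u' = u'') (h : m ≫ D.ν i ≫ D.p i = u' ≫ D.p j)
    (h' : m ≫ D.ν i ≫ D.p i = u'' ≫ D.p j) : D.tr m u' h = D.tr m u'' h' := by
  subst hu
  rfl

/-- The relation on the points of the `M i`. -/
def Rel (T : Over S) (a b : Σ i : D.ι, ((yon S).obj T ⟶ D.M i)) : Prop :=
  ∃ h : a.2 ≫ D.ν a.1 ≫ D.p a.1 = (b.2 ≫ D.ν b.1) ≫ D.p b.1, D.tr a.2 (b.2 ≫ D.ν b.1) h = b.2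

lemma rel_refl (T : Over S) (a : Σ i : D.ι, ((yon S).obj T ⟶ D.M i)) : D.Rel T a a :=
  ⟨(Category.assoc _ _ _).symm, D.tr_id _ _ rfl _⟩

lemma rel_symm (T : Over S) {a b : Σ i : D.ι, ((yon S).obj T ⟶ D.M i)} (h : D.Rel T a b) :
    D.Rel T b a := by
  obtain ⟨h1, h2⟩ := h
  have h3 : b.2 ≫ D.ν b.1 ≫ D.p b.1 = (a.2 ≫ D.ν a.1) ≫ D.p a.1 := by
    rw [Category.assoc, h1, Category.assoc]
  refine ⟨h3, ?_⟩
  rw [D.tr_tr a.2 (b.2 ≫ D.ν b.1) (a.2 ≫ D.ν a.1) h1 b.2 h2 h3 (Category.assoc _ _ _).symm]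
  exact D.tr_id _ _ rfl _

lemma rel_trans (T : Over S) {a b c : Σ i : D.ι, ((yon S).obj T ⟶ D.M i)} (h : D.Rel T a b)
    (h' : D.Rel T b c) : D.Rel T a c := by
  obtain ⟨h1, h2⟩ := h
  obtain ⟨h3, h4⟩ := h'
  have h5 : a.2 ≫ D.ν a.1 ≫ D.p a.1 = (c.2 ≫ D.ν c.1) ≫ D.p c.1 := by
    rw [h1, Category.assoc, h3]
  refine ⟨h5, ?_⟩
  rw [← D.tr_tr a.2 (b.2 ≫ D.ν b.1) (c.2 ≫ D.ν c.1) h1 b.2 h2 h3 h5]
  exact h4

/-- The setoid of the relation. -/
def setoid (T : Over S) : Setoid (Σ i : D.ι, ((yon S).obj T ⟶ D.M i)) where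
  r := D.Rel T
  iseqv := ⟨D.rel_refl T, D.rel_symm T, D.rel_trans T⟩

/-- Restriction of a point. -/
def res {T T' : Over S} (g : T' ⟶ T) (a : Σ i : D.ι, ((yon S).obj T ⟶ D.M i)) :
    Σ i : D.ι, ((yon S).obj T' ⟶ D.M i) := ⟨a.1, (yon S).map g ≫ a.2⟩

lemma rel_res {T T' : Over S} (g : T' ⟶ T) {a b : Σ i : D.ι, ((yon S).obj T ⟶ D.M i)}
    (h : D.Rel T a b) : D.Rel T' (D.res g a) (D.res g b) := by
  obtain ⟨h1, h2⟩ := h
  have h3 : ((yon S).map g ≫ a.2) ≫ D.ν a.1 ≫ D.p a.1 =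
      ((yon S).map g ≫ b.2 ≫ D.ν b.1) ≫ D.p b.1 := by
    rw [Category.assoc, h1, ← Category.assoc]
  have h4 : ((yon S).map g ≫ a.2) ≫ D.ν a.1 ≫ D.p a.1 =
      (((yon S).map g ≫ b.2) ≫ D.ν b.1) ≫ D.p b.1 := by
    rw [h3, Category.assoc ((yon S).map g) b.2 (D.ν b.1)]
  refine ⟨h4, ?_⟩
  change D.tr ((yon S).map g ≫ a.2) (((yon S).map g ≫ b.2) ≫ D.ν b.1) h4 = (yon S).map g ≫ b.2
  rw [D.tr_congr _ _ ((yon S).map g ≫ b.2 ≫ D.ν b.1) (Category.assoc _ _ _) h4 h3,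
    ← D.tr_nat g a.2 (b.2 ≫ D.ν b.1) h1 h3, h2]

/-- The presheaf quotient. -/
def P : (Over S)ᵒᵖ ⥤ Type (u + 1) where
  obj T := Quotient (D.setoid T.unop)
  map {T T'} g := ↾(Quotient.map' (s₁ := D.setoid T.unop) (s₂ := D.setoid T'.unop) (D.res g.unop)
    (fun _ _ h => D.rel_res g.unop h))
  map_id := by
    rintro ⟨T⟩
    ext ⟨a⟩
    apply Quotient.sound'
    change D.Rel T (D.res (𝟙 T) a) a
    have : D.res (𝟙 T) a = a := by
      obtain ⟨i, m⟩ := a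
      simp [res]
    rw [this]
    exact D.rel_refl T a
  map_comp := by
    rintro ⟨T⟩ ⟨T'⟩ ⟨T''⟩ ⟨g⟩ ⟨g'⟩
    ext ⟨a⟩
    apply Quotient.sound'
    change D.Rel T'' (D.res (g' ≫ g) a) (D.res g' (D.res g a))
    have : D.res (g' ≫ g) a = D.res g' (D.res g a) := by
      obtain ⟨i, m⟩ := a
      simp [res]
    rw [this]
    exact D.rel_refl T'' _

/-- The descended sheaf. -/
noncomputable def N : Sp S := (presheafToSheaf (J S) (Type (u + 1))).obj D.P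

/-- The class of a point of `M i` in the presheaf quotient. -/
def cls {T : Over S} {i : D.ι} (m : (yon S).obj T ⟶ D.M i) : D.P.obj (op T) :=
  Quotient.mk'' (s₁ := D.setoid T) ⟨i, m⟩

lemma cls_eq_iff {T : Over S} {i j : D.ι} (m : (yon S).obj T ⟶ D.M i)
    (m' : (yon S).obj T ⟶ D.M j) : D.cls m = D.cls m' ↔ D.Rel T ⟨i, m⟩ ⟨j, m'⟩ :=
  Quotient.eq''

lemma map_cls {T T' : Over S} (g : T' ⟶ T) {i : D.ι} (m : (yon S).obj T ⟶ D.M i) :
    D.P.map g.op (D.cls m) = D.cls ((yon S).map g ≫ m) := rfl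

lemma exists_cls {T : Over S} (t : D.P.obj (op T)) :
    ∃ (i : D.ι) (m : (yon S).obj T ⟶ D.M i), t = D.cls m := by
  obtain ⟨⟨i, m⟩, rfl⟩ := Quotient.exists_rep t
  exact ⟨i, m, rfl⟩

/-- The image of a point of `M i` in `N`. -/
noncomputable def pt {T : Over S} {i : D.ι} (m : (yon S).obj T ⟶ D.M i) : (yon S).obj T ⟶ D.N :=
  (yEquiv D.N T).symm ((toSheafify (J S) D.P).app (op T) (D.cls m))

lemma pt_map {T T' : Over S} (g : T' ⟶ T) {i : D.ι} (m : (yon S).obj T ⟶ D.M i) :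
    (yon S).map g ≫ D.pt m = D.pt ((yon S).map g ≫ m) := by
  unfold pt
  rw [← yEquiv_symm_map, ← D.map_cls]
  congr 1
  exact (NatTrans.naturality_apply (toSheafify (J S) D.P) g.op (D.cls m)).symm

lemma pt_eq_of_rel {T : Over S} {i j : D.ι} (m : (yon S).obj T ⟶ D.M i)
    (m' : (yon S).obj T ⟶ D.M j) (h : D.Rel T ⟨i, m⟩ ⟨j, m'⟩) : D.pt m = D.pt m' := by
  unfold pt
  rw [(D.cls_eq_iff m m').2 h]

/-- Points of the `M i` with the same image in `N` are locally related. -/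
lemma relSieve_mem {T : Over S} {i j : D.ι} (m : (yon S).obj T ⟶ D.M i)
    (m' : (yon S).obj T ⟶ D.M j) (h : D.pt m = D.pt m') :
    (Sieve.mk (fun T' (g : T' ⟶ T) => D.Rel T' ⟨i, (yon S).map g ≫ m⟩ ⟨j, (yon S).map g ≫ m'⟩)
      (by
        intro T' T'' g hg k
        have := D.rel_res k hg
        simpa [res, Functor.map_comp, Category.assoc] using this) : Sieve T) ∈ J S T := by
  have h1 : (toSheafify (J S) D.P).app (op T) (D.cls m) =
      (toSheafify (J S) D.P).app (op T) (D.cls m') := (yEquiv D.N T).symm.injective h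
  have h2 := Presheaf.equalizerSieve_mem (J S) (toSheafify (J S) D.P) (X := op T) _ _ h1
  refine (J S).superset_covering ?_ h2
  intro T' g hg
  exact (D.cls_eq_iff _ _).1 hg

/-- The sieve of arrows along which a point of `N` lifts to some `M i`. -/
def ptSieve {T : Over S} (ξ : (yon S).obj T ⟶ D.N) : Sieve T where
  arrows T' a := ∃ (i : D.ι) (m : (yon S).obj T' ⟶ D.M i), D.pt m = (yon S).map a ≫ ξ
  downward_closed := by
    rintro T' T'' a ⟨i, m, hm⟩ g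
    exact ⟨i, (yon S).map g ≫ m, by rw [← D.pt_map, hm, Functor.map_comp, Category.assoc]⟩

lemma ptSieve_mem {T : Over S} (ξ : (yon S).obj T ⟶ D.N) : D.ptSieve ξ ∈ J S T := by
  have h := Presheaf.imageSieve_mem (J S) (toSheafify (J S) D.P) (U := op T) (yEquiv D.N T ξ)
  refine (J S).superset_covering ?_ h
  rintro T' a ⟨t, ht⟩
  obtain ⟨i, m, rfl⟩ := D.exists_cls t
  refine ⟨i, m, ?_⟩
  unfold pt
  rw [ht]
  exact yEquiv_symm_map a _ |>.trans (by rw [Equiv.symm_apply_apply])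

/-- The presheaf map from the quotient to a sheaf induced by a compatible family. -/
noncomputable def descPre {Z : Sp S} (k : ∀ i, D.M i ⟶ Z)
    (hk : ∀ {i j : D.ι} {T : Over S} (m : (yon S).obj T ⟶ D.M i) (u' : (yon S).obj T ⟶ D.U j)
      (h : m ≫ D.ν i ≫ D.p i = u' ≫ D.p j), D.tr m u' h ≫ k j = m ≫ k i) : D.P ⟶ Z.obj where
  app T := ↾(Quotient.lift (s := D.setoid T.unop) (fun a => yEquiv Z T.unop (a.2 ≫ k a.1))
    (by
      rintro a b ⟨h1, h2⟩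
      rw [← hk a.2 (b.2 ≫ D.ν b.1) h1, h2]))
  naturality := by
    rintro ⟨T⟩ ⟨T'⟩ ⟨g⟩
    ext ⟨a⟩
    simp only [types_comp_apply, TypeCat.ofHom_apply]
    change yEquiv Z T' (((yon S).map g ≫ a.2) ≫ k a.1) = Z.obj.map g.op (yEquiv Z T (a.2 ≫ k a.1))
    rw [yEquiv_map, Category.assoc]

/-- Morphisms out of the descended sheaf. -/
noncomputable def desc {Z : Sp S} (k : ∀ i, D.M i ⟶ Z)
    (hk : ∀ {i j : D.ι} {T : Over S} (m : (yon S).obj T ⟶ D.M i) (u' : (yon S).obj T ⟶ D.U j)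
      (h : m ≫ D.ν i ≫ D.p i = u' ≫ D.p j), D.tr m u' h ≫ k j = m ≫ k i) : D.N ⟶ Z :=
  ⟨sheafifyLift (J S) (D.descPre k hk) Z.property⟩

lemma pt_desc {Z : Sp S} (k : ∀ i, D.M i ⟶ Z)
    (hk : ∀ {i j : D.ι} {T : Over S} (m : (yon S).obj T ⟶ D.M i) (u' : (yon S).obj T ⟶ D.U j)
      (h : m ≫ D.ν i ≫ D.p i = u' ≫ D.p j), D.tr m u' h ≫ k j = m ≫ k i)
    {T : Over S} {i : D.ι} (m : (yon S).obj T ⟶ D.M i) : D.pt m ≫ D.desc k hk = m ≫ k i := by
  apply (yEquiv Z T).injective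
  rw [yEquiv_comp]
  unfold pt
  rw [Equiv.apply_symm_apply]
  have h1 := congrArg (fun α => α.app (op T) (D.cls m))
    (toSheafify_sheafifyLift (J S) (D.descPre k hk) Z.property)
  exact h1

/-- The morphism `M i ⟶ N`. -/
noncomputable def q (i : D.ι) : D.M i ⟶ D.N :=
  (exists_hom_of_points (fun T (m : (yon S).obj T ⟶ D.M i) => D.pt m)
    (fun T T' g m => (D.pt_map g m).symm)).choose

lemma comp_q {T : Over S} {i : D.ι} (m : (yon S).obj T ⟶ D.M i) : m ≫ D.q i = D.pt m :=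
  (exists_hom_of_points (fun T (m : (yon S).obj T ⟶ D.M i) => D.pt m)
    (fun T T' g m => (D.pt_map g m).symm)).choose_spec T m

lemma νN_aux {i j : D.ι} {T : Over S} (m : (yon S).obj T ⟶ D.M i) (u' : (yon S).obj T ⟶ D.U j)
    (h : m ≫ D.ν i ≫ D.p i = u' ≫ D.p j) :
    D.tr m u' h ≫ (fun i => D.ν i ≫ D.p i) j = m ≫ (fun i => D.ν i ≫ D.p i) i := by
  change D.tr m u' h ≫ D.ν j ≫ D.p j = m ≫ D.ν i ≫ D.p i
  rw [← Category.assoc, D.tr_ν, h]

/-- The structure morphism of the descended sheaf. -/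
noncomputable def νN : D.N ⟶ X :=
  D.desc (fun i => D.ν i ≫ D.p i) D.νN_aux

lemma q_νN (i : D.ι) : D.q i ≫ D.νN = D.ν i ≫ D.p i := by
  apply hom_ext_yon
  intro T m
  rw [← Category.assoc, D.comp_q]
  exact D.pt_desc (fun i => D.ν i ≫ D.p i) D.νN_aux m

lemma tr_q {i j : D.ι} {T : Over S} (m : (yon S).obj T ⟶ D.M i) (u' : (yon S).obj T ⟶ D.U j)
    (h : m ≫ D.ν i ≫ D.p i = u' ≫ D.p j) : D.tr m u' h ≫ D.q j = m ≫ D.q i := by
  rw [D.comp_q, D.comp_q]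
  symm
  apply D.pt_eq_of_rel
  have h' : m ≫ D.ν i ≫ D.p i = (D.tr m u' h ≫ D.ν j) ≫ D.p j := by rw [D.tr_ν, h]
  exact ⟨h', D.tr_congr _ _ _ (D.tr_ν m u' h) _ _⟩

lemma q_desc {Z : Sp S} (k : ∀ i, D.M i ⟶ Z)
    (hk : ∀ {i j : D.ι} {T : Over S} (m : (yon S).obj T ⟶ D.M i) (u' : (yon S).obj T ⟶ D.U j)
      (h : m ≫ D.ν i ≫ D.p i = u' ≫ D.p j), D.tr m u' h ≫ k j = m ≫ k i) (i : D.ι) :
    D.q i ≫ D.desc k hk = k i := by
  apply hom_ext_yon
  intro T m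
  rw [← Category.assoc, D.comp_q]
  exact D.pt_desc _ _ m

/-- The `q i` are jointly epimorphic. -/
lemma hom_ext {Z : Sp S} (a b : D.N ⟶ Z) (h : ∀ i, D.q i ≫ a = D.q i ≫ b) : a = b := by
  apply hom_ext_yon
  intro T ξ
  apply yon_hom_ext_of_mem_J (D.ptSieve_mem ξ)
  rintro T' g ⟨i, m, hm⟩
  rw [← Category.assoc, ← Category.assoc, ← hm, ← D.comp_q, Category.assoc, Category.assoc, h]

/-- The cartesian squares. -/
theorem isPullback_q (i : D.ι) : IsPullback (D.q i) (D.ν i) D.νN (D.p i) := by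
  apply isPullback_of_yon (D.q_νN i)
  intro T x y hxy
  have key := existsUnique_glue_rel (F := D.M i) (D.ptSieve_mem x)
    (fun T' a z => z ≫ D.q i = (yon S).map a ≫ x ∧ z ≫ D.ν i = (yon S).map a ≫ y) ?_ ?_ ?_
  · obtain ⟨z, hz, hz'⟩ := key
    have hz1 : z ≫ D.q i = x := by
      apply yon_hom_ext_of_mem_J (D.ptSieve_mem x)
      intro T' a ha
      rw [← Category.assoc]
      exact (hz a ha).1
    have hz2 : z ≫ D.ν i = y := by
      apply yon_hom_ext_of_mem_J (D.ptSieve_mem x)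
      intro T' a ha
      rw [← Category.assoc]
      exact (hz a ha).2
    refine ⟨z, ⟨hz1, hz2⟩, ?_⟩
    rintro z' ⟨h1, h2⟩
    apply hz'
    intro T' a _
    exact ⟨by rw [Category.assoc, h1], by rw [Category.assoc, h2]⟩
  · -- existence
    rintro T' a ⟨j, m, hm⟩
    have h1 : m ≫ D.ν j ≫ D.p j = ((yon S).map a ≫ y) ≫ D.p i := by
      rw [← D.q_νN, ← Category.assoc, D.comp_q, hm, Category.assoc, Category.assoc, hxy]
    refine ⟨D.tr m ((yon S).map a ≫ y) h1, ?_, D.tr_ν _ _ _⟩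
    rw [D.tr_q, D.comp_q, hm]
  · -- uniqueness
    rintro T' a z z' ⟨h1, h2⟩ ⟨h1', h2'⟩
    have h3 : D.pt z = D.pt z' := by rw [← D.comp_q, ← D.comp_q, h1, h1']
    apply yon_hom_ext_of_mem_J (D.relSieve_mem z z' h3)
    rintro T'' g ⟨h4, h5⟩
    have h5' : D.tr ((yon S).map g ≫ z) (((yon S).map g ≫ z') ≫ D.ν i) h4 = (yon S).map g ≫ z' := h5
    rw [← h5']
    symm
    apply D.tr_id
    rw [Category.assoc, Category.assoc, h2, h2']
  · -- restriction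
    rintro T' T'' a g z ⟨h1, h2⟩
    exact ⟨by rw [Category.assoc, h1, Functor.map_comp, Category.assoc],
      by rw [Category.assoc, h2, Functor.map_comp, Category.assoc]⟩

end DescData

end Groth.Agent.H7.NAS
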