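import Groth.Agent.Lib.Helper7.NAS6
import Groth.Agent.Lib.Helper7.NAS1
import Groth.Agent.Lib.Helper5.AlgSp.FibreProduct
import Mathlib

/-!
# Relative normalization of algebraic spaces, part 7: the descent datum of a family of local
normalizations
-/

set_option autoImplicit false

universe u

open CategoryTheory CategoryTheory.Limits AlgebraicGeometry Opposite

namespace Groth.Agent.H7.NAS

open _root_.AlgSp Groth.Agent.H5.AlgSp

variable {S : Scheme.{u}}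

lemma isEtaleMor_of_repWith {F G : Sp S} {g : F ⟶ G} (h : RepWith @Etale g) : IsEtaleMor g :=
  fun _ _ hφ => (RepWith @Etale).comp_mem _ _ hφ h

/-- A covering family of stable local normalizations over étale charts. -/
structure Fam {Y X : Sp S} (f : Y ⟶ X) where
  hX : IsAlgSpace X
  ι : Type u
  L : ι → LocN f
  hU : ∀ i, IsAlgSpace (L i).U
  hw : ∀ i, RepWith @Etale (L i).w
  cov : ∀ (T : Over S) (x : (yon S).obj T ⟶ X), coverSieve (fun i => (L i).w) x ∈ J S T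

namespace Fam

variable {Y X : Sp S} {f : Y ⟶ X} (F : Fam f)

/-- The double overlaps. -/
noncomputable abbrev B (i j : F.ι) : Sp S := pullback (F.L i).w (F.L j).w

lemma hB (i j : F.ι) : IsAlgSpace (F.B i j) :=
  isAlgSpace_pullback F.hX.diag (F.hU i) (F.hU j) (IsPullback.of_hasPullback _ _)

lemma repWith_fst (i j : F.ι) : RepWith @Etale (pullback.fst (F.L i).w (F.L j).w) :=
  MorphismProperty.of_isPullback (P := RepWith @Etale)
    (IsPullback.of_hasPullback (F.L i).w (F.L j).w).flip (F.hw j)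

lemma repWith_snd (i j : F.ι) : RepWith @Etale (pullback.snd (F.L i).w (F.L j).w) :=
  MorphismProperty.of_isPullback (P := RepWith @Etale)
    (IsPullback.of_hasPullback (F.L i).w (F.L j).w) (F.hw i)

/-- The base change of the `i`-th normalization to the overlap with `j`. -/
noncomputable def dd (i j : F.ι) :
    BC (F.L i).fU (F.L i).ν (F.L i).f' (pullback.fst (F.L i).w (F.L j).w) :=
  BC.std (F.L i).st.1 _

/-- The comparison maps. -/
noncomputable def Θ (i j : F.ι) : (F.dd i j).NC ⟶ (F.L j).N :=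
  LocN.theta (F.L i) (F.L j) (F.dd i j) (pullback.snd _ _) pullback.condition (F.hB i j)
    (isEtaleMor_of_repWith (F.repWith_fst i j))

lemma Θ_ν (i j : F.ι) : F.Θ i j ≫ (F.L j).ν = (F.dd i j).νC ≫ pullback.snd _ _ :=
  LocN.theta_ν _ _ _ _ _ _ _

/-- The point of the base change of `N i` defined by a point of `N i` and a point of `U j`. -/
noncomputable def ptN {i j : F.ι} {T : Over S} (m : (yon S).obj T ⟶ (F.L i).N)
    (u' : (yon S).obj T ⟶ (F.L j).U) (h : m ≫ (F.L i).ν ≫ (F.L i).w = u' ≫ (F.L j).w) :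
    (yon S).obj T ⟶ (F.dd i j).NC :=
  (F.dd i j).sq2.lift m (pullback.lift (m ≫ (F.L i).ν) u' (by rw [Category.assoc, h]))
    (pullback.lift_fst _ _ _).symm

@[reassoc]
lemma ptN_b {i j : F.ι} {T : Over S} (m : (yon S).obj T ⟶ (F.L i).N)
    (u' : (yon S).obj T ⟶ (F.L j).U) (h : m ≫ (F.L i).ν ≫ (F.L i).w = u' ≫ (F.L j).w) :
    F.ptN m u' h ≫ (F.dd i j).b = m := IsPullback.lift_fst _ _ _ _

@[reassoc]
lemma ptN_νC_fst {i j : F.ι} {T : Over S} (m : (yon S).obj T ⟶ (F.L i).N)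
    (u' : (yon S).obj T ⟶ (F.L j).U) (h : m ≫ (F.L i).ν ≫ (F.L i).w = u' ≫ (F.L j).w) :
    F.ptN m u' h ≫ (F.dd i j).νC ≫ pullback.fst _ _ = m ≫ (F.L i).ν := by
  unfold ptN
  rw [IsPullback.lift_snd_assoc, pullback.lift_fst]

@[reassoc]
lemma ptN_νC_snd {i j : F.ι} {T : Over S} (m : (yon S).obj T ⟶ (F.L i).N)
    (u' : (yon S).obj T ⟶ (F.L j).U) (h : m ≫ (F.L i).ν ≫ (F.L i).w = u' ≫ (F.L j).w) :
    F.ptN m u' h ≫ (F.dd i j).νC ≫ pullback.snd _ _ = u' := by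
  unfold ptN
  rw [IsPullback.lift_snd_assoc, pullback.lift_snd]

lemma ptN_ext {i j : F.ι} {T : Over S} (n n' : (yon S).obj T ⟶ (F.dd i j).NC)
    (h1 : n ≫ (F.dd i j).b = n' ≫ (F.dd i j).b)
    (h2 : n ≫ (F.dd i j).νC ≫ pullback.snd _ _ = n' ≫ (F.dd i j).νC ≫ pullback.snd _ _) :
    n = n' := by
  apply (F.dd i j).sq2.hom_ext h1
  apply pullback.hom_ext
  · rw [Category.assoc, Category.assoc, ← (F.dd i j).sq2.w, ← Category.assoc, h1, Category.assoc]
  · rw [Category.assoc, Category.assoc, h2]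

/-- The transport of points. -/
noncomputable def tr {i j : F.ι} {T : Over S} (m : (yon S).obj T ⟶ (F.L i).N)
    (u' : (yon S).obj T ⟶ (F.L j).U) (h : m ≫ (F.L i).ν ≫ (F.L i).w = u' ≫ (F.L j).w) :
    (yon S).obj T ⟶ (F.L j).N :=
  F.ptN m u' h ≫ F.Θ i j

lemma tr_ν {i j : F.ι} {T : Over S} (m : (yon S).obj T ⟶ (F.L i).N)
    (u' : (yon S).obj T ⟶ (F.L j).U) (h : m ≫ (F.L i).ν ≫ (F.L i).w = u' ≫ (F.L j).w) :
    F.tr m u' h ≫ (F.L j).ν = u' := by
  unfold tr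
  rw [Category.assoc, Θ_ν, ptN_νC_snd]

lemma tr_nat {i j : F.ι} {T T' : Over S} (g : T' ⟶ T) (m : (yon S).obj T ⟶ (F.L i).N)
    (u' : (yon S).obj T ⟶ (F.L j).U) (h : m ≫ (F.L i).ν ≫ (F.L i).w = u' ≫ (F.L j).w)
    (h' : ((yon S).map g ≫ m) ≫ (F.L i).ν ≫ (F.L i).w = ((yon S).map g ≫ u') ≫ (F.L j).w) :
    (yon S).map g ≫ F.tr m u' h = F.tr ((yon S).map g ≫ m) ((yon S).map g ≫ u') h' := by
  unfold tr
  rw [← Category.assoc]
  congr 1
  apply F.ptN_ext
  · rw [Category.assoc, ptN_b, ptN_b]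
  · rw [Category.assoc, ptN_νC_snd, ptN_νC_snd]

lemma tr_id {i : F.ι} {T : Over S} (m : (yon S).obj T ⟶ (F.L i).N)
    (u' : (yon S).obj T ⟶ (F.L i).U) (hu : u' = m ≫ (F.L i).ν)
    (h : m ≫ (F.L i).ν ≫ (F.L i).w = u' ≫ (F.L i).w) : F.tr m u' h = m := by
  subst hu
  obtain ⟨s, hs, hs'⟩ : ∃ s : (F.L i).U ⟶ F.B i i, s ≫ pullback.fst _ _ = 𝟙 _ ∧
      s ≫ pullback.snd _ _ = 𝟙 _ :=
    ⟨pullback.lift (𝟙 _) (𝟙 _) rfl, pullback.lift_fst _ _ _, pullback.lift_snd _ _ _⟩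
  obtain ⟨σ, hσ1, hσ2⟩ : ∃ σ : (F.L i).N ⟶ (F.dd i i).NC, σ ≫ (F.dd i i).b = 𝟙 _ ∧
      σ ≫ (F.dd i i).νC = (F.L i).ν ≫ s :=
    ⟨(F.dd i i).sq2.lift (𝟙 _) ((F.L i).ν ≫ s)
      (by rw [Category.id_comp, Category.assoc, hs, Category.comp_id]),
      IsPullback.lift_fst _ _ _ _, IsPullback.lift_snd _ _ _ _⟩
  have key : σ ≫ F.Θ i i = 𝟙 _ :=
    LocN.theta_section (F.L i) (F.hU i) (F.dd i i) (pullback.snd _ _) pullback.condition
      (F.hB i i) (isEtaleMor_of_repWith (F.repWith_fst i i)) s hs hs' σ hσ1 hσ2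
  have : F.ptN m (m ≫ (F.L i).ν) h = m ≫ σ := by
    apply F.ptN_ext
    · rw [ptN_b, Category.assoc, hσ1, Category.comp_id]
    · rw [ptN_νC_snd, Category.assoc, ← Category.assoc σ, hσ2, Category.assoc, hs',
        Category.comp_id]
  unfold tr
  rw [this, Category.assoc, key, Category.comp_id]

end Fam

end Groth.Agent.H7.NAS
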