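import Groth.Agent.Lib.Helper7.QFib1
import Groth.Agent.Lib.Helper5.AlgSp.DecentT0
import Groth.Prelude.Def_Flat
import Mathlib

/-!
# Algebraic spaces locally of finite type over a field: isolated points
-/

set_option autoImplicit false
universe u

open AlgebraicGeometry CategoryTheory Limits

namespace Groth.Agent.H7.QFib

open _root_.AlgSp Groth.Agent.H5.AlgSp

variable {S : Scheme.{u}}

/-- the Krull dimension of a nonempty space is nonnegative. -/
theorem topologicalKrullDim_nonneg (T : Type*) [TopologicalSpace T] [Nonempty T] :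
    0 ≤ topologicalKrullDim T := by
  obtain ⟨t⟩ := (inferInstance : Nonempty T)
  haveI : Nonempty (TopologicalSpace.IrreducibleCloseds T) :=
    ⟨⟨closure {t}, isIrreducible_singleton.closure, isClosed_closure⟩⟩
  exact Order.krullDim_nonneg

/-- local dimension zero means that some open neighbourhood has dimension at most zero. -/
theorem localDim_eq_zero_iff {T : Type*} [TopologicalSpace T] (t : T) :
    FlatMor.localDim T t = 0 ↔
      ∃ N : TopologicalSpace.Opens T, t ∈ N ∧ topologicalKrullDim ↥(N : Set T) ≤ 0 := by
  unfold FlatMor.localDim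
  constructor
  · intro h
    by_contra hcon
    push_neg at hcon
    have : (1 : WithBot ℕ∞) ≤ ⨅ U : {U : TopologicalSpace.Opens T // t ∈ U},
        topologicalKrullDim (U.1 : Set T) := by
      apply le_iInf
      intro U
      have h1 := hcon U.1 U.2
      revert h1
      generalize topologicalKrullDim ↥(U.1 : Set T) = a
      intro h1
      induction a using WithBot.recBotCoe with
      | bot => exact absurd h1 (not_lt_bot)
      | coe a =>
        have h2 : (0 : ℕ∞) < a := by exact_mod_cast h1
        have h3 : (1 : ℕ∞) ≤ a := Order.one_le_iff_pos.2 h2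
        exact_mod_cast h3
    rw [h] at this
    exact absurd this (by decide)
  · rintro ⟨N, htN, hN⟩
    apply le_antisymm
    · exact (iInf_le _ (⟨N, htN⟩ : {U : TopologicalSpace.Opens T // t ∈ U})).trans hN
    · apply le_iInf
      intro U
      haveI : Nonempty ↥(U.1 : Set T) := ⟨⟨t, U.2⟩⟩
      exact topologicalKrullDim_nonneg _

section field

variable {P : Sp S} {k : Type u} [Field k] (str : Spec (CommRingCat.of k) ⟶ S)
  (snd : P ⟶ (yon S).obj (Over.mk str))

/-- an étale chart of a space locally of finite type over a field is locally of finite type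
over the field. -/
theorem exists_lft_chart (hlft : LocP @LocallyOfFiniteType snd) {W : Over S}
    (c : (yon S).obj W ⟶ P) (hce : RepWith @Etale c) :
    ∃ g : W.left ⟶ Spec (CommRingCat.of k), LocallyOfFiniteType g := by
  obtain ⟨g, hg⟩ := (yon S).map_surjective (c ≫ snd)
  exact ⟨g.left, hlft c (𝟙 _) g hce (repWith_id _ _) (by rw [hg, Category.comp_id])⟩

/-- over an open point of a space locally of finite type over a field, all points of an étale
chart are open and closed. -/
theorem isClopen_singleton_chart (hlft : LocP @LocallyOfFiniteType snd) {W : Over S}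
    (c : (yon S).obj W ⟶ P) (hce : RepWith @Etale c) (w : ↥W.left)
    (hopen : IsOpen ({Points.ofPt c w} : Set (Points P))) :
    IsOpen ({w} : Set ↥W.left) ∧ IsClosed ({w} : Set ↥W.left) := by
  obtain ⟨g, hg⟩ := (yon S).map_surjective (c ≫ snd)
  have hl : LocallyOfFiniteType g.left :=
    hlft c (𝟙 _) g hce (repWith_id _ _) (by rw [hg, Category.comp_id])
  have sq := hce.rep.isPullback' c
  have hs : Etale (hce.rep.fst' c).left := hce.property c _ _ sq.flip
  have ht : Etale (hce.rep.snd c).left := hce.property_snd c
  let E : Set ↥W.left := Points.ofPt c ⁻¹' {Points.ofPt c w}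
  have hE : IsOpen E := hopen.preimage (Points.continuous_ofPt c)
  have hwE : w ∈ E := rfl
  have htr : ∀ u₁ ∈ E, ∀ u₂ ∈ E, ∃ z : ↥(hce.rep.pullback c).left,
      (hce.rep.snd c).left z = u₁ ∧ (hce.rep.fst' c).left z = u₂ := by
    intro u₁ hu₁ u₂ hu₂
    have h12 : Points.map c (Points.schemeHomeo W u₂) = Points.ofPt c u₁ := by
      have h1 : Points.ofPt c u₁ = Points.ofPt c w := hu₁
      have h2 : Points.ofPt c u₂ = Points.ofPt c w := hu₂
      rw [h1, ← h2, Points.ofPt_eq_map_ofScheme]
      rfl
    obtain ⟨v, hv1, hv2⟩ := exists_point_of_isPullback sq (Points.schemeHomeo W u₂) u₁ h12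
    refine ⟨v, hv1, ?_⟩
    apply (Points.schemeHomeo W).injective
    rw [← hv2]
    have := ofPt_yon_map_comp (hce.rep.fst' c) (𝟙 ((yon S).obj W)) v
    rw [Category.comp_id] at this
    rw [this]
    rfl
  have hcl : ∀ u ∈ E, IsClosed ({u} : Set ↥W.left) :=
    isClosed_singleton_of_etale_relation (k := k) g.left (hce.rep.fst' c).left
      (hce.rep.snd c).left E hE ⟨w, hwE⟩ htr
  refine ⟨?_, hcl w hwE⟩
  let E' : W.left.Opens := ⟨E, hE⟩
  have : IsLocallyNoetherian (Over.mk str).left :=
    (inferInstance : IsLocallyNoetherian (Spec (CommRingCat.of k)))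
  have : IsLocallyNoetherian W.left := LocallyOfFiniteType.isLocallyNoetherian g.left
  have : T1Space ↥(E' : Scheme) := by
    refine ⟨fun x => ?_⟩
    have := hcl x.1 x.2
    have h2 : ({x} : Set ↥(E' : Scheme)) = E'.ι ⁻¹' {x.1} := by
      ext y
      simp only [Set.mem_singleton_iff, Set.mem_preimage]
      exact ⟨fun h => by rw [h]; rfl, fun h => Subtype.ext h⟩
    rw [h2]
    exact this.preimage E'.ι.continuous
  have hd : DiscreteTopology ↥(E' : Scheme) := discreteTopology_of_t1Space _
  have h3 : ({w} : Set ↥W.left) = E'.ι '' {⟨w, hwE⟩} := by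
    rw [Set.image_singleton]
    rfl
  rw [h3]
  exact E'.ι.isOpenEmbedding.isOpenMap _ (isOpen_discrete _)

/-- a point of a space locally of finite type over a field is open iff it is closed and has no
proper generization. -/
theorem isOpen_singleton_iff_isClosed_and (hP : IsAlgSpace P)
    (hlft : LocP @LocallyOfFiniteType snd) (xt : Points P) :
    IsOpen ({xt} : Set (Points P)) ↔
      IsClosed ({xt} : Set (Points P)) ∧ ∀ x' : Points P, x' ⤳ xt → x' = xt := by
  obtain ⟨W, c, hce, hcs⟩ := hP.atlas
  obtain ⟨g, hgl⟩ := exists_lft_chart str snd hlft c hce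
  haveI : IsLocallyNoetherian W.left := LocallyOfFiniteType.isLocallyNoetherian g
  haveI : JacobsonSpace ↥W.left := LocallyOfFiniteType.jacobsonSpace g
  have hsurj := ofPt_surjective_of_repWith hcs
  have hquot : Topology.IsQuotientMap (Points.ofPt c) :=
    (isOpenMap_ofPt_of_etale hce).isQuotientMap (Points.continuous_ofPt c) hsurj
  constructor
  · intro hopen
    refine ⟨?_, fun x' hx' => hx'.mem_open hopen rfl⟩
    rw [← hquot.isClosed_preimage]
    apply isClosed_of_subset_isolated
    intro t ht
    have ht' : Points.ofPt c t = xt := ht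
    exact (isClopen_singleton_chart str snd hlft c hce t (by rw [ht']; exact hopen)).1
  · rintro ⟨hcl, hgen⟩
    have hE : IsOpen (Points.ofPt c ⁻¹' {xt}) := by
      apply isOpen_of_isClosed_of_stableUnderGeneralization _ _
        (hcl.preimage (Points.continuous_ofPt c))
      intro e w' hw' he
      have he' : Points.ofPt c e = xt := he
      have h1 := hw'.map (Points.continuous_ofPt c)
      rw [he'] at h1
      exact hgen _ h1
    have := isOpenMap_ofPt_of_etale hce _ hE
    rwa [Set.image_preimage_eq _ hsurj] at this

/-- a point of a space locally of finite type over a field is open iff the local dimension of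
some étale chart at a point over it is zero. -/
theorem isOpen_singleton_iff_hasAt_localDim (hP : IsAlgSpace P)
    (hlft : LocP @LocallyOfFiniteType snd) (xt : Points P) :
    IsOpen ({xt} : Set (Points P)) ↔
      HasAt (fun U u => FlatMor.localDim ↥U u = 0) P xt := by
  constructor
  · intro hopen
    obtain ⟨W, c, hce, hcs⟩ := hP.atlas
    obtain ⟨w, rfl⟩ := ofPt_surjective_of_repWith hcs xt
    have hw := (isClopen_singleton_chart str snd hlft c hce w hopen).1
    refine ⟨W, c, w, hce, rfl, ?_⟩
    show FlatMor.localDim ↥W.left w = 0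
    rw [localDim_eq_zero_iff]
    refine ⟨⟨{w}, hw⟩, rfl, ?_⟩
    haveI : DiscreteTopology ↥(({w} : Set ↥W.left)) := inferInstance
    exact topologicalKrullDim_zero_of_discreteTopology _
  · rintro ⟨U, a, u, hae, rfl, hdim⟩
    obtain ⟨g, hgl⟩ := exists_lft_chart str snd hlft a hae
    haveI : IsLocallyNoetherian U.left := LocallyOfFiniteType.isLocallyNoetherian g
    rw [localDim_eq_zero_iff] at hdim
    obtain ⟨N, huN, hN⟩ := hdim
    let N' : U.left.Opens := N
    have hN' : topologicalKrullDim ↥(N' : Scheme) ≤ 0 := hN
    haveI := IsLocallyArtinian.of_topologicalKrullDim_le_zero hN'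
    have h1 : IsOpen ({(⟨u, huN⟩ : ↥(N' : Scheme))} : Set ↥(N' : Scheme)) := isOpen_discrete _
    have h2' := N'.ι.isOpenEmbedding.isOpenMap _ h1
    have h2 : IsOpen ({u} : Set ↥U.left) := by
      have h4 : ({u} : Set ↥U.left) = N'.ι '' {⟨u, huN⟩} := by
        rw [Set.image_singleton]
        rfl
      rw [h4]
      exact h2'
    have h3 := isOpenMap_ofPt_of_etale hae _ h2
    rw [Set.image_singleton] at h3
    exact h3

/-- the space of points of a nonempty space locally of finite type over a field is discrete iff
the space has dimension zero. -/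
theorem discreteTopology_iff_dim_eq_zero (hP : IsAlgSpace P)
    (hlft : LocP @LocallyOfFiniteType snd) [Nonempty (Points P)] :
    DiscreteTopology (Points P) ↔ AlgSp.dim P = 0 := by
  obtain ⟨W, c, hce, hcs⟩ := hP.atlas
  have hsurj := ofPt_surjective_of_repWith hcs
  constructor
  · intro hd
    apply le_antisymm
    · unfold AlgSp.dim
      refine iSup_le fun U => iSup_le fun a => iSup_le fun ha => ?_
      haveI := discreteTopology_chart_of_discrete_points str snd hlft a ha
      exact topologicalKrullDim_zero_of_discreteTopology _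
    · obtain ⟨x⟩ := (inferInstance : Nonempty (Points P))
      obtain ⟨w, -⟩ := hsurj x
      haveI : Nonempty ↥W.left := ⟨w⟩
      unfold AlgSp.dim
      exact (topologicalKrullDim_nonneg ↥W.left).trans
        (le_iSup_of_le W (le_iSup_of_le c (le_iSup_of_le hce le_rfl)))
  · intro hdim
    obtain ⟨g, hgl⟩ := exists_lft_chart str snd hlft c hce
    haveI : IsLocallyNoetherian W.left := LocallyOfFiniteType.isLocallyNoetherian g
    have hW : topologicalKrullDim ↥W.left ≤ 0 := by
      rw [← hdim]
      unfold AlgSp.dim
      exact le_iSup_of_le W (le_iSup_of_le c (le_iSup_of_le hce le_rfl))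
    haveI := IsLocallyArtinian.of_topologicalKrullDim_le_zero hW
    rw [discreteTopology_iff_isOpen_singleton]
    intro x
    obtain ⟨w, rfl⟩ := hsurj x
    rw [← Set.image_singleton]
    exact isOpenMap_ofPt_of_etale hce _ (isOpen_discrete _)

/-- in a T0 space of dimension at most zero there are no nontrivial specializations. -/
theorem eq_of_specializes_of_dim_le_zero {T : Type*} [TopologicalSpace T] [T0Space T]
    (hT : topologicalKrullDim T ≤ 0) {x x' : T} (h : x ⤳ x') : x = x' := by
  unfold topologicalKrullDim at hT
  rw [Order.krullDim_nonpos_iff_forall_isMax] at hT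
  let Z : TopologicalSpace.IrreducibleCloseds T :=
    ⟨closure {x}, isIrreducible_singleton.closure, isClosed_closure⟩
  let Z' : TopologicalSpace.IrreducibleCloseds T :=
    ⟨closure {x'}, isIrreducible_singleton.closure, isClosed_closure⟩
  have hle : Z' ≤ Z := by
    change closure {x'} ⊆ closure {x}
    exact isClosed_closure.closure_subset_iff.2 (Set.singleton_subset_iff.2
      (specializes_iff_mem_closure.1 h))
  have hge : closure {x} ⊆ closure {x'} := hT Z' hle
  have h' : x' ⤳ x := specializes_iff_mem_closure.2 (hge (subset_closure rfl))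
  exact ((h.antisymm h').eq)

/-- on a decent space locally of finite type over a field, the points of an open set of
dimension at most zero are open. -/
theorem isOpen_singleton_of_dim_le_zero (hP : IsAlgSpace P) (hd : IsDecent P)
    (hlft : LocP @LocallyOfFiniteType snd) (N : Set (Points P)) (hN : IsOpen N)
    (hdim : topologicalKrullDim ↥N ≤ 0) (x : Points P) (hx : x ∈ N) :
    IsOpen ({x} : Set (Points P)) := by
  haveI : T0Space (Points P) := t0Space_points_of_isDecent hP hd
  obtain ⟨W, c, hce, hcs⟩ := hP.atlas
  obtain ⟨w, rfl⟩ := ofPt_surjective_of_repWith hcs x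
  obtain ⟨g, hgl⟩ := exists_lft_chart str snd hlft c hce
  haveI : IsLocallyNoetherian W.left := LocallyOfFiniteType.isLocallyNoetherian g
  let N' : W.left.Opens := ⟨Points.ofPt c ⁻¹' N, hN.preimage (Points.continuous_ofPt c)⟩
  have hspec : ∀ z z' : ↥(N' : Scheme), z ⤳ z' → z = z' := by
    intro z z' hzz'
    have h1 : z.1 ⤳ z'.1 := hzz'.map N'.ι.continuous
    have h2 : Points.ofPt c z.1 ⤳ Points.ofPt c z'.1 := h1.map (Points.continuous_ofPt c)
    have h3 : (⟨Points.ofPt c z.1, z.2⟩ : ↥N) ⤳ ⟨Points.ofPt c z'.1, z'.2⟩ :=
      (subtype_specializes_iff _ _).2 h2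
    have h4 := congrArg Subtype.val (eq_of_specializes_of_dim_le_zero hdim h3)
    have h5 : z'.1 = z.1 := eq_of_specializes_of_isDecent hd c hce z'.1 z.1 h4.symm h1
    exact Subtype.ext h5.symm
  haveI := discreteTopology_of_no_specializations (N' : Scheme) hspec
  have h1 : IsOpen ({(⟨w, hx⟩ : ↥(N' : Scheme))} : Set ↥(N' : Scheme)) := isOpen_discrete _
  have h2' := N'.ι.isOpenEmbedding.isOpenMap _ h1
  have h2 : IsOpen ({w} : Set ↥W.left) := by
    have h4 : ({w} : Set ↥W.left) = N'.ι '' {⟨w, hx⟩} := by
      rw [Set.image_singleton]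
      rfl
    rw [h4]
    exact h2'
  have h3 := isOpenMap_ofPt_of_etale hce _ h2
  rw [Set.image_singleton] at h3
  exact h3

/-- a decent space locally of finite type over a field with finitely many points has discrete
space of points. -/
theorem discreteTopology_of_finite_of_isDecent (hP : IsAlgSpace P) (hd : IsDecent P)
    (hlft : LocP @LocallyOfFiniteType snd) [Finite (Points P)] :
    DiscreteTopology (Points P) := by
  obtain ⟨W, c, hce, hcs⟩ := hP.atlas
  rw [discreteTopology_iff_isOpen_singleton]
  intro x
  obtain ⟨w, rfl⟩ := ofPt_surjective_of_repWith hcs x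
  obtain ⟨_, ⟨O, hOaff, rfl⟩, hwO, -⟩ := W.left.isBasis_affineOpens.exists_subset_of_mem_open
    (Set.mem_univ w) isOpen_univ
  have hce' := repWith_etale_restrict hce O
  obtain ⟨g, hgl⟩ := exists_lft_chart str snd hlft _ hce'
  haveI : IsAffine (overOpen W O).left := hOaff
  have hfin : Finite ↥(overOpen W O).left := by
    have h1 : (Points.ofPt ((yon S).map (overOpenι W O) ≫ c) ⁻¹' Set.univ).Finite :=
      Set.Finite.preimage' Set.finite_univ fun b _ =>
        finite_fibre_of_isDecent hd b (overOpen W O) _ inferInstance hce'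
    rw [Set.preimage_univ] at h1
    exact Set.finite_univ_iff.1 h1
  haveI := discreteTopology_of_finite_lft g
  let w' : ↥(overOpen W O).left := ⟨w, hwO⟩
  have h1 : IsOpen ({w'} : Set ↥(overOpen W O).left) := isOpen_discrete _
  have h3 := isOpenMap_ofPt_of_etale hce' _ h1
  have h4 : Points.ofPt ((yon S).map (overOpenι W O) ≫ c) '' {w'} = {Points.ofPt c w} := by
    rw [Set.image_singleton]
    exact congrArg _ (ofPt_restrict c O ⟨w, hwO⟩)
  rw [h4] at h3
  exact h3

end field

end Groth.Agent.H7.QFib
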