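import Groth.Agent.Lib.Helper7.FibDimSC2
import Groth.Agent.Lib.Helper7.QFib2
import Groth.Agent.Lib.Helper7.NAS7
import Groth.Agent.Lib.Helper3.AlgSpMor.SpDim
import Groth.Agent.Lib.Helper5.AlgSp.QCompact
import Groth.Agent.Lib.Helper5.AlgSp.Limits.EvClosedImmSp
import Groth.Agent.Lib.Helper8.AlgLCI.RegImm
import Groth.Agent.H4.GF3
import Mathlib

/-!
# Local constancy of the fibre dimension for proper flat morphisms of finite presentation (S10692)
-/

set_option autoImplicit false
universe u

open AlgebraicGeometry CategoryTheory Limits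

namespace Groth.Agent.H7.FibDimSC

open _root_.AlgSp Groth.Agent.H5.AlgSp Groth.Agent.H1.AlgSpDim

variable {S : Scheme.{u}}

/-- the dimension of a representable sheaf is at most the dimension of the scheme. -/
theorem dim_yon_le (U : Over S) : AlgSp.dim ((yon S).obj U) ≤ topologicalKrullDim ↥U.left := by
  unfold AlgSp.dim
  apply iSup_le; intro V
  apply iSup_le; intro a
  apply iSup_le; intro ha
  obtain ⟨h, rfl⟩ := (yon S).map_surjective a
  haveI : Etale h.left :=
    Groth.Agent.H8.AlgLCI.etale_of_comp_etale h (𝟙 _) (repWith_id _ _) (by rwa [Category.comp_id])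
  exact Groth.Agent.H3.EtaleDim.dim_le_of_etale h.left

/-- an affine scheme locally of finite type over a field has finite dimension. -/
theorem exists_nat_dim_le_of_lft_field {k : Type u} [Field k] (W : Scheme.{u}) [IsAffine W]
    (g : W ⟶ Spec (CommRingCat.of k)) [LocallyOfFiniteType g] :
    ∃ n : ℕ, topologicalKrullDim ↥W ≤ n := by
  have h1 : RingHom.FiniteType g.appTop.hom :=
    (HasRingHomProperty.iff_of_isAffine (P := @LocallyOfFiniteType)).1 inferInstance
  letI : Algebra Γ(Spec (CommRingCat.of k), ⊤) Γ(W, ⊤) := g.appTop.hom.toAlgebra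
  haveI : Algebra.FiniteType Γ(Spec (CommRingCat.of k), ⊤) Γ(W, ⊤) := h1
  let e : Γ(Spec (CommRingCat.of k), ⊤) ≃+* k := (Scheme.ΓSpecIso (CommRingCat.of k)).commRingCatIsoToRingEquiv
  haveI : IsNoetherianRing Γ(Spec (CommRingCat.of k), ⊤) := isNoetherianRing_of_ringEquiv k e.symm
  have h2 : ringKrullDim Γ(Spec (CommRingCat.of k), ⊤) < ⊤ := by
    rw [ringKrullDim_eq_of_ringEquiv e, ringKrullDim_eq_zero_of_field]
    exact WithBot.coe_lt_coe.2 (by simp)
  have h3 := Groth.Agent.H4.GF3.ringKrullDim_lt_top_of_finiteType _ Γ(W, ⊤) h2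
  have h4 : topologicalKrullDim ↥W = ringKrullDim Γ(W, ⊤) := by
    rw [← PrimeSpectrum.topologicalKrullDim_eq_ringKrullDim]
    exact IsHomeomorph.topologicalKrullDim_eq _ (W.isoSpec.hom.homeomorph.isHomeomorph)
  rw [h4]
  revert h3
  generalize ringKrullDim Γ(W, ⊤) = a
  intro h3
  induction a using WithBot.recBotCoe with
  | bot => exact ⟨0, bot_le⟩
  | coe a =>
    have h5 : a < ⊤ := by
      rw [lt_top_iff_ne_top] at h3 ⊢
      rintro rfl
      exact h3 rfl
    obtain ⟨n, rfl⟩ := ENat.ne_top_iff_exists.1 h5.ne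
    exact ⟨n, le_rfl⟩

/-- fibres of a morphism of finite type have finite dimension. -/
theorem exists_nat_dim_fibre_le {X Y : AlgSp.Space S} (f : X ⟶ Y) (hft : IsFiniteTypeMor f.hom)
    (k : FieldPt Y.obj) (Xk : Sp S) (fst : Xk ⟶ X.obj) (snd : Xk ⟶ (yon S).obj k.pt)
    (sq : IsPullback fst snd f.hom k.toHom) : ∃ n : ℕ, AlgSp.dim Xk ≤ n := by
  have hK : IsAlgSpace ((yon S).obj k.pt) := IsAlgSpace.yon_obj _
  have hqc : IsQuasiCompactSp Xk :=
    hft.2 hK ((isQuasiCompactSp_yon_iff _).2 (by change CompactSpace ↥(Spec (CommRingCat.of k.K)); infer_instance)) k.toHom fst snd sq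
  obtain ⟨U, p, hUa, hpe, hps⟩ := Groth.Agent.H5.AlgSp.Lim.exists_affine_chart_of_isQuasiCompactSp hqc
  have hlft : LocP @LocallyOfFiniteType snd :=
    locP_of_isPullback Groth.Agent.H5.AlgSp.etale_le_lft sq X.property Y.property hK hft.1
  obtain ⟨g, hg⟩ := Groth.Agent.H7.QFib.exists_lft_chart k.str snd hlft p hpe
  haveI := hUa
  obtain ⟨n, hn⟩ := exists_nat_dim_le_of_lft_field U.left g
  refine ⟨n, ?_⟩
  have h1 : AlgSp.dim ((yon S).obj U) = AlgSp.dim Xk :=
    Groth.Agent.H3.AlgSpProp.dim_eq_of_isEtaleMor_of_isSurjectiveMor (IsAlgSpace.yon_obj _) p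
      (Groth.Agent.H7.NAS.isEtaleMor_of_repWith hpe) (points_map_surjective_of_repWith hps)
  rw [← h1]
  exact (dim_yon_le U).trans hn

/-- predecessor with values in `WithBot ℕ∞`. -/
def predd : ℕ → WithBot ℕ∞
  | 0 => ⊥
  | (m + 1) => ((m : ℕ) : WithBot ℕ∞)

theorem withBot_eq_nat_iff (a : WithBot ℕ∞) (n : ℕ) :
    a = ((n : ℕ) : WithBot ℕ∞) ↔ a < (((n + 1 : ℕ) : ℕ) : WithBot ℕ∞) ∧ predd n < a := by
  induction a using WithBot.recBotCoe with
  | bot =>
    constructor
    · intro h
      exact absurd h.symm (by simp)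
    · rintro ⟨-, h⟩
      exact absurd h not_lt_bot
  | coe a =>
    induction a using ENat.recTopCoe with
    | top =>
      constructor
      · intro h
        have : ((⊤ : ℕ∞) : WithBot ℕ∞) = (((n : ℕ) : ℕ∞) : WithBot ℕ∞) := h
        rw [WithBot.coe_inj] at this
        exact absurd this (ENat.top_ne_coe n)
      · rintro ⟨h, -⟩
        have h' : ((⊤ : ℕ∞) : WithBot ℕ∞) < ((((n + 1 : ℕ) : ℕ) : ℕ∞) : WithBot ℕ∞) := h
        rw [WithBot.coe_lt_coe] at h'
        exact absurd h' (by simp)
    | coe m =>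
      have e1 : (((m : ℕ) : ℕ∞) : WithBot ℕ∞) = ((n : ℕ) : WithBot ℕ∞) ↔ m = n := by
        constructor
        · intro h
          have : (((m : ℕ) : ℕ∞) : WithBot ℕ∞) = (((n : ℕ) : ℕ∞) : WithBot ℕ∞) := h
          rw [WithBot.coe_inj] at this
          exact_mod_cast this
        · rintro rfl; rfl
      have e2 : (((m : ℕ) : ℕ∞) : WithBot ℕ∞) < (((n + 1 : ℕ) : ℕ) : WithBot ℕ∞) ↔ m < n + 1 := by
        constructor
        · intro h
          have : (((m : ℕ) : ℕ∞) : WithBot ℕ∞) < ((((n + 1 : ℕ) : ℕ) : ℕ∞) : WithBot ℕ∞) := h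
          rw [WithBot.coe_lt_coe] at this
          exact_mod_cast this
        · intro h
          have : (((m : ℕ) : ℕ∞) : WithBot ℕ∞) < ((((n + 1 : ℕ) : ℕ) : ℕ∞) : WithBot ℕ∞) := by
            rw [WithBot.coe_lt_coe]
            exact_mod_cast h
          exact this
      have e3 : predd n < (((m : ℕ) : ℕ∞) : WithBot ℕ∞) ↔ n ≤ m := by
        cases n with
        | zero =>
          simp only [predd, zero_le, iff_true]
          exact WithBot.bot_lt_coe _
        | succ j =>
          simp only [predd]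
          constructor
          · intro h
            have : (((j : ℕ) : ℕ∞) : WithBot ℕ∞) < (((m : ℕ) : ℕ∞) : WithBot ℕ∞) := h
            rw [WithBot.coe_lt_coe] at this
            have : j < m := by exact_mod_cast this
            omega
          · intro h
            have : (((j : ℕ) : ℕ∞) : WithBot ℕ∞) < (((m : ℕ) : ℕ∞) : WithBot ℕ∞) := by
              rw [WithBot.coe_lt_coe]
              have : j < m := by omega
              exact_mod_cast this
            exact this
      rw [e1, e2, e3]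
      omega

theorem withBot_eq_bot_iff_lt_zero (a : WithBot ℕ∞) : a = ⊥ ↔ a < 0 := by
  induction a using WithBot.recBotCoe with
  | bot => simp
  | coe a =>
    constructor
    · intro h; exact absurd h (by simp)
    · intro h
      have : ((a : ℕ∞) : WithBot ℕ∞) < ((0 : ℕ∞) : WithBot ℕ∞) := h
      rw [WithBot.coe_lt_coe] at this
      exact absurd this (by simp)

/-- S10692: the fibre dimension of a proper flat morphism of finite presentation is locally
constant. -/
theorem S10692_main {X Y : AlgSp.Space S} (f : X ⟶ Y) (hf1 : AlgSp.IsProperMor f.hom)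
    (hf2 : AlgSp.LocP @Flat f.hom) (hf3 : AlgSp.IsFinitePresentationMor f.hom) (d : WithBot ℕ∞) :
    IsOpen {y : AlgSp.Points Y.obj | ∀ (k : AlgSp.FieldPt Y.obj), AlgSp.Points.mk k = y →
      ∀ (Xk : AlgSp.Sp S) (fst : Xk ⟶ X.obj) (snd : Xk ⟶ (AlgSp.yon S).obj k.pt),
        IsPullback fst snd f.hom k.toHom → AlgSp.dim Xk = d} := by
  induction d using WithBot.recBotCoe with
  | bot =>
    have := S10680_main f hf1 0
    convert this using 9
    exact withBot_eq_bot_iff_lt_zero _
  | coe d =>
    induction d using ENat.recTopCoe with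
    | top =>
      convert isOpen_empty
      ext y
      simp only [Set.mem_setOf_eq, Set.mem_empty_iff_false, iff_false]
      intro H
      obtain ⟨k, hk, Xk, fst, snd, sq⟩ := exists_fibre f.hom y
      obtain ⟨n, hn⟩ := exists_nat_dim_fibre_le f hf1.2.1 k Xk fst snd sq
      rw [H k hk Xk fst snd sq] at hn
      have : ((⊤ : ℕ∞) : WithBot ℕ∞) ≤ (((n : ℕ) : ℕ∞) : WithBot ℕ∞) := hn
      rw [WithBot.coe_le_coe] at this
      exact absurd this (by simp)
    | coe n =>
      have h1 := S10680_main f hf1 (((n + 1 : ℕ) : ℕ) : WithBot ℕ∞)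
      have h2 := S10679_main f hf2 hf3 (predd n)
      convert h1.inter h2 using 1
      ext y
      simp only [Set.mem_setOf_eq, Set.mem_inter_iff]
      constructor
      · intro H
        exact ⟨fun k hk Xk fst snd sq =>
            ((withBot_eq_nat_iff _ n).1 (H k hk Xk fst snd sq)).1,
          fun k hk Xk fst snd sq => ((withBot_eq_nat_iff _ n).1 (H k hk Xk fst snd sq)).2⟩
      · rintro ⟨H1, H2⟩ k hk Xk fst snd sq
        exact (withBot_eq_nat_iff _ n).2 ⟨H1 k hk Xk fst snd sq, H2 k hk Xk fst snd sq⟩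

end Groth.Agent.H7.FibDimSC
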