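import Groth.Agent.Lib.Helper1.ValDim2
import Groth.Agent.Lib.Helper1.Chev2
import Groth.Agent.Lib.Helper1.AlgSpDim2
import Groth.Agent.Lib.Helper5.AlgSp.LocPMore
import Groth.Agent.Lib.Helper5.AlgSp.PointsTop
import Groth.Agent.Lib.Helper8.AlgSp.InvMax
import Groth.Agent.S10678
import Mathlib

/-!
# Semicontinuity of the fibre dimension for morphisms of algebraic spaces (S10679, S10680)
-/

set_option autoImplicit false
universe u

open AlgebraicGeometry CategoryTheory Limits

namespace Groth.Agent.H7.FibDimSC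

open _root_.AlgSp Groth.Agent.H5.AlgSp Groth.Agent.H1.AlgSpDim

variable {S : Scheme.{u}}

/-- the predicate "local fibre dimension at most `n`". -/
abbrev FD (n : ℕ) : ∀ (U V : Scheme.{u}), (U ⟶ V) → ↥U → Prop :=
  fun _ _ h u => FlatMor.fibreDimAt h u ≤ (n : WithBot ℕ∞)

/-- the locus where the relative dimension is at most `n` is open. -/
theorem isOpen_hasAtMor_FD {X Y : Sp S} (f : X ⟶ Y) (hf : LocP @LocallyOfFiniteType f) (n : ℕ) :
    IsOpen {x : Points X | HasAtMor (FD n) f x} := by
  rw [isOpen_iff_forall_mem_open]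
  rintro x ⟨U, V, a, b, h, u, ha, hb, comm, hu, hq⟩
  have hlft : LocallyOfFiniteType h.left := hf a b h ha hb comm
  have hN : IsOpen {u' : ↥U.left | FlatMor.fibreDimAt h.left u' ≤ (n : WithBot ℕ∞)} :=
    Groth.Agent.H1.Chev.isOpen_fibreDimAt_le h.left n
  refine ⟨Points.ofPt a '' {u' : ↥U.left | FlatMor.fibreDimAt h.left u' ≤ (n : WithBot ℕ∞)},
    ?_, isOpenMap_ofPt_of_etale ha _ hN, ⟨u, hq, hu⟩⟩
  rintro _ ⟨u', hu', rfl⟩
  exact ⟨U, V, a, b, h, u', ha, hb, comm, rfl, hu'⟩

/-- the preimage in a chart of the target of the image of the bad locus. -/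
theorem preimage_image_not_FD {X Y : Sp S} (hX : IsAlgSpace X) (f : X ⟶ Y)
    (hf : LocP @LocallyOfFiniteType f) (n : ℕ) {U V : Over S} (a : (yon S).obj U ⟶ X)
    (b : (yon S).obj V ⟶ Y) (h : U ⟶ V) (c : (yon S).obj U ⟶ pullback f b)
    (ha : RepWith @Etale a) (hb : RepWith @Etale b) (comm : a ≫ f = (yon S).map h ≫ b)
    (hcs : RepWith @Surjective c) (hc1 : c ≫ pullback.fst f b = a)
    (hc2 : c ≫ pullback.snd f b = (yon S).map h) :
    Points.ofPt b ⁻¹' (Points.map f '' {x | ¬ HasAtMor (FD n) f x}) =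
      h.left '' {u : ↥U.left | ¬ FlatMor.fibreDimAt h.left u ≤ (n : WithBot ℕ∞)} := by
  ext v
  constructor
  · rintro ⟨x, hx, hxv⟩
    obtain ⟨z, hz1, hz2⟩ := points_pullback_surjective (IsPullback.of_hasPullback f b) x
      (Points.ofScheme V v) (by rw [hxv, ← Points.ofPt_eq_map_ofScheme])
    obtain ⟨u, rfl⟩ := ofPt_surjective_of_repWith hcs z
    have h1 : Points.ofPt a u = x := by
      rw [← hz1, Points.map_ofPt, hc1]
    have h2 : h.left u = v := by
      have h3 : Points.ofPt ((yon S).map h) u = Points.ofScheme V v := by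
        rw [← hz2, Points.map_ofPt, hc2]
      have h4 := Points.map_yon_map_apply h u
      have h5 : Points.map ((yon S).map h) (Points.schemeHomeo U u) =
          Points.ofPt ((yon S).map h) u := (Points.ofPt_eq_map_ofScheme _ u).symm
      rw [h5, h3] at h4
      exact ((Points.schemeHomeo V).injective h4).symm
    refine ⟨u, ?_, h2⟩
    intro hq
    exact hx ⟨U, V, a, b, h, u, ha, hb, comm, h1, hq⟩
  · rintro ⟨u, hu, rfl⟩
    refine ⟨Points.ofPt a u, ?_, map_ofPt_chart a b h comm u⟩
    intro hq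
    exact hu (hasAtMor_chart (etLocal_fibreDimAt_pred (fun e => e ≤ (n : WithBot ℕ∞))) hf a b h
      ha hb comm u hq)

/-- flat, locally of finite presentation: the image of the bad locus is open. -/
theorem isOpen_image_not_FD {X Y : Sp S} (hX : IsAlgSpace X) (hY : IsAlgSpace Y) (f : X ⟶ Y)
    (hfl : LocP @Flat f) (hfp : LocP @LocallyOfFinitePresentation f) (n : ℕ) :
    IsOpen (Points.map f '' {x | ¬ HasAtMor (FD n) f x}) := by
  obtain ⟨V, b, hb, hbs⟩ := hY.atlas
  obtain ⟨U, a, h, c, ha, comm, hce, hcs, hc1, hc2⟩ := exists_chart_diagram hX f hb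
  have hlft : LocP @LocallyOfFiniteType f :=
    locP_mono (fun _ _ g (hg : LocallyOfFinitePresentation g) =>
      (inferInstance : LocallyOfFiniteType g)) hfp
  rw [← (isQuotientMap_ofPt hb hbs).isOpen_preimage,
    preimage_image_not_FD hX f hlft n a b h c ha hb comm hcs hc1 hc2]
  have h1 : Flat h.left := hfl a b h ha hb comm
  have h2 : LocallyOfFinitePresentation h.left := hfp a b h ha hb comm
  exact Groth.Agent.H1.ValDim2.isOpen_image_fibreDimAt_gt' h.left n

/-- closed on points, locally of finite type: the image of the bad locus is closed. -/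
theorem isClosed_image_not_FD {X Y : Sp S} (f : X ⟶ Y) (hf : LocP @LocallyOfFiniteType f)
    (hcl : IsClosedMap (Points.map f)) (n : ℕ) :
    IsClosed (Points.map f '' {x | ¬ HasAtMor (FD n) f x}) := by
  apply hcl
  have := isOpen_hasAtMor_FD f hf n
  exact this.isClosed_compl

end Groth.Agent.H7.FibDimSC
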