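import Groth.Agent.Lib.Helper7.FibDimSC
import Mathlib

/-!
# Semicontinuity of the fibre dimension for morphisms of algebraic spaces (S10679, S10680), main
-/

set_option autoImplicit false
universe u

open AlgebraicGeometry CategoryTheory Limits

namespace Groth.Agent.H7.FibDimSC

open _root_.AlgSp Groth.Agent.H5.AlgSp Groth.Agent.H1.AlgSpDim

variable {S : Scheme.{u}}

theorem withBot_lt_iff_A (a d : WithBot ℕ∞) :
    a < d ↔ d ≠ ⊥ ∧ (a = ⊥ ∨ ∃ n : ℕ, a ≤ (n : WithBot ℕ∞) ∧ ((n : ℕ) : WithBot ℕ∞) < d) := by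
  constructor
  · intro h
    refine ⟨fun hd => ?_, ?_⟩
    · rw [hd] at h
      exact not_lt_bot h
    · induction a with
      | bot => exact Or.inl rfl
      | coe a =>
        right
        induction d with
        | bot => exact absurd h not_lt_bot
        | coe d =>
          have h1 : a < d := WithBot.coe_lt_coe.1 h
          have h2 : a ≠ ⊤ := ne_top_of_lt h1
          obtain ⟨n, rfl⟩ := ENat.ne_top_iff_exists.1 h2
          exact ⟨n, le_rfl, h⟩
  · rintro ⟨hd, h | ⟨n, h1, h2⟩⟩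
    · rw [h]
      exact bot_lt_iff_ne_bot.2 hd
    · exact lt_of_le_of_lt h1 h2

theorem withBot_lt_iff_B (d a : WithBot ℕ∞) :
    d < a ↔ (d = ⊥ ∧ a ≠ ⊥) ∨ ∃ n : ℕ, d ≤ (n : WithBot ℕ∞) ∧ ¬ a ≤ (n : WithBot ℕ∞) := by
  constructor
  · intro h
    induction d with
    | bot => exact Or.inl ⟨rfl, (bot_lt_iff_ne_bot.1 h)⟩
    | coe d =>
      right
      induction a with
      | bot => exact absurd h not_lt_bot
      | coe a =>
        have h1 : d < a := WithBot.coe_lt_coe.1 h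
        have h2 : d ≠ ⊤ := ne_top_of_lt h1
        obtain ⟨n, rfl⟩ := ENat.ne_top_iff_exists.1 h2
        exact ⟨n, le_rfl, not_le.2 h⟩
  · rintro (⟨rfl, h⟩ | ⟨n, h1, h2⟩)
    · exact bot_lt_iff_ne_bot.2 h
    · exact lt_of_le_of_lt h1 (not_le.1 h2)

/-- every point has a field-valued representative with a fibre. -/
theorem exists_fibre {X Y : Sp S} (f : X ⟶ Y) (y : Points Y) :
    ∃ (k : FieldPt Y), Points.mk k = y ∧ ∃ (Xk : Sp S) (fst : Xk ⟶ X)
      (snd : Xk ⟶ (yon S).obj k.pt), IsPullback fst snd f k.toHom := by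
  obtain ⟨k, hk⟩ := Points.mk_surjective y
  exact ⟨k, hk, _, _, _, IsPullback.of_hasPullback f k.toHom⟩

theorem not_mem_image_iff {X Y : Sp S} (f : X ⟶ Y) (n : ℕ) (y : Points Y) :
    y ∉ Points.map f '' {x | ¬ HasAtMor (FD n) f x} ↔
      ∀ x : Points X, Points.map f x = y → HasAtMor (FD n) f x := by
  constructor
  · intro h x hx
    by_contra hq
    exact h ⟨x, hq, hx⟩
  · rintro h ⟨x, hq, hx⟩
    exact hq (h x hx)

/-- the condition `d < dim X_k` for all fibres over `y`. -/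
theorem forall_fibre_lt_dim_iff {X Y : AlgSp.Space S} (f : X ⟶ Y)
    (hft : IsFiniteTypeMor f.hom) (d : WithBot ℕ∞) (y : Points Y.obj) :
    (∀ (k : FieldPt Y.obj), Points.mk k = y →
      ∀ (Xk : Sp S) (fst : Xk ⟶ X.obj) (snd : Xk ⟶ (yon S).obj k.pt),
        IsPullback fst snd f.hom k.toHom → d < AlgSp.dim Xk) ↔
    ((d = ⊥ ∧ y ∈ Set.range (Points.map f.hom)) ∨ ∃ n : ℕ, d ≤ (n : WithBot ℕ∞) ∧
      y ∈ Points.map f.hom '' {x | ¬ HasAtMor (FD n) f.hom x}) := by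
  constructor
  · intro H
    obtain ⟨k, hk, Xk, fst, snd, sq⟩ := exists_fibre f.hom y
    have h1 := H k hk Xk fst snd sq
    obtain ⟨r1, r2⟩ := Groth.Agent.S10678.result f hft y k hk Xk fst snd sq
    rcases (withBot_lt_iff_B _ _).1 h1 with ⟨hd, h2⟩ | ⟨n, hn, h2⟩
    · left
      refine ⟨hd, ?_⟩
      by_contra h3
      exact h2 (r1.2 h3)
    · right
      refine ⟨n, hn, ?_⟩
      by_contra h3
      exact h2 ((r2 n).2 ((not_mem_image_iff f.hom n y).1 h3))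
  · intro H k hk Xk fst snd sq
    obtain ⟨r1, r2⟩ := Groth.Agent.S10678.result f hft y k hk Xk fst snd sq
    rw [withBot_lt_iff_B]
    rcases H with ⟨hd, h2⟩ | ⟨n, hn, h2⟩
    · left
      exact ⟨hd, fun h3 => r1.1 h3 h2⟩
    · right
      refine ⟨n, hn, fun h3 => ?_⟩
      exact (not_mem_image_iff f.hom n y).2 ((r2 n).1 h3) h2

/-- the condition `dim X_k < d` for all fibres over `y`. -/
theorem forall_fibre_dim_lt_iff {X Y : AlgSp.Space S} (f : X ⟶ Y)
    (hft : IsFiniteTypeMor f.hom) (d : WithBot ℕ∞) (y : Points Y.obj) :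
    (∀ (k : FieldPt Y.obj), Points.mk k = y →
      ∀ (Xk : Sp S) (fst : Xk ⟶ X.obj) (snd : Xk ⟶ (yon S).obj k.pt),
        IsPullback fst snd f.hom k.toHom → AlgSp.dim Xk < d) ↔
    (d ≠ ⊥ ∧ (y ∉ Set.range (Points.map f.hom) ∨ ∃ n : ℕ,
      y ∉ Points.map f.hom '' {x | ¬ HasAtMor (FD n) f.hom x} ∧ ((n : ℕ) : WithBot ℕ∞) < d)) := by
  constructor
  · intro H
    obtain ⟨k, hk, Xk, fst, snd, sq⟩ := exists_fibre f.hom y
    have h1 := H k hk Xk fst snd sq
    obtain ⟨r1, r2⟩ := Groth.Agent.S10678.result f hft y k hk Xk fst snd sq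
    obtain ⟨hd, h2⟩ := (withBot_lt_iff_A _ _).1 h1
    refine ⟨hd, ?_⟩
    rcases h2 with h2 | ⟨n, h2, hn⟩
    · exact Or.inl (r1.1 h2)
    · exact Or.inr ⟨n, (not_mem_image_iff f.hom n y).2 ((r2 n).1 h2), hn⟩
  · rintro ⟨hd, H⟩ k hk Xk fst snd sq
    obtain ⟨r1, r2⟩ := Groth.Agent.S10678.result f hft y k hk Xk fst snd sq
    rw [withBot_lt_iff_A]
    refine ⟨hd, ?_⟩
    rcases H with h2 | ⟨n, h2, hn⟩
    · exact Or.inl (r1.2 h2)
    · exact Or.inr ⟨n, (r2 n).2 ((not_mem_image_iff f.hom n y).1 h2), hn⟩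

theorem isOpen_and_const {T : Type*} [TopologicalSpace T] (p : Prop) {s : Set T} (hs : IsOpen s) :
    IsOpen {t : T | p ∧ t ∈ s} := by
  by_cases hp : p
  · simpa [hp] using hs
  · simp [hp]

/-- S10679: lower semicontinuity of the fibre dimension for flat morphisms of finite
presentation. -/
theorem S10679_main {X Y : AlgSp.Space S} (f : X ⟶ Y)
    (hf1 : AlgSp.LocP @Flat f.hom) (hf2 : AlgSp.IsFinitePresentationMor f.hom) (d : WithBot ℕ∞) :
    IsOpen {y : AlgSp.Points Y.obj | ∀ (k : AlgSp.FieldPt Y.obj), AlgSp.Points.mk k = y →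
      ∀ (Xk : AlgSp.Sp S) (fst : Xk ⟶ X.obj) (snd : Xk ⟶ (AlgSp.yon S).obj k.pt),
        IsPullback fst snd f.hom k.toHom → d < AlgSp.dim Xk} := by
  have hlft : LocP @LocallyOfFiniteType f.hom :=
    locP_mono (fun _ _ g (hg : LocallyOfFinitePresentation g) =>
      (inferInstance : LocallyOfFiniteType g)) hf2.1
  have hft : IsFiniteTypeMor f.hom := ⟨hlft, hf2.2.1⟩
  have hopen : IsOpenMap (Points.map f.hom) :=
    Groth.Agent.H8.AlgSp.isOpenMor_of_isUnivOpenMor Y.property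
      (isUnivOpenMor_of_locP_flat_lfp X.property Y.property hf1 hf2.1)
  have hset : {y : AlgSp.Points Y.obj | ∀ (k : AlgSp.FieldPt Y.obj), AlgSp.Points.mk k = y →
      ∀ (Xk : AlgSp.Sp S) (fst : Xk ⟶ X.obj) (snd : Xk ⟶ (AlgSp.yon S).obj k.pt),
        IsPullback fst snd f.hom k.toHom → d < AlgSp.dim Xk} =
      {y | d = ⊥ ∧ y ∈ Set.range (Points.map f.hom)} ∪ ⋃ n : ℕ,
        {y | d ≤ (n : WithBot ℕ∞) ∧ y ∈ Points.map f.hom '' {x | ¬ HasAtMor (FD n) f.hom x}} := by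
    ext y
    rw [Set.mem_setOf_eq, forall_fibre_lt_dim_iff f hft d y]
    simp only [Set.mem_union, Set.mem_setOf_eq, Set.mem_iUnion]
  rw [hset]
  refine IsOpen.union (isOpen_and_const _ hopen.isOpen_range) (isOpen_iUnion fun n => ?_)
  exact isOpen_and_const _ (isOpen_image_not_FD X.property Y.property f.hom hf1 hf2.1 n)

/-- S10680: upper semicontinuity of the fibre dimension for proper morphisms. -/
theorem S10680_main {X Y : AlgSp.Space S} (f : X ⟶ Y) (hf : AlgSp.IsProperMor f.hom)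
    (d : WithBot ℕ∞) :
    IsOpen {y : AlgSp.Points Y.obj | ∀ (k : AlgSp.FieldPt Y.obj), AlgSp.Points.mk k = y →
      ∀ (Xk : AlgSp.Sp S) (fst : Xk ⟶ X.obj) (snd : Xk ⟶ (AlgSp.yon S).obj k.pt),
        IsPullback fst snd f.hom k.toHom → AlgSp.dim Xk < d} := by
  have hft : IsFiniteTypeMor f.hom := hf.2.1
  have hcl : IsClosedMap (Points.map f.hom) :=
    hf.2.2 Y.property (𝟙 Y.obj) (𝟙 X.obj) f.hom (IsPullback.of_horiz_isIso ⟨by simp⟩)
  have hset : {y : AlgSp.Points Y.obj | ∀ (k : AlgSp.FieldPt Y.obj), AlgSp.Points.mk k = y →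
      ∀ (Xk : AlgSp.Sp S) (fst : Xk ⟶ X.obj) (snd : Xk ⟶ (AlgSp.yon S).obj k.pt),
        IsPullback fst snd f.hom k.toHom → AlgSp.dim Xk < d} =
      {y | d ≠ ⊥ ∧ y ∈ (Set.range (Points.map f.hom))ᶜ ∪ ⋃ n : ℕ,
        {y | ((n : ℕ) : WithBot ℕ∞) < d ∧
          y ∈ (Points.map f.hom '' {x | ¬ HasAtMor (FD n) f.hom x})ᶜ}} := by
    ext y
    rw [Set.mem_setOf_eq, forall_fibre_dim_lt_iff f hft d y]
    simp only [Set.mem_union, Set.mem_setOf_eq, Set.mem_iUnion, Set.mem_compl_iff]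
    constructor
    · rintro ⟨hd, h | ⟨n, h1, h2⟩⟩
      · exact ⟨hd, Or.inl h⟩
      · exact ⟨hd, Or.inr ⟨n, h2, h1⟩⟩
    · rintro ⟨hd, h | ⟨n, h2, h1⟩⟩
      · exact ⟨hd, Or.inl h⟩
      · exact ⟨hd, Or.inr ⟨n, h1, h2⟩⟩
  rw [hset]
  refine isOpen_and_const _ (IsOpen.union ?_ (isOpen_iUnion fun n => isOpen_and_const _ ?_))
  · rw [← Set.image_univ]
    exact (hcl _ isClosed_univ).isOpen_compl
  · exact (isClosed_image_not_FD f.hom hft.1 hcl n).isOpen_compl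

end Groth.Agent.H7.FibDimSC
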