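import Groth.Agent.Lib.Helper1.CritFib4
import Groth.Agent.Lib.Helper1.LocalCriterion3
import Mathlib

/-!
# Critère de platitude par fibres, locally Noetherian scheme form
-/

set_option autoImplicit false
universe u

open TensorProduct Function CategoryTheory CategoryTheory.Limits AlgebraicGeometry

namespace Groth.Agent.H7.FibFlatNoeth

open Groth.Agent.H1.FibreStalk Groth.Agent.H1.CritFib Groth.Agent.H1

/-- transport of flatness of the fibre from an abstract quotient `T` of `S` to `S ⧸ I`. -/
theorem flat_quot_of_flat {S S' T : Type u} [CommRing S] [CommRing S'] [CommRing T]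
    [Algebra S S'] [Algebra S T] (I : Ideal S) (hsurj : Surjective (algebraMap S T))
    (hker : RingHom.ker (algebraMap S T) = I) [Module.Flat T (T ⊗[S] S')] :
    Module.Flat (S ⧸ I) ((S ⧸ I) ⊗[S] S') := by
  let ε : (S ⧸ I) ≃+* T :=
    (Ideal.quotEquivOfEq hker.symm).trans (RingHom.quotientKerEquivOfSurjective hsurj)
  have hε : ∀ s : S, ε (Ideal.Quotient.mk I s) = algebraMap S T s := fun s => by
    simp [ε]
  letI : Algebra T (S ⧸ I) := (ε.symm : T →+* S ⧸ I).toAlgebra
  haveI : IsScalarTower S T (S ⧸ I) := IsScalarTower.of_algebraMap_eq fun s => by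
    change Ideal.Quotient.mk I s = ε.symm (algebraMap S T s)
    rw [← hε, RingEquiv.symm_apply_apply]
  haveI : Module.Flat (S ⧸ I) ((S ⧸ I) ⊗[T] (T ⊗[S] S')) := inferInstance
  exact Module.Flat.of_linearEquiv
    (TensorProduct.AlgebraTensorModule.cancelBaseChange S T (S ⧸ I) (S ⧸ I) S').symm

section ring

variable {R S S' T₁ T₂ : Type u} [CommRing R] [CommRing S] [CommRing S'] [CommRing T₁]
  [CommRing T₂] [IsLocalRing R] [IsLocalRing S] [IsLocalRing S'] [IsNoetherianRing S]
  [IsNoetherianRing S'] [Algebra R S] [Algebra S S'] [Algebra R S'] [IsScalarTower R S S']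
  [IsLocalHom (algebraMap R S)] [IsLocalHom (algebraMap S S')]

/-- **Critère de platitude par fibres**, ring form for Noetherian local rings with abstract
fibre rings. -/
theorem crit_noeth (a : S →+* T₁) (b : S' →+* T₂) (χ : T₁ →+* T₂) (ha : Surjective a)
    (hb : Surjective b)
    (hka : RingHom.ker a = (IsLocalRing.maximalIdeal R).map (algebraMap R S))
    (hkb : RingHom.ker b = (IsLocalRing.maximalIdeal R).map (algebraMap R S'))
    (hχ : χ.comp a = b.comp (algebraMap S S')) (h1 : Module.Flat R S') (h2 : χ.Flat) :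
    Module.Flat R S ∧ Module.Flat S S' := by
  letI : Algebra S T₁ := a.toAlgebra
  letI : Algebra T₁ T₂ := χ.toAlgebra
  letI : Algebra S' T₂ := b.toAlgebra
  letI : Algebra S T₂ := (χ.comp a).toAlgebra
  haveI : IsScalarTower S T₁ T₂ := IsScalarTower.of_algebraMap_eq fun _ => rfl
  haveI : IsScalarTower S S' T₂ := IsScalarTower.of_algebraMap_eq fun x => by
    change (χ.comp a) x = b (algebraMap S S' x)
    rw [hχ]
    rfl
  have hk : RingHom.ker (algebraMap S' T₂) =
      (RingHom.ker (algebraMap S T₁)).map (algebraMap S S') := by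
    change RingHom.ker b = (RingHom.ker a).map (algebraMap S S')
    rw [hka, hkb, Ideal.map_map, ← IsScalarTower.algebraMap_eq]
  let e : T₁ ⊗[S] S' ≃ₗ[T₁] T₂ := fibreEquiv ha hb hk
  haveI : Module.Flat T₁ T₂ := h2
  haveI : Module.Flat T₁ (T₁ ⊗[S] S') := Module.Flat.of_linearEquiv e
  haveI : Module.Flat (S ⧸ (IsLocalRing.maximalIdeal R).map (algebraMap R S))
      ((S ⧸ (IsLocalRing.maximalIdeal R).map (algebraMap R S)) ⊗[S] S') :=
    flat_quot_of_flat _ ha hka
  haveI := h1
  exact Groth.Agent.H1.flat_and_flat_of_flat_fibre (R := R) (S := S) (S' := S') (M := S')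

end ring

/-- if `X → S` is flat at `x`, `X` and `Y` are locally Noetherian and the fibre map
`X ×_Y Y_s → Y_s` is flat, then `Y → S` is flat at `f x` and `f` is flat at `x` -/
theorem flat_stalkMap_of_flat_snd_noeth {X Y S : Scheme.{u}} (f : X ⟶ Y) (g : Y ⟶ S)
    [IsLocallyNoetherian X] [IsLocallyNoetherian Y] (x : X)
    (hflat : ((f ≫ g).stalkMap x).hom.Flat) [Flat (pullback.snd f (g.fiberι (g (f x))))] :
    (g.stalkMap (f x)).hom.Flat ∧ (f.stalkMap x).hom.Flat := by
  haveI : Flat (MoreMor.fiberMap f g (g (f x))) := by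
    rw [fiberMap_eq]
    infer_instance
  have hfib : ((MoreMor.fiberMap f g (g (f x))).stalkMap ((f ≫ g).asFiber x)).hom.Flat :=
    Flat.stalkMap _ _
  letI algRS : Algebra (S.presheaf.stalk (g (f x))) (Y.presheaf.stalk (f x)) :=
    (g.stalkMap (f x)).hom.toAlgebra
  letI algSS' : Algebra (Y.presheaf.stalk (f x)) (X.presheaf.stalk x) :=
    (f.stalkMap x).hom.toAlgebra
  letI algRS' : Algebra (S.presheaf.stalk (g (f x))) (X.presheaf.stalk x) :=
    ((f ≫ g).stalkMap x).hom.toAlgebra
  haveI tow : IsScalarTower (S.presheaf.stalk (g (f x))) (Y.presheaf.stalk (f x))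
      (X.presheaf.stalk x) := IsScalarTower.of_algebraMap_eq fun r => by
    change ((f ≫ g).stalkMap x).hom r = (f.stalkMap x).hom ((g.stalkMap (f x)).hom r)
    rw [Scheme.Hom.stalkMap_comp]
    rfl
  haveI loc1 : IsLocalHom (algebraMap (S.presheaf.stalk (g (f x))) (Y.presheaf.stalk (f x))) :=
    show IsLocalHom (g.stalkMap (f x)).hom from inferInstance
  haveI loc2 : IsLocalHom (algebraMap (Y.presheaf.stalk (f x)) (X.presheaf.stalk x)) :=
    show IsLocalHom (f.stalkMap x).hom from inferInstance
  have hsq := fibre_square f g x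
  refine crit_noeth (R := S.presheaf.stalk (g (f x))) (S := Y.presheaf.stalk (f x))
    (S' := X.presheaf.stalk x)
    ((((g.fiber (g (f x))).presheaf.stalkCongr
        (.of_eq (fiberMap_asFiber f g x).symm)).hom.hom).comp (toFiberStalk g (f x)))
    (toFiberStalk (f ≫ g) x)
    ((MoreMor.fiberMap f g (g (f x))).stalkMap ((f ≫ g).asFiber x)).hom ?_
    (toFiberStalk_surjective (f ≫ g) x) ?_ ?_ hsq hflat hfib
  · rw [RingHom.coe_comp]
    refine Function.Surjective.comp ?_ (toFiberStalk_surjective g (f x))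
    exact (((g.fiber (g (f x))).presheaf.stalkCongr
      (.of_eq (fiberMap_asFiber f g x).symm)).commRingCatIsoToRingEquiv).surjective
  · have hk := ker_toFiberStalk g (f x)
    change RingHom.ker _ = Ideal.map (g.stalkMap (f x)).hom _
    rw [← hk]
    ext t
    rw [RingHom.mem_ker, RingHom.mem_ker, RingHom.comp_apply]
    exact map_eq_zero_iff _ (((g.fiber (g (f x))).presheaf.stalkCongr
      (.of_eq (fiberMap_asFiber f g x).symm)).commRingCatIsoToRingEquiv).injective
  · exact ker_toFiberStalk (f ≫ g) x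

end Groth.Agent.H7.FibFlatNoeth
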