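import Groth.Agent.Lib.Helper5.AlgSp.LocPCalc
import Groth.Agent.Lib.Helper5.AlgSp.Points
import Groth.Agent.Lib.Helper5.AlgSp.FibreProduct
import Groth.Agent.Lib.Helper1.CritFib4
import Mathlib

/-!
# Critère de platitude par fibres for algebraic spaces (S10603)
-/

set_option autoImplicit false
universe u

open AlgebraicGeometry CategoryTheory Limits

namespace Groth.Agent.H7.FibFlatSp

open _root_.AlgSp Groth.Agent.H5.AlgSp Groth.Agent.H5.EtSrc

variable {S : Scheme.{u}}

lemma etale_le_flat : (@Etale : MorphismProperty Scheme.{u}) ≤ @Flat := fun _ _ f hf => by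
  have : Etale f := hf
  exact (inferInstance : Flat f)

/-- `X_z = X ×_Y Y_z`. -/
theorem isPullback_fibre {X Y Z T Xz Yz : Sp S} {f : X ⟶ Y} {h : Y ⟶ Z} {z : T ⟶ Z}
    {pX : Xz ⟶ X} {qX : Xz ⟶ T} {pY : Yz ⟶ Y} {qY : Yz ⟶ T} {fz : Xz ⟶ Yz}
    (sqX : IsPullback pX qX (f ≫ h) z) (sqY : IsPullback pY qY h z)
    (e1 : fz ≫ pY = pX ≫ f) (e2 : fz ≫ qY = qX) : IsPullback fz pX pY f := by
  apply IsPullback.of_right (h₁₂ := qY) (h₂₂ := h) _ e1 sqY.flip
  rw [e2]
  exact sqX.flip

/-- Base change of a chart of `f` along a morphism of schemes to the chart of the target: if the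
base change of `f` to `V'` has `P` (étale locally), the base change of the chart has `P`. -/
theorem locP_chart_baseChange {P : MorphismProperty Scheme.{u}} [P.IsStableUnderBaseChange]
    [P.IsStableUnderComposition] [IsEtaleLocalSource P]
    (hP : (@Etale : MorphismProperty Scheme.{u}) ≤ P)
    {X Y : Sp S} {f : X ⟶ Y} {U V V' : Over S} {b : (yon S).obj V ⟶ Y}
    (k : U ⟶ V) (c : (yon S).obj U ⟶ pullback f b) (hce : RepWith @Etale c)
    (hck : c ≫ pullback.snd f b = (yon S).map k) (ι : V' ⟶ V)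
    (hQ : LocP P (pullback.snd f ((yon S).map ι ≫ b))) :
    P (pullback.snd k.left ι.left) := by
  let U' : Over S := Over.mk (pullback.fst k.left ι.left ≫ U.hom)
  let pr1 : U' ⟶ U := Over.homMk (pullback.fst k.left ι.left) rfl
  let k' : U' ⟶ V' := Over.homMk (pullback.snd k.left ι.left) (by
    change pullback.snd k.left ι.left ≫ V'.hom = pullback.fst k.left ι.left ≫ U.hom
    rw [← Over.w ι, ← Over.w k, pullback.condition_assoc])
  have hcomm : pr1 ≫ k = k' ≫ ι := Over.OverMorphism.ext pullback.condition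
  have hsq : IsPullback pr1 k' k ι :=
    IsPullback.of_map (Over.forget S) hcomm (IsPullback.of_hasPullback k.left ι.left)
  have hsqy := hsq.map (yon S)
  have sq₀ := IsPullback.of_hasPullback f b
  have sqQ := IsPullback.of_hasPullback f ((yon S).map ι ≫ b)
  have hw : pullback.fst f ((yon S).map ι ≫ b) ≫ f =
      (pullback.snd f ((yon S).map ι ≫ b) ≫ (yon S).map ι) ≫ b := by
    rw [Category.assoc]; exact pullback.condition
  have left : IsPullback (sq₀.lift _ _ hw) (pullback.snd f ((yon S).map ι ≫ b))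
      (pullback.snd f b) ((yon S).map ι) := by
    apply IsPullback.of_right (h₁₂ := pullback.fst f b) (h₂₂ := b) _ (sq₀.lift_snd _ _ _) sq₀
    rw [sq₀.lift_fst]
    exact sqQ
  have hw' : ((yon S).map pr1 ≫ c) ≫ pullback.snd f b = (yon S).map k' ≫ (yon S).map ι := by
    rw [Category.assoc, hck]; exact hsqy.w
  have left' : IsPullback (left.lift _ _ hw') ((yon S).map pr1) (sq₀.lift _ _ hw) c := by
    apply IsPullback.of_right (h₁₂ := pullback.snd f ((yon S).map ι ≫ b))
      (h₂₂ := pullback.snd f b) _ (left.lift_fst _ _ _) left.flip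
    rw [left.lift_snd, hck]
    exact hsqy.flip
  have hc's : RepWith @Etale (left.lift _ _ hw') :=
    MorphismProperty.of_isPullback (P := RepWith @Etale) left'.flip hce
  have h1 : LocP P (left.lift _ _ hw' ≫ pullback.snd f ((yon S).map ι ≫ b)) :=
    locP_comp_etale hc's hQ
  rw [left.lift_snd] at h1
  exact (locP_yon_map_iff hP k').1 h1

/-- the hypothesis on fibres -/
def FibHyp {X Y Z : Sp S} (f : X ⟶ Y) (h : Y ⟶ Z) : Prop :=
  ∀ (K : Type u) [Field K] (sK : Spec (CommRingCat.of K) ⟶ S)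
      (z : (yon S).obj (Over.mk sK) ⟶ Z) (Xz Yz : Sp S)
      (pX : Xz ⟶ X) (qX : Xz ⟶ (yon S).obj (Over.mk sK))
      (pY : Yz ⟶ Y) (qY : Yz ⟶ (yon S).obj (Over.mk sK)) (fz : Xz ⟶ Yz),
      IsPullback pX qX (f ≫ h) z → IsPullback pY qY h z → fz ≫ pY = pX ≫ f → fz ≫ qY = qX →
      LocP @Flat fz

/-- the base change of a chart of `f` to a fibre of a chart of `h` is flat. -/
theorem fibre_flat {X Y Z : Sp S} (hX : IsAlgSpace X) (hY : IsAlgSpace Y) (hZ : IsAlgSpace Z)
    (f : X ⟶ Y) (h : Y ⟶ Z) (hfib : FibHyp f h)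
    {U V W : Over S} {b : (yon S).obj V ⟶ Y} {c : (yon S).obj W ⟶ Z} (k : U ⟶ V) (g : V ⟶ W)
    (comm₁ : b ≫ h = (yon S).map g ≫ c)
    (c' : (yon S).obj U ⟶ pullback f b) (hce : RepWith @Etale c')
    (hck : c' ≫ pullback.snd f b = (yon S).map k)
    (K : Type u) [Field K] (σ₀ : Spec (CommRingCat.of K) ⟶ W.left) :
    Flat (pullback.snd k.left (pullback.fst g.left σ₀)) := by
  let T : Over S := Over.mk (σ₀ ≫ W.hom)
  let σ : T ⟶ W := Over.homMk σ₀ rfl
  let z : (yon S).obj T ⟶ Z := (yon S).map σ ≫ c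
  let Vs : Over S := Over.mk (pullback.fst g.left σ₀ ≫ V.hom)
  let ι : Vs ⟶ V := Over.homMk (pullback.fst g.left σ₀) rfl
  let τ : Vs ⟶ T := Over.homMk (pullback.snd g.left σ₀) (by
    change pullback.snd g.left σ₀ ≫ σ₀ ≫ W.hom = pullback.fst g.left σ₀ ≫ V.hom
    rw [← Over.w g, pullback.condition_assoc])
  have hιτ : ι ≫ g = τ ≫ σ := Over.OverMorphism.ext pullback.condition
  have sqX := IsPullback.of_hasPullback (f ≫ h) z
  have sqY := IsPullback.of_hasPullback h z
  have hw1 : (pullback.fst (f ≫ h) z ≫ f) ≫ h = pullback.snd (f ≫ h) z ≫ z := by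
    rw [Category.assoc]; exact pullback.condition
  have e1 : sqY.lift _ _ hw1 ≫ pullback.fst h z = pullback.fst (f ≫ h) z ≫ f :=
    sqY.lift_fst _ _ _
  have e2 : sqY.lift _ _ hw1 ≫ pullback.snd h z = pullback.snd (f ≫ h) z := sqY.lift_snd _ _ _
  have hfz : LocP @Flat (sqY.lift _ _ hw1) :=
    hfib K (σ₀ ≫ W.hom) z _ _ _ _ _ _ (sqY.lift _ _ hw1) sqX sqY e1 e2
  have sq1 : IsPullback (sqY.lift _ _ hw1) (pullback.fst (f ≫ h) z) (pullback.fst h z) f :=
    isPullback_fibre sqX sqY e1 e2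
  have hT : IsAlgSpace ((yon S).obj T) := IsAlgSpace.yon_obj T
  have hYz : IsAlgSpace (pullback h z) := isAlgSpace_pullback hZ.diag hY hT sqY
  have hXz : IsAlgSpace (pullback (f ≫ h) z) := isAlgSpace_pullback hZ.diag hX hT sqX
  have hw2 : ((yon S).map ι ≫ b) ≫ h = (yon S).map τ ≫ z := by
    rw [Category.assoc, comm₁, ← Category.assoc, ← Functor.map_comp, hιτ, Functor.map_comp,
      Category.assoc]
  have hbs1 : sqY.lift _ _ hw2 ≫ pullback.fst h z = (yon S).map ι ≫ b := sqY.lift_fst _ _ _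
  have sqQ := IsPullback.of_hasPullback f ((yon S).map ι ≫ b)
  have hw3 : (pullback.snd f ((yon S).map ι ≫ b) ≫ sqY.lift _ _ hw2) ≫ pullback.fst h z =
      pullback.fst f ((yon S).map ι ≫ b) ≫ f := by
    rw [Category.assoc, hbs1]; exact pullback.condition.symm
  have sq2 : IsPullback (sq1.lift _ _ hw3) (pullback.snd f ((yon S).map ι ≫ b))
      (sqY.lift _ _ hw1) (sqY.lift _ _ hw2) := by
    apply IsPullback.of_right (h₁₂ := pullback.fst (f ≫ h) z) (h₂₂ := pullback.fst h z) _
      (sq1.lift_fst _ _ _) sq1.flip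
    rw [sq1.lift_snd, hbs1]
    exact sqQ
  have hQ : LocP @Flat (pullback.snd f ((yon S).map ι ≫ b)) :=
    locP_of_isPullback etale_le_flat sq2 hXz hYz (IsAlgSpace.yon_obj Vs) hfz
  exact locP_chart_baseChange etale_le_flat k c' hce hck ι hQ

/-- **Critère de platitude par fibres** for algebraic spaces, finitely presented case. -/
theorem main {X Y Z : Sp S} (hX : IsAlgSpace X) (hY : IsAlgSpace Y) (hZ : IsAlgSpace Z)
    (f : X ⟶ Y) (h : Y ⟶ Z)
    (hfp : LocP @LocallyOfFinitePresentation (f ≫ h)) (hfl : LocP @Flat (f ≫ h))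
    (hft : LocP @LocallyOfFiniteType h) (hfib : FibHyp f h) :
    LocP @Flat f ∧ (IsSurjectiveMor f → LocP @Flat h) := by
  obtain ⟨W, c, hce, hcs⟩ := hZ.atlas
  obtain ⟨V, b, g, hbe, hbs, comm₁⟩ := exists_chart_diagram_surj hY h hce hcs
  obtain ⟨U, a, k, c', hae, comm₂, hc'e, hc's, hc'a, hc'k⟩ := exists_chart_diagram hX f hbe
  have has : RepWith @Surjective a := by
    rw [← hc'a]
    exact (RepWith @Surjective).comp_mem _ _ hc's
      (MorphismProperty.of_isPullback (P := RepWith @Surjective)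
        (IsPullback.of_hasPullback f b).flip hbs)
  have comm₃ : a ≫ f ≫ h = (yon S).map (k ≫ g) ≫ c := by
    rw [← Category.assoc, comm₂, Category.assoc, comm₁, Functor.map_comp, Category.assoc]
  haveI i1 : LocallyOfFinitePresentation (k.left ≫ g.left) := hfp a c (k ≫ g) hae hce comm₃
  haveI i2 : Flat (k.left ≫ g.left) := hfl a c (k ≫ g) hae hce comm₃
  haveI i3 : LocallyOfFiniteType g.left := hft b c g hbe hce comm₁
  have key : ∀ x : U.left,
      (g.left.stalkMap (k.left x)).hom.Flat ∧ (k.left.stalkMap x).hom.Flat := by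
    intro x
    haveI : Flat (pullback.snd k.left (g.left.fiberι (g.left (k.left x)))) :=
      fibre_flat hX hY hZ f h hfib k g comm₁ c' hc'e hc'k
        (W.left.residueField (g.left (k.left x))) (W.left.fromSpecResidueField _)
    exact Groth.Agent.H1.CritFib.flat_stalkMap_of_flat_snd k.left g.left x
      (Flat.stalkMap (k.left ≫ g.left) x)
  have hk : Flat k.left := Flat.of_stalkMap (f := k.left) fun x => (key x).2
  refine ⟨locP_of_one_chart etale_le_flat a b k hae has hbe comm₂ hk, fun hsurj => ?_⟩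
  have hg : Flat g.left := by
    refine Flat.of_stalkMap (f := g.left) fun y => ?_
    obtain ⟨x, hx⟩ := hsurj (Points.ofPt b y)
    obtain ⟨z, hz1, hz2⟩ := points_pullback_surjective (IsPullback.of_hasPullback f b) x
      (Points.ofScheme V y) (by rw [hx, Points.ofPt_eq_map_ofScheme])
    obtain ⟨u, hu⟩ := ofPt_surjective_of_repWith hc's z
    have hku : k.left u = y := by
      have h0 : Points.map (pullback.snd f b) (Points.ofPt c' u) =
          Points.ofPt (c' ≫ pullback.snd f b) u := rfl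
      have h1 : Points.ofPt ((yon S).map k) u = Points.ofScheme V y := by
        rw [← hc'k, ← h0, hu, hz2]
      have h2 := congrArg (Points.toScheme V) h1
      rwa [Points.toScheme_ofPt, Points.toScheme_ofScheme] at h2
    rw [← hku]
    exact (key u).1
  exact locP_of_one_chart etale_le_flat b c g hbe hbs hce comm₁ hg

end Groth.Agent.H7.FibFlatSp
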