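import Groth.Agent.Lib.Helper7.FibFlatSp
import Groth.Agent.Lib.Helper7.FibFlatNoeth
import Groth.Agent.Lib.Helper3.AlgSpCov.RedNoeth
import Mathlib

/-!
# Critère de platitude par fibres for locally Noetherian algebraic spaces (S10604)
-/

set_option autoImplicit false
universe u

open AlgebraicGeometry CategoryTheory Limits

namespace Groth.Agent.H7.FibFlatSp2

open _root_.AlgSp Groth.Agent.H5.AlgSp Groth.Agent.H5.EtSrc Groth.Agent.H7.FibFlatSp

variable {S : Scheme.{u}}

/-- **Critère de platitude par fibres** for algebraic spaces, locally Noetherian case. -/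
theorem main_noeth {X Y Z : Sp S} (hX : IsAlgSpace X) (hY : IsAlgSpace Y) (hZ : IsAlgSpace Z)
    (f : X ⟶ Y) (h : Y ⟶ Z) (hXn : IsLocNoethSp X) (hYn : IsLocNoethSp Y)
    (hfl : LocP @Flat (f ≫ h)) (hfib : FibHyp f h) :
    LocP @Flat f ∧ (IsSurjectiveMor f → LocP @Flat h) := by
  obtain ⟨W, c, hce, hcs⟩ := hZ.atlas
  obtain ⟨V, b, g, hbe, hbs, comm₁⟩ := exists_chart_diagram_surj hY h hce hcs
  obtain ⟨U, a, k, c', hae, comm₂, hc'e, hc's, hc'a, hc'k⟩ := exists_chart_diagram hX f hbe
  have has : RepWith @Surjective a := by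
    rw [← hc'a]
    exact (RepWith @Surjective).comp_mem _ _ hc's
      (MorphismProperty.of_isPullback (P := RepWith @Surjective)
        (IsPullback.of_hasPullback f b).flip hbs)
  have comm₃ : a ≫ f ≫ h = (yon S).map (k ≫ g) ≫ c := by
    rw [← Category.assoc, comm₂, Category.assoc, comm₁, Functor.map_comp, Category.assoc]
  haveI i2 : Flat (k.left ≫ g.left) := hfl a c (k ≫ g) hae hce comm₃
  haveI i4 : IsLocallyNoetherian U.left :=
    Groth.Agent.H3.AlgSpCov.isLocallyNoetherian_of_etale_of_isLocNoethSp hXn a hae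
  haveI i5 : IsLocallyNoetherian V.left :=
    Groth.Agent.H3.AlgSpCov.isLocallyNoetherian_of_etale_of_isLocNoethSp hYn b hbe
  have key : ∀ x : U.left,
      (g.left.stalkMap (k.left x)).hom.Flat ∧ (k.left.stalkMap x).hom.Flat := by
    intro x
    haveI : Flat (pullback.snd k.left (g.left.fiberι (g.left (k.left x)))) :=
      fibre_flat hX hY hZ f h hfib k g comm₁ c' hc'e hc'k
        (W.left.residueField (g.left (k.left x))) (W.left.fromSpecResidueField _)
    exact Groth.Agent.H7.FibFlatNoeth.flat_stalkMap_of_flat_snd_noeth k.left g.left x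
      (Flat.stalkMap (k.left ≫ g.left) x)
  have hk : Flat k.left := Flat.of_stalkMap (f := k.left) fun x => (key x).2
  refine ⟨locP_of_one_chart FibFlatSp.etale_le_flat a b k hae has hbe comm₂ hk, fun hsurj => ?_⟩
  have hg : Flat g.left := by
    refine Flat.of_stalkMap (f := g.left) fun y => ?_
    obtain ⟨x, hx⟩ := hsurj (Points.ofPt b y)
    obtain ⟨z, hz1, hz2⟩ := points_pullback_surjective (IsPullback.of_hasPullback f b) x
      (Points.ofScheme V y) (by rw [hx, Points.ofPt_eq_map_ofScheme])
    obtain ⟨u, hu⟩ := ofPt_surjective_of_repWith hc's z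
    have hku : k.left u = y := by
      have h0 : Points.map (pullback.snd f b) (Points.ofPt c' u) =
          Points.ofPt (c' ≫ pullback.snd f b) u := rfl
      have h1 : Points.ofPt ((yon S).map k) u = Points.ofScheme V y := by
        rw [← hc'k, ← h0, hu, hz2]
      have h2 := congrArg (Points.toScheme V) h1
      rwa [Points.toScheme_ofPt, Points.toScheme_ofScheme] at h2
    rw [← hku]
    exact (key u).1
  exact locP_of_one_chart FibFlatSp.etale_le_flat b c g hbe hbs hce comm₁ hg

end Groth.Agent.H7.FibFlatSp2
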