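import Mathlib
import Groth.Prelude.Def_FibSite
import Groth.Agent.Lib.Helper7.FibKan2

set_option backward.isDefEq.respectTransparency false

universe w v₃ u₃ v₂ u₂ v₁ u₁ u

open CategoryTheory CategoryTheory.Limits Opposite Pseudofunctor Pseudofunctor.CoGrothendieck Bicategory

namespace Groth.Agent.H7.FibTot

theorem ι_full {𝒮 : Type u₁} [Category.{v₁} 𝒮]
    (F : Pseudofunctor (LocallyDiscrete 𝒮ᵒᵖ) Cat.{v₂, u₂}) (i : 𝒮) (hi : ∀ f : i ⟶ i, f = 𝟙 i) :
    (ι F i).Full :=
  ⟨fun {W W'} k => by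
    obtain ⟨φ, hφ⟩ := exists_vert F k (hi _)
    exact ⟨φ, hφ.symm⟩⟩

theorem ι_faithful {𝒮 : Type u₁} [Category.{v₁} 𝒮]
    (F : Pseudofunctor (LocallyDiscrete 𝒮ᵒᵖ) Cat.{v₂, u₂}) (i : 𝒮) :
    (ι F i).Faithful :=
  ⟨fun {W W'} φ ψ h => vert_injective F φ ψ h⟩

theorem S13513_main {𝒮 : Type u} [SmallCategory 𝒮]
    (F : Pseudofunctor (LocallyDiscrete 𝒮ᵒᵖ) Cat.{u, u}) (J : FibSite.Topologies F)
    (hF : FibSite.IsFibSite F J) (i : 𝒮) (hi : IsTerminal i)
    [(ι F i).IsContinuous (J i) (FibSite.totalTopology F J)]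
    [((ι F i).sheafPushforwardContinuous (Type u) (J i) (FibSite.totalTopology F J)).IsRightAdjoint] :
    (FibSite.extend F J (Type u) i).Full ∧ (FibSite.extend F J (Type u) i).Faithful := by
  haveI : (ι F i).IsCocontinuous (J i) (FibSite.totalTopology F J) :=
    S13510_main F J hF.isPreFibSite i
  haveI : (ι F i).Full := ι_full F i (fun f => hi.hom_ext _ _)
  haveI : (ι F i).Faithful := ι_faithful F i
  let t : Adjunction.Triple (FibSite.extend F J (Type u) i) (FibSite.restr F J (Type u) i)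
      (FibSite.coextend F J (Type u) i) :=
    ⟨(ι F i).sheafAdjunctionContinuous (Type u) (J i) (FibSite.totalTopology F J),
      (ι F i).sheafAdjunctionCocontinuous (Type u) (J i) (FibSite.totalTopology F J)⟩
  haveI : IsIso t.adj₂.counit := by
    apply (config := {allowSynthFailures := true}) NatIso.isIso_of_isIso_app
    intro b
    have h1 : IsIso ((t.adj₂.counit.app b).hom) := by
      rw [Functor.sheafAdjunctionCocontinuous_counit_app_hom]
      infer_instance
    exact (isIso_iff_of_reflects_iso _ (sheafToPresheaf _ _)).mp h1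
  have hff := t.fullyFaithfulEquiv.symm (t.adj₂.fullyFaithfulROfIsIsoCounit)
  exact ⟨hff.full, hff.faithful⟩

end Groth.Agent.H7.FibTot
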