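import Mathlib
import Groth.Agent.Lib.Helper2.SmEtSheafC
import Groth.Agent.Lib.Helper7.ES12
import Groth.Agent.Lib.Helper7.GalCov2

/-!
# Helper7: FiltSec1 — sections over a quasi-compact object of the small étale site and filtered
colimits of sheaves of sets: local descriptions and injectivity.
-/

set_option autoImplicit false

universe u

open CategoryTheory CategoryTheory.Limits Opposite AlgebraicGeometry

namespace Groth.Agent.H7.FiltSec

variable {X : Scheme.{u}} {I : Type (u + 1)} [SmallCategory I]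
  (D : I ⥤ Sheaf X.smallEtaleTopology (Type (u + 1)))

/-- the colimit cocone of the underlying presheaves. -/
noncomputable abbrev cP : Cocone (D ⋙ sheafToPresheaf X.smallEtaleTopology (Type (u + 1))) :=
  colimit.cocone _

/-- the sheafified cocone. -/
noncomputable abbrev E : Cocone D := Sheaf.sheafifyCocone (cP D)

/-- it is a colimit cocone. -/
noncomputable def hE : IsColimit (E D) :=
  Sheaf.isColimitSheafifyCocone _ (colimit.isColimit _)

lemma E_ι_app (i : I) (U : X.Etale) (x : (D.obj i).obj.obj (op U)) :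
    ((E D).ι.app i).hom.app (op U) x =
      (toSheafify X.smallEtaleTopology (cP D).pt).app (op U) (((cP D).ι.app i).app (op U) x) := by
  rw [Sheaf.sheafifyCocone_ι_app_val]
  rfl

lemma E_ι_map (i : I) {U V : X.Etale} (f : V ⟶ U) (x : (D.obj i).obj.obj (op U)) :
    (E D).pt.obj.map f.op (((E D).ι.app i).hom.app (op U) x) =
      ((E D).ι.app i).hom.app (op V) ((D.obj i).obj.map f.op x) :=
  (NatTrans.naturality_apply ((E D).ι.app i).hom f.op x).symm

lemma E_ι_w {i k : I} (φ : i ⟶ k) (U : X.Etale) (x : (D.obj i).obj.obj (op U)) :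
    ((E D).ι.app k).hom.app (op U) ((D.map φ).hom.app (op U) x) =
      ((E D).ι.app i).hom.app (op U) x := by
  have h := (E D).w φ
  exact congrArg (fun m : D.obj i ⟶ (E D).pt => m.hom.app (op U) x) h

lemma D_map_map {i k : I} (φ : i ⟶ k) {U V : X.Etale} (f : V ⟶ U)
    (x : (D.obj i).obj.obj (op U)) :
    (D.obj k).obj.map f.op ((D.map φ).hom.app (op U) x) =
      (D.map φ).hom.app (op V) ((D.obj i).obj.map f.op x) :=
  (NatTrans.naturality_apply (D.map φ).hom f.op x).symm

lemma D_map_comp {i k l : I} (φ : i ⟶ k) (ψ : k ⟶ l) (U : X.Etale)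
    (x : (D.obj i).obj.obj (op U)) :
    (D.map (φ ≫ ψ)).hom.app (op U) x = (D.map ψ).hom.app (op U) ((D.map φ).hom.app (op U) x) := by
  rw [D.map_comp]
  rfl

variable [IsFiltered I]

/-- Two sections of a member of a filtered diagram of sheaves with the same image in the colimit
become equal locally at a later stage. -/
lemma exists_cover_map_eq {i : I} {U : X.Etale} (x y : (D.obj i).obj.obj (op U))
    (h : ((E D).ι.app i).hom.app (op U) x = ((E D).ι.app i).hom.app (op U) y) :
    ∃ S ∈ X.smallEtaleTopology U, ∀ ⦃V : X.Etale⦄ (f : V ⟶ U), S f → ∃ (k : I) (φ : i ⟶ k),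
      (D.map φ).hom.app (op V) ((D.obj i).obj.map f.op x) =
        (D.map φ).hom.app (op V) ((D.obj i).obj.map f.op y) := by
  rw [E_ι_app, E_ι_app] at h
  refine ⟨_, Presheaf.equalizerSieve_mem X.smallEtaleTopology
    (toSheafify X.smallEtaleTopology (cP D).pt) _ _ h, ?_⟩
  intro V f hf
  have hf' : (cP D).pt.map f.op (((cP D).ι.app i).app (op U) x) =
      (cP D).pt.map f.op (((cP D).ι.app i).app (op U) y) := hf
  have n1 : ∀ z : (D.obj i).obj.obj (op U), (cP D).pt.map f.op (((cP D).ι.app i).app (op U) z) =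
      ((cP D).ι.app i).app (op V) ((D.obj i).obj.map f.op z) := fun z =>
    (NatTrans.naturality_apply ((cP D).ι.app i) f.op z).symm
  rw [n1, n1] at hf'
  have hev := isColimitOfPreserves ((evaluation X.Etaleᵒᵖ (Type (u + 1))).obj (op V))
    (colimit.isColimit (D ⋙ sheafToPresheaf X.smallEtaleTopology (Type (u + 1))))
  exact (Types.FilteredColimit.isColimit_eq_iff' hev _ _).1 hf'

omit [IsFiltered I] in
/-- Every section of the colimit comes locally from a stage. -/
lemma exists_cover_lift {U : X.Etale} (s : (E D).pt.obj.obj (op U)) :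
    ∃ S ∈ X.smallEtaleTopology U, ∀ ⦃V : X.Etale⦄ (f : V ⟶ U), S f →
      ∃ (k : I) (t : (D.obj k).obj.obj (op V)),
        ((E D).ι.app k).hom.app (op V) t = (E D).pt.obj.map f.op s := by
  refine ⟨_, Presheaf.imageSieve_mem X.smallEtaleTopology
    (toSheafify X.smallEtaleTopology (cP D).pt) s, ?_⟩
  intro V f hf
  obtain ⟨p, hp⟩ := hf
  have hev := isColimitOfPreserves ((evaluation X.Etaleᵒᵖ (Type (u + 1))).obj (op V))
    (colimit.isColimit (D ⋙ sheafToPresheaf X.smallEtaleTopology (Type (u + 1))))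
  obtain ⟨k, t, ht⟩ := Types.jointly_surjective_of_isColimit hev p
  refine ⟨k, t, ?_⟩
  rw [E_ι_app]
  exact (congrArg _ ht).trans hp

/-- In a filtered category, finitely many arrows out of `i` are dominated by a single one. -/
lemma exists_dominating {i : I} (s : Finset (Σ k : I, (i ⟶ k))) :
    ∃ (k₀ : I) (φ₀ : i ⟶ k₀), ∀ x ∈ s, ∃ ψ : x.1 ⟶ k₀, x.2 ≫ ψ = φ₀ := by
  classical
  induction s using Finset.induction_on with
  | empty => exact ⟨i, 𝟙 i, by simp⟩
  | insert x s _ ih =>
    obtain ⟨k₀, φ₀, h⟩ := ih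
    obtain ⟨Z, u', v, huv⟩ := IsFiltered.span φ₀ x.2
    refine ⟨Z, φ₀ ≫ u', ?_⟩
    intro y hy
    rcases Finset.mem_insert.1 hy with rfl | hy
    · exact ⟨v, huv.symm⟩
    · obtain ⟨ψ, hψ⟩ := h y hy
      exact ⟨ψ ≫ u', by rw [← Category.assoc, hψ]⟩

omit [IsFiltered I] in
/-- separatedness along a jointly surjective family. -/
lemma ext_of_jointly_surjective (F : Sheaf X.smallEtaleTopology (Type (u + 1))) {U : X.Etale}
    {ι : Type*} (V : ι → X.Etale) (g : ∀ k, V k ⟶ U)
    (hg : ∀ x : U.left, ∃ k y, (g k).left y = x) (a b : F.obj.obj (op U))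
    (h : ∀ k, F.obj.map (g k).op a = F.obj.map (g k).op b) : a = b := by
  have hF : Presieve.IsSheaf X.smallEtaleTopology F.obj := (isSheaf_iff_isSheaf_of_type _ _).1 F.property
  let T : Sieve U := Presheaf.equalizerSieve (F := F.obj) a b
  have hT : T ∈ X.smallEtaleTopology U := by
    refine ES.sieve_mem_of_jointly_surjective _ (fun x => ?_)
    obtain ⟨k, y, hy⟩ := hg x
    exact ⟨V k, g k, y, h k, hy⟩
  exact (hF.isSeparated _ hT).ext (fun Y f hf => hf)

/-- **Injectivity**: two sections over a quasi-compact object with the same image in the colimit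
become equal at a later stage. -/
lemma exists_map_eq_of_compact {U : X.Etale} [CompactSpace U.left] {i : I}
    (x y : (D.obj i).obj.obj (op U))
    (h : ((E D).ι.app i).hom.app (op U) x = ((E D).ι.app i).hom.app (op U) y) :
    ∃ (k : I) (φ : i ⟶ k), (D.map φ).hom.app (op U) x = (D.map φ).hom.app (op U) y := by
  classical
  obtain ⟨S, hS, hS'⟩ := exists_cover_map_eq D x y h
  obtain ⟨ι, hι, V, g, -, hgS, hsurj⟩ :=
    Groth.Agent.H2.SmEtSheaf.exists_finite_affine_refinement S hS
  haveI := Fintype.ofFinite ι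
  choose j φ hφ using fun k => hS' (g k) (hgS k)
  obtain ⟨k₀, φ₀, hdom⟩ := exists_dominating
    (Finset.univ.image (fun k : ι => (⟨j k, φ k⟩ : Σ k : I, (i ⟶ k))))
  refine ⟨k₀, φ₀, ?_⟩
  apply ext_of_jointly_surjective (D.obj k₀) V g hsurj
  intro k
  obtain ⟨ψ, hψ⟩ := hdom ⟨j k, φ k⟩ (Finset.mem_image.2 ⟨k, Finset.mem_univ _, rfl⟩)
  have hψ' : φ k ≫ ψ = φ₀ := hψ
  rw [D_map_map, D_map_map, ← hψ', D_map_comp, D_map_comp, hφ k]

end Groth.Agent.H7.FiltSec
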