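import Mathlib
import Groth.Agent.Lib.Helper7.FiltSec1

/-!
# Helper7: FiltSec2 — sections over a quasi-compact quasi-separated object of the small étale site
commute with filtered colimits of sheaves of sets (S14632).
-/

set_option autoImplicit false

universe u

open CategoryTheory CategoryTheory.Limits Opposite AlgebraicGeometry

namespace Groth.Agent.H7.FiltSec

variable {X : Scheme.{u}}

section pb

variable {A B U : X.Etale} (a : A ⟶ U) (b : B ⟶ U)

instance etale_pb : Etale (pullback.fst a.left b.left ≫ A.hom) := by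
  haveI := GalCov.etale_left b
  haveI : Etale A.hom := A.prop
  infer_instance

/-- the fibre product in the small étale site, built by hand. -/
noncomputable def pbObj : X.Etale := Scheme.Etale.mk (pullback.fst a.left b.left ≫ A.hom)

noncomputable def pbFst : pbObj a b ⟶ A := MorphismProperty.Over.homMk (pullback.fst a.left b.left) rfl

noncomputable def pbSnd : pbObj a b ⟶ B :=
  MorphismProperty.Over.homMk (pullback.snd a.left b.left) (by
    change pullback.snd a.left b.left ≫ B.hom = pullback.fst a.left b.left ≫ A.hom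
    rw [← MorphismProperty.Over.w b, ← MorphismProperty.Over.w a, ← Category.assoc,
      ← Category.assoc, pullback.condition])

lemma pb_cond : pbFst a b ≫ a = pbSnd a b ≫ b :=
  MorphismProperty.Over.Hom.ext (pullback.condition)

noncomputable def pbLift {Z : X.Etale} (p : Z ⟶ A) (q : Z ⟶ B) (h : p ≫ a = q ≫ b) :
    Z ⟶ pbObj a b :=
  MorphismProperty.Over.homMk (pullback.lift p.left q.left (congrArg (fun k => k.left) h)) (by
    change pullback.lift p.left q.left _ ≫ pullback.fst a.left b.left ≫ A.hom = Z.hom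
    rw [← Category.assoc, pullback.lift_fst]
    exact MorphismProperty.Over.w p)

lemma pbLift_fst {Z : X.Etale} (p : Z ⟶ A) (q : Z ⟶ B) (h : p ≫ a = q ≫ b) :
    pbLift a b p q h ≫ pbFst a b = p :=
  MorphismProperty.Over.Hom.ext (pullback.lift_fst _ _ _)

lemma pbLift_snd {Z : X.Etale} (p : Z ⟶ A) (q : Z ⟶ B) (h : p ≫ a = q ≫ b) :
    pbLift a b p q h ≫ pbSnd a b = q :=
  MorphismProperty.Over.Hom.ext (pullback.lift_snd _ _ _)

instance compactSpace_pbObj [CompactSpace A.left] [CompactSpace B.left]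
    [QuasiSeparatedSpace U.left] : CompactSpace (pbObj a b).left := by
  change CompactSpace ↑(pullback a.left b.left)
  infer_instance

end pb

variable {I : Type (u + 1)} [SmallCategory I] [IsFiltered I]
  (D : I ⥤ Sheaf X.smallEtaleTopology (Type (u + 1)))

omit [IsFiltered I] in
lemma map_comp_apply (F : X.Etaleᵒᵖ ⥤ Type (u + 1)) {U V W : X.Etale} (a : W ⟶ V) (b : V ⟶ U)
    (s : F.obj (op U)) : F.map a.op (F.map b.op s) = F.map (a ≫ b).op s := by
  rw [op_comp, F.map_comp]
  rfl

/-- gluing along a finite jointly surjective family, given agreement on the fibre products. -/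
lemma exists_glue (F : Sheaf X.smallEtaleTopology (Type (u + 1))) {U : X.Etale}
    {ι : Type u} (V : ι → X.Etale) (g : ∀ k, V k ⟶ U)
    (hg : ∀ x : U.left, ∃ k y, (g k).left y = x) (t : ∀ k, F.obj.obj (op (V k)))
    (h : ∀ k l, F.obj.map (pbFst (g k) (g l)).op (t k) = F.obj.map (pbSnd (g k) (g l)).op (t l)) :
    ∃ s : F.obj.obj (op U), ∀ k, F.obj.map (g k).op s = t k := by
  have hF : Presieve.IsSheaf X.smallEtaleTopology F.obj :=
    (isSheaf_iff_isSheaf_of_type _ _).1 F.property
  have hcov : Sieve.generate (Presieve.ofArrows V g) ∈ X.smallEtaleTopology U := by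
    refine ES.sieve_mem_of_jointly_surjective _ (fun x => ?_)
    obtain ⟨k, y, hy⟩ := hg x
    exact ⟨V k, g k, y, ⟨_, 𝟙 _, g k, Presieve.ofArrows.mk k, Category.id_comp _⟩, hy⟩
  have h1 := hF _ hcov
  rw [← Presieve.isSheafFor_iff_generate, Presieve.isSheafFor_arrows_iff] at h1
  have hcomp : Presieve.Arrows.Compatible F.obj g t := by
    intro k l Z gk gl hcomm
    have e1 := pbLift_fst (g k) (g l) gk gl hcomm
    have e2 := pbLift_snd (g k) (g l) gk gl hcomm
    calc F.obj.map gk.op (t k)
        = F.obj.map (pbLift (g k) (g l) gk gl hcomm ≫ pbFst (g k) (g l)).op (t k) := by rw [e1]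
      _ = F.obj.map (pbLift (g k) (g l) gk gl hcomm).op
            (F.obj.map (pbFst (g k) (g l)).op (t k)) := (map_comp_apply _ _ _ _).symm
      _ = F.obj.map (pbLift (g k) (g l) gk gl hcomm).op
            (F.obj.map (pbSnd (g k) (g l)).op (t l)) := by rw [h k l]
      _ = F.obj.map (pbLift (g k) (g l) gk gl hcomm ≫ pbSnd (g k) (g l)).op (t l) :=
          map_comp_apply _ _ _ _
      _ = F.obj.map gl.op (t l) := by rw [e2]
  obtain ⟨s, hs, -⟩ := h1 t hcomp
  exact ⟨s, hs⟩

/-- **Surjectivity**: a section of the colimit over a quasi-compact quasi-separated object comes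
from a stage. -/
lemma exists_lift_of_qcqs {U : X.Etale} [CompactSpace U.left] [QuasiSeparatedSpace U.left]
    (s : (E D).pt.obj.obj (op U)) :
    ∃ (k : I) (t : (D.obj k).obj.obj (op U)), ((E D).ι.app k).hom.app (op U) t = s := by
  classical
  obtain ⟨S, hS, hS'⟩ := exists_cover_lift D s
  obtain ⟨ι, hι, V, g, haff, hgS, hsurj⟩ :=
    Groth.Agent.H2.SmEtSheaf.exists_finite_affine_refinement S hS
  haveI := Fintype.ofFinite ι
  choose j t ht using fun k => hS' (g k) (hgS k)
  -- a common stage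
  obtain ⟨j₀, hj₀⟩ := IsFiltered.sup_objs_exists (Finset.univ.image j)
  have ψ : ∀ k, j k ⟶ j₀ := fun k =>
    (hj₀ (Finset.mem_image.2 ⟨k, Finset.mem_univ _, rfl⟩)).some
  obtain ⟨t', ht'⟩ : ∃ t' : ∀ k, (D.obj j₀).obj.obj (op (V k)),
      ∀ k, ((E D).ι.app j₀).hom.app (op (V k)) (t' k) = (E D).pt.obj.map (g k).op s :=
    ⟨fun k => (D.map (ψ k)).hom.app (op (V k)) (t k),
      fun k => (E_ι_w D (ψ k) (V k) (t k)).trans (ht k)⟩
  -- agreement on overlaps at a later stage
  have hov : ∀ p : ι × ι, ∃ (l : I) (φ : j₀ ⟶ l),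
      (D.map φ).hom.app (op (pbObj (g p.1) (g p.2)))
        ((D.obj j₀).obj.map (pbFst (g p.1) (g p.2)).op (t' p.1)) =
      (D.map φ).hom.app (op (pbObj (g p.1) (g p.2)))
        ((D.obj j₀).obj.map (pbSnd (g p.1) (g p.2)).op (t' p.2)) := by
    rintro ⟨k, l⟩
    haveI : CompactSpace (V k).left := by haveI := haff k; infer_instance
    haveI : CompactSpace (V l).left := by haveI := haff l; infer_instance
    apply exists_map_eq_of_compact D
    rw [← E_ι_map, ← E_ι_map, ht' k, ht' l, map_comp_apply, map_comp_apply, pb_cond]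
  choose l φ hφ using hov
  obtain ⟨k₀, φ₀, hdom⟩ := exists_dominating
    (Finset.univ.image (fun p : ι × ι => (⟨l p, φ p⟩ : Σ k : I, (j₀ ⟶ k))))
  obtain ⟨t'', ht''⟩ : ∃ t'' : ∀ k, (D.obj k₀).obj.obj (op (V k)),
      ∀ k, t'' k = (D.map φ₀).hom.app (op (V k)) (t' k) := ⟨_, fun k => rfl⟩
  have hglue : ∀ k m, (D.obj k₀).obj.map (pbFst (g k) (g m)).op (t'' k) =
      (D.obj k₀).obj.map (pbSnd (g k) (g m)).op (t'' m) := by
    intro k m
    obtain ⟨χ, hχ⟩ := hdom ⟨l (k, m), φ (k, m)⟩
      (Finset.mem_image.2 ⟨(k, m), Finset.mem_univ _, rfl⟩)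
    have hχ' : φ (k, m) ≫ χ = φ₀ := hχ
    rw [ht'' k, ht'' m, D_map_map, D_map_map, ← hχ', D_map_comp, D_map_comp]
    exact congrArg _ (hφ (k, m))
  obtain ⟨σ, hσ⟩ := exists_glue (D.obj k₀) V g hsurj t'' hglue
  refine ⟨k₀, σ, ?_⟩
  apply ext_of_jointly_surjective (E D).pt V g hsurj
  intro k
  rw [E_ι_map, hσ k, ht'' k]
  exact (E_ι_w D φ₀ (V k) (t' k)).trans (ht' k)

/-- the main theorem. -/
theorem S14632_main (X : Scheme.{u}) [CompactSpace ↥X]
    [QuasiSeparatedSpace ↥X] (U : X.Etale) [QuasiCompact U.hom] [QuasiSeparated U.hom]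
    (I : Type (u + 1)) [SmallCategory I] [IsFiltered I] :
    PreservesColimitsOfShape I
      (sheafToPresheaf X.smallEtaleTopology (Type (u + 1)) ⋙
        (evaluation X.Etaleᵒᵖ (Type (u + 1))).obj (op U)) := by
  haveI : CompactSpace U.left := by
    have := @QuasiCompact.compactSpace_of_compactSpace U.left X U.hom _ _
    exact this
  haveI : QuasiSeparatedSpace U.left := by
    have := @quasiSeparatedSpace_of_quasiSeparated U.left X U.hom _ _
    exact this
  refine ⟨fun {D} => ?_⟩
  refine preservesColimit_of_preserves_colimit_cocone (hE D) ?_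
  refine Types.FilteredColimit.isColimitOf _ _ ?_ ?_
  · intro s
    obtain ⟨k, t, ht⟩ := exists_lift_of_qcqs D (U := U) s
    exact ⟨k, t, ht.symm⟩
  · intro i j xi xj h
    let k := IsFiltered.max i j
    let a : i ⟶ k := IsFiltered.leftToMax i j
    let b : j ⟶ k := IsFiltered.rightToMax i j
    have h' : ((E D).ι.app k).hom.app (op U) ((D.map a).hom.app (op U) xi) =
        ((E D).ι.app k).hom.app (op U) ((D.map b).hom.app (op U) xj) := by
      rw [E_ι_w, E_ι_w]
      exact h
    obtain ⟨m, φ, hφ⟩ := exists_map_eq_of_compact D _ _ h'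
    refine ⟨m, a ≫ φ, b ≫ φ, ?_⟩
    change (D.map (a ≫ φ)).hom.app (op U) xi = (D.map (b ≫ φ)).hom.app (op U) xj
    rw [D_map_comp, D_map_comp]
    exact hφ

end Groth.Agent.H7.FiltSec
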