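import Mathlib
import Groth.Agent.Lib.Helper7.FiltSec2

/-!
# Helper7: FiltSec3 — sections of abelian étale sheaves over a qcqs object commute with filtered
colimits.
-/

set_option autoImplicit false

universe u

open CategoryTheory CategoryTheory.Limits Opposite AlgebraicGeometry

namespace Groth.Agent.H7.FiltSec

variable {X : Scheme.{u}}

/-- the forgetful functor from abelian sheaves to sheaves of sets preserves filtered colimits. -/
instance preservesColimitsOfShape_sheafCompose_forget (I : Type (u + 1)) [SmallCategory I]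
    [IsFiltered I] :
    PreservesColimitsOfShape I
      (sheafCompose X.smallEtaleTopology (forget AddCommGrpCat.{u + 1})) := by
  refine ⟨fun {D} => ?_⟩
  let LA := presheafToSheaf X.smallEtaleTopology AddCommGrpCat.{u + 1}
  let LB := presheafToSheaf X.smallEtaleTopology (Type (u + 1))
  let SF := sheafCompose X.smallEtaleTopology (forget AddCommGrpCat.{u + 1})
  let K : I ⥤ (X.Etaleᵒᵖ ⥤ AddCommGrpCat.{u + 1}) :=
    D ⋙ sheafToPresheaf X.smallEtaleTopology AddCommGrpCat.{u + 1}
  have e : (Functor.whiskeringRight X.Etaleᵒᵖ AddCommGrpCat.{u + 1} (Type (u + 1))).obj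
      (forget AddCommGrpCat.{u + 1}) ⋙ LB ≅ LA ⋙ SF :=
    sheafComposeNatIso X.smallEtaleTopology (forget AddCommGrpCat.{u + 1})
      (sheafificationAdjunction _ _) (sheafificationAdjunction _ _)
  haveI : PreservesColimitsOfShape I (LA ⋙ SF) := preservesColimitsOfShape_of_natIso e
  have hc₀ := colimit.isColimit K
  haveI : PreservesColimit (K ⋙ LA) SF :=
    preservesColimit_of_preserves_colimit_cocone (isColimitOfPreserves LA hc₀)
      (isColimitOfPreserves (LA ⋙ SF) hc₀)
  have iso : K ⋙ LA ≅ D :=
    Functor.associator _ _ _ ≪≫ Functor.isoWhiskerLeft D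
      (asIso (sheafificationAdjunction X.smallEtaleTopology AddCommGrpCat.{u + 1}).counit) ≪≫
      Functor.rightUnitor _
  exact preservesColimit_of_iso_diagram SF iso

/-- sections of sheaves of sets over a qcqs object commute with filtered colimits. -/
theorem preservesColimitsOfShape_sections (U : X.Etale) [CompactSpace U.left]
    [QuasiSeparatedSpace U.left] (I : Type (u + 1)) [SmallCategory I] [IsFiltered I] :
    PreservesColimitsOfShape I
      (sheafToPresheaf X.smallEtaleTopology (Type (u + 1)) ⋙
        (evaluation X.Etaleᵒᵖ (Type (u + 1))).obj (op U)) := by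
  refine ⟨fun {D} => ?_⟩
  refine preservesColimit_of_preserves_colimit_cocone (hE D) ?_
  refine Types.FilteredColimit.isColimitOf _ _ ?_ ?_
  · intro s
    obtain ⟨k, t, ht⟩ := exists_lift_of_qcqs D (U := U) s
    exact ⟨k, t, ht.symm⟩
  · intro i j xi xj h
    let k := IsFiltered.max i j
    let a : i ⟶ k := IsFiltered.leftToMax i j
    let b : j ⟶ k := IsFiltered.rightToMax i j
    have h' : ((E D).ι.app k).hom.app (op U) ((D.map a).hom.app (op U) xi) =
        ((E D).ι.app k).hom.app (op U) ((D.map b).hom.app (op U) xj) := by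
      rw [E_ι_w, E_ι_w]
      exact h
    obtain ⟨m, φ, hφ⟩ := exists_map_eq_of_compact D _ _ h'
    refine ⟨m, a ≫ φ, b ≫ φ, ?_⟩
    change (D.map (a ≫ φ)).hom.app (op U) xi = (D.map (b ≫ φ)).hom.app (op U) xj
    rw [D_map_comp, D_map_comp]
    exact hφ

/-- sections of abelian sheaves over a qcqs object commute with filtered colimits. -/
theorem preservesColimitsOfShape_sections_ab (U : X.Etale) [CompactSpace U.left]
    [QuasiSeparatedSpace U.left] (I : Type (u + 1)) [SmallCategory I] [IsFiltered I] :
    PreservesColimitsOfShape I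
      (sheafToPresheaf X.smallEtaleTopology AddCommGrpCat.{u + 1} ⋙
        (evaluation X.Etaleᵒᵖ AddCommGrpCat.{u + 1}).obj (op U)) := by
  haveI h1 : PreservesColimitsOfShape I
      (sheafToPresheaf X.smallEtaleTopology (Type (u + 1)) ⋙
        (evaluation X.Etaleᵒᵖ (Type (u + 1))).obj (op U)) :=
    preservesColimitsOfShape_sections U I
  haveI h2 : PreservesColimitsOfShape I
      ((sheafToPresheaf X.smallEtaleTopology AddCommGrpCat.{u + 1} ⋙
        (evaluation X.Etaleᵒᵖ AddCommGrpCat.{u + 1}).obj (op U)) ⋙
          forget AddCommGrpCat.{u + 1}) := by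
    change PreservesColimitsOfShape I
      (sheafCompose X.smallEtaleTopology (forget AddCommGrpCat.{u + 1}) ⋙
        (sheafToPresheaf X.smallEtaleTopology (Type (u + 1)) ⋙
          (evaluation X.Etaleᵒᵖ (Type (u + 1))).obj (op U)))
    infer_instance
  haveI : ReflectsColimitsOfShape I (forget AddCommGrpCat.{u + 1}) :=
    reflectsColimitsOfShape_of_reflectsIsomorphisms
  exact preservesColimitsOfShape_of_reflects_of_preserves _ (forget AddCommGrpCat.{u + 1})

end Groth.Agent.H7.FiltSec
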