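import Mathlib
import Groth.Agent.Lib.Helper7.FiltSec2

/-!
# Helper7: FiltSec4 — finite products, in the slice of the small étale site over a qcqs object, of
qcqs objects are qcqs.
-/

set_option autoImplicit false

universe u

open CategoryTheory CategoryTheory.Limits Opposite AlgebraicGeometry

namespace Groth.Agent.H7.FiltSec

variable {X : Scheme.{u}} {U : X.Etale}

/-- the property of an object over `U` that its underlying scheme is qcqs. -/
def QcqsOver (U : X.Etale) : ObjectProperty (Over U) :=
  fun W => CompactSpace W.left.left ∧ QuasiSeparatedSpace W.left.left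

lemma qcqs_of_retract_scheme {A B : Scheme.{u}} (s : A ⟶ B) (r : B ⟶ A) (h : s ≫ r = 𝟙 A)
    [CompactSpace B] [QuasiSeparatedSpace B] : CompactSpace A ∧ QuasiSeparatedSpace A := by
  constructor
  · have hsurj : Function.Surjective r := by
      intro a
      refine ⟨s a, ?_⟩
      rw [← Scheme.Hom.comp_apply, h]
      rfl
    exact ⟨by
      have := (isCompact_univ (X := B)).image r.continuous
      rwa [Set.image_univ, hsurj.range_eq] at this⟩
  · haveI : Mono s := mono_of_mono_fac h
    exact quasiSeparatedSpace_of_quasiSeparated s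

lemma qcqsOver_of_retract {W M : Over U} (s : W ⟶ M) (r : M ⟶ W) (h : s ≫ r = 𝟙 W)
    (hM : QcqsOver U M) : QcqsOver U W := by
  obtain ⟨h1, h2⟩ := hM
  have h' : s.left.left ≫ r.left.left = 𝟙 W.left.left := by
    have := congrArg (fun k : W ⟶ W => k.left.left) h
    exact this
  exact qcqs_of_retract_scheme s.left.left r.left.left h'

variable [CompactSpace U.left] [QuasiSeparatedSpace U.left]

lemma qcqsOver_mk_id : QcqsOver U (Over.mk (𝟙 U)) :=
  ⟨‹CompactSpace U.left›, ‹QuasiSeparatedSpace U.left›⟩

omit [CompactSpace U.left] in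
lemma qcqsOver_pb {A B : Over U} (hA : QcqsOver U A) (hB : QcqsOver U B) :
    QcqsOver U (Over.mk (pbFst A.hom B.hom ≫ A.hom)) := by
  obtain ⟨hA1, hA2⟩ := hA
  obtain ⟨hB1, hB2⟩ := hB
  constructor
  · exact compactSpace_pbObj A.hom B.hom
  · change QuasiSeparatedSpace ↑(pullback A.hom.left B.hom.left)
    exact quasiSeparatedSpace_of_quasiSeparated (pullback.fst A.hom.left B.hom.left)

instance isClosedUnderLimitsOfShape_empty :
    (QcqsOver U).IsClosedUnderLimitsOfShape (Discrete.{0} PEmpty) where
  limitsOfShape_le := by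
    rintro W ⟨p⟩
    let s : W ⟶ Over.mk (𝟙 U) := Over.homMk W.hom
    let cM : Cone p.diag :=
      { pt := Over.mk (𝟙 U)
        π := { app := fun j => j.as.elim
               naturality := fun j => j.as.elim } }
    let r : Over.mk (𝟙 U) ⟶ W := p.isLimit.lift cM
    refine qcqsOver_of_retract s r ?_ qcqsOver_mk_id
    apply p.isLimit.hom_ext
    intro j
    exact j.as.elim

instance isClosedUnderBinaryProducts :
    (QcqsOver U).IsClosedUnderBinaryProducts where
  limitsOfShape_le := by
    rintro W ⟨p⟩
    let A := p.diag.obj ⟨WalkingPair.left⟩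
    let B := p.diag.obj ⟨WalkingPair.right⟩
    let πA : W ⟶ A := p.π.app ⟨WalkingPair.left⟩
    let πB : W ⟶ B := p.π.app ⟨WalkingPair.right⟩
    let M : Over U := Over.mk (pbFst A.hom B.hom ≫ A.hom)
    let mA : M ⟶ A := Over.homMk (pbFst A.hom B.hom) rfl
    let mB : M ⟶ B := Over.homMk (pbSnd A.hom B.hom) (pb_cond A.hom B.hom).symm
    have hw : πA.left ≫ A.hom = πB.left ≫ B.hom := (Over.w πA).trans (Over.w πB).symm
    let s : W ⟶ M := Over.homMk (pbLift A.hom B.hom πA.left πB.left hw) (by
      change pbLift A.hom B.hom πA.left πB.left hw ≫ pbFst A.hom B.hom ≫ A.hom = W.hom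
      rw [← Category.assoc, pbLift_fst]
      exact Over.w πA)
    let cM : Cone p.diag :=
      { pt := M
        π := Discrete.natTrans (fun j => by
          rcases j with ⟨j⟩
          cases j
          · exact mA
          · exact mB) }
    let r : M ⟶ W := p.isLimit.lift cM
    refine qcqsOver_of_retract s r ?_
      (qcqsOver_pb (p.prop_diag_obj ⟨WalkingPair.left⟩) (p.prop_diag_obj ⟨WalkingPair.right⟩))
    apply p.isLimit.hom_ext
    intro j
    rw [Category.assoc, p.isLimit.fac, Category.id_comp]
    rcases j with ⟨j⟩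
    cases j
    · change s ≫ mA = πA
      exact Over.OverMorphism.ext (pbLift_fst A.hom B.hom πA.left πB.left hw)
    · change s ≫ mB = πB
      exact Over.OverMorphism.ext (pbLift_snd A.hom B.hom πA.left πB.left hw)

/-- finite products of qcqs objects over a qcqs object are qcqs. -/
theorem qcqsOver_product [HasFiniteProducts (Over U)] {J : Type*} [Finite J] (f : J → Over U)
    (h : ∀ j, QcqsOver U (f j)) : QcqsOver U (∏ᶜ f) := by
  haveI : (QcqsOver U).IsClosedUnderFiniteProducts := ObjectProperty.IsClosedUnderFiniteProducts.mk'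
  exact (QcqsOver U).prop_product h

end Groth.Agent.H7.FiltSec
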