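import Mathlib
import Groth.Agent.Lib.Helper7.FiltSec3
import Groth.Agent.Lib.Helper7.FiltSec4
import Groth.Agent.Lib.Helper7.AbHomFilt
import Groth.Agent.Lib.Helper7.CechF1
import Groth.Prelude.Def_EtCech

/-!
# Helper7: FiltSec5 — Čech cohomology of a finite qcqs family commutes with filtered colimits of
abelian étale sheaves (S14630).
-/

set_option autoImplicit false

universe u

open CategoryTheory CategoryTheory.Limits Opposite AlgebraicGeometry

namespace Groth.Agent.H7.FiltSec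

open Groth.Agent.H8.CechU Groth.Agent.H7.CechF

variable {X : Scheme.{u}} {I : Type (u + 1)} [SmallCategory I] [IsFiltered I]

section elem

variable {D : I ⥤ Sheaf X.smallEtaleTopology AddCommGrpCat.{u + 1}} {t : Cocone D}
  (ht : IsColimit t) (W : X.Etale) [CompactSpace W.left] [QuasiSeparatedSpace W.left]

omit [IsFiltered I] in
lemma ab_ι_w {i k : I} (φ : i ⟶ k) (W : X.Etale) (x : (D.obj i).obj.obj (op W)) :
    (t.ι.app k).hom.app (op W) ((D.map φ).hom.app (op W) x) = (t.ι.app i).hom.app (op W) x := by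
  have h := t.w φ
  exact congrArg (fun m : D.obj i ⟶ t.pt => m.hom.app (op W) x) h

omit [IsFiltered I] in
lemma ab_map_comp {i k l : I} (φ : i ⟶ k) (ψ : k ⟶ l) (W : X.Etale)
    (x : (D.obj i).obj.obj (op W)) :
    (D.map (φ ≫ ψ)).hom.app (op W) x = (D.map ψ).hom.app (op W) ((D.map φ).hom.app (op W) x) := by
  rw [D.map_comp]
  rfl

include ht in
lemma ab_exists_rep (x : t.pt.obj.obj (op W)) :
    ∃ (j : I) (y : (D.obj j).obj.obj (op W)), (t.ι.app j).hom.app (op W) y = x := by
  haveI := preservesColimitsOfShape_sections_ab W I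
  exact Concrete.isColimit_exists_rep
    (D ⋙ sheafToPresheaf X.smallEtaleTopology AddCommGrpCat.{u + 1} ⋙
      (evaluation X.Etaleᵒᵖ AddCommGrpCat.{u + 1}).obj (op W))
    (isColimitOfPreserves (sheafToPresheaf X.smallEtaleTopology AddCommGrpCat.{u + 1} ⋙
      (evaluation X.Etaleᵒᵖ AddCommGrpCat.{u + 1}).obj (op W)) ht) x

include ht in
lemma ab_exists_map_eq (j : I) (y y' : (D.obj j).obj.obj (op W))
    (h : (t.ι.app j).hom.app (op W) y = (t.ι.app j).hom.app (op W) y') :
    ∃ (k : I) (f : j ⟶ k), (D.map f).hom.app (op W) y = (D.map f).hom.app (op W) y' := by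
  haveI := preservesColimitsOfShape_sections_ab W I
  obtain ⟨k, f, g, hfg⟩ := (Concrete.isColimit_rep_eq_iff_exists
    (F := D ⋙ sheafToPresheaf X.smallEtaleTopology AddCommGrpCat.{u + 1} ⋙
      (evaluation X.Etaleᵒᵖ AddCommGrpCat.{u + 1}).obj (op W))
    (isColimitOfPreserves (sheafToPresheaf X.smallEtaleTopology AddCommGrpCat.{u + 1} ⋙
      (evaluation X.Etaleᵒᵖ AddCommGrpCat.{u + 1}).obj (op W)) ht) y y').1 h
  have hfg' : (D.map f).hom.app (op W) y = (D.map g).hom.app (op W) y' := hfg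
  refine ⟨IsFiltered.coeq f g, f ≫ IsFiltered.coeqHom f g, ?_⟩
  rw [ab_map_comp, hfg', ← ab_map_comp, ← IsFiltered.coeq_condition f g]

end elem

variable {U : X.Etale} [CompactSpace U.left] [QuasiSeparatedSpace U.left]
  [HasFiniteProducts (Over U)] {ι : Type (u + 1)} [Finite ι] (Uf : ι → Over U)
  (hUf : ∀ i, CompactSpace (Uf i).left.left ∧ QuasiSeparatedSpace (Uf i).left.left)

/-- the Čech complex functor on abelian sheaves. -/
noncomputable abbrev Φ :
    Sheaf X.smallEtaleTopology AddCommGrpCat.{u + 1} ⥤ CochainComplex AddCommGrpCat.{u + 1} ℕ :=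
  sheafToPresheaf X.smallEtaleTopology AddCommGrpCat.{u + 1} ⋙
    (Functor.whiskeringLeft (Over U)ᵒᵖ X.Etaleᵒᵖ AddCommGrpCat.{u + 1}).obj (Over.forget U).op ⋙
      cechComplexFunctor Uf

include hUf in
omit [IsFiltered I] in
lemma qcqs_prod (n : ℕ) (a : Fin (n + 1) → ι) :
    CompactSpace (∏ᶜ (Uf ∘ a)).left.left ∧ QuasiSeparatedSpace (∏ᶜ (Uf ∘ a)).left.left :=
  qcqsOver_product (Uf ∘ a) (fun k => hUf (a k))

include hUf in
theorem preservesColimitsOfShape_Φ_eval (n : ℕ) :
    PreservesColimitsOfShape I (Φ Uf ⋙ HomologicalComplex.eval _ _ n) := by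
  classical
  haveI := Fintype.ofFinite ι
  refine ⟨fun {D} => ⟨fun {t} ht => ⟨?_⟩⟩⟩
  haveI : ReflectsColimitsOfShape I (forget AddCommGrpCat.{u + 1}) :=
    reflectsColimitsOfShape_of_reflectsIsomorphisms
  apply isColimitOfReflects (forget AddCommGrpCat.{u + 1})
  apply Types.FilteredColimit.isColimitOf'
  · intro x
    let x' : (K Uf (resOver U t.pt.obj)).X n := x
    have hrep : ∀ a : Fin (n + 1) → ι, ∃ (j : I)
        (y : (D.obj j).obj.obj (op (∏ᶜ (Uf ∘ a)).left)),
        (t.ι.app j).hom.app (op (∏ᶜ (Uf ∘ a)).left) y = coch Uf (resOver U t.pt.obj) n x' a := by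
      intro a
      obtain ⟨h1, h2⟩ := qcqs_prod Uf hUf n a
      exact ab_exists_rep ht (∏ᶜ (Uf ∘ a)).left _
    choose j y hy using hrep
    obtain ⟨k, hk⟩ := IsFiltered.sup_objs_exists (Finset.univ.image j)
    have ψ : ∀ a, j a ⟶ k := fun a =>
      (hk (Finset.mem_image.2 ⟨a, Finset.mem_univ _, rfl⟩)).some
    let z : (K Uf (resOver U (D.obj k).obj)).X n :=
      (coch Uf (resOver U (D.obj k).obj) n).symm
        (fun a => (D.map (ψ a)).hom.app (op (∏ᶜ (Uf ∘ a)).left) (y a))
    refine ⟨k, z, ?_⟩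
    change x' = (cmap Uf (t.ι.app k).hom).f n z
    apply coch_ext
    intro a
    rw [coch_cmap, AddEquiv.apply_symm_apply, ab_ι_w, hy a]
  · intro i x y hxy
    let x' : (K Uf (resOver U (D.obj i).obj)).X n := x
    let y' : (K Uf (resOver U (D.obj i).obj)).X n := y
    have hxy' : (cmap Uf (t.ι.app i).hom).f n x' = (cmap Uf (t.ι.app i).hom).f n y' := hxy
    have heq : ∀ a : Fin (n + 1) → ι, ∃ (k : I) (f : i ⟶ k),
        (D.map f).hom.app (op (∏ᶜ (Uf ∘ a)).left) (coch Uf (resOver U (D.obj i).obj) n x' a) =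
        (D.map f).hom.app (op (∏ᶜ (Uf ∘ a)).left) (coch Uf (resOver U (D.obj i).obj) n y' a) := by
      intro a
      obtain ⟨h1, h2⟩ := qcqs_prod Uf hUf n a
      apply ab_exists_map_eq ht (∏ᶜ (Uf ∘ a)).left
      rw [← coch_cmap, ← coch_cmap, hxy']
    choose k f hf using heq
    obtain ⟨k₀, φ₀, hdom⟩ := exists_dominating
      (Finset.univ.image (fun a : Fin (n + 1) → ι => (⟨k a, f a⟩ : Σ k : I, (i ⟶ k))))
    refine ⟨k₀, φ₀, ?_⟩
    change (cmap Uf (D.map φ₀).hom).f n x' = (cmap Uf (D.map φ₀).hom).f n y'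
    apply coch_ext
    intro a
    obtain ⟨χ, hχ⟩ := hdom ⟨k a, f a⟩ (Finset.mem_image.2 ⟨a, Finset.mem_univ _, rfl⟩)
    have hχ' : f a ≫ χ = φ₀ := hχ
    rw [coch_cmap, coch_cmap, ← hχ', ab_map_comp, ab_map_comp, hf a]

include hUf in
theorem preservesColimitsOfShape_Φ : PreservesColimitsOfShape I (Φ Uf) :=
  HomologicalComplex.preservesColimitsOfShape_of_eval _
    (fun n => preservesColimitsOfShape_Φ_eval Uf hUf n)

theorem S14630_main (X : Scheme.{u}) [CompactSpace ↥X]
    [QuasiSeparatedSpace ↥X] (U : X.Etale) [QuasiCompact U.hom] [QuasiSeparated U.hom]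
    [HasFiniteProducts (Over U)] (ι : Type (u + 1)) [Finite ι] (Uf : ι → Over U)
    [∀ i, QuasiCompact (Uf i).left.hom] [∀ i, QuasiSeparated (Uf i).left.hom]
    (q : ℕ) (I : Type (u + 1)) [SmallCategory I] [IsFiltered I] :
    PreservesColimitsOfShape I
      (sheafToPresheaf X.smallEtaleTopology AddCommGrpCat.{u + 1} ⋙ EtCech.cechHFunctor Uf q) := by
  have hc : ∀ (W : X.Etale) [QuasiCompact W.hom] [QuasiSeparated W.hom],
      CompactSpace W.left ∧ QuasiSeparatedSpace W.left := by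
    intro W _ _
    constructor
    · have := @QuasiCompact.compactSpace_of_compactSpace W.left X W.hom _ _
      exact this
    · have := @quasiSeparatedSpace_of_quasiSeparated W.left X W.hom _ _
      exact this
  obtain ⟨h1, h2⟩ := hc U
  haveI := preservesColimitsOfShape_Φ (I := I) Uf (fun i => hc (Uf i).left)
  haveI := AbHomFilt.preservesColimitsOfShape_homologyFunctor I (c := ComplexShape.up ℕ) q
  change PreservesColimitsOfShape I (Φ Uf ⋙ HomologicalComplex.homologyFunctor _ _ q)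
  infer_instance

end Groth.Agent.H7.FiltSec
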