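import Groth.Agent.Lib.Helper7.QFib7
import Groth.Agent.S10653
import Mathlib

/-!
# S10654: a flat proper morphism finite over a dense open is finite
-/

set_option autoImplicit false
universe u

open AlgebraicGeometry CategoryTheory Limits

namespace Groth.Agent.H7.FinDense

open _root_.AlgSp Groth.Agent.H5.AlgSp Groth.Agent.H1.AlgSpDim Groth.Agent.H7.QFinSp
open Groth.Agent.H3.QFinFibre (QF FD0 hasAtMor_QF_iff)

variable {S : Scheme.{u}}

/-- a locally quasi-finite morphism has relative dimension at most zero at every point. -/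
theorem hasAtMor_FD0_of_lqf {X Y : Sp S} (hX : IsAlgSpace X) (hY : IsAlgSpace Y) (f : X ⟶ Y)
    (hl : LocP ((@LocallyQuasiFinite : MorphismProperty Scheme.{u}) ⊓ @LocallyOfFiniteType) f)
    (x : Points X) : HasAtMor FD0 f x := by
  have hlft : LocP @LocallyOfFiniteType f := locP_mono (fun _ _ g hg => hg.2) hl
  have h1 : HasAtMor QF f x := (locP_iff_forall_hasAtMor etale_le_lqf_lft hX hY).1 hl x
  exact (hasAtMor_QF_iff hlft x).1 h1

/-- a morphism locally of finite type of relative dimension at most zero at every point is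
locally quasi-finite. -/
theorem lqf_of_forall_hasAtMor_FD0 {X Y : Sp S} (hX : IsAlgSpace X) (hY : IsAlgSpace Y) (f : X ⟶ Y)
    (hlft : LocP @LocallyOfFiniteType f) (h : ∀ x : Points X, HasAtMor FD0 f x) :
    LocP ((@LocallyQuasiFinite : MorphismProperty Scheme.{u}) ⊓ @LocallyOfFiniteType) f :=
  (locP_iff_forall_hasAtMor etale_le_lqf_lft hX hY).2 fun x => (hasAtMor_QF_iff hlft x).2 (h x)

theorem S10654_main {X Y V : AlgSp.Space S} (f : X ⟶ Y) (j : V ⟶ Y)
    (hf1 : AlgSp.LocP @Flat f.hom) (hf2 : AlgSp.IsProperMor f.hom)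
    (hj1 : AlgSp.RepWith @IsOpenImmersion j.hom) (hj2 : Dense (Set.range (AlgSp.Points.map j.hom)))
    (P : AlgSp.Space S) (fst : P ⟶ X) (snd : P ⟶ V) (hP : IsPullback fst.hom snd.hom f.hom j.hom)
    (hV : AlgSp.IsFiniteMor snd.hom)
    (h : AlgSp.LocP @LocallyOfFinitePresentation f.hom ∨ AlgSp.IsQuasiCompactMor j.hom) :
    AlgSp.IsFiniteMor f.hom := by
  have hlft : LocP @LocallyOfFiniteType f.hom := hf2.2.1.1
  have hsl := (isProperMor_and_lqf_of_isFiniteMor hV).2
  have h0 := Groth.Agent.S10653.result f j 0 hf1 hlft hj1 hj2 P fst snd hP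
    (fun x => hasAtMor_FD0_of_lqf P.property V.property snd.hom hsl x) h
  exact isFiniteMor_of_isProperMor_of_lqf X.property Y.property f.hom hf2
    (lqf_of_forall_hasAtMor_FD0 X.property Y.property f.hom hlft h0)

end Groth.Agent.H7.FinDense
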