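import Mathlib

/-! S15547: points of a fibre of a finite morphism vs. maximal ideals of the stalk of `g_* O_Z`. -/
set_option autoImplicit false
open CategoryTheory AlgebraicGeometry TopologicalSpace Opposite
universe u

namespace Groth.Agent.H7.FinStalk

variable {Z X : Scheme.{u}} (g : Z ⟶ X)

/-- the canonical map `(g_* O_Z)_x → O_{Z,z}` for `g z = x`. -/
noncomputable def phi (x : X) (z : Z) (hz : g.base z = x) :
    (g.base _* Z.presheaf).stalk x ⟶ Z.presheaf.stalk z :=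
  ((g.base _* Z.presheaf).stalkCongr (Inseparable.of_eq hz)).inv ≫
    TopCat.Presheaf.stalkPushforward CommRingCat g.base Z.presheaf z

lemma phi_germ (x : X) (z : Z) (hz : g.base z = x) (W : X.Opens) (hx : x ∈ W)
    (s : (g.base _* Z.presheaf).obj (op W)) :
    phi g x z hz ((g.base _* Z.presheaf).germ W x hx s) =
      Z.presheaf.germ (g ⁻¹ᵁ W) z (by subst hz; exact hx) s := by
  subst hz
  have h1 : (g.base _* Z.presheaf).germ W (g.base z) hx ≫ phi g (g.base z) z rfl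
      = Z.presheaf.germ (g ⁻¹ᵁ W) z hx := by
    unfold phi
    rw [TopCat.Presheaf.stalkCongr]
    simp only []
    rw [← Category.assoc, TopCat.Presheaf.germ_stalkSpecializes]
    exact TopCat.Presheaf.stalkPushforward_germ CommRingCat g.base Z.presheaf W z hx
  exact congr($h1 s)

/-- the structure map `O_{X,x} → (g_* O_Z)_x`. -/
noncomputable def fstr (x : X) : X.presheaf.stalk x ⟶ (g.base _* Z.presheaf).stalk x :=
  (TopCat.Presheaf.stalkFunctor CommRingCat x).map g.c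

lemma fstr_germ (x : X) (W : X.Opens) (hx : x ∈ W) (t : Γ(X, W)) :
    fstr g x (X.presheaf.germ W x hx t) = (g.base _* Z.presheaf).germ W x hx (g.app W t) :=
  TopCat.Presheaf.stalkFunctor_map_germ_apply W x hx g.c t

lemma fstr_isIntegral [IsFinite g] (x : X) : (fstr g x).hom.IsIntegral := by
  intro c
  obtain ⟨W, hxW, s, rfl⟩ := TopCat.Presheaf.germ_exist (g.base _* Z.presheaf) (x := x) c
  obtain ⟨_, ⟨W', hW', rfl⟩, hxW', hW'W⟩ :=
    X.isBasis_affineOpens.exists_subset_of_mem_open hxW W.isOpen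
  replace hW'W : W' ≤ W := hW'W
  have hs' : (g.base _* Z.presheaf).germ W' x hxW' ((g.base _* Z.presheaf).map (homOfLE hW'W).op s)
      = (g.base _* Z.presheaf).germ W x hxW s :=
    TopCat.Presheaf.germ_res_apply _ (homOfLE hW'W) x hxW' s
  rw [← hs']
  have hint : (g.app W').hom.IsIntegral := (IsFinite.finite_app g W' hW').to_isIntegral
  obtain ⟨p, hp, hps⟩ := hint ((g.base _* Z.presheaf).map (homOfLE hW'W).op s)
  refine ⟨p.map (X.presheaf.germ W' x hxW').hom, hp.map _, ?_⟩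
  rw [Polynomial.eval₂_map]
  have h1 : (fstr g x).hom.comp (X.presheaf.germ W' x hxW').hom =
      ((g.base _* Z.presheaf).germ W' x hxW').hom.comp (g.app W').hom := by
    ext t; exact fstr_germ g x W' hxW' t
  rw [h1, ← Polynomial.hom_eval₂, hps, map_zero]

/-- `O_{X,x} → (g_*O_Z)_x → O_{Z,z}` is local. -/
lemma phi_fstr_mem_iff (x : X) (z : Z) (hz : g.base z = x) (a : X.presheaf.stalk x) :
    phi g x z hz (fstr g x a) ∈ IsLocalRing.maximalIdeal (Z.presheaf.stalk z) ↔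
      a ∈ IsLocalRing.maximalIdeal (X.presheaf.stalk x) := by
  obtain ⟨W, hxW, t, rfl⟩ := TopCat.Presheaf.germ_exist X.presheaf (x := x) a
  rw [fstr_germ, phi_germ, IsLocalRing.mem_maximalIdeal, IsLocalRing.mem_maximalIdeal,
    mem_nonunits_iff, mem_nonunits_iff, not_iff_not]
  have hzW : z ∈ g ⁻¹ᵁ W := by subst hz; exact hxW
  rw [← Scheme.mem_basicOpen _ _ _ hzW, ← Scheme.mem_basicOpen _ _ _ hxW,
    ← Scheme.preimage_basicOpen]
  subst hz
  rfl

/-- the ideal `I_z`. -/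
noncomputable def Iz (x : X) (z : Z) (hz : g.base z = x) : Ideal ((g.base _* Z.presheaf).stalk x) :=
  Ideal.comap (phi g x z hz).hom (IsLocalRing.maximalIdeal (Z.presheaf.stalk z))

lemma Iz_isMaximal [IsFinite g] (x : X) (z : Z) (hz : g.base z = x) : (Iz g x z hz).IsMaximal := by
  haveI : (Iz g x z hz).IsPrime := Ideal.comap_isPrime _ _
  apply Ideal.isMaximal_of_isIntegral_of_isMaximal_comap' (fstr g x).hom (fstr_isIntegral g x)
  have : Ideal.comap (fstr g x).hom (Iz g x z hz) = IsLocalRing.maximalIdeal _ := by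
    ext a
    exact phi_fstr_mem_iff g x z hz a
  rw [this]
  infer_instance

/-- membership of a germ in `I_z`. -/
lemma germ_mem_Iz_iff (x : X) (z : Z) (hz : g.base z = x) (W : X.Opens) (hx : x ∈ W)
    (s : (g.base _* Z.presheaf).obj (op W)) :
    (g.base _* Z.presheaf).germ W x hx s ∈ Iz g x z hz ↔ z ∉ Z.basicOpen (U := g ⁻¹ᵁ W) s := by
  have hzW : z ∈ g ⁻¹ᵁ W := by subst hz; exact hx
  rw [Scheme.mem_basicOpen _ _ _ hzW]
  change phi g x z hz _ ∈ IsLocalRing.maximalIdeal (Z.presheaf.stalk z) ↔ _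
  rw [phi_germ, IsLocalRing.mem_maximalIdeal, mem_nonunits_iff]

lemma mem_primeIdealOf_iff {Y : Scheme.{u}} {V : Y.Opens} (hV : IsAffineOpen V) (y : Y) (hy : y ∈ V)
    (b : Γ(Y, V)) : b ∈ (hV.primeIdealOf ⟨y, hy⟩).asIdeal ↔ y ∉ Y.basicOpen b := by
  rw [hV.primeIdealOf_eq_map_closedPoint, Scheme.mem_basicOpen _ _ _ hy]
  change Y.presheaf.germ V y hy b ∈ IsLocalRing.maximalIdeal (Y.presheaf.stalk y) ↔ _
  rw [IsLocalRing.mem_maximalIdeal, mem_nonunits_iff]

lemma eq_of_forall_basicOpen {Y : Scheme.{u}} {V : Y.Opens} (hV : IsAffineOpen V) (y y' : Y)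
    (hy : y ∈ V) (hy' : y' ∈ V) (h : ∀ b : Γ(Y, V), y ∈ Y.basicOpen b ↔ y' ∈ Y.basicOpen b) :
    y = y' := by
  have h1 : hV.primeIdealOf ⟨y, hy⟩ = hV.primeIdealOf ⟨y', hy'⟩ := by
    apply PrimeSpectrum.ext
    ext b
    rw [mem_primeIdealOf_iff, mem_primeIdealOf_iff, h]
  have h2 := congr_arg hV.fromSpec h1
  rwa [hV.fromSpec_primeIdealOf, hV.fromSpec_primeIdealOf] at h2

lemma Iz_injective (x : X) (z z' : Z) (hz : g.base z = x) (hz' : g.base z' = x)
    [IsAffineHom g] (h : Iz g x z hz = Iz g x z' hz') : z = z' := by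
  obtain ⟨_, ⟨U, hU, rfl⟩, hxU, -⟩ :=
    X.isBasis_affineOpens.exists_subset_of_mem_open (Set.mem_univ x) isOpen_univ
  replace hU : IsAffineOpen U := hU
  have hV : IsAffineOpen (g ⁻¹ᵁ U) := hU.preimage g
  have hzV : z ∈ g ⁻¹ᵁ U := by subst hz; exact hxU
  have hz'V : z' ∈ g ⁻¹ᵁ U := by
    change g.base z' ∈ U
    rw [hz']; exact hxU
  refine eq_of_forall_basicOpen hV z z' hzV hz'V (fun b => ?_)
  have h1 := germ_mem_Iz_iff g x z hz U hxU b
  have h2 := germ_mem_Iz_iff g x z' hz' U hxU b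
  rw [h] at h1
  exact not_iff_not.mp (h1.symm.trans h2)

lemma exists_Iz_eq [IsFinite g] (x : X) (I : Ideal ((g.base _* Z.presheaf).stalk x))
    (hI : I.IsMaximal) : ∃ (z : Z) (hz : g.base z = x), Iz g x z hz = I := by
  obtain ⟨_, ⟨U, hU, rfl⟩, hxU, -⟩ :=
    X.isBasis_affineOpens.exists_subset_of_mem_open (Set.mem_univ x) isOpen_univ
  replace hU : IsAffineOpen U := hU
  have hV : IsAffineOpen (g ⁻¹ᵁ U) := hU.preimage g
  let γ : Γ(Z, g ⁻¹ᵁ U) →+* (g.base _* Z.presheaf).stalk x :=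
    ((g.base _* Z.presheaf).germ U x hxU).hom
  let q₀ : PrimeSpectrum Γ(Z, g ⁻¹ᵁ U) := ⟨I.comap γ, Ideal.comap_isPrime _ _⟩
  let z : Z := hV.fromSpec q₀
  have hzV : z ∈ g ⁻¹ᵁ U := by
    have : z ∈ Set.range hV.fromSpec := ⟨q₀, rfl⟩
    rw [hV.range_fromSpec] at this
    exact this
  have hq : hV.primeIdealOf ⟨z, hzV⟩ = q₀ := by
    apply hV.fromSpec.isOpenEmbedding.injective
    rw [hV.fromSpec_primeIdealOf]
  have hmem : ∀ b : Γ(Z, g ⁻¹ᵁ U), γ b ∈ I ↔ z ∉ Z.basicOpen b := by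
    intro b
    rw [← mem_primeIdealOf_iff hV z hzV b, hq]
    rfl
  have hcomap : I.comap (fstr g x).hom = IsLocalRing.maximalIdeal (X.presheaf.stalk x) := by
    haveI := Ideal.isMaximal_comap_of_isIntegral_of_isMaximal' (fstr g x).hom
      (fstr_isIntegral g x) I
    exact IsLocalRing.eq_maximalIdeal this
  have hbasic : ∀ a : Γ(X, U), z ∈ Z.basicOpen (g.app U a) ↔ x ∈ X.basicOpen a := by
    intro a
    rw [← not_iff_not, ← hmem, Scheme.mem_basicOpen _ _ _ hxU]
    have h1 : γ (g.app U a) = fstr g x (X.presheaf.germ U x hxU a) := (fstr_germ g x U hxU a).symm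
    rw [h1, ← Ideal.mem_comap, hcomap, IsLocalRing.mem_maximalIdeal, mem_nonunits_iff]
  have hgz : g.base z = x := by
    refine eq_of_forall_basicOpen hU (g.base z) x hzV hxU (fun a => ?_)
    rw [← hbasic a, ← Scheme.preimage_basicOpen]
    rfl
  refine ⟨z, hgz, ?_⟩
  have hIz := Iz_isMaximal g x z hgz
  symm
  apply hI.eq_of_le hIz.ne_top
  intro c hc
  obtain ⟨W, hxW, s, rfl⟩ := TopCat.Presheaf.germ_exist (g.base _* Z.presheaf) (x := x) c
  obtain ⟨a, haW, hxa⟩ := hU.exists_basicOpen_le ⟨x, hxW⟩ hxU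
  have haU : X.basicOpen a ≤ U := X.basicOpen_le a
  have e : g ⁻¹ᵁ X.basicOpen a = Z.basicOpen (g.app U a) := Scheme.preimage_basicOpen g a
  let i : (g ⁻¹ᵁ X.basicOpen a) ⟶ (g ⁻¹ᵁ U) := homOfLE (fun y hy => haU hy)
  letI := (Z.presheaf.map i.op).hom.toAlgebra
  haveI hloc : IsLocalization.Away (g.app U a) Γ(Z, g ⁻¹ᵁ X.basicOpen a) :=
    hV.isLocalization_of_eq_basicOpen (g.app U a) i e
  let sD : Γ(Z, g ⁻¹ᵁ X.basicOpen a) := (g.base _* Z.presheaf).map (homOfLE haW).op s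
  have hsD : (g.base _* Z.presheaf).germ (X.basicOpen a) x hxa sD
      = (g.base _* Z.presheaf).germ W x hxW s :=
    TopCat.Presheaf.germ_res_apply _ (homOfLE haW) x hxa s
  obtain ⟨⟨b, ⟨_, n, rfl⟩⟩, hb⟩ := IsLocalization.surj (Submonoid.powers (g.app U a)) sD
  -- push the equation to the stalk
  have hres : ∀ t : Γ(Z, g ⁻¹ᵁ U),
      (g.base _* Z.presheaf).germ (X.basicOpen a) x hxa (algebraMap _ Γ(Z, g ⁻¹ᵁ X.basicOpen a) t)
        = γ t := fun t =>
    TopCat.Presheaf.germ_res_apply (g.base _* Z.presheaf) (homOfLE haU) x hxa t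
  have heq : (g.base _* Z.presheaf).germ W x hxW s * γ (g.app U a) ^ n = γ b := by
    have := congr_arg ((g.base _* Z.presheaf).germ (X.basicOpen a) x hxa) hb
    rw [map_mul, hres, hres, hsD, map_pow] at this
    exact this
  have hbI : γ b ∈ I := by rw [← heq]; exact I.mul_mem_right _ hc
  have hbz : γ b ∈ Iz g x z hgz := by
    rw [germ_mem_Iz_iff g x z hgz U hxU b, ← hmem]; exact hbI
  have hna : γ (g.app U a) ∉ Iz g x z hgz := by
    rw [germ_mem_Iz_iff g x z hgz U hxU, not_not, hbasic]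
    exact hxa
  rw [← heq] at hbz
  rcases hIz.isPrime.mem_or_mem hbz with h | h
  · exact h
  · exact absurd (hIz.isPrime.mem_of_pow_mem n h) hna

theorem S15547_main [IsFinite g] (x : X) :
    Set.BijOn (fun z : {z : Z // g.base z = x} =>
        Ideal.comap (((g.base _* Z.presheaf).stalkCongr (Inseparable.of_eq z.2)).inv ≫
            TopCat.Presheaf.stalkPushforward CommRingCat g.base Z.presheaf z.1).hom
          (IsLocalRing.maximalIdeal (Z.presheaf.stalk z.1)))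
      Set.univ {I : Ideal ((g.base _* Z.presheaf).stalk x) | I.IsMaximal} := by
  refine ⟨fun z _ => Iz_isMaximal g x z.1 z.2,
    fun z _ z' _ h => Subtype.ext (Iz_injective g x z.1 z'.1 z.2 z'.2 h), fun I hI => ?_⟩
  obtain ⟨z, hz, h⟩ := exists_Iz_eq g x I hI
  exact ⟨⟨z, hz⟩, trivial, h⟩

end Groth.Agent.H7.FinStalk
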