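import Mathlib
open CategoryTheory CategoryTheory.Limits Opposite
universe u
namespace Groth.Agent.H7.FinerCoprod

theorem main
    {C : Type u} [SmallCategory C] {J J' : GrothendieckTopology C} (hJ : J ≤ J')
    {X : C} {ι : Type u} (Y : ι → C) (s : ∀ i, Y i ⟶ X)
    (h : Nonempty (IsColimit (Cofan.mk ((presheafToSheaf J (Type u)).obj (yoneda.obj X))
      (fun i => (presheafToSheaf J (Type u)).map (yoneda.map (s i)))))) :
    Nonempty (IsColimit (Cofan.mk ((presheafToSheaf J' (Type u)).obj (yoneda.obj X))
      (fun i => (presheafToSheaf J' (Type u)).map (yoneda.map (s i))))) := by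
  obtain ⟨h⟩ := h
  let a := sheafificationAdjunction J (Type u)
  let a' := sheafificationAdjunction J' (Type u)
  -- inclusion of J'-sheaves into J-sheaves on objects
  let incl : Sheaf J' (Type u) → Sheaf J (Type u) := fun G =>
    ⟨G.obj, (isSheaf_iff_isSheaf_of_type J G.obj).mpr
      (Presieve.isSheaf_of_le G.obj hJ ((isSheaf_iff_isSheaf_of_type J' G.obj).mp G.property))⟩
  let desc : ∀ t : Cofan (fun i => (presheafToSheaf J' (Type u)).obj (yoneda.obj (Y i))),
      (presheafToSheaf J' (Type u)).obj (yoneda.obj X) ⟶ t.pt := fun t =>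
    (a'.homEquiv _ t.pt).symm (a.homEquiv _ (incl t.pt)
      (Cofan.IsColimit.desc h (fun i => (a.homEquiv _ (incl t.pt)).symm
        (a'.homEquiv _ t.pt (t.inj i)))))
  refine ⟨Cofan.IsColimit.mk _ desc ?_ ?_⟩
  · intro t i
    apply (a'.homEquiv _ _).injective
    have e1 : a'.homEquiv _ _ ((presheafToSheaf J' (Type u)).map (yoneda.map (s i)) ≫ desc t) =
        yoneda.map (s i) ≫ a'.homEquiv _ _ (desc t) := Adjunction.homEquiv_naturality_left _ _ _
    have e2 : a'.homEquiv _ _ (desc t) = a.homEquiv _ (incl t.pt)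
      (Cofan.IsColimit.desc h (fun i => (a.homEquiv _ (incl t.pt)).symm
        (a'.homEquiv _ t.pt (t.inj i)))) := Equiv.apply_symm_apply _ _
    have e3 : yoneda.map (s i) ≫ a.homEquiv _ (incl t.pt)
      (Cofan.IsColimit.desc h (fun i => (a.homEquiv _ (incl t.pt)).symm
        (a'.homEquiv _ t.pt (t.inj i)))) = a.homEquiv _ (incl t.pt)
        ((presheafToSheaf J (Type u)).map (yoneda.map (s i)) ≫
          Cofan.IsColimit.desc h (fun i => (a.homEquiv _ (incl t.pt)).symm
            (a'.homEquiv _ t.pt (t.inj i)))) := (Adjunction.homEquiv_naturality_left _ _ _).symm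
    have e4 : (presheafToSheaf J (Type u)).map (yoneda.map (s i)) ≫
          Cofan.IsColimit.desc h (fun i => (a.homEquiv _ (incl t.pt)).symm
            (a'.homEquiv _ t.pt (t.inj i))) = (a.homEquiv _ (incl t.pt)).symm
            (a'.homEquiv _ t.pt (t.inj i)) :=
      Cofan.IsColimit.fac h (fun i => (a.homEquiv _ (incl t.pt)).symm
        (a'.homEquiv _ t.pt (t.inj i))) i
    refine e1.trans ?_
    rw [e2]
    refine e3.trans ?_
    rw [e4]
    exact Equiv.apply_symm_apply _ _
  · intro t m hm
    apply (a'.homEquiv _ _).injective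
    refine Eq.trans ?_ (Equiv.apply_symm_apply _ _).symm
    -- goal: a'.homEquiv m = a.homEquiv (desc⁰)
    have key : (a.homEquiv _ (incl t.pt)).symm (a'.homEquiv _ t.pt m) =
        Cofan.IsColimit.desc h (fun i => (a.homEquiv _ (incl t.pt)).symm
          (a'.homEquiv _ t.pt (t.inj i))) := by
      refine Cofan.IsColimit.hom_ext h _ _ (fun i => ?_)
      rw [Cofan.IsColimit.fac]
      have e1 : (presheafToSheaf J (Type u)).map (yoneda.map (s i)) ≫
          (a.homEquiv _ (incl t.pt)).symm (a'.homEquiv _ t.pt m) =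
          (a.homEquiv _ (incl t.pt)).symm (yoneda.map (s i) ≫ a'.homEquiv _ t.pt m) :=
        (Adjunction.homEquiv_naturality_left_symm _ _ _).symm
      refine e1.trans ?_
      have e2 : yoneda.map (s i) ≫ a'.homEquiv _ t.pt m =
          a'.homEquiv _ t.pt ((presheafToSheaf J' (Type u)).map (yoneda.map (s i)) ≫ m) :=
        (Adjunction.homEquiv_naturality_left _ _ _).symm
      rw [e2]
      have := hm i
      rw [show (presheafToSheaf J' (Type u)).map (yoneda.map (s i)) ≫ m = t.inj i from hm i]
    rw [← key]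
    exact (Equiv.apply_symm_apply _ _).symm

end Groth.Agent.H7.FinerCoprod
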