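import Mathlib
import Groth.Agent.Lib.Helper7.SgnPerm

/-! Dimension of the `+1`-eigenspace of an involution which becomes a signed permutation after an
extension of scalars. -/

set_option autoImplicit false

namespace Groth.Agent.H7.FixDim

open Module Submodule

theorem finrank_plus_eq
    {k : Type*} [Field k] {V : Type*} [AddCommGroup V] [Module k V] [FiniteDimensional k V]
    (Vp Vm : Submodule k V) (hsup : Vp ⊔ Vm = ⊤) (hinf : Vp ⊓ Vm = ⊥)
    {K : Type*} [CommRing K] [Nontrivial K] (h2 : IsUnit (2 : K)) (ψ : k →+* K)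
    {W : Type*} [AddCommGroup W] [Module K W] (TW : W →ₗ[K] W)
    {κ : Type*} [Fintype κ] [DecidableEq κ] (c : W ≃ₗ[K] (κ → K)) (P : κ → κ) (ε : κ → K)
    (hc : ∀ y, c (TW y) = SgnPerm.op P ε (c y))
    (hP : ∀ p, P (P p) = p) (hε : ∀ p, ε (P p) = ε p) (hε2 : ∀ p, ε p * ε p = 1)
    (Θ : V →+ W) (hΘ : ∀ (a : k) (v : V), Θ (a • v) = ψ a • Θ v)
    (hΘp : ∀ v ∈ Vp, TW (Θ v) = Θ v) (hΘm : ∀ v ∈ Vm, TW (Θ v) = -Θ v)
    (hspan : span K (Set.range Θ) = ⊤) (hdim : finrank k V = Fintype.card κ)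
    (D : Set κ) (hD1 : ∀ p ∈ D, P p = p → ε p = 1) (hD2 : ∀ p ∈ D, P p ≠ p → P p ∉ D)
    (hD' : ∀ p, p ∉ D → P p ∈ D ∨ (P p = p ∧ ε p = -1)) :
    finrank k Vp = Nat.card D := by
  classical
  have hdd : finrank k Vp + finrank k Vm = Fintype.card κ := by
    have h := Submodule.finrank_sup_add_finrank_inf_eq Vp Vm
    rw [hsup, hinf, finrank_bot, add_zero, finrank_top] at h
    rw [← hdim, h]
  let bp := Module.finBasis k Vp
  let bm := Module.finBasis k Vm
  let u : Fin (finrank k Vp) ⊕ Fin (finrank k Vm) → W :=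
    Sum.elim (fun i => Θ (bp i : V)) (fun j => Θ (bm j : V))
  let ε₀ : Fin (finrank k Vp) ⊕ Fin (finrank k Vm) → K := Sum.elim (fun _ => 1) (fun _ => -1)
  have hTu : ∀ i, TW (u i) = ε₀ i • u i := by
    rintro (i | j)
    · show TW (Θ (bp i : V)) = (1 : K) • Θ (bp i : V)
      rw [one_smul, hΘp _ (bp i).2]
    · show TW (Θ (bm j : V)) = (-1 : K) • Θ (bm j : V)
      rw [neg_one_smul, hΘm _ (bm j).2]
  have hmemp : ∀ v ∈ Vp, Θ v ∈ span K (Set.range u) := by
    intro v hv
    have h1 := bp.sum_repr ⟨v, hv⟩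
    have h2 : v = ∑ i, bp.repr ⟨v, hv⟩ i • (bp i : V) := by
      conv_lhs => rw [show v = ((⟨v, hv⟩ : Vp) : V) from rfl, ← h1]
      simp only [Submodule.coe_sum, Submodule.coe_smul]
    rw [h2, map_sum]
    refine Submodule.sum_mem _ fun i _ => ?_
    rw [hΘ]
    exact Submodule.smul_mem _ _ (Submodule.subset_span ⟨Sum.inl i, rfl⟩)
  have hmemm : ∀ v ∈ Vm, Θ v ∈ span K (Set.range u) := by
    intro v hv
    have h1 := bm.sum_repr ⟨v, hv⟩
    have h2 : v = ∑ i, bm.repr ⟨v, hv⟩ i • (bm i : V) := by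
      conv_lhs => rw [show v = ((⟨v, hv⟩ : Vm) : V) from rfl, ← h1]
      simp only [Submodule.coe_sum, Submodule.coe_smul]
    rw [h2, map_sum]
    refine Submodule.sum_mem _ fun i _ => ?_
    rw [hΘ]
    exact Submodule.smul_mem _ _ (Submodule.subset_span ⟨Sum.inr i, rfl⟩)
  have hspanu : ⊤ ≤ span K (Set.range u) := by
    rw [← hspan, span_le]
    rintro _ ⟨v, rfl⟩
    have hv : v ∈ Vp ⊔ Vm := by rw [hsup]; trivial
    obtain ⟨vp, hvp, vm, hvm, rfl⟩ := Submodule.mem_sup.mp hv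
    rw [map_add]
    exact Submodule.add_mem _ (hmemp vp hvp) (hmemm vm hvm)
  have hcard : Fintype.card (Fin (finrank k Vp) ⊕ Fin (finrank k Vm)) = finrank K W := by
    rw [c.finrank_eq, Module.finrank_fintype_fun_eq_card, Fintype.card_sum, Fintype.card_fin,
      Fintype.card_fin, hdd]
  have hli := linearIndependent_of_top_le_span_of_card_eq_finrank hspanu hcard
  let B := Basis.mk hli hspanu
  have hBu : ∀ i, B i = u i := fun i => Basis.mk_apply hli hspanu i
  let G : (Fin (finrank k Vp) ⊕ Fin (finrank k Vm) → K) ≃ₗ[K] (κ → K) := B.equivFun.symm.trans c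
  have hop : ∀ y, B.equivFun (TW y) = SgnPerm.op id ε₀ (B.equivFun y) := by
    intro y
    have h1 : (B.equivFun.toLinearMap ∘ₗ TW) = (SgnPerm.op id ε₀ ∘ₗ B.equivFun.toLinearMap) := by
      apply B.ext
      intro i
      simp only [LinearMap.comp_apply, LinearEquiv.coe_coe]
      rw [hBu, hTu, map_smul, ← hBu]
      funext j
      rw [Pi.smul_apply, SgnPerm.op_apply, id, Basis.equivFun_self, smul_eq_mul]
      by_cases hij : i = j
      · subst hij
        rfl
      · rw [if_neg hij, mul_zero, mul_zero]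
    exact LinearMap.congr_fun h1 y
  have hG : ∀ x, G (SgnPerm.op id ε₀ x) = SgnPerm.op P ε (G x) := by
    intro x
    obtain ⟨y, rfl⟩ := B.equivFun.surjective x
    rw [← hop]
    show c (B.equivFun.symm (B.equivFun (TW y))) = SgnPerm.op P ε (c (B.equivFun.symm (B.equivFun y)))
    rw [LinearEquiv.symm_apply_apply, LinearEquiv.symm_apply_apply, hc]
  have hG' : ∀ x, G.symm (SgnPerm.op P ε x) = SgnPerm.op id ε₀ (G.symm x) := by
    intro x
    apply G.injective
    rw [hG, LinearEquiv.apply_symm_apply, LinearEquiv.apply_symm_apply]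
  have hε₀2 : ∀ p, ε₀ p * ε₀ p = 1 := by
    rintro (i | j) <;> simp [ε₀]
  have h1 := SgnPerm.card_le (K := K) id ε₀ P ε h2 (fun _ => rfl) (fun _ => rfl) hε₀2
    (Set.range Sum.inl) (by rintro _ ⟨i, rfl⟩ _; rfl) (fun p _ h => absurd rfl h) D hD'
    G.toLinearMap G.injective hG
  have h3 := SgnPerm.card_le (K := K) P ε id ε₀ h2 hP hε hε2 D hD1 hD2 (Set.range Sum.inl)
    (by
      rintro (i | j) hp
      · exact absurd ⟨i, rfl⟩ hp
      · exact Or.inr ⟨rfl, rfl⟩)
    G.symm.toLinearMap G.symm.injective hG'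
  have h4 : Nat.card (Set.range (Sum.inl : Fin (finrank k Vp) →
      Fin (finrank k Vp) ⊕ Fin (finrank k Vm))) = finrank k Vp := by
    rw [Nat.card_range_of_injective Sum.inl_injective, Nat.card_eq_fintype_card, Fintype.card_fin]
  rw [h4] at h1 h3
  exact le_antisymm h1 h3

end Groth.Agent.H7.FixDim
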