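import Mathlib
import Groth.Prelude.Def_AlgSp
import Groth.Agent.Lib.Helper5.AlgSp.InterClosed

set_option autoImplicit false

universe u

open CategoryTheory CategoryTheory.Limits AlgebraicGeometry Opposite

namespace Groth.Agent.H7.FixSp

open _root_.AlgSp Groth.Agent.H5.AlgSp

variable {S : Scheme.{u}}

/-- The equalizer of an endomorphism `r` and the identity, as a pullback of the diagonal. -/
noncomputable abbrev eqObj {F : Sp S} (r : F ⟶ F) : Sp S :=
  pullback (prod.lift r (𝟙 F)) (Limits.diag F)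

noncomputable abbrev eqι {F : Sp S} (r : F ⟶ F) : eqObj r ⟶ F :=
  pullback.fst (prod.lift r (𝟙 F)) (Limits.diag F)

lemma eqι_comp {F : Sp S} (r : F ⟶ F) : eqι r ≫ r = eqι r := by
  have h := pullback.condition (f := prod.lift r (𝟙 F)) (g := Limits.diag F)
  have h1 := congrArg (· ≫ prod.fst) h
  have h2 := congrArg (· ≫ prod.snd) h
  simp only [Category.assoc, prod.lift_fst, prod.lift_snd, Category.comp_id] at h1 h2
  rw [h1, ← h2]

lemma exists_lift_eqι {F W : Sp S} (r : F ⟶ F) (x : W ⟶ F) (hx : x ≫ r = x) :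
    ∃ y : W ⟶ eqObj r, y ≫ eqι r = x := by
  refine ⟨pullback.lift x x ?_, pullback.lift_fst _ _ _⟩
  rw [prod.comp_lift, hx, Category.comp_id, prod.comp_diag]

lemma repWith_eqι {F : Sp S} (hsep : IsSeparatedSp F) (r : F ⟶ F) :
    RepWith @IsClosedImmersion (eqι r) :=
  MorphismProperty.of_isPullback (P := RepWith @IsClosedImmersion)
    (IsPullback.of_hasPullback (prod.lift r (𝟙 F)) (Limits.diag F)).flip hsep

theorem S13210_main (F : Sp S) (hF : IsAlgSpace F) (hsep : IsSeparatedSp F)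
    (G : Type u) [Group G] (ρ : G →* Aut F)
    (Z : Sp S) (i : Z ⟶ F) (hi : ∀ g : G, i ≫ (ρ g).hom = i)
    (huniv : ∀ (W : Sp S) (x : W ⟶ F), (∀ g : G, x ≫ (ρ g).hom = x) → ∃! z : W ⟶ Z, z ≫ i = x) :
    IsAlgSpace Z ∧ RepWith @IsClosedImmersion i := by
  let j : ∀ g : G, eqObj (ρ g).hom ⟶ F := fun g => eqι (ρ g).hom
  have hj : ∀ g, RepWith @IsClosedImmersion (j g) := fun g => repWith_eqι hsep _
  haveI : ∀ g, Mono (j g) := fun g => mono_of_repWith_isClosedImmersion (hj g)
  have hK : RepWith @IsClosedImmersion (interι j) := repWith_isClosedImmersion_interι j hj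
  haveI : Mono i := by
    refine ⟨fun {W} z₁ z₂ h => ?_⟩
    have hinv : ∀ g : G, (z₁ ≫ i) ≫ (ρ g).hom = z₁ ≫ i := fun g => by
      rw [Category.assoc, hi]
    obtain ⟨z, _, hz⟩ := huniv W (z₁ ≫ i) hinv
    rw [hz z₁ rfl, hz z₂ h.symm]
  obtain ⟨a, ha⟩ := exists_lift_inter j i (fun g => exists_lift_eqι _ i (hi g))
  have hKinv : ∀ g : G, interι j ≫ (ρ g).hom = interι j := by
    intro g
    obtain ⟨k, hk⟩ := exists_inter_proj j g
    rw [← hk, Category.assoc]
    change k ≫ eqι (ρ g).hom ≫ (ρ g).hom = k ≫ eqι (ρ g).hom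
    rw [eqι_comp]
  obtain ⟨b, hb, _⟩ := huniv _ (interι j) hKinv
  have hab : a ≫ b = 𝟙 Z := by
    rw [← cancel_mono i, Category.assoc, hb, ha, Category.id_comp]
  have hba : b ≫ a = 𝟙 _ := by
    rw [← cancel_mono (interι j), Category.assoc, ha, hb, Category.id_comp]
  haveI : IsIso a := ⟨b, hab, hba⟩
  have hrep : RepWith @IsClosedImmersion i := by
    have : (RepWith (S := S) @IsClosedImmersion).RespectsIso :=
      MorphismProperty.IsStableUnderBaseChange.respectsIso
    rw [← ha]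
    exact (MorphismProperty.cancel_left_of_respectsIso (RepWith @IsClosedImmersion) a
      (interι j)).2 hK
  exact ⟨isAlgSpace_of_representable hF i hrep.rep, hrep⟩

end Groth.Agent.H7.FixSp
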