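import Mathlib
import Groth.Agent.Lib.Helper1.FlatRegQuot
import Groth.Agent.Lib.Helper1.FlatLocus

/-! helper7: flatness ascends along a regular element (Noetherian case, at primes containing the
element), without local hypotheses on the base. -/

set_option autoImplicit false

universe u v w

open TensorProduct Function

namespace Groth.Agent.H7.FlatAsc

open Groth.Agent.H1.FlatRegQuot

section kernel

variable {A : Type*} {B : Type*} {M : Type*} {Q : Type*} [CommRing A] [CommRing B] [Algebra A B]
  [AddCommGroup M] [Module A M] [Module B M] [IsScalarTower A B M]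
  [AddCommGroup Q] [Module A Q] [Module B Q] [IsScalarTower A B Q]

/-- The kernel of multiplication `M ⊗ I → M` is `f`-divisible when `f` is `M`-regular and `M/fM`
is flat over `A`. -/
theorem ker_mulB_le_smul (f : B) (hreg : IsSMulRegular M f) (π : M →ₗ[B] Q) (hπ : Surjective π)
    (hker : ∀ x, π x = 0 ↔ ∃ y, x = f • y) [Module.Flat A Q] (I : Ideal A) :
    LinearMap.ker (mulB (B := B) (M := M) I) ≤
      Ideal.span {f} • LinearMap.ker (mulB (B := B) (M := M) I) := by
  let πA : M →ₗ[A] Q := π.restrictScalars A
  let φ : M →ₗ[A] M := (LinearMap.lsmul B M f).restrictScalars A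
  have hex : Exact φ πA := by
    intro x
    constructor
    · intro hx
      obtain ⟨y, rfl⟩ := (hker x).mp hx
      exact ⟨y, rfl⟩
    · rintro ⟨y, rfl⟩
      exact (hker _).mpr ⟨y, rfl⟩
  have hexT : Exact (φ.rTensor I) (πA.rTensor I) := rTensor_exact I hex hπ
  have hφ : ∀ z : M ⊗[A] I, φ.rTensor I z = f • z := by
    intro z
    induction z using TensorProduct.induction_on with
    | zero => simp
    | tmul x j =>
      rw [LinearMap.rTensor_tmul, TensorProduct.smul_tmul']
      rfl
    | add x y hx hy => rw [map_add, hx, hy, smul_add]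
  have hnat : ∀ z : M ⊗[A] I, mulB (B := B) (M := Q) I (πA.rTensor I z) =
      π (mulB (B := B) (M := M) I z) := by
    intro z
    induction z using TensorProduct.induction_on with
    | zero => simp
    | tmul x j =>
      rw [LinearMap.rTensor_tmul, mulB_tmul, mulB_tmul]
      change (j : A) • π x = π ((j : A) • x)
      rw [← algebraMap_smul B (j : A) x, map_smul, algebraMap_smul]
    | add x y hx hy => simp only [map_add, hx, hy]
  have hQinj : Injective (mulB (B := B) (M := Q) I) := by
    rw [mulB_injective_iff]
    exact Module.Flat.lTensor_preserves_injective_linearMap _ Subtype.val_injective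
  intro z hz
  have hz0 : mulB (B := B) (M := M) I z = 0 := hz
  have h1 : πA.rTensor I z = 0 := by
    apply hQinj
    rw [hnat, hz0, map_zero, map_zero]
  obtain ⟨z', rfl⟩ := (hexT z).mp h1
  rw [hφ] at hz0 ⊢
  rw [map_smul] at hz0
  have hz' : z' ∈ LinearMap.ker (mulB (B := B) (M := M) I) := by
    change mulB (B := B) (M := M) I z' = 0
    exact hreg (by simp only [hz0, smul_zero])
  exact Submodule.smul_mem_smul (Ideal.mem_span_singleton_self f) hz'

/-- **Flatness ascends along a regular element** (Noetherian ring `B`, arbitrary base `A`): if `f`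
is `M`-regular and `M/fM` is flat over `A`, then `M_q` is flat over `A` for every prime `q ∋ f`. -/
theorem flat_localizedModule_of_regular_of_flat_quotient [IsNoetherianRing B] [Module.Finite B M]
    (f : B) (hreg : IsSMulRegular M f) (π : M →ₗ[B] Q) (hπ : Surjective π)
    (hker : ∀ x, π x = 0 ↔ ∃ y, x = f • y) [Module.Flat A Q] (q : Ideal B) [q.IsPrime]
    (hf : f ∈ q) : Module.Flat A (LocalizedModule q.primeCompl M) := by
  rw [Module.Flat.iff_lTensor_injective]
  intro I hI
  refine Groth.Agent.H1.FlatLocus.lTensor_injective_of_forall_exists_smul (R := A) (B := B)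
    q.primeCompl (LocalizedModule.mkLinearMap q.primeCompl M) I fun x hx => ?_
  haveI : Module.Finite A I := Module.Finite.iff_fg.mpr hI
  haveI : Module.Finite B (M ⊗[A] I) := Groth.Agent.H1.finite_tensor_of_finite I
  haveI : IsNoetherian B (M ⊗[A] I) := isNoetherian_of_isNoetherianRing_of_finite B _
  have hKfg : (LinearMap.ker (mulB (B := B) (M := M) I)).FG := IsNoetherian.noetherian _
  obtain ⟨s, hs1, hs⟩ := Submodule.exists_sub_one_mem_and_smul_eq_zero_of_fg_of_le_smul
    (Ideal.span {f}) _ hKfg (ker_mulB_le_smul f hreg π hπ hker I)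
  have hsq : s ∈ q.primeCompl := by
    intro hsq
    have h1 : s - 1 ∈ q := (Ideal.span_singleton_le_iff_mem q).mpr hf hs1
    have : (1 : B) ∈ q := by
      have := q.sub_mem hsq h1
      simpa using this
    exact (Ideal.IsPrime.ne_top inferInstance) ((Ideal.eq_top_iff_one q).mpr this)
  refine ⟨s, hsq, hs x ?_⟩
  have hinj := (mulB_injective_iff (B := B) (M := M) I)
  change mulB (B := B) (M := M) I x = 0
  have h : ⇑(mulB (B := B) (M := M) I) = ⇑(TensorProduct.rid A M) ∘ ⇑(I.subtype.lTensor M) := by
    ext z
    induction z using TensorProduct.induction_on with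
    | zero => simp
    | tmul x j => simp
    | add x y hx hy =>
      simp only [map_add, Function.comp_apply] at hx hy ⊢
      rw [hx, hy]
  rw [h, Function.comp_apply, hx, map_zero]

end kernel

end Groth.Agent.H7.FlatAsc
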