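import Mathlib
import Groth.Agent.Lib.Helper1.LimFlat6
import Groth.Agent.Lib.Helper7.FlatAscA

/-! helper7: flatness ascends along a regular element, finitely presented (non-Noetherian) case,
in the polynomial model of helper1. -/

set_option autoImplicit false

universe u v w

open TensorProduct Function

namespace Groth.Agent.H7.FlatAsc

section abstract

/-- If the cokernel of `φ` is flat, then the kernel of a base change of `φ` is generated by the
kernel of `φ`. -/
theorem exists_lTensor_ker_eq_of_flat_coker {R : Type*} [CommRing R] {M Q : Type*} [AddCommGroup M]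
    [Module R M] [AddCommGroup Q] [Module R Q] [Module.Flat R Q] (φ : M →ₗ[R] M) (π : M →ₗ[R] Q)
    (hπ : Surjective π) (hex : Exact φ π) (R' : Type*) [AddCommGroup R'] [Module R R']
    (z : R' ⊗[R] M) (hz : φ.lTensor R' z = 0) :
    ∃ w : R' ⊗[R] LinearMap.ker φ, (LinearMap.ker φ).subtype.lTensor R' w = z := by
  let φ' : M →ₗ[R] LinearMap.range φ := φ.rangeRestrict
  let ι : LinearMap.range φ →ₗ[R] M := (LinearMap.range φ).subtype
  have hι : Injective ι := Subtype.val_injective
  have hexι : Exact ι π := by
    intro x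
    rw [hex x]
    constructor
    · rintro ⟨y, rfl⟩
      exact ⟨⟨φ y, y, rfl⟩, rfl⟩
    · rintro ⟨⟨_, y, rfl⟩, rfl⟩
      exact ⟨y, rfl⟩
  have hinj := LinearMap.lTensor_injective_of_exact_of_flat π hπ ι hι hexι R'
  have hcomp : φ.lTensor R' = (ι.lTensor R') ∘ₗ (φ'.lTensor R') := by
    rw [← LinearMap.lTensor_comp]
    rfl
  have h1 : φ'.lTensor R' z = 0 := by
    apply hinj
    rw [map_zero, ← LinearMap.comp_apply, ← hcomp, hz]
  have hex' : Exact (LinearMap.ker φ).subtype φ' := by
    intro x
    constructor
    · intro hx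
      refine ⟨⟨x, ?_⟩, rfl⟩
      have := congrArg Subtype.val hx
      exact this
    · rintro ⟨⟨y, hy⟩, rfl⟩
      exact Subtype.ext hy
  have hsurj : Surjective φ' := LinearMap.surjective_rangeRestrict φ
  exact (lTensor_exact R' hex' hsurj z).mp h1

/-- Descent of regularity: a base change of an endomorphism with flat cokernel is injective as soon
as the kernel dies. -/
theorem injective_of_isBaseChange_of_flat_coker {R R' : Type*} [CommRing R] [CommRing R']
    [Algebra R R'] {M Q M' : Type*} [AddCommGroup M] [Module R M] [AddCommGroup Q] [Module R Q]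
    [Module.Flat R Q] [AddCommGroup M'] [Module R M'] [Module R' M'] [IsScalarTower R R' M']
    (φ : M →ₗ[R] M) (π : M →ₗ[R] Q) (hπ : Surjective π) (hex : Exact φ π)
    (μ : M →ₗ[R] M') (hμ : IsBaseChange R' μ) (φ' : M' →ₗ[R'] M')
    (hcomm : ∀ x, φ' (μ x) = μ (φ x)) (hzero : ∀ x, φ x = 0 → μ x = 0) : Injective φ' := by
  rw [injective_iff_map_eq_zero]
  intro y hy
  obtain ⟨z, rfl⟩ := hμ.equiv.surjective y
  have h1 : ∀ z : R' ⊗[R] M, hμ.equiv (φ.lTensor R' z) = φ' (hμ.equiv z) := by
    intro z
    induction z using TensorProduct.induction_on with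
    | zero => simp
    | tmul a x =>
      rw [LinearMap.lTensor_tmul, hμ.equiv_tmul, hμ.equiv_tmul, map_smul, hcomm]
    | add a b ha hb => simp only [map_add, ha, hb]
  have h2 : φ.lTensor R' z = 0 := by
    apply hμ.equiv.injective
    rw [h1, hy, map_zero]
  obtain ⟨w, rfl⟩ := exists_lTensor_ker_eq_of_flat_coker φ π hπ hex R' z h2
  clear h2 hy
  induction w using TensorProduct.induction_on with
  | zero => simp
  | tmul a x =>
    rw [LinearMap.lTensor_tmul, hμ.equiv_tmul]
    have : μ x.1 = 0 := hzero x.1 x.2
    change a • μ x.1 = 0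
    rw [this, smul_zero]
  | add a b ha hb => rw [map_add, map_add, ha, hb, add_zero]

end abstract

end Groth.Agent.H7.FlatAsc
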