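import Mathlib
import Groth.Agent.Lib.Helper1.LimFlat6
import Groth.Agent.Lib.Helper7.FlatAscB

/-! helper7: flatness ascends along a regular element, polynomial model. -/

set_option autoImplicit false

universe u v w

open TensorProduct Function

namespace Groth.Agent.H7.FlatAsc

open Groth.Agent.H1.PolyModel Groth.Agent.H1.LimFlat

attribute [local instance] MvPolynomial.algebraMvPolynomial

section model

variable {R : Type u} [CommRing R] {n t : ℕ}

/-- the quotient of the cyclic model by `ρ` is again a model. -/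
theorem exists_quot_model (k : Fin t → (Fin 1 → P n R)) (ρ : P n R)
    (k' : Fin (t + 1) → (Fin 1 → P n R)) (h0 : k' 0 = fun _ => ρ)
    (hs : ∀ u : Fin t, k' u.succ = k u) :
    ∃ π : Mod 1 t k →ₗ[P n R] Mod 1 (t + 1) k', Surjective π ∧
      ∀ x, π x = 0 ↔ ∃ y, x = ρ • y := by
  have hk' : k' = Fin.cons (fun _ => ρ) k := by
    funext u
    refine Fin.cases ?_ (fun v => ?_) u
    · rw [h0]; rfl
    · rw [hs]; rfl
  have hle : LinearMap.range (kap 1 t k) ≤ LinearMap.range (kap 1 (t + 1) k') := by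
    rw [range_kap, Submodule.span_le]
    rintro _ ⟨u, rfl⟩
    rw [← hs u]
    exact mem_range_kap 1 (t + 1) k' u.succ
  have hrange : LinearMap.range (kap 1 (t + 1) k') =
      Submodule.span (P n R) (insert (fun _ => ρ) (Set.range k)) := by
    rw [range_kap, hk', Fin.range_cons]
  refine ⟨Submodule.mapQ _ _ LinearMap.id hle, ?_, ?_⟩
  · intro y
    obtain ⟨v, rfl⟩ := Submodule.Quotient.mk_surjective _ y
    exact ⟨Submodule.Quotient.mk v, rfl⟩
  · intro x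
    obtain ⟨v, rfl⟩ := Submodule.Quotient.mk_surjective _ x
    rw [Submodule.mapQ_apply, LinearMap.id_apply, Submodule.Quotient.mk_eq_zero, hrange,
      Submodule.mem_span_insert]
    constructor
    · rintro ⟨a, z, hz, hv⟩
      refine ⟨Submodule.Quotient.mk (fun _ => a), ?_⟩
      rw [← Submodule.Quotient.mk_smul, Submodule.Quotient.eq, range_kap]
      have : v - ρ • (fun _ : Fin 1 => a) = z := by
        rw [hv]
        funext i
        simp [mul_comm]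
      rw [this]
      exact hz
    · rintro ⟨y, hy⟩
      obtain ⟨w, rfl⟩ := Submodule.Quotient.mk_surjective _ y
      rw [← Submodule.Quotient.mk_smul, Submodule.Quotient.eq, range_kap] at hy
      refine ⟨w 0, v - ρ • w, hy, ?_⟩
      funext i
      have hi : i = 0 := Subsingleton.elim _ _
      subst hi
      simp [mul_comm]

end model

end Groth.Agent.H7.FlatAsc

namespace Groth.Agent.H7.FlatAsc

open Groth.Agent.H1.PolyModel Groth.Agent.H1.LimFlat

attribute [local instance] MvPolynomial.algebraMvPolynomial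

section descent

variable {A : Type u} [CommRing A] {n t : ℕ}

/-- **Flatness ascends along a regular element**, polynomial model: if `ρ` is regular on the cyclic
model `P/(k)` and `P/(k, ρ)` is flat over `A`, then `P/(k)` is flat over `A` at every prime
containing `ρ`. -/
theorem flat_localizedModule_model_of_regular (k : Fin t → (Fin 1 → P n A)) (ρ : P n A)
    (hreg : IsSMulRegular (Mod 1 t k) ρ)
    [Module.Flat A (Mod 1 (t + 1) (Fin.cons (fun _ => ρ) k : Fin (t + 1) → (Fin 1 → P n A)))]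
    (q : Ideal (P n A)) [q.IsPrime] (hρ : ρ ∈ q) :
    Module.Flat A (LocalizedModule q.primeCompl (Mod 1 t k)) := by
  classical
  obtain ⟨S₂, hS₂, k'₂, hk'₂, hfl₂⟩ := exists_fg_flat_model 1 (t + 1)
    (Fin.cons (fun _ => ρ) k : Fin (t + 1) → (Fin 1 → P n A))
  obtain ⟨ρ₂, hρ₂def⟩ : ∃ x : P n S₂, x = k'₂ 0 0 := ⟨_, rfl⟩
  obtain ⟨k₂, hk₂def⟩ : ∃ x : Fin t → (Fin 1 → P n S₂), x = fun u => k'₂ u.succ := ⟨_, rfl⟩
  have h0₂ : k'₂ 0 = fun _ => ρ₂ := by
    funext i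
    have hi : i = 0 := Subsingleton.elim _ _
    rw [hi, hρ₂def]
  have hs₂ : ∀ u : Fin t, k'₂ u.succ = k₂ u := fun u => by rw [hk₂def]
  have hρ₂ : MvPolynomial.map (algebraMap S₂ A) ρ₂ = ρ := by
    have h1 := congrFun (congrFun hk'₂ 0) 0
    rw [hρ₂def]
    exact h1
  have hk₂ : kmap A 1 t k₂ = k := by
    funext u
    have h1 := congrFun hk'₂ u.succ
    rw [hk₂def]
    exact h1
  subst hk₂ hρ₂
  haveI : IsNoetherianRing S₂ := isNoetherianRing_of_fg S₂ hS₂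
  -- the torsion
  have hTfg : (LinearMap.ker (LinearMap.lsmul (P n S₂) (Mod 1 t k₂) ρ₂)).FG :=
    IsNoetherian.noetherian _
  obtain ⟨G, hG⟩ := hTfg
  have hx : ∀ x : G, ∃ c : Fin t → P n A, ∃ v : Fin 1 → P n S₂, proj 1 t k₂ v = x.1 ∧
      vmap n 1 S₂ A v = kap 1 t (kmap A 1 t k₂) c := by
    intro x
    have hxT : x.1 ∈ LinearMap.ker (LinearMap.lsmul (P n S₂) (Mod 1 t k₂) ρ₂) := by
      rw [← hG]
      exact Submodule.subset_span x.2
    obtain ⟨v, hv⟩ := proj_surjective 1 t k₂ x.1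
    have h1 : proj 1 t k₂ (ρ₂ • v) = 0 := by
      rw [map_smul, hv]
      exact hxT
    obtain ⟨d, hd⟩ := (exact_kap_proj 1 t k₂ _).mp h1
    have h2 : (MvPolynomial.map (algebraMap S₂ A) ρ₂) • proj 1 t (kmap A 1 t k₂) (vmap n 1 S₂ A v)
        = 0 := by
      rw [← map_smul, ← vmap_smul', ← hd, vmap_kap]
      exact (exact_kap_proj 1 t (kmap A 1 t k₂)).apply_apply_eq_zero _
    have h3 : proj 1 t (kmap A 1 t k₂) (vmap n 1 S₂ A v) = 0 :=
      hreg (by simp only [h2, smul_zero])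
    obtain ⟨c, hc⟩ := (exact_kap_proj 1 t (kmap A 1 t k₂) _).mp h3
    exact ⟨c, v, hv, hc.symm⟩
  choose c v hv hc using hx
  obtain ⟨S₃, h23, hS₃, hQ⟩ := exists_fg_ge_forall_mem_range S₂ hS₂
    (Finset.univ.image fun xu : G × Fin t => c xu.1 xu.2)
  have hc' : ∀ x : G, ∃ c' : Fin t → P n S₃, vmap n t S₃ A c' = c x := fun x =>
    exists_vmap_eq S₃ (c x) fun u => hQ _ (Finset.mem_image.mpr ⟨(x, u), Finset.mem_univ _, rfl⟩)
  choose c' hc'eq using hc'
  letI alg23 : Algebra S₂ S₃ := (Subalgebra.inclusion h23).toAlgebra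
  haveI : IsScalarTower S₂ S₃ A := IsScalarTower.of_algebraMap_eq fun x => rfl
  haveI : IsNoetherianRing S₃ := isNoetherianRing_of_fg S₃ hS₃
  -- level `S₃`
  have hzero : ∀ x, (LinearMap.lsmul (P n S₂) (Mod 1 t k₂) ρ₂) x = 0 → muM S₃ 1 t k₂ x = 0 := by
    intro x hx
    have hxT : x ∈ LinearMap.ker (LinearMap.lsmul (P n S₂) (Mod 1 t k₂) ρ₂) := hx
    rw [← hG] at hxT
    have hle : Submodule.span (P n S₂) (G : Set (Mod 1 t k₂)) ≤
        LinearMap.ker (muM S₃ 1 t k₂) := by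
      rw [Submodule.span_le]
      intro y hy
      have h1 := hv ⟨y, hy⟩
      have h2 := hc ⟨y, hy⟩
      change muM S₃ 1 t k₂ y = 0
      have h3 : vmap n 1 S₂ S₃ (v ⟨y, hy⟩) = kap 1 t (kmap S₃ 1 t k₂) (c' ⟨y, hy⟩) := by
        apply vmap_injective n 1 S₃ A Subtype.val_injective
        rw [vmap_vmap, h2, vmap_kap, kmap_kmap, hc'eq]
      have h4 : muM S₃ 1 t k₂ (proj 1 t k₂ (v ⟨y, hy⟩)) = 0 := by
        rw [muM_proj, h3]
        exact (exact_kap_proj 1 t _).apply_apply_eq_zero _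
      rw [h1] at h4
      exact h4
    exact hle hxT
  obtain ⟨π₂, hπ₂, hkerπ₂⟩ := exists_quot_model k₂ ρ₂ k'₂ h0₂ hs₂
  haveI := hfl₂
  obtain ⟨ρ₃, hρ₃def⟩ : ∃ x : P n S₃, x = MvPolynomial.map (algebraMap S₂ S₃) ρ₂ := ⟨_, rfl⟩
  have hreg₃ : IsSMulRegular (Mod 1 t (kmap S₃ 1 t k₂)) ρ₃ := by
    have hex : Exact ((LinearMap.lsmul (P n S₂) (Mod 1 t k₂) ρ₂).restrictScalars S₂)
        (π₂.restrictScalars S₂) := by
      intro x
      change π₂ x = 0 ↔ _
      rw [hkerπ₂]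
      constructor
      · rintro ⟨y, rfl⟩
        exact ⟨y, rfl⟩
      · rintro ⟨y, rfl⟩
        exact ⟨y, rfl⟩
    have hcomm : ∀ x, ((LinearMap.lsmul (P n S₃) (Mod 1 t (kmap S₃ 1 t k₂)) ρ₃).restrictScalars S₃)
        (((muM S₃ 1 t k₂).restrictScalars S₂) x) = ((muM S₃ 1 t k₂).restrictScalars S₂)
          (((LinearMap.lsmul (P n S₂) (Mod 1 t k₂) ρ₂).restrictScalars S₂) x) := by
      intro x
      change ρ₃ • muM S₃ 1 t k₂ x = muM S₃ 1 t k₂ (ρ₂ • x)
      rw [map_smul, hρ₃def]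
      exact (algebraMap_smul (P n S₃) ρ₂ (muM S₃ 1 t k₂ x))
    exact injective_of_isBaseChange_of_flat_coker (R := S₂) (R' := S₃)
      ((LinearMap.lsmul (P n S₂) (Mod 1 t k₂) ρ₂).restrictScalars S₂) (π₂.restrictScalars S₂) hπ₂ hex
      ((muM S₃ 1 t k₂).restrictScalars S₂) (isBaseChange_muM_restrictScalars S₃ 1 t k₂)
      ((LinearMap.lsmul (P n S₃) (Mod 1 t (kmap S₃ 1 t k₂)) ρ₃).restrictScalars S₃) hcomm hzero
  haveI : Module.Flat S₃ (Mod 1 (t + 1) (kmap S₃ 1 (t + 1) k'₂)) :=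
    flat_model_of_ringHom 1 (t + 1) (algebraMap S₂ S₃) k'₂ (kmap S₃ 1 (t + 1) k'₂) (fun u a => rfl)
  have h0₃ : kmap S₃ 1 (t + 1) k'₂ 0 = fun _ => ρ₃ := by
    funext i
    change vmap n 1 S₂ S₃ (k'₂ 0) i = ρ₃
    rw [vmap_apply, h0₂, hρ₃def]
  have hs₃ : ∀ u : Fin t, kmap S₃ 1 (t + 1) k'₂ u.succ = kmap S₃ 1 t k₂ u := by
    intro u
    change vmap n 1 S₂ S₃ (k'₂ u.succ) = vmap n 1 S₂ S₃ (k₂ u)
    rw [hs₂]
  obtain ⟨π₃, hπ₃, hkerπ₃⟩ := exists_quot_model (kmap S₃ 1 t k₂) ρ₃ (kmap S₃ 1 (t + 1) k'₂) h0₃ hs₃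
  let q₃ : Ideal (P n S₃) := q.comap (algebraMap (P n S₃) (P n A))
  haveI : q₃.IsPrime := Ideal.comap_isPrime _ _
  have hρq₃ : ρ₃ ∈ q₃ := by
    change MvPolynomial.map (algebraMap S₃ A) ρ₃ ∈ q
    rw [hρ₃def, MvPolynomial.map_map]
    exact hρ
  haveI : Module.Flat S₃ (LocalizedModule q₃.primeCompl (Mod 1 t (kmap S₃ 1 t k₂))) :=
    flat_localizedModule_of_regular_of_flat_quotient (A := S₃) (B := P n S₃) ρ₃ hreg₃ π₃ hπ₃
      hkerπ₃ q₃ hρq₃
  have hfin := Groth.Agent.H1.FlatBCLoc.flat_localized_of_isBaseChange (R := S₃) (R' := A)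
    (B := P n S₃) (B' := P n A) (muM A 1 t (kmap S₃ 1 t k₂))
    (isBaseChange_muM_restrictScalars A 1 t (kmap S₃ 1 t k₂))
    q₃.primeCompl q.primeCompl (fun s hs => hs)
    (LocalizedModule.mkLinearMap q₃.primeCompl (Mod 1 t (kmap S₃ 1 t k₂)))
    (LocalizedModule.mkLinearMap q.primeCompl (Mod 1 t (kmap A 1 t (kmap S₃ 1 t k₂))))
  have hkk : kmap A 1 t (kmap S₃ 1 t k₂) = kmap A 1 t k₂ := kmap_kmap S₃ A 1 t k₂
  rw [hkk] at hfin
  exact hfin

end descent

end Groth.Agent.H7.FlatAsc
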