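import Mathlib
import Groth.Agent.Lib.Helper1.LimFlat6
import Groth.Agent.Lib.Helper7.FlatAscC

/-! helper7: flatness ascends along a regular element, finitely presented algebras. -/

set_option autoImplicit false

universe u v w

open TensorProduct Function

namespace Groth.Agent.H7.FlatAsc

open Groth.Agent.H1.PolyModel Groth.Agent.H1.LimFlat

attribute [local instance] MvPolynomial.algebraMvPolynomial

section fp

variable {R S : Type u} [CommRing R] [CommRing S] [Algebra R S]

/-- a cyclic model of a quotient of the polynomial ring by a finitely generated ideal. -/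
theorem exists_cyclic_model {n : ℕ} [Algebra (P n R) S]
    (hsurj : Surjective (algebraMap (P n R) S)) (hker : (RingHom.ker (algebraMap (P n R) S)).FG) :
    ∃ (t : ℕ) (k : Fin t → (Fin 1 → P n R)), Nonempty (Mod 1 t k ≃ₗ[P n R] S) := by
  obtain ⟨t, g, hg⟩ := Submodule.fg_iff_exists_fin_generating_family.mp hker
  let k : Fin t → (Fin 1 → P n R) := fun u _ => g u
  let ψ : (Fin 1 → P n R) →ₗ[P n R] S :=
    (Algebra.linearMap (P n R) S) ∘ₗ (LinearMap.proj (0 : Fin 1))
  have hψ : Surjective ψ := by
    intro s
    obtain ⟨p, rfl⟩ := hsurj s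
    exact ⟨fun _ => p, rfl⟩
  have hkerψ : LinearMap.range (kap 1 t k) = LinearMap.ker ψ := by
    apply le_antisymm
    · rw [range_kap, Submodule.span_le]
      rintro _ ⟨u, rfl⟩
      change algebraMap (P n R) S (g u) = 0
      have : g u ∈ RingHom.ker (algebraMap (P n R) S) := by
        rw [← hg]
        exact Submodule.subset_span ⟨u, rfl⟩
      exact this
    · intro v hv
      have hv0 : v 0 ∈ Submodule.span (P n R) (Set.range g) := by
        rw [hg]
        exact hv
      obtain ⟨c, hc⟩ := (Submodule.mem_span_range_iff_exists_fun (P n R)).mp hv0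
      refine ⟨c, ?_⟩
      rw [kap_apply]
      funext i
      have hi : i = 0 := Subsingleton.elim _ _
      subst hi
      rw [← hc, Finset.sum_apply]
      rfl
  exact ⟨t, k, ⟨(Submodule.quotEquivOfEq _ _ hkerψ).trans (ψ.quotKerEquivOfSurjective hψ)⟩⟩

/-- **Flatness ascends along a regular element** (finitely presented algebras): if `a` is a
nonzerodivisor of `S` and `S/(a)` is flat over `R`, then `S_q` is flat over `R` for every prime
`q ∋ a`. -/
theorem flat_localizedModule_of_nonZeroDivisor_of_flat_quotient [Algebra.FinitePresentation R S]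
    (a : S) (ha : a ∈ nonZeroDivisors S) [hfl : Module.Flat R (S ⧸ Ideal.span {a})]
    (q : Ideal S) [q.IsPrime] (haq : a ∈ q) : Module.Flat R (LocalizedModule q.primeCompl S) := by
  obtain ⟨n, φ, hφ, hker⟩ := Algebra.FinitePresentation.out (R := R) (A := S)
  letI algPS : Algebra (P n R) S := φ.toRingHom.toAlgebra
  haveI : IsScalarTower R (P n R) S := IsScalarTower.of_algebraMap_eq fun x => (φ.commutes x).symm
  have hsurj : Surjective (algebraMap (P n R) S) := hφ
  obtain ⟨t, k, ⟨e⟩⟩ := exists_cyclic_model (R := R) (S := S) hsurj hker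
  obtain ⟨ρ, hρ⟩ := hsurj a
  have hsm : ∀ s : S, ρ • s = a * s := fun s => by rw [← hρ]; rfl
  have hreg : IsSMulRegular (Mod 1 t k) ρ := by
    intro x y hxy
    apply e.injective
    have h1 : ρ • e x = ρ • e y := by
      rw [← map_smul, ← map_smul]
      exact congrArg e hxy
    rw [hsm, hsm] at h1
    have h2 : (e x - e y) * a = 0 := by
      rw [sub_mul, mul_comm (e x) a, mul_comm (e y) a, h1, sub_self]
    exact sub_eq_zero.mp ((mem_nonZeroDivisors_iff_right.mp ha) _ h2)
  obtain ⟨π, hπ, hkerπ⟩ := exists_quot_model k ρ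
    (Fin.cons (fun _ => ρ) k : Fin (t + 1) → (Fin 1 → P n R)) rfl (fun u => rfl)
  -- the quotient model is `S/(a)`
  let f : S →ₗ[P n R] Mod 1 (t + 1) (Fin.cons (fun _ => ρ) k : Fin (t + 1) → (Fin 1 → P n R)) :=
    π ∘ₗ e.symm.toLinearMap
  have hf : Surjective f := hπ.comp e.symm.surjective
  have hkerf : LinearMap.ker (f.restrictScalars R) = (Ideal.span {a}).restrictScalars R := by
    ext s
    rw [LinearMap.mem_ker, Submodule.restrictScalars_mem, Ideal.mem_span_singleton']
    change π (e.symm s) = 0 ↔ _
    rw [hkerπ]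
    constructor
    · rintro ⟨y, hy⟩
      refine ⟨e y, ?_⟩
      have := congrArg e hy
      rw [e.apply_symm_apply, map_smul, hsm] at this
      rw [this, mul_comm]
    · rintro ⟨b, rfl⟩
      refine ⟨e.symm b, ?_⟩
      rw [← map_smul, hsm, mul_comm]
  haveI : Module.Flat R (Mod 1 (t + 1)
      (Fin.cons (fun _ => ρ) k : Fin (t + 1) → (Fin 1 → P n R))) := by
    have e2 : (S ⧸ Ideal.span {a}) ≃ₗ[R] Mod 1 (t + 1)
        (Fin.cons (fun _ => ρ) k : Fin (t + 1) → (Fin 1 → P n R)) :=
      ((Submodule.Quotient.restrictScalarsEquiv R (Ideal.span {a})).symm.trans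
        (Submodule.quotEquivOfEq _ _ hkerf.symm)).trans
        ((f.restrictScalars R).quotKerEquivOfSurjective hf)
    exact Module.Flat.of_linearEquiv e2.symm
  let q₀ : Ideal (P n R) := q.comap (algebraMap (P n R) S)
  haveI : q₀.IsPrime := Ideal.comap_isPrime _ _
  have hρq₀ : ρ ∈ q₀ := by
    change algebraMap (P n R) S ρ ∈ q
    rw [hρ]
    exact haq
  haveI := flat_localizedModule_model_of_regular k ρ hreg q₀ hρq₀
  haveI : Module.Flat R (LocalizedModule q₀.primeCompl S) :=
    flat_localizedModule_congr (R := R) q₀.primeCompl e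
  exact (flat_localizedModule_comap_iff (R := R) hsurj q).mp inferInstance

end fp

end Groth.Agent.H7.FlatAsc
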