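import Mathlib
import Groth.Agent.Lib.Helper1.CMQF
import Groth.Agent.Lib.Helper1.CartierKit
import Groth.Agent.Lib.Helper7.FlatLocBC
import Groth.Agent.Lib.Helper7.RelCartA
import Groth.Agent.Lib.Helper7.FlatAscD

/-! helper7: a relative effective Cartier divisor has a flat open neighbourhood (S1703). -/

set_option autoImplicit false

universe u

open CategoryTheory Limits AlgebraicGeometry TensorProduct

namespace Groth.Agent.H7.FlatAsc

open Groth.Agent.H7.RelCart Groth.Agent.H7.FlatLocBC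

variable {X S : Scheme.{u}}

/-- `f` is flat at the points of a relative effective Cartier divisor. -/
theorem flat_stalkMap_of_mem_support (f : X ⟶ S) [LocallyOfFinitePresentation f]
    (𝓘 : X.IdealSheafData) (hI : BlowUp.IsEffCartierIdeal 𝓘) [hfl : Flat (𝓘.subschemeι ≫ f)]
    (x : X) (hx : x ∈ 𝓘.support) : (f.stalkMap x).hom.Flat := by
  obtain ⟨U₀, hxU₀, a₀, ha₀, hI₀⟩ := hI x
  obtain ⟨W, hW, hxW, -⟩ := exists_isAffineOpen_mem_and_subset (x := f x) (U := ⊤) trivial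
  obtain ⟨U, hU, hxU, eU⟩ :=
    exists_isAffineOpen_mem_and_subset (x := x) (U := U₀.1 ⊓ f ⁻¹ᵁ W) ⟨hxU₀, hxW⟩
  have eU₀ : U ≤ U₀.1 := eU.trans inf_le_left
  have eUW : U ≤ f ⁻¹ᵁ W := eU.trans inf_le_right
  obtain ⟨a, ha_def⟩ : ∃ a : Γ(X, U), a = X.presheaf.map (homOfLE eU₀).op a₀ := ⟨_, rfl⟩
  have hIa : 𝓘.ideal ⟨U, hU⟩ = Ideal.span {a} := by
    rw [← 𝓘.map_ideal (U := ⟨U, hU⟩) (V := U₀) eU₀, hI₀, Ideal.map_span, Set.image_singleton,
      ha_def]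
    rfl
  have haNZD : a ∈ nonZeroDivisors Γ(X, U) := by
    letI : Algebra Γ(X, U₀.1) Γ(X, U) := (X.presheaf.map (homOfLE eU₀).op).hom.toAlgebra
    haveI : Module.Flat Γ(X, U₀.1) Γ(X, U) := flat_restrict_of_isAffineOpen hU U₀.2 eU₀
    rw [ha_def]
    exact Groth.Agent.LD.QC.map_mem_nonZeroDivisors_of_flat (A := Γ(X, U₀.1)) (B := Γ(X, U)) ha₀
  letI aRB : Algebra Γ(S, W) Γ(X, U) := (f.appLE W U eUW).hom.toAlgebra
  have hUsub : IsAffineOpen (𝓘.subschemeι ⁻¹ᵁ U) := hU.preimage 𝓘.subschemeι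
  have eS : 𝓘.subschemeι ⁻¹ᵁ U ≤ (𝓘.subschemeι ≫ f) ⁻¹ᵁ W := by
    intro z hz
    change f (𝓘.subschemeι z) ∈ W
    exact eUW hz
  have hflat := HasRingHomProperty.appLE (P := @Flat) (𝓘.subschemeι ≫ f) hfl ⟨W, hW⟩
    ⟨𝓘.subschemeι ⁻¹ᵁ U, hUsub⟩ eS
  letI aRC : Algebra Γ(S, W) Γ(𝓘.subscheme, 𝓘.subschemeι ⁻¹ᵁ U) :=
    ((𝓘.subschemeι ≫ f).appLE W (𝓘.subschemeι ⁻¹ᵁ U) eS).hom.toAlgebra
  haveI : Module.Flat Γ(S, W) Γ(𝓘.subscheme, 𝓘.subschemeι ⁻¹ᵁ U) := hflat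
  have hsurj : Function.Surjective (𝓘.subschemeι.app U).hom :=
    𝓘.subschemeι_app_surjective ⟨U, hU⟩
  have hker : RingHom.ker (𝓘.subschemeι.app U).hom = Ideal.span {a} := by
    rw [← hIa]; exact 𝓘.ker_subschemeι_app ⟨U, hU⟩
  let φ : Γ(X, U) →ₐ[Γ(S, W)] Γ(𝓘.subscheme, 𝓘.subschemeι ⁻¹ᵁ U) :=
    { (𝓘.subschemeι.app U).hom with
      commutes' := fun r => by
        change (𝓘.subschemeι.app U).hom ((f.appLE W U eUW).hom r) =
          ((𝓘.subschemeι ≫ f).appLE W (𝓘.subschemeι ⁻¹ᵁ U) eS).hom r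
        have e4 := Scheme.Hom.appLE_comp_appLE 𝓘.subschemeι f W U (𝓘.subschemeι ⁻¹ᵁ U)
          eUW le_rfl
        rw [Scheme.Hom.appLE_eq_app] at e4
        exact congr($e4 r) }
  have hflatq : Module.Flat Γ(S, W) (Γ(X, U) ⧸ Ideal.span {a}) := by
    have hφs : Function.Surjective φ := hsurj
    have hφk : RingHom.ker φ = Ideal.span {a} := hker
    have h7 : Module.Flat Γ(S, W) (Γ(X, U) ⧸ RingHom.ker φ) :=
      Module.Flat.of_linearEquiv (Ideal.quotientKerAlgEquivOfSurjective hφs).toLinearEquiv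
    rw [hφk] at h7
    exact h7
  haveI := hflatq
  haveI : Algebra.FinitePresentation Γ(S, W) Γ(X, U) := f.finitePresentation_appLE hW hU eUW
  have haq : a ∈ (hU.primeIdealOf ⟨x, hxU⟩).asIdeal := by
    rw [Groth.Agent.H1.CartierKit.mem_primeIdealOf_iff hU x hxU a]
    have h1 := (Scheme.IdealSheafData.mem_support_iff_of_mem (I := 𝓘) (U := ⟨U, hU⟩) hxU).mp hx
    rw [Scheme.mem_zeroLocus_iff] at h1
    exact h1 a (by rw [hIa]; exact Ideal.mem_span_singleton_self a)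
  have key := flat_localizedModule_of_nonZeroDivisor_of_flat_quotient (R := Γ(S, W))
    (S := Γ(X, U)) a haNZD (hU.primeIdealOf ⟨x, hxU⟩).asIdeal haq
  exact (Groth.Agent.H1.CMQF.flat_stalkMap_iff_chart f hW hU eUW x hxU).mpr key

/-- **S1703**: a relative effective Cartier divisor on a scheme locally of finite presentation
over `S` has an open neighbourhood which is flat over `S`. -/
theorem S1703_main (f : X ⟶ S) [LocallyOfFinitePresentation f] (𝓘 : X.IdealSheafData)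
    (hD : BlowUp.IsEffCartierIdeal 𝓘 ∧ Flat (𝓘.subschemeι ≫ f)) :
    ∃ U : X.Opens, (𝓘.support : Set ↥X) ⊆ U ∧ Flat (U.ι ≫ f) := by
  obtain ⟨hI, hfl⟩ := hD
  have h1 : ∀ x : 𝓘.support, ∃ U : X.Opens, x.1 ∈ U ∧ Flat (U.ι ≫ f) := fun x =>
    Groth.Agent.H1.CMQF.exists_flat_nhd f x.1 (flat_stalkMap_of_mem_support f 𝓘 hI x.1 x.2)
  choose V hxV hV using h1
  refine ⟨⨆ x, V x, ?_, ?_⟩
  · intro x hx
    exact TopologicalSpace.Opens.mem_iSup.mpr ⟨⟨x, hx⟩, hxV ⟨x, hx⟩⟩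
  · refine flat_restrict_of_forall f _ fun a ha => ?_
    obtain ⟨x, hax⟩ := TopologicalSpace.Opens.mem_iSup.mp ha
    exact FlatAt.of_restrict f (V x) (hV x) a hax

end Groth.Agent.H7.FlatAsc
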