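import Mathlib

/-!
# Ring-level preparations for the base change of the relative flat locus (S1441)
-/

set_option autoImplicit false
universe u

namespace Groth.Agent.H7.FlatFib

open TensorProduct

section kernel

variable {B B' : Type*} [CommRing B] [CommRing B'] [Algebra B B'] {M N : Type*}
  [AddCommGroup M] [Module B M] [AddCommGroup N] [Module B N] [Module B' N]
  [IsScalarTower B B' N] {σ : M →ₗ[B] N}

/-- a base change along a surjective ring map is surjective. -/
theorem surjective_of_isBaseChange (hb : Function.Surjective (algebraMap B B'))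
    (h : IsBaseChange B' σ) : Function.Surjective σ := by
  intro x
  refine h.inductionOn x (fun x => ∃ m, σ m = x) ⟨0, map_zero _⟩ (fun m => ⟨m, rfl⟩) ?_ ?_
  · rintro s n ⟨m, rfl⟩
    obtain ⟨β, rfl⟩ := hb s
    exact ⟨β • m, by rw [map_smul, algebraMap_smul]⟩
  · rintro _ _ ⟨m₁, rfl⟩ ⟨m₂, rfl⟩
    exact ⟨m₁ + m₂, map_add _ _ _⟩

/-- the kernel of a base change along a surjective ring map. -/
theorem ker_of_isBaseChange (hb : Function.Surjective (algebraMap B B'))
    (h : IsBaseChange B' σ) :
    LinearMap.ker σ = (RingHom.ker (algebraMap B B')) • (⊤ : Submodule B M) := by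
  apply le_antisymm
  · intro m hm
    let e_b : B' ≃+* B ⧸ RingHom.ker (algebraMap B B') :=
      (RingHom.quotientKerEquivOfSurjective hb).symm
    have he : ∀ β : B, e_b (algebraMap B B' β) = Ideal.Quotient.mk _ β := by
      intro β
      rw [RingEquiv.symm_apply_eq]
      rfl
    letI : Module B' (M ⧸ (RingHom.ker (algebraMap B B')) • (⊤ : Submodule B M)) :=
      Module.compHom _ (e_b : B' →+* B ⧸ RingHom.ker (algebraMap B B'))
    haveI : IsScalarTower B B' (M ⧸ (RingHom.ker (algebraMap B B')) • (⊤ : Submodule B M)) := by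
      refine ⟨fun β b' q => ?_⟩
      change e_b (β • b') • q = β • (e_b b' • q)
      rw [Algebra.smul_def, map_mul, he, mul_smul]
      obtain ⟨q', hq'⟩ := Submodule.Quotient.mk_surjective _ (e_b b' • q)
      rw [← hq']
      rfl
    have h1 := h.lift_eq (Submodule.mkQ ((RingHom.ker (algebraMap B B')) • (⊤ : Submodule B M))) m
    rw [LinearMap.mem_ker.1 hm, map_zero] at h1
    exact (Submodule.Quotient.mk_eq_zero _).1 h1.symm
  · rw [Submodule.smul_le]
    intro j hj m _
    rw [LinearMap.mem_ker, map_smul, ← algebraMap_smul B' j (σ m), RingHom.mem_ker.1 hj, zero_smul]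

end kernel

section main

variable {A A' B B' : Type u} [CommRing A] [CommRing A'] [CommRing B] [CommRing B']
  [Algebra B B'] {M N : Type u} [AddCommGroup M] [Module B M] [AddCommGroup N] [Module B N]
  [Module B' N] [IsScalarTower B B' N]

/-- **transfer of flatness of a fibre module, with abstract fibre rings**: if `N` is the base change
of `M` along the surjection `B → B'` with kernel `IB`, and `N` is flat over the quotient `A'` of
`A` by `I`, then `M / I M` is flat over `A / I`. -/
theorem flat_quot_of_isBaseChange (φ : A →+* B) (a : A →+* A') (χ : A' →+* B')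
    (hcomm : ∀ α : A, χ (a α) = algebraMap B B' (φ α)) (ha : Function.Surjective a)
    (hb : Function.Surjective (algebraMap B B'))
    (hkb : RingHom.ker (algebraMap B B') = (RingHom.ker a).map φ)
    [Module A M] (hAM : ∀ (α : A) (m : M), α • m = φ α • m)
    [Module A' N] (hA'N : ∀ (α' : A') (n : N), α' • n = χ α' • n)
    (σ : M →ₗ[B] N) (h : IsBaseChange B' σ) [Module.Flat A' N] :
    Module.Flat (A ⧸ RingHom.ker a) (M ⧸ (RingHom.ker a) • (⊤ : Submodule A M)) := by
  have hσs := surjective_of_isBaseChange hb h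
  have hσk := ker_of_isBaseChange hb h
  -- the ring isomorphism
  let ρ : A ⧸ RingHom.ker a ≃+* A' := RingHom.quotientKerEquivOfSurjective ha
  have hρ : ∀ α : A, ρ (Ideal.Quotient.mk _ α) = a α := fun α => rfl
  letI algR : Algebra (A ⧸ RingHom.ker a) A' := (ρ : A ⧸ RingHom.ker a →+* A').toAlgebra
  haveI : Module.Flat (A ⧸ RingHom.ker a) A' := by
    have h0 : (ρ : A ⧸ RingHom.ker a →+* A').Flat := RingHom.Flat.of_bijective ρ.bijective
    exact h0
  letI modR : Module (A ⧸ RingHom.ker a) N := Module.compHom N (algebraMap (A ⧸ RingHom.ker a) A')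
  haveI : IsScalarTower (A ⧸ RingHom.ker a) A' N := IsScalarTower.of_algebraMap_smul fun r n => rfl
  haveI hflat : Module.Flat (A ⧸ RingHom.ker a) N := Module.Flat.trans (A ⧸ RingHom.ker a) A' N
  -- the `A`-module structure on `N`
  letI modA : Module A N := Module.compHom N (χ.comp a)
  have hAN : ∀ (α : A) (n : N), α • n = χ (a α) • n := fun α n => rfl
  let σA : M →ₗ[A] N :=
    { toFun := σ
      map_add' := σ.map_add
      map_smul' := fun α m => by
        rw [RingHom.id_apply, hAM, σ.map_smul, hAN, hcomm, algebraMap_smul] }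
  have hle : (RingHom.ker a) • (⊤ : Submodule A M) ≤ LinearMap.ker σA := by
    rw [Submodule.smul_le]
    intro i hi m _
    rw [LinearMap.mem_ker, map_smul, hAN, RingHom.mem_ker.1 hi, map_zero, zero_smul]
  let Φ₀ : (M ⧸ (RingHom.ker a) • (⊤ : Submodule A M)) →ₗ[A] N := Submodule.liftQ _ σA hle
  have hΦ₀ : ∀ m : M, Φ₀ (Submodule.Quotient.mk m) = σ m := fun m => rfl
  -- `I • M` is stable under `B`
  have hBst : ∀ (β : B) (x : M), x ∈ (RingHom.ker a) • (⊤ : Submodule A M) →
      β • x ∈ (RingHom.ker a) • (⊤ : Submodule A M) := by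
    intro β x hx
    refine Submodule.smul_induction_on hx ?_ ?_
    · intro i hi m _
      rw [hAM, smul_comm, ← hAM]
      exact Submodule.smul_mem_smul hi trivial
    · intro x y hx hy
      rw [smul_add]
      exact add_mem hx hy
  let P : Submodule B M :=
    { carrier := ((RingHom.ker a) • (⊤ : Submodule A M) : Submodule A M)
      add_mem' := fun hx hy => add_mem hx hy
      zero_mem' := zero_mem _
      smul_mem' := fun β x hx => hBst β x hx }
  have hP : (RingHom.ker (algebraMap B B')) • (⊤ : Submodule B M) ≤ P := by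
    rw [Submodule.smul_le]
    intro j hj m _
    rw [hkb] at hj
    change j • m ∈ P
    refine Submodule.span_induction (p := fun j _ => j • m ∈ P) ?_ ?_ ?_ ?_ hj
    · rintro _ ⟨i, hi, rfl⟩
      change φ i • m ∈ (RingHom.ker a) • (⊤ : Submodule A M)
      rw [← hAM]
      exact Submodule.smul_mem_smul hi trivial
    · rw [zero_smul]; exact zero_mem _
    · intro x y _ _ hx hy
      rw [add_smul]; exact add_mem hx hy
    · intro β x _ hx
      rw [smul_eq_mul, mul_smul]
      exact P.smul_mem β hx
  have hinj : Function.Injective Φ₀ := by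
    rw [← LinearMap.ker_eq_bot, Submodule.ker_liftQ_eq_bot']
    apply le_antisymm hle
    intro m hm
    have h1 : m ∈ LinearMap.ker σ := hm
    rw [hσk] at h1
    exact hP h1
  have hsurj : Function.Surjective Φ₀ := by
    intro n
    obtain ⟨m, rfl⟩ := hσs n
    exact ⟨Submodule.Quotient.mk m, rfl⟩
  let Φ : (M ⧸ (RingHom.ker a) • (⊤ : Submodule A M)) ≃ₗ[A ⧸ RingHom.ker a] N :=
    { (Equiv.ofBijective Φ₀ ⟨hinj, hsurj⟩) with
      map_add' := Φ₀.map_add
      map_smul' := by
        intro r q
        obtain ⟨α, rfl⟩ := Ideal.Quotient.mk_surjective r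
        obtain ⟨m, rfl⟩ := Submodule.Quotient.mk_surjective _ q
        change Φ₀ (Ideal.Quotient.mk _ α • Submodule.Quotient.mk m) =
          ρ (Ideal.Quotient.mk _ α) • Φ₀ (Submodule.Quotient.mk m)
        rw [Module.Quotient.mk_smul_mk, hΦ₀, hΦ₀, hρ, hA'N, hAM, σ.map_smul, hcomm,
          algebraMap_smul] }
  exact Module.Flat.of_linearEquiv Φ

end main

end Groth.Agent.H7.FlatFib
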