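import Groth.Agent.Lib.Helper7.FlatFibD
import Groth.Agent.Lib.Helper1.CohLen
import Groth.Agent.Lib.Helper3.ConsP.ModLocus
import Mathlib

/-!
# Base change of the free locus of a flat finitely presented module (S9769)
-/

set_option autoImplicit false
universe u

open CategoryTheory Limits AlgebraicGeometry

namespace Groth.Agent.H7.FlatFib

/-- flatness over the identity is flatness of the stalk over the local ring. -/
theorem isFlatOverAt_id_iff {Z : Scheme.{u}} (G : Z.Modules) (z : Z) :
    FlatMod.IsFlatOverAt (𝟙 Z) G z ↔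
      Module.Flat ↑(Z.presheaf.stalk z) ↑(G.presheaf.stalk z) := by
  have e : FlatMod.moduleStalkOver (𝟙 Z) G z = FlatMod.moduleStalk G z := by
    refine Module.ext' _ _ ?_
    intro r m
    change ((𝟙 Z : Z ⟶ Z).stalkMap z).hom r • m = (show ↑(Z.presheaf.stalk z) from r) • m
    rw [Scheme.Hom.stalkMap_id]
    rfl
  change @Module.Flat _ _ _ _ (FlatMod.moduleStalkOver (𝟙 Z) G z) ↔ _
  rw [e]
  exact Iff.rfl

/-- for a module with finite stalk: the stalk is free iff flat over the identity. -/
theorem free_stalk_iff {Z : Scheme.{u}} (G : Z.Modules) (z : Z)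
    (hfin : Module.Finite ↑(Z.presheaf.stalk z) ↑(G.presheaf.stalk z)) :
    Module.Free ↑(Z.presheaf.stalk z) ↑(G.presheaf.stalk z) ↔
      FlatMod.IsFlatOverAt (𝟙 Z) G z := by
  rw [isFlatOverAt_id_iff]
  constructor
  · intro h
    infer_instance
  · intro h
    exact Module.free_of_flat_of_isLocalRing

theorem S9769_main {X S X' S' : Scheme.{u}} (f : X ⟶ S) [LocallyOfFinitePresentation f]
    (F : X.Modules) (hF : CohB1.IsFP F) (hfl : FlatMod.IsFlatOver f F)
    (g : S' ⟶ S) (f' : X' ⟶ S') (g' : X' ⟶ X) (hc : IsPullback g' f' f g) :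
    {x' : ↑X' | Module.Free ↑(X'.presheaf.stalk x')
        ↑(((Scheme.Modules.pullback g').obj F).presheaf.stalk x')} =
      g' ⁻¹' {x : ↑X | Module.Free ↑(X.presheaf.stalk x) ↑(F.presheaf.stalk x)} := by
  haveI : F.IsFinitePresentation := hF
  have hq : F.IsQuasicoherent := inferInstance
  have hft : F.IsFiniteType := inferInstance
  have hfl' : FlatMod.IsFlatOver (𝟙 X ≫ f) F := by rw [Category.id_comp]; exact hfl
  haveI : LocallyOfFinitePresentation (𝟙 X ≫ f) := by rw [Category.id_comp]; infer_instance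
  have hX : IsPullback g' (𝟙 X' ≫ f') (𝟙 X ≫ f) g := by
    rw [Category.id_comp, Category.id_comp]; exact hc
  have key := (S1441_main (𝟙 X) f F hq hF hfl').2 g g' f' hc g' (𝟙 X') hX
    (by rw [Category.id_comp, Category.comp_id])
  obtain ⟨hq', hft'⟩ := Groth.Agent.H3.ConsP.isCoh_pullback g' F hF
  haveI : ((Scheme.Modules.pullback g').obj F).IsQuasicoherent := hq'
  ext x'
  have k2 := Set.ext_iff.mp key x'
  simp only [Set.mem_setOf_eq, Set.mem_preimage] at k2 ⊢
  rw [free_stalk_iff F (g' x') (Groth.Agent.H1.CohLen.finite_stalk F hft (g' x')),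
    free_stalk_iff ((Scheme.Modules.pullback g').obj F) x'
      (Groth.Agent.H1.CohLen.finite_stalk ((Scheme.Modules.pullback g').obj F) hft' x')]
  exact k2

end Groth.Agent.H7.FlatFib
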