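import Mathlib

/-!
# Flat + unramified ⇒ formally etale (rings)
-/

set_option autoImplicit false
universe u

open TensorProduct

namespace Groth.Agent.H7.FlatUnr

variable (R A : Type u) [CommRing R] [CommRing A] [Algebra R A]

/-- the `C = A ⊗ A`-torsion statement: an idempotent `t` of `C` with `A = C_t` kills `H¹(L_{C/A})`. -/
theorem smul_h1Cotangent_eq_zero (t : A ⊗[R] A) (ht : IsIdempotentElem t)
    (hker : RingHom.ker (Algebra.TensorProduct.lmul' R (S := A)) = Ideal.span {1 - t})
    (h : Algebra.H1Cotangent A (A ⊗[R] A)) : t • h = 0 := by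
  letI : Algebra (A ⊗[R] A) A := (Algebra.TensorProduct.lmul' R (S := A)).toRingHom.toAlgebra
  haveI : IsScalarTower A (A ⊗[R] A) A := IsScalarTower.of_algebraMap_eq' (by
    ext x
    simp [RingHom.algebraMap_toAlgebra])
  haveI : IsLocalization.Away t A := by
    apply IsLocalization.away_of_isIdempotentElem ht
    · exact hker
    · intro x
      exact ⟨x ⊗ₜ 1, by simp [RingHom.algebraMap_toAlgebra]⟩
  have e1 := Algebra.tensorH1CotangentOfIsLocalization (R := A) (S := A ⊗[R] A) (T := A)
    (Submonoid.powers t)
  haveI : Subsingleton (Algebra.H1Cotangent A A) :=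
    Algebra.FormallySmooth.subsingleton_h1Cotangent
  haveI : Subsingleton (A ⊗[A ⊗[R] A] Algebra.H1Cotangent A (A ⊗[R] A)) := e1.subsingleton
  haveI : IsLocalizedModule (Submonoid.powers t)
      (TensorProduct.mk (A ⊗[R] A) A (Algebra.H1Cotangent A (A ⊗[R] A)) 1) :=
    (isLocalizedModule_iff_isBaseChange (Submonoid.powers t) A _).mpr
      (TensorProduct.isBaseChange _ _ _)
  have h0 : TensorProduct.mk (A ⊗[R] A) A (Algebra.H1Cotangent A (A ⊗[R] A)) 1 h = 0 :=
    Subsingleton.elim _ _
  obtain ⟨⟨_, n, rfl⟩, hs⟩ := (IsLocalizedModule.eq_zero_iff (Submonoid.powers t) _).mp h0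
  have hs' : t ^ n • h = 0 := hs
  rw [← ht.pow_succ_eq n, pow_succ', mul_smul, hs', smul_zero]

end Groth.Agent.H7.FlatUnr

namespace Groth.Agent.H7.FlatUnr

section
variable (R S T : Type u) [CommRing R] [CommRing S] [CommRing T] [Algebra R S] [Algebra R T]
  [Module.Flat R T]

attribute [local instance] Algebra.TensorProduct.rightAlgebra in
theorem tensorH1_smul (c : T ⊗[R] S) (m : Algebra.H1Cotangent R S) :
    Algebra.tensorH1CotangentOfFlat R S T
      (LinearMap.lTensor T
        ((LinearMap.toSpanSingleton S (Algebra.H1Cotangent R S) m).restrictScalars R) c) =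
    c • Algebra.H1Cotangent.map R T S (T ⊗[R] S) m := by
  induction c using TensorProduct.induction_on with
  | zero => simp
  | tmul a b =>
    rw [LinearMap.lTensor_tmul, Algebra.tensorH1CotangentOfFlat_tmul]
    simp only [LinearMap.coe_restrictScalars, LinearMap.toSpanSingleton_apply, map_smul]
    rw [← algebraMap_smul (T ⊗[R] S) b, ← algebraMap_smul (T ⊗[R] S) a, ← mul_smul]
    congr 1
    simp [Algebra.TensorProduct.right_algebraMap_apply]
  | add x y hx hy => rw [map_add, map_add, hx, hy, add_smul]

end

end Groth.Agent.H7.FlatUnr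

namespace Groth.Agent.H7.FlatUnr

variable (R A : Type u) [CommRing R] [CommRing A] [Algebra R A]

theorem lift_lTensor (c : A ⊗[R] A) (m : Algebra.H1Cotangent R A) :
    TensorProduct.lift ((Algebra.lsmul R R (Algebra.H1Cotangent R A)).toLinearMap)
      (LinearMap.lTensor A
        ((LinearMap.toSpanSingleton A (Algebra.H1Cotangent R A) m).restrictScalars R) c) =
    Algebra.TensorProduct.lmul' R c • m := by
  induction c using TensorProduct.induction_on with
  | zero => simp
  | tmul a b =>
    simp [mul_smul]
  | add x y hx hy => rw [map_add, map_add, hx, hy, map_add, add_smul]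

theorem subsingleton_h1Cotangent_of_flat_of_unramified [Module.Flat R A]
    [Algebra.FiniteType R A] [Algebra.FormallyUnramified R A] :
    Subsingleton (Algebra.H1Cotangent R A) := by
  obtain ⟨e, he, hsp⟩ : ∃ e, IsIdempotentElem e ∧
      KaehlerDifferential.ideal R A = Ideal.span {e} :=
    (Ideal.isIdempotentElem_iff_of_fg _ (KaehlerDifferential.ideal_fg R A)).mp <|
      (Ideal.cotangent_subsingleton_iff _).mp <| inferInstanceAs <| Subsingleton Ω[A⁄R]
  have ht : IsIdempotentElem (1 - e) := he.one_sub
  have hker : RingHom.ker (Algebra.TensorProduct.lmul' R (S := A)) =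
      Ideal.span {1 - (1 - e)} := by
    rw [sub_sub_cancel]; exact hsp
  have hlm : Algebra.TensorProduct.lmul' R (S := A) (1 - e) = 1 := by
    have h1 : e ∈ RingHom.ker (Algebra.TensorProduct.lmul' R (S := A)) := by
      rw [hker, sub_sub_cancel]; exact Ideal.mem_span_singleton_self e
    rw [map_sub, map_one, RingHom.mem_ker.mp h1, sub_zero]
  refine subsingleton_of_forall_eq 0 (fun m => ?_)
  have h2 := tensorH1_smul R A A (1 - e) m
  rw [smul_h1Cotangent_eq_zero R A (1 - e) ht hker] at h2
  have h3 := (Algebra.tensorH1CotangentOfFlat R A A).map_eq_zero_iff.mp h2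
  have h4 := lift_lTensor R A (1 - e) m
  rw [h3, map_zero, hlm, one_smul] at h4
  exact h4.symm

theorem formallyEtale_of_flat_of_unramified [Module.Flat R A]
    [Algebra.FiniteType R A] [Algebra.FormallyUnramified R A] :
    Algebra.FormallyEtale R A := by
  haveI : Subsingleton Ω[A⁄R] := inferInstance
  haveI : Algebra.FormallySmooth R A :=
    ⟨Module.Projective.of_free, subsingleton_h1Cotangent_of_flat_of_unramified R A⟩
  exact Algebra.FormallyEtale.of_formallyUnramified_and_formallySmooth

end Groth.Agent.H7.FlatUnr
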