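import Groth.Agent.Lib.Helper7.FlatUnr
import Groth.Agent.Lib.Helper7.FOSp10
import Mathlib

/-!
# Flat + unramified ⇒ formally etale (schemes, algebraic spaces): S10626
-/

set_option autoImplicit false
universe u

open AlgebraicGeometry CategoryTheory Limits MorphismProperty

namespace Groth.Agent.H7.FlatUnrSch

open _root_.AlgSp Groth.Agent.H5.AlgSp Groth.Agent.H5.Thick

theorem isFormallyEtaleHom_of_flat_of_unramified {X Y : Scheme.{u}} (g : X ⟶ Y)
    (h1 : LocallyOfFiniteType g) (h2 : FormallyUnramified g) (h3 : Flat g) :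
    MoreMor.IsFormallyEtaleHom g := by
  apply isFormallyEtaleHom_of_formallyEtale_appLE
  intro V U hV hU e
  have k1 := h1.finiteType_appLE hU hV e
  have k2 := h2.formallyUnramified_appLE hU hV e
  have k3 := h3.flat_appLE hU hV e
  letI := (g.appLE U V e).hom.toAlgebra
  haveI k1' : Algebra.FiniteType Γ(Y, U) Γ(X, V) := k1
  haveI k2' : Algebra.FormallyUnramified Γ(Y, U) Γ(X, V) := k2
  haveI k3' : Module.Flat Γ(Y, U) Γ(X, V) := k3
  exact (Groth.Agent.H7.FlatUnr.formallyEtale_of_flat_of_unramified Γ(Y, U) Γ(X, V) :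
    Algebra.FormallyEtale Γ(Y, U) Γ(X, V))

variable {S : Scheme.{u}}

theorem S10626_main {X Y : AlgSp.Space S} (f : X ⟶ Y)
    (h1 : AlgSp.LocP (@LocallyOfFiniteType ⊓ @FormallyUnramified) f.hom)
    (h2 : AlgSp.LocP @Flat f.hom) :
    AlgSp.IsFormallyEtaleMor f.hom := by
  rw [(Groth.Agent.H7.FOSp10.S10622_main f).1]
  intro U V a b h ha hb w
  exact isFormallyEtaleHom_of_flat_of_unramified h.left (h1 a b h ha hb w).1 (h1 a b h ha hb w).2
    (h2 a b h ha hb w)

end Groth.Agent.H7.FlatUnrSch
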