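import Mathlib

set_option autoImplicit false

namespace Groth.Agent.H7.FldAlg
open Polynomial

section Seq
variable (R : Type*) [CommRing R]

/-- running products of the Euclid sequence. -/
noncomputable def Pseq : ℕ → R[X]
  | 0 => 1
  | n + 1 => Pseq n * (X * Pseq n + 1)

/-- Euclid sequence of pairwise coprime polynomials. -/
noncomputable def Qseq (n : ℕ) : R[X] := X * Pseq R n + 1

theorem Pseq_succ (n : ℕ) : Pseq R (n + 1) = Pseq R n * Qseq R n := rfl

variable {R}

theorem map_Pseq {S : Type*} [CommRing S] (f : R →+* S) (n : ℕ) :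
    (Pseq R n).map f = Pseq S n := by
  induction n with
  | zero => simp [Pseq]
  | succ n ih => simp [Pseq, ih]

theorem map_Qseq {S : Type*} [CommRing S] (f : R →+* S) (n : ℕ) :
    (Qseq R n).map f = Qseq S n := by
  simp [Qseq, map_Pseq]

variable (R)

theorem Qseq_dvd_Pseq {n m : ℕ} (h : n < m) : Qseq R n ∣ Pseq R m := by
  induction m with
  | zero => omega
  | succ m ih =>
    rcases Nat.lt_succ_iff_lt_or_eq.mp h with h' | h'
    · exact (ih h').mul_right _
    · subst h'; exact Dvd.intro_left _ rfl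

theorem isCoprime_Qseq {n m : ℕ} (h : n < m) : IsCoprime (Qseq R n) (Qseq R m) := by
  obtain ⟨d, hd⟩ := Qseq_dvd_Pseq R h
  refine ⟨-(X * d), 1, ?_⟩
  show -(X * d) * Qseq R n + 1 * (X * Pseq R m + 1) = 1
  rw [hd]
  ring

theorem Pseq_monic [IsDomain R] (n : ℕ) : (Pseq R n).Monic ∧ (Qseq R n).Monic := by
  induction n with
  | zero =>
    refine ⟨monic_one, ?_⟩
    simp only [Qseq, Pseq, mul_one]
    exact monic_X_add_C 1
  | succ n ih =>
    have h1 : (Pseq R (n + 1)).Monic := ih.1.mul ih.2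
    refine ⟨h1, ?_⟩
    rw [Qseq]
    have h2 : (X * Pseq R (n + 1)).Monic := monic_X.mul h1
    refine h2.add_of_left ?_
    rw [degree_one, Polynomial.degree_mul, degree_X]
    have : (0 : WithBot ℕ) ≤ (Pseq R (n+1)).degree := by
      rw [Polynomial.zero_le_degree_iff]; exact h1.ne_zero
    calc (0 : WithBot ℕ) < 1 + 0 := by simp
      _ ≤ 1 + (Pseq R (n+1)).degree := by gcongr

theorem Qseq_not_isUnit (k : Type*) [Field k] (n : ℕ) : ¬ IsUnit (Qseq k n) := by
  intro hu
  have h1 := (Pseq_monic k n).2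
  have h2 := (Pseq_monic k n).1
  have := h1.eq_one_of_isUnit hu
  have h3 : (Qseq k n).natDegree = 0 := by rw [this]; simp
  rw [Qseq] at h3
  have h4 : (X * Pseq k n + 1).natDegree = (X * Pseq k n).natDegree := by
    apply natDegree_add_eq_left_of_natDegree_lt
    rw [natDegree_one, natDegree_X_mul h2.ne_zero]
    omega
  rw [h4, natDegree_X_mul h2.ne_zero] at h3
  omega

end Seq

section KeyLemma
open PrimeSpectrum

/-- nonzero `h ∈ k[X]` lies in only finitely many primes. -/
theorem finite_primes_of_mem (k : Type*) [Field k] (h : k[X]) (hh : h ≠ 0) :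
    {q : Ideal k[X] | q.IsPrime ∧ h ∈ q}.Finite := by
  refine (Ideal.finite_minimalPrimes_of_isNoetherianRing k[X] (Ideal.span {h})).subset ?_
  rintro q ⟨hq, hhq⟩
  refine ⟨⟨hq, (Ideal.span_singleton_le_iff_mem q).mpr hhq⟩, ?_⟩
  rintro q' ⟨hq', hhq'⟩ hle
  have hne : q' ≠ ⊥ := by
    rintro rfl
    exact hh (by simpa using (Ideal.span_singleton_le_iff_mem (⊥ : Ideal k[X])).mp hhq')
  have hmax : q'.IsMaximal := hq'.isMaximal hne
  rw [hmax.eq_of_le hq.ne_top hle]

/-- **Key lemma**: the image of a field in a domain of finite type over `k` is algebraic over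
`k`. -/
theorem isAlgebraic_of_field_hom (k : Type*) [Field k] (B : Type*) [CommRing B] [IsDomain B]
    [Algebra k B] [Algebra.FiniteType k B] (E : Type*) [Field E] (ι : E →+* B) (c : E) :
    IsAlgebraic k (ι c) := by
  by_contra htr
  obtain ⟨b, hb⟩ : ∃ b, b = ι c := ⟨_, rfl⟩
  rw [← hb] at htr
  have hinj : Function.Injective (aeval b : k[X] →ₐ[k] B) := transcendental_iff_injective.mp htr
  obtain ⟨φ, hφ⟩ : ∃ φ : k[X] →+* B, φ = (aeval b : k[X] →ₐ[k] B).toRingHom := ⟨_, rfl⟩
  have hφinj : Function.Injective φ := by rw [hφ]; exact hinj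
  have hft : φ.FiniteType := by
    refine RingHom.FiniteType.of_comp_finiteType (f := (C : k →+* k[X])) ?_
    have : φ.comp (C : k →+* k[X]) = algebraMap k B := by
      ext x; simp [hφ]
    rw [this]
    exact (RingHom.finiteType_algebraMap).mpr inferInstance
  have hfp : φ.FinitePresentation := RingHom.FinitePresentation.of_finiteType.mp hft
  obtain ⟨S, hS⟩ := exists_constructibleSetData_iff.mpr (isConstructible_range_comap hfp)
  -- the generic point is in the range
  have hbot : (⟨⊥, Ideal.isPrime_bot⟩ : PrimeSpectrum k[X]) ∈ Set.range (comap φ) := by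
    refine ⟨⟨⊥, Ideal.isPrime_bot⟩, ?_⟩
    ext x
    simp only [comap_asIdeal, Ideal.mem_comap, Ideal.mem_bot]
    exact ⟨fun h => hφinj (by rw [h, map_zero]), fun h => by rw [h, map_zero]⟩
  rw [← hS, ConstructibleSetData.toSet] at hbot
  simp only [Set.mem_iUnion] at hbot
  obtain ⟨D, hD, hbD⟩ := hbot
  rw [BasicConstructibleSetData.toSet] at hbD
  have hg : ∀ i, D.g i = 0 := by
    intro i
    have := hbD.1 (Set.mem_range_self i)
    simpa using this
  have hf : D.f ≠ 0 := by
    intro h0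
    apply hbD.2
    rw [mem_zeroLocus]
    simp [h0]
  -- primes not containing `D.f` are in the range
  have hrange : ∀ q : Ideal k[X], q.IsPrime → D.f ∉ q → ∃ Q : Ideal B, Q.IsPrime ∧ Q.comap φ = q := by
    intro q hq hfq
    have hmem : (⟨q, hq⟩ : PrimeSpectrum k[X]) ∈ S.toSet := by
      rw [ConstructibleSetData.toSet]
      simp only [Set.mem_iUnion]
      refine ⟨D, hD, ?_, ?_⟩
      · rw [mem_zeroLocus]
        rintro _ ⟨i, rfl⟩
        rw [hg i]; exact q.zero_mem
      · rw [mem_zeroLocus]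
        intro h
        exact hfq (h (Set.mem_singleton _))
    rw [hS] at hmem
    obtain ⟨Q, hQ⟩ := hmem
    exact ⟨Q.asIdeal, Q.isPrime, congrArg PrimeSpectrum.asIdeal hQ⟩
  -- every Qseq is sent to a unit
  have hunit : ∀ n, IsUnit (φ (Qseq k n)) := by
    intro n
    have h1 : φ (Qseq k n) = ι (eval c (Qseq E n)) := by
      rw [hφ]
      show aeval b (Qseq k n) = _
      rw [aeval_def, ← eval_map, map_Qseq, hb, ← map_Qseq ι, eval_map, eval₂_hom]
    have h2 : eval c (Qseq E n) ≠ 0 := by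
      intro h0
      have h3 : φ (Qseq k n) = 0 := by rw [h1, h0, map_zero]
      have h4 : Qseq k n = 0 := hφinj (by rw [h3, map_zero])
      exact (Pseq_monic k n).2.ne_zero h4
    rw [h1]
    exact (isUnit_iff_ne_zero.mpr h2).map ι
  -- choose maximal ideals containing Qseq
  have hchoose : ∀ n, ∃ q : Ideal k[X], q.IsMaximal ∧ Qseq k n ∈ q := by
    intro n
    obtain ⟨q, hq, hle⟩ := Ideal.exists_le_maximal (Ideal.span {Qseq k n})
      (by rw [Ne, Ideal.span_singleton_eq_top]; exact Qseq_not_isUnit k n)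
    exact ⟨q, hq, hle (Ideal.mem_span_singleton_self _)⟩
  choose q hqmax hqmem using hchoose
  have hfq : ∀ n, D.f ∈ q n := by
    intro n
    by_contra hnot
    obtain ⟨Q, hQ, hQq⟩ := hrange (q n) (hqmax n).isPrime hnot
    have : Qseq k n ∈ Q.comap φ := by rw [hQq]; exact hqmem n
    exact hQ.ne_top (Ideal.eq_top_of_isUnit_mem _ this (hunit n))
  have hqinj : Function.Injective q := by
    intro n m hnm
    by_contra hne
    wlog hlt : n < m generalizing n m
    · exact this hnm.symm (Ne.symm hne) (lt_of_le_of_ne (not_lt.mp hlt) (Ne.symm hne))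
    obtain ⟨a, b', hab⟩ := isCoprime_Qseq k hlt
    have h1 : (1 : k[X]) ∈ q n := by
      rw [← hab]
      refine (q n).add_mem ((q n).mul_mem_left _ (hqmem n)) ((q n).mul_mem_left _ ?_)
      rw [hnm]; exact hqmem m
    exact (hqmax n).ne_top ((Ideal.eq_top_iff_one _).mpr h1)
  have hfin := finite_primes_of_mem k D.f hf
  have : Set.range q ⊆ {q : Ideal k[X] | q.IsPrime ∧ D.f ∈ q} := by
    rintro _ ⟨n, rfl⟩
    exact ⟨(hqmax n).isPrime, hfq n⟩
  exact Set.infinite_range_of_injective hqinj (hfin.subset this)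

end KeyLemma

section General

/-- the image of a field in a `k`-algebra of finite type is integral over `k`. -/
theorem isIntegral_of_field_hom (k : Type*) [Field k] (B : Type*) [CommRing B]
    [Algebra k B] [Algebra.FiniteType k B] (E : Type*) [Field E] (ι : E →+* B) (c : E) :
    IsIntegral k (ι c) := by
  classical
  haveI : IsNoetherianRing B := Algebra.FiniteType.isNoetherianRing k B
  have hfin : (minimalPrimes B).Finite := minimalPrimes.finite_of_isNoetherianRing B
  have hP : ∀ p ∈ minimalPrimes B, ∃ P : k[X], P ≠ 0 ∧ aeval (ι c) P ∈ p := by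
    intro p hp
    haveI : p.IsPrime := hp.1.1
    have h1 := isAlgebraic_of_field_hom k (B ⧸ p) E ((Ideal.Quotient.mk p).comp ι) c
    obtain ⟨P, hP0, hP⟩ := h1
    refine ⟨P, hP0, ?_⟩
    rw [RingHom.comp_apply] at hP
    have h2 : aeval ((Ideal.Quotient.mk p) (ι c)) P = Ideal.Quotient.mkₐ k p (aeval (ι c) P) :=
      aeval_algHom_apply (Ideal.Quotient.mkₐ k p) (ι c) P
    rw [h2] at hP
    exact Ideal.Quotient.eq_zero_iff_mem.mp hP
  choose! P hP0 hPmem using hP
  set Q : k[X] := ∏ p ∈ hfin.toFinset, P p with hQ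
  have hQ0 : Q ≠ 0 := Finset.prod_ne_zero_iff.mpr fun p hp => hP0 p (hfin.mem_toFinset.mp hp)
  have hnil : aeval (ι c) Q ∈ nilradical B := by
    rw [nilradical, ← Ideal.sInf_minimalPrimes, Ideal.mem_sInf]
    intro p hp
    have hp' : p ∈ minimalPrimes B := hp
    rw [hQ, map_prod]
    exact Ideal.prod_mem p (hfin.mem_toFinset.mpr hp') (hPmem p hp')
  obtain ⟨N, hN⟩ := hnil
  have halg : IsAlgebraic k (ι c) := ⟨Q ^ N, pow_ne_zero _ hQ0, by rw [map_pow, hN]⟩
  exact halg.isIntegral

end General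

section RingHomForm

theorem isIntegralElem_of_field_hom {k : Type*} [Field k] {B : Type*} [CommRing B]
    (ψ : k →+* B) (hψ : ψ.FiniteType) {E : Type*} [Field E] (ι : E →+* B) (c : E) :
    ψ.IsIntegralElem (ι c) := by
  letI := ψ.toAlgebra
  haveI : Algebra.FiniteType k B := hψ
  exact isIntegral_of_field_hom k B E ι c

/-- local annihilation: if `c` is integral over the field `k` and `M₀(c)` lies in the prime `p`,
then some `t ∉ p` kills a power of `M₀(c)`. -/
theorem exists_mul_pow_eq_zero {k : Type*} [Field k] {R : Type*} [CommRing R] (ψ : k →+* R)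
    (c : R) (hc : ψ.IsIntegralElem c) (p : Ideal R) [p.IsPrime] (M₀ : k[X])
    (hM₀ : eval₂ ψ c M₀ ∈ p) : ∃ t : R, t ∉ p ∧ ∃ N : ℕ, t * (eval₂ ψ c M₀) ^ N = 0 := by
  obtain ⟨M, hMmonic, hM⟩ := hc
  obtain ⟨ev, hev⟩ : ∃ ev : k[X] →+* R, ev = eval₂RingHom ψ c := ⟨_, rfl⟩
  have hev' : ∀ P, ev P = eval₂ ψ c P := fun P => by rw [hev]; rfl
  obtain ⟨n, hn⟩ : ∃ n : Ideal k[X], n = p.comap ev := ⟨_, rfl⟩
  haveI : n.IsPrime := by rw [hn]; infer_instance
  let S : Submonoid k[X] := n.primeCompl ⊔ Submonoid.powers M₀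
  by_cases hdisj : Disjoint ((RingHom.ker ev : Ideal k[X]) : Set k[X]) S
  · exfalso
    obtain ⟨q, hq, hle, hqS⟩ := Ideal.exists_le_prime_disjoint _ S hdisj
    have hqn : q ≤ n := by
      intro x hx
      by_contra hxn
      exact Set.disjoint_left.mp hqS hx
        ((le_sup_left : n.primeCompl ≤ S) hxn)
    have hM₀q : M₀ ∉ q := fun h =>
      Set.disjoint_left.mp hqS h ((le_sup_right : Submonoid.powers M₀ ≤ S)
        (Submonoid.mem_powers M₀))
    have hqne : q ≠ ⊥ := by
      rintro rfl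
      have : M ∈ RingHom.ker ev := by rw [RingHom.mem_ker, hev']; exact hM
      exact hMmonic.ne_zero (by simpa using hle this)
    have hqmax : q.IsMaximal := hq.isMaximal hqne
    have : q = n := hqmax.eq_of_le (Ideal.IsPrime.ne_top inferInstance) hqn
    apply hM₀q
    rw [this, hn, Ideal.mem_comap, hev']
    exact hM₀
  · rw [Set.not_disjoint_iff] at hdisj
    obtain ⟨x, hxker, hxS⟩ := hdisj
    obtain ⟨t₀, ht₀, y, ⟨N, rfl⟩, rfl⟩ := Submonoid.mem_sup.mp hxS
    refine ⟨ev t₀, ?_, N, ?_⟩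
    · intro h
      apply ht₀
      show t₀ ∈ n
      rw [hn]
      exact Ideal.mem_comap.mpr h
    · have h1 : ev (t₀ * M₀ ^ N) = 0 := (RingHom.mem_ker).mp hxker
      rw [map_mul, map_pow, hev' M₀] at h1
      exact h1

end RingHomForm

end Groth.Agent.H7.FldAlg
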