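import Mathlib
import Groth.Prelude.Def_Coh
import Groth.Agent.Lib.Helper7.FldAlgA

set_option autoImplicit false

namespace Groth.Agent.H7.FldAlg
universe u
open CategoryTheory AlgebraicGeometry TopologicalSpace Polynomial Opposite

/-- restriction of global sections. -/
noncomputable abbrev resT (X : Scheme.{u}) (U : X.Opens) : Γ(X, ⊤) →+* Γ(X, U) :=
  (X.presheaf.map (homOfLE (le_top : U ≤ ⊤)).op).hom

theorem basicOpen_resT (X : Scheme.{u}) (U : X.Opens) (s : Γ(X, ⊤)) :
    X.basicOpen (resT X U s) = U ⊓ X.basicOpen s :=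
  Scheme.basicOpen_res _ _ _

/-- globalisation: a global function on a connected reduced scheme which is locally integral
over a field `k` is integral over `k`. -/
theorem isIntegralElem_of_local (X : Scheme.{u}) [IsReduced X] [ConnectedSpace X]
    {k : Type*} [Field k] (ψ : k →+* Γ(X, ⊤)) (c : Γ(X, ⊤))
    (h : ∀ q : X, ∃ U : X.Opens, q ∈ U ∧
      ((resT X U).comp ψ).IsIntegralElem (resT X U c)) : ψ.IsIntegralElem c := by
  obtain ⟨q₀⟩ : Nonempty X := ConnectedSpace.toNonempty
  obtain ⟨U₀, hq₀, M₀, hM₀monic, hM₀⟩ := h q₀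
  obtain ⟨s, hs⟩ : ∃ s, s = eval₂ ψ c M₀ := ⟨_, rfl⟩
  have hres : ∀ U : X.Opens, resT X U s = eval₂ ((resT X U).comp ψ) (resT X U c) M₀ := by
    intro U
    rw [hs, Polynomial.hom_eval₂]
  suffices hbot : X.basicOpen s = ⊥ by
    refine ⟨M₀, hM₀monic, ?_⟩
    rw [← hs]
    exact (basicOpen_eq_bot_iff s).mp hbot
  have hclosed : IsClosed ((X.basicOpen s : Set X)ᶜ) := (X.basicOpen s).isOpen.isClosed_compl
  have hopen : IsOpen ((X.basicOpen s : Set X)ᶜ) := by
    rw [isOpen_iff_forall_mem_open]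
    intro q hq
    obtain ⟨U, hqU, hint⟩ := h q
    let p : Ideal Γ(X, U) :=
      (IsLocalRing.maximalIdeal (X.presheaf.stalk q)).comap (X.presheaf.germ U q hqU).hom
    haveI : p.IsPrime := Ideal.comap_isPrime _ _
    have hsp : eval₂ ((resT X U).comp ψ) (resT X U c) M₀ ∈ p := by
      rw [← hres U]
      show (X.presheaf.germ U q hqU).hom (resT X U s) ∈ IsLocalRing.maximalIdeal _
      rw [IsLocalRing.mem_maximalIdeal, mem_nonunits_iff]
      intro hu
      have : q ∈ X.basicOpen (resT X U s) := (Scheme.mem_basicOpen X _ q hqU).mpr hu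
      rw [basicOpen_resT] at this
      exact hq this.2
    obtain ⟨t, htp, N, htN⟩ := exists_mul_pow_eq_zero ((resT X U).comp ψ) (resT X U c) hint p M₀ hsp
    rw [← hres U] at htN
    refine ⟨(X.basicOpen t : Set X), ?_, (X.basicOpen t).isOpen, ?_⟩
    · intro x hx hxs
      have hxU : x ∈ U := Scheme.basicOpen_le X t hx
      have h1 : x ∈ X.basicOpen (t * (resT X U s) ^ (N + 1)) := by
        rw [Scheme.basicOpen_mul, Scheme.basicOpen_pow _ _ (Nat.succ_pos N), basicOpen_resT]
        exact ⟨hx, hxU, hxs⟩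
      rw [pow_succ, ← mul_assoc, htN, zero_mul, Scheme.basicOpen_zero] at h1
      exact h1
    · show q ∈ X.basicOpen t
      rw [Scheme.mem_basicOpen X t q hqU]
      by_contra hnu
      apply htp
      show (X.presheaf.germ U q hqU).hom t ∈ IsLocalRing.maximalIdeal _
      rw [IsLocalRing.mem_maximalIdeal, mem_nonunits_iff]
      exact hnu
  have hne : ((X.basicOpen s : Set X)ᶜ).Nonempty := by
    refine ⟨q₀, fun hq => ?_⟩
    have h1 : q₀ ∈ X.basicOpen (resT X U₀ s) := by
      rw [basicOpen_resT]; exact ⟨hq₀, hq⟩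
    rw [hres U₀, hM₀, Scheme.basicOpen_zero] at h1
    exact h1
  have huniv := IsClopen.eq_univ ⟨hclosed, hopen⟩ hne
  ext x
  simp only [Opens.coe_bot, Set.mem_empty_iff_false, iff_false]
  intro hx
  have : x ∈ ((X.basicOpen s : Set X)ᶜ) := by rw [huniv]; trivial
  exact this hx

theorem isIntegralElem_trans_field {k₁ k₂ R : Type*} [Field k₁] [Field k₂] [CommRing R]
    (ψ₁ : k₁ →+* R) (ψ₂ : k₂ →+* R) (h : ∀ e, ψ₁.IsIntegralElem (ψ₂ e)) (x : R)
    (hx : ψ₂.IsIntegralElem x) : ψ₁.IsIntegralElem x := by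
  letI := ψ₁.toAlgebra
  obtain ⟨P, hPmonic, hP⟩ := hx
  let A := integralClosure k₁ R
  let φ : k₂ →+* A := ψ₂.codRestrict A (fun e => h e)
  have hxA : IsIntegral A x := by
    refine ⟨P.map φ, hPmonic.map φ, ?_⟩
    rw [Polynomial.eval₂_map]
    have : (algebraMap A R).comp φ = ψ₂ := by
      ext e; rfl
    rw [this]; exact hP
  exact isIntegral_trans (R := k₁) (A := A) x hxA

/-- the structure map on global functions (same as `tg`, with the commutative ring
structure on the target). -/
noncomputable def tg {X : Scheme.{u}} {A : Type u} [CommRing A] (f : X ⟶ Spec (CommRingCat.of A)) :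
    A →+* Γ(X, ⊤) :=
  (f.appTop).hom.comp (Scheme.ΓSpecIso (CommRingCat.of A)).inv.hom

/-- on a connected reduced scheme locally of finite type over `k₁`, the image of any field in
the global functions is integral over `k₁`. -/
theorem isIntegralElem_of_field (X : Scheme.{u}) [IsReduced X] [ConnectedSpace X]
    (k₁ : Type u) [Field k₁] (a : X ⟶ Spec (CommRingCat.of k₁)) [LocallyOfFiniteType a]
    {E : Type*} [Field E] (ι : E →+* Γ(X, ⊤)) (e : E) :
    (tg a).IsIntegralElem (ι e) := by
  apply isIntegralElem_of_local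
  intro q
  obtain ⟨_, ⟨U, hU, rfl⟩, hqU, -⟩ :=
    (X.isBasis_affineOpens).exists_subset_of_mem_open (Set.mem_univ q) isOpen_univ
  refine ⟨U, hqU, ?_⟩
  have hft : ((resT X U).comp (tg a)).FiniteType := by
    have h1 := HasRingHomProperty.appLE @LocallyOfFiniteType a inferInstance
      ⟨⊤, isAffineOpen_top _⟩ ⟨U, hU⟩ (le_top)
    have h2 : ((resT X U).comp (tg a)) =
        (a.appLE ⊤ U le_top).hom.comp (Scheme.ΓSpecIso (CommRingCat.of k₁)).inv.hom := by
      rfl
    rw [h2]
    refine h1.comp (RingHom.FiniteType.of_surjective _ ?_)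
    exact (ConcreteCategory.bijective_of_isIso (Scheme.ΓSpecIso (CommRingCat.of k₁)).inv).2
  exact isIntegralElem_of_field_hom ((resT X U).comp (tg a)) hft ((resT X U).comp ι) e

theorem main (X : Scheme.{u}) [IsReduced X] [ConnectedSpace X]
    (k₁ k₂ : Type u) [Field k₁] [Field k₂]
    (a : X ⟶ Spec (CommRingCat.of k₁)) (b : X ⟶ Spec (CommRingCat.of k₂))
    [LocallyOfFiniteType a] [LocallyOfFiniteType b] (x : Γ(X, ⊤)) :
    (tg a).IsIntegralElem x ↔ (tg b).IsIntegralElem x := by
  constructor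
  · intro hx
    exact isIntegralElem_trans_field (tg b) (tg a)
      (fun e => isIntegralElem_of_field X k₂ b (tg a) e) x hx
  · intro hx
    exact isIntegralElem_trans_field (tg a) (tg b)
      (fun e => isIntegralElem_of_field X k₁ a (tg b) e) x hx

end Groth.Agent.H7.FldAlg
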