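import Mathlib
import Groth.Prelude.Def_EtShriek2
import Groth.Prelude.Def_PBC
import Groth.Agent.Lib.Helper7.Sup1
import Groth.Agent.Lib.Helper7.ST4

set_option autoImplicit false

universe u

open CategoryTheory CategoryTheory.Limits Opposite AlgebraicGeometry

namespace Groth.Agent.H7.Sup

open Groth.Agent.H7.ES Groth.Agent.H7.GalCov Groth.Agent.H7.ST

variable {S : Scheme.{u}} (F : EtCoh.Ab S)

lemma sectSupp_eq_compl (U : S.Etale) (σ : EtCoh.sect F U) :
    EtShriek.sectSupp F U σ = ((vanOpen F U σ : Set U.left))ᶜ := by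
  ext x
  rw [Set.mem_compl_iff, SetLike.mem_coe, mem_vanOpen]
  constructor
  · rintro hx ⟨V, φ, hφ, w, hw⟩
    exact hx V φ ⟨w, hw⟩ hφ
  · intro hx W g ⟨w, hw⟩ hg
    exact hx ⟨W, g, hg, w, hw⟩

theorem isClosed_sectSupp (U : S.Etale) (σ : EtCoh.sect F U) :
    IsClosed (EtShriek.sectSupp F U σ) := by
  rw [sectSupp_eq_compl]
  exact (vanOpen F U σ).isOpen.isClosed_compl

section Stalk

variable {Ω : Type u} [Field Ω] [IsSepClosed Ω] (ξ : Spec (CommRingCat.of Ω) ⟶ S)

/-- The germ of a section at a lift of the geometric point. -/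
noncomputable abbrev germ (U : S.Etale) (t : (Scheme.pointSmallEtale ξ).fiber.obj U)
    (σ : EtCoh.sect F U) : ((EtCoh.stalk ξ).obj F : AddCommGrpCat.{u + 1}) :=
  (Scheme.pointSmallEtale ξ).toPresheafFiber U t F.obj σ

lemma germ_eq_zero_of_map_eq_zero {U W : S.Etale} (g : W ⟶ U)
    (y : (Scheme.pointSmallEtale ξ).fiber.obj W) (σ : EtCoh.sect F U)
    (h : F.obj.map g.op σ = 0) :
    germ F ξ U ((Scheme.pointSmallEtale ξ).fiber.map g y) σ = 0 := by
  have := (Scheme.pointSmallEtale ξ).toPresheafFiber_w_apply g y F.obj σ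
  rw [h, map_zero] at this
  exact this.symm

end Stalk

theorem supp_subset (x : S) (hx : x ∈ EtPBC.supp F) :
    x ∈ ⋃ (U : S.Etale) (σ : EtCoh.sect F U), U.hom.base '' EtShriek.sectSupp F U σ := by
  obtain ⟨Ω, _, _, ξ, hξ, hnz⟩ := hx
  have hne : ∃ p : ((EtCoh.stalk ξ).obj F : AddCommGrpCat.{u + 1}), p ≠ 0 := by
    by_contra hcon
    push_neg at hcon
    apply hnz
    haveI : Subsingleton ((EtCoh.stalk ξ).obj F : AddCommGrpCat.{u + 1}) :=
      ⟨fun a b => (hcon a).trans (hcon b).symm⟩
    exact AddCommGrpCat.isZero_of_subsingleton _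
  obtain ⟨p, hp⟩ := hne
  obtain ⟨U, t, z, rfl⟩ := (Scheme.pointSmallEtale ξ).toPresheafFiber_jointly_surjective
    (P := F.obj) p
  simp only [Set.mem_iUnion]
  let tl : Spec (CommRingCat.of Ω) ⟶ U.left := t.left
  have h2 : tl ≫ U.hom = ξ := Over.w t
  refine ⟨U, z, tl.base default, ?_, ?_⟩
  · intro W g ⟨w, hw⟩ hg
    haveI := etale_left g
    obtain ⟨l, hl₁, hl₂⟩ := Scheme.exists_fac_of_etale_of_isSepClosed g.left tl w hw
    have h1 : l ≫ W.hom = ξ := by
      have e : g.left ≫ U.hom = W.hom := MorphismProperty.Over.w g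
      calc l ≫ W.hom = l ≫ g.left ≫ U.hom := by rw [e]
        _ = (l ≫ g.left) ≫ U.hom := (Category.assoc _ _ _).symm
        _ = tl ≫ U.hom := by rw [hl₁]
        _ = ξ := h2
    let y : (Scheme.pointSmallEtale ξ).fiber.obj W := Over.homMk l h1
    have hy : (Scheme.pointSmallEtale ξ).fiber.map g y = t := by
      apply Over.OverMorphism.ext
      exact hl₁
    apply hp
    have := germ_eq_zero_of_map_eq_zero F ξ g y z hg
    rw [hy] at this
    exact this
  · have h3 : U.hom.base (tl.base default) = ξ.base default := by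
      rw [← h2]; rfl
    have : ξ.base default ∈ Set.range ξ := ⟨default, rfl⟩
    rw [hξ] at this
    exact h3.trans this

theorem subset_supp (U : S.Etale) (σ : EtCoh.sect F U) (u : U.left)
    (hu : u ∈ EtShriek.sectSupp F U σ) : U.hom.base u ∈ EtPBC.supp F := by
  let Ω : Type u := SeparableClosure (U.left.residueField u)
  let ξU : Spec (CommRingCat.of Ω) ⟶ U.left :=
    Spec.map (CommRingCat.ofHom (algebraMap (U.left.residueField u) Ω)) ≫
      U.left.fromSpecResidueField u
  have hξU : ∀ a : Spec (CommRingCat.of Ω), ξU.base a = u := fun a =>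
    Scheme.fromSpecResidueField_apply u _
  let ξ : Spec (CommRingCat.of Ω) ⟶ S := ξU ≫ U.hom
  refine ⟨Ω, inferInstance, inferInstance, ξ, ?_, ?_⟩
  · ext y
    constructor
    · rintro ⟨a, rfl⟩
      change U.hom.base (ξU.base a) = U.hom.base u
      rw [hξU]
    · intro hy
      refine ⟨default, ?_⟩
      change U.hom.base (ξU.base default) = y
      rw [hξU]
      exact hy.symm
  · intro hz
    let t : (Scheme.pointSmallEtale ξ).fiber.obj U := Over.homMk ξU rfl
    have h0 : germ F ξ U t σ = germ F ξ U t 0 := by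
      haveI : Subsingleton ((EtCoh.stalk ξ).obj F : AddCommGrpCat.{u + 1}) :=
        AddCommGrpCat.subsingleton_of_isZero hz
      exact Subsingleton.elim _ _
    obtain ⟨W, g, y, hy, hg⟩ :=
      ((Scheme.pointSmallEtale ξ).toPresheafFiber_eq_iff' (P := F.obj) U t σ 0).1 h0
    rw [map_zero] at hg
    let yl : Spec (CommRingCat.of Ω) ⟶ W.left := y.left
    have hyl : yl ≫ g.left = ξU := congrArg (fun k => k.left) hy
    refine hu W g ⟨yl.base default, ?_⟩ hg
    have : g.left.base (yl.base default) = ξU.base default := by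
      rw [← hyl]; rfl
    rw [this, hξU]

theorem supp_eq :
    EtPBC.supp F = ⋃ (U : S.Etale) (σ : EtCoh.sect F U), U.hom.base '' EtShriek.sectSupp F U σ := by
  ext x
  constructor
  · exact supp_subset F x
  · intro hx
    simp only [Set.mem_iUnion] at hx
    obtain ⟨U, σ, u, hu, rfl⟩ := hx
    exact subset_supp F U σ u hu

end Groth.Agent.H7.Sup
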