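import Mathlib
import Groth.Prelude.Def_EtShriek2
import Groth.Agent.Lib.Helper7.Sup2
import Groth.Agent.Lib.Helper7.ES15
import Groth.Agent.Lib.Helper7.ST1

set_option autoImplicit false

universe u

open CategoryTheory CategoryTheory.Limits Opposite AlgebraicGeometry

namespace Groth.Agent.H7.Sup

open Groth.Agent.H7.ES Groth.Agent.H7.GalCov Groth.Agent.H7.ST

variable {S : Scheme.{u}} (F : EtCoh.Ab S)

/-- The morphism `ℤ_S ⟶ F` attached to a global section. -/
noncomputable def secHom (σ : (EtCore.gsec S).obj F) : EtCoh.const S ℤ ⟶ F :=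
  ((EtCore.constAdj S).homEquiv ZZ.{u} F).symm (zzHom _ σ)

lemma homEquiv_secHom (σ : (EtCore.gsec S).obj F) :
    (EtCore.constAdj S).homEquiv ZZ.{u} F (secHom F σ) = zzHom _ σ :=
  Equiv.apply_symm_apply _ _

/-- The canonical section `1` of the constant sheaf `ℤ`. -/
noncomputable def oneSec : (EtCore.gsec S).obj (EtCoh.const S ℤ) :=
  ((EtCore.constAdj S).unit.app ZZ.{u}).hom ⟨1⟩

lemma secHom_oneSec (σ : (EtCore.gsec S).obj F) :
    ((secHom F σ).hom.app (op (EtCoh.top S))).hom (oneSec (S := S)) = σ := by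
  have h := homEquiv_secHom F σ
  rw [Adjunction.homEquiv_unit] at h
  have h2 := congrArg (fun t => t.hom (⟨1⟩ : ULift.{u + 1} ℤ)) h
  exact h2.trans (zzHom_one _ σ)

lemma zzHom_ext {A : AddCommGrpCat.{u + 1}} (a b : ZZ.{u} ⟶ A)
    (h : a.hom ⟨1⟩ = b.hom ⟨1⟩) : a = b := by
  ext ⟨n⟩
  have hn : (⟨n⟩ : ULift.{u + 1} ℤ) = n • (⟨1⟩ : ULift.{u + 1} ℤ) := by
    apply ULift.ext
    simp
  change a.hom ⟨n⟩ = b.hom ⟨n⟩
  rw [hn, map_zsmul, map_zsmul, h]

variable {T : Scheme.{u}} (f : T ⟶ S)

lemma homEquiv_pull_secHom (σ : (EtCore.gsec S).obj F) :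
    (EtCore.constAdj T).homEquiv ZZ.{u} _
        ((EtCore.pullConst f ℤ).inv ≫ (EtCoh.pull f).map (secHom F σ)) =
      zzHom _ σ ≫ res f F := by
  rw [homEquiv_pullConst_inv_map, homEquiv_secHom]

lemma res_eq_zero_iff (σ : (EtCore.gsec S).obj F) :
    (res f F).hom σ = 0 ↔ (EtCoh.pull f).map (secHom F σ) = 0 := by
  constructor
  · intro h
    have h1 : (EtCore.pullConst f ℤ).inv ≫ (EtCoh.pull f).map (secHom F σ) = 0 := by
      apply ((EtCore.constAdj T).homEquiv ZZ.{u} _).injective
      rw [homEquiv_pull_secHom]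
      refine (zzHom_ext _ _ ?_).trans ((EtCore.constAdj T).homAddEquiv ZZ.{u} _).map_zero.symm
      change (res f F).hom ((zzHom _ σ).hom ⟨1⟩) = 0
      rw [zzHom_one, h]
    have := congrArg ((EtCore.pullConst f ℤ).hom ≫ ·) h1
    simpa using this
  · intro h
    have h1 := homEquiv_pull_secHom F f σ
    rw [h, comp_zero] at h1
    have h2 : zzHom _ σ ≫ res f F = 0 :=
      h1.symm.trans ((EtCore.constAdj T).homAddEquiv ZZ.{u} _).map_zero
    have h3 := congrArg (fun t => t.hom (⟨1⟩ : ULift.{u + 1} ℤ)) h2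
    change (res f F).hom ((zzHom _ σ).hom ⟨1⟩) = 0 at h3
    rwa [zzHom_one] at h3

section B

variable {Ω : Type u} [Field Ω] [IsSepClosed Ω]

/-- If `σ` has zero germ at the geometric point `η`, then the image point lies in the vanishing
locus. -/
lemma mem_vanOpen_of_germ_eq_zero (η : Spec (CommRingCat.of Ω) ⟶ S) (σ : (EtCore.gsec S).obj F)
    (h : germ F η (EtCoh.top S) (Over.homMk η (Category.comp_id η)) σ = 0) :
    η.base default ∈ vanOpen F (EtCoh.top S) σ := by
  have h0 : germ F η (EtCoh.top S) (Over.homMk η (Category.comp_id η)) σ =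
      germ F η (EtCoh.top S) (Over.homMk η (Category.comp_id η)) 0 := h.trans (map_zero _).symm
  obtain ⟨Y, g, y, -, hg⟩ :=
    ((Scheme.pointSmallEtale η).toPresheafFiber_eq_iff' (P := F.obj) _ _ σ 0).1 h0
  rw [map_zero] at hg
  refine (mem_vanOpen F).2 ⟨Y, g, hg, ?_⟩
  let yl : Spec (CommRingCat.of Ω) ⟶ Y.left := y.left
  have h2 : yl ≫ Y.hom = η := Over.w y
  have h3 : g.left ≫ 𝟙 S = Y.hom := MorphismProperty.Over.w g
  have h4 : yl ≫ g.left = η :=
    (congrArg (yl ≫ ·) ((Category.comp_id g.left).symm.trans h3)).trans h2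
  refine ⟨yl.base default, ?_⟩
  exact congrArg (fun k : Spec (CommRingCat.of Ω) ⟶ S => k.base default) h4

lemma germ_eq_zero_of_stalk_map_eq_zero (η : Spec (CommRingCat.of Ω) ⟶ S)
    (σ : (EtCore.gsec S).obj F) (h : (EtCoh.stalk η).map (secHom F σ) = 0) :
    germ F η (EtCoh.top S) (Over.homMk η (Category.comp_id η)) σ = 0 := by
  have h1 := (Scheme.pointSmallEtale η).toPresheafFiber_naturality_apply (secHom F σ).hom
    (EtCoh.top S) (Over.homMk η (Category.comp_id η)) (oneSec (S := S))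
  rw [secHom_oneSec] at h1
  refine h1.symm.trans ?_
  have h2 : (Scheme.pointSmallEtale η).presheafFiber.map (secHom F σ).hom = 0 := h
  rw [h2]
  rfl

theorem mem_vanOpen_of_pull_map_eq_zero (σ : (EtCore.gsec S).obj F)
    (h : (EtCoh.pull f).map (secHom F σ) = 0) (x : T) :
    f.base x ∈ vanOpen F (EtCoh.top S) σ := by
  let Ω₀ : Type u := SeparableClosure (T.residueField x)
  let ξ : Spec (CommRingCat.of Ω₀) ⟶ T :=
    Spec.map (CommRingCat.ofHom (algebraMap (T.residueField x) Ω₀)) ≫ T.fromSpecResidueField x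
  have hξ : ξ.base default = x := Scheme.fromSpecResidueField_apply x _
  have nat := (stalkPullIso f ξ).hom.naturality (secHom F σ)
  have h1 : (EtCoh.stalk (ξ ≫ f)).map (secHom F σ) = 0 := by
    have e : (EtCoh.pull f ⋙ EtCoh.stalk ξ).map (secHom F σ) = 0 := by
      rw [Functor.comp_map, h, Functor.map_zero]
    rw [e, zero_comp] at nat
    have := congrArg ((stalkPullIso f ξ).inv.app _ ≫ ·) nat
    simpa using this.symm
  have h2 := mem_vanOpen_of_germ_eq_zero F (ξ ≫ f) σ
    (germ_eq_zero_of_stalk_map_eq_zero F (ξ ≫ f) σ h1)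
  have h3 : (ξ ≫ f).base default = f.base x := congrArg f.base hξ
  exact h3 ▸ h2

end B

section C

/-- The vanishing locus of a global section as an open of `S`. -/
noncomputable def vanOpenTop (σ : (EtCore.gsec S).obj F) : S.Opens := vanOpen F (EtCoh.top S) σ

lemma res_opens_eq_zero (σ : (EtCore.gsec S).obj F) :
    (res (vanOpenTop F σ).ι F).hom σ = 0 := by
  let W : S.Opens := vanOpenTop F σ
  have h1 : (secRes W.ι F).hom σ = 0 := by
    refine (map_eq_zero_iff F σ (etObj W.ι) ((EtCore.topIsTerminal S).from (etObj W.ι))).2 ?_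
    have e1 : ((EtCore.topIsTerminal S).from (etObj W.ι)).left = W.ι := from_etObj_left W.ι
    rintro _ ⟨y, rfl⟩
    have e2 : ((EtCore.topIsTerminal S).from (etObj W.ι)).left.base y = W.ι.base y :=
      congrArg (fun k : (W : Scheme.{u}) ⟶ S => k.base y) e1
    have e3 : W.ι.base y ∈ (W : Set S) := by
      have : W.ι.base y ∈ Set.range W.ι.base := ⟨y, rfl⟩
      exact (Scheme.Opens.range_ι W) ▸ this
    exact e2 ▸ e3
  have h2 := congrArg (fun t => t.hom σ) (res_gammaIso W.ι F)
  have h3 : (gammaIso W.ι F).hom.hom ((res W.ι F).hom σ) = 0 := h2.trans h1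
  have h4 := congrArg (gammaIso W.ι F).inv.hom h3
  rw [map_zero] at h4
  refine Eq.trans ?_ h4
  have h5 : (gammaIso W.ι F).hom ≫ (gammaIso W.ι F).inv = 𝟙 _ := Iso.hom_inv_id _
  exact (congrArg (fun t => t.hom ((res W.ι F).hom σ)) h5).symm

theorem res_eq_zero_of_range_subset (σ : (EtCore.gsec S).obj F)
    (h : Set.range f.base ⊆ (vanOpenTop F σ : Set S)) :
    (res f F).hom σ = 0 := by
  let W : S.Opens := vanOpenTop F σ
  have hr : Set.range f.base ⊆ Set.range W.ι.base :=
    (Scheme.Opens.range_ι W).symm ▸ h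
  let f' : T ⟶ (W : Scheme.{u}) := IsOpenImmersion.lift W.ι f hr
  have hf' : f' ≫ W.ι = f := IsOpenImmersion.lift_fac W.ι f hr
  have e := res_congr hf' F
  rw [res_comp] at e
  have e2 := congrArg (fun t => t.hom σ) e
  refine e2.trans ?_
  change ((EtCore.gsec T).map ((EtCore.pullCongr hf').hom.app F)).hom
    (((EtCore.gsec T).map ((EtCore.pullComp f' W.ι).inv.app F)).hom
      ((res f' ((EtCoh.pull W.ι).obj F)).hom ((res W.ι F).hom σ))) = 0
  rw [res_opens_eq_zero, map_zero, map_zero, map_zero]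

end C

/-- S634: the open where two global sections agree, tested on arbitrary morphisms. -/
theorem S634_main (s t : EtCoh.sect F (EtCoh.top S)) :
    ∃ W : S.Opens, ∀ (T : Scheme.{u}) (f : T ⟶ S),
      Set.range f.base ⊆ (W : Set S) ↔
        ((EtCoh.pullPushAdj f).unit.app F).hom.app (op (EtCoh.top S)) s =
          ((EtCoh.pullPushAdj f).unit.app F).hom.app (op (EtCoh.top S)) t := by
  refine ⟨vanOpenTop F (s - t), fun T f => ?_⟩
  have key : (((EtCoh.pullPushAdj f).unit.app F).hom.app (op (EtCoh.top S))).hom s =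
      (((EtCoh.pullPushAdj f).unit.app F).hom.app (op (EtCoh.top S))).hom t ↔
      (res f F).hom (s - t) = 0 := by
    rw [map_sub, sub_eq_zero]
    constructor
    · intro h
      exact congrArg (((EtCore.pushGsecIso f).hom.app ((EtCoh.pull f).obj F)).hom) h
    · intro h
      have hinj : Function.Injective (((EtCore.pushGsecIso f).hom.app ((EtCoh.pull f).obj F)).hom) := by
        have : IsIso ((EtCore.pushGsecIso f).hom.app ((EtCoh.pull f).obj F)) := inferInstance
        exact ((ConcreteCategory.isIso_iff_bijective _).1 this).1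
      exact hinj h
  refine Iff.trans ?_ key.symm
  constructor
  · intro h
    exact res_eq_zero_of_range_subset F f (s - t) h
  · rintro h _ ⟨x, rfl⟩
    exact mem_vanOpen_of_pull_map_eq_zero F f (s - t) ((res_eq_zero_iff F f (s - t)).1 h) x

end Groth.Agent.H7.Sup
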