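import Mathlib
import Groth.Prelude.Def_EtShriek2
import Groth.Agent.Lib.Helper7.ES15
import Groth.Agent.Lib.Helper7.Sup4

set_option autoImplicit false

universe u

open CategoryTheory CategoryTheory.Limits Opposite AlgebraicGeometry Abelian

namespace Groth.Agent.H7.Flq

open Groth.Agent.H7.ES Groth.Agent.H7.Sup

variable {X : Scheme.{u}}

/-- Étale-flasque: acyclic on every étale `X`-scheme. -/
def IsFl (F : EtCoh.Ab X) : Prop :=
  ∀ (U : Scheme.{u}) (j : U ⟶ X) [AlgebraicGeometry.Etale j] (q : ℕ), 0 < q →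
    Subsingleton (Ext (EtCoh.const U ℤ) ((EtCoh.pull j).obj F) q)

lemma isFl_of_injective (I : EtCoh.Ab X) [Injective I] : IsFl I := by
  intro U j _ q hq
  haveI := pull_injective_of_etale j I
  obtain ⟨n, rfl⟩ : ∃ n, q = n + 1 := ⟨q - 1, by omega⟩
  exact Ext.subsingleton_of_injective _ _ n

section SES

variable {S : ShortComplex (EtCoh.Ab X)} (hS : S.ShortExact)

include hS in
lemma shortExact_pull {U : Scheme.{u}} (j : U ⟶ X) : (S.map (EtCoh.pull j)).ShortExact :=
  hS.map_of_exact (EtCoh.pull j)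

include hS in
lemma isFl_X₃ (h₁ : IsFl S.X₁) (h₂ : IsFl S.X₂) : IsFl S.X₃ := by
  intro U j _ q hq
  have hS' := shortExact_pull hS j
  refine ⟨fun a b => ?_⟩
  suffices H : ∀ x : Ext (EtCoh.const U ℤ) ((EtCoh.pull j).obj S.X₃) q, x = 0 by
    rw [H a, H b]
  intro x₃
  haveI := h₁ U j (q + 1) (Nat.succ_pos q)
  haveI := h₂ U j q hq
  obtain ⟨x₂, hx₂⟩ := Ext.covariant_sequence_exact₃ (EtCoh.const U ℤ) hS' x₃ rfl
    (Subsingleton.elim (α := Ext (EtCoh.const U ℤ) ((EtCoh.pull j).obj S.X₁) (q + 1)) _ _)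
  have hx0 : x₂ = 0 :=
    Subsingleton.elim (α := Ext (EtCoh.const U ℤ) ((EtCoh.pull j).obj S.X₂) q) x₂ 0
  subst hx0
  exact hx₂.symm.trans (Ext.zero_comp _ _ _ _ _)

include hS in
/-- Lifting maps `ℤ_U ⟶ j⁻¹ X₃` to `j⁻¹ X₂` when `X₁` is flasque. -/
lemma exists_lift_hom (h₁ : IsFl S.X₁) {U : Scheme.{u}} (j : U ⟶ X) [AlgebraicGeometry.Etale j]
    (ψ : EtCoh.const U ℤ ⟶ (EtCoh.pull j).obj S.X₃) :
    ∃ ψ' : EtCoh.const U ℤ ⟶ (EtCoh.pull j).obj S.X₂, ψ' ≫ (EtCoh.pull j).map S.g = ψ := by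
  have hS' := shortExact_pull hS j
  haveI := h₁ U j 1 one_pos
  obtain ⟨x₂, hx₂⟩ := Ext.covariant_sequence_exact₃ (EtCoh.const U ℤ) hS' (Ext.mk₀ ψ)
    (zero_add 1)
    (Subsingleton.elim (α := Ext (EtCoh.const U ℤ) ((EtCoh.pull j).obj S.X₁) 1) _ _)
  obtain ⟨ψ', rfl⟩ := (Ext.mk₀_bijective _ _).2 x₂
  refine ⟨ψ', ?_⟩
  rw [Ext.mk₀_comp_mk₀] at hx₂
  exact (Ext.mk₀_bijective _ _).1 hx₂

lemma gammaIso_naturality {U : Scheme.{u}} (j : U ⟶ X) [AlgebraicGeometry.Etale j]
    {A B : EtCoh.Ab X} (φ : A ⟶ B) :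
    (EtCore.gsec U).map ((EtCoh.pull j).map φ) ≫ (gammaIso j B).hom =
      (gammaIso j A).hom ≫ φ.hom.app (op (etObj j)) := by
  have nat := (pullIsoRestr j).hom.naturality φ
  have h := congrArg (fun t => (EtCore.gsec U).map t) nat
  simp only [Functor.map_comp] at h
  exact h

include hS in
lemma sections_surjective_etObj (h₁ : IsFl S.X₁) {U : Scheme.{u}} (j : U ⟶ X)
    [AlgebraicGeometry.Etale j] :
    Function.Surjective (S.g.hom.app (op (etObj j))).hom := by
  intro s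
  let s' : (EtCore.gsec U).obj ((EtCoh.pull j).obj S.X₃) := (gammaIso j S.X₃).inv.hom s
  obtain ⟨ψ', hψ'⟩ := exists_lift_hom hS h₁ j (secHom ((EtCoh.pull j).obj S.X₃) s')
  let t' : (EtCore.gsec U).obj ((EtCoh.pull j).obj S.X₂) :=
    ((EtCore.constAdj U).homEquiv ZZ.{u} _ ψ').hom ⟨1⟩
  refine ⟨(gammaIso j S.X₂).hom.hom t', ?_⟩
  have e1 : (EtCore.constAdj U).homEquiv ZZ.{u} _ ψ' ≫
      (EtCore.gsec U).map ((EtCoh.pull j).map S.g) = zzHom _ s' := by
    rw [← Adjunction.homEquiv_naturality_right, hψ', homEquiv_secHom]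
  have e2 : ((EtCore.gsec U).map ((EtCoh.pull j).map S.g)).hom t' = s' :=
    (congrArg (fun t => t.hom (⟨1⟩ : ULift.{u + 1} ℤ)) e1).trans (zzHom_one _ s')
  have e3 := congrArg (fun t => t.hom t') (gammaIso_naturality j S.g)
  have e4 : (gammaIso j S.X₃).hom.hom s' = s := by
    have : (gammaIso j S.X₃).inv ≫ (gammaIso j S.X₃).hom = 𝟙 _ := Iso.inv_hom_id _
    exact congrArg (fun t => t.hom s) this
  refine e3.symm.trans ?_
  change (gammaIso j S.X₃).hom.hom (((EtCore.gsec U).map ((EtCoh.pull j).map S.g)).hom t') = s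
  rw [e2, e4]

include hS in
lemma sections_surjective (h₁ : IsFl S.X₁) (W : X.Etale) :
    Function.Surjective (S.g.hom.app (op W)).hom := by
  haveI : AlgebraicGeometry.Etale W.hom := W.prop
  let κ : etObj W.hom ≅ W := MorphismProperty.Over.isoMk (Iso.refl _) (by
    change 𝟙 _ ≫ W.hom = 𝟙 _ ≫ W.hom
    rfl)
  intro s
  obtain ⟨t, ht⟩ := sections_surjective_etObj hS h₁ W.hom ((S.X₃.obj.map κ.hom.op).hom s)
  refine ⟨(S.X₂.obj.map κ.inv.op).hom t, ?_⟩
  have nat := congrArg (fun k => k.hom t) (S.g.hom.naturality κ.inv.op)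
  refine nat.trans ?_
  change (S.X₃.obj.map κ.inv.op).hom ((S.g.hom.app (op (etObj W.hom))).hom t) = s
  rw [ht]
  have : S.X₃.obj.map κ.hom.op ≫ S.X₃.obj.map κ.inv.op = 𝟙 _ := by
    rw [← S.X₃.obj.map_comp, ← op_comp, Iso.inv_hom_id, op_id, S.X₃.obj.map_id]
  exact congrArg (fun k => k.hom s) this

include hS in
lemma shortExact_push (h₁ : IsFl S.X₁) {Y : Scheme.{u}} (f : X ⟶ Y) :
    (S.map (EtCoh.push f)).ShortExact := by
  haveI := hS.mono_f
  have hex : (S.map (EtCoh.push f)).Exact :=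
    hS.exact.map_of_mono_of_preservesKernel (EtCoh.push f) hS.mono_f inferInstance
  haveI : Mono (S.map (EtCoh.push f)).f := by
    change Mono ((EtCoh.push f).map S.f)
    infer_instance
  haveI : Epi (S.map (EtCoh.push f)).g := by
    change Epi ((EtCoh.push f).map S.g)
    haveI : Sheaf.IsLocallySurjective ((EtCoh.push f).map S.g) := by
      change Presheaf.IsLocallySurjective _ ((EtCoh.push f).map S.g).hom
      refine Presheaf.isLocallySurjective_of_surjective _ _ (fun V => ?_)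
      exact sections_surjective hS h₁ ((EtCoh.bc f).obj V.unop)
    exact Sheaf.epi_of_isLocallySurjective _
  exact ShortComplex.ShortExact.mk hex

end SES

section T

variable {Y : Scheme.{u}} {A B : EtCoh.Ab Y} (φ : A ⟶ B) {U : Scheme.{u}} (j : U ⟶ Y)
  [AlgebraicGeometry.Etale j]

lemma exists_lift_hom_of_sections
    (hsurj : Function.Surjective (φ.hom.app (op (etObj j))).hom)
    (ψ : EtCoh.const U ℤ ⟶ (EtCoh.pull j).obj B) :
    ∃ ψ' : EtCoh.const U ℤ ⟶ (EtCoh.pull j).obj A, ψ' ≫ (EtCoh.pull j).map φ = ψ := by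
  let s' : (EtCore.gsec U).obj ((EtCoh.pull j).obj B) :=
    ((EtCore.constAdj U).homEquiv ZZ.{u} _ ψ).hom ⟨1⟩
  obtain ⟨t, ht⟩ := hsurj ((gammaIso j B).hom.hom s')
  let t' : (EtCore.gsec U).obj ((EtCoh.pull j).obj A) := (gammaIso j A).inv.hom t
  refine ⟨secHom _ t', ?_⟩
  apply ((EtCore.constAdj U).homEquiv ZZ.{u} _).injective
  rw [Adjunction.homEquiv_naturality_right, homEquiv_secHom]
  apply zzHom_ext
  change ((EtCore.gsec U).map ((EtCoh.pull j).map φ)).hom ((zzHom _ t').hom ⟨1⟩) = s'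
  rw [zzHom_one]
  have hinj : Function.Injective (gammaIso j B).hom.hom :=
    ((ConcreteCategory.isIso_iff_bijective (gammaIso j B).hom).1 inferInstance).1
  apply hinj
  have e3 := congrArg (fun k => k.hom t') (gammaIso_naturality j φ)
  refine e3.trans ?_
  change (φ.hom.app (op (etObj j))).hom ((gammaIso j A).hom.hom ((gammaIso j A).inv.hom t)) = _
  have e4 : (gammaIso j A).hom.hom ((gammaIso j A).inv.hom t) = t := by
    have : (gammaIso j A).inv ≫ (gammaIso j A).hom = 𝟙 _ := Iso.inv_hom_id _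
    exact congrArg (fun k => k.hom t) this
  rw [e4, ht]

end T

section Main

variable {Y : Scheme.{u}} (f : X ⟶ Y)

/-- The short exact sequence `0 → F → I → Q → 0` with `I` injective. -/
noncomputable def ses (F : EtCoh.Ab X) : ShortComplex (EtCoh.Ab X) :=
  ShortComplex.mk (Injective.ι F) (cokernel.π (Injective.ι F)) (cokernel.condition _)

lemma ses_shortExact (F : EtCoh.Ab X) : (ses F).ShortExact :=
  { exact := ShortComplex.exact_cokernel (Injective.ι F)
    mono_f := inferInstanceAs (Mono (Injective.ι F))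
    epi_g := inferInstanceAs (Epi (cokernel.π (Injective.ι F))) }

theorem push_acyclic (n : ℕ) : ∀ (F : EtCoh.Ab X), IsFl F → ∀ (U : Scheme.{u}) (j : U ⟶ Y)
    [AlgebraicGeometry.Etale j],
    Subsingleton (Ext (EtCoh.const U ℤ) ((EtCoh.pull j).obj ((EtCoh.push f).obj F)) (n + 1)) := by
  induction n with
  | zero =>
    intro F hF U j _
    have hS := ses_shortExact F
    haveI : Injective (ses F).X₂ := inferInstanceAs (Injective (Injective.under F))
    have hI : IsFl (ses F).X₂ := isFl_of_injective _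
    have hS' := shortExact_push hS hF f
    have hS'' := shortExact_pull hS' j
    haveI : Injective ((EtCoh.push f).obj (ses F).X₂) := Functor.injective_obj _ _
    have hI' : IsFl ((EtCoh.push f).obj (ses F).X₂) := isFl_of_injective _
    refine ⟨fun a b => ?_⟩
    suffices H : ∀ x : Ext (EtCoh.const U ℤ) ((EtCoh.pull j).obj ((EtCoh.push f).obj F)) (0 + 1),
        x = 0 by rw [H a, H b]
    intro x₁
    haveI := hI' U j 1 one_pos
    obtain ⟨x₃, hx₃⟩ := Ext.covariant_sequence_exact₁ (EtCoh.const U ℤ) hS'' x₁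
      (Subsingleton.elim (α := Ext (EtCoh.const U ℤ)
        ((EtCoh.pull j).obj ((EtCoh.push f).obj (ses F).X₂)) 1) _ _) (zero_add 1)
    obtain ⟨ψ, rfl⟩ := (Ext.mk₀_bijective _ _).2 x₃
    obtain ⟨ψ', hψ'⟩ := exists_lift_hom_of_sections ((EtCoh.push f).map (ses F).g) j
      (sections_surjective hS hF ((EtCoh.bc f).obj (etObj j))) ψ
    rw [← hx₃]
    let ψ'' : EtCoh.const U ℤ ⟶ (((ses F).map (EtCoh.push f)).map (EtCoh.pull j)).X₂ := ψ'
    have hψ'' : ψ'' ≫ (((ses F).map (EtCoh.push f)).map (EtCoh.pull j)).g = ψ := hψ'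
    have hz : (Ext.mk₀ (((ses F).map (EtCoh.push f)).map (EtCoh.pull j)).g).comp
        hS''.extClass (zero_add 1) = 0 := hS''.comp_extClass
    rw [← hψ'', ← Ext.mk₀_comp_mk₀, Ext.comp_assoc_of_second_deg_zero, hz, Ext.comp_zero]
    rfl
  | succ n ih =>
    intro F hF U j _
    have hS := ses_shortExact F
    haveI : Injective (ses F).X₂ := inferInstanceAs (Injective (Injective.under F))
    have hI : IsFl (ses F).X₂ := isFl_of_injective _
    have hQ : IsFl (ses F).X₃ := isFl_X₃ hS hF hI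
    have hS' := shortExact_push hS hF f
    have hS'' := shortExact_pull hS' j
    haveI : Injective ((EtCoh.push f).obj (ses F).X₂) := Functor.injective_obj _ _
    have hI' : IsFl ((EtCoh.push f).obj (ses F).X₂) := isFl_of_injective _
    refine ⟨fun a b => ?_⟩
    suffices H : ∀ x : Ext (EtCoh.const U ℤ) ((EtCoh.pull j).obj ((EtCoh.push f).obj F))
        (n + 1 + 1), x = 0 by rw [H a, H b]
    intro x₁
    haveI := hI' U j (n + 1 + 1) (Nat.succ_pos _)
    obtain ⟨x₃, hx₃⟩ := Ext.covariant_sequence_exact₁ (EtCoh.const U ℤ) hS'' x₁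
      (Subsingleton.elim (α := Ext (EtCoh.const U ℤ)
        ((EtCoh.pull j).obj ((EtCoh.push f).obj (ses F).X₂)) (n + 1 + 1)) _ _) rfl
    haveI := ih (ses F).X₃ hQ U j
    have hx0 : x₃ = 0 := Subsingleton.elim (α := Ext (EtCoh.const U ℤ)
        ((EtCoh.pull j).obj ((EtCoh.push f).obj (ses F).X₃)) (n + 1)) x₃ 0
    subst hx0
    exact hx₃.symm.trans (Ext.zero_comp _ _ _ _ _)

theorem S19626_main (F : EtCoh.Ab X)
    (hF : ∀ (W : X.Etale) (q : ℕ), 0 < q →
      Subsingleton (EtCoh.H W.left ((EtCoh.pull W.hom).obj F) q))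
    (W' : Y.Etale) (q : ℕ) (hq : 0 < q) :
    Subsingleton (EtCoh.H W'.left ((EtCoh.pull W'.hom).obj ((EtCoh.push f).obj F)) q) := by
  have hFl : IsFl F := by
    intro U j _ q hq
    exact hF (MorphismProperty.Over.mk ⊤ j inferInstance) q hq
  haveI : AlgebraicGeometry.Etale W'.hom := W'.prop
  obtain ⟨n, rfl⟩ : ∃ n, q = n + 1 := ⟨q - 1, by omega⟩
  exact push_acyclic f n F hFl W'.left W'.hom

end Main

end Groth.Agent.H7.Flq
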