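import Mathlib

/-! # Every module is a small filtered colimit of finitely presented modules -/

universe u
open CategoryTheory CategoryTheory.Limits

namespace Groth.Agent.H7.FpInd

variable (A : Type u) [CommRing A]

/-- The property of being finitely presented. -/
abbrev fpProp : ObjectProperty (ModuleCat.{u} A) :=
  fun M : ModuleCat.{u} A => Module.FinitePresentation A M

/-- The comma category of finitely presented modules over `M`. -/
abbrev CA (M : ModuleCat.{u} A) := CostructuredArrow (ObjectProperty.ι (fpProp A)) M

variable {A}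

/-- Constructor for objects of `CA M`. -/
noncomputable def mkCA {M : ModuleCat.{u} A} (P : Type u) [AddCommGroup P] [Module A P]
    [Module.FinitePresentation A P] (f : P →ₗ[A] M) : CA A M :=
  CostructuredArrow.mk (Y := (⟨ModuleCat.of A P, ‹_›⟩ : (fpProp A).FullSubcategory))
    (ModuleCat.ofHom f)

/-- Constructor for morphisms of `CA M`. -/
noncomputable def homCA {M : ModuleCat.{u} A} {X Y : CA A M}
    (h : X.left.obj ⟶ Y.left.obj) (w : h ≫ Y.hom = X.hom) : X ⟶ Y :=
  CostructuredArrow.homMk (ObjectProperty.homMk h) w

instance (M : ModuleCat.{u} A) : Nonempty (CA A M) := ⟨mkCA PUnit 0⟩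

instance fp_left {M : ModuleCat.{u} A} (X : CA A M) : Module.FinitePresentation A X.left.obj :=
  X.left.property

lemma hom_w_apply {M : ModuleCat.{u} A} {X Y : CA A M} (f : X ⟶ Y) (x : X.left.obj) :
    Y.hom.hom (f.left.hom.hom x) = X.hom.hom x := by
  have h := CostructuredArrow.w f
  exact congrArg (fun g => g.hom x) h

instance isFiltered_CA (M : ModuleCat.{u} A) : IsFiltered (CA A M) := by
  haveI : IsFilteredOrEmpty (CA A M) := by
    refine ⟨fun X Y => ?_, fun X Y f g => ?_⟩
    · refine ⟨mkCA (X.left.obj × Y.left.obj) (LinearMap.coprod X.hom.hom Y.hom.hom),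
        homCA (ModuleCat.ofHom (LinearMap.inl A _ _)) ?_,
        homCA (ModuleCat.ofHom (LinearMap.inr A _ _)) ?_, trivial⟩
      · ext x
        simp [mkCA]
      · ext x
        simp [mkCA]
    · let d : X.left.obj →ₗ[A] Y.left.obj := f.left.hom.hom - g.left.hom.hom
      have hle : LinearMap.range d ≤ LinearMap.ker Y.hom.hom := by
        rintro _ ⟨x, rfl⟩
        rw [LinearMap.mem_ker]
        change Y.hom.hom (f.left.hom.hom x - g.left.hom.hom x) = 0
        rw [map_sub, hom_w_apply, hom_w_apply, sub_self]
      haveI : Module.FinitePresentation A (Y.left.obj ⧸ LinearMap.range d) := by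
        refine Module.finitePresentation_of_surjective (LinearMap.range d).mkQ
          (Submodule.mkQ_surjective _) ?_
        rw [Submodule.ker_mkQ, LinearMap.range_eq_map]
        exact Submodule.FG.map _ (Module.Finite.fg_top)
      refine ⟨mkCA (Y.left.obj ⧸ LinearMap.range d) ((LinearMap.range d).liftQ Y.hom.hom hle),
        homCA (ModuleCat.ofHom (LinearMap.range d).mkQ) ?_, ?_⟩
      · ext y
        simp [mkCA]
      · ext x
        change (LinearMap.range d).mkQ (f.left.hom.hom x) = (LinearMap.range d).mkQ (g.left.hom.hom x)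
        rw [← sub_eq_zero, ← map_sub]
        exact (Submodule.Quotient.mk_eq_zero _).2 ⟨x, rfl⟩
  exact ⟨⟩


/-- The canonical diagram. -/
abbrev diagCA (M : ModuleCat.{u} A) : CA A M ⥤ ModuleCat.{u} A :=
  CostructuredArrow.proj (ObjectProperty.ι (fpProp A)) M ⋙ ObjectProperty.ι (fpProp A)

/-- The canonical cocone. -/
noncomputable def canCocone (M : ModuleCat.{u} A) : Cocone (diagCA M) where
  pt := M
  ι := { app := fun X => X.hom
         naturality := fun X Y f => by
           have h := CostructuredArrow.w f
           change f.left.hom ≫ Y.hom = X.hom ≫ 𝟙 M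
           rw [Category.comp_id]
           exact h }

/-- `ρ_m : A ⟶ M` as an object of `CA M`. -/
noncomputable def pt {M : ModuleCat.{u} A} (m : M) : CA A M :=
  mkCA A (LinearMap.toSpanSingleton A M m)

section desc

variable {M : ModuleCat.{u} A} (s : Cocone (diagCA M))

lemma cocone_w_apply {X Y : CA A M} (f : X ⟶ Y) (x : X.left.obj) :
    (s.ι.app Y).hom (f.left.hom.hom x) = (s.ι.app X).hom x := by
  have h := s.w f
  exact congrArg (fun g => g.hom x) h

/-- The value of the descended map. -/
noncomputable def descFun (m : M) : s.pt := (s.ι.app (pt m)).hom (1 : A)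

lemma app_eq_descFun (X : CA A M) (x : X.left.obj) :
    (s.ι.app X).hom x = descFun s (X.hom.hom x) := by
  let f : pt (X.hom.hom x) ⟶ X :=
    homCA (ModuleCat.ofHom (LinearMap.toSpanSingleton A X.left.obj x)) (by
      ext
      simp [pt, mkCA])
  have h := cocone_w_apply s f (1 : A)
  rw [descFun, ← h]
  congr 1
  change x = (1 : A) • x
  rw [one_smul]

lemma descFun_add (m m' : M) : descFun s (m + m') = descFun s m + descFun s m' := by
  let X : CA A M := mkCA (A × A)
    (LinearMap.coprod (LinearMap.toSpanSingleton A M m) (LinearMap.toSpanSingleton A M m'))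
  have h1 : descFun s m = (s.ι.app X).hom ((1 : A), (0 : A)) := by
    rw [app_eq_descFun]; congr 1
    change m = (1 : A) • m + (0 : A) • m'
    simp
  have h2 : descFun s m' = (s.ι.app X).hom ((0 : A), (1 : A)) := by
    rw [app_eq_descFun]; congr 1
    change m' = (0 : A) • m + (1 : A) • m'
    simp
  have h3 : descFun s (m + m') = (s.ι.app X).hom ((1 : A), (1 : A)) := by
    rw [app_eq_descFun]; congr 1
    change m + m' = (1 : A) • m + (1 : A) • m'
    simp
  rw [h1, h2, h3, ← map_add]
  congr 1
  change (((1 : A), (1 : A)) : A × A) = ((1 : A), (0 : A)) + ((0 : A), (1 : A))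
  simp

lemma descFun_smul (a : A) (m : M) : descFun s (a • m) = a • descFun s m := by
  have h := app_eq_descFun s (pt m) (a : A)
  have key : ∀ (g : A →ₗ[A] s.pt), g a = a • g 1 := fun g => by
    rw [← map_smul, smul_eq_mul, mul_one]
  have e : (s.ι.app (pt m)).hom a = a • descFun s m := key (s.ι.app (pt m)).hom
  rw [← e, h]
  rfl

/-- The descended linear map. -/
noncomputable def descLin : M →ₗ[A] s.pt where
  toFun := descFun s
  map_add' := descFun_add s
  map_smul' := descFun_smul s

end desc

/-- The canonical cocone is a colimit. -/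
noncomputable def isColimitCanCocone (M : ModuleCat.{u} A) : IsColimit (canCocone M) where
  desc s := ModuleCat.ofHom (descLin s)
  fac s X := by
    ext x
    exact (app_eq_descFun s X x).symm
  uniq s φ hφ := by
    ext m
    have h := congrArg (fun g => g.hom (1 : A)) (hφ (pt m))
    change φ.hom ((LinearMap.toSpanSingleton A M m) (1 : A)) = descFun s m at h
    rw [LinearMap.toSpanSingleton_apply, one_smul] at h
    exact h


/-- The small index type. -/
structure Idx (M : ModuleCat.{u} A) : Type u where
  n : ℕ
  N : Submodule A (Fin n → A)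
  fg : N.FG
  g : ((Fin n → A) ⧸ N) →ₗ[A] M

instance {M : ModuleCat.{u} A} (i : Idx M) : Module.FinitePresentation A ((Fin i.n → A) ⧸ i.N) := by
  refine Module.finitePresentation_of_surjective i.N.mkQ (Submodule.mkQ_surjective _) ?_
  rw [Submodule.ker_mkQ]
  exact i.fg

/-- The object of `CA M` attached to an index. -/
noncomputable def Idx.toCA {M : ModuleCat.{u} A} (i : Idx M) : CA A M :=
  mkCA ((Fin i.n → A) ⧸ i.N) i.g

/-- The small index category. -/
abbrev JJ (M : ModuleCat.{u} A) : Type u := InducedCategory (CA A M) (Idx.toCA (M := M))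

/-- The functor to the comma category. -/
noncomputable abbrev toCAFunctor (M : ModuleCat.{u} A) : JJ M ⥤ CA A M := inducedFunctor _

instance (M : ModuleCat.{u} A) : (toCAFunctor M).EssSurj where
  mem_essImage X := by
    obtain ⟨n, K, e, hK⟩ := Module.FinitePresentation.exists_fin A X.left.obj
    let i : Idx M := ⟨n, K, hK, X.hom.hom ∘ₗ e.symm.toLinearMap⟩
    refine ⟨i, ⟨CostructuredArrow.isoMk (ObjectProperty.isoMk _ (e.symm.toModuleIso)) ?_⟩⟩
    ext x
    rfl

instance (M : ModuleCat.{u} A) : (toCAFunctor M).IsEquivalence where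

instance (M : ModuleCat.{u} A) : IsFiltered (JJ M) :=
  IsFiltered.of_equivalence (toCAFunctor M).asEquivalence.symm

/-- The small diagram of finitely presented modules. -/
noncomputable abbrev DD (M : ModuleCat.{u} A) : JJ M ⥤ ModuleCat.{u} A := toCAFunctor M ⋙ diagCA M

/-- The cocone with point `M`. -/
noncomputable def cc (M : ModuleCat.{u} A) : Cocone (DD M) := (canCocone M).whisker (toCAFunctor M)

lemma cc_pt (M : ModuleCat.{u} A) : (cc M).pt = M := rfl

/-- `M` is the colimit of the small diagram. -/
noncomputable def isColimitCc (M : ModuleCat.{u} A) : IsColimit (cc M) :=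
  (Functor.Final.isColimitWhiskerEquiv (toCAFunctor M) (canCocone M)).symm (isColimitCanCocone M)

instance fp_DD (M : ModuleCat.{u} A) (j : JJ M) : Module.FinitePresentation A ((DD M).obj j) :=
  ((toCAFunctor M).obj j).left.property

end Groth.Agent.H7.FpInd
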