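import Groth.Agent.Lib.Helper7.FpInd1

/-! # Functors commuting with filtered colimits and additive on finitely presented modules -/

universe w v₁ v₂ u₁ u₂ u u' v'
open CategoryTheory CategoryTheory.Limits

namespace Groth.Agent.H7.FpInd

section general

open CoproductsFromFiniteFiltered

variable {C : Type u₁} [Category.{v₁} C] {D : Type u₂} [Category.{v₂} D] (F : C ⥤ D)
  {α : Type w} [HasFiniteCoproducts C] [HasColimitsOfShape (Finset (Discrete α)) C]
  [PreservesFiniteCoproducts F] [PreservesColimitsOfShape (Finset (Discrete α)) F]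

/-- The cocone over a finite subcoproduct induced by a cocone over `K ⋙ F`. -/
noncomputable def subCocone (K : Discrete α ⥤ C) (s : Cocone (K ⋙ F)) (S : Finset (Discrete α)) :
    Cocone (Discrete.functor (fun x : S => K.obj x) ⋙ F) where
  pt := s.pt
  ι := Discrete.natTrans (fun x => s.ι.app x.as.1)

noncomputable def hS (K : Discrete α ⥤ C) (S : Finset (Discrete α)) :
    IsColimit (F.mapCocone (colimit.cocone (Discrete.functor fun x : S => K.obj x))) :=
  isColimitOfPreserves F (colimit.isColimit _)

noncomputable def tS (K : Discrete α ⥤ C) (s : Cocone (K ⋙ F)) (S : Finset (Discrete α)) :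
    F.obj ((liftToFinsetObj K).obj S) ⟶ s.pt :=
  (hS F K S).desc (subCocone F K s S)

/-- The inclusion of a summand, with the target typed via `liftToFinsetObj`. -/
noncomputable def inc (K : Discrete α ⥤ C) (S : Finset (Discrete α)) (x : S) :
    K.obj x.1 ⟶ (liftToFinsetObj K).obj S :=
  Sigma.ι (fun x : S => K.obj x) x

lemma ι_tS (K : Discrete α ⥤ C) (s : Cocone (K ⋙ F)) (S : Finset (Discrete α)) (x : S) :
    F.map (inc K S x) ≫ tS F K s S = s.ι.app x.1 :=
  (hS F K S).fac (subCocone F K s S) ⟨x⟩

lemma hom_ext_S (K : Discrete α ⥤ C) (S : Finset (Discrete α)) {Z : D}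
    (a b : F.obj ((liftToFinsetObj K).obj S) ⟶ Z)
    (h : ∀ x : S, F.map (inc K S x) ≫ a = F.map (inc K S x) ≫ b) : a = b :=
  (hS F K S).hom_ext (fun ⟨x⟩ => h x)

lemma ι_map (K : Discrete α ⥤ C) {S T : Finset (Discrete α)} (h : S ⟶ T) (x : S) :
    inc K S x ≫ (liftToFinsetObj K).map h = inc K T ⟨x.1, h.down.down x.2⟩ := by
  simp [inc, liftToFinsetObj]

/-- The cocone over the finite subcoproducts. -/
noncomputable def bigCocone (K : Discrete α ⥤ C) (s : Cocone (K ⋙ F)) :
    Cocone (liftToFinsetObj K ⋙ F) where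
  pt := s.pt
  ι :=
    { app := fun S => tS F K s S
      naturality := fun S T h => by
        apply hom_ext_S
        intro x
        change F.map (inc K S x) ≫ F.map ((liftToFinsetObj K).map h) ≫ tS F K s T =
          F.map (inc K S x) ≫ tS F K s S ≫ 𝟙 _
        rw [Category.comp_id, ← Category.assoc, ← F.map_comp, ι_map, ι_tS, ι_tS] }

theorem preservesColimitsOfShape_discrete : PreservesColimitsOfShape (Discrete α) F := by
  constructor
  intro K
  let cc := liftToFinsetColimitCocone K
  apply preservesColimit_of_preserves_colimit_cocone cc.isColimit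
  have hL : IsColimit (F.mapCocone (colimit.cocone (liftToFinsetObj K))) :=
    isColimitOfPreserves F (colimit.isColimit _)
  have hleg : ∀ (j : Discrete α) (S : Finset (Discrete α)) (hj : j ∈ S),
      cc.cocone.ι.app j = inc K S ⟨j, hj⟩ ≫ colimit.ι (liftToFinsetObj K) S := by
    intro j S hj
    have hle : ({j} : Finset (Discrete α)) ≤ S := Finset.singleton_subset_iff.2 hj
    have h1 := colimit.w (liftToFinsetObj K) (homOfLE hle)
    change inc K {j} ⟨j, by simp⟩ ≫ colimit.ι (liftToFinsetObj K) {j} = _
    rw [← h1, ← Category.assoc, ι_map]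
  refine
    { desc := fun s => hL.desc (bigCocone F K s)
      fac := fun s j => ?_
      uniq := fun s m hm => ?_ }
  · have hj : j ∈ ({j} : Finset (Discrete α)) := Finset.mem_singleton_self j
    have e1 : F.map (cc.cocone.ι.app j) = F.map (inc K {j} ⟨j, hj⟩) ≫
        F.map (colimit.ι (liftToFinsetObj K) {j}) :=
      (congrArg F.map (hleg j {j} hj)).trans (F.map_comp _ _)
    have h2 : F.map (colimit.ι (liftToFinsetObj K) {j}) ≫ hL.desc (bigCocone F K s) =
        tS F K s {j} := hL.fac (bigCocone F K s) {j}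
    calc F.map (cc.cocone.ι.app j) ≫ hL.desc (bigCocone F K s)
        = (F.map (inc K {j} ⟨j, hj⟩) ≫ F.map (colimit.ι (liftToFinsetObj K) {j})) ≫
            hL.desc (bigCocone F K s) := congrArg (· ≫ hL.desc (bigCocone F K s)) e1
      _ = F.map (inc K {j} ⟨j, hj⟩) ≫ tS F K s {j} :=
          (Category.assoc _ _ _).trans (congrArg (F.map (inc K {j} ⟨j, hj⟩) ≫ ·) h2)
      _ = s.ι.app j := ι_tS F K s {j} ⟨j, hj⟩
  · apply hL.hom_ext
    intro S
    have h3 : F.map (colimit.ι (liftToFinsetObj K) S) ≫ hL.desc (bigCocone F K s) =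
        tS F K s S := hL.fac (bigCocone F K s) S
    refine Eq.trans ?_ h3.symm
    apply hom_ext_S
    intro x
    rw [ι_tS]
    have e1 : F.map (cc.cocone.ι.app x.1) = F.map (inc K S x) ≫
        F.map (colimit.ι (liftToFinsetObj K) S) :=
      (congrArg F.map (hleg x.1 S x.2)).trans (F.map_comp _ _)
    have hm' := hm x.1
    change F.map (cc.cocone.ι.app x.1) ≫ m = _ at hm'
    rw [e1] at hm'
    exact (Category.assoc _ _ _).symm.trans hm'

end general


section modules

variable {A : Type u} [CommRing A] {B : Type u'} [Category.{v'} B] [Preadditive B]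
variable (F' : ModuleCat.{u} A ⥤ B)

/-- Additivity on maps out of a finitely presented module. -/
lemma map_add_of_fp
    [(ObjectProperty.ι (fpProp A) ⋙ F').Additive]
    (P : ModuleCat.{u} A) [hP : Module.FinitePresentation A P] (N : ModuleCat.{u} A)
    (f g : P ⟶ N) : F'.map (f + g) = F'.map f + F'.map g := by
  let Ps : (fpProp A).FullSubcategory := ⟨P, hP⟩
  let Q : (fpProp A).FullSubcategory := ⟨ModuleCat.of A (P × P), inferInstance⟩
  let inl : Ps ⟶ Q := ObjectProperty.homMk (ModuleCat.ofHom (LinearMap.inl A P P))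
  let inr : Ps ⟶ Q := ObjectProperty.homMk (ModuleCat.ofHom (LinearMap.inr A P P))
  let d : Q.obj ⟶ N := ModuleCat.ofHom (LinearMap.coprod f.hom g.hom)
  have h1 : (ObjectProperty.ι (fpProp A) ⋙ F').map (inl + inr) =
      (ObjectProperty.ι (fpProp A) ⋙ F').map inl + (ObjectProperty.ι (fpProp A) ⋙ F').map inr :=
    Functor.map_add _
  have h2 : f + g = (inl + inr).hom ≫ d := by
    ext x
    change f.hom x + g.hom x = f.hom (x + 0) + g.hom (0 + x)
    rw [add_zero, zero_add]
  have h3 : f = inl.hom ≫ d := by
    ext x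
    change f.hom x = f.hom x + g.hom 0
    rw [map_zero, add_zero]
  have h4 : g = inr.hom ≫ d := by
    ext x
    change g.hom x = f.hom 0 + g.hom x
    rw [map_zero, zero_add]
  change F'.map (inl + inr).hom = F'.map inl.hom + F'.map inr.hom at h1
  calc F'.map (f + g) = F'.map (inl + inr).hom ≫ F'.map d := by rw [h2, F'.map_comp]
    _ = F'.map inl.hom ≫ F'.map d + F'.map inr.hom ≫ F'.map d := by
        rw [h1, Preadditive.add_comp]
    _ = F'.map f + F'.map g := by rw [← F'.map_comp, ← F'.map_comp, ← h3, ← h4]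

lemma map_add_aux [(ObjectProperty.ι (fpProp A) ⋙ F').Additive]
    {P M N : ModuleCat.{u} A} [Module.FinitePresentation A P] (c : P ⟶ M) (f g : M ⟶ N) :
    F'.map c ≫ F'.map (f + g) = F'.map c ≫ (F'.map f + F'.map g) := by
  rw [← F'.map_comp, Preadditive.comp_add, Preadditive.comp_add,
    map_add_of_fp F' P N, F'.map_comp, F'.map_comp]

variable [PreservesFilteredColimitsOfSize.{u, u} F']

theorem additive_of_additive_fp [(ObjectProperty.ι (fpProp A) ⋙ F').Additive] : F'.Additive where
  map_add {M N f g} := by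
    apply (isColimitOfPreserves F' (isColimitCc M)).hom_ext
    intro j
    exact map_add_aux F' (P := (DD M).obj j) ((cc M).ι.app j) f g

theorem S6715_main [HasFiniteBiproducts B] [HasFilteredColimitsOfSize.{u, u} B]
    [(ObjectProperty.ι (fun M : ModuleCat.{u} A => Module.FinitePresentation A M) ⋙ F').Additive] :
    F'.Additive ∧ ∀ J : Type u, PreservesColimitsOfShape (Discrete J) F' := by
  haveI : F'.Additive := additive_of_additive_fp F'
  refine ⟨inferInstance, fun J => ?_⟩
  exact preservesColimitsOfShape_discrete F'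

end modules

end Groth.Agent.H7.FpInd
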