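import Groth.Agent.Lib.Helper7.FpInd2
import Groth.Agent.Lib.Helper9.Misc.RexF

/-! # Right exactness of the extension of a right exact functor on finitely presented modules -/

universe u u' v'
open CategoryTheory CategoryTheory.Limits

namespace Groth.Agent.H7.FpInd

open Groth.Agent.H9.Rex

variable {A : Type u} [CommRing A] {B : Type u'} [Category.{v'} B] [Preadditive B]
variable (F' : ModuleCat.{u} A ⥤ B)

/-- The restriction to finitely presented modules. -/
abbrev Fr : FP A ⥤ B :=
  ObjectProperty.ι (fun M : ModuleCat.{u} A => Module.FinitePresentation A M) ⋙ F'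

section

variable [PreservesFiniteColimits (Fr F')]

instance additive_Fr : (Fr F').Additive where
  map_add {X Y f g} := by
    rw [← Fm_hom (Fr F') (f + g), ← Fm_hom (Fr F') f, ← Fm_hom (Fr F') g]
    exact Fm_add (Fr F') f.hom.hom g.hom.hom

variable [F'.Additive]

/-- `ρ_m`. -/
noncomputable def rhoM {M : ModuleCat.{u} A} (m : M) : ModuleCat.of A A ⟶ M :=
  ModuleCat.ofHom (LinearMap.toSpanSingleton A M m)

lemma rhoM_comp {M N : ModuleCat.{u} A} (m : M) (g : M ⟶ N) : rhoM m ≫ g = rhoM (g.hom m) := by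
  ext; simp [rhoM]

/-- The universal `κ`-linear map of `F'(M)`. -/
noncomputable def tauM (M : ModuleCat.{u} A) : KLin (kap (Fr F')) M (F'.obj M) where
  toFun m := F'.map (rhoM m)
  map_add' m m' := by
    rw [← F'.map_add]
    congr 1
    ext; simp [rhoM]
  map_smul' a m := by
    change _ = F'.map (ModuleCat.ofHom (LinearMap.lsmul A A a)) ≫ F'.map (rhoM m)
    rw [← F'.map_comp]
    congr 1
    ext; simp [rhoM, mul_comm]

lemma tauM_apply (M : ModuleCat.{u} A) (m : M) : tauM F' M m = F'.map (rhoM m) := rfl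

lemma tauM_comp {M N : ModuleCat.{u} A} (g : M ⟶ N) (m : M) :
    tauM F' M m ≫ F'.map g = tauM F' N (g.hom m) := by
  rw [tauM_apply, tauM_apply, ← F'.map_comp, rhoM_comp]

lemma tauM_comp_assoc' {P Q : ModuleCat.{u} A} (g : P ⟶ Q) {X : B} (t : F'.obj Q ⟶ X) (y : P) :
    tauM F' P y ≫ F'.map g ≫ t = tauM F' Q (g.hom y) ≫ t := by
  rw [← Category.assoc, tauM_comp]

lemma tauF_eq (P : FP A) (y : P.obj) : tauF (Fr F') P y = tauM F' P.obj y := rfl


variable [PreservesFilteredColimitsOfSize.{u, u} F']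

/-- the `j`-th finitely presented module over `M`. -/
noncomputable abbrev Pj (M : ModuleCat.{u} A) (j : JJ M) : FP A := ((toCAFunctor M).obj j).left

/-- the `j`-th structure map. -/
noncomputable abbrev cj (M : ModuleCat.{u} A) (j : JJ M) : (Pj M j).obj ⟶ M :=
  ((toCAFunctor M).obj j).hom

lemma exists_rep (M : ModuleCat.{u} A) (m : M) : ∃ (j : JJ M) (y : (Pj M j).obj), (cj M j).hom y = m := by
  let j := (toCAFunctor M).objPreimage (pt m)
  let e := (toCAFunctor M).objObjPreimageIso (pt m)
  refine ⟨j, e.inv.left.hom.hom (1 : A), ?_⟩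
  have h := hom_w_apply e.inv (1 : A)
  refine h.trans ?_
  change (1 : A) • m = m
  rw [one_smul]

theorem hom_ext_M (M : ModuleCat.{u} A) {X : B} (φ φ' : F'.obj M ⟶ X)
    (h : ∀ m, tauM F' M m ≫ φ = tauM F' M m ≫ φ') : φ = φ' := by
  apply (isColimitOfPreserves F' (isColimitCc M)).hom_ext
  intro j
  change F'.map (cj M j) ≫ φ = F'.map (cj M j) ≫ φ'
  apply hom_ext_F (Fr F') (Pj M j)
  intro y
  rw [tauF_eq, ← Category.assoc, ← Category.assoc, tauM_comp]
  exact h _

/-- the local descents -/
noncomputable def phij (M : ModuleCat.{u} A) {X : B} (ψ : KLin (kap (Fr F')) M X) (j : JJ M) :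
    F'.obj (Pj M j).obj ⟶ X :=
  (exists_desc_F (Fr F') (Pj M j) (ψ.precomp (cj M j).hom)).choose

lemma tau_phij (M : ModuleCat.{u} A) {X : B} (ψ : KLin (kap (Fr F')) M X) (j : JJ M)
    (y : (Pj M j).obj) : tauM F' (Pj M j).obj y ≫ phij F' M ψ j = ψ ((cj M j).hom y) := by
  have h := (exists_desc_F (Fr F') (Pj M j) (ψ.precomp (cj M j).hom)).choose_spec
  have h2 := congrArg (fun (t : KLin (kap (Fr F')) (Pj M j).obj X) => t y) h
  exact h2

/-- the cocone of local descents -/
noncomputable def descCocone (M : ModuleCat.{u} A) {X : B} (ψ : KLin (kap (Fr F')) M X) :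
    Cocone (DD M ⋙ F') where
  pt := X
  ι :=
    { app := fun j => phij F' M ψ j
      naturality := fun j j' α => by
        change F'.map ((DD M).map α) ≫ phij F' M ψ j' = phij F' M ψ j ≫ 𝟙 X
        rw [Category.comp_id]
        apply hom_ext_F (Fr F') (Pj M j)
        intro y
        exact (tauM_comp_assoc' F' ((DD M).map α) (phij F' M ψ j') y).trans
          ((tau_phij F' M ψ j' _).trans
            ((congrArg ψ.toFun (hom_w_apply ((toCAFunctor M).map α) y)).trans
              (tau_phij F' M ψ j y).symm)) }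

theorem exists_desc_M (M : ModuleCat.{u} A) {X : B} (ψ : KLin (kap (Fr F')) M X) :
    ∃ φ : F'.obj M ⟶ X, ∀ m, tauM F' M m ≫ φ = ψ m := by
  let hc := isColimitOfPreserves F' (isColimitCc M)
  refine ⟨hc.desc (descCocone F' M ψ), fun m => ?_⟩
  obtain ⟨j, y, rfl⟩ := exists_rep M m
  have hfac : F'.map (cj M j) ≫ hc.desc (descCocone F' M ψ) = phij F' M ψ j :=
    hc.fac (descCocone F' M ψ) j
  exact (tauM_comp_assoc' F' (cj M j) (hc.desc (descCocone F' M ψ)) y).symm.trans
    ((congrArg (tauM F' (Pj M j).obj y ≫ ·) hfac).trans (tau_phij F' M ψ j y))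


/-- the descended map on the cokernel -/
lemma exists_cokernel_desc {M N : ModuleCat.{u} A} (f : M ⟶ N) {X : B} (t : F'.obj N ⟶ X)
    (ht : F'.map f ≫ t = 0) :
    ∃ t' : F'.obj (ModuleCat.of A (N ⧸ LinearMap.range f.hom)) ⟶ X,
      ∀ n : N, tauM F' (ModuleCat.of A (N ⧸ LinearMap.range f.hom))
        ((LinearMap.range f.hom).mkQ n) ≫ t' = tauM F' N n ≫ t := by
  have h : ∀ n : N, (LinearMap.range f.hom).mkQ n = 0 → ((tauM F' N).comp t) n = 0 := by
    intro n hn
    obtain ⟨m, rfl⟩ := (Submodule.Quotient.mk_eq_zero _).1 hn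
    rw [KLin.comp_apply, ← tauM_comp, Category.assoc, ht, comp_zero]
  obtain ⟨ψ', hψ'⟩ := KLin.exists_desc_of_surjective (LinearMap.range f.hom).mkQ
    (Submodule.mkQ_surjective _) ((tauM F' N).comp t) h
  obtain ⟨t', ht'⟩ := exists_desc_M F' (ModuleCat.of A (N ⧸ LinearMap.range f.hom)) ψ'
  exact ⟨t', fun n => (ht' _).trans (hψ' n)⟩

theorem preservesCokernel {M N : ModuleCat.{u} A} (f : M ⟶ N) :
    PreservesColimit (parallelPair f 0) F' := by
  apply preservesColimit_of_preserves_colimit_cocone (ModuleCat.cokernelIsColimit f)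
  have w : f ≫ ModuleCat.ofHom (LinearMap.range f.hom).mkQ = 0 :=
    ModuleCat.hom_ext (LinearMap.range_mkQ_comp _)
  refine (isColimitMapCoconeCoforkEquiv' F' w).symm ?_
  refine CokernelCofork.IsColimit.ofπ _ _
    (fun {X} t ht => (exists_cokernel_desc F' f t ht).choose) (fun {X} t ht => ?_)
    (fun {X} t ht m' hm' => ?_)
  · have hspec := (exists_cokernel_desc F' f t ht).choose_spec
    apply hom_ext_M F' N
    intro n
    rw [← hspec n]
    exact tauM_comp_assoc' F' (ModuleCat.ofHom (LinearMap.range f.hom).mkQ) _ n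
  · have hspec := (exists_cokernel_desc F' f t ht).choose_spec
    apply hom_ext_M F' (ModuleCat.of A (N ⧸ LinearMap.range f.hom))
    intro q
    obtain ⟨n, rfl⟩ := Submodule.mkQ_surjective _ q
    rw [hspec n, ← hm']
    exact (tauM_comp_assoc' F' (ModuleCat.ofHom (LinearMap.range f.hom).mkQ) m' n).symm

end

theorem S6716_main [HasFiniteBiproducts B] [HasCokernels B] [HasFilteredColimitsOfSize.{u, u} B]
    [PreservesFilteredColimitsOfSize.{u, u} F']
    [PreservesFiniteColimits (ObjectProperty.ι (fun M : ModuleCat.{u} A =>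
      Module.FinitePresentation A M) ⋙ F')] :
    F'.Additive ∧ PreservesFiniteColimits F' ∧
      ∀ J : Type u, PreservesColimitsOfShape (Discrete J) F' := by
  haveI : (Fr F').Additive := additive_Fr F'
  haveI : F'.Additive := additive_of_additive_fp F'
  haveI : ∀ {X Y : ModuleCat.{u} A} (f : X ⟶ Y), PreservesColimit (parallelPair f 0) F' :=
    fun f => preservesCokernel F' f
  haveI : HasZeroObject B := hasZeroObject_of_hasFiniteBiproducts B
  refine ⟨inferInstance, Functor.preservesFiniteColimits_of_preservesCokernels F', fun J => ?_⟩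
  exact preservesColimitsOfShape_discrete F'

end Groth.Agent.H7.FpInd
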