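import Groth.Agent.Lib.Helper7.FpInd1
import Mathlib

/-!
# Extension of a functor on finitely presented modules to all modules (left Kan extension),
preservation of filtered colimits, and uniqueness.
-/

universe u v' u'
open CategoryTheory CategoryTheory.Limits

namespace Groth.Agent.H7.FpInd

section compact

variable {A : Type u} [CommRing A] {J : Type u} [SmallCategory J] [IsFiltered J]
  {K : J ⥤ ModuleCat.{u} A} {c : Cocone K} (hc : IsColimit c)

omit [IsFiltered J] in
lemma cocone_w_elt (c : Cocone K) {j k : J} (f : j ⟶ k) (y : K.obj j) :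
    (c.ι.app k).hom ((K.map f).hom y) = (c.ι.app j).hom y := by
  have := congrArg (fun φ : K.obj j ⟶ c.pt => φ.hom y) (c.w f)
  simpa using this

include hc

lemma exists_rep_elt (x : c.pt) : ∃ (j : J) (y : K.obj j), (c.ι.app j).hom y = x :=
  Concrete.isColimit_exists_rep K hc x

lemma exists_map_eq_zero (j : J) (y : K.obj j) (hy : (c.ι.app j).hom y = 0) :
    ∃ (k : J) (f : j ⟶ k), (K.map f).hom y = 0 := by
  obtain ⟨k, f, g, hfg⟩ := (Concrete.isColimit_rep_eq_iff_exists (F := K) hc y (0 : K.obj j)).1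
    (hy.trans (map_zero (c.ι.app j).hom).symm)
  exact ⟨k, f, hfg.trans (map_zero (K.map g).hom)⟩

lemma exists_map_eq_zero_finset (j : J) (s : Finset (K.obj j))
    (hs : ∀ y ∈ s, (c.ι.app j).hom y = 0) :
    ∃ (k : J) (f : j ⟶ k), ∀ y ∈ s, (K.map f).hom y = 0 := by
  classical
  induction s using Finset.induction_on with
  | empty => exact ⟨j, 𝟙 j, by simp⟩
  | insert a s ha ih =>
    obtain ⟨k, f, hf⟩ := ih (fun y hy => hs y (Finset.mem_insert_of_mem hy))
    have h0 : (c.ι.app k).hom ((K.map f).hom a) = 0 := by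
      rw [cocone_w_elt]; exact hs a (Finset.mem_insert_self a s)
    obtain ⟨k', f', hf'⟩ := exists_map_eq_zero hc k _ h0
    refine ⟨k', f ≫ f', fun y hy => ?_⟩
    have hcomp : (K.map (f ≫ f')).hom y = (K.map f').hom ((K.map f).hom y) := by
      rw [K.map_comp]; rfl
    rw [hcomp]
    rcases Finset.mem_insert.1 hy with rfl | hy'
    · exact hf'
    · rw [hf y hy', map_zero]

lemma exists_eq_of_fg (P : ModuleCat.{u} A) (hP : Module.Finite A P) (j : J) (g₁ g₂ : P ⟶ K.obj j)
    (h : g₁ ≫ c.ι.app j = g₂ ≫ c.ι.app j) :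
    ∃ (k : J) (f : j ⟶ k), g₁ ≫ K.map f = g₂ ≫ K.map f := by
  classical
  obtain ⟨S, hS⟩ := (Module.Finite.fg_top : (⊤ : Submodule A P).FG)
  obtain ⟨k, f, hf⟩ := exists_map_eq_zero_finset hc j
    (S.image (fun p => g₁.hom p - g₂.hom p)) (by
      intro y hy
      obtain ⟨p, -, rfl⟩ := Finset.mem_image.1 hy
      rw [map_sub, sub_eq_zero]
      exact congrArg (fun φ : P ⟶ c.pt => φ.hom p) h)
  refine ⟨k, f, ModuleCat.hom_ext (LinearMap.ext_on hS (fun p hp => ?_))⟩
  have h1 := hf _ (Finset.mem_image_of_mem (fun p => g₁.hom p - g₂.hom p) (Finset.mem_coe.1 hp))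
  rw [map_sub, sub_eq_zero] at h1
  exact h1

lemma exists_common_rep {n : ℕ} (m : Fin n → c.pt) :
    ∃ (j : J) (y : Fin n → K.obj j), ∀ i, (c.ι.app j).hom (y i) = m i := by
  classical
  choose jj yy hyy using fun i => exists_rep_elt hc (m i)
  obtain ⟨k, hk⟩ := IsFiltered.sup_objs_exists (Finset.univ.image jj)
  have hk' : ∀ i, Nonempty (jj i ⟶ k) := fun i =>
    hk (Finset.mem_image_of_mem _ (Finset.mem_univ i))
  refine ⟨k, fun i => (K.map (hk' i).some).hom (yy i), fun i => ?_⟩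
  rw [cocone_w_elt]; exact hyy i

lemma exists_factor_of_fp (P : ModuleCat.{u} A) (hP : Module.FinitePresentation A P)
    (g : P ⟶ c.pt) :
    ∃ (j : J) (g' : P ⟶ K.obj j), g' ≫ c.ι.app j = g := by
  classical
  obtain ⟨n, N, e, hN⟩ := Module.FinitePresentation.exists_fin A P
  let π : (Fin n → A) →ₗ[A] P := e.symm.toLinearMap ∘ₗ N.mkQ
  obtain ⟨j, y, hy⟩ := exists_common_rep hc (fun i => g.hom (π (Pi.single i 1)))
  let gh : (Fin n → A) →ₗ[A] K.obj j := Fintype.linearCombination A y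
  have hgh : ∀ v, (c.ι.app j).hom (gh v) = g.hom (π v) := by
    intro v
    have h1 : (c.ι.app j).hom ∘ₗ gh = g.hom ∘ₗ π := by
      apply LinearMap.pi_ext
      intro i x
      have hx : (Pi.single i x : Fin n → A) = x • Pi.single i 1 := by
        rw [← Pi.single_smul, smul_eq_mul, mul_one]
      rw [hx]
      simp only [LinearMap.comp_apply, map_smul]
      congr 1
      rw [Fintype.linearCombination_apply_single, one_smul]
      exact hy i
    exact LinearMap.congr_fun h1 v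
  obtain ⟨T, hT⟩ := hN
  have hπT : ∀ t ∈ N, π t = 0 := by
    intro t ht
    show e.symm (N.mkQ t) = 0
    rw [Submodule.mkQ_apply, (Submodule.Quotient.mk_eq_zero N).2 ht, map_zero]
  obtain ⟨k, f, hf⟩ := exists_map_eq_zero_finset hc j (T.image gh) (by
    intro z hz
    obtain ⟨t, ht, rfl⟩ := Finset.mem_image.1 hz
    have htN : t ∈ N := by
      rw [← hT]; exact Submodule.subset_span (Finset.mem_coe.2 ht)
    rw [hgh, hπT t htN, map_zero])
  have hker : N ≤ LinearMap.ker ((K.map f).hom ∘ₗ gh) := by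
    rw [← hT, Submodule.span_le]
    intro t ht
    exact hf _ (Finset.mem_image_of_mem _ (Finset.mem_coe.1 ht))
  refine ⟨k, ModuleCat.ofHom ((N.liftQ _ hker) ∘ₗ e.toLinearMap), ?_⟩
  apply ModuleCat.hom_ext
  apply LinearMap.ext
  intro p
  obtain ⟨q, rfl⟩ := e.symm.surjective p
  obtain ⟨v, rfl⟩ := N.mkQ_surjective q
  show (c.ι.app k).hom (N.liftQ _ hker (e (e.symm (N.mkQ v)))) = g.hom (e.symm (N.mkQ v))
  rw [LinearEquiv.apply_symm_apply, Submodule.mkQ_apply, Submodule.liftQ_apply]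
  show (c.ι.app k).hom ((K.map f).hom (gh v)) = _
  rw [cocone_w_elt, hgh]
  rfl

end compact

section kan

variable {A : Type u} [CommRing A] {B : Type u'} [Category.{v'} B]
  [HasFilteredColimitsOfSize.{u, u} B]
  (F : (fpProp A).FullSubcategory ⥤ B)

instance hasColim (M : ModuleCat.{u} A) :
    HasColimit (CostructuredArrow.proj (ObjectProperty.ι (fpProp A)) M ⋙ F) := by
  haveI : HasColimitsOfShape (JJ M) B := HasFilteredColimitsOfSize.HasColimitsOfShape (JJ M)
  haveI : HasColimit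
      (toCAFunctor M ⋙ CostructuredArrow.proj (ObjectProperty.ι (fpProp A)) M ⋙ F) :=
    inferInstance
  exact Functor.Final.hasColimit_of_comp (toCAFunctor M)

/-- The extension: the pointwise left Kan extension along the inclusion. -/
noncomputable def Fext : ModuleCat.{u} A ⥤ B :=
  (ObjectProperty.ι (fpProp A)).pointwiseLeftKanExtension F

/-- The coprojections. -/
noncomputable def inc (Y : ModuleCat.{u} A) (P : (fpProp A).FullSubcategory) (g : P.obj ⟶ Y) :
    F.obj P ⟶ (Fext F).obj Y :=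
  colimit.ι (CostructuredArrow.proj (ObjectProperty.ι (fpProp A)) Y ⋙ F)
    (CostructuredArrow.mk (S := ObjectProperty.ι (fpProp A)) (Y := P) g)

lemma inc_map {Y₁ Y₂ : ModuleCat.{u} A} (h : Y₁ ⟶ Y₂) (P : (fpProp A).FullSubcategory)
    (g : P.obj ⟶ Y₁) :
    inc F Y₁ P g ≫ (Fext F).map h = inc F Y₂ P (g ≫ h) := by
  exact colimit.ι_desc _ _

lemma inc_precomp (Y : ModuleCat.{u} A) {P P' : (fpProp A).FullSubcategory} (q : P ⟶ P')
    (g' : P'.obj ⟶ Y) :
    F.map q ≫ inc F Y P' g' = inc F Y P ((ObjectProperty.ι (fpProp A)).map q ≫ g') := by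
  let φ : CostructuredArrow.mk (S := ObjectProperty.ι (fpProp A)) (Y := P)
      ((ObjectProperty.ι (fpProp A)).map q ≫ g') ⟶
      CostructuredArrow.mk (S := ObjectProperty.ι (fpProp A)) (Y := P') g' :=
    CostructuredArrow.homMk q rfl
  exact colimit.w (CostructuredArrow.proj (ObjectProperty.ι (fpProp A)) Y ⋙ F) φ

lemma hom_ext_inc {Y : ModuleCat.{u} A} {Z : B} {φ ψ : (Fext F).obj Y ⟶ Z}
    (h : ∀ (P : (fpProp A).FullSubcategory) (g : P.obj ⟶ Y), inc F Y P g ≫ φ = inc F Y P g ≫ ψ) :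
    φ = ψ := by
  apply colimit.hom_ext
  intro X
  rcases X with ⟨P, ⟨⟨⟩⟩, g⟩
  exact h P g

/-- Descent from a compatible family. -/
noncomputable def descInc {Y : ModuleCat.{u} A} {Z : B}
    (t : ∀ (P : (fpProp A).FullSubcategory) (_ : P.obj ⟶ Y), F.obj P ⟶ Z)
    (ht : ∀ {P P' : (fpProp A).FullSubcategory} (q : P ⟶ P') (g' : P'.obj ⟶ Y),
      F.map q ≫ t P' g' = t P ((ObjectProperty.ι (fpProp A)).map q ≫ g')) :
    (Fext F).obj Y ⟶ Z :=
  colimit.desc (CostructuredArrow.proj (ObjectProperty.ι (fpProp A)) Y ⋙ F)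
    { pt := Z
      ι := { app := fun X => t X.left X.hom
             naturality := fun X X' φ => by
               show F.map φ.left ≫ t X'.left X'.hom = t X.left X.hom ≫ 𝟙 Z
               rw [Category.comp_id, ht, CostructuredArrow.w] } }

lemma inc_descInc {Y : ModuleCat.{u} A} {Z : B}
    (t : ∀ (P : (fpProp A).FullSubcategory) (_ : P.obj ⟶ Y), F.obj P ⟶ Z)
    (ht : ∀ {P P' : (fpProp A).FullSubcategory} (q : P ⟶ P') (g' : P'.obj ⟶ Y),
      F.map q ≫ t P' g' = t P ((ObjectProperty.ι (fpProp A)).map q ≫ g'))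
    (P : (fpProp A).FullSubcategory) (g : P.obj ⟶ Y) :
    inc F Y P g ≫ descInc F t ht = t P g := by
  exact colimit.ι_desc _ _

section pres

variable {J : Type u} [SmallCategory J] [IsFiltered J] {K : J ⥤ ModuleCat.{u} A} {c : Cocone K}
  (hc : IsColimit c)

include hc in
lemma welldef (s : Cocone (K ⋙ Fext F)) (P : (fpProp A).FullSubcategory) {j₁ j₂ : J}
    (g₁ : P.obj ⟶ K.obj j₁) (g₂ : P.obj ⟶ K.obj j₂)
    (h : g₁ ≫ c.ι.app j₁ = g₂ ≫ c.ι.app j₂) :
    inc F _ P g₁ ≫ s.ι.app j₁ = inc F _ P g₂ ≫ s.ι.app j₂ := by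
  let k := IsFiltered.max j₁ j₂
  let a : j₁ ⟶ k := IsFiltered.leftToMax j₁ j₂
  let b : j₂ ⟶ k := IsFiltered.rightToMax j₁ j₂
  haveI : Module.FinitePresentation A P.obj := P.property
  obtain ⟨k', f, hf⟩ := exists_eq_of_fg hc P.obj inferInstance k (g₁ ≫ K.map a) (g₂ ≫ K.map b) (by
    rw [Category.assoc, Category.assoc, c.w, c.w, h])
  have e₁ : s.ι.app j₁ = (Fext F).map (K.map (a ≫ f)) ≫ s.ι.app k' := (s.w (a ≫ f)).symm
  have e₂ : s.ι.app j₂ = (Fext F).map (K.map (b ≫ f)) ≫ s.ι.app k' := (s.w (b ≫ f)).symm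
  have e₃ : g₁ ≫ K.map (a ≫ f) = g₂ ≫ K.map (b ≫ f) := by
    rw [K.map_comp, K.map_comp, ← Category.assoc, ← Category.assoc]; exact hf
  rw [e₁, e₂, ← Category.assoc, ← Category.assoc, inc_map, inc_map, e₃]

/-- chosen stage -/
noncomputable def jOf (P : (fpProp A).FullSubcategory) (g : P.obj ⟶ c.pt) : J :=
  (exists_factor_of_fp hc P.obj P.property g).choose

/-- chosen factorization -/
noncomputable def gOf (P : (fpProp A).FullSubcategory) (g : P.obj ⟶ c.pt) :
    P.obj ⟶ K.obj (jOf hc P g) :=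
  (exists_factor_of_fp hc P.obj P.property g).choose_spec.choose

lemma gOf_spec (P : (fpProp A).FullSubcategory) (g : P.obj ⟶ c.pt) :
    gOf hc P g ≫ c.ι.app (jOf hc P g) = g :=
  (exists_factor_of_fp hc P.obj P.property g).choose_spec.choose_spec

/-- the compatible family -/
noncomputable def tt (s : Cocone (K ⋙ Fext F)) (P : (fpProp A).FullSubcategory)
    (g : P.obj ⟶ c.pt) : F.obj P ⟶ s.pt :=
  inc F _ P (gOf hc P g) ≫ s.ι.app (jOf hc P g)

lemma tt_eq (s : Cocone (K ⋙ Fext F)) (P : (fpProp A).FullSubcategory)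
    (g : P.obj ⟶ c.pt) (j : J) (g' : P.obj ⟶ K.obj j) (h : g' ≫ c.ι.app j = g) :
    tt F hc s P g = inc F _ P g' ≫ s.ι.app j :=
  welldef F hc s P _ _ ((gOf_spec hc P g).trans h.symm)

lemma tt_compat (s : Cocone (K ⋙ Fext F)) {P P' : (fpProp A).FullSubcategory} (q : P ⟶ P')
    (g' : P'.obj ⟶ c.pt) :
    F.map q ≫ tt F hc s P' g' =
      tt F hc s P ((ObjectProperty.ι (fpProp A)).map q ≫ g') := by
  rw [tt_eq F hc s P ((ObjectProperty.ι (fpProp A)).map q ≫ g') (jOf hc P' g')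
    ((ObjectProperty.ι (fpProp A)).map q ≫ gOf hc P' g') (by rw [Category.assoc, gOf_spec])]
  dsimp only [tt]
  rw [← Category.assoc, inc_precomp]

/-- The extension preserves the filtered colimit. -/
noncomputable def isColimitMapCocone : IsColimit ((Fext F).mapCocone c) where
  desc s := descInc F (tt F hc s) (fun q g' => tt_compat F hc s q g')
  fac s j := by
    apply hom_ext_inc
    intro P g
    have h1 : ((Fext F).mapCocone c).ι.app j = (Fext F).map (c.ι.app j) := rfl
    rw [h1, ← Category.assoc, inc_map, inc_descInc]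
    exact tt_eq F hc s P _ j g rfl
  uniq s m hm := by
    apply hom_ext_inc
    intro P g
    rw [inc_descInc]
    obtain ⟨j, g', rfl⟩ := exists_factor_of_fp hc P.obj P.property g
    rw [tt_eq F hc s P _ j g' rfl, ← hm j]
    have h1 : ((Fext F).mapCocone c).ι.app j = (Fext F).map (c.ι.app j) := rfl
    rw [h1, ← Category.assoc, inc_map]
    rfl

end pres

theorem exists_extension :
    ∃ F' : ModuleCat.{u} A ⥤ B, PreservesFilteredColimitsOfSize.{u, u} F' ∧
      Nonempty (ObjectProperty.ι (fpProp A) ⋙ F' ≅ F) := by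
  refine ⟨Fext F, ⟨fun J _ _ => ⟨fun {K} => ⟨fun {c} hc => ⟨isColimitMapCocone F hc⟩⟩⟩⟩, ?_⟩
  haveI : IsIso ((ObjectProperty.ι (fpProp A)).pointwiseLeftKanExtensionUnit F) :=
    ((ObjectProperty.ι (fpProp A)).pointwiseLeftKanExtensionIsPointwiseLeftKanExtension
      F).isIso_hom
  exact ⟨(asIso ((ObjectProperty.ι (fpProp A)).pointwiseLeftKanExtensionUnit F)).symm⟩

lemma isLKE (G : ModuleCat.{u} A ⥤ B) [PreservesFilteredColimitsOfSize.{u, u} G] :
    G.IsLeftKanExtension (𝟙 (ObjectProperty.ι (fpProp A) ⋙ G)) := by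
  have hp : (Functor.LeftExtension.mk G
      (𝟙 (ObjectProperty.ι (fpProp A) ⋙ G))).IsPointwiseLeftKanExtension := by
    intro M
    haveI : PreservesColimitsOfShape (JJ M) G :=
      PreservesFilteredColimitsOfSize.preserves_filtered_colimits (JJ M)
    have h1 : IsColimit (G.mapCocone (cc M)) := isColimitOfPreserves G (isColimitCc M)
    have h2 : IsColimit (G.mapCocone (canCocone M)) :=
      (Functor.Final.isColimitWhiskerEquiv (toCAFunctor M) (G.mapCocone (canCocone M))).1 h1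
    exact IsColimit.ofIsoColimit h2 (Cocone.ext (Iso.refl _) (fun X => by
      show G.map X.hom ≫ 𝟙 (G.obj M) = 𝟙 (G.obj X.left.obj) ≫ G.map X.hom
      rw [Category.comp_id, Category.id_comp]))
  exact hp.isLeftKanExtension

theorem unique_extension (F₁ F₂ : ModuleCat.{u} A ⥤ B)
    [PreservesFilteredColimitsOfSize.{u, u} F₁] [PreservesFilteredColimitsOfSize.{u, u} F₂]
    (e : ObjectProperty.ι (fpProp A) ⋙ F₁ ≅ ObjectProperty.ι (fpProp A) ⋙ F₂) :
    Nonempty (F₁ ≅ F₂) := by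
  haveI := isLKE F₁
  haveI := isLKE F₂
  exact ⟨Functor.leftKanExtensionUniqueOfIso F₁ (𝟙 (ObjectProperty.ι (fpProp A) ⋙ F₁)) e F₂
    (𝟙 (ObjectProperty.ι (fpProp A) ⋙ F₂))⟩

end kan

theorem S6714_main (A : Type u) [CommRing A] {B : Type u'} [Category.{v'} B]
    [HasFilteredColimitsOfSize.{u, u} B]
    (F : (ObjectProperty.FullSubcategory
      (fun M : ModuleCat.{u} A => Module.FinitePresentation A M)) ⥤ B) :
    (∃ F' : ModuleCat.{u} A ⥤ B, PreservesFilteredColimitsOfSize.{u, u} F' ∧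
      Nonempty (ObjectProperty.ι (fun M : ModuleCat.{u} A => Module.FinitePresentation A M) ⋙ F'
        ≅ F)) ∧
    ∀ F₁ F₂ : ModuleCat.{u} A ⥤ B, PreservesFilteredColimitsOfSize.{u, u} F₁ →
      PreservesFilteredColimitsOfSize.{u, u} F₂ →
      Nonempty (ObjectProperty.ι (fun M : ModuleCat.{u} A => Module.FinitePresentation A M) ⋙ F₁
        ≅ ObjectProperty.ι (fun M : ModuleCat.{u} A => Module.FinitePresentation A M) ⋙ F₂) →
      Nonempty (F₁ ≅ F₂) := by
  refine ⟨exists_extension F, fun F₁ F₂ h₁ h₂ ⟨e⟩ => ?_⟩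
  haveI := h₁
  haveI := h₂
  exact unique_extension F₁ F₂ e

end Groth.Agent.H7.FpInd
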