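import Mathlib
open CategoryTheory CategoryTheory.Limits AlgebraicGeometry Polynomial
universe u

namespace Groth.Agent.H7.FppfLocal

/-- fppf-local affine schemes: monic polynomials of positive degree have roots. -/
lemma exists_root (A : Type u) [CommRing A] [Nontrivial A]
    (hloc : ∀ (X : Scheme.{u}) (R : Presieve X),
      R ∈ Scheme.precoverage (@Flat ⊓ @LocallyOfFinitePresentation ⊓ @QuasiCompact ⊓ @QuasiSeparated) X →
      ∀ g : Spec (CommRingCat.of A) ⟶ X,
        ∃ (Y : Scheme.{u}) (v : Y ⟶ X) (h : Spec (CommRingCat.of A) ⟶ Y), R v ∧ h ≫ v = g)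
    (G : A[X]) (hG : G.Monic) (hdeg : 1 ≤ G.natDegree) : ∃ r : A, G.eval r = 0 := by
  let B := AdjoinRoot G
  haveI : Module.Free A B := .of_basis (AdjoinRoot.powerBasis' hG).basis
  haveI : Nontrivial B := by
    refine Ideal.Quotient.nontrivial_iff.mpr ?_
    rw [Ne, Ideal.span_singleton_eq_top, hG.isUnit_iff]
    rintro rfl
    simp at hdeg
  let φ : CommRingCat.of A ⟶ CommRingCat.of B := CommRingCat.ofHom (algebraMap A B)
  have hff : φ.hom.FaithfullyFlat := by
    show (algebraMap A B).FaithfullyFlat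
    rw [RingHom.faithfullyFlat_algebraMap_iff]
    infer_instance
  obtain ⟨hflat, hsurj⟩ := (flat_and_surjective_SpecMap_iff φ).mpr hff
  have hfp : LocallyOfFinitePresentation (Spec.map φ) := by
    rw [HasRingHomProperty.Spec_iff (P := @LocallyOfFinitePresentation)]
    show (algebraMap A B).FinitePresentation
    rw [RingHom.finitePresentation_algebraMap]
    infer_instance
  let 𝒰 : (Spec (CommRingCat.of A)).Cover (Scheme.precoverage
      (@Flat ⊓ @LocallyOfFinitePresentation ⊓ @QuasiCompact ⊓ @QuasiSeparated)) :=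
    Scheme.Cover.mkOfCovers PUnit.{u+1} (fun _ => Spec (CommRingCat.of B)) (fun _ => Spec.map φ)
      (fun x => ⟨PUnit.unit, hsurj.surj x⟩)
      (fun _ => ⟨⟨⟨hflat, hfp⟩, inferInstance⟩, inferInstance⟩)
  obtain ⟨Y, v, h, hv, hh⟩ := hloc _ _ 𝒰.mem₀ (𝟙 _)
  obtain ⟨i⟩ := hv
  obtain ⟨ψ, rfl⟩ := Spec.map_surjective h
  have hcomp : φ ≫ ψ = 𝟙 _ := by
    apply Spec.map_injective
    rw [Spec.map_comp, Spec.map_id]
    exact hh
  refine ⟨ψ.hom (AdjoinRoot.root G), ?_⟩
  have h1 : ∀ a : A, ψ.hom (AdjoinRoot.of G a) = a := fun a => by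
    have := congrArg (fun χ => χ.hom a) hcomp
    exact this
  have h2 : ψ.hom (G.eval₂ (AdjoinRoot.of G) (AdjoinRoot.root G)) = 0 := by
    rw [AdjoinRoot.eval₂_root, map_zero]
  rw [Polynomial.hom_eval₂] at h2
  have h3 : (ψ.hom : B →+* A).comp (AdjoinRoot.of G) = RingHom.id A := RingHom.ext h1
  rw [h3, Polynomial.eval₂_id] at h2
  exact h2


theorem main (A : Type u) [CommRing A]
    (hloc : ∀ (X : Scheme.{u}) (R : Presieve X),
      R ∈ Scheme.precoverage (@Flat ⊓ @LocallyOfFinitePresentation ⊓ @QuasiCompact ⊓ @QuasiSeparated) X →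
      ∀ g : Spec (CommRingCat.of A) ⟶ X,
        ∃ (Y : Scheme.{u}) (v : Y ⟶ X) (h : Spec (CommRingCat.of A) ⟶ Y), R v ∧ h ≫ v = g)
    (p : Ideal A) [p.IsPrime] : IsAlgClosed p.ResidueField := by
  haveI : Nontrivial A := ⟨⟨0, 1, fun h => (Ideal.IsPrime.ne_top ‹p.IsPrime›)
    ((Ideal.eq_top_iff_one p).mpr (h ▸ p.zero_mem))⟩⟩
  apply IsAlgClosed.of_exists_root
  intro q hq hirr
  let ι : A ⧸ p →+* p.ResidueField := algebraMap (A ⧸ p) p.ResidueField
  have hι : Function.Injective ι := IsFractionRing.injective (A ⧸ p) p.ResidueField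
  obtain ⟨b, hb, hQ₀⟩ := IsLocalization.integerNormalization_spec (nonZeroDivisors (A ⧸ p)) q
  set Q₀ := IsLocalization.integerNormalization (nonZeroDivisors (A ⧸ p)) q with hQ₀def
  have hb0 : ι b ≠ 0 := by
    intro h
    exact nonZeroDivisors.ne_zero hb (hι (h.trans (map_zero ι).symm))
  have hbq : b • q = Polynomial.C (ι b) * q := by
    rw [Algebra.smul_def]; rfl
  have hqdeg : 1 ≤ q.natDegree := hirr.natDegree_pos
  have hdegQ : Q₀.natDegree = q.natDegree := by
    rw [← Polynomial.natDegree_map_eq_of_injective hι Q₀, hQ₀, hbq,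
      Polynomial.natDegree_C_mul hb0]
  have hQ₀ne : Q₀ ≠ 0 := by
    intro h
    rw [h, Polynomial.natDegree_zero] at hdegQ
    omega
  have hG₀mon : Q₀.integralNormalization.Monic := Polynomial.monic_integralNormalization hQ₀ne
  obtain ⟨G, hGmap, hGdeg, hGmon⟩ := Polynomial.lifts_and_degree_eq_and_monic
    ((Polynomial.mem_lifts _).mpr
      (Polynomial.map_surjective (Ideal.Quotient.mk p) Ideal.Quotient.mk_surjective
        Q₀.integralNormalization)) hG₀mon
  have hGnat : 1 ≤ G.natDegree := by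
    rw [Polynomial.natDegree_eq_of_degree_eq hGdeg, Polynomial.natDegree_integralNormalization,
      hdegQ]
    exact hqdeg
  obtain ⟨r, hr⟩ := exists_root A hloc G hGmon hGnat
  have hr' : Q₀.integralNormalization.eval (Ideal.Quotient.mk p r) = 0 := by
    rw [← hGmap, Polynomial.eval_map, Polynomial.eval₂_at_apply, hr, map_zero]
  have hc0 : ι Q₀.leadingCoeff ≠ 0 := by
    intro h
    exact Polynomial.leadingCoeff_ne_zero.mpr hQ₀ne (hι (h.trans (map_zero ι).symm))
  refine ⟨ι (Ideal.Quotient.mk p r) / ι Q₀.leadingCoeff, ?_⟩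
  have key := Polynomial.integralNormalization_eval₂_leadingCoeff_mul (p := Q₀)
    (by rw [hdegQ]; exact hqdeg) ι (ι (Ideal.Quotient.mk p r) / ι Q₀.leadingCoeff)
  rw [mul_div_cancel₀ _ hc0, Polynomial.eval₂_at_apply, hr', map_zero] at key
  have h4 : Q₀.eval₂ ι (ι (Ideal.Quotient.mk p r) / ι Q₀.leadingCoeff) = 0 := by
    rcases mul_eq_zero.mp key.symm with h | h
    · exact absurd h (pow_ne_zero _ hc0)
    · exact h
  rw [← Polynomial.eval_map, hQ₀, hbq, Polynomial.eval_mul, Polynomial.eval_C] at h4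
  exact (mul_eq_zero.mp h4).resolve_left hb0

end Groth.Agent.H7.FppfLocal
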