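import Mathlib.RingTheory.Localization.FractionRing
import Mathlib.Algebra.Algebra.Subalgebra.Basic
import Mathlib.Tactic

/-! Subalgebras of the total ring of fractions. -/

set_option autoImplicit false
universe u

namespace Groth.Agent.H7

variable {A Q : Type u} [CommRing A] [CommRing Q] [Algebra A Q] [IsFractionRing A Q]

/-- a nonzerodivisor of a subalgebra `B` of the total fraction ring `Q` is a unit of `Q`. -/
theorem isUnit_coe_of_mem_nonZeroDivisors_subalgebra (B : Subalgebra A Q) (b : B)
    (hb : b ∈ nonZeroDivisors B) : IsUnit (b : Q) := by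
  have hQ : (b : Q) ∈ nonZeroDivisors Q := by
    rw [mem_nonZeroDivisors_iff_right]
    intro q hq
    obtain ⟨⟨a, s⟩, hs⟩ := IsLocalization.surj (nonZeroDivisors A) q
    have hsu : IsUnit (algebraMap A Q s) := IsLocalization.map_units Q s
    -- q * s = a, so a * b = 0
    have h1 : (algebraMap A B a) * b = 0 := by
      apply Subtype.ext
      show algebraMap A Q a * (b : Q) = 0
      rw [← hs, mul_right_comm, hq, zero_mul]
    have h2 : algebraMap A B a = 0 := (mem_nonZeroDivisors_iff_right.mp hb) _ h1
    have h3 : algebraMap A Q a = 0 := congrArg Subtype.val h2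
    rw [h3] at hs
    exact (hsu.mul_left_eq_zero).mp hs
  have := IsFractionRing.nonZeroDivisors_eq_isUnit A Q
  rw [this] at hQ
  exact hQ

theorem algebraMap_mem_nonZeroDivisors_subalgebra (B : Subalgebra A Q) (a : A)
    (ha : a ∈ nonZeroDivisors A) : algebraMap A B a ∈ nonZeroDivisors B := by
  rw [mem_nonZeroDivisors_iff_right]
  intro x hx
  have hu : IsUnit (algebraMap A Q a) := IsLocalization.map_units Q ⟨a, ha⟩
  have h1 : (x : Q) * algebraMap A Q a = 0 := congrArg Subtype.val hx
  apply Subtype.ext
  exact (hu.mul_left_eq_zero).mp h1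

end Groth.Agent.H7
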