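import Groth.Agent.Lib.Helper7.SigLinPow

/-! Fixed points of Frobenius: the prime field (helper7). -/

set_option autoImplicit false

namespace Groth.Agent.H7.SigLin

open Polynomial

section primefield

variable (p : ℕ) [Fact p.Prime] (k : Type*) [Field k] [CharP k p]

lemma castHom_pow (c : ZMod p) :
    (ZMod.castHom (dvd_refl p) k c) ^ p = ZMod.castHom (dvd_refl p) k c := by
  rw [← map_pow, ZMod.pow_card]

/-- an element fixed by Frobenius lies in the prime field -/
theorem exists_zmod_of_pow_eq (a : k) (ha : a ^ p = a) :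
    ∃ c : ZMod p, ZMod.castHom (dvd_refl p) k c = a := by
  classical
  have hp1 : 1 < p := (Fact.out : p.Prime).one_lt
  set P : k[X] := X ^ p - X with hP
  have hne : P ≠ 0 := FiniteField.X_pow_card_sub_X_ne_zero k hp1
  have hdeg : P.natDegree = p := FiniteField.X_pow_card_sub_X_natDegree_eq k hp1
  have hroot : ∀ x : k, x ^ p = x → x ∈ P.roots.toFinset := by
    intro x hx
    rw [Multiset.mem_toFinset, mem_roots hne, IsRoot, hP, eval_sub, eval_pow, eval_X, hx, sub_self]
  set f := ZMod.castHom (dvd_refl p) k with hf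
  have hinj : Function.Injective f := f.injective
  set S : Finset k := Finset.univ.image f with hS
  have hcard : S.card = p := by
    rw [hS, Finset.card_image_of_injective _ hinj, Finset.card_univ, ZMod.card]
  have hsub : S ⊆ P.roots.toFinset := by
    intro x hx
    rw [hS, Finset.mem_image] at hx
    obtain ⟨c, -, rfl⟩ := hx
    exact hroot _ (castHom_pow p k c)
  have hle : P.roots.toFinset.card ≤ S.card := by
    rw [hcard]
    calc P.roots.toFinset.card ≤ Multiset.card P.roots := Multiset.toFinset_card_le _
      _ ≤ P.natDegree := card_roots' P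
      _ = p := hdeg
  have heq := Finset.eq_of_subset_of_card_le hsub hle
  have ha' : a ∈ S := by rw [heq]; exact hroot a ha
  rw [hS, Finset.mem_image] at ha'
  obtain ⟨c, -, hc⟩ := ha'
  exact ⟨c, hc⟩

end primefield

section fixed

variable (p : ℕ) [Fact p.Prime] (k : Type*) [Field k] [CharP k p] [PerfectRing k p]
  {V : Type*} [AddCommGroup V] [Module k V]

/-- **S15505** -/
theorem fixed_iff_primeField (φ : V →ₛₗ[((frobeniusEquiv k p).symm : k →+* k)] V)
    {ι : Type*} [Fintype ι] (b : Module.Basis ι k V) (hb : ∀ i, φ (b i) = b i) (v : V) :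
    φ v = v ↔ ∃ c : ι → ZMod p, v = ∑ i, (ZMod.castHom (dvd_refl p) k (c i)) • b i := by
  have hσ : ∀ a : k, ((frobeniusEquiv k p).symm : k →+* k) a = a ↔ a ^ p = a := by
    intro a
    change (frobeniusEquiv k p).symm a = a ↔ _
    rw [RingEquiv.symm_apply_eq, frobeniusEquiv_apply, frobenius_def, eq_comm]
  constructor
  · intro hv
    have hrepr : ∀ i, (b.repr v i) ^ p = b.repr v i := by
      intro i
      rw [← hσ]
      have h1 : φ v = ∑ j, ((frobeniusEquiv k p).symm : k →+* k) (b.repr v j) • b j := by
        conv_lhs => rw [← b.sum_repr v]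
        rw [map_sum]
        refine Finset.sum_congr rfl (fun j _ => ?_)
        rw [φ.map_smulₛₗ, hb]
      have h2 : b.repr (φ v) i = b.repr (∑ j, ((frobeniusEquiv k p).symm : k →+* k) (b.repr v j) • b j) i := by
        rw [← h1]
      rw [b.repr_sum_self, hv] at h2
      exact h2.symm
    choose c hc using fun i => exists_zmod_of_pow_eq p k (b.repr v i) (hrepr i)
    refine ⟨c, ?_⟩
    conv_lhs => rw [← b.sum_repr v]
    refine Finset.sum_congr rfl (fun i _ => ?_)
    rw [hc]
  · rintro ⟨c, rfl⟩
    rw [map_sum]
    refine Finset.sum_congr rfl (fun i _ => ?_)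
    rw [φ.map_smulₛₗ, hb, (hσ _).2 (castHom_pow p k (c i))]

end fixed

end Groth.Agent.H7.SigLin
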