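import Groth.Agent.Lib.Helper7.SigLin5
import Groth.Agent.Lib.Helper7.FrobFix

/-! Counting fixed vectors of a `p`-semilinear map (helper7). -/

set_option autoImplicit false

namespace Groth.Agent.H7.SigLin

section field

variable {k : Type*} [Field k] {σ : k →+* k} {V : Type*} [AddCommGroup V] [Module k V]
  [FiniteDimensional k V]

/-- variant of `exists_fixed_coeffs` exposing the size of the family -/
theorem exists_fixed_coeffs' (hσ : Function.Surjective σ) (T : V →ₛₗ[σ] V) (h2 : H2 σ) (h3 : H3 σ) :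
    ∃ (b : Fin (Module.finrank k (ss T)) → V), (∀ i, T (b i) = b i) ∧
      ∀ v, T v = v → ∃ c : Fin (Module.finrank k (ss T)) → k,
        (∀ i, σ (c i) = c i) ∧ v = ∑ i, c i • b i := by
  obtain ⟨-, b, hb⟩ := sub_surjective_and_fixed_basis hσ T h2 h3
  refine ⟨fun i => (b i : V), hb, fun v hv => ?_⟩
  have hli : LinearIndependent k (fun i => ((b i : ss T) : V)) :=
    b.linearIndependent.map' (ss T).subtype (Submodule.ker_subtype _)
  set w : ss T := ⟨v, mem_ss_of_fixed T hv⟩ with hw
  have hsum : v = ∑ i, b.repr w i • (b i : V) := by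
    have h1 := congrArg Subtype.val (b.sum_repr w)
    rw [Submodule.coe_sum] at h1
    exact h1.symm
  refine ⟨fun i => b.repr w i, fun i => ?_, hsum⟩
  have hT : T v = ∑ i, σ (b.repr w i) • (b i : V) := by
    conv_lhs => rw [hsum]
    rw [map_sum]
    refine Finset.sum_congr rfl (fun i _ => ?_)
    rw [T.map_smulₛₗ, hb]
  have h0 : ∑ i, (σ (b.repr w i) - b.repr w i) • (b i : V) = 0 := by
    simp only [sub_smul]
    rw [Finset.sum_sub_distrib, ← hT, ← hsum, hv, sub_self]
  have := Fintype.linearIndependent_iff.1 hli _ h0 i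
  exact sub_eq_zero.1 this

end field

/-- **S0078** -/
theorem finite_fixed_card_le (k : Type*) [Field k] [IsAlgClosed k] (p : ℕ) [Fact p.Prime]
    [CharP k p] (V : Type*) [AddCommGroup V] [Module k V] [FiniteDimensional k V]
    (T : V →ₛₗ[frobenius k p] V) :
    Set.Finite {v : V | T v = v} ∧ Nat.card {v : V | T v = v} ≤ p ^ Module.finrank k V := by
  obtain ⟨b, -, hrepr⟩ := exists_fixed_coeffs' (frobenius_surjective' p k) T
    (H2_frobenius p k) (H3_frobenius p k)
  set Ψ : (Fin (Module.finrank k (ss T)) → ZMod p) → V :=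
    fun z => ∑ i, (ZMod.castHom (dvd_refl p) k (z i)) • b i with hΨ
  have hsub : {v : V | T v = v} ⊆ Set.range Ψ := by
    intro v hv
    obtain ⟨c, hc, hvc⟩ := hrepr v hv
    have hc' : ∀ i, (c i) ^ p = c i := fun i => by
      have := hc i
      rwa [frobenius_def] at this
    choose z hz using fun i => exists_zmod_of_pow_eq p k (c i) (hc' i)
    refine ⟨z, ?_⟩
    rw [hvc]
    simp only [hΨ, hz]
  have hfin : (Set.range Ψ).Finite := Set.finite_range Ψ
  refine ⟨hfin.subset hsub, ?_⟩
  calc Nat.card {v : V | T v = v} ≤ Nat.card (Set.range Ψ) := Nat.card_mono hfin hsub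
    _ ≤ Nat.card (Fin (Module.finrank k (ss T)) → ZMod p) := Finite.card_range_le Ψ
    _ = p ^ Module.finrank k (ss T) := by rw [Nat.card_fun, Nat.card_zmod, Nat.card_fin]
    _ ≤ p ^ Module.finrank k V :=
        Nat.pow_le_pow_right (Fact.out : p.Prime).pos (Submodule.finrank_le _)

end Groth.Agent.H7.SigLin
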