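import Groth.Agent.Lib.Helper7.SigLin3

/-! Dévissage for σ-semilinear maps over a local ring with maximal ideal `(p)` (helper7). -/

set_option autoImplicit false

namespace Groth.Agent.H7.SigLin

open IsLocalRing

section loc

variable {R : Type*} [CommRing R] [IsLocalRing R]
  {M : Type*} [AddCommGroup M] [Module R M]

variable (R M) in
/-- the reduction of `M` modulo the maximal ideal -/
abbrev Vq := M ⧸ (maximalIdeal R • ⊤ : Submodule R M)

noncomputable instance instModVq : Module (ResidueField R) (Vq R M) :=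
  inferInstanceAs (Module (R ⧸ maximalIdeal R) (M ⧸ (maximalIdeal R • ⊤ : Submodule R M)))

instance instTowerVq : IsScalarTower R (ResidueField R) (Vq R M) :=
  inferInstanceAs (IsScalarTower R (R ⧸ maximalIdeal R) (M ⧸ (maximalIdeal R • ⊤ : Submodule R M)))

instance instFinVq [Module.Finite R M] : Module.Finite (ResidueField R) (Vq R M) :=
  Module.Finite.of_restrictScalars_finite R (ResidueField R) (Vq R M)

lemma residue_smul_mk (r : R) (m : M) :
    residue R r • (Submodule.Quotient.mk m : Vq R M) = Submodule.Quotient.mk (r • m) := rfl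

variable {σ : R →+* R} {σbar : ResidueField R →+* ResidueField R}

lemma map_mem_maximalIdeal (hσbar : ∀ r : R, σbar (residue R r) = residue R (σ r)) {r : R}
    (hr : r ∈ maximalIdeal R) : σ r ∈ maximalIdeal R := by
  rw [← residue_eq_zero_iff] at hr ⊢
  rw [← hσbar, hr, map_zero]

lemma le_comap (hσbar : ∀ r : R, σbar (residue R r) = residue R (σ r)) (T : M →ₛₗ[σ] M) :
    (maximalIdeal R • ⊤ : Submodule R M) ≤ (maximalIdeal R • ⊤ : Submodule R M).comap T := by
  rw [Submodule.smul_le]
  intro r hr m _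
  rw [Submodule.mem_comap, T.map_smulₛₗ]
  exact Submodule.smul_mem_smul (map_mem_maximalIdeal hσbar hr) Submodule.mem_top

/-- the induced semilinear map on the reduction -/
noncomputable def Tbar (hσbar : ∀ r : R, σbar (residue R r) = residue R (σ r)) (T : M →ₛₗ[σ] M) :
    Vq R M →ₛₗ[σbar] Vq R M where
  toFun := Submodule.mapQ _ _ T (le_comap hσbar T)
  map_add' := map_add _
  map_smul' := by
    intro c v
    obtain ⟨r, rfl⟩ := residue_surjective c
    obtain ⟨m, rfl⟩ := Submodule.Quotient.mk_surjective _ v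
    rw [residue_smul_mk, Submodule.mapQ_apply, Submodule.mapQ_apply, T.map_smulₛₗ, hσbar,
      residue_smul_mk]

@[simp] lemma Tbar_mk (hσbar : ∀ r : R, σbar (residue R r) = residue R (σ r)) (T : M →ₛₗ[σ] M)
    (m : M) : Tbar hσbar T (Submodule.Quotient.mk m) = Submodule.Quotient.mk (T m) := rfl

variable {p : ℕ}

lemma exists_eq_smul_of_mk_eq_zero (hmax : maximalIdeal R = Ideal.span {(p : R)}) {m : M}
    (hm : (Submodule.Quotient.mk m : Vq R M) = 0) : ∃ z : M, m = (p : R) • z := by
  rw [Submodule.Quotient.mk_eq_zero, hmax, Submodule.ideal_span_singleton_smul] at hm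
  obtain ⟨z, -, hz⟩ := hm
  exact ⟨z, hz.symm⟩

/-- one step: every element is `m - T m` up to a multiple of `p` -/
theorem exists_eq_sub_add [Module.Finite R M] (hmax : maximalIdeal R = Ideal.span {(p : R)})
    (hσbar : ∀ r : R, σbar (residue R r) = residue R (σ r))
    (hsurj : Function.Surjective σbar) (h2 : H2 σbar) (h3 : H3 σbar) (T : M →ₛₗ[σ] M) (y : M) :
    ∃ m z : M, y = m - T m + (p : R) • z := by
  obtain ⟨w, hw⟩ := (sub_surjective_and_fixed_basis hsurj (Tbar hσbar T) h2 h3).1
    (Submodule.Quotient.mk y)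
  obtain ⟨m, rfl⟩ := Submodule.Quotient.mk_surjective _ w
  have h0 : (Submodule.Quotient.mk (y - (m - T m)) : Vq R M) = 0 := by
    rw [Submodule.Quotient.mk_sub, Submodule.Quotient.mk_sub, ← Tbar_mk hσbar T, ← hw]
    exact sub_self _
  obtain ⟨z, hz⟩ := exists_eq_smul_of_mk_eq_zero hmax h0
  exact ⟨m, z, by rw [← hz]; abel⟩

theorem exists_eq_sub_add_pow [Module.Finite R M] (hmax : maximalIdeal R = Ideal.span {(p : R)})
    (hσbar : ∀ r : R, σbar (residue R r) = residue R (σ r))
    (hsurj : Function.Surjective σbar) (h2 : H2 σbar) (h3 : H3 σbar) (T : M →ₛₗ[σ] M) (j : ℕ)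
    (y : M) : ∃ m z : M, y = m - T m + (p : R) ^ j • z := by
  induction j with
  | zero => exact ⟨0, y, by simp⟩
  | succ j ih =>
    obtain ⟨m, z, hy⟩ := ih
    obtain ⟨m', z', hz⟩ := exists_eq_sub_add hmax hσbar hsurj h2 h3 T z
    refine ⟨m + (p : R) ^ j • m', z', ?_⟩
    rw [hy, hz, map_add, T.map_smulₛₗ, map_pow, map_natCast, pow_succ, mul_smul, smul_add,
      smul_sub]
    abel

/-- **S19235** -/
theorem sub_surjective_of_local [Module.Finite R M] (hmax : maximalIdeal R = Ideal.span {(p : R)})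
    (n : ℕ) (hn : (p : R) ^ n = 0)
    (hσbar : ∀ r : R, σbar (residue R r) = residue R (σ r))
    (hsurj : Function.Surjective σbar) (h2 : H2 σbar) (h3 : H3 σbar) (T : M →ₛₗ[σ] M) :
    Function.Surjective (fun m : M => m - T m) := by
  intro y
  obtain ⟨m, z, hy⟩ := exists_eq_sub_add_pow hmax hσbar hsurj h2 h3 T n y
  refine ⟨m, ?_⟩
  rw [hy, hn, zero_smul, add_zero]

end loc

end Groth.Agent.H7.SigLin
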