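import Groth.Agent.Lib.Helper7.SigLinPow

/-! `H2`, `H3` for `x ↦ x ^ q` (with `q = 0` in `k`) over a separably closed field (helper7). -/

set_option autoImplicit false

namespace Groth.Agent.H7.SigLin

open Polynomial

section aux

variable {k : Type*} [Field k]

lemma coeff_sum_monomials' {n : ℕ} (c : Fin n → k) (e : Fin n → ℕ) (he : Function.Injective e)
    (i₀ : Fin n) : (∑ i, C (c i) * X ^ e i).coeff (e i₀) = c i₀ := by
  rw [finset_sum_coeff, Finset.sum_eq_single i₀]
  · rw [coeff_C_mul_X_pow, if_pos rfl]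
  · intro i _ hi
    rw [coeff_C_mul_X_pow, if_neg (fun h => hi (he h).symm)]
  · intro h; exact absurd (Finset.mem_univ _) h

lemma iterate_of_pow' {σ : k →+* k} {q : ℕ} (hσ : ∀ x, σ x = x ^ q) (i : ℕ) (x : k) :
    (⇑σ)^[i] x = x ^ q ^ i := by
  induction i generalizing x with
  | zero => simp
  | succ i ih => rw [Function.iterate_succ_apply, ih, hσ, ← pow_mul, pow_succ']

end aux

section sep

variable {k : Type*} [Field k] [IsSepClosed k]

/-- a separable polynomial of degree at least two over a separably closed field has a nonzero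
root -/
theorem exists_root_ne_zero_of_separable (P : k[X]) (hsep : P.Separable)
    (hdeg : 2 ≤ P.natDegree) : ∃ x : k, x ≠ 0 ∧ P.IsRoot x := by
  classical
  by_contra hcon
  push Not at hcon
  have hP0 : P ≠ 0 := by
    rintro rfl
    simp at hdeg
  have hcard : Multiset.card P.roots = P.natDegree :=
    splits_iff_card_roots.1 (IsSepClosed.splits_of_separable P hsep)
  have hnodup : P.roots.Nodup := nodup_roots hsep
  have hsub : P.roots ⊆ {0} := by
    intro x hx
    rw [Multiset.mem_singleton]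
    by_contra hx0
    exact hcon x hx0 ((mem_roots hP0).1 hx)
  have hle : Multiset.card P.roots ≤ 1 := by
    have := Multiset.card_le_card ((Multiset.le_iff_subset hnodup).2 hsub)
    simpa using this
  omega

variable {σ : k →+* k} {q : ℕ}

lemma separable_of_derivative_eq_neg_one {P : k[X]} (h : derivative P = -1) : P.Separable := by
  rw [separable_def, h]
  exact isCoprime_one_right.neg_right

lemma H3_of_pow_sep (hq : 2 ≤ q) (hq0 : (q : k) = 0) (hσ : ∀ x, σ x = x ^ q) : H3 σ := by
  intro c
  have hder : derivative (X ^ q - X + C c : k[X]) = -1 := by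
    rw [derivative_add, derivative_sub, derivative_X_pow, derivative_X, derivative_C, hq0, C_0,
      zero_mul, zero_sub, add_zero]
  have hdeg : (X ^ q - X + C c : k[X]).degree ≠ 0 := by
    have h1 : (X ^ q - X + C c : k[X]).degree = q := by
      rw [sub_add, degree_sub_eq_left_of_degree_lt, degree_X_pow]
      rw [degree_X_pow]
      refine lt_of_le_of_lt (degree_sub_le _ _) ?_
      rw [max_lt_iff]
      exact ⟨by rw [degree_X]; exact_mod_cast hq, lt_of_le_of_lt degree_C_le (by exact_mod_cast (by omega : 0 < q))⟩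
    rw [h1]
    exact_mod_cast (by omega : q ≠ 0)
  obtain ⟨y, hy⟩ := IsSepClosed.exists_root _ hdeg (separable_of_derivative_eq_neg_one hder)
  refine ⟨y, ?_⟩
  rw [IsRoot, eval_add, eval_sub, eval_pow, eval_X, eval_C] at hy
  rw [hσ]
  exact hy

lemma H2_of_pow_sep (hq : 2 ≤ q) (hq0 : (q : k) = 0) (hσ : ∀ x, σ x = x ^ q) : H2 σ := by
  intro n b hb
  have hinjq : Function.Injective (fun i : ℕ => q ^ i) := Nat.pow_right_injective hq
  obtain ⟨i₀, hi₀⟩ : ∃ i, b (Fin.rev i) ≠ 0 := by
    by_contra h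
    push Not at h
    apply hb
    ext j
    have := h (Fin.rev j)
    rwa [Fin.rev_rev] at this
  set c : Fin (n + 1) → k := fun i => (b (Fin.rev i)) ^ q ^ i.val with hc
  set e : Fin (n + 1) → ℕ := fun i => q ^ (i.val + 1) with he
  have hinj : Function.Injective e := fun i j hij => by
    have := hinjq hij
    exact Fin.ext (by omega)
  have hne1 : ∀ i, e i ≠ 1 := fun i h => by
    have : q ^ (i.val + 1) = q ^ 0 := by rw [pow_zero]; exact h
    have := hinjq this
    omega
  have he0 : ∀ i, ((e i : ℕ) : k) = 0 := fun i => by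
    simp only [he]
    rw [pow_succ, Nat.cast_mul, hq0, mul_zero]
  set P : k[X] := (∑ i, C (c i) * X ^ e i) - X with hP
  have hder : derivative P = -1 := by
    rw [hP, derivative_sub, derivative_X, derivative_sum]
    rw [Finset.sum_eq_zero, zero_sub]
    intro i _
    rw [derivative_C_mul, derivative_X_pow, he0 i, C_0, zero_mul, mul_zero]
  have h2 : P.coeff (e i₀) ≠ 0 := by
    rw [hP, coeff_sub, coeff_sum_monomials' c e hinj, coeff_X, if_neg (hne1 i₀).symm, sub_zero]
    exact pow_ne_zero _ hi₀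
  have hdeg : 2 ≤ P.natDegree := by
    refine le_trans ?_ (le_natDegree_of_ne_zero h2)
    simp only [he]
    calc 2 ≤ q := hq
      _ = q ^ 1 := (pow_one q).symm
      _ ≤ q ^ (i₀.val + 1) := Nat.pow_le_pow_right (by omega) (by omega)
  obtain ⟨x, hx0, hx⟩ := exists_root_ne_zero_of_separable P
    (separable_of_derivative_eq_neg_one hder) hdeg
  refine ⟨x, hx0, ?_⟩
  rw [IsRoot, hP, eval_sub, eval_finset_sum, eval_X, sub_eq_zero] at hx
  refine hx.symm.trans ?_
  refine Finset.sum_congr rfl (fun i _ => ?_)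
  rw [eval_mul, eval_C, eval_pow, eval_X, iterate_of_pow' hσ, iterate_of_pow' hσ, mul_comm]

end sep

/-- **S3212** -/
theorem exists_fixed_basis_qLinear (k : Type*) [Field k] [IsSepClosed k] (p : ℕ)
    [Fact p.Prime] [CharP k p] (r : ℕ) (hr : 0 < r) (V : Type*) [AddCommGroup V] [Module k V]
    [FiniteDimensional k V] (φ : V →+ V) (hφ : ∀ (c : k) (v : V), φ (c • v) = c ^ (p ^ r) • φ v)
    (hss : Submodule.span k (Set.range φ) = ⊤) :
    ∃ b : Module.Basis (Fin (Module.finrank k V)) k V, (∀ i, φ (b i) = b i) ∧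
      ∀ v : V, φ v = v → ∀ i, (b.repr v i) ^ (p ^ r) = b.repr v i := by
  have hq : 2 ≤ p ^ r := by
    have hp2 : 2 ≤ p := (Fact.out : p.Prime).two_le
    calc 2 ≤ p := hp2
      _ = p ^ 1 := (pow_one p).symm
      _ ≤ p ^ r := Nat.pow_le_pow_right (by omega) hr
  have hq0 : ((p ^ r : ℕ) : k) = 0 := by
    obtain ⟨r', rfl⟩ : ∃ r', r = r' + 1 := ⟨r - 1, by omega⟩
    rw [pow_succ, Nat.cast_mul, CharP.cast_eq_zero k p, mul_zero]
  have hσ : ∀ x : k, iterateFrobenius k p r x = x ^ (p ^ r) := fun x => iterateFrobenius_def p r x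
  let T : V →ₛₗ[iterateFrobenius k p r] V :=
    { toFun := φ
      map_add' := φ.map_add
      map_smul' := fun a v => by
        change φ (a • v) = iterateFrobenius k p r a • φ v
        rw [hφ, hσ] }
  obtain ⟨⟨b, hb⟩, -⟩ := exists_fixed_basis T hss (H2_of_pow_sep hq hq0 hσ)
    (H3_of_pow_sep hq hq0 hσ)
  refine ⟨b, hb, fun v hv i => ?_⟩
  have h1 : φ v = ∑ j, iterateFrobenius k p r (b.repr v j) • b j := by
    conv_lhs => rw [← b.sum_repr v]
    change T (∑ j, b.repr v j • b j) = _
    rw [map_sum]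
    refine Finset.sum_congr rfl (fun j _ => ?_)
    rw [T.map_smulₛₗ, hb]
  have h2 : b.repr (φ v) i = b.repr (∑ j, iterateFrobenius k p r (b.repr v j) • b j) i := by
    rw [← h1]
  rw [b.repr_sum_self, hv, hσ] at h2
  exact h2.symm

end Groth.Agent.H7.SigLin
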