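import Mathlib
import Groth.Agent.Lib.Helper7.SigLinSep
import Groth.Agent.Lib.Helper7.SigLin4
import Groth.Agent.Lib.Helper7.FrobFix
import Groth.Agent.Lib.Helper8.Hens.MultiHensel

set_option autoImplicit false
universe u v

namespace Groth.Agent.H7.FrobHens

open IsLocalRing Groth.Agent.H7.SigLin
open scoped TensorProduct

section Coord
variable {R : Type u} [CommRing R] {M : Type v} [AddCommGroup M] [Module R M]

theorem repr_mem_of_mem_smul_top {ι : Type*} (b : Module.Basis ι R M) (I : Ideal R) {v : M}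
    (hv : v ∈ I • (⊤ : Submodule R M)) (j : ι) : b.repr v j ∈ I := by
  refine Submodule.smul_induction_on hv ?_ ?_
  · intro r hr w _
    rw [map_smul, Finsupp.smul_apply, smul_eq_mul]
    exact I.mul_mem_right _ hr
  · intro x y hx hy
    rw [map_add, Finsupp.add_apply]
    exact I.add_mem hx hy

theorem sum_smul_mem_smul_top {n : ℕ} (b : Fin n → M) (I : Ideal R) (x : Fin n → R)
    (hx : ∀ j, x j ∈ I) : ∑ j, x j • b j ∈ I • (⊤ : Submodule R M) :=
  Submodule.sum_mem _ (fun j _ => Submodule.smul_mem_smul (hx j) Submodule.mem_top)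

variable (p : ℕ) (T : M →+ M) (hT : ∀ (r : R) (m : M), T (r • m) = r ^ p • T m)

include hT in
theorem map_sum_smul {n : ℕ} (b : Fin n → M) (x : Fin n → R) :
    T (∑ i, x i • b i) = ∑ i, x i ^ p • T (b i) := by
  rw [map_sum]
  exact Finset.sum_congr rfl (fun i _ => hT _ _)

/-- the polynomial system expressing `T m - m = c` in coordinates -/
noncomputable def sys {n : ℕ} (b : Module.Basis (Fin n) R M) (c : M) (j : Fin n) :
    MvPolynomial (Fin n) R :=
  ∑ i, MvPolynomial.C (b.repr (T (b i)) j) * MvPolynomial.X i ^ p - MvPolynomial.X j -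
    MvPolynomial.C (b.repr c j)

include hT in
theorem eval_sys {n : ℕ} (b : Module.Basis (Fin n) R M) (c : M) (x : Fin n → R) (j : Fin n) :
    MvPolynomial.eval x (sys p T b c j) =
      b.repr (T (∑ i, x i • b i) - ∑ i, x i • b i - c) j := by
  rw [map_sum_smul p T hT]
  simp only [sys, map_sub, map_sum, map_mul, MvPolynomial.eval_C, map_pow, MvPolynomial.eval_X,
    Finsupp.sub_apply, Finsupp.coe_finset_sum, Finset.sum_apply, map_smul, Finsupp.smul_apply,
    smul_eq_mul, Module.Basis.repr_self, Finsupp.single_apply]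
  congr 2
  · exact Finset.sum_congr rfl (fun i _ => mul_comm _ _)
  · simp

theorem pderiv_sys [Fact p.Prime] [CharP R p] {n : ℕ} (b : Module.Basis (Fin n) R M) (c : M)
    (j k : Fin n) :
    MvPolynomial.pderiv k (sys p T b c j) = -(if j = k then 1 else 0) := by
  have h0 : ∀ i : Fin n, MvPolynomial.pderiv k ((MvPolynomial.X i : MvPolynomial (Fin n) R) ^ p) = 0 := by
    intro i
    rw [Derivation.leibniz_pow, ← Nat.cast_smul_eq_nsmul (MvPolynomial (Fin n) R),
      CharP.cast_eq_zero, zero_smul]
  simp only [sys, map_sub, map_sum, MvPolynomial.pderiv_C_mul, h0, mul_zero, Finset.sum_const_zero,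
    MvPolynomial.pderiv_C, sub_zero, zero_sub, MvPolynomial.pderiv_X, Pi.single_apply]

end Coord

section Hensel
variable (p : ℕ) [Fact p.Prime] {R : Type u} [CommRing R] [HenselianLocalRing R] [CharP R p]
  {M : Type v} [AddCommGroup M] [Module R M] [Module.Free R M] [Module.Finite R M]
  (T : M →+ M) (hT : ∀ (r : R) (m : M), T (r • m) = r ^ p • T m)

include hT in
/-- Hensel step: approximate solutions of `T m - m = c` can be corrected. -/
theorem exists_solution_of_approx (c m₀ : M)
    (h₀ : T m₀ - m₀ - c ∈ maximalIdeal R • (⊤ : Submodule R M)) :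
    ∃ m : M, T m - m = c ∧ m - m₀ ∈ maximalIdeal R • (⊤ : Submodule R M) := by
  classical
  set n := Module.finrank R M with hn
  let b : Module.Basis (Fin n) R M := Module.finBasis R M
  set a₀ : Fin n → R := fun i => b.repr m₀ i with ha₀
  have hm₀ : ∑ i, a₀ i • b i = m₀ := b.sum_repr m₀
  have h1 : ∀ j, MvPolynomial.eval a₀ (sys p T b c j) ∈ maximalIdeal R := by
    intro j
    rw [eval_sys p T hT, hm₀]
    exact repr_mem_of_mem_smul_top b _ h₀ j
  have hJ : IsUnit (Matrix.of (fun i j =>
      MvPolynomial.eval a₀ (MvPolynomial.pderiv j (sys p T b c i)))).det := by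
    have : Matrix.of (fun i j =>
        MvPolynomial.eval a₀ (MvPolynomial.pderiv j (sys p T b c i))) = -(1 : Matrix (Fin n) (Fin n) R) := by
      ext i j
      rw [Matrix.of_apply, pderiv_sys, Matrix.neg_apply, Matrix.one_apply, map_neg]
      congr 1
      split_ifs <;> simp
    rw [this, Matrix.det_neg, Matrix.det_one, mul_one]
    exact (isUnit_one.neg).pow _
  obtain ⟨a, ha, hcong⟩ := Groth.Agent.H8.Hens.exists_solution_of_jacobian R n (sys p T b c) a₀ h1 hJ
  refine ⟨∑ i, a i • b i, ?_, ?_⟩
  · have h2 : ∀ j, b.repr (T (∑ i, a i • b i) - ∑ i, a i • b i - c) j = 0 := by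
      intro j
      rw [← eval_sys p T hT, ha]
    have h3 : T (∑ i, a i • b i) - ∑ i, a i • b i - c = 0 := by
      apply b.repr.injective
      ext j
      rw [h2, map_zero, Finsupp.zero_apply]
    exact sub_eq_zero.mp h3
  · rw [← hm₀, ← Finset.sum_sub_distrib]
    simp_rw [← sub_smul]
    exact sum_smul_mem_smul_top _ _ _ hcong

include hT in
/-- fixed vectors in `𝔪 M` vanish -/
theorem eq_zero_of_fixed_of_mem (d : M) (hd : T d = d)
    (hmem : d ∈ maximalIdeal R • (⊤ : Submodule R M)) : d = 0 := by
  classical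
  set n := Module.finrank R M with hn
  let b : Module.Basis (Fin n) R M := Module.finBasis R M
  set x : Fin n → R := fun i => b.repr d i with hx
  have hxm : ∀ i, x i ∈ maximalIdeal R := fun i => repr_mem_of_mem_smul_top b _ hmem i
  have hd' : ∑ i, x i • b i = d := b.sum_repr d
  have hp2 : 2 ≤ p := (Fact.out : p.Prime).two_le
  set I : Ideal R := Ideal.span (Set.range x) with hI
  have hxI : ∀ i, x i ∈ I := fun i => Ideal.subset_span ⟨i, rfl⟩
  have hle : I ≤ maximalIdeal R • I := by
    rw [hI, Ideal.span_le]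
    rintro _ ⟨j, rfl⟩
    have h1 : x j = ∑ i, b.repr (T (b i)) j * x i ^ p := by
      have h2 : b.repr (T (∑ i, x i • b i)) j = x j := by rw [hd', hd]
      rw [map_sum_smul p T hT] at h2
      rw [← h2]
      simp only [map_sum, map_smul, Finsupp.coe_finset_sum, Finset.sum_apply, Finsupp.smul_apply,
        smul_eq_mul]
      exact Finset.sum_congr rfl (fun i _ => mul_comm _ _)
    show x j ∈ maximalIdeal R • Ideal.span (Set.range x)
    rw [h1]
    refine Ideal.sum_mem _ (fun i _ => Ideal.mul_mem_left _ _ ?_)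
    have : x i ^ p = x i ^ (p - 1) * x i := by
      rw [← pow_succ]
      congr 1
      omega
    rw [this, smul_eq_mul]
    exact Ideal.mul_mem_mul (Ideal.pow_mem_of_mem _ (hxm i) _ (by omega)) (hxI i)
  have hfg : I.FG := ⟨Finset.univ.image x, by rw [hI]; simp⟩
  have hbot : I = ⊥ :=
    Submodule.eq_bot_of_le_smul_of_le_jacobson_bot (maximalIdeal R) I hfg hle
      (IsLocalRing.maximalIdeal_le_jacobson ⊥)
  rw [← hd']
  refine Finset.sum_eq_zero (fun i _ => ?_)
  have : x i ∈ (⊥ : Ideal R) := hbot ▸ hxI i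
  rw [Ideal.mem_bot.mp this, zero_smul]

end Hensel

section Red
variable (p : ℕ) [Fact p.Prime] {R : Type u} [CommRing R] [IsLocalRing R] [CharP R p]
  {M : Type v} [AddCommGroup M] [Module R M]
  (T : M →+ M) (hT : ∀ (r : R) (m : M), T (r • m) = r ^ p • T m)

theorem charP_residue : CharP (ResidueField R) p :=
  (CharP.charP_iff_prime_eq_zero (Fact.out : p.Prime)).mpr
    (by rw [← map_natCast (residue R), CharP.cast_eq_zero, map_zero])

attribute [local instance] charP_residue

/-- `T` as a semilinear map -/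
def Tsl : M →ₛₗ[frobenius R p] M :=
  { toFun := T
    map_add' := T.map_add
    map_smul' := fun r m => by
      show T (r • m) = frobenius R p r • T m
      rw [hT, frobenius_def] }

theorem hσbar (r : R) :
    frobenius (ResidueField R) p (residue R r) = residue R (frobenius R p r) := by
  rw [frobenius_def, frobenius_def, map_pow]

/-- the reduction of `T` -/
noncomputable def TB : Vq R M →ₛₗ[frobenius (ResidueField R) p] Vq R M :=
  Tbar (hσbar p) (Tsl p T hT)

theorem TB_mk (m : M) :
    TB p T hT (Submodule.Quotient.mk m) = Submodule.Quotient.mk (T m) := rfl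

include hT in
theorem map_mem_smul_top {x : M} (hx : x ∈ maximalIdeal R • (⊤ : Submodule R M)) :
    T x ∈ maximalIdeal R • (⊤ : Submodule R M) :=
  le_comap (hσbar p) (Tsl p T hT) hx

theorem span_TB (hspan : Submodule.span R (Set.range T) = ⊤) :
    Submodule.span (ResidueField R) (Set.range (TB p T hT)) = ⊤ := by
  rw [eq_top_iff]
  rintro v -
  obtain ⟨m, rfl⟩ := Submodule.Quotient.mk_surjective _ v
  have hm : m ∈ Submodule.span R (Set.range T) := by rw [hspan]; trivial
  induction hm using Submodule.span_induction with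
  | mem x hx =>
    obtain ⟨y, rfl⟩ := hx
    exact Submodule.subset_span ⟨Submodule.Quotient.mk y, rfl⟩
  | zero => exact Submodule.zero_mem _
  | add x y _ _ hx hy =>
    rw [Submodule.Quotient.mk_add]
    exact Submodule.add_mem _ hx hy
  | smul r x _ hx =>
    rw [← residue_smul_mk]
    exact Submodule.smul_mem _ _ hx

theorem finrank_Vq_eq_baseChange :
    Module.finrank (ResidueField R) (Vq R M) =
      Module.finrank (ResidueField R) ((ResidueField R) ⊗[R] M) := by
  show Module.finrank (R ⧸ maximalIdeal R) (M ⧸ (maximalIdeal R • ⊤ : Submodule R M)) =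
    Module.finrank (R ⧸ maximalIdeal R) ((R ⧸ maximalIdeal R) ⊗[R] M)
  let e : (R ⧸ maximalIdeal R) ⊗[R] M ≃ₗ[R ⧸ maximalIdeal R]
      (M ⧸ (maximalIdeal R • ⊤ : Submodule R M)) :=
    (TensorProduct.quotTensorEquivQuotSMul M (maximalIdeal R)).extendScalarsOfSurjective
      Ideal.Quotient.mk_surjective
  exact e.finrank_eq.symm

variable [Module.Finite R M] [IsSepClosed (ResidueField R)]

theorem field_case (hspan : Submodule.span R (Set.range T) = ⊤) :
    (∃ b : Module.Basis (Fin (Module.finrank (ResidueField R) (Vq R M))) (ResidueField R) (Vq R M),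
      ∀ i, TB p T hT (b i) = b i) ∧
    Function.Surjective (fun v : Vq R M => v - TB p T hT v) := by
  have hp2 : 2 ≤ p := (Fact.out : p.Prime).two_le
  have hq0 : ((p : ℕ) : ResidueField R) = 0 := CharP.cast_eq_zero _ p
  have hσ : ∀ x : ResidueField R, frobenius (ResidueField R) p x = x ^ p :=
    fun x => frobenius_def p x
  exact exists_fixed_basis (TB p T hT) (span_TB p T hT hspan) (H2_of_pow_sep hp2 hq0 hσ)
    (H3_of_pow_sep hp2 hq0 hσ)

/-- the number of fixed vectors of the reduction -/
theorem card_fixed_TB (hspan : Submodule.span R (Set.range T) = ⊤) :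
    Nat.card {v : Vq R M // TB p T hT v = v} =
      p ^ Module.finrank (ResidueField R) (Vq R M) := by
  classical
  obtain ⟨⟨bb, hbb⟩, -⟩ := field_case p T hT hspan
  have hTBsum : ∀ x : Fin (Module.finrank (ResidueField R) (Vq R M)) → (ResidueField R),
      TB p T hT (∑ i, x i • bb i) = ∑ i, x i ^ p • bb i := by
    intro x
    rw [map_sum]
    refine Finset.sum_congr rfl (fun i _ => ?_)
    rw [(TB p T hT).map_smulₛₗ, hbb, frobenius_def]
  let g : (Fin (Module.finrank (ResidueField R) (Vq R M)) → ZMod p) →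
      {v : Vq R M // TB p T hT v = v} :=
    fun c => ⟨∑ i, (ZMod.castHom (dvd_refl p) (ResidueField R) (c i)) • bb i, by
      rw [hTBsum]
      refine Finset.sum_congr rfl (fun i _ => ?_)
      rw [castHom_pow]⟩
  have hg : Function.Bijective g := by
    constructor
    · intro c c' h
      have h1 : ∑ i, (ZMod.castHom (dvd_refl p) (ResidueField R) (c i)) • bb i =
          ∑ i, (ZMod.castHom (dvd_refl p) (ResidueField R) (c' i)) • bb i := congrArg Subtype.val h
      funext i
      have h2 := congrArg (fun v => bb.repr v i) h1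
      simp only [Module.Basis.repr_sum_self] at h2
      exact (ZMod.castHom (dvd_refl p) (ResidueField R)).injective h2
    · rintro ⟨v, hv⟩
      have hx : ∀ i, (bb.repr v i) ^ p = bb.repr v i := by
        intro i
        have h1 : TB p T hT (∑ j, bb.repr v j • bb j) = ∑ j, (bb.repr v j) ^ p • bb j :=
          hTBsum _
        rw [bb.sum_repr, hv] at h1
        have h2 := congrArg (fun w => bb.repr w i) h1
        simp only [Module.Basis.repr_sum_self] at h2
        exact h2.symm
      choose c hc using fun i => exists_zmod_of_pow_eq p (ResidueField R) (bb.repr v i) (hx i)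
      refine ⟨c, Subtype.ext ?_⟩
      show ∑ i, (ZMod.castHom (dvd_refl p) (ResidueField R) (c i)) • bb i = v
      simp_rw [hc]
      exact bb.sum_repr v
  rw [← Nat.card_congr (Equiv.ofBijective g hg), Nat.card_fun, Nat.card_zmod, Nat.card_fin]

include hT in
/-- assembly: a Hensel step and injectivity of reduction on fixed vectors give the result. -/
theorem main_of_hensel (hspan : Submodule.span R (Set.range T) = ⊤)
    (hH : ∀ d ∈ maximalIdeal R • (⊤ : Submodule R M),
      ∃ z ∈ maximalIdeal R • (⊤ : Submodule R M), T z - z = d)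
    (hI : ∀ d : M, T d = d → d ∈ maximalIdeal R • (⊤ : Submodule R M) → d = 0) :
    Function.Surjective (fun m => T m - m) ∧
      Nat.card {m : M // T m = m} = p ^ Module.finrank (ResidueField R) (Vq R M) := by
  obtain ⟨-, hsurj⟩ := field_case p T hT hspan
  constructor
  · intro c
    obtain ⟨v, hv⟩ := hsurj (Submodule.Quotient.mk (-c))
    obtain ⟨m₀, rfl⟩ := Submodule.Quotient.mk_surjective _ v
    have hv' : (Submodule.Quotient.mk m₀ : Vq R M) - TB p T hT (Submodule.Quotient.mk m₀) =
        Submodule.Quotient.mk (-c) := hv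
    have h0 : c - (T m₀ - m₀) ∈ maximalIdeal R • (⊤ : Submodule R M) := by
      rw [TB_mk, ← Submodule.Quotient.mk_sub, Submodule.Quotient.eq] at hv'
      have : c - (T m₀ - m₀) = m₀ - T m₀ - -c := by abel
      rw [this]
      exact hv'
    obtain ⟨z, -, hz⟩ := hH _ h0
    refine ⟨m₀ + z, ?_⟩
    show T (m₀ + z) - (m₀ + z) = c
    rw [map_add]
    have : T m₀ + T z - (m₀ + z) = (T m₀ - m₀) + (T z - z) := by abel
    rw [this, hz]
    abel
  · let f : {m : M // T m = m} → {v : Vq R M // TB p T hT v = v} :=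
      fun m => ⟨Submodule.Quotient.mk m.1, by rw [TB_mk, m.2]⟩
    have hf : Function.Bijective f := by
      constructor
      · intro m m' h
        have h1 : (Submodule.Quotient.mk m.1 : Vq R M) = Submodule.Quotient.mk m'.1 :=
          congrArg Subtype.val h
        rw [Submodule.Quotient.eq] at h1
        have h2 : T (m.1 - m'.1) = m.1 - m'.1 := by rw [map_sub, m.2, m'.2]
        have h3 := hI _ h2 h1
        exact Subtype.ext (sub_eq_zero.mp h3)
      · rintro ⟨v, hv⟩
        obtain ⟨m₀, rfl⟩ := Submodule.Quotient.mk_surjective _ v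
        have h0 : -(T m₀ - m₀) ∈ maximalIdeal R • (⊤ : Submodule R M) := by
          apply Submodule.neg_mem
          rw [← Submodule.Quotient.mk_eq_zero, Submodule.Quotient.mk_sub]
          rw [TB_mk] at hv
          rw [hv, sub_self]
        obtain ⟨z, hzm, hz⟩ := hH _ h0
        have hfix : T (m₀ + z) = m₀ + z := by
          rw [map_add]
          have : T m₀ + T z = (T m₀ - m₀) + (T z - z) + (m₀ + z) := by abel
          rw [this, hz]
          abel
        refine ⟨⟨m₀ + z, hfix⟩, Subtype.ext ?_⟩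
        show (Submodule.Quotient.mk (m₀ + z) : Vq R M) = Submodule.Quotient.mk m₀
        rw [Submodule.Quotient.eq]
        have : m₀ + z - m₀ = z := by abel
        rw [this]
        exact hzm
    rw [Nat.card_congr (Equiv.ofBijective f hf), card_fixed_TB p T hT hspan]

end Red

section Free
variable (p : ℕ) [Fact p.Prime] {R : Type u} [CommRing R] [HenselianLocalRing R] [CharP R p]
  {M : Type v} [AddCommGroup M] [Module R M] [Module.Free R M] [Module.Finite R M]
  (T : M →+ M) (hT : ∀ (r : R) (m : M), T (r • m) = r ^ p • T m)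

theorem finrank_Vq : Module.finrank (ResidueField R) (Vq R M) = Module.finrank R M := by
  rw [finrank_Vq_eq_baseChange]
  show Module.finrank (R ⧸ maximalIdeal R) ((R ⧸ maximalIdeal R) ⊗[R] M) = _
  rw [Module.finrank_baseChange]

variable [IsSepClosed (ResidueField R)]

include hT in
/-- **S13366** -/
theorem main (hspan : Submodule.span R (Set.range T) = ⊤) :
    Function.Surjective (fun m => T m - m) ∧
      Nat.card {m : M // T m = m} = p ^ Module.finrank R M := by
  rw [← finrank_Vq (R := R) (M := M)]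
  refine main_of_hensel p T hT hspan ?_ (fun d hd hmem => eq_zero_of_fixed_of_mem p T hT d hd hmem)
  intro d hd
  have h0 : T 0 - 0 - d ∈ maximalIdeal R • (⊤ : Submodule R M) := by
    rw [map_zero, sub_zero, zero_sub]
    exact Submodule.neg_mem _ hd
  obtain ⟨z, hz, hcong⟩ := exists_solution_of_approx p T hT d 0 h0
  rw [sub_zero] at hcong
  exact ⟨z, hcong, hz⟩

end Free

section DVR
variable (p : ℕ) [Fact p.Prime] {R : Type u} [CommRing R] [IsDomain R] [IsDiscreteValuationRing R]
  [CharP R p] {M : Type v} [AddCommGroup M] [Module R M]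
  (T : M →+ M) (hT : ∀ (r : R) (m : M), T (r • m) = r ^ p • T m)

include hT in
theorem map_mem_torsion {x : M} (hx : x ∈ Submodule.torsion R M) :
    T x ∈ Submodule.torsion R M := by
  obtain ⟨a, ha⟩ := (Submodule.mem_torsion_iff x).mp hx
  refine (Submodule.mem_torsion_iff _).mpr ⟨a ^ p, ?_⟩
  have ha' : (a : R) • x = 0 := ha
  show ((a ^ p : nonZeroDivisors R) : R) • T x = 0
  rw [SubmonoidClass.coe_pow, ← hT, ha', map_zero]

include hT in
theorem mem_torsion_of_map_mem (hinj : Function.Injective T) {x : M}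
    (hx : T x ∈ Submodule.torsion R M) : x ∈ Submodule.torsion R M := by
  obtain ⟨a, ha⟩ := (Submodule.mem_torsion_iff _).mp hx
  refine (Submodule.mem_torsion_iff _).mpr ⟨a, ?_⟩
  have ha' : (a : R) • T x = 0 := ha
  show (a : R) • x = 0
  apply hinj
  rw [hT, map_zero]
  have hp1 : 1 ≤ p := (Fact.out : p.Prime).one_le
  have : (a : R) ^ p = (a : R) ^ (p - 1) * (a : R) := by
    rw [← pow_succ]
    congr 1
    omega
  rw [this, mul_smul, ha', smul_zero]

theorem exists_eq_smul_of_mem_span_smul {ϖ : R} {x : M}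
    (hx : x ∈ (Ideal.span {ϖ}) • (⊤ : Submodule R M)) : ∃ y : M, x = ϖ • y := by
  refine Submodule.smul_induction_on hx ?_ ?_
  · intro r hr y _
    obtain ⟨a, rfl⟩ := Ideal.mem_span_singleton'.mp hr
    exact ⟨a • y, by rw [mul_comm, mul_smul]⟩
  · rintro _ _ ⟨y₁, rfl⟩ ⟨y₂, rfl⟩
    exact ⟨y₁ + y₂, (smul_add _ _ _).symm⟩

variable [Module.Finite R M]

include hT in
/-- the torsion submodule is killed by the maximal ideal. -/
theorem smul_eq_zero_of_mem_torsion (hinj : Function.Injective T) {ϖ : R} (hϖ : Irreducible ϖ)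
    {x : M} (hx : x ∈ Submodule.torsion R M) : ϖ • x = 0 := by
  have hp2 : 2 ≤ p := (Fact.out : p.Prime).two_le
  -- every torsion element is killed by a power of ϖ
  have h1 : ∀ y ∈ Submodule.torsion R M, ∃ n : ℕ, ϖ ^ n • y = 0 := by
    intro y hy
    obtain ⟨a, ha⟩ := (Submodule.mem_torsion_iff y).mp hy
    have ha' : (a : R) • y = 0 := ha
    obtain ⟨n, u, hu⟩ := IsDiscreteValuationRing.eq_unit_mul_pow_irreducible
      (nonZeroDivisors.coe_ne_zero a) hϖ
    refine ⟨n, ?_⟩
    have : ϖ ^ n = ((u⁻¹ : Rˣ) : R) * (a : R) := by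
      rw [hu, ← mul_assoc, Units.inv_mul, one_mul]
    rw [this, mul_smul, ha', smul_zero]
  -- uniform bound
  haveI : IsNoetherian R M := isNoetherian_of_isNoetherianRing_of_finite R M
  let F : ℕ →o Submodule R M :=
    ⟨fun k => Submodule.torsionBy R M (ϖ ^ k), by
      intro k l hkl y hy
      rw [Submodule.mem_torsionBy_iff] at hy ⊢
      obtain ⟨c, rfl⟩ := Nat.exists_eq_add_of_le hkl
      rw [pow_add, mul_comm, mul_smul, hy, smul_zero]⟩
  obtain ⟨K, hK⟩ := monotone_stabilizes_iff_noetherian.mpr ‹IsNoetherian R M› F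
  have h2 : ∀ y ∈ Submodule.torsion R M, ϖ ^ K • y = 0 := by
    intro y hy
    obtain ⟨n, hn⟩ := h1 y hy
    have h3 : y ∈ F (max n K) := by
      have : y ∈ F n := (Submodule.mem_torsionBy_iff _ _).mpr hn
      exact F.monotone (le_max_left n K) this
    rw [← hK (max n K) (le_max_right n K)] at h3
    exact (Submodule.mem_torsionBy_iff _ _).mp h3
  -- descending induction
  have hstep : ∀ k : ℕ, 1 ≤ k → (∀ y ∈ Submodule.torsion R M, ϖ ^ (k + 1) • y = 0) →
      ∀ y ∈ Submodule.torsion R M, ϖ ^ k • y = 0 := by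
    intro k hk hall y hy
    apply hinj
    rw [hT, map_zero, ← pow_mul]
    have hTy := map_mem_torsion p T hT hy
    have hle : k + 1 ≤ k * p := by nlinarith
    obtain ⟨c, hc⟩ := Nat.exists_eq_add_of_le hle
    rw [hc, pow_add, mul_comm, mul_smul, hall _ hTy, smul_zero]
  have hmain : ∀ K : ℕ, (∀ y ∈ Submodule.torsion R M, ϖ ^ K • y = 0) →
      ∀ y ∈ Submodule.torsion R M, ϖ • y = 0 := by
    intro K
    induction K with
    | zero =>
      intro h y hy
      have := h y hy
      rw [pow_zero, one_smul] at this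
      rw [this, smul_zero]
    | succ k ih =>
      intro h y hy
      rcases Nat.eq_zero_or_pos k with rfl | hk
      · have := h y hy
        rwa [zero_add, pow_one] at this
      · exact ih (hstep k hk h) y hy
  exact hmain K h2 x hx

include hT in
theorem eq_zero_of_mem_smul_top_of_mem_torsion (hinj : Function.Injective T) {x : M}
    (hx : x ∈ maximalIdeal R • (⊤ : Submodule R M)) (hxt : x ∈ Submodule.torsion R M) : x = 0 := by
  obtain ⟨ϖ, hϖ⟩ := IsDiscreteValuationRing.exists_irreducible R
  rw [(IsDiscreteValuationRing.irreducible_iff_uniformizer ϖ).mp hϖ] at hx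
  obtain ⟨y, rfl⟩ := exists_eq_smul_of_mem_span_smul hx
  obtain ⟨a, ha⟩ := (Submodule.mem_torsion_iff _).mp hxt
  have ha' : (a : R) • ϖ • y = 0 := ha
  have hy : y ∈ Submodule.torsion R M := by
    refine (Submodule.mem_torsion_iff _).mpr ⟨⟨(a : R) * ϖ, ?_⟩, ?_⟩
    · exact mem_nonZeroDivisors_of_ne_zero (mul_ne_zero (nonZeroDivisors.coe_ne_zero a) hϖ.ne_zero)
    · show ((a : R) * ϖ) • y = 0
      rw [mul_smul, ha']
  exact smul_eq_zero_of_mem_torsion p T hT hinj hϖ hy

include hT in
/-- Krull: fixed vectors in `𝔪 M` vanish. -/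
theorem eq_zero_of_fixed_of_mem_krull (d : M) (hd : T d = d)
    (hmem : d ∈ maximalIdeal R • (⊤ : Submodule R M)) : d = 0 := by
  have hp2 : 2 ≤ p := (Fact.out : p.Prime).two_le
  have hstep : ∀ (k : ℕ) (x : M), x ∈ (maximalIdeal R) ^ k • (⊤ : Submodule R M) →
      T x ∈ (maximalIdeal R) ^ (k * p) • (⊤ : Submodule R M) := by
    intro k x hx
    refine Submodule.smul_induction_on hx ?_ ?_
    · intro r hr y _
      rw [hT, pow_mul]
      exact Submodule.smul_mem_smul (Ideal.pow_mem_pow hr p) Submodule.mem_top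
    · intro y₁ y₂ h₁ h₂
      rw [map_add]
      exact Submodule.add_mem _ h₁ h₂
  have h1 : ∀ j : ℕ, d ∈ (maximalIdeal R) ^ (p ^ j) • (⊤ : Submodule R M) := by
    intro j
    induction j with
    | zero => rwa [pow_zero, pow_one]
    | succ j ih =>
      have := hstep _ d ih
      rwa [hd, ← pow_succ] at this
  have h2 : d ∈ (⨅ i : ℕ, (maximalIdeal R) ^ i • ⊤ : Submodule R M) := by
    rw [Submodule.mem_iInf]
    intro i
    have hi : i ≤ p ^ i := (Nat.lt_pow_self hp2).le
    exact Submodule.smul_mono_left (Ideal.pow_le_pow_right hi) (h1 i)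
  rw [Ideal.iInf_pow_smul_eq_bot_of_isLocalRing (maximalIdeal R)
    (Ideal.IsMaximal.ne_top inferInstance)] at h2
  exact (Submodule.mem_bot R).mp h2

end DVR

section DVRH
variable (p : ℕ) [Fact p.Prime] {R : Type u} [CommRing R] [IsDomain R] [IsDiscreteValuationRing R]
  [HenselianLocalRing R] [CharP R p] {M : Type v} [AddCommGroup M] [Module R M] [Module.Finite R M]
  (T : M →+ M) (hT : ∀ (r : R) (m : M), T (r • m) = r ^ p • T m)

include hT in
/-- Hensel step for finitely generated modules over a henselian DVR. -/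
theorem exists_solution_dvr (hinj : Function.Injective T) (d : M)
    (hd : d ∈ maximalIdeal R • (⊤ : Submodule R M)) :
    ∃ z ∈ maximalIdeal R • (⊤ : Submodule R M), T z - z = d := by
  set N := Submodule.torsion R M with hN
  have hle : N ≤ N.comap (Tsl p T hT) := fun x hx => map_mem_torsion p T hT hx
  let T'sl : (M ⧸ N) →ₛₗ[frobenius R p] (M ⧸ N) := Submodule.mapQ N N (Tsl p T hT) hle
  let T' : (M ⧸ N) →+ (M ⧸ N) := T'sl.toAddMonoidHom
  have hT' : ∀ (r : R) (m : M ⧸ N), T' (r • m) = r ^ p • T' m := by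
    intro r m
    show T'sl (r • m) = r ^ p • T'sl m
    rw [T'sl.map_smulₛₗ, frobenius_def]
  have hT'mk : ∀ m : M, T' (N.mkQ m) = N.mkQ (T m) := fun m => rfl
  have hmap : (maximalIdeal R • (⊤ : Submodule R M)).map N.mkQ =
      maximalIdeal R • (⊤ : Submodule R (M ⧸ N)) := by
    rw [Submodule.map_smul'', Submodule.map_top, Submodule.range_mkQ]
  have hd' : N.mkQ d ∈ maximalIdeal R • (⊤ : Submodule R (M ⧸ N)) := by
    rw [← hmap]
    exact Submodule.mem_map_of_mem hd
  have h0 : T' 0 - 0 - N.mkQ d ∈ maximalIdeal R • (⊤ : Submodule R (M ⧸ N)) := by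
    rw [map_zero, sub_zero, zero_sub]
    exact Submodule.neg_mem _ hd'
  obtain ⟨z', hz', hcong⟩ := exists_solution_of_approx p T' hT' (N.mkQ d) 0 h0
  rw [sub_zero, ← hmap] at hcong
  obtain ⟨z₁, hz₁, rfl⟩ := hcong
  refine ⟨z₁, hz₁, ?_⟩
  have he1 : T z₁ - z₁ - d ∈ N := by
    rw [← Submodule.Quotient.mk_eq_zero]
    have : (Submodule.Quotient.mk (T z₁ - z₁ - d) : M ⧸ N) =
        T' (N.mkQ z₁) - N.mkQ z₁ - N.mkQ d := rfl
    rw [this, hz', sub_self]
  have he2 : T z₁ - z₁ - d ∈ maximalIdeal R • (⊤ : Submodule R M) :=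
    Submodule.sub_mem _ (Submodule.sub_mem _ (map_mem_smul_top p T hT hz₁) hz₁) hd
  have := eq_zero_of_mem_smul_top_of_mem_torsion p T hT hinj he2 he1
  exact sub_eq_zero.mp this

variable [IsSepClosed (ResidueField R)]

include hT in
/-- **S13367** -/
theorem main_dvr (hbij : Function.Bijective T) :
    Function.Surjective (fun m => T m - m) ∧
      Nat.card {m : M // T m = m} =
        p ^ Module.finrank (ResidueField R) ((ResidueField R) ⊗[R] M) := by
  have hspan : Submodule.span R (Set.range T) = ⊤ := by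
    rw [hbij.2.range_eq, Submodule.span_univ]
  rw [← finrank_Vq_eq_baseChange]
  exact main_of_hensel p T hT hspan (fun d hd => exists_solution_dvr p T hT hbij.1 d hd)
    (fun d hd hmem => eq_zero_of_fixed_of_mem_krull p T hT d hd hmem)

end DVRH

end Groth.Agent.H7.FrobHens
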