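import Groth.Agent.Lib.Helper7.SigLinFrob

/-! Frobenius-semilinear maps on finite modules over integral algebras over an algebraically closed
field: `φ - id` is surjective (helper7). -/

set_option autoImplicit false

namespace Groth.Agent.H7.SigLin

section frobint

/-- **S15362** -/
theorem frob_sub_id_surjective (p : ℕ) [Fact p.Prime] (L : Type*) [Field L] [IsAlgClosed L]
    [CharP L p] (R : Type*) [CommRing R] [Algebra L R] [Algebra.IsIntegral L R] [ExpChar R p]
    (M : Type*) [AddCommGroup M] [Module R M] [Module.Finite R M]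
    (φ : M →ₛₗ[frobenius R p] M) :
    Function.Surjective fun m : M => φ m - m := by
  classical
  intro m
  obtain ⟨r, e, he⟩ := Module.Finite.exists_fin (R := R) (M := M)
  have hmem : ∀ w : M, ∃ c : Fin r → R, w = ∑ i, c i • e i := by
    intro w
    have hw : w ∈ Submodule.span R (Set.range e) := by rw [he]; trivial
    rw [Submodule.mem_span_range_iff_exists_fun] at hw
    obtain ⟨c, hc⟩ := hw
    exact ⟨c, hc.symm⟩
  choose a ha using fun i => hmem (φ (e i))
  obtain ⟨c, hc⟩ := hmem m
  set S : Set R := Set.range (fun ij : Fin r × Fin r => a ij.1 ij.2) ∪ Set.range c with hS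
  have hSfin : S.Finite := (Set.finite_range _).union (Set.finite_range _)
  set R₀ : Subalgebra L R := Algebra.adjoin L S with hR₀
  haveI : Module.Finite L R₀ := Algebra.finite_adjoin_of_finite_of_isIntegral hSfin
    (fun x _ => Algebra.IsIntegral.isIntegral x)
  have haS : ∀ i j, a i j ∈ R₀ := fun i j => Algebra.subset_adjoin (Or.inl ⟨(i, j), rfl⟩)
  have hcS : ∀ i, c i ∈ R₀ := fun i => Algebra.subset_adjoin (Or.inr ⟨i, rfl⟩)
  have hTmem : ∀ (x : Fin r → R₀) (j : Fin r), ∑ i, (x i : R) ^ p * a i j ∈ R₀ := fun x j =>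
    Subalgebra.sum_mem _ (fun i _ => Subalgebra.mul_mem _ (Subalgebra.pow_mem _ (x i).2 _) (haS i j))
  let T : (Fin r → R₀) →ₛₗ[frobenius L p] (Fin r → R₀) :=
    { toFun := fun x j => ⟨∑ i, (x i : R) ^ p * a i j, hTmem x j⟩
      map_add' := by
        intro x y
        funext j
        apply Subtype.ext
        change ∑ i, ((x i + y i : R₀) : R) ^ p * a i j =
          ∑ i, (x i : R) ^ p * a i j + ∑ i, (y i : R) ^ p * a i j
        rw [← Finset.sum_add_distrib]
        refine Finset.sum_congr rfl (fun i _ => ?_)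
        rw [Subalgebra.coe_add, add_pow_expChar, add_mul]
      map_smul' := by
        intro l x
        funext j
        apply Subtype.ext
        change ∑ i, ((l • x i : R₀) : R) ^ p * a i j =
          ((frobenius L p l • (⟨∑ i, (x i : R) ^ p * a i j, hTmem x j⟩ : R₀) : R₀) : R)
        rw [Subalgebra.coe_smul, Algebra.smul_def, Finset.mul_sum]
        refine Finset.sum_congr rfl (fun i _ => ?_)
        rw [Subalgebra.coe_smul, Algebra.smul_def, mul_pow, frobenius_def, map_pow, mul_assoc] }
  have hT : ∀ (x : Fin r → R₀) (j : Fin r), ((T x j : R₀) : R) = ∑ i, (x i : R) ^ p * a i j :=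
    fun x j => rfl
  set Φ : (Fin r → R₀) → M := fun x => ∑ i, (x i : R) • e i with hΦ
  have hΦsub : ∀ x y, Φ (x - y) = Φ x - Φ y := by
    intro x y
    simp only [hΦ, Pi.sub_apply, Subalgebra.coe_sub, sub_smul, Finset.sum_sub_distrib]
  have hΦneg : ∀ x, Φ (-x) = -Φ x := by
    intro x
    simp only [hΦ, Pi.neg_apply, Subalgebra.coe_neg, neg_smul, Finset.sum_neg_distrib]
  have hΦT : ∀ x, Φ (T x) = φ (Φ x) := by
    intro x
    simp only [hΦ]
    rw [map_sum]
    have h1 : ∀ i, φ ((x i : R) • e i) = ∑ j, ((x i : R) ^ p * a i j) • e j := by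
      intro i
      rw [φ.map_smulₛₗ, frobenius_def, ha i, Finset.smul_sum]
      refine Finset.sum_congr rfl (fun j _ => ?_)
      rw [smul_smul]
    rw [Finset.sum_congr rfl (fun i _ => h1 i), Finset.sum_comm]
    refine Finset.sum_congr rfl (fun j _ => ?_)
    rw [hT, Finset.sum_smul]
  let c' : Fin r → R₀ := fun i => ⟨c i, hcS i⟩
  have hc' : Φ c' = m := hc.symm
  obtain ⟨x, hx⟩ := (sub_surjective_and_fixed_basis (frobenius_surjective' p L) T
    (H2_frobenius p L) (H3_frobenius p L)).1 (-c')
  have hx' : x - T x = -c' := hx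
  refine ⟨Φ x, ?_⟩
  change φ (Φ x) - Φ x = m
  rw [← hΦT, ← hΦsub, ← hc']
  congr 1
  rw [← neg_sub, hx', neg_neg]

end frobint

end Groth.Agent.H7.SigLin
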