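import Groth.Agent.Lib.Helper7.Z5
import Groth.Agent.Lib.Helper5.FunFld.Genus0
import Groth.Agent.Lib.Helper5.FunFld.Ext

/-! Places of `k̄ K` fixed by the Frobenius are those defined over the finite field `k`
(helper7). -/

set_option autoImplicit false
set_option linter.unusedSectionVars false

attribute [-instance] IsLocalRing.instModuleResidueFieldOfAlgebra

namespace Groth.Agent.H7.FrobPl

open FunFld WithZero Groth.Agent.H7.Zeta

section deg

variable {k K : Type*} [Field k] [Field K] [Algebra k K]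

/-- a place all of whose integral elements are congruent to constants has degree one -/
theorem deg_eq_one_of_forall_const (P : Place k K)
    (h : ∀ x : K, P.1 x ≤ 1 → ∃ c : k, P.1 (x - algebraMap k K c) < 1) : P.deg = 1 := by
  have hsurj : Function.Surjective (algebraMap k (IsLocalRing.ResidueField P.O)) := by
    intro r
    obtain ⟨a, rfl⟩ := IsLocalRing.residue_surjective r
    obtain ⟨c, hc⟩ := h a (P.mem_O_iff.1 a.2)
    refine ⟨c, ?_⟩
    have h0 : IsLocalRing.residue P.O (a - algebraMap k P.O c) = 0 := by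
      rw [P.residue_eq_zero_iff]
      exact hc
    rw [map_sub, sub_eq_zero] at h0
    exact h0.symm
  have hbij : Function.Bijective (algebraMap k (IsLocalRing.ResidueField P.O)) :=
    ⟨(algebraMap k (IsLocalRing.ResidueField P.O)).injective, hsurj⟩
  unfold Place.deg
  have e : k ≃ₗ[k] IsLocalRing.ResidueField P.O :=
    LinearEquiv.ofBijective (Algebra.linearMap k _) hbij
  exact (e.finrank_eq).symm.trans (Module.finrank_self k)

end deg

section gauss

variable {k K kb Kb : Type*} [Field k] [Field K] [Algebra k K] [Field kb] [Algebra k kb]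
  [Field Kb] [Algebra K Kb] [Algebra kb Kb]

/-- strict form of the compatibility of `Q` and `P` -/
lemma lt_one_iff (P : Place k K) (Q : Place kb Kb)
    (hQP : ∀ x : K, Q.1 (algebraMap K Kb x) ≤ 1 ↔ P.1 x ≤ 1) (x : K) :
    Q.1 (algebraMap K Kb x) < 1 ↔ P.1 x < 1 := by
  rcases eq_or_ne x 0 with rfl | hx
  · simp
  · have hx' : algebraMap K Kb x ≠ 0 := (map_ne_zero_iff _ (algebraMap K Kb).injective).2 hx
    have hQ0 : 0 < Q.1 (algebraMap K Kb x) := by rwa [pos_iff_ne_zero, Ne, Valuation.zero_iff]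
    have hP0 : 0 < P.1 x := by rwa [pos_iff_ne_zero, Ne, Valuation.zero_iff]
    have hQ : Q.1 (algebraMap K Kb x) < 1 ↔ ¬ Q.1 (algebraMap K Kb x⁻¹) ≤ 1 := by
      rw [map_inv₀, map_inv₀, not_le, one_lt_inv₀ hQ0]
    have hP' : P.1 x < 1 ↔ ¬ P.1 x⁻¹ ≤ 1 := by
      rw [map_inv₀, not_le, one_lt_inv₀ hP0]
    rw [hQ, hP', hQP]

/-- **Gauss extension**: over a place of degree one, the valuation of `∑ bᵢ yᵢ` with `bᵢ`
linearly independent constants is the maximum of the valuations of the `yᵢ`. -/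
theorem v_sum_eq (P : Place k K) (hP : P.deg = 1) (Q : Place kb Kb)
    (hc : ∀ c : k, algebraMap K Kb (algebraMap k K c) = algebraMap kb Kb (algebraMap k kb c))
    (hQP : ∀ x : K, Q.1 (algebraMap K Kb x) ≤ 1 ↔ P.1 x ≤ 1)
    {ι : Type*} (b : ι → kb) (hb : LinearIndependent k b) (s : Finset ι) (y : ι → K) (j : ι)
    (hj : j ∈ s) (hy : y j ≠ 0)
    (hmax : ∀ i ∈ s, Q.1 (algebraMap K Kb (y i)) ≤ Q.1 (algebraMap K Kb (y j))) :
    Q.1 (∑ i ∈ s, algebraMap K Kb (y i) * algebraMap kb Kb (b i)) =
      Q.1 (algebraMap K Kb (y j)) := by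
  classical
  have hYj : algebraMap K Kb (y j) ≠ 0 := (map_ne_zero_iff _ (algebraMap K Kb).injective).2 hy
  have hQYj : Q.1 (algebraMap K Kb (y j)) ≠ 0 := by rwa [Ne, Valuation.zero_iff]
  -- the ratios
  have hu : ∀ i ∈ s, P.1 (y i / y j) ≤ 1 := by
    intro i hi
    rw [← hQP, map_div₀, map_div₀]
    exact div_le_one_of_le₀ (hmax i hi) zero_le'
  have hex : ∀ i, ∃ a : k, i ∈ s → P.1 (y i / y j - algebraMap k K a) < 1 := by
    intro i
    by_cases hi : i ∈ s
    · obtain ⟨a, ha⟩ := P.exists_const_sub_lt hP (hu i hi)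
      exact ⟨a, fun _ => ha⟩
    · exact ⟨0, fun h => absurd h hi⟩
  choose a ha using hex
  have haj : a j ≠ 0 := by
    intro h0
    have := ha j hj
    rw [h0, map_zero, sub_zero, div_self hy, map_one] at this
    exact lt_irrefl _ this
  set β : kb := ∑ i ∈ s, a i • b i with hβ
  have hβ0 : β ≠ 0 := by
    intro h0
    have := linearIndependent_iff'.1 hb s a h0 j hj
    exact haj this
  have hQβ : Q.1 (algebraMap kb Kb β) = 1 := v_algebraMap_eq_one Q.1 Q.v_algebraMap_le hβ0
  have hsplit : ∑ i ∈ s, algebraMap K Kb (y i) * algebraMap kb Kb (b i) =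
      algebraMap K Kb (y j) * (algebraMap kb Kb β +
        ∑ i ∈ s, algebraMap K Kb (y i / y j - algebraMap k K (a i)) * algebraMap kb Kb (b i)) := by
    rw [hβ, map_sum, ← Finset.sum_add_distrib, Finset.mul_sum]
    refine Finset.sum_congr rfl (fun i _ => ?_)
    rw [Algebra.smul_def, map_mul, ← hc, map_sub, map_div₀]
    field_simp
    ring
  have hsmall : Q.1 (∑ i ∈ s, algebraMap K Kb (y i / y j - algebraMap k K (a i)) *
      algebraMap kb Kb (b i)) < 1 := by
    apply Valuation.map_sum_lt _ one_ne_zero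
    intro i hi
    rw [map_mul]
    have h1 : Q.1 (algebraMap K Kb (y i / y j - algebraMap k K (a i))) < 1 :=
      (lt_one_iff P Q hQP _).2 (ha i hi)
    have h2 : Q.1 (algebraMap kb Kb (b i)) ≤ 1 := Q.v_algebraMap_le _
    calc Q.1 (algebraMap K Kb (y i / y j - algebraMap k K (a i))) * Q.1 (algebraMap kb Kb (b i))
        ≤ Q.1 (algebraMap K Kb (y i / y j - algebraMap k K (a i))) * 1 :=
          mul_le_mul' le_rfl h2
      _ < 1 := by rwa [mul_one]
  rw [hsplit, map_mul, Valuation.map_add_eq_of_lt_left _ (by rw [hQβ]; exact hsmall), hQβ, mul_one]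

end gauss

section aux

/-- a valuation `< 1` on a product is `< 1` on a factor -/
lemma exists_lt_one_of_prod_lt_one {R Γ₀ : Type*} [CommRing R] [LinearOrderedCommGroupWithZero Γ₀]
    (v : Valuation R Γ₀) (m : Multiset R) (h : v m.prod < 1) : ∃ a ∈ m, v a < 1 := by
  induction m using Multiset.induction_on with
  | empty => simp at h
  | cons a m ih =>
    rw [Multiset.prod_cons, map_mul] at h
    by_cases ha : v a < 1
    · exact ⟨a, Multiset.mem_cons_self a m, ha⟩
    · rw [not_lt] at ha
      have h2 : v m.prod < 1 := lt_of_le_of_lt (le_mul_of_one_le_left' ha) h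
      obtain ⟨b, hb, hb'⟩ := ih h2
      exact ⟨b, Multiset.mem_cons_of_mem hb, hb'⟩

/-- the fixed points of `c ↦ c^q` in an extension of a finite field with `q` elements -/
lemma mem_range_of_pow_card (k kb : Type*) [Field k] [Finite k] [Field kb] [Algebra k kb] (c : kb)
    (hc : c ^ Nat.card k = c) : ∃ a : k, algebraMap k kb a = c := by
  classical
  letI := Fintype.ofFinite k
  have hq : Nat.card k = Fintype.card k := Nat.card_eq_fintype_card
  have hq1 : 1 < Fintype.card k := Fintype.one_lt_card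
  set p : Polynomial kb := Polynomial.X ^ Fintype.card k - Polynomial.X with hp
  have hp0 : p ≠ 0 := FiniteField.X_pow_card_sub_X_ne_zero kb hq1
  have hsub : (Finset.univ.image (algebraMap k kb)) ⊆ p.roots.toFinset := by
    intro b hb
    obtain ⟨a, -, rfl⟩ := Finset.mem_image.1 hb
    rw [Multiset.mem_toFinset, Polynomial.mem_roots hp0, Polynomial.IsRoot, hp]
    simp only [Polynomial.eval_sub, Polynomial.eval_pow, Polynomial.eval_X]
    rw [← map_pow, FiniteField.pow_card, sub_self]
  have hcard : p.roots.toFinset.card ≤ (Finset.univ.image (algebraMap k kb)).card := by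
    rw [Finset.card_image_of_injective _ (algebraMap k kb).injective, Finset.card_univ]
    calc p.roots.toFinset.card ≤ p.roots.card := Multiset.toFinset_card_le _
      _ ≤ p.natDegree := Polynomial.card_roots' p
      _ = Fintype.card k := FiniteField.X_pow_card_sub_X_natDegree_eq kb hq1
  have heq := Finset.eq_of_subset_of_card_le hsub hcard
  have hcmem : c ∈ p.roots.toFinset := by
    rw [Multiset.mem_toFinset, Polynomial.mem_roots hp0, Polynomial.IsRoot, hp]
    simp only [Polynomial.eval_sub, Polynomial.eval_pow, Polynomial.eval_X]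
    rw [← hq, hc, sub_self]
  rw [← heq] at hcmem
  obtain ⟨a, -, ha⟩ := Finset.mem_image.1 hcmem
  exact ⟨a, ha⟩

end aux

section main

variable {k K kb Kb : Type*} [Field k] [Field K] [Algebra k K] [Field kb] [Algebra k kb]
  [Field Kb] [Algebra K Kb] [Algebra kb Kb]

/-- every element of `K kb` is a `K`-combination of basis elements of `kb` -/
lemma exists_repr
    (hc : ∀ c : k, algebraMap K Kb (algebraMap k K c) = algebraMap kb Kb (algebraMap k kb c))
    (hgen : Algebra.adjoin K (Set.range (algebraMap kb Kb)) = ⊤)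
    {ι : Type*} (ℬ : Module.Basis ι k kb) (z : Kb) :
    ∃ y : ι →₀ K, z = ∑ i ∈ y.support, algebraMap K Kb (y i) * algebraMap kb Kb (ℬ i) := by
  have hspan : Submodule.span K (Set.range fun i => algebraMap kb Kb (ℬ i)) = ⊤ := by
    rw [eq_top_iff]
    have h1 : (⊤ : Submodule K Kb) =
        Subalgebra.toSubmodule (Algebra.adjoin K (Set.range (algebraMap kb Kb))) := by
      rw [hgen]; simp
    rw [h1, Algebra.adjoin_eq_span]
    apply Submodule.span_le.2
    intro w hw
    have hw' : w ∈ Set.range (algebraMap kb Kb) := by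
      induction hw using Submonoid.closure_induction with
      | mem x hx => exact hx
      | one => exact ⟨1, map_one _⟩
      | mul x y _ _ hx hy =>
        obtain ⟨a, rfl⟩ := hx
        obtain ⟨b, rfl⟩ := hy
        exact ⟨a * b, map_mul _ _ _⟩
    obtain ⟨c, rfl⟩ := hw'
    have hcr : c = ∑ i ∈ (ℬ.repr c).support, (ℬ.repr c i) • ℬ i := by
      conv_lhs => rw [← ℬ.linearCombination_repr c, Finsupp.linearCombination_apply, Finsupp.sum]
    rw [hcr, map_sum]
    refine Submodule.sum_mem _ (fun i _ => ?_)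
    rw [Algebra.smul_def, map_mul, ← hc, ← Algebra.smul_def]
    exact Submodule.smul_mem _ _ (Submodule.subset_span ⟨i, rfl⟩)
  have hz : z ∈ Submodule.span K (Set.range fun i => algebraMap kb Kb (ℬ i)) := by
    rw [hspan]; trivial
  obtain ⟨y, hy⟩ := (Finsupp.mem_span_range_iff_exists_finsupp).1 hz
  refine ⟨y, ?_⟩
  rw [← hy, Finsupp.sum]
  refine Finset.sum_congr rfl (fun i _ => ?_)
  rw [Algebra.smul_def]

/-- `⇐` of the criterion -/
theorem fixed_of_deg_one
    (hc : ∀ c : k, algebraMap K Kb (algebraMap k K c) = algebraMap kb Kb (algebraMap k kb c))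
    (hgen : Algebra.adjoin K (Set.range (algebraMap kb Kb)) = ⊤)
    (F : Kb →+* Kb) (hF1 : ∀ c : kb, F (algebraMap kb Kb c) = algebraMap kb Kb c)
    (q : ℕ) (hq : q ≠ 0) (hF2 : ∀ x : K, F (algebraMap K Kb x) = algebraMap K Kb x ^ q)
    (Q : Place kb Kb) (P : Place k K)
    (hQP : ∀ x : K, Q.1 (algebraMap K Kb x) ≤ 1 ↔ P.1 x ≤ 1) (hP : P.deg = 1) (z : Kb) :
    Q.1 (F z) < 1 ↔ Q.1 z < 1 := by
  classical
  set ℬ := Module.Basis.ofVectorSpace k kb with hℬ
  obtain ⟨y, rfl⟩ := exists_repr hc hgen ℬ z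
  by_cases hy0 : y = 0
  · simp [hy0]
  obtain ⟨j, hj, hmax⟩ := Finset.exists_max_image y.support
    (fun i => Q.1 (algebraMap K Kb (y i))) (Finsupp.support_nonempty_iff.2 hy0)
  have hyj : y j ≠ 0 := Finsupp.mem_support_iff.1 hj
  have h1 := v_sum_eq P hP Q hc hQP ℬ ℬ.linearIndependent y.support y j hj hyj hmax
  have hFz : F (∑ i ∈ y.support, algebraMap K Kb (y i) * algebraMap kb Kb (ℬ i)) =
      ∑ i ∈ y.support, algebraMap K Kb (y i ^ q) * algebraMap kb Kb (ℬ i) := by
    rw [map_sum]
    refine Finset.sum_congr rfl (fun i _ => ?_)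
    rw [map_mul, hF1, hF2, map_pow]
  have h2 := v_sum_eq P hP Q hc hQP ℬ ℬ.linearIndependent y.support (fun i => y i ^ q) j hj
    (pow_ne_zero _ hyj) (fun i hi => by
      simp only [map_pow]
      exact pow_le_pow_left' (hmax i hi) _)
  rw [hFz, h2, h1, map_pow, map_pow]
  exact pow_lt_one_iff hq

end main

section converse

variable {k K kb Kb : Type*} [Field k] [Finite k] [Field K] [Algebra k K] [Field kb] [Algebra k kb]
  [IsAlgClosure k kb] [Field Kb] [Algebra K Kb] [Algebra kb Kb]

/-- `⇒` of the criterion -/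
theorem deg_one_of_fixed (hK : IsFunctionField k K)
    (hc : ∀ c : k, algebraMap K Kb (algebraMap k K c) = algebraMap kb Kb (algebraMap k kb c))
    (hgen : Algebra.adjoin K (Set.range (algebraMap kb Kb)) = ⊤)
    (F : Kb →+* Kb) (hF1 : ∀ c : kb, F (algebraMap kb Kb c) = algebraMap kb Kb c)
    (hF2 : ∀ x : K, F (algebraMap K Kb x) = algebraMap K Kb x ^ Nat.card k)
    (Q : Place kb Kb) (hfix : ∀ z : Kb, Q.1 (F z) < 1 ↔ Q.1 z < 1) :
    ∃ P : Place k K, (∀ x : K, Q.1 (algebraMap K Kb x) ≤ 1 ↔ P.1 x ≤ 1) ∧ P.deg = 1 := by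
  classical
  letI algkKb : Algebra k Kb := ((algebraMap K Kb).comp (algebraMap k K)).toAlgebra
  haveI : IsScalarTower k K Kb := IsScalarTower.of_algebraMap_eq (fun _ => rfl)
  haveI : IsScalarTower k kb Kb := IsScalarTower.of_algebraMap_eq (fun c => hc c)
  haveI : IsAlgClosed kb := IsAlgClosure.isAlgClosed k
  haveI : Algebra.IsAlgebraic k kb := IsAlgClosure.isAlgebraic
  haveI : Algebra.IsAlgebraic K Kb := by
    refine ⟨fun z => ?_⟩
    have hz : z ∈ Algebra.adjoin K (Set.range (algebraMap kb Kb)) := by rw [hgen]; trivial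
    have hle : Algebra.adjoin K (Set.range (algebraMap kb Kb)) ≤ integralClosure K Kb := by
      apply Algebra.adjoin_le
      rintro _ ⟨c, rfl⟩
      have h1 : IsAlgebraic k c := Algebra.IsAlgebraic.isAlgebraic c
      have h2 : IsAlgebraic k (algebraMap kb Kb c) := h1.algebraMap
      exact (h2.tower_top K).isIntegral
    exact (hle hz).isAlgebraic
  obtain ⟨P, e, hPe⟩ := exists_isOverWith hK.isFF1 (down (k := k) Q)
  have hQP : ∀ x : K, Q.1 (algebraMap K Kb x) ≤ 1 ↔ P.1 x ≤ 1 := fun x => hPe.v_le_one_iff x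
  have hQP' : ∀ x : K, Q.1 (algebraMap K Kb x) < 1 ↔ P.1 x < 1 := fun x => hPe.v_lt_one_iff x
  refine ⟨P, hQP, deg_eq_one_of_forall_const P (fun x hx => ?_)⟩
  -- the minimal polynomial of the residue class
  have hfin := P.finiteDimensional_residueField hK
  set a : P.O := ⟨x, P.mem_O_iff.2 hx⟩ with ha
  set g := minpoly k (IsLocalRing.residue P.O a) with hg
  have hgm : g.Monic := minpoly.monic
    (@IsIntegral.of_finite k (IsLocalRing.ResidueField P.O) _ _ _ hfin (IsLocalRing.residue P.O a))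
  have h1 : IsLocalRing.residue P.O (Polynomial.eval₂ (algebraMap k P.O) a g) = 0 := by
    rw [Polynomial.hom_eval₂]
    exact minpoly.aeval k (IsLocalRing.residue P.O a)
  rw [P.residue_eq_zero_iff] at h1
  have h2 : ((Polynomial.eval₂ (algebraMap k P.O) a g : P.O) : K) =
      Polynomial.eval₂ (algebraMap k K) x g := by
    have := Polynomial.hom_eval₂ g (algebraMap k P.O) P.O.subtype a
    exact this
  rw [h2] at h1
  set X : Kb := algebraMap K Kb x with hX
  have hQX : Q.1 X ≤ 1 := (hQP x).2 hx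
  have h3 : algebraMap K Kb (Polynomial.eval₂ (algebraMap k K) x g) =
      Polynomial.eval₂ (algebraMap kb Kb) X (g.map (algebraMap k kb)) := by
    rw [Polynomial.hom_eval₂, Polynomial.eval₂_map]
    congr 1
    ext c
    exact hc c
  have hsplit : (g.map (algebraMap k kb)).Splits := IsAlgClosed.splits _
  have hprod := hsplit.eq_prod_roots_of_monic (hgm.map _)
  have h4 : Polynomial.eval₂ (algebraMap kb Kb) X (g.map (algebraMap k kb)) =
      (((g.map (algebraMap k kb)).roots).map (fun c => X - algebraMap kb Kb c)).prod := by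
    conv_lhs => rw [hprod]
    rw [← Polynomial.coe_eval₂RingHom, map_multiset_prod, Multiset.map_map]
    congr 1
    apply Multiset.map_congr rfl
    intro c _
    simp
  have h5 : Q.1 ((((g.map (algebraMap k kb)).roots).map (fun c => X - algebraMap kb Kb c)).prod) < 1 := by
    rw [← h4, ← h3]
    exact (hQP' _).2 h1
  obtain ⟨w, hw, hw1⟩ := exists_lt_one_of_prod_lt_one Q.1 _ h5
  obtain ⟨c, -, rfl⟩ := Multiset.mem_map.1 hw
  -- apply the invariance
  have h6 : Q.1 (F (X - algebraMap kb Kb c)) < 1 := (hfix _).2 hw1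
  rw [map_sub, hF1, hX, hF2, ← hX] at h6
  have hQc : Q.1 (algebraMap kb Kb c) ≤ 1 := Q.v_algebraMap_le c
  have h7 : Q.1 (X ^ Nat.card k - algebraMap kb Kb c ^ Nat.card k) < 1 := by
    rw [← Commute.geom_sum₂_mul (Commute.all _ _), map_mul]
    have hs : Q.1 (∑ i ∈ Finset.range (Nat.card k),
        X ^ i * algebraMap kb Kb c ^ (Nat.card k - 1 - i)) ≤ 1 := by
      apply Valuation.map_sum_le
      intro i _
      rw [map_mul, map_pow, map_pow]
      exact mul_le_one' (pow_le_one' hQX _) (pow_le_one' hQc _)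
    calc Q.1 (∑ i ∈ Finset.range (Nat.card k),
        X ^ i * algebraMap kb Kb c ^ (Nat.card k - 1 - i)) * Q.1 (X - algebraMap kb Kb c)
        ≤ 1 * Q.1 (X - algebraMap kb Kb c) := mul_le_mul' hs le_rfl
      _ < 1 := by rwa [one_mul]
  have h8 : Q.1 (algebraMap kb Kb (c ^ Nat.card k - c)) < 1 := by
    have : algebraMap kb Kb (c ^ Nat.card k - c) =
        (X ^ Nat.card k - algebraMap kb Kb c) - (X ^ Nat.card k - algebraMap kb Kb c ^ Nat.card k) := by
      rw [map_sub, map_pow]; ring
    rw [this]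
    exact lt_of_le_of_lt (Valuation.map_sub _ _ _) (max_lt h6 h7)
  have h9 : c ^ Nat.card k = c := by
    by_contra hne
    have : Q.1 (algebraMap kb Kb (c ^ Nat.card k - c)) = 1 :=
      v_algebraMap_eq_one Q.1 Q.v_algebraMap_le (sub_ne_zero.2 hne)
    rw [this] at h8
    exact lt_irrefl _ h8
  obtain ⟨a₀, ha₀⟩ := mem_range_of_pow_card k kb c h9
  refine ⟨a₀, ?_⟩
  rw [← hQP', map_sub, hc, ha₀]
  exact hw1

end converse

end Groth.Agent.H7.FrobPl
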