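import Mathlib
import Groth.Prelude.Def_SGA4a

open CategoryTheory CategoryTheory.Limits Opposite CategoryTheory.Prod

universe u v

namespace Groth.Agent.H7.FunTopos

variable {C : Type u} [SmallCategory C] (J : GrothendieckTopology C) (D : Type u) [SmallCategory D]

/-- the sieve on `(d, c)` of all `(a, f)` with `f ∈ S` -/
abbrev TS (x : Dᵒᵖ × C) (S : Sieve x.2) : Sieve x := S.functorPullback (CategoryTheory.Prod.snd Dᵒᵖ C)

/-- the coverage on `Dᵒᵖ × C` -/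
def cov : Coverage (Dᵒᵖ × C) where
  coverings x := {R | ∃ S ∈ J x.2, R = (TS D x S).arrows}
  pullback := by
    rintro x y g _ ⟨S, hS, rfl⟩
    refine ⟨(TS D y (S.pullback g.2)).arrows, ⟨_, J.pullback_stable g.2 hS, rfl⟩, ?_⟩
    intro z h hh
    exact ⟨z, 𝟙 _, h ≫ g, by simpa using hh, by simp⟩

variable {D}

/-- the restriction of a presheaf on `Dᵒᵖ × C` to the slice at `d` -/
abbrev slice (Q : (Dᵒᵖ × C)ᵒᵖ ⥤ Type u) (d : Dᵒᵖ) : Cᵒᵖ ⥤ Type u := (CategoryTheory.Prod.sectR d C).op ⋙ Q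

theorem fam_congr {Q : (Dᵒᵖ × C)ᵒᵖ ⥤ Type u} {x : Dᵒᵖ × C} {R : Presieve x}
    (xx : Presieve.FamilyOfElements Q R) {z : Dᵒᵖ × C} {g g' : z ⟶ x} (e : g = g') (hg : R g)
    (hg' : R g') : xx g hg = xx g' hg' := by
  subst e
  rfl

theorem factor {z x : Dᵒᵖ × C} (g : z ⟶ x) :
    g = ((g.1 ×ₘ 𝟙 z.2 : z ⟶ (x.1, z.2)) ≫ (𝟙 x.1 ×ₘ g.2 : (x.1, z.2) ⟶ x)) := by
  apply CategoryTheory.Prod.hom_ext
  · simp
  · simp

theorem Qcomp (Q : (Dᵒᵖ × C)ᵒᵖ ⥤ Type u) {x y z : Dᵒᵖ × C} (f : x ⟶ y) (g : y ⟶ z)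
    (t : Q.obj (op z)) : Q.map f.op (Q.map g.op t) = Q.map (f ≫ g).op t := by
  rw [op_comp, Functor.map_comp_apply]

theorem Qcongr (Q : (Dᵒᵖ × C)ᵒᵖ ⥤ Type u) {x z : Dᵒᵖ × C} {f f' : x ⟶ z} (e : f = f')
    (t : Q.obj (op z)) : Q.map f.op t = Q.map f'.op t := by
  rw [e]

theorem slice_map (Q : (Dᵒᵖ × C)ᵒᵖ ⥤ Type u) (d : Dᵒᵖ) {c c' : C} (f : c' ⟶ c)
    (t : Q.obj (op (d, c))) :
    (slice Q d).map f.op t = Q.map (𝟙 d ×ₘ f : (d, c') ⟶ (d, c)).op t := rfl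

theorem isSheafFor_TS_iff (Q : (Dᵒᵖ × C)ᵒᵖ ⥤ Type u) (d : Dᵒᵖ) (c : C) (S : Sieve c) :
    Presieve.IsSheafFor Q (TS D (d, c) S).arrows ↔ Presieve.IsSheafFor (slice Q d) S.arrows := by
  constructor
  · intro h y hy
    rw [Presieve.compatible_iff_sieveCompatible] at hy
    let xx : Presieve.FamilyOfElements Q (TS D (d, c) S).arrows := fun z g hg =>
      Q.map (g.1 ×ₘ 𝟙 z.2 : z ⟶ (d, z.2)).op (y g.2 hg)
    have hxx : xx.Compatible := by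
      rw [Presieve.compatible_iff_sieveCompatible]
      intro z w g k hg
      have e2 : y (k ≫ g).2 (S.downward_closed hg k.2) =
          Q.map (𝟙 d ×ₘ k.2 : (d, w.2) ⟶ (d, z.2)).op (y g.2 hg) := hy g.2 k.2 hg
      show Q.map ((k ≫ g).1 ×ₘ 𝟙 w.2 : w ⟶ (d, w.2)).op (y (k ≫ g).2 _) =
        Q.map k.op (Q.map (g.1 ×ₘ 𝟙 z.2 : z ⟶ (d, z.2)).op (y g.2 hg))
      rw [e2, Qcomp, Qcomp]
      apply Qcongr
      apply CategoryTheory.Prod.hom_ext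
      · simp
      · simp
    obtain ⟨t, ht, huniq⟩ := h xx hxx
    refine ⟨t, ?_, ?_⟩
    · intro c' f hf
      have h1 : Q.map (𝟙 d ×ₘ f : (d, c') ⟶ (d, c)).op t =
          Q.map (𝟙 d ×ₘ 𝟙 c' : (d, c') ⟶ (d, c')).op (y f hf) :=
        ht (𝟙 d ×ₘ f : (d, c') ⟶ (d, c)) hf
      have h2 : Q.map (𝟙 d ×ₘ 𝟙 c' : (d, c') ⟶ (d, c')).op (y f hf) = y f hf := by
        have : (𝟙 d ×ₘ 𝟙 c' : (d, c') ⟶ (d, c')) = 𝟙 _ := rfl
        rw [this, op_id, Functor.map_id_apply]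
      exact h1.trans h2
    · intro t' ht'
      apply huniq
      intro z g hg
      have h1 : Q.map (𝟙 d ×ₘ g.2 : (d, z.2) ⟶ (d, c)).op t' = y g.2 hg := ht' g.2 hg
      show Q.map g.op t' = Q.map (g.1 ×ₘ 𝟙 z.2 : z ⟶ (d, z.2)).op (y g.2 hg)
      rw [← h1, Qcomp]
      apply Qcongr
      exact factor g
  · intro h xx hxx
    rw [Presieve.compatible_iff_sieveCompatible] at hxx
    let y : Presieve.FamilyOfElements (slice Q d) S.arrows := fun c' f hf =>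
      xx (𝟙 d ×ₘ f : (d, c') ⟶ (d, c)) hf
    have hy : y.Compatible := by
      rw [Presieve.compatible_iff_sieveCompatible]
      intro c' c'' f k hf
      have := hxx (𝟙 d ×ₘ f : (d, c') ⟶ (d, c)) (𝟙 d ×ₘ k : (d, c'') ⟶ (d, c')) hf
      show xx (𝟙 d ×ₘ (k ≫ f) : (d, c'') ⟶ (d, c)) _ =
        Q.map (𝟙 d ×ₘ k : (d, c'') ⟶ (d, c')).op (xx (𝟙 d ×ₘ f : (d, c') ⟶ (d, c)) hf)
      rw [← this]
      refine fam_congr xx ?_ _ _
      apply CategoryTheory.Prod.hom_ext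
      · simp
      · simp
    obtain ⟨t, ht, huniq⟩ := h y hy
    refine ⟨t, ?_, ?_⟩
    · intro z g hg
      have h2 : Q.map (𝟙 d ×ₘ g.2 : (d, z.2) ⟶ (d, c)).op t =
          xx (𝟙 d ×ₘ g.2 : (d, z.2) ⟶ (d, c)) hg := ht g.2 hg
      have h3 := hxx (𝟙 d ×ₘ g.2 : (d, z.2) ⟶ (d, c)) (g.1 ×ₘ 𝟙 z.2 : z ⟶ (d, z.2)) hg
      show Q.map g.op t = xx g hg
      rw [Qcongr Q (factor g) t, ← Qcomp, h2, ← h3]
      exact fam_congr xx (factor g).symm _ _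
    · intro t' ht'
      apply huniq
      intro c' f hf
      exact ht' (𝟙 d ×ₘ f : (d, c') ⟶ (d, c)) hf


variable (D) in
theorem isSheaf_iff (Q : (Dᵒᵖ × C)ᵒᵖ ⥤ Type u) :
    Presieve.IsSheaf (cov J D).toGrothendieck Q ↔ ∀ d : Dᵒᵖ, Presieve.IsSheaf J (slice Q d) := by
  rw [Presieve.isSheaf_coverage]
  constructor
  · intro h d c S hS
    exact (isSheafFor_TS_iff Q d c S).mp (h _ ⟨S, hS, rfl⟩)
  · rintro h ⟨d, c⟩ _ ⟨S, hS, rfl⟩
    exact (isSheafFor_TS_iff Q d c S).mpr (h d S hS)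

variable (C D) in
/-- `(Dᵒᵖ × C)ᵒᵖ ≌ D × Cᵒᵖ` -/
def twE : (Dᵒᵖ × C)ᵒᵖ ≌ D × Cᵒᵖ :=
  (prodOpEquiv Dᵒᵖ).trans ((opOpEquivalence D).prod (CategoryTheory.Equivalence.refl))

variable (C D) in
/-- uncurrying equivalence -/
def W : (D ⥤ Cᵒᵖ ⥤ Type u) ≌ ((Dᵒᵖ × C)ᵒᵖ ⥤ Type u) :=
  (Functor.currying (C := D) (D := Cᵒᵖ) (E := Type u)).trans ((twE C D).symm.congrLeft)

/-- the slice of the uncurried functor -/
def sliceIso (G : D ⥤ Cᵒᵖ ⥤ Type u) (d : D) : slice ((W C D).functor.obj G) (op d) ≅ G.obj d :=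
  NatIso.ofComponents (fun c => Iso.refl _) (by
    intro c c' f
    show ((G.map (𝟙 d)).app c ≫ (G.obj d).map f) ≫ 𝟙 ((G.obj d).obj c') =
      𝟙 ((G.obj d).obj c) ≫ (G.obj d).map f
    rw [G.map_id, NatTrans.id_app, Category.id_comp, Category.comp_id])


variable (D) in
theorem isSheaf_W_iff (G : D ⥤ Cᵒᵖ ⥤ Type u) :
    Presieve.IsSheaf (cov J D).toGrothendieck ((W C D).functor.obj G) ↔
      ∀ d : D, Presieve.IsSheaf J (G.obj d) := by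
  rw [isSheaf_iff]
  constructor
  · intro h d
    exact Presieve.isSheaf_iso J (sliceIso G d) (h (op d))
  · intro h d
    exact Presieve.isSheaf_iso J (sliceIso G d.unop).symm (h d.unop)

variable (D) in
/-- the functor to presheaves on `Dᵒᵖ × C` -/
def Φ₀ : (D ⥤ Sheaf J (Type u)) ⥤ ((Dᵒᵖ × C)ᵒᵖ ⥤ Type u) :=
  (Functor.whiskeringRight D _ _).obj (sheafToPresheaf J (Type u)) ⋙ (W C D).functor

variable (D) in
def Φ₀_ff : (Φ₀ J D).FullyFaithful :=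
  ((fullyFaithfulSheafToPresheaf J (Type u)).whiskeringRight D).comp (W C D).fullyFaithfulFunctor

variable (D) in
theorem Φ₀_isSheaf (F : D ⥤ Sheaf J (Type u)) :
    Presheaf.IsSheaf (cov J D).toGrothendieck ((Φ₀ J D).obj F) := by
  rw [isSheaf_iff_isSheaf_of_type]
  show Presieve.IsSheaf _ ((W C D).functor.obj (F ⋙ sheafToPresheaf J (Type u)))
  rw [isSheaf_W_iff]
  intro d
  exact (isSheaf_iff_isSheaf_of_type _ _).mp (F.obj d).property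

variable (D) in
/-- the comparison functor -/
def Φ : (D ⥤ Sheaf J (Type u)) ⥤ Sheaf (cov J D).toGrothendieck (Type u) :=
  ObjectProperty.lift _ (Φ₀ J D) (Φ₀_isSheaf J D)

variable (D) in
def Φ_ff : (Φ J D).FullyFaithful :=
  Functor.FullyFaithful.ofCompFaithful (G := sheafToPresheaf _ (Type u)) (Φ₀_ff J D)

instance : (Φ J D).Full := (Φ_ff J D).full
instance : (Φ J D).Faithful := (Φ_ff J D).faithful

instance : (Φ J D).EssSurj := by
  constructor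
  intro Q
  have h1 : Presieve.IsSheaf (cov J D).toGrothendieck
      ((W C D).functor.obj ((W C D).inverse.obj Q.obj)) :=
    Presieve.isSheaf_iso _ ((W C D).counitIso.app Q.obj).symm
      ((isSheaf_iff_isSheaf_of_type _ _).mp Q.property)
  rw [isSheaf_W_iff] at h1
  let F : D ⥤ Sheaf J (Type u) := ObjectProperty.lift _ ((W C D).inverse.obj Q.obj)
    (fun d => (isSheaf_iff_isSheaf_of_type _ _).mpr (h1 d))
  exact ⟨F, ⟨(fullyFaithfulSheafToPresheaf _ (Type u)).preimageIso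
    ((W C D).counitIso.app Q.obj)⟩⟩

instance : (Φ J D).IsEquivalence where

theorem main {E : Type v} [Category.{u} E] (hE : SGA4.IsTopos E)
    (D : Type u) [SmallCategory D] : SGA4.IsTopos (D ⥤ E) := by
  obtain ⟨C, _, J, ⟨e⟩⟩ := hE
  exact ⟨Dᵒᵖ × C, inferInstance, (cov J D).toGrothendieck,
    ⟨(e.congrRight).trans (Φ J D).asEquivalence⟩⟩

end Groth.Agent.H7.FunTopos
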