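import Mathlib
open Matrix
universe u

namespace Groth.Agent.H7.FundCycle

variable {r : ℕ} (A : Matrix (Fin r) (Fin r) ℤ)

/-- existence of a positive vector with `A y = -N` -/
lemma exists_pos (hoff : ∀ i j, i ≠ j → 0 ≤ A i j)
    (hneg : ∀ a : Fin r → ℤ, a ≠ 0 → a ⬝ᵥ A.mulVec a < 0) :
    ∃ z : Fin r → ℤ, (∀ i, 1 ≤ z i) ∧ (∀ i, A.mulVec z i ≤ 0) := by
  have hdet : A.det ≠ 0 := by
    intro h0
    obtain ⟨v, hv, hAv⟩ := Matrix.exists_mulVec_eq_zero_iff.mpr h0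
    have := hneg v hv
    rw [hAv, dotProduct_zero] at this
    exact lt_irrefl _ this
  -- y with A y = -N, N > 0
  obtain ⟨y, N, hN, hy⟩ : ∃ (y : Fin r → ℤ) (N : ℤ), 0 < N ∧ A.mulVec y = fun _ => -N := by
    have h1 : A.mulVec (A.adjugate.mulVec (fun _ => (1 : ℤ))) = fun _ => A.det := by
      rw [Matrix.mulVec_mulVec, Matrix.mul_adjugate]
      ext i
      simp
    rcases lt_or_gt_of_ne hdet with hlt | hgt
    · refine ⟨A.adjugate.mulVec (fun _ => (1 : ℤ)), -A.det, by omega, ?_⟩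
      rw [h1]; ext i; simp
    · refine ⟨-(A.adjugate.mulVec (fun _ => (1 : ℤ))), A.det, hgt, ?_⟩
      rw [Matrix.mulVec_neg, h1]; rfl
  -- negative part
  let ym : Fin r → ℤ := fun i => max (-(y i)) 0
  let yp : Fin r → ℤ := fun i => max (y i) 0
  have hyd : y = yp - ym := by
    ext i
    simp only [yp, ym, Pi.sub_apply]
    rcases le_total (y i) 0 with h | h
    · rw [max_eq_right h, max_eq_left (by omega)]; ring
    · rw [max_eq_left h, max_eq_right (by omega)]; ring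
  have hym0 : ∀ i, 0 ≤ ym i := fun i => le_max_right _ _
  have hyp0 : ∀ i, 0 ≤ yp i := fun i => le_max_right _ _
  have hdisj : ∀ i, ym i * yp i = 0 := by
    intro i
    simp only [yp, ym]
    rcases le_total (y i) 0 with h | h
    · rw [max_eq_right h, mul_zero]
    · rw [max_eq_right (show -(y i) ≤ 0 by omega), zero_mul]
  have h1 : ym ⬝ᵥ A.mulVec y = -N * ∑ i, ym i := by
    rw [hy, dotProduct, Finset.mul_sum]
    refine Finset.sum_congr rfl fun i _ => ?_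
    ring
  have h2 : 0 ≤ ym ⬝ᵥ A.mulVec yp := by
    rw [dotProduct]
    refine Finset.sum_nonneg fun i _ => ?_
    rw [Matrix.mulVec, dotProduct, Finset.mul_sum]
    refine Finset.sum_nonneg fun j _ => ?_
    by_cases hij : i = j
    · subst hij
      rw [mul_comm (A i i), ← mul_assoc, hdisj, zero_mul]
    · exact mul_nonneg (hym0 i) (mul_nonneg (hoff i j hij) (hyp0 j))
  have hym : ym = 0 := by
    by_contra hne
    have h3 := hneg ym hne
    have h4 : ym ⬝ᵥ A.mulVec y = ym ⬝ᵥ A.mulVec yp - ym ⬝ᵥ A.mulVec ym := by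
      rw [hyd, Matrix.mulVec_sub, dotProduct_sub]
    have h5 : 0 ≤ ∑ i, ym i := Finset.sum_nonneg fun i _ => hym0 i
    have h6 : ym ⬝ᵥ A.mulVec y ≤ 0 := by
      rw [h1]; nlinarith
    linarith
  have hy0 : ∀ i, 0 ≤ y i := by
    intro i
    have := congrFun hym i
    simp only [ym, Pi.zero_apply] at this
    have h := le_max_left (-(y i)) 0
    omega
  refine ⟨y, fun i => ?_, fun i => by rw [hy]; show -N ≤ 0; omega⟩
  by_contra hlt
  have hyi : y i = 0 := by have := hy0 i; omega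
  have h7 : A.mulVec y i = -N := congrFun hy i
  have h8 : 0 ≤ A.mulVec y i := by
    rw [Matrix.mulVec, dotProduct]
    refine Finset.sum_nonneg fun j _ => ?_
    by_cases hij : i = j
    · subst hij; rw [hyi, mul_zero]
    · exact mul_nonneg (hoff i j hij) (hy0 j)
  omega

theorem main (hoff : ∀ i j, i ≠ j → 0 ≤ A i j)
    (hneg : ∀ a : Fin r → ℤ, a ≠ 0 → a ⬝ᵥ A.mulVec a < 0) :
    ∃ z : Fin r → ℤ, (∀ i, 1 ≤ z i) ∧ (∀ i, A.mulVec z i ≤ 0) ∧
      ∀ z' : Fin r → ℤ, (∀ i, 1 ≤ z' i) → (∀ i, A.mulVec z' i ≤ 0) → ∀ i, z i ≤ z' i := by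
  obtain ⟨z₀, hz₀1, hz₀2⟩ := exists_pos A hoff hneg
  let P : ℤ → Prop := fun n => ∃ z : Fin r → ℤ, (∀ i, 1 ≤ z i) ∧ (∀ i, A.mulVec z i ≤ 0) ∧ ∑ i, z i = n
  obtain ⟨n₀, ⟨z, hz1, hz2, hzs⟩, hmin⟩ := Int.exists_least_of_bdd (P := P)
    ⟨0, fun n ⟨z, hz1, _, hzs⟩ => hzs ▸ Finset.sum_nonneg fun i _ => by have := hz1 i; omega⟩
    ⟨_, z₀, hz₀1, hz₀2, rfl⟩
  refine ⟨z, hz1, hz2, fun z' hz'1 hz'2 => ?_⟩
  let w : Fin r → ℤ := fun i => min (z i) (z' i)
  have hw1 : ∀ i, 1 ≤ w i := fun i => le_min (hz1 i) (hz'1 i)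
  have hwz : ∀ i, w i ≤ z i := fun i => min_le_left _ _
  have hwz' : ∀ i, w i ≤ z' i := fun i => min_le_right _ _
  have hw2 : ∀ i, A.mulVec w i ≤ 0 := by
    intro i
    -- general: if w ≤ u and w i = u i then (A w)_i ≤ (A u)_i
    have key : ∀ u : Fin r → ℤ, (∀ j, w j ≤ u j) → w i = u i → A.mulVec w i ≤ A.mulVec u i := by
      intro u hu hi
      rw [Matrix.mulVec, Matrix.mulVec, dotProduct, dotProduct]
      refine Finset.sum_le_sum fun j _ => ?_
      by_cases hij : i = j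
      · subst hij; rw [hi]
      · exact mul_le_mul_of_nonneg_left (hu j) (hoff i j hij)
    rcases le_total (z i) (z' i) with h | h
    · exact (key z hwz (min_eq_left h)).trans (hz2 i)
    · exact (key z' hwz' (min_eq_right h)).trans (hz'2 i)
  have hsum : n₀ ≤ ∑ i, w i := hmin _ ⟨w, hw1, hw2, rfl⟩
  have hsum' : ∑ i, w i ≤ ∑ i, z i := Finset.sum_le_sum fun i _ => hwz i
  have heq : ∀ i, w i = z i := by
    by_contra hne
    rw [not_forall] at hne
    obtain ⟨i, hi⟩ := hne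
    have : ∑ j, w j < ∑ j, z j :=
      Finset.sum_lt_sum (fun j _ => hwz j) ⟨i, Finset.mem_univ i, lt_of_le_of_ne (hwz i) hi⟩
    omega
  intro i
  rw [← heq i]
  exact hwz' i

end Groth.Agent.H7.FundCycle
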