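import Groth.Prelude.Def_W4SpPerfMV
import Mathlib

/-! `ModEt X` is a Grothendieck abelian category (large site version of helper1's lemma). -/
set_option autoImplicit false
open CategoryTheory Limits
universe u

namespace Groth.Agent.H7.GA

open _root_.AlgSp

variable {S : AlgebraicGeometry.Scheme.{u}} (X : Sp S)

lemma presheafOfModules_hasExactColimitsOfShape (R₀ : (EtOver X)ᵒᵖ ⥤ RingCat.{u + 1})
    (K : Type (u + 1)) [SmallCategory K] [IsFiltered K] :
    HasExactColimitsOfShape K (PresheafOfModules.{u + 1} R₀) :=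
  HasExactColimitsOfShape.domain_of_functor K (PresheafOfModules.toPresheaf.{u + 1} R₀)

lemma modEt_hasExactColimitsOfShape (K : Type (u + 1)) [SmallCategory K] [IsFiltered K] :
    HasExactColimitsOfShape K (ModEt X) := by
  have := presheafOfModules_hasExactColimitsOfShape X (OEtRing X).obj K
  exact (PresheafOfModules.sheafificationAdjunction (𝟙 (OEtRing X).obj)).hasExactColimitsOfShape K

section Sep

variable {X}
variable {R₀ : (EtOver X)ᵒᵖ ⥤ RingCat.{u + 1}}

/-- `Hom(free(h_E), M) ≃ M(E)`. -/
noncomputable def freeUYEquiv {M : PresheafOfModules.{u + 1} R₀} {E : EtOver X} :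
    ((PresheafOfModules.free R₀).obj (uliftYoneda.{u + 1}.obj E) ⟶ M) ≃ M.obj (Opposite.op E) :=
  PresheafOfModules.freeHomEquiv.trans uliftYonedaEquiv

lemma freeUYEquiv_comp {M N : PresheafOfModules.{u + 1} R₀} {E : EtOver X}
    (m : (PresheafOfModules.free R₀).obj (uliftYoneda.{u + 1}.obj E) ⟶ M) (φ : M ⟶ N) :
    freeUYEquiv (m ≫ φ) = φ.app _ (freeUYEquiv m) := rfl

variable (R₀) in
lemma presheaf_isSeparating :
    ObjectProperty.IsSeparating (.ofObj (fun E : EtOver X ↦
      (PresheafOfModules.free R₀).obj (uliftYoneda.{u + 1}.obj E))) := by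
  intro M N f₁ f₂ h
  ext ⟨E⟩ m
  obtain ⟨g, rfl⟩ := freeUYEquiv.surjective m
  exact congr_arg freeUYEquiv (h _ ⟨E⟩ g)

end Sep

lemma modEt_isSeparating :
    ObjectProperty.IsSeparating (.ofObj (fun E : EtOver X ↦
      (PresheafOfModules.sheafification (𝟙 (OEtRing X).obj)).obj
        ((PresheafOfModules.free (OEtRing X).obj).obj (uliftYoneda.{u + 1}.obj E)))) := by
  intro F G f g hfg
  let adj := PresheafOfModules.sheafificationAdjunction (𝟙 (OEtRing X).obj)
  refine (SheafOfModules.forget.{u + 1} (OEtRing X) ⋙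
    PresheafOfModules.restrictScalars (𝟙 (OEtRing X).obj)).map_injective
    (presheaf_isSeparating (OEtRing X).obj _ _ ?_)
  rintro _ ⟨E⟩ a
  apply (adj.homEquiv _ _).symm.injective
  have := hfg _ (ObjectProperty.ofObj_apply _ E) ((adj.homEquiv _ _).symm a)
  simp only [← Adjunction.homEquiv_naturality_right_symm] at this
  exact this

theorem modEt_isGrothendieckAbelian : IsGrothendieckAbelian.{u + 1} (ModEt X) where
  ab5OfSize := ⟨fun K _ _ => modEt_hasExactColimitsOfShape X K⟩
  hasSeparator := ⟨_, (modEt_isSeparating X).isSeparator_coproduct⟩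

theorem modEt_enoughInjectives : EnoughInjectives (ModEt X) := by
  haveI := modEt_isGrothendieckAbelian X
  infer_instance

end Groth.Agent.H7.GA
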