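import Mathlib

/-! Units of group algebras `A[G]` over reduced connected rings (helper7). -/

namespace Groth.Agent.H7.LU

open AddMonoidAlgebra

/-- Over a ring without zero divisors and a grading monoid with two unique sums, an invertible
element of the monoid algebra has at most one monomial. -/
theorem support_card_le_one_of_mul_eq_one {D G : Type*} [Semiring D] [NoZeroDivisors D]
    [Nontrivial D] [AddMonoid G] [TwoUniqueSums G] (u v : AddMonoidAlgebra D G)
    (h : u * v = 1) : u.coeff.support.card ≤ 1 := by
  classical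
  by_contra hcon
  push Not at hcon
  have hv : v.coeff.support.Nonempty := by
    rw [Finsupp.support_nonempty_iff]
    intro hv0
    have hv00 : v = 0 := AddMonoidAlgebra.coeff_eq_zero.mp hv0
    rw [hv00, mul_zero] at h
    exact zero_ne_one h
  have hcard : 1 < u.coeff.support.card * v.coeff.support.card := by
    have := hv.card_pos
    nlinarith
  obtain ⟨p1, hp1, p2, hp2, hne, h1, h2⟩ := TwoUniqueSums.uniqueAdd_of_one_lt_card hcard
  have e1 := AddMonoidAlgebra.coeff_mul_add_of_uniqueAdd h1
  have e2 := AddMonoidAlgebra.coeff_mul_add_of_uniqueAdd h2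
  rw [h] at e1 e2
  rw [Finset.mem_product] at hp1 hp2
  have n1 : u.coeff p1.1 * v.coeff p1.2 ≠ 0 :=
    mul_ne_zero (Finsupp.mem_support_iff.mp hp1.1) (Finsupp.mem_support_iff.mp hp1.2)
  have n2 : u.coeff p2.1 * v.coeff p2.2 ≠ 0 :=
    mul_ne_zero (Finsupp.mem_support_iff.mp hp2.1) (Finsupp.mem_support_iff.mp hp2.2)
  have z1 : p1.1 + p1.2 = 0 := by
    by_contra hz
    apply n1
    rw [← e1, AddMonoidAlgebra.one_def, AddMonoidAlgebra.coeff_single, Finsupp.single_apply, if_neg (Ne.symm hz)]
  have z2 : p2.1 + p2.2 = 0 := by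
    by_contra hz
    apply n2
    rw [← e2, AddMonoidAlgebra.one_def, AddMonoidAlgebra.coeff_single, Finsupp.single_apply, if_neg (Ne.symm hz)]
  have := h1 hp2.1 hp2.2 (z2.trans z1.symm)
  exact hne (Prod.ext this.1.symm this.2.symm)

/-- Units of `A[G]` for `A` reduced with only trivial idempotents and `G` an abelian group with
two unique sums (e.g. `ℤⁿ`): they are monomials with unit coefficient. -/
theorem exists_single_of_mul_eq_one {A G : Type*} [CommRing A] [IsReduced A] [Nontrivial A]
    (hconn : ∀ e : A, IsIdempotentElem e → e = 0 ∨ e = 1)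
    [AddCommGroup G] [TwoUniqueSums G] (u v : AddMonoidAlgebra A G) (h : u * v = 1) :
    ∃ (g : G) (a : A), IsUnit a ∧ u = AddMonoidAlgebra.single g a := by
  classical
  have horth : ∀ g h : G, g ≠ h → u.coeff g * u.coeff h = 0 := by
    intro g h' hgh
    apply IsReduced.eq_zero
    rw [nilpotent_iff_mem_prime]
    intro p hp
    have : Nontrivial (A ⧸ p) := Ideal.Quotient.nontrivial_iff.mpr hp.ne_top
    have : IsDomain (A ⧸ p) := Ideal.Quotient.isDomain p
    let q := AddMonoidAlgebra.mapRingHom G (Ideal.Quotient.mk p)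
    have hq : q u * q v = 1 := by rw [← map_mul, h, map_one]
    have hc := support_card_le_one_of_mul_eq_one (q u) (q v) hq
    by_contra hmem
    have hg : g ∈ (q u).coeff.support := by
      rw [Finsupp.mem_support_iff, AddMonoidAlgebra.coeff_mapRingHom, Ne,
        Ideal.Quotient.eq_zero_iff_mem]
      intro hg
      exact hmem (p.mul_mem_right _ hg)
    have hh : h' ∈ (q u).coeff.support := by
      rw [Finsupp.mem_support_iff, AddMonoidAlgebra.coeff_mapRingHom, Ne,
        Ideal.Quotient.eq_zero_iff_mem]
      intro hh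
      exact hmem (p.mul_mem_left _ hh)
    have : 1 < (q u).coeff.support.card := Finset.one_lt_card.mpr ⟨g, hg, h', hh, hgh⟩
    omega
  have hsum : ∑ g ∈ u.coeff.support, u.coeff g * v.coeff (-g) = 1 := by
    have h0 := congrArg (fun x => x.coeff 0) h
    simp only [AddMonoidAlgebra.coeff_mul_apply_left, add_zero] at h0
    rw [Finsupp.sum] at h0
    rw [h0]
    simp [AddMonoidAlgebra.one_def]
  set e : G → A := fun g => u.coeff g * v.coeff (-g) with he
  have he_orth : ∀ g h, g ≠ h → e g * e h = 0 := by
    intro g h' hgh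
    calc e g * e h' = (u.coeff g * u.coeff h') * (v.coeff (-g) * v.coeff (-h')) := by
          simp only [he]; ring
      _ = 0 := by rw [horth g h' hgh, zero_mul]
  have he_idem : ∀ g ∈ u.coeff.support, IsIdempotentElem (e g) := by
    intro g hg
    have h1 : e g = e g * ∑ h ∈ u.coeff.support, e h := by rw [hsum, mul_one]
    rw [Finset.mul_sum, Finset.sum_eq_single g] at h1
    · exact h1.symm
    · intro h' _ hne
      exact he_orth g h' hne.symm
    · intro hn
      exact absurd hg hn
  obtain ⟨g0, hg0, hg0e⟩ : ∃ g ∈ u.coeff.support, e g = 1 := by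
    by_contra hcon
    push Not at hcon
    have h0 : ∀ g ∈ u.coeff.support, e g = 0 :=
      fun g hg => (hconn _ (he_idem g hg)).resolve_right (hcon g hg)
    rw [Finset.sum_eq_zero h0] at hsum
    exact zero_ne_one hsum
  refine ⟨g0, u.coeff g0, IsUnit.of_mul_eq_one _ hg0e, ?_⟩
  apply AddMonoidAlgebra.ext
  ext g
  rw [AddMonoidAlgebra.coeff_single, Finsupp.single_apply]
  split_ifs with hgg
  · rw [hgg]
  · calc u.coeff g = u.coeff g * e g0 := by rw [hg0e, mul_one]
      _ = (u.coeff g * u.coeff g0) * v.coeff (-g0) := by simp only [he]; ring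
      _ = 0 := by rw [horth g g0 (Ne.symm hgg), zero_mul]

end Groth.Agent.H7.LU
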