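import Mathlib
import Groth.Agent.Lib.Helper7.LU1
import Groth.Agent.Lib.Helper7.DetIrr

/-! Units of the coordinate ring of `GL_n` (helper7). -/

namespace Groth.Agent.H7.GLU

open MvPolynomial

section
variable (A : Type*) [CommRing A] (m : ℕ)

/-- the generic determinant -/
noncomputable abbrev D : MvPolynomial (Fin (m + 1) × Fin (m + 1)) A :=
  (Matrix.mvPolynomialX (Fin (m + 1)) (Fin (m + 1)) A).det

/-- specialisation of the generic matrix to `diag(T,1,…,1)` -/
noncomputable def tau : MvPolynomial (Fin (m + 1) × Fin (m + 1)) A →ₐ[A] Polynomial A :=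
  MvPolynomial.aeval
    (fun ij => if ij.1 = ij.2 then (if ij.1 = 0 then Polynomial.X else 1) else 0)

theorem tau_det : tau A m (D A m) = Polynomial.X := by
  classical
  rw [D, AlgHom.map_det]
  have : (tau A m).mapMatrix (Matrix.mvPolynomialX (Fin (m + 1)) (Fin (m + 1)) A)
      = Matrix.diagonal (fun i => if i = 0 then Polynomial.X else 1) := by
    ext i j
    simp [tau, Matrix.mvPolynomialX, Matrix.diagonal_apply]
  rw [this, Matrix.det_diagonal, Finset.prod_ite_eq' Finset.univ (0 : Fin (m + 1))
    (fun _ => (Polynomial.X : Polynomial A))]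
  simp

theorem tau_C (a : A) : tau A m (C a) = Polynomial.C a := by
  simp [tau]

end

section
variable {A B : Type*} [CommRing A] [CommRing B] (ψ : A →+* B) (m : ℕ)

theorem tau_map (f : MvPolynomial (Fin (m + 1) × Fin (m + 1)) A) :
    Polynomial.map ψ (tau A m f) = tau B m (MvPolynomial.map ψ f) := by
  have : (Polynomial.mapRingHom ψ).comp (tau A m).toRingHom =
      (tau B m).toRingHom.comp (MvPolynomial.map ψ) := by
    apply MvPolynomial.ringHom_ext
    · intro a
      simp [tau]
    · intro i
      simp only [tau, RingHom.coe_comp, Function.comp_apply, AlgHom.toRingHom_eq_coe,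
        RingHom.coe_coe, aeval_X, map_X, Polynomial.coe_mapRingHom]
      split_ifs <;> simp
  exact congrArg (fun h => h f) this

theorem map_D : MvPolynomial.map ψ (D A m) = D B m := by
  rw [D, RingHom.map_det]
  congr 1
  ext i j
  simp [Matrix.mvPolynomialX]

end

section
variable (A : Type*) [CommRing A] (m : ℕ)

/-- restriction to the one-dimensional torus `diag(T,1,…,1)`. -/
noncomputable def phi : Localization.Away (D A m) →+* LaurentPolynomial A :=
  IsLocalization.Away.lift (D A m)
    (g := (Polynomial.toLaurent).comp (tau A m).toRingHom) (by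
      simp only [AlgHom.toRingHom_eq_coe, RingHom.coe_comp, RingHom.coe_coe, Function.comp_apply,
        tau_det, Polynomial.toLaurent_X]
      exact LaurentPolynomial.isUnit_T 1)

theorem phi_algebraMap (f : MvPolynomial (Fin (m + 1) × Fin (m + 1)) A) :
    phi A m (algebraMap _ _ f) = Polynomial.toLaurent (tau A m f) := by
  rw [phi, IsLocalization.Away.lift_eq]
  rfl

/-- the determinant as a unit of the localization -/
noncomputable abbrev detU : (Localization.Away (D A m))ˣ :=
  (IsLocalization.Away.algebraMap_isUnit (S := Localization.Away (D A m)) (D A m)).unit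

theorem zpow_T (t : (LaurentPolynomial A)ˣ) (ht : (t : LaurentPolynomial A) = LaurentPolynomial.T 1)
    (e : ℤ) : ((t ^ e : (LaurentPolynomial A)ˣ) : LaurentPolynomial A) = LaurentPolynomial.T e := by
  have hinv : ((t⁻¹ : (LaurentPolynomial A)ˣ) : LaurentPolynomial A) = LaurentPolynomial.T (-1) := by
    apply Units.inv_eq_of_mul_eq_one_right
    rw [ht, ← LaurentPolynomial.T_add]
    simp
  induction e using Int.induction_on with
  | zero => simp
  | succ i ih =>
    rw [zpow_add_one, Units.val_mul, ih, ht, ← LaurentPolynomial.T_add]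
  | pred i ih =>
    rw [zpow_sub_one, Units.val_mul, ih, hinv, ← LaurentPolynomial.T_add]
    rfl

theorem phi_detU_zpow (e : ℤ) :
    phi A m ((detU A m ^ e : (Localization.Away (D A m))ˣ) : Localization.Away (D A m)) =
      LaurentPolynomial.T e := by
  have h1 : (Units.map (phi A m : Localization.Away (D A m) →* LaurentPolynomial A) (detU A m) : LaurentPolynomial A) =
      LaurentPolynomial.T 1 := by
    rw [Units.coe_map, detU, IsUnit.unit_spec]
    simp only [MonoidHom.coe_coe]
    rw [phi_algebraMap, tau_det, Polynomial.toLaurent_X]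
  have := zpow_T A (Units.map (phi A m : Localization.Away (D A m) →* LaurentPolynomial A) (detU A m)) h1 e
  rw [← map_zpow, Units.coe_map] at this
  exact this

/-- the map `(a, e) ↦ a · det^e` -/
noncomputable def Phi (p : Aˣ × ℤ) : (Localization.Away (D A m))ˣ :=
  Units.map (algebraMap A (Localization.Away (D A m))).toMonoidHom p.1 * detU A m ^ p.2

theorem phi_Phi (p : Aˣ × ℤ) :
    phi A m (Phi A m p : Localization.Away (D A m)) =
      AddMonoidAlgebra.single p.2 (p.1 : A) := by
  rw [Phi, Units.val_mul, map_mul, phi_detU_zpow, Units.coe_map]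
  simp only [RingHom.toMonoidHom_eq_coe, MonoidHom.coe_coe]
  rw [IsScalarTower.algebraMap_apply A (MvPolynomial (Fin (m + 1) × Fin (m + 1)) A)
    (Localization.Away (D A m)), phi_algebraMap, MvPolynomial.algebraMap_eq, tau_C,
    Polynomial.toLaurent_C, LaurentPolynomial.single_eq_C_mul_T]

theorem eq_one_of_phi_eq_one [IsReduced A] (w : (Localization.Away (D A m))ˣ)
    (hw : phi A m (w : Localization.Away (D A m)) = 1) : w = 1 := by
  classical
  obtain ⟨k, f, hf⟩ := IsLocalization.Away.surj (D A m) (w : Localization.Away (D A m))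
  obtain ⟨l, g, hg⟩ := IsLocalization.Away.surj (D A m)
    ((w⁻¹ : (Localization.Away (D A m))ˣ) : Localization.Away (D A m))
  have hfg : algebraMap _ (Localization.Away (D A m)) (f * g) =
      algebraMap _ (Localization.Away (D A m)) (D A m ^ (k + l)) := by
    rw [map_mul, ← hf, ← hg, map_pow, pow_add]
    have : (w : Localization.Away (D A m)) * (w⁻¹ : (Localization.Away (D A m))ˣ) = 1 :=
      Units.mul_inv w
    linear_combination (algebraMap _ (Localization.Away (D A m)) (D A m) ^ k *
      algebraMap _ (Localization.Away (D A m)) (D A m) ^ l) * this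
  obtain ⟨N, hN⟩ := IsLocalization.Away.exists_of_eq (D A m) hfg
  have htf : tau A m f = Polynomial.X ^ k := by
    have := congrArg (phi A m) hf
    rw [map_mul, hw, one_mul, map_pow, phi_algebraMap, phi_algebraMap, tau_det, ← map_pow] at this
    exact (Polynomial.toLaurent_injective this).symm
  have key : f = D A m ^ k := by
    rw [← sub_eq_zero]
    ext d
    rw [coeff_zero]
    apply IsReduced.eq_zero
    rw [nilpotent_iff_mem_prime]
    intro p hp
    have : IsDomain (A ⧸ p) := Ideal.Quotient.isDomain p
    let F := FractionRing (A ⧸ p)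
    let ψ : A →+* F := (algebraMap (A ⧸ p) F).comp (Ideal.Quotient.mk p)
    have hψ : ∀ x, ψ x = 0 → x ∈ p := by
      intro x hx
      simp only [ψ, RingHom.coe_comp, Function.comp_apply] at hx
      rw [← Ideal.Quotient.eq_zero_iff_mem]
      exact (IsFractionRing.injective (A ⧸ p) F) (by rw [hx, map_zero])
    apply hψ
    rw [← MvPolynomial.coeff_map, map_sub, map_pow, map_D]
    have h1 : D F m ^ N * (map ψ f * map ψ g) = D F m ^ N * D F m ^ (k + l) := by
      have := congrArg (MvPolynomial.map ψ) hN
      simpa only [map_mul, map_pow, map_D] using this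
    have h2 : map ψ f * map ψ g = D F m ^ (k + l) :=
      mul_left_cancel₀ (pow_ne_zero _ (Matrix.det_mvPolynomialX_ne_zero _ F)) h1
    obtain ⟨c, j, hc, hfj⟩ := DetIrr.eq_C_mul_det_pow m _ _ _ h2
    have h3 : tau F m (map ψ f) = Polynomial.X ^ k := by
      rw [← tau_map, htf, Polynomial.map_pow, Polynomial.map_X]
    rw [hfj, map_mul, map_pow, tau_det, tau_C] at h3
    have h4 := congrArg (fun q => Polynomial.coeff q j) h3
    simp only [Polynomial.coeff_C_mul_X_pow, Polynomial.coeff_X_pow, if_true] at h4
    have hjk : j = k := by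
      by_contra hne
      rw [if_neg hne] at h4
      exact hc h4
    rw [if_pos hjk] at h4
    rw [hfj, h4, hjk, map_one, one_mul, sub_self, coeff_zero]
  rw [key, map_pow] at hf
  have hu : IsUnit (algebraMap _ (Localization.Away (D A m)) (D A m) ^ k) :=
    (IsLocalization.Away.algebraMap_isUnit (D A m)).pow k
  have : (w : Localization.Away (D A m)) = 1 :=
    hu.mul_right_cancel (by rw [hf, one_mul])
  exact Units.ext this

theorem main [Nontrivial A] (hconn : ∀ e : A, IsIdempotentElem e → e = 0 ∨ e = 1) :
    Function.Bijective (Phi A m) ↔ IsReduced A := by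
  classical
  constructor
  · intro hbij
    refine ⟨fun x hx => ?_⟩
    have hnil : IsNilpotent (C x * X ((0 : Fin (m + 1)), (0 : Fin (m + 1))) :
        MvPolynomial (Fin (m + 1) × Fin (m + 1)) A) := by
      obtain ⟨k, hk⟩ := hx
      exact ⟨k, by rw [mul_pow, ← map_pow, hk, map_zero, zero_mul]⟩
    have hq : IsUnit (1 + C x * X ((0 : Fin (m + 1)), (0 : Fin (m + 1))) :
        MvPolynomial (Fin (m + 1) × Fin (m + 1)) A) := hnil.isUnit_one_add
    obtain ⟨⟨a, e⟩, hΦ⟩ := hbij.2 (hq.map (algebraMap _ (Localization.Away (D A m)))).unit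
    have h1 := congrArg (fun w : (Localization.Away (D A m))ˣ =>
      phi A m (w : Localization.Away (D A m))) hΦ
    simp only [phi_Phi, IsUnit.unit_spec, phi_algebraMap] at h1
    have h2 : tau A m (1 + C x * X ((0 : Fin (m + 1)), (0 : Fin (m + 1)))) =
        1 + Polynomial.C x * Polynomial.X := by
      rw [map_add, map_one, map_mul, tau_C]
      simp [tau]
    rw [h2, map_add, map_one, map_mul, Polynomial.toLaurent_C, Polynomial.toLaurent_X,
      ← LaurentPolynomial.single_eq_C_mul_T, AddMonoidAlgebra.one_def] at h1
    have c0 := congrArg (fun q : LaurentPolynomial A => q.coeff 0) h1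
    have c1 := congrArg (fun q : LaurentPolynomial A => q.coeff 1) h1
    simp only [AddMonoidAlgebra.coeff_add, AddMonoidAlgebra.coeff_single, Finsupp.coe_add,
      Pi.add_apply, Finsupp.single_apply] at c0 c1
    have he : e = 0 := by
      by_contra hne
      rw [if_neg hne] at c0
      simp at c0
    rw [he] at c1
    simpa using c1.symm
  · intro hred
    constructor
    · intro p q hpq
      have h1 := congrArg (fun w : (Localization.Away (D A m))ˣ =>
        phi A m (w : Localization.Away (D A m))) hpq
      simp only [phi_Phi] at h1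
      have h2 := congrArg AddMonoidAlgebra.coeff h1
      rw [AddMonoidAlgebra.coeff_single, AddMonoidAlgebra.coeff_single,
        Finsupp.single_eq_single_iff] at h2
      rcases h2 with ⟨h2, h3⟩ | ⟨h2, _⟩
      · exact Prod.ext (Units.ext h3) h2
      · exact absurd h2 p.1.ne_zero
    · intro w
      have huv : phi A m (w : Localization.Away (D A m)) *
          phi A m ((w⁻¹ : (Localization.Away (D A m))ˣ) : Localization.Away (D A m)) = 1 := by
        rw [← map_mul, Units.mul_inv, map_one]
      obtain ⟨e, a, ha, hu⟩ := LU.exists_single_of_mul_eq_one hconn _ _ huv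
      refine ⟨(ha.unit, e), ?_⟩
      have hΦ : phi A m (Phi A m (ha.unit, e) : Localization.Away (D A m)) =
          phi A m (w : Localization.Away (D A m)) := by
        rw [phi_Phi, hu]
        rfl
      have h1 : w * (Phi A m (ha.unit, e))⁻¹ = 1 := by
        apply eq_one_of_phi_eq_one
        have hm : Units.map (phi A m : Localization.Away (D A m) →* LaurentPolynomial A) (Phi A m (ha.unit, e)) =
            Units.map (phi A m : Localization.Away (D A m) →* LaurentPolynomial A) w := Units.ext hΦ
        have : Units.map (phi A m : Localization.Away (D A m) →* LaurentPolynomial A) (w * (Phi A m (ha.unit, e))⁻¹) = 1 := by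
          rw [map_mul, map_inv, hm, mul_inv_cancel]
        exact congrArg Units.val this
      exact (mul_inv_eq_one.mp h1).symm

end

end Groth.Agent.H7.GLU
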