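import Groth.Agent.Lib.Helper7.QuadGrp.McCoy
import Mathlib.LinearAlgebra.Matrix.MvPolynomial
import Mathlib.RingTheory.Localization.Away.Basic

/-! Units of the coordinate ring of `GL_n` (helper7). -/

set_option autoImplicit false

namespace Groth.Agent.H7.GLUnits

open MvPolynomial

universe u
variable (A : Type u) [CommRing A] (n : ℕ)

theorem det_mem_nonZeroDivisors :
    (Matrix.mvPolynomialX (Fin n) (Fin n) A).det ∈
      nonZeroDivisors (MvPolynomial (Fin n × Fin n) A) := by
  rw [mem_nonZeroDivisors_iff_left]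
  intro G hG
  refine Groth.Agent.H7.McCoy.eq_zero_of_mul_eq_zero _ ?_ G hG
  intro r hr
  have := congrArg (MvPolynomial.eval
    (fun p : Fin n × Fin n => (1 : Matrix (Fin n) (Fin n) A) p.1 p.2)) hr
  rw [map_mul, MvPolynomial.eval_C, Matrix.eval_det_mvPolynomialX, map_zero] at this
  have h1 : (Matrix.of fun i j => (1 : Matrix (Fin n) (Fin n) A) (i, j).1 (i, j).2) = 1 := by
    ext i j; rfl
  simpa [h1] using this

theorem algebraMap_injective :
    Function.Injective (algebraMap (MvPolynomial (Fin n × Fin n) A)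
      (Localization.Away (Matrix.mvPolynomialX (Fin n) (Fin n) A).det)) := by
  apply IsLocalization.injective (M := Submonoid.powers (Matrix.mvPolynomialX (Fin n) (Fin n) A).det)
  exact Submonoid.powers_le.2 (det_mem_nonZeroDivisors A n)

variable {A n}

theorem eq_one_of_map_eq_pow [Nontrivial A] (hn : 0 < n) (c : Aˣ) (m : ℕ)
    (h : Units.map (algebraMap A (Localization.Away
        (Matrix.mvPolynomialX (Fin n) (Fin n) A).det)).toMonoidHom c =
      (IsLocalization.Away.algebraMap_isUnit
        (S := Localization.Away (Matrix.mvPolynomialX (Fin n) (Fin n) A).det)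
        (Matrix.mvPolynomialX (Fin n) (Fin n) A).det).unit ^ m) : m = 0 ∧ c = 1 := by
  have h1 := congrArg Units.val h
  rw [Units.coe_map, Units.val_pow_eq_pow_val, IsUnit.unit_spec] at h1
  have h2 : algebraMap (MvPolynomial (Fin n × Fin n) A) (Localization.Away
      (Matrix.mvPolynomialX (Fin n) (Fin n) A).det) (C (c : A)) =
      algebraMap (MvPolynomial (Fin n × Fin n) A) _
        ((Matrix.mvPolynomialX (Fin n) (Fin n) A).det ^ m) := by
    rw [map_pow, ← h1]
    exact (IsScalarTower.algebraMap_apply A (MvPolynomial (Fin n × Fin n) A) _ (c : A)).symm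
  have h3 := algebraMap_injective A n h2
  have h4 := congrArg (MvPolynomial.eval (fun _ : Fin n × Fin n => (0 : A))) h3
  rw [eval_C, map_pow, Matrix.eval_det_mvPolynomialX] at h4
  have h5 : (Matrix.of fun _ _ : Fin n => (0 : A)) = 0 := rfl
  haveI : Nonempty (Fin n) := ⟨⟨0, hn⟩⟩
  rw [h5, Matrix.det_zero] at h4
  have hm : m = 0 := by
    by_contra hne
    rw [zero_pow hne] at h4
    exact c.ne_zero h4
  refine ⟨hm, ?_⟩
  rw [hm, pow_zero] at h4
  exact Units.ext h4

end Groth.Agent.H7.GLUnits
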