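import Groth.Agent.Lib.Helper7.QCG2
import Groth.Agent.Lib.Lead.HomFilt.Main
import Groth.Agent.Lib.Lead.KT.LocalExt

/-! # Global sections commute with filtered colimits when the final object is covered by
quasi-compact objects with quasi-compact squares; `Hom_O(F, -)` commutes with filtered colimits for
`F` of finite presentation (helper7). -/

set_option autoImplicit false
universe u
open CategoryTheory CategoryTheory.Limits Opposite CategoryTheory.Abelian

namespace Groth.Agent.H7.GSF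

open Groth.Agent.H2.TF Groth.Agent.H2.Cartan Groth.Agent.H7.TFC Groth.Agent.H7.QCG

variable {C : Type u} [SmallCategory C] {J : GrothendieckTopology C}
variable {S : Set (ToposFin.Sh J)}

section Top
variable
  (hSa : ∀ F : ToposFin.Sh J, Epi (terminal.from F) →
    ∃ K ∈ S, Epi (terminal.from K) ∧ Nonempty (K ⟶ F))
  (hSb : ∀ K ∈ S, ToposFin.IsQC (K ⨯ K))

include hSb in
lemma isQC_of_mem {K : ToposFin.Sh J} (hK : K ∈ S) : ToposFin.IsQC K := by
  haveI : IsSplitEpi (prod.fst : K ⨯ K ⟶ K) :=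
    IsSplitEpi.mk' ⟨prod.lift (𝟙 K) (𝟙 K), prod.lift_fst _ _⟩
  exact IsQC.of_epi prod.fst (hSb K hK)

include hSa hSb in
lemma isQC_top : ToposFin.IsQC (⊤_ (ToposFin.Sh J)) := by
  have h0 : Epi (terminal.from (⊤_ (ToposFin.Sh J))) := by
    rw [Subsingleton.elim (terminal.from (⊤_ (ToposFin.Sh J))) (𝟙 _)]
    infer_instance
  obtain ⟨K, hK, hKe, -⟩ := hSa (⊤_ _) h0
  haveI := hKe
  exact IsQC.of_epi (terminal.from K) (isQC_of_mem hSb hK)

include hSa hSb in
theorem exists_factor_top {I : Type u} [SmallCategory I] [IsFiltered I] {D : I ⥤ ToposFin.Sh J}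
    {c : Cocone D} (hJ : JEpi (fun i => c.ι.app i)) (hL : LocEq D c)
    (m : ⊤_ (ToposFin.Sh J) ⟶ c.pt) :
    ∃ (i : I) (a : ⊤_ (ToposFin.Sh J) ⟶ D.obj i), a ≫ c.ι.app i = m := by
  classical
  let P : I → ToposFin.Sh J := fun i => pullback (c.ι.app i) m
  have hP : JEpi (fun i => pullback.snd (c.ι.app i) m) := hJ.pullback_snd m
  have hPe : Epi (terminal.from (∐ P)) := by
    have : Epi (Sigma.desc (fun i => pullback.snd (c.ι.app i) m)) := (epi_sigmaDesc_iff _).2 hP
    rwa [Subsingleton.elim (terminal.from (∐ P))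
      (Sigma.desc (fun i => pullback.snd (c.ι.app i) m))]
  obtain ⟨K, hK, hKe, ⟨k⟩⟩ := hSa (∐ P) hPe
  have hιJ : JEpi (fun i => Sigma.ι P i) := fun Z a b hab => Sigma.hom_ext _ _ hab
  have hQ : JEpi (fun i => pullback.snd (Sigma.ι P i) k) := hιJ.pullback_snd k
  obtain ⟨s₀, hs₀⟩ := IsQC.exists_finset (isQC_of_mem hSb hK) _ hQ
  obtain ⟨i₀, hi₀⟩ := exists_common_target (fun i : s₀ => (i : I))
  choose φ _ using fun k => (hi₀ k).elim (fun f => (⟨f, trivial⟩ : ∃ _ : (k : I) ⟶ i₀, True))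
  let Q : s₀ → ToposFin.Sh J := fun i => pullback (Sigma.ι P i) k
  let e' : (∐ Q) ⟶ K := Sigma.desc (fun i => pullback.snd (Sigma.ι P i) k)
  have he' : Epi e' := (epi_sigmaDesc_iff _).2 hs₀
  let r' : (∐ Q) ⟶ D.obj i₀ := Sigma.desc (fun i : s₀ =>
    pullback.fst (Sigma.ι P i) k ≫ pullback.fst (c.ι.app i) m ≫ D.map (φ i))
  have hr' : r' ≫ c.ι.app i₀ = terminal.from (∐ Q) ≫ m := by
    apply Sigma.hom_ext
    intro i
    have h1 : Sigma.ι Q i ≫ r' = pullback.fst (Sigma.ι P i) k ≫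
        pullback.fst (c.ι.app i) m ≫ D.map (φ i) := by
      simp only [r', colimit.ι_desc, Cofan.mk_ι_app]
    rw [← Category.assoc, h1, Category.assoc, Category.assoc, c.w, pullback.condition,
      ← Category.assoc, ← Category.assoc]
    congr 1
    exact Subsingleton.elim _ _
  have hQe : Epi (terminal.from (∐ Q)) := by
    haveI := hKe
    rw [Subsingleton.elim (terminal.from (∐ Q)) (e' ≫ terminal.from K)]
    exact epi_comp _ _
  obtain ⟨K', hK', hK'e, ⟨k'⟩⟩ := hSa (∐ Q) hQe
  obtain ⟨e, he, r, hr⟩ : ∃ (e : K' ⟶ ⊤_ (ToposFin.Sh J)) (_ : Epi e) (r : K' ⟶ D.obj i₀),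
      r ≫ c.ι.app i₀ = e ≫ m := by
    refine ⟨terminal.from K', hK'e, k' ≫ r', ?_⟩
    rw [Category.assoc, hr', ← Category.assoc]
    congr 1
    exact Subsingleton.elim _ _
  have hKqc : ToposFin.IsQC (pullback e e) := by
    let l : K' ⨯ K' ⟶ pullback e e :=
      pullback.lift (prod.fst : K' ⨯ K' ⟶ K') prod.snd (Subsingleton.elim _ _)
    haveI : IsSplitEpi l := IsSplitEpi.mk' ⟨prod.lift (pullback.fst e e) (pullback.snd e e), by
      apply pullback.hom_ext
      · rw [Category.assoc, pullback.lift_fst, prod.lift_fst, Category.id_comp]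
      · rw [Category.assoc, pullback.lift_snd, prod.lift_snd, Category.id_comp]⟩
    exact IsQC.of_epi l (hSb K' hK')
  have hab : (pullback.fst e e ≫ r) ≫ c.ι.app i₀ = (pullback.snd e e ≫ r) ≫ c.ι.app i₀ := by
    rw [Category.assoc, Category.assoc, hr, ← Category.assoc, ← Category.assoc, pullback.condition]
  obtain ⟨i₁, ψ, hψ⟩ := exists_map_eq_of_isQC' hL hKqc _ _ hab
  obtain ⟨a, ha⟩ := exists_desc_of_epi e (r ≫ D.map ψ) (by simpa only [Category.assoc] using hψ)
  refine ⟨i₁, a, ?_⟩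
  rw [← cancel_epi e, ← Category.assoc, ha, Category.assoc, c.w, hr]

variable {I : Type u} [SmallCategory I] [IsFiltered I] (D : I ⥤ Sheaf J AddCommGrpCat.{u})

include hSa hSb in
theorem hom_surj_top (x : (ZZ (J := J)).obj (⊤_ (ToposFin.Sh J)) ⟶ colimit D) :
    ∃ (i : I) (s : (ZZ (J := J)).obj (⊤_ (ToposFin.Sh J)) ⟶ D.obj i), s ≫ colimit.ι D i = x := by
  obtain ⟨i, a, ha⟩ := exists_factor_top hSa hSb (jepi_gc D) (locEq_gc D)
    ((zadj (J := J)).homEquiv _ (colimit D) x)
  refine ⟨i, ((zadj (J := J)).homEquiv _ (D.obj i)).symm a, ?_⟩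
  apply ((zadj (J := J)).homEquiv _ (colimit D)).injective
  rw [Adjunction.homEquiv_naturality_right, Equiv.apply_symm_apply]
  exact ha

include hSa hSb in
/-- `H^0` commutes with filtered colimits. -/
theorem preservesColimit_coyoneda_const :
    PreservesColimit D (coyoneda.obj (op ((constantSheaf J AddCommGrpCat.{u}).obj
      (AddCommGrpCat.of (ULift.{u} ℤ))))) := by
  apply preservesColimit_of_preserves_colimit_cocone (colimit.isColimit D)
  apply Types.FilteredColimit.isColimitOf'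
  · intro x
    let x' : (constantSheaf J AddCommGrpCat.{u}).obj (AddCommGrpCat.of (ULift.{u} ℤ)) ⟶
      colimit D := x
    obtain ⟨i, s, hs⟩ := hom_surj_top hSa hSb D ((zzTerminalIso (J := J)).hom ≫ x')
    refine ⟨i, (zzTerminalIso (J := J)).inv ≫ s, ?_⟩
    change x' = ((zzTerminalIso (J := J)).inv ≫ s) ≫ colimit.ι D i
    rw [Category.assoc, hs, Iso.inv_hom_id_assoc]
  · intro i x y h
    let x' : (constantSheaf J AddCommGrpCat.{u}).obj (AddCommGrpCat.of (ULift.{u} ℤ)) ⟶
      D.obj i := x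
    let y' : (constantSheaf J AddCommGrpCat.{u}).obj (AddCommGrpCat.of (ULift.{u} ℤ)) ⟶
      D.obj i := y
    have h' : x' ≫ colimit.ι D i = y' ≫ colimit.ι D i := h
    obtain ⟨j, g, hg⟩ := hom_inj (D := D) (isQC_top hSa hSb)
      ((zzTerminalIso (J := J)).hom ≫ (x' - y')) (by
        rw [Category.assoc, Preadditive.sub_comp, h', sub_self, comp_zero])
    refine ⟨j, g, ?_⟩
    change x' ≫ D.map g = y' ≫ D.map g
    rw [Category.assoc, Preadditive.sub_comp] at hg
    have := (cancel_epi (zzTerminalIso (J := J)).hom).1 (hg.trans comp_zero.symm)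
    exact sub_eq_zero.1 this

end Top

section Mod
open Groth.Agent.LD Groth.Agent.LD.HomFilt

attribute [local instance] Groth.Agent.LD.HomFilt.instHSH

theorem S9120_main (O : Sheaf J CommRingCat.{u})
    (S : Set (Sheaf J (Type u)))
    (hSa : ∀ F : Sheaf J (Type u), Epi (terminal.from F) →
      ∃ K ∈ S, Epi (terminal.from K) ∧ Nonempty (K ⟶ F))
    (hSb : ∀ K ∈ S, CohCx.IsQcObject (K ⨯ K))
    (F : ModSite.Mod O) [SheafOfModules.IsFinitePresentation (R := ModSite.ringSh O) F]
    {Λ : Type u} [SmallCategory Λ] [IsFiltered Λ] (D : Λ ⥤ ModSite.Mod O) :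
    PreservesColimit D (coyoneda.obj (op F)) := by
  have hSb' : ∀ K ∈ S, ToposFin.IsQC (K ⨯ K) := fun K hK => isQC_of_isQcObject (hSb K hK)
  have e : coyoneda.obj (op F) ≅ KT.homAb O F ⋙ coyoneda.obj (op (KT.ZC J)) :=
    NatIso.ofComponents (fun N => (KT.homEquivGlobal O F N).toIso) (by
      intro N N' g
      ext ψ
      exact KT.homEquivGlobal_comp O F ψ g)
  haveI : PreservesColimit D (ModSite.sheafHom F) := preservesColimit_sheafHom_of_fp O F D
  haveI : PreservesColimit (D ⋙ ModSite.sheafHom F)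
      (SheafOfModules.toSheaf.{u} (ModSite.ringSh O)) := inferInstance
  haveI : PreservesColimit D (KT.homAb O F) := inferInstance
  haveI : PreservesColimit (D ⋙ KT.homAb O F) (coyoneda.obj (op (KT.ZC J))) :=
    preservesColimit_coyoneda_const hSa hSb' _
  exact preservesColimit_of_natIso D e.symm

end Mod

end Groth.Agent.H7.GSF
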