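import Mathlib
import Groth.Agent.Lib.Helper8.FE.Flat
import Groth.Agent.Lib.Helper5.AlgSp.LocPMore
import Groth.Agent.Lib.Helper5.AlgSp.LocPCalc
import Groth.Agent.Lib.Helper5.AlgSp.LocPAt
import Groth.Agent.Lib.Helper5.AlgSp.Points
import Groth.Prelude.Def_AlgSpMor5

/-!
# Geometric unibranchness descends along flat morphisms of algebraic spaces (S10579)
-/

set_option autoImplicit false
set_option linter.style.haveILetI false
universe u

open AlgebraicGeometry CategoryTheory Limits

namespace Groth.Agent.H7.GUFlatSp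

open IsLocalRing _root_.AlgSp Groth.Agent.H5.AlgSp Groth.Agent.H5.EtSrc Groth.Agent.H8.FE
  Groth.Agent.H8.Hens Groth.Agent.H8.Brnch

theorem isGeomUnibranch_of_flat_local (A B : Type u) [CommRing A] [IsLocalRing A] [CommRing B]
    [IsLocalRing B] [Algebra A B] [IsLocalHom (algebraMap A B)] [Module.Flat A B]
    (hB : CAlg2.IsGeomUnibranch B) : CAlg2.IsGeomUnibranch A := by
  rw [isGeomUnibranch_iff_numGeomBranches] at hB ⊢
  have h1 := Groth.Agent.H8.FE.numGeomBranches_le_of_flat A B
  rw [hB] at h1
  haveI := isStrictHenselization (R := A)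
  have h2 : 1 ≤ Brnch.numGeomBranches A := by
    rw [← card_minimalPrimes_eq_numGeomBranches A (StrictHenselization A),
      ENat.one_le_card_iff_nonempty]
    exact Ideal.nonempty_minimalPrimes (I := (⊥ : Ideal (StrictHenselization A))) bot_ne_top
  exact le_antisymm h1 h2

variable {S : Scheme.{u}}

theorem S10579_main {X Y : Sp S} (hX : IsAlgSpace X) (f : X ⟶ Y) (x : Points X)
    (hf : IsFlatAtMor f x)
    (hXu : ∀ (U : Over S) (a : (yon S).obj U ⟶ X) (v : ↥U.left), RepWith @Etale a →
      Points.ofPt a v = x → CAlg2.IsGeomUnibranch ↥(U.left.presheaf.stalk v))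
    (V : Over S) (b : (yon S).obj V ⟶ Y) (w : ↥V.left) (hb : RepWith @Etale b)
    (hw : Points.ofPt b w = Points.map f x) :
    CAlg2.IsGeomUnibranch ↥(V.left.presheaf.stalk w) := by
  obtain ⟨U, a, h, c, hae, comm, hce, hcs, hca, hch⟩ := exists_chart_diagram hX f hb
  obtain ⟨z, hz1, hz2⟩ := points_pullback_surjective (IsPullback.of_hasPullback f b) x
    (Points.ofScheme V w) (by rw [← hw, Points.ofPt_eq_map_ofScheme])
  obtain ⟨u, hu⟩ := ofPt_surjective_of_repWith hcs z
  have hku : h.left u = w := by
    have h0 : Points.map (pullback.snd f b) (Points.ofPt c u) =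
        Points.ofPt (c ≫ pullback.snd f b) u := rfl
    have h1 : Points.ofPt ((yon S).map h) u = Points.ofScheme V w := by
      rw [← hch, ← h0, hu, hz2]
    have h2 := congrArg (Points.toScheme V) h1
    rwa [Points.toScheme_ofPt, Points.toScheme_ofScheme] at h2
  have hxu : Points.ofPt a u = x := by
    rw [← hca, ← hz1, ← hu]
    rfl
  subst hku
  have hfl : (h.left.stalkMap u).hom.Flat := hf a b h u hae hb comm hxu
  have hGU := hXu U a u hae hxu
  algebraize [(h.left.stalkMap u).hom]
  haveI : IsLocalHom (algebraMap (V.left.presheaf.stalk (h.left u)) (U.left.presheaf.stalk u)) :=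
    inferInstanceAs (IsLocalHom (h.left.stalkMap u).hom)
  exact isGeomUnibranch_of_flat_local _ _ hGU

end Groth.Agent.H7.GUFlatSp
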