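import Mathlib
import Groth.Prelude.Def_Curv2

set_option autoImplicit false
universe u
open CategoryTheory CategoryTheory.Limits AlgebraicGeometry

namespace Groth.Agent.H7.GalDesc


/-- open immersions have the of-postcomp property w.r.t. unramified morphisms -/
instance : MorphismProperty.HasOfPostcompProperty
    @IsOpenImmersion (@LocallyOfFiniteType ⊓ @FormallyUnramified) := by
  rw [MorphismProperty.hasOfPostcompProperty_iff_le_diagonal]
  intro X Y f ⟨hft, hfu⟩
  exact inferInstanceAs <| IsOpenImmersion (pullback.diagonal f)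

lemma isOpenImmersion_of_section {V W : Scheme.{u}} (q : W ⟶ V) (s : V ⟶ W)
    [LocallyOfFiniteType q] [FormallyUnramified q] (h : s ≫ q = 𝟙 V) : IsOpenImmersion s := by
  have : IsOpenImmersion (s ≫ q) := by rw [h]; infer_instance
  exact MorphismProperty.of_postcomp (W := @IsOpenImmersion)
    (W' := @LocallyOfFiniteType ⊓ @FormallyUnramified) s q ⟨‹_›, ‹_›⟩ this

variable (k : Type u) [Field k] (K : Type u) [Field K] [Algebra k K]

/-- `Spec K ⟶ Spec k` -/
noncomputable abbrev q₀ : Spec (CommRingCat.of K) ⟶ Spec (CommRingCat.of k) :=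
  Spec.map (CommRingCat.ofHom (algebraMap k K))

instance [FiniteDimensional k K] : IsFinite (q₀ k K) := by
  rw [IsFinite.SpecMap_iff]
  exact RingHom.finite_algebraMap.2 inferInstance

instance [FiniteDimensional k K] [Algebra.IsSeparable k K] : FormallyUnramified (q₀ k K) := by
  rw [HasRingHomProperty.Spec_iff (P := @FormallyUnramified)]
  rw [CommRingCat.hom_ofHom, RingHom.formallyUnramified_algebraMap]
  exact Algebra.FormallyUnramified.of_isSeparable k K

instance : Flat (q₀ k K) := by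
  rw [Flat.SpecMap_iff, CommRingCat.hom_ofHom, RingHom.flat_algebraMap_iff]
  infer_instance

instance : Surjective (q₀ k K) := by
  constructor
  intro x
  obtain ⟨y⟩ : Nonempty (Spec (CommRingCat.of K)) := inferInstance
  exact ⟨y, Subsingleton.elim _ _⟩


variable (X : Scheme.{u}) [X.Over (Spec (CommRingCat.of k))]

@[reassoc]
theorem galAct_fst (σ : K ≃ₐ[k] K) :
    Curv2.galAct k X K σ ≫ Curv2.bcFst k X K = Curv2.bcFst k X K := by
  rw [Curv2.galAct, pullback.lift_fst, Category.comp_id]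

@[reassoc]
theorem galAct_snd (σ : K ≃ₐ[k] K) :
    Curv2.galAct k X K σ ≫ Curv2.bcSnd k X K =
      Curv2.bcSnd k X K ≫ Spec.map (CommRingCat.ofHom (σ : K →ₐ[k] K).toRingHom) := by
  rw [Curv2.galAct, pullback.lift_snd]

/-- the section `(𝟙, σ)` of the kernel pair of `X_K ⟶ X`. -/
noncomputable def j (σ : K ≃ₐ[k] K) :
    Curv2.bc k X K ⟶ pullback (Curv2.bcFst k X K) (Curv2.bcFst k X K) :=
  pullback.lift (𝟙 _) (Curv2.galAct k X K σ) (by rw [Category.id_comp, galAct_fst])

@[reassoc (attr := simp)]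
lemma j_fst (σ : K ≃ₐ[k] K) : j k K X σ ≫ pullback.fst _ _ = 𝟙 _ := pullback.lift_fst _ _ _

@[reassoc (attr := simp)]
lemma j_snd (σ : K ≃ₐ[k] K) : j k K X σ ≫ pullback.snd _ _ = Curv2.galAct k X K σ :=
  pullback.lift_snd _ _ _

instance [FiniteDimensional k K] [Algebra.IsSeparable k K] (σ : K ≃ₐ[k] K) :
    IsOpenImmersion (j k K X σ) := by
  have h1 : FormallyUnramified (Curv2.bcFst k X K) :=
    MorphismProperty.pullback_fst (P := @FormallyUnramified) _ _ (inferInstanceAs (FormallyUnramified (q₀ k K)))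
  have h2 : LocallyOfFiniteType (Curv2.bcFst k X K) :=
    MorphismProperty.pullback_fst (P := @LocallyOfFiniteType) _ _ (inferInstanceAs (LocallyOfFiniteType (q₀ k K)))
  have h3 : FormallyUnramified (pullback.fst (Curv2.bcFst k X K) (Curv2.bcFst k X K)) :=
    MorphismProperty.pullback_fst (P := @FormallyUnramified) _ _ h1
  have h4 : LocallyOfFiniteType (pullback.fst (Curv2.bcFst k X K) (Curv2.bcFst k X K)) :=
    MorphismProperty.pullback_fst (P := @LocallyOfFiniteType) _ _ h2
  exact isOpenImmersion_of_section (pullback.fst (Curv2.bcFst k X K) (Curv2.bcFst k X K)) _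
    (j_fst k K X σ)

/-- the sections `(𝟙, σ)` cover the kernel pair (argument as in helper1's `exists_galAct_eq`). -/
theorem exists_mem_range_j [Normal k K]
    (w : ↥(pullback (Curv2.bcFst k X K) (Curv2.bcFst k X K))) :
    ∃ (σ : K ≃ₐ[k] K) (y : ↥(Curv2.bc k X K)), (j k K X σ) y = w := by
  let L := (pullback (Curv2.bcFst k X K) (Curv2.bcFst k X K)).residueField w
  let ι : Spec L ⟶ pullback (Curv2.bcFst k X K) (Curv2.bcFst k X K) :=
    (pullback (Curv2.bcFst k X K) (Curv2.bcFst k X K)).fromSpecResidueField w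
  let a₁ : Spec L ⟶ Curv2.bc k X K := ι ≫ pullback.fst _ _
  let a₂ : Spec L ⟶ Curv2.bc k X K := ι ≫ pullback.snd _ _
  have hfst : a₁ ≫ Curv2.bcFst k X K = a₂ ≫ Curv2.bcFst k X K := by
    simp only [a₁, a₂, Category.assoc]
    rw [pullback.condition]
  obtain ⟨ψ₁, hψ₁⟩ := Spec.map_surjective (a₁ ≫ Curv2.bcSnd k X K)
  obtain ⟨ψ₂, hψ₂⟩ := Spec.map_surjective (a₂ ≫ Curv2.bcSnd k X K)
  have hcompat : CommRingCat.ofHom (algebraMap k K) ≫ ψ₁ =
      CommRingCat.ofHom (algebraMap k K) ≫ ψ₂ := by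
    apply Spec.map_injective
    rw [Spec.map_comp, Spec.map_comp, hψ₁, hψ₂]
    have c : Curv2.bcSnd k X K ≫ Spec.map (CommRingCat.ofHom (algebraMap k K)) =
        Curv2.bcFst k X K ≫ (X ↘ Spec (CommRingCat.of k)) := pullback.condition.symm
    rw [Category.assoc, Category.assoc, c, ← Category.assoc, ← Category.assoc, hfst]
    rw [Category.assoc, ← c]
    simp only [a₂, Category.assoc]
  letI : Algebra K L := ψ₁.hom.toAlgebra
  letI : Algebra k L := (ψ₁.hom.comp (algebraMap k K)).toAlgebra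
  haveI : IsScalarTower k K L := IsScalarTower.of_algebraMap_eq fun _ => rfl
  let φ₂ : K →ₐ[k] L :=
    { toRingHom := ψ₂.hom
      commutes' := fun c => (congr($(hcompat).hom c)).symm }
  let σ : K ≃ₐ[k] K := Normal.algHomEquivAut k L K φ₂
  have hσ : φ₂ = (IsScalarTower.toAlgHom k K L).comp σ.toAlgHom :=
    ((Normal.algHomEquivAut k L K).left_inv φ₂).symm
  have hσ' : ψ₂ = CommRingCat.ofHom (σ : K →ₐ[k] K).toRingHom ≫ ψ₁ := by
    ext c
    exact congr($(hσ) c)
  have hkey : a₁ ≫ Curv2.galAct k X K σ = a₂ := by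
    apply pullback.hom_ext
    · rw [Category.assoc, galAct_fst]
      exact hfst
    · rw [Category.assoc, galAct_snd, ← Category.assoc, ← hψ₁, ← hψ₂, ← Spec.map_comp, hσ']
  have hι : ι = a₁ ≫ j k K X σ := by
    apply pullback.hom_ext
    · rw [Category.assoc, j_fst, Category.comp_id]
    · rw [Category.assoc, j_snd, hkey]
  let pt : ↥(Spec L) := IsLocalRing.closedPoint L
  have hpt : ι pt = w :=
    (pullback (Curv2.bcFst k X K) (Curv2.bcFst k X K)).fromSpecResidueField_apply w pt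
  refine ⟨σ, a₁ pt, ?_⟩
  rw [← hpt, hι]
  rfl


theorem main [FiniteDimensional k K] [IsGalois k K]
    (Y : Scheme.{u}) [Y.Over (Spec (CommRingCat.of k))]
    (g : Curv2.bc k X K ⟶ Curv2.bc k Y K) (hg : g ≫ Curv2.bcSnd k Y K = Curv2.bcSnd k X K) :
    (∃ f : X ⟶ Y, f ≫ (Y ↘ Spec (CommRingCat.of k)) = X ↘ Spec (CommRingCat.of k) ∧
        g ≫ Curv2.bcFst k Y K = Curv2.bcFst k X K ≫ f) ↔
      ∀ σ : K ≃ₐ[k] K, Curv2.galAct k X K σ ≫ g = g ≫ Curv2.galAct k Y K σ := by
  constructor
  · rintro ⟨f, hf1, hf2⟩ σ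
    apply pullback.hom_ext
    · rw [Category.assoc, Category.assoc, galAct_fst]
      show _ ≫ g ≫ Curv2.bcFst k Y K = g ≫ Curv2.bcFst k Y K
      rw [hf2, galAct_fst_assoc]
    · rw [Category.assoc, Category.assoc, galAct_snd]
      show _ ≫ g ≫ Curv2.bcSnd k Y K = g ≫ Curv2.bcSnd k Y K ≫ _
      rw [hg, galAct_snd, reassoc_of% hg]
  · intro hσ
    have hqc : QuasiCompact (Curv2.bcFst k X K) :=
      MorphismProperty.pullback_fst (P := @QuasiCompact) _ _ (inferInstanceAs (QuasiCompact (q₀ k K)))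
    have hsurj : Surjective (Curv2.bcFst k X K) :=
      MorphismProperty.pullback_fst (P := @Surjective) _ _ (inferInstanceAs (Surjective (q₀ k K)))
    have hflat : Flat (Curv2.bcFst k X K) :=
      MorphismProperty.pullback_fst (P := @Flat) _ _ (inferInstanceAs (Flat (q₀ k K)))
    have heff : EffectiveEpi (Curv2.bcFst k X K) := inferInstance
    obtain ⟨h, hh⟩ : ∃ h : Curv2.bc k X K ⟶ Y, h = g ≫ Curv2.bcFst k Y K := ⟨_, rfl⟩
    have hj : ∀ σ : K ≃ₐ[k] K, Curv2.galAct k X K σ ≫ h = h := by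
      intro σ
      rw [hh, reassoc_of% (hσ σ), galAct_fst]
    let 𝒰 : (pullback (Curv2.bcFst k X K) (Curv2.bcFst k X K)).OpenCover :=
      Scheme.Cover.mkOfCovers (K ≃ₐ[k] K) (fun _ => Curv2.bc k X K) (j k K X)
        (fun w => exists_mem_range_j k K X w) (fun σ => inferInstance)
    have hcoh : pullback.fst (Curv2.bcFst k X K) (Curv2.bcFst k X K) ≫ h =
        pullback.snd (Curv2.bcFst k X K) (Curv2.bcFst k X K) ≫ h := by
      refine 𝒰.hom_ext _ _ (fun σ => ?_)
      show j k K X σ ≫ _ ≫ h = j k K X σ ≫ _ ≫ h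
      rw [j_fst_assoc, j_snd_assoc, hj]
    have hker : ∀ {Z : Scheme.{u}} (a b : Z ⟶ Curv2.bc k X K),
        a ≫ Curv2.bcFst k X K = b ≫ Curv2.bcFst k X K → a ≫ h = b ≫ h := by
      intro Z a b hab
      have e1 : a = pullback.lift a b hab ≫ pullback.fst _ _ := (pullback.lift_fst _ _ _).symm
      have e2 : b = pullback.lift a b hab ≫ pullback.snd _ _ := (pullback.lift_snd _ _ _).symm
      rw [e1, Category.assoc, hcoh, ← Category.assoc, ← e2]
    refine ⟨EffectiveEpi.desc (Curv2.bcFst k X K) h hker, ?_, ?_⟩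
    · have hepi : Epi (Curv2.bcFst k X K) := inferInstance
      rw [← cancel_epi (Curv2.bcFst k X K), EffectiveEpi.fac_assoc, hh, Category.assoc]
      have c1 : Curv2.bcFst k Y K ≫ (Y ↘ Spec (CommRingCat.of k)) =
          Curv2.bcSnd k Y K ≫ q₀ k K := pullback.condition
      have c2 : Curv2.bcFst k X K ≫ (X ↘ Spec (CommRingCat.of k)) =
          Curv2.bcSnd k X K ≫ q₀ k K := pullback.condition
      rw [c1, c2, reassoc_of% hg]
    · rw [EffectiveEpi.fac, hh]

end Groth.Agent.H7.GalDesc
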