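import Groth.Agent.Lib.Helper7.GeomRedSp1
import Groth.Agent.Lib.Helper1.GalActSch
import Mathlib

/-!
# Galois action on the points of the base change of an algebraic space over a field (S10470)
-/

set_option autoImplicit false
universe u

open AlgebraicGeometry CategoryTheory Limits

namespace Groth.Agent.H7.GalSp

open _root_.AlgSp Groth.Agent.H5.AlgSp Groth.Agent.H7.GeomConnSp Groth.Agent.H7.GeomRedSp

variable {k : Type u} [Field k] (K : Type u) [Field K] [Algebra k K]

/-- the automorphism of `Spec K` over `Spec k` given by `σ`. -/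
noncomputable abbrev galPt (σ : K ≃ₐ[k] K) : pt k K ⟶ pt k K :=
  Over.homMk (Spec.map (CommRingCat.ofHom (σ : K →ₐ[k] K).toRingHom)) (by
    change Spec.map _ ≫ Spec.map (CommRingCat.ofHom (algebraMap k K)) =
      Spec.map (CommRingCat.ofHom (algebraMap k K))
    rw [← Spec.map_comp, ← CommRingCat.ofHom_comp, AlgHom.toRingHom_eq_coe,
      AlgHom.comp_algebraMap])

/-- the automorphism of `U_K` over `Spec k` given by `σ`. -/
noncomputable def galOver (U : Over (Spec (CommRingCat.of k))) (σ : K ≃ₐ[k] K) :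
    bcOver K U ⟶ bcOver K U :=
  letI : U.left.Over (Spec (CommRingCat.of k)) := ⟨U.hom⟩
  Over.homMk (Curv2.galAct k U.left K σ) (by
    change Curv2.galAct k U.left K σ ≫ (pullback.fst _ _ ≫ U.hom) = pullback.fst _ _ ≫ U.hom
    rw [← Category.assoc]
    congr 1
    exact Groth.Agent.H1.GalActSch.galAct_fst k U.left K σ)

theorem galOver_pr1 (U : Over (Spec (CommRingCat.of k))) (σ : K ≃ₐ[k] K) :
    galOver K U σ ≫ bcPr1 K U = bcPr1 K U := by
  letI : U.left.Over (Spec (CommRingCat.of k)) := ⟨U.hom⟩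
  apply Over.OverMorphism.ext
  exact Groth.Agent.H1.GalActSch.galAct_fst k U.left K σ

theorem galOver_pr2 (U : Over (Spec (CommRingCat.of k))) (σ : K ≃ₐ[k] K) :
    galOver K U σ ≫ bcPr2 K U = bcPr2 K U ≫ galPt K σ := by
  letI : U.left.Over (Spec (CommRingCat.of k)) := ⟨U.hom⟩
  apply Over.OverMorphism.ext
  exact Groth.Agent.H1.GalActSch.galAct_snd k U.left K σ

theorem bcChart_gal {X : Sp (Spec (CommRingCat.of k))} {U : Over (Spec (CommRingCat.of k))}
    (a : (yon _).obj U ⟶ X) (σ : K ≃ₐ[k] K) :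
    bcChart K a ≫ prod.map (𝟙 X) ((yon (Spec (CommRingCat.of k))).map (galPt K σ)) =
      (yon _).map (galOver K U σ) ≫ bcChart K a := by
  apply Limits.prod.hom_ext
  · rw [Category.assoc, prod.map_fst, Category.comp_id, Category.assoc, bcChart_fst,
      ← Category.assoc, ← Functor.map_comp, galOver_pr1]
  · rw [Category.assoc, prod.map_snd, ← Category.assoc, bcChart_snd, Category.assoc, bcChart_snd,
      ← Functor.map_comp, ← Functor.map_comp, galOver_pr2]


/-- **Transitivity**: for a normal extension `K/k`, two points of `X_K` over the same point of `X`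
are conjugate. -/
theorem exists_gal_eq [Normal k K] {X : Sp (Spec (CommRingCat.of k))} (hX : IsAlgSpace X)
    (t z : Points (X ⨯ (yon (Spec (CommRingCat.of k))).obj (pt k K)))
    (h : Points.map prod.fst t = Points.map prod.fst z) :
    ∃ σ : K ≃ₐ[k] K, Points.map (prod.map (𝟙 X)
      ((yon (Spec (CommRingCat.of k))).map (galPt K σ))) t = z := by
  obtain ⟨U, a, hae, has⟩ := hX.atlas
  obtain ⟨u, hu⟩ := ofPt_surjective_of_repWith has (Points.map prod.fst t)
  obtain ⟨t', ht'1, ht'2⟩ := exists_point_bcChart K a u t hu.symm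
  obtain ⟨z', hz'1, hz'2⟩ := exists_point_bcChart K a u z (h ▸ hu.symm)
  letI : U.left.Over (Spec (CommRingCat.of k)) := ⟨U.hom⟩
  obtain ⟨σ, hσ⟩ := Groth.Agent.H1.GalActSch.exists_galAct_eq k U.left K t' z'
    (ht'1.trans hz'1.symm)
  refine ⟨σ, ?_⟩
  rw [← ht'2, Points.map_ofPt, bcChart_gal, ofPt_yon_map_comp, ← hz'2]
  congr 1

theorem isOpenMap_fst {X : Sp (Spec (CommRingCat.of k))} (hX : IsAlgSpace X) :
    IsOpenMap (Points.map (prod.fst : X ⨯ (yon (Spec (CommRingCat.of k))).obj (pt k K) ⟶ X)) := by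
  have sq := isPullback_prod X ((yon (Spec (CommRingCat.of k))).obj (pt k K))
  have he : (hT k).from ((yon (Spec (CommRingCat.of k))).obj (pt k K)) =
      (yon (Spec (CommRingCat.of k))).map (gT k K) := (hT k).hom_ext _ _
  rw [he] at sq
  exact Groth.Agent.H8.AlgSp.isOpenMor_of_isUnivOpenMor hX
    (Groth.Agent.H8.AlgSp.flat_univOpen_of_isPullback_field (IsAlgSpace.yon_obj _) hX sq.flip).2

theorem S10470_main (k : Type u) [Field k] (X : AlgSp.Space (Spec (CommRingCat.of k))) (K : Type u)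
    [Field K] [Algebra k K] [IsGalois k K]
    (T : Set (AlgSp.Points (X.obj ⨯ (AlgSp.yon (Spec (CommRingCat.of k))).obj (Over.mk (Spec.map (CommRingCat.ofHom (algebraMap k K))))))) (hT : IsClosed T)
    (hσ : ∀ (σ : K ≃ₐ[k] K) (g : (Over.mk (Spec.map (CommRingCat.ofHom (algebraMap k K))) : Over (Spec (CommRingCat.of k))) ⟶ Over.mk (Spec.map (CommRingCat.ofHom (algebraMap k K)))),
      g.left = Spec.map (CommRingCat.ofHom (σ : K ≃ₐ[k] K).toRingHom) →
        AlgSp.Points.map (Limits.prod.map (𝟙 X.obj) ((AlgSp.yon (Spec (CommRingCat.of k))).map g)) '' T = T) :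
    ∃ T₀ : Set (AlgSp.Points X.obj), IsClosed T₀ ∧
      AlgSp.Points.map (Limits.prod.fst : (X.obj ⨯ (AlgSp.yon (Spec (CommRingCat.of k))).obj (Over.mk (Spec.map (CommRingCat.ofHom (algebraMap k K))))) ⟶ X.obj) ⁻¹' T₀ = T := by
  have hsat : Points.map (prod.fst : X.obj ⨯ (yon (Spec (CommRingCat.of k))).obj (pt k K) ⟶ X.obj) ⁻¹'
      (Points.map prod.fst '' T) = T := by
    apply Set.Subset.antisymm
    · rintro z ⟨t, ht, htz⟩
      obtain ⟨σ, hσz⟩ := exists_gal_eq K X.property t z htz
      rw [← hσ σ (galPt K σ) rfl]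
      exact ⟨t, ht, hσz⟩
    · exact Set.subset_preimage_image _ _
  refine ⟨Points.map prod.fst '' T, ?_, hsat⟩
  have hq := (isOpenMap_fst K X.property).isQuotientMap (Points.continuous_map _)
    (surjective_fst X.obj K)
  rw [← hq.isClosed_preimage, hsat]
  exact hT

end Groth.Agent.H7.GalSp
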