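import Mathlib
import Groth.Prelude.Def_GrLC

/-! Torsion with respect to the irrelevant ideal of a ℤ-graded ring (helper7). -/

set_option autoImplicit false

universe u

namespace Groth.Agent.H7.GamTFAE

open DirectSum

variable {R A : Type u} [CommRing R] [CommRing A] [Algebra R A]
  (𝒜 : ℤ → Submodule R A) [GradedAlgebra 𝒜]

theorem pow_le_graded (d : ℤ) (n : ℕ) : (𝒜 d) ^ n ≤ 𝒜 (n • d) := by
  induction n with
  | zero =>
    rw [pow_zero, zero_smul, Submodule.one_le]
    exact SetLike.GradedOne.one_mem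
  | succ n ih =>
    rw [pow_succ, Submodule.mul_le]
    intro a ha b hb
    have := SetLike.mul_mem_graded (ih ha) hb
    rwa [succ_nsmul]

variable {p : ℕ} (f : Fin p → A) (deg : Fin p → ℤ) (hdeg : ∀ i, 0 < deg i)
  (hf : ∀ i, f i ∈ 𝒜 (deg i))
  (hgen : Ideal.span {a : A | ∃ n : ℤ, 0 < n ∧ a ∈ 𝒜 n} = Ideal.span (Set.range f))

include hdeg hf hgen in
/-- high degree pieces lie in powers of the irrelevant ideal. -/
theorem exists_piece_le_pow (N : ℕ) :
    ∃ s : ℤ, ∀ n : ℤ, s ≤ n → ∀ a ∈ 𝒜 n, a ∈ Ideal.span (Set.range f) ^ N := by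
  classical
  induction N with
  | zero =>
    exact ⟨0, fun n _ a _ => by rw [pow_zero, Ideal.one_eq_top]; trivial⟩
  | succ N ih =>
    obtain ⟨s, hs⟩ := ih
    refine ⟨max (s + ∑ i, deg i) 1, fun n hn a ha => ?_⟩
    have hn1 : 0 < n := lt_of_lt_of_le one_pos ((le_max_right _ _).trans hn)
    have haI : a ∈ Ideal.span (Set.range f) := by
      rw [← hgen]
      exact Ideal.subset_span ⟨n, hn1, ha⟩
    rw [Ideal.mem_span_range_iff_exists_fun] at haI
    obtain ⟨c, hc⟩ := haI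
    have h1 : a = ∑ i, ((decompose 𝒜 (c i) (n - deg i) : 𝒜 (n - deg i)) : A) * f i := by
      have h2 : (decompose 𝒜 a n : A) = a := by
        rw [decompose_of_mem_same 𝒜 ha]
      rw [← h2, ← hc, decompose_sum, DFinsupp.finsetSum_apply, AddSubmonoidClass.coe_finsetSum]
      refine Finset.sum_congr rfl (fun i _ => ?_)
      have h3 : n = (n - deg i) + deg i := by ring
      conv_lhs => rw [h3]
      exact coe_decompose_mul_add_of_right_mem 𝒜 (hf i)
    rw [h1]
    refine Ideal.sum_mem _ (fun i _ => ?_)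
    rw [pow_succ]
    refine Ideal.mul_mem_mul ?_ (Ideal.subset_span ⟨i, rfl⟩)
    apply hs (n - deg i) _ _ (SetLike.coe_mem _)
    have h4 : deg i ≤ ∑ j, deg j :=
      Finset.single_le_sum (f := deg) (fun j _ => (hdeg j).le) (Finset.mem_univ i)
    have h5 := (le_max_left _ _).trans hn
    linarith

variable (d : ℤ) (hd : 0 < d) (hdvd : ∀ i, deg i ∣ d)
  {M : Type u} [AddCommGroup M] [Module A M] (x : M)

include hdeg hf hgen hd hdvd in
theorem main :
    [x ∈ GrLC.gam (Ideal.span (Set.range f)) M,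
     ∃ n₀ : ℕ, ∀ n : ℕ, n₀ ≤ n → ∀ r ∈ (𝒜 d) ^ n, r • x = 0,
     ∃ s : ℤ, ∀ n : ℤ, s ≤ n → ∀ r ∈ 𝒜 n, r • x = 0].TFAE := by
  tfae_have 1 → 3 := by
    rintro ⟨N, hN⟩
    obtain ⟨s, hs⟩ := exists_piece_le_pow 𝒜 f deg hdeg hf hgen N
    exact ⟨s, fun n hn r hr => hN r (hs n hn r hr)⟩
  tfae_have 3 → 2 := by
    rintro ⟨s, hs⟩
    refine ⟨s.toNat, fun n hn r hr => ?_⟩
    have h1 := pow_le_graded 𝒜 d n hr
    refine hs (n • d) ?_ r h1
    rw [nsmul_eq_mul]
    have h2 : s ≤ (n : ℤ) := (Int.self_le_toNat s).trans (by exact_mod_cast hn)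
    have h3 : (n : ℤ) ≤ n * d := by
      have : (0 : ℤ) ≤ n := Int.natCast_nonneg n
      nlinarith
    exact h2.trans h3
  tfae_have 2 → 1 := by
    rintro ⟨n₀, hn₀⟩
    set J : Ideal A := LinearMap.ker (LinearMap.toSpanSingleton A M x) with hJ
    have hJmem : ∀ r : A, r ∈ J ↔ r • x = 0 := fun r => by
      rw [hJ, LinearMap.mem_ker, LinearMap.toSpanSingleton_apply]
    have hrad : Ideal.span (Set.range f) ≤ J.radical := by
      rw [Ideal.span_le]
      rintro _ ⟨i, rfl⟩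
      obtain ⟨e, he⟩ := hdvd i
      have he0 : 0 < e := by
        by_contra hneg
        push Not at hneg
        have : deg i * e ≤ 0 := mul_nonpos_of_nonneg_of_nonpos (hdeg i).le hneg
        omega
      obtain ⟨e', rfl⟩ := Int.eq_ofNat_of_zero_le he0.le
      have h1 : f i ^ e' ∈ 𝒜 d := by
        have := SetLike.pow_mem_graded e' (hf i)
        rwa [nsmul_eq_mul, mul_comm, ← he] at this
      refine ⟨e' * n₀, ?_⟩
      rw [hJmem, pow_mul]
      exact hn₀ n₀ le_rfl _ (Submodule.pow_mem_pow _ h1 n₀)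
    have hfg : (Ideal.span (Set.range f)).FG := Submodule.fg_span (Set.finite_range f)
    obtain ⟨N, hN⟩ := Ideal.exists_pow_le_of_le_radical_of_fg hrad hfg
    exact ⟨N, fun r hr => (hJmem r).1 (hN hr)⟩
  tfae_finish

end Groth.Agent.H7.GamTFAE
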