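import Mathlib

open Topology

namespace Groth.Agent.H7.GenComp

variable {X Y : Type*} [TopologicalSpace X] [TopologicalSpace Y] [QuasiSober X] [QuasiSober Y]
  [T0Space Y]

theorem main (f : X → Y) (hf : Continuous f) :
    GeneralizingMap f ↔
      ∀ Y' : Set Y, IsClosed Y' → IsIrreducible Y' →
        ∀ Z ∈ irreducibleComponents ↥(f ⁻¹' Y'), closure (f '' (Subtype.val '' Z)) = Y' := by
  constructor
  · intro hgen Y' hcl hirr Z hZ
    have hWcl : IsClosed (f ⁻¹' Y') := hcl.preimage hf
    haveI : QuasiSober ↥(f ⁻¹' Y') := hWcl.isClosedEmbedding_subtypeVal.quasiSober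
    obtain ⟨η, hη⟩ := QuasiSober.sober hirr hcl
    obtain ⟨ξ, hξ⟩ := QuasiSober.sober hZ.1 (isClosed_of_mem_irreducibleComponents Z hZ)
    apply subset_antisymm
    · apply closure_minimal _ hcl
      rintro _ ⟨_, ⟨z, _, rfl⟩, rfl⟩
      exact z.2
    · have h1 : η ⤳ f ξ.1 := (isGenericPoint_iff_specializes.mp hη _).mpr ξ.2
      obtain ⟨x', hx', hfx'⟩ := hgen h1
      have hx'W : x' ∈ f ⁻¹' Y' := by
        change f x' ∈ Y'
        rw [hfx']
        exact (isGenericPoint_iff_specializes.mp hη _).mp specializes_rfl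
      let ξ' : ↥(f ⁻¹' Y') := ⟨x', hx'W⟩
      have hsp : ξ' ⤳ ξ := (subtype_specializes_iff ξ' ξ).mpr hx'
      have hirr' : IsIrreducible (closure ({ξ'} : Set ↥(f ⁻¹' Y'))) :=
        isIrreducible_singleton.closure
      have hsub : Z ≤ closure ({ξ'} : Set ↥(f ⁻¹' Y')) := by
        rw [← hξ.def]
        apply closure_minimal _ isClosed_closure
        rintro _ rfl
        exact hsp.mem_closure
      have hξ'Z : ξ' ∈ Z := hZ.2 hirr' hsub (subset_closure rfl)
      have hmono : closure ({η} : Set Y) ⊆ closure (f '' (Subtype.val '' Z)) := by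
        apply closure_mono
        rintro _ rfl
        exact ⟨x', ⟨ξ', hξ'Z, rfl⟩, hfx'⟩
      exact hη.def.symm.subset.trans hmono
  · intro H x y hy
    let Y' : Set Y := closure {y}
    have hcl : IsClosed Y' := isClosed_closure
    have hirr : IsIrreducible Y' := isIrreducible_singleton.closure
    have hWcl : IsClosed (f ⁻¹' Y') := hcl.preimage hf
    haveI : QuasiSober ↥(f ⁻¹' Y') := hWcl.isClosedEmbedding_subtypeVal.quasiSober
    have hxW : x ∈ f ⁻¹' Y' := hy.mem_closure
    let x₀ : ↥(f ⁻¹' Y') := ⟨x, hxW⟩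
    let Z := irreducibleComponent x₀
    have hZ : Z ∈ irreducibleComponents ↥(f ⁻¹' Y') := irreducibleComponent_mem_irreducibleComponents x₀
    obtain ⟨ξ, hξ⟩ := QuasiSober.sober hZ.1 (isClosed_of_mem_irreducibleComponents Z hZ)
    have hcl2 := H Y' hcl hirr Z hZ
    have h1 : f '' (Subtype.val '' Z) ⊆ closure {f ξ.1} := by
      rintro _ ⟨_, ⟨z, hz, rfl⟩, rfl⟩
      have : ξ ⤳ z := (isGenericPoint_iff_specializes.mp hξ z).mpr hz
      have : ξ.1 ⤳ z.1 := (subtype_specializes_iff ξ z).mp this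
      exact (this.map hf).mem_closure
    have h2 : y ∈ closure {f ξ.1} := by
      have : Y' ⊆ closure {f ξ.1} :=
        hcl2.symm.subset.trans (closure_minimal h1 isClosed_closure)
      exact this (subset_closure rfl)
    have h3 : f ξ.1 ⤳ y := specializes_iff_mem_closure.mpr h2
    have h4 : y ⤳ f ξ.1 := specializes_iff_mem_closure.mpr ξ.2
    have h5 : f ξ.1 = y := (h3.antisymm h4).eq
    refine ⟨ξ.1, ?_, h5⟩
    have : ξ ⤳ x₀ := (isGenericPoint_iff_specializes.mp hξ x₀).mpr mem_irreducibleComponent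
    exact (subtype_specializes_iff ξ x₀).mp this

end Groth.Agent.H7.GenComp
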