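import Groth.Agent.Lib.Helper7.QFib7
import Groth.Agent.Lib.Helper1.EquidimQF
import Groth.Agent.Lib.Helper1.JacobsonTrdeg
import Groth.Agent.Lib.Helper5.AlgSp.DecentT0
import Groth.Agent.Lib.Helper3.AlgSpMor.LocFinIrr
import Mathlib

/-!
# Generically finite morphisms of integral algebraic spaces: transcendence degree (S10486)
-/

set_option autoImplicit false
universe u

open AlgebraicGeometry CategoryTheory Limits

namespace Groth.Agent.H7.GenFin

open _root_.AlgSp Groth.Agent.H5.AlgSp Groth.Agent.H1.AlgSpDim Groth.Agent.H7.QFib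
open Groth.Agent.H3.QFinFibre (QF FD0 hasAtMor_QF_iff)
open Groth.Agent.H3.LocFinIrr (Gen exists_gen_specializes)

variable {S : Scheme.{u}}

theorem S10486_main {X Y : AlgSp.Space S} (hXi : AlgSp.IsIntegralSp X.obj)
    (hYi : AlgSp.IsIntegralSp Y.obj)
    (f : X ⟶ Y) (hft : AlgSp.LocP @LocallyOfFiniteType f.hom) (hd : AlgSp.IsDominantMor f.hom)
    (x : AlgSp.Points X.obj) (hx : IsGenericPoint x (Set.univ : Set (AlgSp.Points X.obj)))
    (y : AlgSp.Points Y.obj) (hy : IsGenericPoint y (Set.univ : Set (AlgSp.Points Y.obj))) :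
    AlgSp.HasAtMor (fun _ _ h u => Dual3.resTrdeg h u = 0) f.hom x ↔
      (∀ x' : AlgSp.Points X.obj, AlgSp.Points.map f.hom x' = y → x' = x) := by
  rw [← S10485_main hXi hYi f hft hd x hx y hy]
  constructor
  · rintro ⟨U, V, a, b, h, u, hae, hbe, comm, hu, htr⟩
    haveI : LocallyOfFiniteType h.left := hft a b h hae hbe comm
    obtain ⟨ξ, hξ, hξu⟩ := exists_gen_specializes u
    haveI := t0Space_points_of_isDecent X.property hXi.2.1
    have hξx : Points.ofPt a ξ = x := by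
      have h1 : Points.ofPt a ξ ⤳ x := hu ▸ hξu.map (Points.continuous_ofPt a)
      have h2 : x ⤳ Points.ofPt a ξ := hx.specializes (Set.mem_univ _)
      exact (h1.antisymm h2).eq
    have htrξ : Dual3.resTrdeg h.left ξ = 0 :=
      hasAtMor_chart (etLocal_resTrdeg_eq 0) hft a b h hae hbe comm ξ
        (hξx ▸ ⟨U, V, a, b, h, u, hae, hbe, comm, hu, htr⟩)
    obtain ⟨t, ht1, ht2⟩ := Groth.Agent.H1.EquidimQF.resTrdeg_of_isMaxPt h.left ξ
      (fun z hz => ((hξ z hz).antisymm hz).eq.symm)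
    have ht0 : t = 0 := by
      rw [htrξ] at ht1
      exact_mod_cast ht1.symm
    refine (hasAtMor_QF_iff hft x).2 ⟨U, V, a, b, h, ξ, hae, hbe, comm, hξx, ?_⟩
    change FlatMor.fibreDimAt h.left ξ ≤ ((0 : ℕ) : WithBot ℕ∞)
    rw [ht2, ht0]
  · intro hq
    obtain ⟨U, V, a, b, h, u, hae, hbe, comm, hu, hQ⟩ := id hq
    have hqf := quasiFiniteAt_of_hasAtMor_QF a b h hae hbe comm u (hu ▸ hq)
    exact ⟨U, V, a, b, h, u, hae, hbe, comm, hu,
      Groth.Agent.H1.JacobsonTrdeg.resTrdeg_eq_zero_of_finite h.left u hqf⟩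

end Groth.Agent.H7.GenFin
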