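import Groth.Agent.Lib.Helper7.GenFin1
import Groth.Agent.Lib.Helper5.GF.GF2
import Groth.Agent.Lib.Helper5.AlgSp.Cover
import Groth.Agent.Lib.Helper3.Decent.FinComp
import Groth.Agent.Lib.Helper3.Decent.Sober
import Groth.Agent.H4.GeomRed2
import Mathlib

/-!
# Generically finite morphisms of integral algebraic spaces: finite over affine opens (S10487)
-/

set_option autoImplicit false
universe u

open AlgebraicGeometry CategoryTheory Limits

namespace Groth.Agent.H7.GenFin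

open _root_.AlgSp Groth.Agent.H5.AlgSp Groth.Agent.H1.AlgSpDim Groth.Agent.H7.QFib
open Groth.Agent.H3.QFinFibre (QF FD0 hasAtMor_QF_iff)
open Groth.Agent.H3.Decent

variable {S : Scheme.{u}}

theorem openImm_le_etale : (@IsOpenImmersion : MorphismProperty Scheme.{u}) ≤ @Etale :=
  fun _ _ g (hg : IsOpenImmersion g) => (inferInstance : Etale g)

/-- the generic point lies in every nonempty open. -/
theorem generic_mem_range_of_openImm {X : Sp S} (hX : IsAlgSpace X) {x : Points X}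
    (hx : IsGenericPoint x (Set.univ : Set (Points X))) {T : Over S} (j : (yon S).obj T ⟶ X)
    (hj : RepWith @IsOpenImmersion j) [Nonempty ↥T.left] : x ∈ Set.range (Points.ofPt j) := by
  have hopen : IsOpen (Set.range (Points.ofPt j)) :=
    (isOpenEmbedding_ofPt_of_isOpenImmersion hX j hj).isOpen_range
  rw [hx.mem_open_set_iff hopen]
  obtain ⟨t⟩ := (inferInstance : Nonempty ↥T.left)
  exact ⟨_, Set.mem_univ _, t, rfl⟩

/-- (3) ⇒ (5). -/
theorem unique_of_finite_affine {X Y : AlgSp.Space S} (hXi : AlgSp.IsIntegralSp X.obj)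
    (hYi : AlgSp.IsIntegralSp Y.obj)
    (f : X ⟶ Y) (hft : AlgSp.LocP @LocallyOfFiniteType f.hom) (hd : AlgSp.IsDominantMor f.hom)
    (x : AlgSp.Points X.obj) (hx : IsGenericPoint x (Set.univ : Set (AlgSp.Points X.obj)))
    (y : AlgSp.Points Y.obj) (hy : IsGenericPoint y (Set.univ : Set (AlgSp.Points Y.obj)))
    {U V : Over S} (a : (AlgSp.yon S).obj U ⟶ X.obj) (b : (AlgSp.yon S).obj V ⟶ Y.obj) (g : U ⟶ V)
    [Nonempty ↥U.left] (ha : AlgSp.RepWith @IsOpenImmersion a)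
    (hb : AlgSp.RepWith @IsOpenImmersion b) (comm : a ≫ f.hom = (AlgSp.yon S).map g ≫ b)
    (hg : LocallyQuasiFinite g.left) :
    ∀ x' : AlgSp.Points X.obj, AlgSp.Points.map f.hom x' = y → x' = x := by
  rw [← S10485_main hXi hYi f hft hd x hx y hy]
  obtain ⟨u, rfl⟩ := generic_mem_range_of_openImm X.property hx a ha
  exact hasAtMor_QF_of_quasiFiniteAt hft a b g (repWith_mono openImm_le_etale ha)
    (repWith_mono openImm_le_etale hb) comm u (g.left.quasiFiniteAt u)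


/-- a point of a scheme-chart open in a space with generic point: it is generic in the scheme. -/
theorem closure_mem_irreducibleComponents_of_generic {Y : Sp S} (hY : IsAlgSpace Y)
    {y : Points Y} (hy : IsGenericPoint y (Set.univ : Set (Points Y))) {T : Over S}
    (j : (yon S).obj T ⟶ Y) (hj : RepWith @IsOpenImmersion j) (η : ↥T.left)
    (hη : Points.ofPt j η = y) : closure {η} ∈ irreducibleComponents (T.left : Type u) := by
  have hemb := isOpenEmbedding_ofPt_of_isOpenImmersion hY j hj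
  have hcl : closure ({η} : Set ↥T.left) = Set.univ := by
    rw [← dense_iff_closure_eq, dense_iff_inter_open]
    intro O hO hne
    have h1 : IsOpen (Points.ofPt j '' O) := hemb.isOpenMap O hO
    have h2 : y ∈ Points.ofPt j '' O := by
      rw [hy.mem_open_set_iff h1]
      obtain ⟨t, ht⟩ := hne
      exact ⟨_, Set.mem_univ _, t, ht, rfl⟩
    obtain ⟨t, ht, hty⟩ := h2
    have : t = η := hemb.injective (hty.trans hη.symm)
    exact ⟨η, this ▸ ht, rfl⟩
  rw [hcl]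
  have hirr : IsIrreducible (Set.univ : Set ↥T.left) := by
    rw [← hcl]; exact isIrreducible_singleton.closure
  refine ⟨hirr, fun s _ _ => Set.subset_univ s⟩

/-- (5) ⇒ (3). -/
theorem exists_finite_affine_of_unique {X Y : AlgSp.Space S} (hXi : AlgSp.IsIntegralSp X.obj)
    (hYi : AlgSp.IsIntegralSp Y.obj)
    (f : X ⟶ Y) (hft : AlgSp.LocP @LocallyOfFiniteType f.hom)
    (x : AlgSp.Points X.obj) (hx : IsGenericPoint x (Set.univ : Set (AlgSp.Points X.obj)))
    (y : AlgSp.Points Y.obj) (hy : IsGenericPoint y (Set.univ : Set (AlgSp.Points Y.obj)))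
    (hxy : AlgSp.Points.map f.hom x = y)
    (huniq : ∀ x' : AlgSp.Points X.obj, AlgSp.Points.map f.hom x' = y → x' = x) :
    ∃ (U V : Over S) (a : (AlgSp.yon S).obj U ⟶ X.obj) (b : (AlgSp.yon S).obj V ⟶ Y.obj) (g : U ⟶ V),
      IsAffine U.left ∧ IsAffine V.left ∧ Nonempty ↥U.left ∧
        AlgSp.RepWith @IsOpenImmersion a ∧ AlgSp.RepWith @IsOpenImmersion b ∧
          a ≫ f.hom = (AlgSp.yon S).map g ≫ b ∧ IsFinite g.left := by
  obtain ⟨hXr, hXd, hXirr⟩ := hXi
  obtain ⟨hYr, hYd, hYirr⟩ := hYi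
  obtain ⟨X', jX, hjX, hdX⟩ := exists_dense_open_subscheme_of_isDecent X.property hXd
  obtain ⟨Y', jY, hjY, hdY⟩ := exists_dense_open_subscheme_of_isDecent Y.property hYd
  haveI : Nonempty ↥X'.left := by
    obtain ⟨z, hz⟩ := hdX.nonempty
    obtain ⟨t, -⟩ := hz
    exact ⟨t⟩
  haveI : Nonempty ↥Y'.left := by
    obtain ⟨z, hz⟩ := hdY.nonempty
    obtain ⟨t, -⟩ := hz
    exact ⟨t⟩
  obtain ⟨ξ₀', hξ₀'⟩ := generic_mem_range_of_openImm X.property hx jX hjX
  obtain ⟨η, hη⟩ := generic_mem_range_of_openImm Y.property hy jY hjY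
  -- the preimage of `Y'` in `X'`
  have sq := hjY.1.isPullback (jX ≫ f.hom)
  have hi : IsOpenImmersion (hjY.1.snd (jX ≫ f.hom)).left := hjY.2 _ _ _ sq
  obtain ⟨X'', i, g₀, hi, sq'⟩ : ∃ (X'' : Over S) (i : X'' ⟶ X') (g₀ : X'' ⟶ Y'),
      IsOpenImmersion i.left ∧
        IsPullback ((yon S).map g₀) ((yon S).map i) jY (jX ≫ f.hom) :=
    ⟨_, hjY.1.snd _, hjY.1.fst' _, hi, by
      rw [Functor.relativelyRepresentable.map_fst']; exact sq⟩
  have ha'' : RepWith @IsOpenImmersion ((yon S).map i ≫ jX) :=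
    (repWith_isMultiplicative (S := S) @IsOpenImmersion).comp_mem _ _
      ((repWith_yon_map_iff _ _).2 hi) hjX
  have comm'' : ((yon S).map i ≫ jX) ≫ f.hom = (yon S).map g₀ ≫ jY := by
    rw [Category.assoc]; exact sq'.w.symm
  have hemb'' := isOpenEmbedding_ofPt_of_isOpenImmersion X.property _ ha''
  obtain ⟨ξ₀, hξ₀1, hξ₀2⟩ := exists_point_of_isPullback sq' (Points.ofScheme Y' η) ξ₀' (by
    rw [← Points.ofPt_eq_map_ofScheme, hη, ← Points.map_ofPt, hξ₀', hxy])
  have hξ₀3 : g₀.left ξ₀ = η := Groth.Agent.H4.GeomRed.eq_of_ofPt_yon_map_eq _ _ _ hξ₀2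
  have hξ₀x : Points.ofPt ((yon S).map i ≫ jX) ξ₀ = x := by
    rw [ofPt_yon_map_comp, hξ₀1, hξ₀']
  haveI : LocallyOfFiniteType g₀.left :=
    hft _ jY g₀ (repWith_mono openImm_le_etale ha'') (repWith_mono openImm_le_etale hjY) comm''
  have hηgen := closure_mem_irreducibleComponents_of_generic Y.property hy jY hjY η hη
  obtain ⟨V₀, hV₀, hηV₀, -⟩ := exists_isAffineOpen_mem_and_subset (x := η) (U := ⊤) trivial
  obtain ⟨A, hA, hξ₀A, hAsub⟩ := exists_isAffineOpen_mem_and_subset (x := ξ₀)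
    (U := g₀.left ⁻¹ᵁ V₀) (by change g₀.left ξ₀ ∈ V₀; rw [hξ₀3]; exact hηV₀)
  have e : A ≤ g₀.left ⁻¹ᵁ V₀ := hAsub
  have hfin : ((A : Set ↥X''.left) ∩ g₀.left ⁻¹' {η}).Finite := by
    refine (Set.finite_singleton ξ₀).subset ?_
    rintro ξ ⟨-, hξ⟩
    have hξ' : g₀.left ξ = η := hξ
    have h1 : Points.map f.hom (Points.ofPt ((yon S).map i ≫ jX) ξ) = y := by
      rw [Points.map_ofPt, comm'', ofPt_yon_map_comp, hξ', hη]
    have h2 := huniq _ h1
    exact hemb''.injective (h2.trans hξ₀x.symm)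
  obtain ⟨g, hηg, hfing⟩ := Groth.Agent.H5.GF.exists_isFinite_resLE g₀.left η hηgen hV₀ hηV₀ hA e hfin
  obtain ⟨Uo, hUo⟩ : ∃ Uo : X''.left.Opens, Uo = X''.left.basicOpen (g₀.left.appLE V₀ A e g) :=
    ⟨_, rfl⟩
  obtain ⟨Vo, hVo⟩ : ∃ Vo : Y'.left.Opens, Vo = Y'.left.basicOpen g := ⟨_, rfl⟩
  have hUoaff : IsAffineOpen Uo := hUo ▸ hA.basicOpen _
  have hVoaff : IsAffineOpen Vo := hVo ▸ hV₀.basicOpen _
  have eo : Uo ≤ g₀.left ⁻¹ᵁ Vo := by
    rw [hUo, hVo, Scheme.basicOpen_appLE]; exact inf_le_right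
  have hfin' : IsFinite (g₀.left.resLE Vo Uo eo) := by
    subst hUo hVo
    exact hfing
  have hξ₀Uo : ξ₀ ∈ Uo := by
    rw [hUo, Scheme.basicOpen_appLE]
    refine ⟨hξ₀A, ?_⟩
    change g₀.left ξ₀ ∈ Y'.left.basicOpen g
    rw [hξ₀3]; exact hηg
  refine ⟨Over.mk (Uo.ι ≫ X''.hom), Over.mk (Vo.ι ≫ Y'.hom),
    (yon S).map (Over.homMk Uo.ι rfl : Over.mk (Uo.ι ≫ X''.hom) ⟶ X'') ≫ ((yon S).map i ≫ jX),
    (yon S).map (Over.homMk Vo.ι rfl : Over.mk (Vo.ι ≫ Y'.hom) ⟶ Y') ≫ jY,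
    Over.homMk (g₀.left.resLE Vo Uo eo) (by
      change g₀.left.resLE Vo Uo eo ≫ Vo.ι ≫ Y'.hom = Uo.ι ≫ X''.hom
      rw [← Category.assoc, Scheme.Hom.resLE_comp_ι, Category.assoc, Over.w g₀]),
    hUoaff, hVoaff, ⟨⟨ξ₀, hξ₀Uo⟩⟩, ?_, ?_, ?_, hfin'⟩
  · exact (repWith_isMultiplicative (S := S) @IsOpenImmersion).comp_mem _ _
      ((repWith_yon_map_iff _ _).2 (show IsOpenImmersion Uo.ι from inferInstance)) ha''
  · exact (repWith_isMultiplicative (S := S) @IsOpenImmersion).comp_mem _ _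
      ((repWith_yon_map_iff _ _).2 (show IsOpenImmersion Vo.ι from inferInstance)) hjY
  · rw [Category.assoc, comm'', ← Category.assoc, ← Category.assoc, ← Functor.map_comp,
      ← Functor.map_comp]
    congr 2
    ext
    change Uo.ι ≫ g₀.left = g₀.left.resLE Vo Uo eo ≫ Vo.ι
    rw [Scheme.Hom.resLE_comp_ι]


theorem S10487_main {X Y : AlgSp.Space S} (hXi : AlgSp.IsIntegralSp X.obj)
    (hYi : AlgSp.IsIntegralSp Y.obj)
    (f : X ⟶ Y) (hft : AlgSp.LocP @LocallyOfFiniteType f.hom) (hd : AlgSp.IsDominantMor f.hom)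
    (x : AlgSp.Points X.obj) (hx : IsGenericPoint x (Set.univ : Set (AlgSp.Points X.obj)))
    (y : AlgSp.Points Y.obj) (hy : IsGenericPoint y (Set.univ : Set (AlgSp.Points Y.obj))) :
    (∃ (U V : Over S) (a : (AlgSp.yon S).obj U ⟶ X.obj) (b : (AlgSp.yon S).obj V ⟶ Y.obj) (g : U ⟶ V),
      IsAffine U.left ∧ IsAffine V.left ∧ Nonempty ↥U.left ∧
        AlgSp.RepWith @IsOpenImmersion a ∧ AlgSp.RepWith @IsOpenImmersion b ∧
          a ≫ f.hom = (AlgSp.yon S).map g ≫ b ∧ IsFinite g.left) ↔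
      (∀ x' : AlgSp.Points X.obj, AlgSp.Points.map f.hom x' = y → x' = x) := by
  constructor
  · rintro ⟨U, V, a, b, g, -, -, hne, ha, hb, comm, hfin⟩
    haveI := hne
    haveI := hfin
    exact unique_of_finite_affine hXi hYi f hft hd x hx y hy a b g ha hb comm inferInstance
  · intro huniq
    exact exists_finite_affine_of_unique hXi hYi f hft x hx y hy
      (map_generic_eq Y.property hYi.2.1 f.hom hd x hx y hy) huniq

end Groth.Agent.H7.GenFin
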