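import Groth.Agent.Lib.Helper7.GenFin1
import Groth.Agent.Lib.Helper1.DimIneqE
import Groth.Agent.Lib.Helper6.TD1
import Groth.Agent.Lib.Helper3.AlgSpMor.EtaleDim
import Groth.Agent.Lib.Helper3.Decent.GenericPt
import Groth.Agent.Lib.Helper5.AlgSp.Points
import Mathlib

/-!
# Dimension inequality for dominant morphisms of integral algebraic spaces (S10459)
-/

set_option autoImplicit false
universe u

open AlgebraicGeometry CategoryTheory Limits

namespace Groth.Agent.H7.GenFin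

open _root_.AlgSp Groth.Agent.H5.AlgSp Groth.Agent.H1.AlgSpDim Groth.Agent.H7.QFib

variable {S : Scheme.{u}}

theorem S10459_main {X Y : AlgSp.Space S} (f : X ⟶ Y)
    (hY : AlgSp.IsLocNoethSp Y.obj) (hXi : AlgSp.IsIntegralSp X.obj)
    (hft : AlgSp.LocP @LocallyOfFiniteType f.hom)
    (x : AlgSp.Points X.obj) (hx : IsGenericPoint x (Set.univ : Set (AlgSp.Points X.obj))) (r : ℕ)
    (hr : AlgSp.HasAtMor (fun _ _ h u => Dual3.resTrdeg h u = (r : Cardinal.{u})) f.hom x) :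
    AlgSp.dim X.obj ≤ AlgSp.dim Y.obj + ((r : ℕ∞) : WithBot ℕ∞) := by
  obtain ⟨hXr, hXd, hXirr⟩ := hXi
  obtain ⟨V, b, hbe, hbs, hVn⟩ := hY
  haveI : IsLocallyNoetherian V.left := hVn
  have hVY : topologicalKrullDim ↥V.left ≤ AlgSp.dim Y.obj := by
    unfold AlgSp.dim
    exact le_iSup_of_le V (le_iSup_of_le b (le_iSup_of_le hbe le_rfl))
  change (⨆ (U : Over S) (a : (yon S).obj U ⟶ X.obj) (_ : RepWith @Etale a),
    topologicalKrullDim ↥U.left) ≤ _
  refine iSup_le fun U => iSup_le fun a => iSup_le fun ha => ?_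
  rw [Groth.Agent.H6.TD.topologicalKrullDim_eq_iSup_stalk]
  refine iSup_le fun u => ?_
  -- the fibre product `U ×_Y V`
  have sq := hbe.1.isPullback (a ≫ f.hom)
  have hp : Etale (hbe.1.snd (a ≫ f.hom)).left := hbe.2 _ _ _ sq
  have hps : Surjective (hbe.1.snd (a ≫ f.hom)).left := hbs.2 _ _ _ sq
  obtain ⟨U', p, h, hp, hps, sq'⟩ : ∃ (U' : Over S) (p : U' ⟶ U) (h : U' ⟶ V),
      Etale p.left ∧ Surjective p.left ∧
        IsPullback ((yon S).map h) ((yon S).map p) b (a ≫ f.hom) :=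
    ⟨_, hbe.1.snd _, hbe.1.fst' _, hp, hps, by
      rw [Functor.relativelyRepresentable.map_fst']; exact sq⟩
  obtain ⟨u', rfl⟩ := hps.surj u
  have ha' : RepWith @Etale ((yon S).map p ≫ a) :=
    (repWith_isMultiplicative (S := S) @Etale).comp_mem _ _ ((repWith_yon_map_iff _ _).2 hp) ha
  have comm' : ((yon S).map p ≫ a) ≫ f.hom = (yon S).map h ≫ b := by
    rw [Category.assoc]; exact sq'.w.symm
  haveI : LocallyOfFiniteType h.left := hft _ b h ha' hbe comm'
  have hE : ∀ ξ : ↥U'.left, ξ ⤳ u' → ringKrullDim (U'.left.presheaf.stalk ξ) = 0 →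
      Dual3.resTrdeg h.left ξ ≤ (r : Cardinal.{u}) := by
    intro ξ _ hξ0
    have hξx : x = Points.ofPt ((yon S).map p ≫ a) ξ :=
      Groth.Agent.H3.Decent.eq_of_specializes_of_dim_zero hXd _ ha' ξ hξ0
        (hx.specializes (Set.mem_univ _))
    have := hasAtMor_chart (etLocal_resTrdeg_eq (r : Cardinal.{u})) hft _ b h ha' hbe comm' ξ
      (hξx ▸ hr)
    exact this.le
  have key := Groth.Agent.H1.DimIneq.stalk_dim_add_resTrdeg_le h.left u' (r : Cardinal.{u}) hE
  have h1 : ringKrullDim (U.left.presheaf.stalk (p.left u')) =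
      ringKrullDim (U'.left.presheaf.stalk u') :=
    (Groth.Agent.H3.EtaleDim.ringKrullDim_stalk_eq_of_etale p.left u').symm
  rw [h1]
  have h2 : ringKrullDim (V.left.presheaf.stalk (h.left u')) ≤ AlgSp.dim Y.obj :=
    (Groth.Agent.H6.TD.ringKrullDim_stalk_le V.left _).trans hVY
  have h3 : ((Cardinal.toENat (r : Cardinal.{u}) : ℕ∞) : WithBot ℕ∞) = ((r : ℕ∞) : WithBot ℕ∞) := by
    simp
  rw [h3] at key
  calc ringKrullDim (U'.left.presheaf.stalk u')
      ≤ ringKrullDim (U'.left.presheaf.stalk u') +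
        ((Cardinal.toENat (Dual3.resTrdeg h.left u') : ℕ∞) : WithBot ℕ∞) := by
        refine le_add_of_nonneg_right ?_
        exact_mod_cast (zero_le : (0 : ℕ∞) ≤ Cardinal.toENat (Dual3.resTrdeg h.left u'))
    _ ≤ _ := key
    _ ≤ _ := by gcongr

end Groth.Agent.H7.GenFin
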