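import Groth.Agent.Lib.Helper7.GenFin3
import Groth.Agent.Lib.Helper1.DimLocF
import Groth.Agent.Lib.Helper1.DimIneqE
import Groth.Agent.Lib.Helper3.FibDimIrr2
import Groth.Agent.Lib.Helper3.Decent.Dim
import Groth.Agent.Lib.Helper3.AlgSpMor.EtaleDim
import Groth.Agent.Lib.Helper5.CD.F2
import Mathlib

/-!
# Dimension formula for proper dominant morphisms of integral algebraic spaces (S10460)
-/

set_option autoImplicit false
universe u

open AlgebraicGeometry CategoryTheory Limits Order TopologicalSpace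

namespace Groth.Agent.H7.GenFin


/-- A point `u₀` whose residue field has transcendence degree `r` over the base specializes, inside
its fibre, to a point whose local ring has dimension at least `r`. -/
theorem exists_specialization_stalk_dim_ge {U V : Scheme.{u}} (h : U ⟶ V) [LocallyOfFiniteType h]
    (u₀ : U) (r : ℕ) (hr : Dual3.resTrdeg h u₀ = (r : Cardinal.{u})) :
    ∃ u' : U, u₀ ⤳ u' ∧ h u' = h u₀ ∧
      ((r : ℕ∞) : WithBot ℕ∞) ≤ ringKrullDim (U.presheaf.stalk u') := by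
  -- a closed point of the fibre in the closure of `u₀`
  have hcl : IsClosed (closure ({h.asFiber u₀} : Set (h.fiber (h u₀)))) := isClosed_closure
  have hne : (closure ({h.asFiber u₀} : Set (h.fiber (h u₀))) ∩
      closedPoints (h.fiber (h u₀))).Nonempty := by
    by_contra hemp
    rw [Set.not_nonempty_iff_eq_empty] at hemp
    have := JacobsonSpace.closure_inter_closedPoints hcl
    rw [hemp, closure_empty] at this
    exact (Set.singleton_nonempty _).ne_empty
      (Set.subset_empty_iff.1 (this ▸ subset_closure))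
  obtain ⟨w, hwcl, hwc⟩ := hne
  have hwc' : IsClosed ({w} : Set (h.fiber (h u₀))) := hwc
  have hspec : h.asFiber u₀ ⤳ w := specializes_iff_mem_closure.2 hwcl
  have hspec' : u₀ ⤳ h.fiberι (h u₀) w := by
    have := hspec.map (h.fiberι (h u₀)).continuous
    rwa [h.fiberι_asFiber u₀] at this
  have hfib : h (h.fiberι (h u₀) w) = h u₀ := by
    have : h.fiberι (h u₀) w ∈ Set.range (h.fiberι (h u₀)) := ⟨w, rfl⟩
    rw [Scheme.Hom.range_fiberι] at this
    exact this
  refine ⟨h.fiberι (h u₀) w, hspec', hfib, ?_⟩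
  obtain ⟨u', hu'⟩ : ∃ u' : U, u' = h.fiberι (h u₀) w := ⟨_, rfl⟩
  rw [← hu'] at hspec' hfib ⊢
  have htr0 : Dual3.resTrdeg h u' = 0 :=
    Groth.Agent.H3.FibDimIrr.trdeg_eq_zero_of_isClosed_fiber h u' (h u₀) hfib w hu'.symm hwc'
  obtain ⟨V₁, hV₁, hV₁mem⟩ : ∃ V₁ : V.Opens, IsAffineOpen V₁ ∧ h u' ∈ V₁ := by
    obtain ⟨V₁, hV₁, hmem, -⟩ := exists_isAffineOpen_mem_and_subset (x := h u') (U := ⊤) trivial
    exact ⟨V₁, hV₁, hmem⟩
  obtain ⟨U₁, hU₁, hu'U₁, hU₁sub⟩ := exists_isAffineOpen_mem_and_subset (x := u')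
    (U := h ⁻¹ᵁ V₁) hV₁mem
  have e : U₁ ≤ h ⁻¹ᵁ V₁ := hU₁sub
  have hu₀U₁ : u₀ ∈ U₁ := hspec'.mem_open U₁.2 hu'U₁
  have key := Groth.Agent.H1.DimLoc.chart_fibre_eq h hU₁ hV₁ e u' u₀ hu'U₁ hu₀U₁ hspec' hfib.symm
  rw [htr0, add_zero, hr] at key
  have hle : (hU₁.primeIdealOf ⟨u₀, hu₀U₁⟩).asIdeal ≤ (hU₁.primeIdealOf ⟨u', hu'U₁⟩).asIdeal :=
    Groth.Agent.H1.DimLoc.primeIdealOf_le_of_specializes hU₁ u' u₀ hu'U₁ hu₀U₁ hspec'
  haveI : ((hU₁.primeIdealOf ⟨u', hu'U₁⟩).asIdeal.map
      (Ideal.Quotient.mk (hU₁.primeIdealOf ⟨u₀, hu₀U₁⟩).asIdeal)).IsPrime := by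
    apply Ideal.map_isPrime_of_surjective Ideal.Quotient.mk_surjective
    rw [Ideal.mk_ker]
    exact hle
  have h1 := Groth.Agent.H5.CD.height_map_mk_le _ _ hle
  have h2 : ((hU₁.primeIdealOf ⟨u', hu'U₁⟩).asIdeal.map
      (Ideal.Quotient.mk (hU₁.primeIdealOf ⟨u₀, hu₀U₁⟩).asIdeal)).height = (r : ℕ∞) := by
    exact_mod_cast key
  rw [Groth.Agent.H1.DimIneq.ringKrullDim_stalk_eq_height hU₁ u' hu'U₁]
  rw [h2] at h1
  exact_mod_cast h1


section Top

variable {A B : Type*} [TopologicalSpace A] [TopologicalSpace B] [T0Space A] [T0Space B]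

/-- A closed continuous map to a space with generic point `y`, and a point `ξ` of codimension
`≥ r` over `y`: over every point of codimension `≥ n` there is a point of codimension `≥ n + r`. -/
theorem exists_coheight_ge (φ : A → B) (hcl : IsClosedMap φ) (y : B)
    (hy : ∀ b, y ⤳ b) (ξ : A) (hξ : φ ξ = y) (r : ℕ)
    (hr : (r : ℕ∞) ≤ @coheight A (specializationOrder A).toPreorder ξ) :
    ∀ (n : ℕ) (b : B), (n : ℕ∞) ≤ @coheight B (specializationOrder B).toPreorder b →
      ∃ a, φ a = b ∧ ((n + r : ℕ) : ℕ∞) ≤ @coheight A (specializationOrder A).toPreorder a := by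
  letI iA := specializationOrder A
  letI iB := specializationOrder B
  have hsp := hcl.specializingMap
  intro n
  induction n with
  | zero =>
    intro b _
    obtain ⟨a, ha, hab⟩ := hsp (show φ ξ ⤳ b from hξ ▸ hy b)
    refine ⟨a, hab, ?_⟩
    rw [Nat.zero_add]
    have hle : a ≤ ξ := ha
    exact hr.trans (coheight_anti hle)
  | succ n ih =>
    intro b hb
    have h1 : ¬ coheight b ≤ (n : ℕ∞) := by
      rw [not_le]
      have h0 : (n : ℕ∞) < ((n + 1 : ℕ) : ℕ∞) := by
        exact_mod_cast Nat.lt_succ_self n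
      exact lt_of_lt_of_le h0 hb
    rw [coheight_le_coe_iff] at h1
    push Not at h1
    obtain ⟨b', hb', hnb'⟩ := h1
    obtain ⟨a', ha', hn'⟩ := ih b' hnb'
    have hbb' : b' ⤳ b := hb'.le
    obtain ⟨a, haa', hab⟩ := hsp (show φ a' ⤳ b from ha' ▸ hbb')
    refine ⟨a, hab, ?_⟩
    have hlt : a < a' := by
      refine lt_of_le_of_ne haa' (fun he => ?_)
      subst he
      rw [ha'] at hab
      subst hab
      exact lt_irrefl _ hb'
    have := coheight_add_one_le hlt
    refine le_trans ?_ this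
    have h2 : ((n + 1 + r : ℕ) : ℕ∞) = ((n + r : ℕ) : ℕ∞) + 1 := by
      push_cast; ring
    rw [h2]
    gcongr

/-- dimension form. -/
theorem dim_add_le_of_isClosedMap [QuasiSober A] [QuasiSober B] (φ : A → B)
    (hcl : IsClosedMap φ) (y : B)
    (hy : ∀ b, y ⤳ b) (ξ : A) (hξ : φ ξ = y) (r : ℕ)
    (hr : (r : ℕ∞) ≤ @coheight A (specializationOrder A).toPreorder ξ) :
    topologicalKrullDim B + ((r : ℕ∞) : WithBot ℕ∞) ≤ topologicalKrullDim A := by
  have key := exists_coheight_ge φ hcl y hy ξ hξ r hr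
  rw [Groth.Agent.H3.EtaleDim.topologicalKrullDim_eq_iSup_coheight (X := A),
    Groth.Agent.H3.EtaleDim.topologicalKrullDim_eq_iSup_coheight (X := B)]
  haveI : Nonempty B := ⟨y⟩
  haveI : Nonempty A := ⟨ξ⟩
  rw [← WithBot.coe_iSup (OrderTop.bddAbove _), ← WithBot.coe_iSup (OrderTop.bddAbove _),
    ← WithBot.coe_add, WithBot.coe_le_coe, ENat.iSup_add]
  refine iSup_le fun b => ?_
  obtain ⟨c, hc⟩ : ∃ c : ℕ∞, c = @coheight B (specializationOrder B).toPreorder b := ⟨_, rfl⟩
  rw [← hc]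
  induction c using ENat.recTopCoe with
  | top =>
    rw [top_add, top_le_iff, ENat.eq_top_iff_forall_ge]
    intro m
    obtain ⟨a, -, ha⟩ := key m b (by rw [← hc]; exact le_top)
    refine le_trans ?_ (le_iSup_of_le a ha)
    exact_mod_cast Nat.le_add_right m r
  | coe m =>
    obtain ⟨a, -, ha⟩ := key m b (by rw [← hc])
    refine le_trans ?_ (le_iSup_of_le a ha)
    exact_mod_cast le_rfl

end Top


open _root_.AlgSp Groth.Agent.H5.AlgSp Groth.Agent.H1.AlgSpDim Groth.Agent.H7.QFib in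
theorem S10460_main {S : Scheme.{u}} {X Y : AlgSp.Space S} (f : X ⟶ Y)
    (hY : AlgSp.IsLocNoethSp Y.obj) (hXi : AlgSp.IsIntegralSp X.obj) (hYi : AlgSp.IsIntegralSp Y.obj)
    (hd : AlgSp.IsDominantMor f.hom) (hp : AlgSp.IsProperMor f.hom)
    (x : AlgSp.Points X.obj) (hx : IsGenericPoint x (Set.univ : Set (AlgSp.Points X.obj))) (r : ℕ)
    (hr : AlgSp.HasAtMor (fun _ _ h u => Dual3.resTrdeg h u = (r : Cardinal.{u})) f.hom x) :
    AlgSp.dim X.obj = AlgSp.dim Y.obj + ((r : ℕ∞) : WithBot ℕ∞) := by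
  have hft : AlgSp.LocP @LocallyOfFiniteType f.hom := hp.2.1.1
  refine le_antisymm (S10459_main f hY hXi hft x hx r hr) ?_
  obtain ⟨hXr, hXd, hXirr⟩ := hXi
  obtain ⟨hYr, hYd, hYirr⟩ := hYi
  haveI := hXirr
  haveI := hYirr
  haveI : T0Space (Points X.obj) := t0Space_points_of_isDecent X.property hXd
  haveI : T0Space (Points Y.obj) := t0Space_points_of_isDecent Y.property hYd
  haveI : QuasiSober (Points X.obj) := Groth.Agent.H3.Decent.quasiSober_points_of_isDecent X.property hXd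
  haveI : QuasiSober (Points Y.obj) := Groth.Agent.H3.Decent.quasiSober_points_of_isDecent Y.property hYd
  rw [← Groth.Agent.H3.Decent.topologicalKrullDim_points_eq_dim X.property hXd,
    ← Groth.Agent.H3.Decent.topologicalKrullDim_points_eq_dim Y.property hYd]
  have hcl : IsClosedMap (Points.map f.hom) :=
    hp.2.2 Y.property (𝟙 _) (𝟙 _) f.hom (IsPullback.id_horiz f.hom)
  have hygen : IsGenericPoint (genericPoint (Points Y.obj)) (Set.univ : Set (Points Y.obj)) := by
    have := genericPoint_spec (Points Y.obj)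
    simpa using this
  have hxy : Points.map f.hom x = genericPoint (Points Y.obj) :=
    map_generic_eq Y.property hYd f.hom hd x hx _ hygen
  obtain ⟨U, V, a, b, h, u, hae, hbe, comm, hu, htr⟩ := hr
  haveI : LocallyOfFiniteType h.left := hft a b h hae hbe comm
  obtain ⟨u', huu', hhu', hdim⟩ := exists_specialization_stalk_dim_ge h.left u r htr
  refine dim_add_le_of_isClosedMap (Points.map f.hom) hcl (genericPoint (Points Y.obj))
    (fun b => genericPoint_specializes b) (Points.ofPt a u') ?_ r ?_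
  · rw [Points.map_ofPt, comm, ofPt_yon_map_comp, hhu', ← ofPt_yon_map_comp, ← comm,
      ← Points.map_ofPt, hu, hxy]
  · rw [Groth.Agent.H3.Decent.coheight_ofPt_eq hXd a hae u']
    rw [AlgebraicGeometry.ringKrullDim_stalk_eq_coheight] at hdim
    exact_mod_cast hdim

end Groth.Agent.H7.GenFin
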