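import Groth.Agent.Lib.Helper7.QFib6
import Mathlib

/-!
# S10485, S10500: generic points of integral algebraic spaces
-/

set_option autoImplicit false
universe u

open AlgebraicGeometry CategoryTheory Limits

namespace Groth.Agent.H7.QFib

open _root_.AlgSp Groth.Agent.H5.AlgSp Groth.Agent.H1.AlgSpDim Groth.Agent.H7.QFinSp
open Groth.Agent.H3.QFinFibre (QF FD0 hasAtMor_QF_iff)

variable {S : Scheme.{u}}

/-- a dominant morphism to a decent space sends generic points to generic points. -/
theorem map_generic_eq {X Y : Sp S} (hY : IsAlgSpace Y) (hYd : IsDecent Y) (f : X ⟶ Y)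
    (hd : IsDominantMor f) (x : Points X) (hx : IsGenericPoint x (Set.univ : Set (Points X)))
    (y : Points Y) (hy : IsGenericPoint y (Set.univ : Set (Points Y))) : Points.map f x = y := by
  haveI : T0Space (Points Y) := t0Space_points_of_isDecent hY hYd
  have h1 : IsGenericPoint (Points.map f x) (Set.univ : Set (Points Y)) := by
    apply Set.eq_univ_of_univ_subset
    have h2 : Points.map f '' closure {x} ⊆ closure (Points.map f '' {x}) :=
      image_closure_subset_closure_image (Points.continuous_map f)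
    rw [hx.def, Set.image_univ, Set.image_singleton] at h2
    have h3 : closure (Set.range (Points.map f)) ⊆ closure {Points.map f x} :=
      isClosed_closure.closure_subset_iff.2 h2
    rw [hd.closure_range] at h3
    exact h3
  exact h1.eq hy

theorem S10485_main {X Y : AlgSp.Space S} (hXi : AlgSp.IsIntegralSp X.obj) (hYi : AlgSp.IsIntegralSp Y.obj)
    (f : X ⟶ Y) (hft : AlgSp.LocP @LocallyOfFiniteType f.hom) (hd : AlgSp.IsDominantMor f.hom)
    (x : AlgSp.Points X.obj) (hx : IsGenericPoint x (Set.univ : Set (AlgSp.Points X.obj)))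
    (y : AlgSp.Points Y.obj) (hy : IsGenericPoint y (Set.univ : Set (AlgSp.Points Y.obj))) :
    AlgSp.HasAtMor (fun U _ h u => ∃ W : U.Opens, u ∈ W ∧ LocallyQuasiFinite (W.ι ≫ h) ∧ LocallyOfFiniteType (W.ι ≫ h)) f.hom x ↔ (∀ x' : AlgSp.Points X.obj, AlgSp.Points.map f.hom x' = y → x' = x) := by
  have hfx := map_generic_eq Y.property hYi.2.1 f.hom hd x hx y hy
  constructor
  · intro hq x' hx'
    exact eq_of_specializes_fibre_of_hasAtMor_QF X.property Y.property hYi.2.1 f.hom hft y x x'
      hfx hx' hq (hx.specializes (Set.mem_univ x'))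
  · intro h
    have hfin : (Points.map f.hom ⁻¹' {y}).Finite :=
      (Set.finite_singleton x).subset fun x' hx' => h x' hx'
    exact hasAtMor_QF_of_finite_fibre X.property Y.property hXi.2.1 f.hom hft y hfin x hfx

theorem S10500_main {X Y : AlgSp.Space S}
    (hXi : AlgSp.IsIntegralSp X.obj) (hYi : AlgSp.IsIntegralSp Y.obj) (f : X ⟶ Y) (hp : AlgSp.IsProperMor f.hom)
    (hd : AlgSp.IsDominantMor f.hom)
    (x : AlgSp.Points X.obj) (hx : IsGenericPoint x (Set.univ : Set (AlgSp.Points X.obj)))
    (y : AlgSp.Points Y.obj) (hy : IsGenericPoint y (Set.univ : Set (AlgSp.Points Y.obj))) :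
    (∃ (V : AlgSp.Space S) (j : V ⟶ Y), AlgSp.RepWith @IsOpenImmersion j.hom ∧ Nonempty (AlgSp.Points V.obj) ∧
      ∀ (P : AlgSp.Space S) (fst : P ⟶ V) (snd : P ⟶ X), IsPullback fst.hom snd.hom j.hom f.hom →
        AlgSp.IsFiniteMor fst.hom) ↔ (∀ x' : AlgSp.Points X.obj, AlgSp.Points.map f.hom x' = y → x' = x) := by
  have hft : LocP @LocallyOfFiniteType f.hom := hp.2.1.1
  have hfx := map_generic_eq Y.property hYi.2.1 f.hom hd x hx y hy
  rw [← S10485_main hXi hYi f hft hd x hx y hy]
  constructor
  · rintro ⟨V, j, hj, ⟨v₀⟩, hfin⟩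
    have hopen : IsOpen (Set.range (Points.map j.hom)) :=
      (isOpenMap_points_map_of_repWith (P := @IsOpenImmersion)
        (fun f (hf : IsOpenImmersion f) => f.isOpenEmbedding.isOpenMap) hj).isOpen_range
    obtain ⟨v, hv⟩ : y ∈ Set.range (Points.map j.hom) :=
      (hy.mem_open_set_iff hopen).2 ⟨_, Set.mem_univ _, ⟨v₀, rfl⟩⟩
    have sq := IsPullback.of_hasPullback j.hom f.hom
    have hPa : IsAlgSpace (pullback j.hom f.hom) :=
      isAlgSpace_pullback Y.property.diag V.property X.property sq
    let P : AlgSp.Space S := ⟨pullback j.hom f.hom, hPa⟩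
    have hfinP : IsFiniteMor (pullback.fst j.hom f.hom) :=
      hfin P (ObjectProperty.homMk (pullback.fst j.hom f.hom))
        (ObjectProperty.homMk (pullback.snd j.hom f.hom)) sq
    have hloc : LocP ((@LocallyQuasiFinite : MorphismProperty Scheme.{u}) ⊓ @LocallyOfFiniteType)
        (pullback.fst j.hom f.hom) :=
      locP_of_repWith etale_le_lqf_lft (repWith_mono finite_le_lqf_lft
        (isFiniteMor_iff_repWith.1 hfinP))
    obtain ⟨z, -, hz⟩ := points_pullback_surjective sq v x (hv.trans hfx.symm)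
    have h1 : HasAtMor QF (pullback.fst j.hom f.hom) z :=
      (locP_iff_forall_hasAtMor etale_le_lqf_lft hPa V.property).1 hloc z
    have hlftP : LocP @LocallyOfFiniteType (pullback.fst j.hom f.hom) :=
      locP_of_isPullback Groth.Agent.H5.AlgSp.etale_le_lft sq.flip X.property Y.property
        V.property hft
    rw [hasAtMor_QF_iff hlftP] at h1
    have h2 := (hasAtMor_base_change
      (etLocal_fibreDimAt_pred (fun e => e ≤ ((0 : ℕ) : WithBot ℕ∞)))
      (bcLocal_fibreDimAt_pred (fun e => e ≤ ((0 : ℕ) : WithBot ℕ∞)))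
      X.property Y.property V.property sq.flip hft z).1 h1
    rw [hz] at h2
    exact (hasAtMor_QF_iff hft x).2 h2
  · intro hq
    have hq' : ∀ x' : Points X.obj, Points.map f.hom x' = y → HasAtMor QF f.hom x' := by
      intro x' hx'
      rw [(S10485_main hXi hYi f hft hd x hx y hy).1 hq x' hx']
      exact hq
    obtain ⟨V, j, hj, ⟨v, hv⟩, hfin⟩ := S10650_main f y hp hq'
    exact ⟨V, j, hj, ⟨v⟩, fun P fst snd sq => hfin P snd fst sq.flip⟩

end Groth.Agent.H7.QFib
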