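import Groth.Agent.Lib.Helper7.GenFin2
import Groth.Agent.Lib.Helper7.QFib7
import Groth.Agent.Lib.Helper5.AlgSp.OpenSub
import Groth.Agent.Lib.Helper5.AlgSp.Mono
import Groth.Agent.Lib.Helper5.AlgSp.Proper
import Groth.Agent.Lib.Helper5.AlgSp.UnivClosed
import Groth.Agent.Lib.Helper5.QcClosure
import Groth.Agent.Lib.Helper5.AlgSp.Limits.EvClosedImmSp
import Groth.Agent.Lib.Helper5.AlgSp.QCompact
import Mathlib

/-!
# Generically finite morphisms: finite over an affine open of the target (S10488)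
-/

set_option autoImplicit false
universe u

open AlgebraicGeometry CategoryTheory Limits

namespace Groth.Agent.H7.GenFin

open _root_.AlgSp Groth.Agent.H5.AlgSp Groth.Agent.H1.AlgSpDim Groth.Agent.H7.QFib
open Groth.Agent.H3.Decent

variable {S : Scheme.{u}}

theorem openImm_le_mono : (@IsOpenImmersion : MorphismProperty Scheme.{u}) ≤
    MorphismProperty.monomorphisms Scheme.{u} :=
  fun _ _ g (hg : IsOpenImmersion g) => (inferInstance : Mono g)

/-- the canonical map from a chart of the source into the preimage of a chart of the target is an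
open immersion. -/
theorem repWith_lift {X Y : Sp S} (f : X ⟶ Y) {U V : Over S} (a : (yon S).obj U ⟶ X)
    (b : (yon S).obj V ⟶ Y) (g : U ⟶ V)
    (ha : RepWith @IsOpenImmersion a) (hb : RepWith @IsOpenImmersion b)
    (comm : a ≫ f = (yon S).map g ≫ b)
    {Q : Sp S} (q1 : Q ⟶ X) (q2 : Q ⟶ (yon S).obj V) (sq : IsPullback q1 q2 f b) :
    RepWith @IsOpenImmersion (sq.lift a ((yon S).map g) comm) := by
  have hq1 : RepWith @IsOpenImmersion q1 := MorphismProperty.of_isPullback sq.flip hb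
  haveI : Mono q1 := mono_of_repWith openImm_le_mono hq1
  have h1 : sq.lift a ((yon S).map g) comm ≫ q1 = a := sq.lift_fst _ _ _
  have sq' : IsPullback (𝟙 ((yon S).obj U)) (sq.lift a ((yon S).map g) comm) a q1 :=
    IsPullback.of_horiz_isIso_mono ⟨by rw [Category.id_comp, h1]⟩
  exact MorphismProperty.of_isPullback sq' ha

/-- if the canonical map is surjective on points the square is cartesian. -/
theorem isPullback_of_surjective {X Y : Sp S} (f : X ⟶ Y) {U V : Over S} (a : (yon S).obj U ⟶ X)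
    (b : (yon S).obj V ⟶ Y) (g : U ⟶ V)
    (ha : RepWith @IsOpenImmersion a) (hb : RepWith @IsOpenImmersion b)
    (comm : a ≫ f = (yon S).map g ≫ b)
    {Q : Sp S} (q1 : Q ⟶ X) (q2 : Q ⟶ (yon S).obj V) (sq : IsPullback q1 q2 f b)
    (hs : Function.Surjective (Points.map (sq.lift a ((yon S).map g) comm))) :
    IsPullback a ((yon S).map g) f b := by
  haveI : IsIso (sq.lift a ((yon S).map g) comm) :=
    isIso_of_isOpenImmersion_of_points_surjective (repWith_lift f a b g ha hb comm q1 q2 sq) hs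
  exact IsPullback.of_iso sq (asIso (sq.lift a ((yon S).map g) comm)).symm (Iso.refl _) (Iso.refl _)
    (Iso.refl _) (by simp) (by simp) (by simp) (by simp)

end Groth.Agent.H7.GenFin

namespace Groth.Agent.H7.GenFin

open _root_.AlgSp Groth.Agent.H5.AlgSp Groth.Agent.H1.AlgSpDim Groth.Agent.H7.QFib
open Groth.Agent.H3.Decent

variable {S : Scheme.{u}}

/-- (6) ⇒ (5). -/
theorem unique_of_pullback {X Y : AlgSp.Space S} (hXi : AlgSp.IsIntegralSp X.obj)
    (hYi : AlgSp.IsIntegralSp Y.obj)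
    (f : X ⟶ Y) (hft : AlgSp.LocP @LocallyOfFiniteType f.hom) (hd : AlgSp.IsDominantMor f.hom)
    (x : AlgSp.Points X.obj) (hx : IsGenericPoint x (Set.univ : Set (AlgSp.Points X.obj)))
    (y : AlgSp.Points Y.obj) (hy : IsGenericPoint y (Set.univ : Set (AlgSp.Points Y.obj)))
    {U V : Over S} (a : (AlgSp.yon S).obj U ⟶ X.obj) (b : (AlgSp.yon S).obj V ⟶ Y.obj) (g : U ⟶ V)
    [Nonempty ↥V.left] (hb : AlgSp.RepWith @IsOpenImmersion b)
    (sq : IsPullback a ((AlgSp.yon S).map g) f.hom b) (hfin : IsFinite g.left) :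
    ∀ x' : AlgSp.Points X.obj, AlgSp.Points.map f.hom x' = y → x' = x := by
  have ha : RepWith @IsOpenImmersion a := MorphismProperty.of_isPullback sq.flip hb
  have hxy : Points.map f.hom x = y := map_generic_eq Y.property hYi.2.1 f.hom hd x hx y hy
  obtain ⟨v, hv⟩ := generic_mem_range_of_openImm Y.property hy b hb
  obtain ⟨z, hz1, hz2⟩ := points_pullback_surjective sq x (Points.ofScheme V v) (by
    rw [hxy, ← hv, Points.ofPt_eq_map_ofScheme])
  haveI : Nonempty ↥U.left := ⟨Points.toScheme U z⟩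
  exact unique_of_finite_affine hXi hYi f hft hd x hx y hy a b g ha hb sq.w inferInstance

end Groth.Agent.H7.GenFin

namespace Groth.Agent.H7.GenFin

open _root_.AlgSp Groth.Agent.H5.AlgSp Groth.Agent.H1.AlgSpDim Groth.Agent.H7.QFib
open Groth.Agent.H3.Decent

variable {S : Scheme.{u}}

/-- separated case: the chart fills the preimage. -/
theorem surjective_lift_of_separated {X Y : AlgSp.Space S}
    (f : X ⟶ Y) (hsep : AlgSp.IsSeparatedMor f.hom)
    (x : AlgSp.Points X.obj) (hx : IsGenericPoint x (Set.univ : Set (AlgSp.Points X.obj)))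
    {U V : Over S} [Nonempty ↥U.left] (a : (AlgSp.yon S).obj U ⟶ X.obj)
    (b : (AlgSp.yon S).obj V ⟶ Y.obj) (g : U ⟶ V)
    (ha : AlgSp.RepWith @IsOpenImmersion a) (hb : AlgSp.RepWith @IsOpenImmersion b)
    (comm : a ≫ f.hom = (AlgSp.yon S).map g ≫ b) (hfin : IsFinite g.left)
    {Q : Sp S} (q1 : Q ⟶ X.obj) (q2 : Q ⟶ (yon S).obj V) (sq : IsPullback q1 q2 f.hom b) :
    Function.Surjective (Points.map (sq.lift a ((yon S).map g) comm)) := by
  have hQ : IsAlgSpace Q :=
    isAlgSpace_pullback Y.property.diag X.property (IsAlgSpace.yon_obj V) sq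
  obtain ⟨j, hjdef⟩ : ∃ j, j = sq.lift a ((yon S).map g) comm := ⟨_, rfl⟩
  rw [← hjdef]
  have hj : RepWith @IsOpenImmersion j := by
    rw [hjdef]; exact repWith_lift f.hom a b g ha hb comm q1 q2 sq
  have hj1 : j ≫ q1 = a := by rw [hjdef]; exact sq.lift_fst _ _ _
  have hj2 : j ≫ q2 = (yon S).map g := by rw [hjdef]; exact sq.lift_snd _ _ _
  have hq2sep : IsSeparatedMor q2 :=
    MorphismProperty.of_isPullback (P := (RepWith (S := S) @IsClosedImmersion).diagonal) sq hsep
  have huc : IsUnivClosedMor (j ≫ q2) := by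
    rw [hj2]
    exact isUnivClosedMor_of_repWith ((repWith_yon_map_iff @UniversallyClosed g).2 inferInstance)
  have hjuc : IsUnivClosedMor j :=
    isUnivClosedMor_of_comp_of_isSeparatedMor (IsAlgSpace.yon_obj U) hQ (IsAlgSpace.yon_obj V)
      hq2sep huc
  have hcl : IsClosedMap (Points.map j) := hjuc hQ (𝟙 _) (𝟙 _) j (IsPullback.id_horiz j)
  have hop : IsOpenMap (Points.map j) :=
    isOpenMap_points_map_of_etale (repWith_mono openImm_le_etale hj)
  have hq1 : RepWith @IsOpenImmersion q1 := MorphismProperty.of_isPullback sq.flip hb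
  haveI : Mono q1 := mono_of_repWith openImm_le_mono hq1
  have hq1op : IsOpenMap (Points.map q1) :=
    isOpenMap_points_map_of_etale (repWith_mono openImm_le_etale hq1)
  have hq1inj : Function.Injective (Points.map q1) := points_map_injective_of_mono q1
  intro z
  by_contra hz
  have hO : IsOpen (Set.range (Points.map j))ᶜ := hcl.isClosed_range.isOpen_compl
  have hO' : IsOpen (Points.map q1 '' (Set.range (Points.map j))ᶜ) := hq1op _ hO
  have hxO : x ∈ Points.map q1 '' (Set.range (Points.map j))ᶜ := by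
    rw [hx.mem_open_set_iff hO']
    exact ⟨_, Set.mem_univ _, z, hz, rfl⟩
  obtain ⟨z', hz', hz'x⟩ := hxO
  obtain ⟨u, hu⟩ := generic_mem_range_of_openImm X.property hx a ha
  apply hz'
  refine ⟨Points.ofScheme U u, ?_⟩
  apply hq1inj
  rw [hz'x, ← Points.map_comp, hj1, ← hu, Points.ofPt_eq_map_ofScheme]

end Groth.Agent.H7.GenFin


namespace Groth.Agent.H7.GenFin

/-- a generic point outside the image of a closed set under a quasi-compact morphism is outside
the closure of that image. -/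
theorem generic_not_mem_closure_image {W V : Scheme.{u}} (h : W ⟶ V) [QuasiCompact h]
    (Z : Set W) (hZ : IsClosed Z) (η : V) (hη : ∀ v : V, η ⤳ v) (hnot : η ∉ h '' Z) :
    η ∉ closure (h '' Z) := by
  intro hmem
  let I := Scheme.IdealSheafData.vanishingIdeal (X := W) ⟨Z, hZ⟩
  have hr : Set.range I.subschemeι = Z := by
    rw [Scheme.IdealSheafData.range_subschemeι]
    exact Scheme.IdealSheafData.coe_support_vanishingIdeal _
  have hr2 : Set.range (I.subschemeι ≫ h) = h '' Z := by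
    rw [← hr, ← Set.range_comp]
    rfl
  rw [← hr2] at hmem
  obtain ⟨z, hz⟩ := Groth.Agent.H5.exists_specializes_of_mem_closure_range (I.subschemeι ≫ h) η hmem
  have heq : (I.subschemeι ≫ h) z = η := (hz.antisymm (hη _)).eq
  apply hnot
  refine ⟨I.subschemeι z, ?_, heq⟩
  rw [← hr]
  exact ⟨z, rfl⟩

end Groth.Agent.H7.GenFin

namespace Groth.Agent.H7.GenFin

open _root_.AlgSp Groth.Agent.H5.AlgSp Groth.Agent.H1.AlgSpDim Groth.Agent.H7.QFib
open Groth.Agent.H3.Decent

variable {S : Scheme.{u}}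

theorem ofPt_yon_map {T T' : Over S} (φ : T' ⟶ T) (t : ↥T'.left) :
    Points.ofPt ((yon S).map φ) t = Points.ofScheme T (φ.left t) := by
  have := ofPt_yon_map_comp φ (𝟙 ((yon S).obj T)) t
  rwa [Category.comp_id] at this

/-- quasi-compact case: after shrinking the target chart the source chart fills the preimage. -/
theorem exists_shrink_of_quasiCompact {X Y : AlgSp.Space S}
    (f : X ⟶ Y) (hqc : AlgSp.IsQuasiCompactMor f.hom)
    (x : AlgSp.Points X.obj) (hx : IsGenericPoint x (Set.univ : Set (AlgSp.Points X.obj)))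
    (y : AlgSp.Points Y.obj) (hy : IsGenericPoint y (Set.univ : Set (AlgSp.Points Y.obj)))
    (huniq : ∀ x' : AlgSp.Points X.obj, AlgSp.Points.map f.hom x' = y → x' = x)
    {U₀ V₀ : Over S} [IsAffine V₀.left] [Nonempty ↥U₀.left] (a₀ : (AlgSp.yon S).obj U₀ ⟶ X.obj)
    (b₀ : (AlgSp.yon S).obj V₀ ⟶ Y.obj) (g₀ : U₀ ⟶ V₀)
    (ha₀ : AlgSp.RepWith @IsOpenImmersion a₀) (hb₀ : AlgSp.RepWith @IsOpenImmersion b₀)
    (comm₀ : a₀ ≫ f.hom = (AlgSp.yon S).map g₀ ≫ b₀) (hfin : IsFinite g₀.left) :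
    ∃ (V : Over S) (b : (AlgSp.yon S).obj V ⟶ Y.obj) (U : Over S) (g : U ⟶ V)
      (a : (AlgSp.yon S).obj U ⟶ X.obj),
      IsAffine V.left ∧ Nonempty ↥V.left ∧ AlgSp.RepWith @IsOpenImmersion b ∧
        IsPullback a ((AlgSp.yon S).map g) f.hom b ∧ IsAffine U.left ∧ IsFinite g.left := by
  haveI : Nonempty ↥V₀.left := ⟨g₀.left (Classical.arbitrary _)⟩
  -- the preimage of `V₀`
  obtain ⟨Q₀, q1, q2, sq₀⟩ : ∃ (Q₀ : Sp S) (q1 : Q₀ ⟶ X.obj) (q2 : Q₀ ⟶ (yon S).obj V₀),
      IsPullback q1 q2 f.hom b₀ := ⟨_, _, _, IsPullback.of_hasPullback f.hom b₀⟩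
  have hQ₀qc : IsQuasiCompactSp Q₀ := hqc (IsAlgSpace.yon_obj V₀)
    ((isQuasiCompactSp_yon_iff V₀).2 inferInstance) b₀ q1 q2 sq₀
  obtain ⟨W, c, hW, hce, hcs⟩ := Lim.exists_affine_chart_of_isQuasiCompactSp hQ₀qc
  obtain ⟨h, hh⟩ := (yon S).map_surjective (c ≫ q2)
  obtain ⟨j₀, hj₀def⟩ : ∃ j₀, j₀ = sq₀.lift a₀ ((yon S).map g₀) comm₀ := ⟨_, rfl⟩
  have hj₀ : RepWith @IsOpenImmersion j₀ := by
    rw [hj₀def]; exact repWith_lift f.hom a₀ b₀ g₀ ha₀ hb₀ comm₀ q1 q2 sq₀
  have hj₀1 : j₀ ≫ q1 = a₀ := by rw [hj₀def]; exact sq₀.lift_fst _ _ _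
  have hj₀2 : j₀ ≫ q2 = (yon S).map g₀ := by rw [hj₀def]; exact sq₀.lift_snd _ _ _
  have hRopen : IsOpen (Set.range (Points.map j₀)) :=
    (isOpenMap_points_map_of_etale (repWith_mono openImm_le_etale hj₀)).isOpen_range
  have hq1 : RepWith @IsOpenImmersion q1 := MorphismProperty.of_isPullback sq₀.flip hb₀
  haveI : Mono q1 := mono_of_repWith openImm_le_mono hq1
  have hq1inj : Function.Injective (Points.map q1) := points_map_injective_of_mono q1
  -- the bad closed set
  obtain ⟨Zs, hZsdef⟩ : ∃ Zs : Set ↥W.left, Zs = (Points.ofPt c) ⁻¹' (Set.range (Points.map j₀))ᶜ :=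
    ⟨_, rfl⟩
  have hZs : IsClosed Zs := by
    rw [hZsdef]
    exact hRopen.isClosed_compl.preimage (Points.continuous_ofPt c)
  -- the generic point of `V₀`
  obtain ⟨η, hη⟩ := generic_mem_range_of_openImm Y.property hy b₀ hb₀
  have hemb := isOpenEmbedding_ofPt_of_isOpenImmersion Y.property b₀ hb₀
  have hηgen : ∀ v : ↥V₀.left, η ⤳ v := by
    intro v
    rw [← hemb.isInducing.specializes_iff, hη]
    exact hy.specializes (Set.mem_univ _)
  obtain ⟨ux, hux⟩ := generic_mem_range_of_openImm X.property hx a₀ ha₀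
  have hηnot : η ∉ h.left '' Zs := by
    rintro ⟨w, hw, hwη⟩
    have hw' : Points.ofPt c w ∈ (Set.range (Points.map j₀))ᶜ := by
      rw [hZsdef] at hw; exact hw
    apply hw'
    have e1 : Points.map f.hom (Points.map q1 (Points.ofPt c w)) = y := by
      rw [← Points.map_comp, sq₀.w, Points.map_comp, Points.map_ofPt, ← hh,
        ofPt_yon_map h w, hwη, ← Points.ofPt_eq_map_ofScheme, hη]
    have e2 := huniq _ e1
    refine ⟨Points.ofScheme U₀ ux, hq1inj ?_⟩
    rw [e2, ← Points.map_comp, hj₀1, ← hux, Points.ofPt_eq_map_ofScheme]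
  have hηcl : η ∉ closure (h.left '' Zs) :=
    generic_not_mem_closure_image h.left Zs hZs η hηgen hηnot
  obtain ⟨V, hV, hηV, hVsub⟩ := V₀.left.isBasis_affineOpens.exists_subset_of_mem_open hηcl
    isClosed_closure.isOpen_compl
  obtain ⟨V'₀, hV'₀, rfl⟩ := hV
  obtain ⟨V', hV'def⟩ : ∃ V' : V₀.left.Opens, V' = V'₀ := ⟨V'₀, rfl⟩
  subst hV'def
  have hV' : IsAffineOpen V' := hV'₀
  haveI : IsAffineHom g₀.left := inferInstance
  let VV : Over S := Over.mk (V'.ι ≫ V₀.hom)
  let iV : VV ⟶ V₀ := Over.homMk V'.ι rfl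
  let UU : Over S := Over.mk ((g₀.left ⁻¹ᵁ V').ι ≫ U₀.hom)
  let iU : UU ⟶ U₀ := Over.homMk (g₀.left ⁻¹ᵁ V').ι rfl
  let g : UU ⟶ VV := Over.homMk (g₀.left ∣_ V') (by
    show (g₀.left ∣_ V') ≫ V'.ι ≫ V₀.hom = (g₀.left ⁻¹ᵁ V').ι ≫ U₀.hom
    rw [← Category.assoc, morphismRestrict_ι, Category.assoc, Over.w g₀])
  have hcomm_g : iU ≫ g₀ = g ≫ iV :=
    Over.OverMorphism.ext (morphismRestrict_ι g₀.left V').symm
  have hb : RepWith @IsOpenImmersion ((yon S).map iV ≫ b₀) :=
    (repWith_isMultiplicative (S := S) @IsOpenImmersion).comp_mem _ _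
      ((repWith_yon_map_iff @IsOpenImmersion iV).2 (inferInstance : IsOpenImmersion V'.ι)) hb₀
  have ha : RepWith @IsOpenImmersion ((yon S).map iU ≫ a₀) :=
    (repWith_isMultiplicative (S := S) @IsOpenImmersion).comp_mem _ _
      ((repWith_yon_map_iff @IsOpenImmersion iU).2
        (inferInstance : IsOpenImmersion (g₀.left ⁻¹ᵁ V').ι)) ha₀
  have comm : ((yon S).map iU ≫ a₀) ≫ f.hom = (yon S).map g ≫ (yon S).map iV ≫ b₀ := by
    rw [Category.assoc, comm₀, ← Category.assoc, ← Functor.map_comp, hcomm_g, Functor.map_comp,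
      Category.assoc]
  obtain ⟨Q, q1', q2', sq⟩ : ∃ (Q : Sp S) (q1' : Q ⟶ X.obj) (q2' : Q ⟶ (yon S).obj VV),
      IsPullback q1' q2' f.hom ((yon S).map iV ≫ b₀) := ⟨_, _, _, IsPullback.of_hasPullback _ _⟩
  have hq1' : RepWith @IsOpenImmersion q1' := MorphismProperty.of_isPullback sq.flip hb
  haveI : Mono q1' := mono_of_repWith openImm_le_mono hq1'
  have hq1'inj : Function.Injective (Points.map q1') := points_map_injective_of_mono q1'
  have hsurj : Function.Surjective (Points.map (sq.lift ((yon S).map iU ≫ a₀) ((yon S).map g) comm)) := by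
    intro z
    obtain ⟨v, hv⟩ : ∃ v : ↥VV.left, Points.ofScheme VV v = Points.map q2' z :=
      ⟨Points.toScheme VV _, Points.ofScheme_toScheme VV _⟩
    have key : Points.map f.hom (Points.map q1' z) =
        Points.map b₀ (Points.ofScheme V₀ (iV.left v)) := by
      rw [← Points.map_comp, sq.w, Points.map_comp, ← hv, ← Points.ofPt_eq_map_ofScheme,
        ofPt_yon_map_comp, Points.ofPt_eq_map_ofScheme]
    obtain ⟨z₀, hz₀1, hz₀2⟩ := points_pullback_surjective sq₀ (Points.map q1' z)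
      (Points.ofScheme V₀ (iV.left v)) key
    obtain ⟨w, hw⟩ := ofPt_surjective_of_repWith hcs z₀
    have hhw : h.left w = iV.left v := by
      have e1 : Points.ofScheme V₀ (h.left w) = Points.ofScheme V₀ (iV.left v) := by
        rw [← ofPt_yon_map h w, hh, ← Points.map_ofPt, hw, hz₀2]
      have := congrArg (Points.toScheme V₀) e1
      rwa [Points.toScheme_ofScheme, Points.toScheme_ofScheme] at this
    have hvV : iV.left v ∈ V' := v.2
    have hwZ : w ∉ Zs := by
      intro hwZ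
      have h1 : h.left w ∈ closure (h.left '' Zs) := subset_closure ⟨w, hwZ, rfl⟩
      rw [hhw] at h1
      exact hVsub hvV h1
    have hwR : Points.ofPt c w ∈ Set.range (Points.map j₀) := by
      by_contra hcon
      apply hwZ
      rw [hZsdef]
      exact hcon
    obtain ⟨t, ht⟩ := hwR
    obtain ⟨u₀, hu₀⟩ : ∃ u₀ : ↥U₀.left, Points.ofScheme U₀ u₀ = t :=
      ⟨Points.toScheme U₀ _, Points.ofScheme_toScheme U₀ _⟩
    have hg₀u₀ : g₀.left u₀ = iV.left v := by
      have e1 : Points.ofScheme V₀ (g₀.left u₀) = Points.ofScheme V₀ (iV.left v) := by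
        rw [← ofPt_yon_map g₀ u₀, ← hj₀2, Points.ofPt_eq_map_ofScheme, hu₀, Points.map_comp, ht,
          hw, hz₀2]
      have := congrArg (Points.toScheme V₀) e1
      rwa [Points.toScheme_ofScheme, Points.toScheme_ofScheme] at this
    have hu₀O : u₀ ∈ g₀.left ⁻¹ᵁ V' := by
      show g₀.left u₀ ∈ V'
      rw [hg₀u₀]; exact hvV
    refine ⟨Points.ofScheme UU ⟨u₀, hu₀O⟩, hq1'inj ?_⟩
    rw [← Points.map_comp, sq.lift_fst, ← Points.ofPt_eq_map_ofScheme, ofPt_yon_map_comp,
      ← hz₀1, ← hw, ← ht, ← Points.map_comp, hj₀1, ← hu₀, ← Points.ofPt_eq_map_ofScheme]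
    rfl
  have hpb := isPullback_of_surjective f.hom ((yon S).map iU ≫ a₀) ((yon S).map iV ≫ b₀) g ha hb comm
    q1' q2' sq hsurj
  refine ⟨VV, (yon S).map iV ≫ b₀, UU, g, (yon S).map iU ≫ a₀, hV', ⟨⟨η, hηV⟩⟩, hb, hpb,
    hV'.preimage g₀.left, ?_⟩
  exact MorphismProperty.of_isPullback (P := @IsFinite)
    (isPullback_morphismRestrict g₀.left V').flip hfin

end Groth.Agent.H7.GenFin

namespace Groth.Agent.H7.GenFin

open _root_.AlgSp Groth.Agent.H5.AlgSp Groth.Agent.H1.AlgSpDim Groth.Agent.H7.QFib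
open Groth.Agent.H3.Decent

variable {S : Scheme.{u}}

/-- S10488. -/
theorem S10488_main {X Y : AlgSp.Space S} (hXi : AlgSp.IsIntegralSp X.obj)
    (hYi : AlgSp.IsIntegralSp Y.obj)
    (f : X ⟶ Y) (hft : AlgSp.LocP @LocallyOfFiniteType f.hom) (hd : AlgSp.IsDominantMor f.hom)
    (x : AlgSp.Points X.obj) (hx : IsGenericPoint x (Set.univ : Set (AlgSp.Points X.obj)))
    (y : AlgSp.Points Y.obj) (hy : IsGenericPoint y (Set.univ : Set (AlgSp.Points Y.obj)))
    (hsq : AlgSp.IsSeparatedMor f.hom ∨ AlgSp.IsQuasiCompactMor f.hom) :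
    (∀ x' : AlgSp.Points X.obj, AlgSp.Points.map f.hom x' = y → x' = x) ↔
      ∃ (V : Over S) (b : (AlgSp.yon S).obj V ⟶ Y.obj) (U : Over S) (g : U ⟶ V)
        (a : (AlgSp.yon S).obj U ⟶ X.obj),
        IsAffine V.left ∧ Nonempty ↥V.left ∧ AlgSp.RepWith @IsOpenImmersion b ∧
          IsPullback a ((AlgSp.yon S).map g) f.hom b ∧ IsAffine U.left ∧ IsFinite g.left := by
  constructor
  · intro huniq
    have hxy : Points.map f.hom x = y := map_generic_eq Y.property hYi.2.1 f.hom hd x hx y hy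
    obtain ⟨U₀, V₀, a₀, b₀, g₀, hU₀, hV₀, hne, ha₀, hb₀, comm₀, hfin⟩ :=
      exists_finite_affine_of_unique hXi hYi f hft x hx y hy hxy huniq
    haveI := hne
    haveI := hV₀
    rcases hsq with hsep | hqc
    · have hs := surjective_lift_of_separated f hsep x hx a₀ b₀ g₀ ha₀ hb₀ comm₀ hfin
        _ _ (IsPullback.of_hasPullback f.hom b₀)
      have hpb := isPullback_of_surjective f.hom a₀ b₀ g₀ ha₀ hb₀ comm₀ _ _
        (IsPullback.of_hasPullback f.hom b₀) hs
      exact ⟨V₀, b₀, U₀, g₀, a₀, hV₀, ⟨g₀.left (Classical.arbitrary _)⟩, hb₀, hpb, hU₀, hfin⟩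
    · exact exists_shrink_of_quasiCompact f hqc x hx y hy huniq a₀ b₀ g₀ ha₀ hb₀ comm₀ hfin
  · rintro ⟨V, b, U, g, a, -, hne, hb, sq, -, hfin⟩
    haveI := hne
    exact unique_of_pullback hXi hYi f hft hd x hx y hy a b g hb sq hfin

end Groth.Agent.H7.GenFin
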