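import Groth.Agent.Lib.Helper7.RHZ
import Mathlib.RingTheory.Unramified.Field

/-! A finite separable extension of a geometric function field is geometric (helper7). -/

set_option autoImplicit false
set_option linter.unusedSectionVars false

namespace Groth.Agent.H7.GeoSep

open FunFld TensorProduct

universe u v

section fieldCrit

variable {k : Type*} {ℓ K' : Type*} [Field k] [Field ℓ] [Field K'] [Algebra k ℓ] [Algebra k K']
  [FiniteDimensional k ℓ]

/-- the map from the separable part -/
noncomputable def sepMap : (separableClosure k ℓ) ⊗[k] K' →ₐ[k] ℓ ⊗[k] K' :=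
  Algebra.TensorProduct.map (separableClosure k ℓ).val (AlgHom.id k K')

lemma sepMap_injective : Function.Injective (sepMap (k := k) (ℓ := ℓ) (K' := K')) := by
  unfold sepMap
  exact Module.Flat.rTensor_preserves_injective_linearMap
    ((separableClosure k ℓ).val.toLinearMap) (separableClosure k ℓ).val.injective

/-- a `p`-power of every element of `ℓ ⊗ K'` comes from the separable part -/
lemma exists_pow_mem_range (p : ℕ) [ExpChar k p] (z : ℓ ⊗[k] K') :
    ∃ n : ℕ, z ^ p ^ n ∈ (sepMap (k := k) (ℓ := ℓ) (K' := K')).range := by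
  haveI : ExpChar (ℓ ⊗[k] K') p :=
    expChar_of_injective_algebraMap (algebraMap k (ℓ ⊗[k] K')).injective p
  induction z using TensorProduct.induction_on with
  | zero =>
    refine ⟨0, ?_⟩
    rw [pow_zero, pow_one]
    exact Subalgebra.zero_mem _
  | tmul a y =>
    obtain ⟨n, b, hb⟩ := IsPurelyInseparable.pow_mem (separableClosure k ℓ) p a
    refine ⟨n, b ⊗ₜ (y ^ p ^ n), ?_⟩
    rw [Algebra.TensorProduct.tmul_pow, ← hb]
    rfl
  | add z₁ z₂ h₁ h₂ =>
    obtain ⟨n₁, hn₁⟩ := h₁
    obtain ⟨n₂, hn₂⟩ := h₂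
    refine ⟨n₁ + n₂, ?_⟩
    rw [add_pow_expChar_pow]
    refine Subalgebra.add_mem _ ?_ ?_
    · rw [pow_add, pow_mul]
      exact Subalgebra.pow_mem _ hn₁ _
    · rw [add_comm n₁ n₂, pow_add, pow_mul]
      exact Subalgebra.pow_mem _ hn₂ _

/-- if `k` is algebraically closed in `K'` and `ℓ ⊗ K'` is reduced, it is a field -/
theorem isField_of_isReduced
    (hcl : ∀ y : K', IsAlgebraic k y → y ∈ Set.range (algebraMap k K'))
    [IsReduced (ℓ ⊗[k] K')] : IsField (ℓ ⊗[k] K') := by
  obtain ⟨p, hp⟩ := ExpChar.exists k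
  have hRs : IsField ((separableClosure k ℓ) ⊗[k] K') :=
    isField_tensor_of_isSeparable hcl (separableClosure k ℓ)
  letI : Field ((separableClosure k ℓ) ⊗[k] K') := hRs.toField
  haveI : Nontrivial (ℓ ⊗[k] K') :=
    (sepMap_injective (k := k) (ℓ := ℓ) (K' := K')).nontrivial
  refine ⟨exists_pair_ne _, mul_comm, fun {z} hz => ?_⟩
  obtain ⟨n, w, hw⟩ := exists_pow_mem_range p z
  have hw0 : w ≠ 0 := by
    rintro rfl
    rw [map_zero] at hw
    exact hz (IsReduced.eq_zero z ⟨p ^ n, hw.symm⟩)
  have hu : IsUnit (z ^ p ^ n) := by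
    rw [← hw]
    exact (isUnit_iff_ne_zero.2 hw0).map _
  have hpn : p ^ n ≠ 0 := pow_ne_zero _ (expChar_pos k p).ne'
  have hz' : IsUnit z := (isUnit_pow_iff hpn).1 hu
  obtain ⟨u, rfl⟩ := hz'
  exact ⟨↑u⁻¹, u.mul_inv⟩

end fieldCrit

section reduced

variable {k : Type*} {K K' ℓ : Type*} [Field k] [Field K] [Field K'] [Field ℓ] [Algebra k ℓ]
  [Algebra k K] [Algebra K K'] [Algebra k K'] [IsScalarTower k K K'] [FiniteDimensional K K']
  [Algebra.IsSeparable K K']

/-- base change of a finite separable extension along a field `K ⊗ ℓ` is reduced -/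
theorem isReduced_tensor_of_isSeparable (hL : IsField (K ⊗[k] ℓ)) : IsReduced (ℓ ⊗[k] K') := by
  letI : Field (K ⊗[k] ℓ) := hL.toField
  haveI : Algebra.FormallyUnramified K K' := Algebra.FormallyUnramified.of_isSeparable K K'
  haveI : IsReduced ((K ⊗[k] ℓ) ⊗[K] K') :=
    Algebra.FormallyUnramified.isReduced_of_field (K ⊗[k] ℓ) _
  let e1 : ℓ ⊗[k] K' ≃ₐ[k] K' ⊗[k] ℓ := Algebra.TensorProduct.comm k ℓ K'
  let e2 : K' ⊗[K] (K ⊗[k] ℓ) ≃ₐ[K] K' ⊗[k] ℓ := Algebra.TensorProduct.cancelBaseChange k K K K' ℓ
  let e3 : K' ⊗[K] (K ⊗[k] ℓ) ≃ₐ[K] (K ⊗[k] ℓ) ⊗[K] K' := Algebra.TensorProduct.comm K K' _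
  let E : ℓ ⊗[k] K' ≃+* (K ⊗[k] ℓ) ⊗[K] K' :=
    e1.toRingEquiv.trans (e2.symm.toRingEquiv.trans e3.toRingEquiv)
  exact isReduced_of_injective E E.injective

end reduced

section main

variable {k : Type u} {K K' : Type v} [Field k] [Field K] [Field K'] [Algebra k K] [Algebra K K']
  [Algebra k K'] [IsScalarTower k K K'] [FiniteDimensional K K'] [Algebra.IsSeparable K K']

/-- a finite separable extension with the same constant field of a geometric function field is
geometric -/
theorem isGeometric_of_isSeparable_sameConst (hg : IsGeometric k K)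
    (hcl : ∀ y : K', IsAlgebraic k y → y ∈ Set.range (algebraMap k K')) : IsGeometric k K' := by
  intro ℓ _ _ hfin
  haveI := hfin
  have hL : IsField (K ⊗[k] ℓ) :=
    (Algebra.TensorProduct.comm k K ℓ).toMulEquiv.isField (hg ℓ hfin)
  haveI := isReduced_tensor_of_isSeparable (K' := K') hL
  exact isField_of_isReduced hcl

end main

section const

variable {k k' K K' : Type*} [Field k] [Field k'] [Field K] [Field K']
  [Algebra k k'] [Algebra k K] [Algebra K K'] [Algebra k' K'] [Algebra k K']
  [IsScalarTower k k' K'] [IsScalarTower k K K'] [FiniteDimensional K K']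

/-- the constant field of a finite extension is finite over the constant field -/
theorem finiteDimensional_const (hK : IsFunctionField k K) (hK' : IsFunctionField k' K') :
    FiniteDimensional k k' := by
  have hE1 : IsFF1 k K' := hK.isFF1.of_finite
  haveI := RH.finiteDimensional_algebraicClosure hE1
  have halg : Algebra.IsAlgebraic k k' := by
    rw [← trdeg_eq_zero_iff]
    have h2 := lift_trdeg_add_eq k k' K'
    rw [hE1.trdeg_eq_one, hK'.isFF1.trdeg_eq_one] at h2
    simp only [Cardinal.lift_one] at h2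
    have h3 := Cardinal.eq_of_add_eq_add_right (c := 0) (by rw [h2, zero_add])
      Cardinal.one_lt_aleph0
    simpa using h3
  let f : k' →ₗ[k] algebraicClosure k K' :=
    { toFun := fun c => ⟨algebraMap k' K' c,
        mem_algebraicClosure_iff.2 ((Algebra.IsAlgebraic.isAlgebraic c).algebraMap)⟩
      map_add' := fun a b => Subtype.ext (map_add _ a b)
      map_smul' := fun c a => by
        apply Subtype.ext
        simp only [RingHom.id_apply]
        change algebraMap k' K' (c • a) = c • algebraMap k' K' a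
        rw [Algebra.smul_def, map_mul, ← IsScalarTower.algebraMap_apply, Algebra.smul_def] }
  exact Module.Finite.of_injective f
    (fun a b hab => (algebraMap k' K').injective (Subtype.ext_iff.1 hab))

end const

section S11010

variable {k k' : Type u} {K K' : Type v} [Field k] [Field k'] [Field K] [Field K']
  [Algebra k k'] [Algebra k K] [Algebra K K'] [Algebra k' K'] [Algebra k K']
  [IsScalarTower k k' K'] [IsScalarTower k K K'] [FiniteDimensional K K']
  [Algebra.IsSeparable K K']

/-- **S11010** -/
theorem isGeometric_of_isSeparable (hK : IsFunctionField k K) (hg : IsGeometric k K)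
    (hK' : IsFunctionField k' K') : IsGeometric k' K' := by
  haveI hfd : FiniteDimensional k k' := finiteDimensional_const hK hK'
  have h := RH.bijective_Ms_of_isField (F := K') (hg k' hfd)
  obtain ⟨hM, hgM⟩ := FF.constExt h hK hg
  exact isGeometric_of_isSeparable_sameConst (k := k') (K := RH.Ms k' K K') (K' := K') hgM hK'.2

end S11010

end Groth.Agent.H7.GeoSep
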