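import Groth.Agent.Lib.Helper5.AlgSp.QCompact
import Groth.Agent.Lib.Helper5.AlgSp.ProdSp
import Groth.Agent.Lib.Helper5.AlgSp.FibreProduct
import Groth.Agent.Lib.Helper8.AlgSp.OverField
import Groth.Agent.Lib.Helper8.AlgSp.InvMax
import Groth.Agent.Lib.Helper1.GeomConn
import Mathlib

/-!
# Connected components of base changes of algebraic spaces over fields
(S10466, S10467, S10468, S10501)
-/

set_option autoImplicit false
universe u

open AlgebraicGeometry CategoryTheory Limits TensorProduct

namespace Groth.Agent.H7.GeomConnSp

open _root_.AlgSp Groth.Agent.H5.AlgSp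

variable {S : Scheme.{u}}

section fibre

/-- the space of points of the spectrum of a field is a singleton. -/
theorem points_field_eq {K : Type u} [Field K] (str : Spec (CommRingCat.of K) ⟶ S)
    (w : Points ((yon S).obj (Over.mk str))) :
    w = Points.ofScheme (Over.mk str) (IsLocalRing.closedPoint K) := by
  obtain ⟨t, rfl⟩ := ofScheme_surjective (Over.mk str) w
  congr 1
  exact Subsingleton.elim (α := PrimeSpectrum K) _ _

/-- the fibres of a base change `X' ⟶ X` of `s : Z ⟶ h_T` are connected as soon as the base
changes of `s` to field points of `T` are connected. -/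
theorem isConnected_fibre' {X X' Z : Sp S} {T : Over S} (s : Z ⟶ (yon S).obj T)
    (r : X ⟶ (yon S).obj T) (p : X' ⟶ X) (q : X' ⟶ Z) (sq : IsPullback p q r s)
    (hconn : ∀ (K : Type u) [Field K] (str : Spec (CommRingCat.of K) ⟶ S) (h : Over.mk str ⟶ T)
      (P : Sp S) (fst : P ⟶ (yon S).obj (Over.mk str)) (snd : P ⟶ Z),
      IsPullback fst snd ((yon S).map h) s → ConnectedSpace (Points P)) (x : Points X) :
    IsConnected (Points.map p ⁻¹' {x}) := by
  obtain ⟨K, _, str, ξ, rfl⟩ := exists_fpOfHom x
  obtain ⟨h, hh⟩ := (yon S).map_surjective (ξ ≫ r)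
  have sqP := IsPullback.of_hasPullback ((yon S).map h) s
  haveI := hconn K str h _ _ _ sqP
  have hw : (pullback.fst ((yon S).map h) s ≫ ξ) ≫ r = pullback.snd ((yon S).map h) s ≫ s := by
    rw [Category.assoc, ← hh, pullback.condition]
  obtain ⟨l, hl⟩ : ∃ l, l = sq.lift _ _ hw := ⟨_, rfl⟩
  have hc1 : l ≫ q = pullback.snd ((yon S).map h) s := by rw [hl]; exact sq.lift_snd _ _ _
  have hc2 : l ≫ p = pullback.fst ((yon S).map h) s ≫ ξ := by rw [hl]; exact sq.lift_fst _ _ _
  have left : IsPullback l (pullback.fst ((yon S).map h) s) p ξ := by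
    refine IsPullback.of_right (h₁₂ := q) (h₂₂ := r) ?_ hc2 sq.flip
    rw [hc1, ← hh]
    exact sqP.flip
  have hpt : Points.map ξ (Points.ofScheme (Over.mk str) (IsLocalRing.closedPoint K)) =
      Points.mk (fpOfHom str ξ) := by
    rw [← Points.ofPt_eq_map_ofScheme, ofPt_closedPoint]
  have hrange : Points.map p ⁻¹' {Points.mk (fpOfHom str ξ)} = Set.range (Points.map l) := by
    ext z
    constructor
    · intro hz
      obtain ⟨w, hw1, -⟩ := points_pullback_surjective left z
        (Points.ofScheme (Over.mk str) (IsLocalRing.closedPoint K)) (by rw [hpt]; exact hz)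
      exact ⟨w, hw1⟩
    · rintro ⟨w, rfl⟩
      change Points.map p (Points.map l w) = _
      rw [← Points.map_comp, hc2, Points.map_comp, points_field_eq str (Points.map _ w), hpt]
  rw [hrange]
  exact isConnected_range (Points.continuous_map l)

end fibre


theorem connectedSpace_of_bijective {A B : Type*} [TopologicalSpace A] [TopologicalSpace B]
    {f : A → B} (hf : Continuous f) (hb : Function.Bijective hf.connectedComponentsMap)
    [ConnectedSpace B] : ConnectedSpace A := by
  haveI : Subsingleton (ConnectedComponents A) := hb.injective.subsingleton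
  haveI : Nonempty A := by
    obtain ⟨c, -⟩ := hb.surjective (ConnectedComponents.mk (Classical.arbitrary B))
    exact ConnectedComponents.nonempty_iff_nonempty.1 ⟨c⟩
  refine { toPreconnectedSpace := preconnectedSpace_iff_connectedComponent.2 fun x => ?_,
           toNonempty := ‹_› }
  ext y
  simp only [Set.mem_univ, iff_true]
  have h : (ConnectedComponents.mk x) = ConnectedComponents.mk y := Subsingleton.elim _ _
  rw [ConnectedComponents.coe_eq_coe] at h
  rw [h]
  exact mem_connectedComponent

section bij

/-- a base change `X' ⟶ X` of a morphism `s : Z ⟶ Spec E` from an algebraic space to the spectrum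
of a field, all of whose base changes to field points are connected, induces a bijection on
connected components. -/
theorem bijective_connectedComponentsMap {X X' Z : Sp S} (hX : IsAlgSpace X) (hZ : IsAlgSpace Z)
    {T : Over S} [IsIntegral T.left] [Subsingleton T.left]
    (s : Z ⟶ (yon S).obj T) (r : X ⟶ (yon S).obj T) (p : X' ⟶ X) (q : X' ⟶ Z)
    (sq : IsPullback p q r s)
    (hconn : ∀ (K : Type u) [Field K] (str : Spec (CommRingCat.of K) ⟶ S) (h : Over.mk str ⟶ T)
      (P : Sp S) (fst : P ⟶ (yon S).obj (Over.mk str)) (snd : P ⟶ Z),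
      IsPullback fst snd ((yon S).map h) s → ConnectedSpace (Points P)) :
    Function.Bijective (Continuous.connectedComponentsMap (Points.continuous_map p)) := by
  have hfib := isConnected_fibre' s r p q sq hconn
  have hopen : IsOpenMap (Points.map p) :=
    Groth.Agent.H8.AlgSp.isOpenMor_of_isUnivOpenMor hX
      (Groth.Agent.H8.AlgSp.flat_univOpen_of_isPullback_field hZ hX sq.flip).2
  have hsurj : Function.Surjective (Points.map p) := fun x => (hfib x).nonempty
  exact (hopen.isQuotientMap (Points.continuous_map p)
    hsurj).isCoinducing.connectedComponentsMap_bijective hfib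

end bij


theorem connectedSpace_pullback_field {E Ω L : Type u} [Field E] [Field Ω] [Field L] [IsSepClosed E]
    [Algebra E Ω] (h : Spec (CommRingCat.of L) ⟶ Spec (CommRingCat.of E)) :
    ConnectedSpace ↥(pullback h (Spec.map (CommRingCat.ofHom (algebraMap E Ω)))) := by
  obtain ⟨φ, rfl⟩ := Spec.map_surjective h
  letI : Algebra E L := φ.hom.toAlgebra
  have hφ : φ = CommRingCat.ofHom (algebraMap E L) := rfl
  rw [hφ]
  haveI : ConnectedSpace (PrimeSpectrum (L ⊗[E] Ω)) :=
    Groth.Agent.H1.GeomConn.connectedSpace_tensor_sepClosed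
  have e := (pullbackSpecIso E L Ω)
  haveI : ConnectedSpace ↥(Spec (CommRingCat.of (L ⊗[E] Ω))) :=
    (inferInstance : ConnectedSpace (PrimeSpectrum (L ⊗[E] Ω)))
  exact (e.hom.homeomorph).symm.surjective.connectedSpace (e.hom.homeomorph).symm.continuous

section rep

/-- an isomorphism of sheaves transports connectedness of the space of points. -/
theorem connectedSpace_points_of_iso {P Q : Sp S} (e : P ≅ Q) [ConnectedSpace (Points P)] :
    ConnectedSpace (Points Q) := by
  have hs : Function.Surjective (Points.map e.hom) := fun y =>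
    ⟨Points.map e.inv y, by rw [← Points.map_comp, e.inv_hom_id, Points.map_id]⟩
  exact hs.connectedSpace (Points.continuous_map e.hom)

/-- the space of points of a representable sheaf is connected iff the scheme is. -/
theorem connectedSpace_points_yon (W : Over S) [ConnectedSpace ↥W.left] :
    ConnectedSpace (Points ((yon S).obj W)) :=
  (Points.schemeHomeo W).surjective.connectedSpace (Points.schemeHomeo W).continuous

/-- the fibre product of representable sheaves is connected as soon as the fibre product of
schemes is. -/
theorem connectedSpace_points_of_isPullback_yon {T T' V : Over S} (h : V ⟶ T) (g : T' ⟶ T)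
    [ConnectedSpace ↥(pullback h.left g.left)] (P : Sp S) (fst : P ⟶ (yon S).obj V)
    (snd : P ⟶ (yon S).obj T') (sq : IsPullback fst snd ((yon S).map h) ((yon S).map g)) :
    ConnectedSpace (Points P) := by
  let W' : Over S := Over.mk (pullback.fst h.left g.left ≫ V.hom)
  let pr1 : W' ⟶ V := Over.homMk (pullback.fst h.left g.left) rfl
  let k' : W' ⟶ T' := Over.homMk (pullback.snd h.left g.left) (by
    change pullback.snd h.left g.left ≫ T'.hom = pullback.fst h.left g.left ≫ V.hom
    rw [← Over.w g, ← Over.w h, pullback.condition_assoc])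
  have hcomm : pr1 ≫ h = k' ≫ g := Over.OverMorphism.ext pullback.condition
  have hsq : IsPullback pr1 k' h g :=
    IsPullback.of_map (Over.forget S) hcomm (IsPullback.of_hasPullback h.left g.left)
  have hsqy := hsq.map (yon S)
  haveI : ConnectedSpace ↥W'.left := (inferInstance : ConnectedSpace ↥(pullback h.left g.left))
  haveI := connectedSpace_points_yon W'
  exact connectedSpace_points_of_iso (hsqy.isoIsPullback _ _ sq)

end rep


section field

variable (k : Type u) [Field k]

/-- the spectrum of a field extension, as a scheme over `Spec k`. -/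
noncomputable abbrev pt (K : Type u) [Field K] [Algebra k K] : Over (Spec (CommRingCat.of k)) :=
  Over.mk (Spec.map (CommRingCat.ofHom (algebraMap k K)))

/-- the terminal scheme over `Spec k`. -/
noncomputable abbrev Tm : Over (Spec (CommRingCat.of k)) := Over.mk (𝟙 (Spec (CommRingCat.of k)))

/-- `h_{Spec k}` is terminal. -/
noncomputable def hT : IsTerminal ((yon (Spec (CommRingCat.of k))).obj (Tm k)) :=
  IsTerminal.isTerminalObj (yon (Spec (CommRingCat.of k))) _ Over.mkIdTerminal

/-- the structure morphism of `Spec K`. -/
noncomputable abbrev gT (K : Type u) [Field K] [Algebra k K] : pt k K ⟶ Tm k :=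
  Over.homMk (Spec.map (CommRingCat.ofHom (algebraMap k K))) (by simp)

/-- the morphism `Spec Ω ⟶ Spec K` of a tower. -/
noncomputable abbrev gTower (K Ω : Type u) [Field K] [Algebra k K] [Field Ω] [Algebra k Ω] [Algebra K Ω]
    [IsScalarTower k K Ω] : pt k Ω ⟶ pt k K :=
  Over.homMk (Spec.map (CommRingCat.ofHom (algebraMap K Ω))) (by
    change Spec.map (CommRingCat.ofHom (algebraMap K Ω)) ≫
      Spec.map (CommRingCat.ofHom (algebraMap k K)) = Spec.map (CommRingCat.ofHom (algebraMap k Ω))
    rw [← Spec.map_comp, ← CommRingCat.ofHom_comp, ← IsScalarTower.algebraMap_eq])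

instance : IsIntegral (Tm k).left := (inferInstance : IsIntegral (Spec (CommRingCat.of k)))
instance : Subsingleton ↥(Tm k).left := (inferInstance : Subsingleton (PrimeSpectrum k))
instance (K : Type u) [Field K] [Algebra k K] : IsIntegral (pt k K).left :=
  (inferInstance : IsIntegral (Spec (CommRingCat.of K)))
instance (K : Type u) [Field K] [Algebra k K] : Subsingleton ↥(pt k K).left :=
  (inferInstance : Subsingleton (PrimeSpectrum K))

variable {k}

/-- the product with `Spec K` as a fibre product over the terminal object. -/
theorem isPullback_prod (X Y : Sp (Spec (CommRingCat.of k))) :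
    IsPullback (prod.fst : X ⨯ Y ⟶ X) prod.snd ((hT k).from X) ((hT k).from Y) :=
  IsPullback.of_is_product' (prodIsProd X Y) (hT k)

theorem isAlgSpace_prod {X Y : Sp (Spec (CommRingCat.of k))} (hX : IsAlgSpace X)
    (hY : IsAlgSpace Y) : IsAlgSpace (X ⨯ Y) :=
  isAlgSpace_pullback (IsAlgSpace.yon_obj (Tm k)).diag hX hY (isPullback_prod X Y)

/-- the base change maps over a separably closed field are bijective on connected components
(general tower form). -/
theorem bijective_tower (X : Sp (Spec (CommRingCat.of k))) (hX : IsAlgSpace X)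
    (K Ω : Type u) [Field K] [Algebra k K] [IsSepClosed K] [Field Ω] [Algebra k Ω] [Algebra K Ω]
    [IsScalarTower k K Ω] :
    Function.Bijective (Continuous.connectedComponentsMap (Points.continuous_map
      (prod.map (𝟙 X) ((yon (Spec (CommRingCat.of k))).map (gTower k K Ω))))) := by
  have sq := (isPullback_prod_snd_with_id ((yon (Spec (CommRingCat.of k))).map (gTower k K Ω)) X).flip
  refine bijective_connectedComponentsMap (isAlgSpace_prod hX (IsAlgSpace.yon_obj _))
    (IsAlgSpace.yon_obj _) (T := pt k K) _ _ _ _ sq ?_
  intro L _ str h P fst snd sqP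
  haveI : ConnectedSpace ↥(pullback h.left (gTower k K Ω).left) :=
    connectedSpace_pullback_field (E := K) (Ω := Ω) h.left
  exact connectedSpace_points_of_isPullback_yon h (gTower k K Ω) P fst snd sqP


/-- S10467 (general form): over a separably closed field, `X_K ⟶ X` is bijective on connected
components. -/
theorem bijective_fst [IsSepClosed k] (X : Sp (Spec (CommRingCat.of k))) (hX : IsAlgSpace X)
    (K : Type u) [Field K] [Algebra k K] :
    Function.Bijective (Continuous.connectedComponentsMap (Points.continuous_map
      (prod.fst : X ⨯ (yon (Spec (CommRingCat.of k))).obj (pt k K) ⟶ X))) := by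
  have sq := isPullback_prod X ((yon (Spec (CommRingCat.of k))).obj (pt k K))
  have he : (hT k).from ((yon (Spec (CommRingCat.of k))).obj (pt k K)) =
      (yon (Spec (CommRingCat.of k))).map (gT k K) := (hT k).hom_ext _ _
  rw [he] at sq
  refine bijective_connectedComponentsMap hX (IsAlgSpace.yon_obj _) (T := Tm k) _ _ _ _ sq ?_
  intro L _ str h P fst snd sqP
  haveI : ConnectedSpace ↥(pullback h.left (gT k K).left) :=
    connectedSpace_pullback_field (E := k) (Ω := K) h.left
  exact connectedSpace_points_of_isPullback_yon h (gT k K) P fst snd sqP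

/-- the base change map `X_Ω ⟶ X_K` of a tower is surjective. -/
theorem surjective_tower (X : Sp (Spec (CommRingCat.of k)))
    (K Ω : Type u) [Field K] [Algebra k K] [Field Ω] [Algebra k Ω] [Algebra K Ω]
    [IsScalarTower k K Ω] :
    Function.Surjective (Points.map
      (prod.map (𝟙 X) ((yon (Spec (CommRingCat.of k))).map (gTower k K Ω)))) := by
  have hgs : Surjective (gTower k K Ω).left := by
    refine ⟨fun x => ⟨(IsLocalRing.closedPoint Ω : PrimeSpectrum Ω), ?_⟩⟩
    exact Subsingleton.elim (α := PrimeSpectrum K) _ _
  have hgs' : IsSurjectiveMor ((yon (Spec (CommRingCat.of k))).map (gTower k K Ω)) :=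
    points_map_surjective_of_repWith ((repWith_yon_map_iff @Surjective _).2 hgs)
  have sq := isPullback_prod_snd_with_id ((yon (Spec (CommRingCat.of k))).map (gTower k K Ω)) X
  exact isSurjectiveMor_of_isPullback sq hgs'

/-- a common extension of two field extensions. -/
theorem exists_composite (K Ω : Type u) [Field K] [Algebra k K] [Field Ω] [Algebra k Ω] :
    ∃ (L : Type u) (_ : Field L) (_ : Algebra k L) (_ : Algebra K L) (_ : Algebra Ω L),
      IsScalarTower k K L ∧ IsScalarTower k Ω L := by
  obtain ⟨m, hm⟩ := Ideal.exists_maximal (K ⊗[k] Ω)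
  letI : Field ((K ⊗[k] Ω) ⧸ m) := Ideal.Quotient.field m
  letI : Algebra K ((K ⊗[k] Ω) ⧸ m) := ((Ideal.Quotient.mk m).comp
      (Algebra.TensorProduct.includeLeft (R := k) (S := k) (A := K) (B := Ω)).toRingHom).toAlgebra
  letI : Algebra Ω ((K ⊗[k] Ω) ⧸ m) := ((Ideal.Quotient.mk m).comp
      (Algebra.TensorProduct.includeRight (R := k) (A := K) (B := Ω)).toRingHom).toAlgebra
  refine ⟨(K ⊗[k] Ω) ⧸ m, inferInstance, inferInstance, inferInstance, inferInstance, ?_, ?_⟩
  · exact IsScalarTower.of_algebraMap_eq (fun r => by
      change _ = (Ideal.Quotient.mk m) ((Algebra.TensorProduct.includeLeft (R := k) (S := k)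
        (A := K) (B := Ω)) (algebraMap k K r))
      rw [AlgHom.commutes]
      rfl)
  · exact IsScalarTower.of_algebraMap_eq (fun r => by
      change _ = (Ideal.Quotient.mk m) ((Algebra.TensorProduct.includeRight (R := k)
        (A := K) (B := Ω)) (algebraMap k Ω r))
      rw [AlgHom.commutes]
      rfl)

/-- S10468 (key direction): connectedness of `X_E` for a separably closed extension `E` implies
geometric connectedness. -/
theorem connectedSpace_of_sepClosed (X : Sp (Spec (CommRingCat.of k))) (hX : IsAlgSpace X)
    (E : Type u) [Field E] [Algebra k E] [IsSepClosed E]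
    [ConnectedSpace (Points (X ⨯ (yon (Spec (CommRingCat.of k))).obj (pt k E)))]
    (K : Type u) [Field K] [Algebra k K] :
    ConnectedSpace (Points (X ⨯ (yon (Spec (CommRingCat.of k))).obj (pt k K))) := by
  obtain ⟨Ω, _, _, _, _, h1, h2⟩ := exists_composite (k := k) K E
  haveI : ConnectedSpace (Points (X ⨯ (yon (Spec (CommRingCat.of k))).obj (pt k Ω))) :=
    connectedSpace_of_bijective _ (bijective_tower X hX E Ω)
  exact (surjective_tower X K Ω).connectedSpace (Points.continuous_map _)


/-- the projection `X_K ⟶ X` is surjective. -/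
theorem surjective_fst (X : Sp (Spec (CommRingCat.of k))) (K : Type u) [Field K] [Algebra k K] :
    Function.Surjective (Points.map
      (prod.fst : X ⨯ (yon (Spec (CommRingCat.of k))).obj (pt k K) ⟶ X)) := by
  have sq := isPullback_prod X ((yon (Spec (CommRingCat.of k))).obj (pt k K))
  have he : (hT k).from ((yon (Spec (CommRingCat.of k))).obj (pt k K)) =
      (yon (Spec (CommRingCat.of k))).map (gT k K) := (hT k).hom_ext _ _
  rw [he] at sq
  have hgs : Surjective (gT k K).left := by
    refine ⟨fun x => ⟨(IsLocalRing.closedPoint K : PrimeSpectrum K), ?_⟩⟩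
    exact Subsingleton.elim (α := PrimeSpectrum k) _ _
  have hgs' : IsSurjectiveMor ((yon (Spec (CommRingCat.of k))).map (gT k K)) :=
    points_map_surjective_of_repWith ((repWith_yon_map_iff @Surjective _).2 hgs)
  exact isSurjectiveMor_of_isPullback sq.flip hgs'

/-- S10501. -/
theorem S10501_main [IsSepClosed k] (X : AlgSp.Space (Spec (CommRingCat.of k))) :
    (∀ (K : Type u) [Field K] [Algebra k K], ConnectedSpace (AlgSp.Points (X.obj ⨯
      (AlgSp.yon (Spec (CommRingCat.of k))).obj
        (Over.mk (Spec.map (CommRingCat.ofHom (algebraMap k K))))))) ↔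
      ConnectedSpace (AlgSp.Points X.obj) := by
  constructor
  · intro h
    haveI := h k
    exact (surjective_fst X.obj k).connectedSpace (Points.continuous_map _)
  · intro h K _ _
    exact connectedSpace_of_bijective _ (bijective_fst X.obj X.property K)

/-- S10468. -/
theorem S10468_main (X : AlgSp.Space (Spec (CommRingCat.of k)))
    (kbar : Type u) [Field kbar] [Algebra k kbar] [IsSepClosure k kbar] :
    (∀ (K : Type u) [Field K] [Algebra k K], ConnectedSpace (AlgSp.Points (X.obj ⨯
      (AlgSp.yon (Spec (CommRingCat.of k))).obj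
        (Over.mk (Spec.map (CommRingCat.ofHom (algebraMap k K))))))) ↔
      ConnectedSpace (AlgSp.Points (X.obj ⨯ (AlgSp.yon (Spec (CommRingCat.of k))).obj
        (Over.mk (Spec.map (CommRingCat.ofHom (algebraMap k kbar)))))) := by
  constructor
  · intro h
    exact h kbar
  · intro h K _ _
    haveI : IsSepClosed kbar := IsSepClosure.sep_closed k
    exact connectedSpace_of_sepClosed X.obj X.property kbar K


/-- S10466. -/
theorem S10466_main (X Y : AlgSp.Space (Spec (CommRingCat.of k)))
    (hX : (∀ (K : Type u) [Field K] [Algebra k K], ConnectedSpace (AlgSp.Points (X.obj ⨯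
      (AlgSp.yon (Spec (CommRingCat.of k))).obj
        (Over.mk (Spec.map (CommRingCat.ofHom (algebraMap k K)))))))) :
    Function.Bijective (Continuous.connectedComponentsMap
      (AlgSp.Points.continuous_map (Limits.prod.snd : X.obj ⨯ Y.obj ⟶ Y.obj))) := by
  have sq := (isPullback_prod X.obj Y.obj).flip
  refine bijective_connectedComponentsMap Y.property X.property (T := Tm k) _ _ _ _ sq ?_
  intro L _ str h P fst snd sqP
  obtain ⟨φ, rfl⟩ := Spec.map_surjective str
  letI : Algebra k L := φ.hom.toAlgebra
  haveI := hX L
  have sq1 := (isPullback_prod X.obj ((yon (Spec (CommRingCat.of k))).obj (pt k L))).flip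
  have he : (hT k).from ((yon (Spec (CommRingCat.of k))).obj (pt k L)) =
      (yon (Spec (CommRingCat.of k))).map h := (hT k).hom_ext _ _
  rw [he] at sq1
  exact connectedSpace_points_of_iso (sq1.isoIsPullback _ _ sqP)

end field


end Groth.Agent.H7.GeomConnSp
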