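import Groth.Agent.Lib.Helper7.QFin17
import Mathlib

/-!
# Finiteness of the marked part of a fibre: the decent case
-/

set_option autoImplicit false
universe u

open AlgebraicGeometry CategoryTheory Limits

namespace Groth.Agent.H7.QFinSp

open _root_.AlgSp Groth.Agent.H5.AlgSp Groth.Agent.H5.EtSrc Groth.Agent.H5.Descent
open Groth.Agent.H7.QFin

variable {S : Scheme.{u}}

theorem isPullback_yon_map_iff' {P X Y Z : Over S} (fst : P ⟶ X) (snd : P ⟶ Y) (f : X ⟶ Z)
    (g : Y ⟶ Z) :
    IsPullback ((yon S).map fst) ((yon S).map snd) ((yon S).map f) ((yon S).map g) ↔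
      IsPullback fst snd f g := by
  constructor
  · intro h
    have w : fst ≫ f = snd ≫ g := (yon S).map_injective (by
      rw [Functor.map_comp, Functor.map_comp]; exact h.w)
    exact IsPullback.of_map (yon S) w h
  · intro h
    exact h.map (yon S)

theorem isPullback_left_iff' {P X Y Z : Over S} (fst : P ⟶ X) (snd : P ⟶ Y) (f : X ⟶ Z)
    (g : Y ⟶ Z) : IsPullback fst.left snd.left f.left g.left ↔ IsPullback fst snd f g := by
  constructor
  · intro h
    have w : fst ≫ f = snd ≫ g := Over.OverMorphism.ext (by simpa using h.w)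
    exact IsPullback.of_map (Over.forget S) w h
  · intro h
    exact h.map (Over.forget S)

/-- points of a pullback square of schemes. -/
theorem exists_preimage_of_isPullback {P X Y Z : Scheme.{u}} {fst : P ⟶ X} {snd : P ⟶ Y}
    {f : X ⟶ Z} {g : Y ⟶ Z} (sq : IsPullback fst snd f g) (x : X) (y : Y) (h : f x = g y) :
    ∃ p : P, fst p = x ∧ snd p = y := by
  obtain ⟨p, hp1, hp2⟩ := Scheme.Pullback.exists_preimage_pullback (f := f) (g := g) x y h
  refine ⟨sq.isoPullback.inv p, ?_, ?_⟩
  · rw [← Scheme.Hom.comp_apply, sq.isoPullback_inv_fst, hp1]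
  · rw [← Scheme.Hom.comp_apply, sq.isoPullback_inv_snd, hp2]

/-- points of a pullback square whose corner and second leg are schemes. -/
theorem exists_point_of_isPullback_yon {W T : Over S} {F G : Sp S} {fst : (yon S).obj W ⟶ F}
    {snd : W ⟶ T} {f : F ⟶ G} {g : (yon S).obj T ⟶ G}
    (sq : IsPullback fst ((yon S).map snd) f g) (x : Points F) (t : T.left)
    (h : Points.map f x = Points.ofPt g t) :
    ∃ w : W.left, Points.ofPt fst w = x ∧ snd.left w = t := by
  obtain ⟨z, hz1, hz2⟩ := points_pullback_surjective sq x (Points.schemeHomeo T t) (by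
    rw [h, Points.ofPt_eq_map_ofScheme]; rfl)
  refine ⟨(Points.schemeHomeo W).symm z, ?_, ?_⟩
  · rw [Points.ofPt_eq_map_ofScheme, ← hz1]
    congr 1
    exact (Points.schemeHomeo W).apply_symm_apply z
  · apply (Points.schemeHomeo T).injective
    rw [← map_yon_map_schemeHomeo, Homeomorph.apply_symm_apply, hz2]

theorem ofPt_injective_of_mono {W : Over S} {F : Sp S} (q : (yon S).obj W ⟶ F) [Mono q] :
    Function.Injective (Points.ofPt q) := by
  intro a b hab
  rw [Points.ofPt_eq_map_ofScheme, Points.ofPt_eq_map_ofScheme] at hab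
  exact (Points.schemeHomeo W).injective (points_map_injective_of_mono q hab)

/-- **Finiteness, decent case.**  Let `f' : X' ⟶ Y` be representable, `y` a point of `Y`
represented by a quasi-compact monomorphism from the spectrum of a field, `b₀ : V₀ ⟶ Y` an étale
chart by an affine scheme and `Z = X' ×_Y V₀`.  Then the points of `Z` over a given point
`v₀ ∈ V₀` above `y` mapping into a given finite set of points of `X'` are finite in number. -/
theorem finite_marked_fibre_of_decent {X' Y : Sp S} (f' : X' ⟶ Y) (hrep : Representable f')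
    (p : FieldPt Y) (hpm : Mono p.toHom) (hpq : RepWith @QuasiCompact p.toHom)
    {V₀ Z : Over S} [IsAffine V₀.left] (b₀ : (yon S).obj V₀ ⟶ Y) (hb₀ : RepWith @Etale b₀)
    (i : (yon S).obj Z ⟶ X') (k : Z ⟶ V₀) (sqZ : IsPullback i ((yon S).map k) f' b₀)
    (v₀ : V₀.left) (hv₀ : Points.ofPt b₀ v₀ = Points.mk p)
    (xs' : Set (Points X')) (hxs' : xs'.Finite) :
    {z : Z.left | k.left z = v₀ ∧ Points.ofPt i z ∈ xs'}.Finite := by
  -- the fibre `E` of the chart over the point
  have sqE := hpq.rep.isPullback b₀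
  obtain ⟨ε₁, hε₁⟩ := (yon S).map_surjective (hpq.rep.fst b₀)
  rw [← hε₁] at sqE
  have hεq : QuasiCompact (hpq.rep.snd b₀).left := hpq.property_snd b₀
  have hε₁e : Etale ε₁.left := hb₀.property _ _ _ sqE.flip
  haveI : IsAffine p.pt.left := inferInstanceAs (IsAffine (Spec (CommRingCat.of p.K)))
  haveI : CompactSpace (hpq.rep.pullback b₀).left :=
    (quasiCompact_iff_compactSpace (hpq.rep.snd b₀).left).1 hεq
  haveI : QuasiCompact ε₁.left := (quasiCompact_iff_compactSpace ε₁.left).2 inferInstance
  haveI : LocallyQuasiFinite ε₁.left := locallyQuasiFinite_of_unramified' ε₁.left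
  -- the fibre of `X'` over the point
  have sqXp := hrep.isPullback p.toHom
  haveI : Mono (hrep.fst p.toHom) := by
    refine ⟨fun {T} a b hab => ?_⟩
    apply sqXp.hom_ext hab
    rw [← cancel_mono p.toHom, Category.assoc, Category.assoc, ← sqXp.w, ← Category.assoc,
      ← Category.assoc, hab]
  -- the fibre product `G`
  let Go : Over S := Over.mk (pullback.fst (hrep.snd p.toHom).left ε₁.left ≫
    (hrep.pullback p.toHom).hom)
  let g₁ : Go ⟶ hrep.pullback p.toHom := Over.homMk (pullback.fst _ _) rfl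
  let g₂ : Go ⟶ hpq.rep.pullback b₀ := Over.homMk (pullback.snd _ _) (by
    change pullback.snd (hrep.snd p.toHom).left ε₁.left ≫ (hpq.rep.pullback b₀).hom = _
    rw [← Over.w ε₁, ← Category.assoc, ← pullback.condition, Category.assoc, Over.w]
    rfl)
  have sqG : IsPullback g₁ g₂ (hrep.snd p.toHom) ε₁ :=
    (isPullback_left_iff' _ _ _ _).1 (IsPullback.of_hasPullback _ _)
  have sqGY := (isPullback_yon_map_iff' _ _ _ _).2 sqG
  have sqbig := sqGY.paste_horiz sqXp
  rw [sqE.w] at sqbig
  -- the map `G ⟶ Z`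
  obtain ⟨lam, hlam⟩ := (yon S).map_surjective
    (sqZ.lift ((yon S).map g₁ ≫ hrep.fst p.toHom)
      ((yon S).map g₂ ≫ (yon S).map (hpq.rep.snd b₀)) sqbig.w)
  have hlam1 : (yon S).map lam ≫ i = (yon S).map g₁ ≫ hrep.fst p.toHom := by
    rw [hlam, sqZ.lift_fst]
  have hlam2 : (yon S).map lam ≫ (yon S).map k =
      (yon S).map g₂ ≫ (yon S).map (hpq.rep.snd b₀) := by
    rw [hlam, sqZ.lift_snd]
  rw [← hlam1] at sqbig
  have sqr := IsPullback.of_right sqbig hlam2 sqZ
  have sqS : IsPullback lam.left g₂.left k.left (hpq.rep.snd b₀).left :=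
    (isPullback_left_iff' _ _ _ _).2 ((isPullback_yon_map_iff' _ _ _ _).1 sqr)
  -- the point `e₀` of `E` over `v₀`
  obtain ⟨e₀, -, he₀⟩ := exists_point_of_isPullback_yon sqE (Points.schemeHomeo _
    (IsLocalRing.closedPoint p.K)) v₀ (by
      rw [hv₀, schemeHomeo_eq_ofPt, Points.map_ofPt, Category.id_comp, Points.ofPt_toHom])
  -- the finite set `D`
  have hD : {d : (hrep.pullback p.toHom).left | Points.ofPt (hrep.fst p.toHom) d ∈ xs'}.Finite :=
    hxs'.preimage (Set.injOn_of_injective (ofPt_injective_of_mono _))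
  have hGD : (g₁.left ⁻¹' {d : (hrep.pullback p.toHom).left |
      Points.ofPt (hrep.fst p.toHom) d ∈ xs'}).Finite := by
    have : LocallyQuasiFinite g₁.left := by
      change LocallyQuasiFinite (pullback.fst (hrep.snd p.toHom).left ε₁.left)
      infer_instance
    have : QuasiCompact g₁.left := by
      change QuasiCompact (pullback.fst (hrep.snd p.toHom).left ε₁.left)
      infer_instance
    exact g₁.left.finite_preimage hD
  refine (hGD.image lam.left).subset ?_
  rintro z ⟨hz1, hz2⟩
  obtain ⟨γ, hγ1, hγ2⟩ := exists_preimage_of_isPullback sqS z e₀ (by rw [hz1, he₀])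
  refine ⟨γ, ?_, hγ1⟩
  change Points.ofPt (hrep.fst p.toHom) (g₁.left γ) ∈ xs'
  rw [← ofPt_yon_map_comp, ← hlam1, ofPt_yon_map_comp, hγ1]
  exact hz2

end Groth.Agent.H7.QFinSp
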