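import Groth.Agent.Lib.Helper7.GeomConnSp1
import Groth.Agent.Lib.Helper7.QFin18
import Groth.Agent.Lib.Helper7.NASA6
import Mathlib

/-!
# Geometric connectedness and finite separable extensions (S10469)
-/

set_option autoImplicit false
universe u
open CategoryTheory CategoryTheory.Limits AlgebraicGeometry Topology TopologicalSpace
open AlgSp TensorProduct

namespace Groth.Agent.H7.GeomConnSp

open _root_.AlgSp Groth.Agent.H5.AlgSp

section ring

variable {k A E : Type u} [Field k] [CommRing A] [Algebra k A] [Field E] [Algebra k E]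

/-- base change of the coefficient field along a subextension. -/
noncomputable abbrev tmapG (K : Type u) [Field K] [Algebra k K] [Algebra K E] [IsScalarTower k K E] :
    A ⊗[k] K →ₐ[k] A ⊗[k] E :=
  Algebra.TensorProduct.map (AlgHom.id k A) (IsScalarTower.toAlgHom k K E)

/-- base change of the coefficient field along a subextension. -/
noncomputable abbrev tmap (L : IntermediateField k E) : A ⊗[k] L →ₐ[k] A ⊗[k] E :=
  tmapG (A := A) (E := E) L

/-- the same as a ring homomorphism. -/
noncomputable def tmapGR (K : Type u) [Field K] [Algebra k K] [Algebra K E] [IsScalarTower k K E] :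
    CommRingCat.of (A ⊗[k] K) ⟶ CommRingCat.of (A ⊗[k] E) :=
  CommRingCat.ofHom (tmapG (A := A) (E := E) K).toRingHom

/-- the same as a ring homomorphism. -/
noncomputable abbrev tmapR (L : IntermediateField k E) :
    CommRingCat.of (A ⊗[k] L) ⟶ CommRingCat.of (A ⊗[k] E) :=
  tmapGR (A := A) (E := E) L

theorem tmapR_apply (L : IntermediateField k E) (t : A ⊗[k] L) :
    (tmapR (A := A) L).hom t = tmap (A := A) L t := rfl

theorem exists_finite_level [Algebra.IsAlgebraic k E] (e : A ⊗[k] E) :
    ∃ L : IntermediateField k E, FiniteDimensional k L ∧ e ∈ Set.range (tmap (A := A) L) := by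
  induction e using TensorProduct.induction_on with
  | zero => exact ⟨⊥, inferInstance, 0, map_zero _⟩
  | tmul a x =>
    refine ⟨IntermediateField.adjoin k {x},
      IntermediateField.adjoin.finiteDimensional (Algebra.IsIntegral.isIntegral x), ?_⟩
    refine ⟨a ⊗ₜ ⟨x, IntermediateField.mem_adjoin_simple_self k x⟩, ?_⟩
    simp [tmap]
  | add e₁ e₂ h₁ h₂ =>
    obtain ⟨L₁, hL₁, t₁, rfl⟩ := h₁
    obtain ⟨L₂, hL₂, t₂, rfl⟩ := h₂
    refine ⟨L₁ ⊔ L₂, IntermediateField.finiteDimensional_sup L₁ L₂, ?_⟩
    refine ⟨Algebra.TensorProduct.map (AlgHom.id k A)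
        (IntermediateField.inclusion (le_sup_left : L₁ ≤ L₁ ⊔ L₂)) t₁
      + Algebra.TensorProduct.map (AlgHom.id k A)
        (IntermediateField.inclusion (le_sup_right : L₂ ≤ L₁ ⊔ L₂)) t₂, ?_⟩
    rw [map_add]
    congr 1
    · induction t₁ using TensorProduct.induction_on with
      | zero => simp
      | tmul a x => simp [tmap]
      | add a b ha hb => simp only [map_add, ha, hb]
    · induction t₂ using TensorProduct.induction_on with
      | zero => simp
      | tmul a x => simp [tmap]
      | add a b ha hb => simp only [map_add, ha, hb]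

theorem saturated_of_isClopen [Algebra.IsAlgebraic k E] (D : Set (PrimeSpectrum (A ⊗[k] E)))
    (hD : IsClopen D) :
    ∃ L : IntermediateField k E, FiniteDimensional k L ∧
      ∀ 𝔭 𝔭' : PrimeSpectrum (A ⊗[k] E),
        PrimeSpectrum.comap (tmapR (A := A) L).hom 𝔭
          = PrimeSpectrum.comap (tmapR (A := A) L).hom 𝔭' → (𝔭 ∈ D ↔ 𝔭' ∈ D) := by
  obtain ⟨e, -, rfl⟩ := PrimeSpectrum.isClopen_iff.1 hD
  obtain ⟨L, hL, t, rfl⟩ := exists_finite_level (k := k) (A := A) (E := E) e
  refine ⟨L, hL, fun 𝔭 𝔭' h => ?_⟩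
  have key : ∀ 𝔮 : PrimeSpectrum (A ⊗[k] E),
      𝔮 ∈ (PrimeSpectrum.basicOpen (tmap (A := A) L t) : Set _) ↔
        t ∉ (PrimeSpectrum.comap (tmapR (A := A) L).hom 𝔮).asIdeal := by
    intro 𝔮
    rw [SetLike.mem_coe, PrimeSpectrum.mem_basicOpen, PrimeSpectrum.comap_asIdeal,
      Ideal.mem_comap]
    rfl
  rw [key, key, h]

end ring

section sheaf

variable (k : Type u) [Field k] (A : Type u) [CommRing A] [Algebra k A]

/-- `Spec A` over `Spec k`. -/
noncomputable abbrev N0 : Over (Spec (CommRingCat.of k)) :=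
  Over.mk (Spec.map (CommRingCat.ofHom (algebraMap k A)))

/-- `Spec (A ⊗ K)` over `Spec k`. -/
noncomputable abbrev NK (K : Type u) [Field K] [Algebra k K] : Over (Spec (CommRingCat.of k)) :=
  Over.mk (Spec.map (CommRingCat.ofHom (algebraMap k (A ⊗[k] K))))

/-- the projection `Spec (A ⊗ K) ⟶ Spec A`. -/
noncomputable abbrev pN (K : Type u) [Field K] [Algebra k K] : NK k A K ⟶ N0 k A :=
  Over.homMk (Spec.map (CommRingCat.ofHom
    (Algebra.TensorProduct.includeLeftRingHom : A →+* A ⊗[k] K))) (by
    change Spec.map _ ≫ Spec.map _ = Spec.map _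
    rw [← Spec.map_comp, ← CommRingCat.ofHom_comp])

/-- the projection `Spec (A ⊗ K) ⟶ Spec K`. -/
noncomputable abbrev pK (K : Type u) [Field K] [Algebra k K] : NK k A K ⟶ pt k K :=
  Over.homMk (Spec.map (CommRingCat.ofHom
    (Algebra.TensorProduct.includeRight.toRingHom : K →+* A ⊗[k] K))) (by
    change Spec.map _ ≫ Spec.map _ = Spec.map _
    rw [← Spec.map_comp, ← CommRingCat.ofHom_comp]
    congr 2
    ext r
    simp [Algebra.algebraMap_eq_smul_one])

theorem isPullback_NK (K : Type u) [Field K] [Algebra k K] :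
    IsPullback (pN k A K) (pK k A K) (Over.mkIdTerminal.from (N0 k A))
      (Over.mkIdTerminal.from (pt k K)) := by
  refine IsPullback.of_map (Over.forget _) (Over.mkIdTerminal.hom_ext _ _) ?_
  have h := isPullback_SpecMap_of_isPushout _ _ _ _ (CommRingCat.isPushout_tensorProduct k A K)
  have e1 : (Over.mkIdTerminal.from (N0 k A)).left
      = Spec.map (CommRingCat.ofHom (algebraMap k A)) := by
    have := Over.w (Over.mkIdTerminal.from (N0 k A))
    simpa using this
  have e2 : (Over.mkIdTerminal.from (pt k K)).left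
      = Spec.map (CommRingCat.ofHom (algebraMap k K)) := by
    have := Over.w (Over.mkIdTerminal.from (pt k K))
    simpa using this
  change IsPullback (pN k A K).left (pK k A K).left (Over.mkIdTerminal.from (N0 k A)).left
    (Over.mkIdTerminal.from (pt k K)).left
  rw [e1, e2]
  exact h

variable {k A}

/-- the tower map `Spec (A ⊗ E) ⟶ Spec (A ⊗ K)`. -/
noncomputable abbrev tauN (K E : Type u) [Field K] [Algebra k K] [Field E] [Algebra k E]
    [Algebra K E] [IsScalarTower k K E] : NK k A E ⟶ NK k A K :=
  Over.homMk (Spec.map (tmapGR (k := k) (A := A) (E := E) K)) (by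
    change Spec.map _ ≫ Spec.map _ = Spec.map _
    rw [← Spec.map_comp]
    congr 1
    ext r
    change (tmapG (A := A) (E := E) K) (algebraMap k (A ⊗[k] K) r) = algebraMap k (A ⊗[k] E) r
    rw [AlgHom.commutes])

theorem tauN_pN (K E : Type u) [Field K] [Algebra k K] [Field E] [Algebra k E]
    [Algebra K E] [IsScalarTower k K E] :
    tauN (k := k) (A := A) K E ≫ pN k A K = pN k A E := by
  apply Over.OverMorphism.ext
  change Spec.map _ ≫ Spec.map _ = Spec.map _
  rw [← Spec.map_comp]
  congr 1
  ext a
  change (tmapG (A := A) (E := E) K) (a ⊗ₜ 1) = a ⊗ₜ 1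
  simp [tmapG]

theorem tauN_pK (K E : Type u) [Field K] [Algebra k K] [Field E] [Algebra k E]
    [Algebra K E] [IsScalarTower k K E] :
    tauN (k := k) (A := A) K E ≫ pK k A K = pK k A E ≫ gTower k K E := by
  apply Over.OverMorphism.ext
  change Spec.map _ ≫ Spec.map _ = Spec.map _ ≫ Spec.map _
  rw [← Spec.map_comp, ← Spec.map_comp]
  congr 1

/-- the square `N_E = N_K ×_{Spec K} Spec E`. -/
theorem isPullback_tauN (K E : Type u) [Field K] [Algebra k K] [Field E] [Algebra k E]
    [Algebra K E] [IsScalarTower k K E] :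
    IsPullback (pK k A E) (tauN (k := k) (A := A) K E) (gTower k K E) (pK k A K) := by
  refine IsPullback.of_bot (v₂₁ := pN k A K) (v₂₂ := Over.mkIdTerminal.from (pt k K))
    (h₃₁ := Over.mkIdTerminal.from (N0 k A)) ?_ (tauN_pK K E).symm (isPullback_NK k A K).flip
  rw [tauN_pN, Over.mkIdTerminal.hom_ext (gTower k K E ≫ Over.mkIdTerminal.from (pt k K))
    (Over.mkIdTerminal.from (pt k E))]
  exact (isPullback_NK k A E).flip

variable {X : Sp (Spec (CommRingCat.of k))} (b : (yon (Spec (CommRingCat.of k))).obj (N0 k A) ⟶ X)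

/-- the base change of the chart `b`. -/
noncomputable abbrev bK (K : Type u) [Field K] [Algebra k K] :
    (yon (Spec (CommRingCat.of k))).obj (NK k A K) ⟶
      X ⨯ (yon (Spec (CommRingCat.of k))).obj (pt k K) :=
  prod.lift ((yon (Spec (CommRingCat.of k))).map (pN k A K) ≫ b)
    ((yon (Spec (CommRingCat.of k))).map (pK k A K))

theorem isPullback_bK_fst (K : Type u) [Field K] [Algebra k K] :
    IsPullback (bK b K) ((yon (Spec (CommRingCat.of k))).map (pN k A K)) prod.fst b := by
  refine IsPullback.of_right (h₁₂ := prod.snd) (v₁₃ := (hT k).from _) (h₂₂ := (hT k).from X)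
    ?_ (prod.lift_fst _ _) (isPullback_prod X _).flip
  rw [prod.lift_snd, (hT k).hom_ext ((hT k).from _)
    ((yon (Spec (CommRingCat.of k))).map (Over.mkIdTerminal.from (pt k K))),
    (hT k).hom_ext (b ≫ (hT k).from X)
    ((yon (Spec (CommRingCat.of k))).map (Over.mkIdTerminal.from (N0 k A)))]
  exact (Groth.Agent.H7.NAS.isPullback_yon (isPullback_NK k A K)).flip

theorem isPullback_bK_tower (K E : Type u) [Field K] [Algebra k K] [Field E] [Algebra k E]
    [Algebra K E] [IsScalarTower k K E] :
    IsPullback (bK b E) ((yon (Spec (CommRingCat.of k))).map (tauN (k := k) (A := A) K E))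
      (prod.map (𝟙 X) ((yon (Spec (CommRingCat.of k))).map (gTower k K E))) (bK b K) := by
  refine IsPullback.of_right (h₁₂ := prod.snd) (v₁₃ := (yon (Spec (CommRingCat.of k))).map
    (gTower k K E)) (h₂₂ := prod.snd) ?_ ?_
    (isPullback_prod_snd_with_id ((yon (Spec (CommRingCat.of k))).map (gTower k K E)) X)
  · rw [prod.lift_snd, prod.lift_snd]
    exact Groth.Agent.H7.NAS.isPullback_yon (isPullback_tauN K E)
  · apply Limits.prod.hom_ext
    · rw [Category.assoc, prod.map_fst, Category.comp_id, prod.lift_fst, Category.assoc,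
        prod.lift_fst, ← Category.assoc, ← Functor.map_comp, tauN_pN]
    · rw [Category.assoc, prod.map_snd, ← Category.assoc, prod.lift_snd, Category.assoc,
        prod.lift_snd, ← Functor.map_comp, ← Functor.map_comp, tauN_pK]

/-- the tower map of `X`. -/
noncomputable abbrev piX (X : Sp (Spec (CommRingCat.of k))) (K E : Type u) [Field K] [Algebra k K]
    [Field E] [Algebra k E] [Algebra K E] [IsScalarTower k K E] :
    X ⨯ (yon (Spec (CommRingCat.of k))).obj (pt k E) ⟶
      X ⨯ (yon (Spec (CommRingCat.of k))).obj (pt k K) :=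
  prod.map (𝟙 X) ((yon (Spec (CommRingCat.of k))).map (gTower k K E))

theorem map_piX_ofPt_bK (K E : Type u) [Field K] [Algebra k K] [Field E] [Algebra k E]
    [Algebra K E] [IsScalarTower k K E] (ν : (NK k A E).left) :
    Points.map (piX X K E) (Points.ofPt (bK b E) ν)
      = Points.ofPt (bK b K) ((tauN (k := k) (A := A) K E).left ν) := by
  rw [Points.map_ofPt, (isPullback_bK_tower b K E).w, ofPt_yon_map_comp]

/-- the image of `N_E` in `X_E` is saturated for every tower map. -/
theorem range_saturated (K E : Type u) [Field K] [Algebra k K] [Field E] [Algebra k E]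
    [Algebra K E] [IsScalarTower k K E]
    (z z' : Points (X ⨯ (yon (Spec (CommRingCat.of k))).obj (pt k E)))
    (hz : z ∈ Set.range (Points.ofPt (bK b E)))
    (h : Points.map (piX X K E) z = Points.map (piX X K E) z') :
    z' ∈ Set.range (Points.ofPt (bK b E)) := by
  obtain ⟨ν, rfl⟩ := hz
  obtain ⟨w, hw, -⟩ := Groth.Agent.H7.QFinSp.exists_point_of_isPullback_yon
    (isPullback_bK_tower b K E) z' ((tauN (k := k) (A := A) K E).left ν) (by
      rw [← h, map_piX_ofPt_bK])
  exact ⟨w, hw⟩

/-- a clopen subset of `X_E` is, on the image of `N_E`, saturated for a finite level. -/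
theorem clopen_saturated (E : Type u) [Field E] [Algebra k E] [Algebra.IsAlgebraic k E]
    (W : Set (Points (X ⨯ (yon (Spec (CommRingCat.of k))).obj (pt k E)))) (hW : IsClopen W) :
    ∃ L : IntermediateField k E, FiniteDimensional k L ∧
      ∀ z z' : Points (X ⨯ (yon (Spec (CommRingCat.of k))).obj (pt k E)),
        z ∈ Set.range (Points.ofPt (bK b E)) → z' ∈ Set.range (Points.ofPt (bK b E)) →
        Points.map (piX X L E) z = Points.map (piX X L E) z' → z ∈ W → z' ∈ W := by
  have hD : IsClopen ((Points.ofPt (bK b E)) ⁻¹' W : Set (PrimeSpectrum (A ⊗[k] E))) :=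
    hW.preimage (Points.continuous_ofPt (bK b E))
  obtain ⟨L, hL, hsat⟩ := saturated_of_isClopen (k := k) (A := A) (E := E) _ hD
  refine ⟨L, hL, ?_⟩
  rintro z _ hz ⟨ν', rfl⟩ h hzW
  obtain ⟨w, hw, hw2⟩ := Groth.Agent.H7.QFinSp.exists_point_of_isPullback_yon
    (isPullback_bK_tower b L E) z ((tauN (k := k) (A := A) L E).left ν') (by
      rw [h, map_piX_ofPt_bK])
  have hwD : w ∈ (Points.ofPt (bK b E)) ⁻¹' W := by
    change Points.ofPt (bK b E) w ∈ W
    rw [hw]; exact hzW
  exact (hsat w ν' hw2).1 hwD

end sheaf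

section tower

variable {k : Type u} [Field k]

theorem isOpenMap_piX (X : Sp (Spec (CommRingCat.of k))) (hX : IsAlgSpace X)
    (K E : Type u) [Field K] [Algebra k K] [Field E] [Algebra k E] [Algebra K E]
    [IsScalarTower k K E] : IsOpenMap (Points.map (piX X K E)) := by
  have sq := (isPullback_prod_snd_with_id ((yon (Spec (CommRingCat.of k))).map (gTower k K E)) X).flip
  exact Groth.Agent.H8.AlgSp.isOpenMor_of_isUnivOpenMor (isAlgSpace_prod hX (IsAlgSpace.yon_obj _))
    (Groth.Agent.H8.AlgSp.flat_univOpen_of_isPullback_field (T := pt k K) (IsAlgSpace.yon_obj _)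
      (isAlgSpace_prod hX (IsAlgSpace.yon_obj _)) sq.flip).2

theorem isClosedMap_piX (X : Sp (Spec (CommRingCat.of k)))
    (K E : Type u) [Field K] [Algebra k K] [Field E] [Algebra k E] [Algebra K E]
    [IsScalarTower k K E] [Algebra.IsIntegral K E] : IsClosedMap (Points.map (piX X K E)) := by
  have hg : IsIntegralHom (gTower k K E).left := by
    change IsIntegralHom (Spec.map (CommRingCat.ofHom (algebraMap K E)))
    rw [IsIntegralHom.SpecMap_iff]
    exact algebraMap_isIntegral_iff.2 inferInstance
  have hg' : RepWith @IsIntegralHom ((yon (Spec (CommRingCat.of k))).map (gTower k K E)) :=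
    (repWith_yon_map_iff @IsIntegralHom _).2 hg
  have sq := isPullback_prod_snd_with_id ((yon (Spec (CommRingCat.of k))).map (gTower k K E)) X
  have h2 : RepWith @IsIntegralHom (piX X K E) :=
    MorphismProperty.of_isPullback (P := RepWith (S := Spec (CommRingCat.of k)) @IsIntegralHom)
      sq hg'
  exact isClosedMap_points_map_of_repWith (P := @IsIntegralHom)
    (fun f hf => by haveI := hf; exact f.isClosedMap) h2

/-- a nonempty clopen subset surjects onto every connected finite level. -/
theorem image_clopen_eq_univ (X : Sp (Spec (CommRingCat.of k))) (hX : IsAlgSpace X)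
    (K E : Type u) [Field K] [Algebra k K] [Field E] [Algebra k E] [Algebra K E]
    [IsScalarTower k K E] [Algebra.IsIntegral K E]
    [ConnectedSpace (Points (X ⨯ (yon (Spec (CommRingCat.of k))).obj (pt k K)))]
    (W : Set (Points (X ⨯ (yon (Spec (CommRingCat.of k))).obj (pt k E)))) (hW : IsClopen W)
    (hne : W.Nonempty) : Points.map (piX X K E) '' W = Set.univ := by
  have hcl : IsClopen (Points.map (piX X K E) '' W) :=
    ⟨isClosedMap_piX X K E _ hW.1, isOpenMap_piX X hX K E _ hW.2⟩
  rcases isClopen_iff.1 hcl with h | h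
  · exact absurd (hne.image _) (by rw [h]; exact Set.not_nonempty_empty)
  · exact h

/-- **Key step of S10469.**  If `E/k` is algebraic and `X_L` is connected for every finite
subextension `L`, then `X_E` is connected. -/
theorem connectedSpace_of_finite_levels (X : Sp (Spec (CommRingCat.of k))) (hX : IsAlgSpace X)
    (E : Type u) [Field E] [Algebra k E] [Algebra.IsAlgebraic k E]
    (h : ∀ L : IntermediateField k E, FiniteDimensional k L →
      ConnectedSpace (Points (X ⨯ (yon (Spec (CommRingCat.of k))).obj (pt k L)))) :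
    ConnectedSpace (Points (X ⨯ (yon (Spec (CommRingCat.of k))).obj (pt k E))) := by
  haveI hbot := h ⊥ inferInstance
  haveI : Nonempty (Points (X ⨯ (yon (Spec (CommRingCat.of k))).obj (pt k E))) := by
    obtain ⟨x⟩ := hbot.toNonempty
    obtain ⟨y, -⟩ := surjective_tower X (⊥ : IntermediateField k E) E x
    exact ⟨y⟩
  rw [connectedSpace_iff_clopen]
  refine ⟨inferInstance, ?_⟩
  intro W hW
  by_cases hne : W.Nonempty
  swap
  · left; exact Set.not_nonempty_iff_eq_empty.1 hne
  right
  rw [Set.eq_univ_iff_forall]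
  intro y
  -- a field-valued chart through the image of `y`
  obtain ⟨K, _, str, ξ, hξ⟩ := exists_fpOfHom (Points.map prod.fst y)
  obtain ⟨φ, rfl⟩ := Spec.map_surjective str
  letI : Algebra k K := φ.hom.toAlgebra
  let b : (yon (Spec (CommRingCat.of k))).obj (N0 k K) ⟶ X := ξ
  have hy : y ∈ Set.range (Points.ofPt (bK b E)) := by
    obtain ⟨w, hw, -⟩ := Groth.Agent.H7.QFinSp.exists_point_of_isPullback_yon
      (isPullback_bK_fst b E) y (IsLocalRing.closedPoint K) (by
        rw [hξ]; exact (ofPt_closedPoint _ ξ).symm)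
    exact ⟨w, hw⟩
  obtain ⟨L, hL, hsat⟩ := clopen_saturated b E W hW
  haveI := h L hL
  haveI : Algebra.IsIntegral L E := Algebra.IsAlgebraic.isIntegral
  have himg := image_clopen_eq_univ X hX L E W hW hne
  obtain ⟨t, htW, ht⟩ : Points.map (piX X L E) y ∈ Points.map (piX X L E) '' W := by
    rw [himg]; exact Set.mem_univ _
  have htO : t ∈ Set.range (Points.ofPt (bK b E)) := range_saturated b L E y t hy ht.symm
  exact hsat t y htO hy ht htW

/-- S10469. -/
theorem S10469_main (X : AlgSp.Space (Spec (CommRingCat.of k))) :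
    (∀ (K : Type u) [Field K] [Algebra k K], ConnectedSpace (AlgSp.Points (X.obj ⨯
      (AlgSp.yon (Spec (CommRingCat.of k))).obj
        (Over.mk (Spec.map (CommRingCat.ofHom (algebraMap k K))))))) ↔
      ∀ (k' : Type u) [Field k'] [Algebra k k'], Module.Finite k k' → Algebra.IsSeparable k k' →
        ConnectedSpace (AlgSp.Points (X.obj ⨯ (AlgSp.yon (Spec (CommRingCat.of k))).obj
          (Over.mk (Spec.map (CommRingCat.ofHom (algebraMap k k')))))) := by
  constructor
  · intro h k' _ _ _ _
    exact h k'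
  · intro h
    haveI : Algebra.IsAlgebraic k (SeparableClosure k) := Algebra.IsSeparable.isAlgebraic k _
    have hE : ConnectedSpace (Points (X.obj ⨯ (yon (Spec (CommRingCat.of k))).obj
        (pt k (SeparableClosure k)))) :=
      connectedSpace_of_finite_levels X.obj X.property (SeparableClosure k) (fun L hL =>
        h L hL (Algebra.isSeparable_tower_bot_of_isSeparable k L (SeparableClosure k)))
    exact (S10468_main X (SeparableClosure k)).2 hE

end tower

end Groth.Agent.H7.GeomConnSp
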