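import Groth.Agent.Lib.Helper7.GeomConnSp2
import Groth.Agent.Lib.Helper7.SmLift
import Mathlib

/-!
# Quasi-compact opens of `X_K` for a Galois extension `K/k` (S10471, S10472)
-/

set_option autoImplicit false
universe u
open CategoryTheory CategoryTheory.Limits AlgebraicGeometry Topology TopologicalSpace
open AlgSp TensorProduct

namespace Groth.Agent.H7.GeomConnSp

open _root_.AlgSp Groth.Agent.H5.AlgSp

section ring

variable {k A E : Type u} [Field k] [CommRing A] [Algebra k A] [Field E] [Algebra k E]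

theorem range_tmap_mono {L₁ L₂ : IntermediateField k E} (h : L₁ ≤ L₂) :
    Set.range (tmap (A := A) L₁) ⊆ Set.range (tmap (A := A) L₂) := by
  rintro _ ⟨t, rfl⟩
  refine ⟨Algebra.TensorProduct.map (AlgHom.id k A) (IntermediateField.inclusion h) t, ?_⟩
  induction t using TensorProduct.induction_on with
  | zero => simp
  | tmul a x => simp [tmap]
  | add a b ha hb => simp only [map_add, ha, hb]

theorem exists_finite_level_finset [Algebra.IsAlgebraic k E] {ι : Type*} (t : Finset ι)
    (L : ι → IntermediateField k E) (hL : ∀ i ∈ t, FiniteDimensional k (L i)) :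
    FiniteDimensional k (t.sup L : IntermediateField k E) := by
  classical
  induction t using Finset.induction_on with
  | empty =>
    rw [Finset.sup_empty]
    infer_instance
  | insert a s ha ih =>
    rw [Finset.sup_insert]
    haveI := hL a (Finset.mem_insert_self a s)
    haveI := ih (fun i hi => hL i (Finset.mem_insert_of_mem hi))
    exact IntermediateField.finiteDimensional_sup _ _

/-- preimage of a basic open under the tower map. -/
theorem mem_basicOpen_tmap (L : IntermediateField k E) (e' : A ⊗[k] L)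
    (w : PrimeSpectrum (A ⊗[k] E)) :
    PrimeSpectrum.comap (tmapR (A := A) L).hom w ∈ (PrimeSpectrum.basicOpen e' : Set _) ↔
      w ∈ (PrimeSpectrum.basicOpen (tmap (A := A) L e') : Set _) := by
  rw [SetLike.mem_coe, SetLike.mem_coe, PrimeSpectrum.mem_basicOpen, PrimeSpectrum.mem_basicOpen,
    PrimeSpectrum.comap_asIdeal, Ideal.mem_comap]
  rfl

end ring


section chart

variable {k : Type u} [Field k]

/-- an affine étale chart of `X` given by a `k`-algebra. -/
structure KChart (X : Sp (Spec (CommRingCat.of k))) where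
  A : Type u
  [cr : CommRing A]
  [alg : Algebra k A]
  b : (yon (Spec (CommRingCat.of k))).obj (N0 k A) ⟶ X
  etale : RepWith @Etale b

attribute [instance] KChart.cr KChart.alg

theorem exists_kchart_at {X : Sp (Spec (CommRingCat.of k))} (hX : IsAlgSpace X) (x : Points X) :
    ∃ (c : KChart X), x ∈ Set.range (Points.ofPt c.b) := by
  obtain ⟨U, a, u, hU, ha, hu⟩ := Groth.Agent.H7.SmLift.exists_affine_chart_at hX x
  haveI := hU
  obtain ⟨φ, hφ⟩ := Spec.map_surjective
    (U.left.isoSpec.inv ≫ U.hom : Spec Γ(U.left, ⊤) ⟶ Spec (CommRingCat.of k))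
  letI : Algebra k Γ(U.left, ⊤) := φ.hom.toAlgebra
  let e : N0 k Γ(U.left, ⊤) ⟶ U := Over.homMk U.left.isoSpec.inv (by
    change U.left.isoSpec.inv ≫ U.hom = Spec.map _
    rw [← hφ]; rfl)
  have het : RepWith @Etale ((yon (Spec (CommRingCat.of k))).map e ≫ a) := by
    refine (RepWith (S := Spec (CommRingCat.of k)) @Etale).comp_mem _ _
      ((repWith_yon_map_iff @Etale _).2 ?_) ha
    change Etale U.left.isoSpec.inv
    infer_instance
  refine ⟨⟨Γ(U.left, ⊤), (yon (Spec (CommRingCat.of k))).map e ≫ a, het⟩,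
    U.left.isoSpec.hom u, ?_⟩
  change Points.ofPt ((yon (Spec (CommRingCat.of k))).map e ≫ a) _ = x
  rw [ofPt_yon_map_comp, ← hu]
  congr 1
  change (U.left.isoSpec.hom ≫ U.left.isoSpec.inv) u = u
  rw [Iso.hom_inv_id]
  rfl

variable {A : Type u} [CommRing A] [Algebra k A] {X : Sp (Spec (CommRingCat.of k))}

theorem etale_bK (b : (yon (Spec (CommRingCat.of k))).obj (N0 k A) ⟶ X) (hb : RepWith @Etale b)
    (K : Type u) [Field K] [Algebra k K] : RepWith @Etale (bK b K) :=
  MorphismProperty.of_isPullback (P := RepWith (S := Spec (CommRingCat.of k)) @Etale)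
    (isPullback_bK_fst b K).flip hb

/-- **Key step of S10472.** -/
theorem exists_descent_level (X : Sp (Spec (CommRingCat.of k))) (hX : IsAlgSpace X)
    (K : Type u) [Field K] [Algebra k K] [Algebra.IsAlgebraic k K]
    (V : Set (Points (X ⨯ (yon (Spec (CommRingCat.of k))).obj (pt k K)))) (hV : IsOpen V)
    (hVc : IsCompact V) :
    ∃ (k' : IntermediateField k K), FiniteDimensional k k' ∧
      ∃ V' : Set (Points (X ⨯ (yon (Spec (CommRingCat.of k))).obj (pt k k'))),
        IsOpen V' ∧ IsCompact V' ∧ Points.map (piX X k' K) ⁻¹' V' = V := by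
  classical
  have loc : ∀ v : V, ∃ (c : KChart X) (e : c.A ⊗[k] K),
      v.1 ∈ Points.ofPt (bK c.b K) ''
        (PrimeSpectrum.basicOpen e : Set (PrimeSpectrum (c.A ⊗[k] K))) ∧
      Points.ofPt (bK c.b K) ''
        (PrimeSpectrum.basicOpen e : Set (PrimeSpectrum (c.A ⊗[k] K))) ⊆ V := by
    rintro ⟨v, hv⟩
    obtain ⟨c, u, hu⟩ := exists_kchart_at hX (Points.map prod.fst v)
    obtain ⟨w, hw, -⟩ := Groth.Agent.H7.QFinSp.exists_point_of_isPullback_yon
      (isPullback_bK_fst c.b K) v u hu.symm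
    have hO : IsOpen ((Points.ofPt (bK c.b K)) ⁻¹' V : Set (PrimeSpectrum (c.A ⊗[k] K))) :=
      hV.preimage (Points.continuous_ofPt _)
    have hwV : w ∈ ((Points.ofPt (bK c.b K)) ⁻¹' V : Set (PrimeSpectrum (c.A ⊗[k] K))) := by
      change Points.ofPt (bK c.b K) w ∈ V
      rw [hw]; exact hv
    obtain ⟨_, ⟨e, rfl⟩, hwe, hsub⟩ :=
      PrimeSpectrum.isTopologicalBasis_basic_opens.exists_subset_of_mem_open hwV hO
    exact ⟨c, e, ⟨w, hwe, hw⟩, Set.image_subset_iff.2 hsub⟩
  choose c e hmem hsub using loc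
  have hopen : ∀ v : V, IsOpen (Points.ofPt (bK (c v).b K) ''
      (PrimeSpectrum.basicOpen (e v) : Set (PrimeSpectrum ((c v).A ⊗[k] K)))) :=
    fun v => isOpenMap_ofPt_of_etale (etale_bK _ (c v).etale K) _
      (PrimeSpectrum.basicOpen (e v)).2
  obtain ⟨t, ht⟩ := hVc.elim_finite_subcover _ hopen
    (fun v hv => Set.mem_iUnion.2 ⟨⟨v, hv⟩, hmem ⟨v, hv⟩⟩)
  choose L hLfin hLe using fun v : V =>
    exists_finite_level (k := k) (A := (c v).A) (E := K) (e v)
  have hfin : FiniteDimensional k (t.sup L : IntermediateField k K) :=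
    exists_finite_level_finset t L (fun i _ => hLfin i)
  have hle : ∀ v ∈ t, L v ≤ t.sup L := fun v hv => Finset.le_sup hv
  generalize t.sup L = k' at hfin hle
  have hex : ∀ v : V, ∃ e' : (c v).A ⊗[k] k', v ∈ t → tmap (A := (c v).A) k' e' = e v := by
    intro v
    by_cases hv : v ∈ t
    · obtain ⟨e', he'⟩ := range_tmap_mono (A := (c v).A) (hle v hv) (hLe v)
      exact ⟨e', fun _ => he'⟩
    · exact ⟨0, fun h => absurd h hv⟩
  choose e' he' using hex
  refine ⟨k', hfin, ⋃ v ∈ t, Points.ofPt (bK (c v).b k') ''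
    (PrimeSpectrum.basicOpen (e' v) : Set (PrimeSpectrum ((c v).A ⊗[k] k'))), ?_, ?_, ?_⟩
  · exact isOpen_biUnion fun v _ => isOpenMap_ofPt_of_etale (etale_bK _ (c v).etale _) _
      (PrimeSpectrum.basicOpen (e' v)).2
  · exact t.isCompact_biUnion fun v _ =>
      (PrimeSpectrum.isCompact_basicOpen (e' v)).image (Points.continuous_ofPt _)
  · ext z
    constructor
    · intro hz
      obtain ⟨v, hz⟩ := Set.mem_iUnion.1 hz
      obtain ⟨hvt, w', hw', hz⟩ := Set.mem_iUnion.1 hz
      obtain ⟨w, hw, hw2⟩ := Groth.Agent.H7.QFinSp.exists_point_of_isPullback_yon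
        (isPullback_bK_tower (c v).b k' K) z w' hz.symm
      apply hsub v
      refine ⟨w, ?_, hw⟩
      rw [← he' v hvt]
      apply (mem_basicOpen_tmap k' (e' v) w).1
      change (tauN (k := k) (A := (c v).A) k' K).left w ∈ _
      rw [hw2]; exact hw'
    · intro hz
      obtain ⟨v, hz⟩ := Set.mem_iUnion.1 (ht hz)
      obtain ⟨hvt, w, hw, rfl⟩ := Set.mem_iUnion.1 hz
      refine Set.mem_iUnion.2 ⟨v, Set.mem_iUnion.2 ⟨hvt, ?_⟩⟩
      refine ⟨(tauN (k := k) (A := (c v).A) k' K).left w, ?_, (map_piX_ofPt_bK _ k' K w).symm⟩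
      apply (mem_basicOpen_tmap k' (e' v) w).2
      rw [he' v hvt]; exact hw

end chart

section main

variable {k : Type u} [Field k]

/-- S10472. -/
theorem S10472_main (X : AlgSp.Space (Spec (CommRingCat.of k))) (K : Type u) [Field K]
    [Algebra k K] [IsGalois k K]
    (V : Set (AlgSp.Points (X.obj ⨯ (AlgSp.yon (Spec (CommRingCat.of k))).obj
      (Over.mk (Spec.map (CommRingCat.ofHom (algebraMap k K)))))))
    (hV : IsOpen V) (hVc : IsCompact V) :
    ∃ (k' : IntermediateField k K) (_ : FiniteDimensional k k')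
      (g : (Over.mk (Spec.map (CommRingCat.ofHom (algebraMap k K))) :
        Over (Spec (CommRingCat.of k))) ⟶
          Over.mk (Spec.map (CommRingCat.ofHom (algebraMap k k')))),
      g.left = Spec.map (CommRingCat.ofHom (algebraMap k' K)) ∧
      ∃ V' : Set (AlgSp.Points (X.obj ⨯ (AlgSp.yon (Spec (CommRingCat.of k))).obj
          (Over.mk (Spec.map (CommRingCat.ofHom (algebraMap k k')))))),
        IsOpen V' ∧ IsCompact V' ∧
        AlgSp.Points.map (Limits.prod.map (𝟙 X.obj)
          ((AlgSp.yon (Spec (CommRingCat.of k))).map g)) ⁻¹' V' = V := by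
  haveI : Algebra.IsAlgebraic k K := Algebra.IsSeparable.isAlgebraic k _
  obtain ⟨k', hk', V', h1, h2, h3⟩ := exists_descent_level X.obj X.property K V hV hVc
  exact ⟨k', hk', gTower k k' K, rfl, V', h1, h2, h3⟩

/-- S10471. -/
theorem S10471_main (X : AlgSp.Space (Spec (CommRingCat.of k))) (K : Type u) [Field K]
    [Algebra k K] [IsGalois k K]
    (V : Set (AlgSp.Points (X.obj ⨯ (AlgSp.yon (Spec (CommRingCat.of k))).obj
      (Over.mk (Spec.map (CommRingCat.ofHom (algebraMap k K)))))))
    (hV : IsOpen V) (hVc : IsCompact V) :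
    ∃ H : Subgroup (K ≃ₐ[k] K), IsOpen (H : Set (K ≃ₐ[k] K)) ∧
      ∀ σ ∈ H, ∀ (g : (Over.mk (Spec.map (CommRingCat.ofHom (algebraMap k K))) :
          Over (Spec (CommRingCat.of k))) ⟶
            Over.mk (Spec.map (CommRingCat.ofHom (algebraMap k K)))),
        g.left = Spec.map (CommRingCat.ofHom (σ : K ≃ₐ[k] K).toRingHom) →
          AlgSp.Points.map (Limits.prod.map (𝟙 X.obj)
            ((AlgSp.yon (Spec (CommRingCat.of k))).map g)) '' V = V := by
  haveI : Algebra.IsAlgebraic k K := Algebra.IsSeparable.isAlgebraic k _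
  obtain ⟨k', hk', V', -, -, h3⟩ := exists_descent_level X.obj X.property K V hV hVc
  haveI := hk'
  refine ⟨k'.fixingSubgroup, k'.fixingSubgroup_isOpen, ?_⟩
  -- invariance under one element
  have key : ∀ σ ∈ k'.fixingSubgroup, ∀ (g : pt k K ⟶ pt k K),
      g.left = Spec.map (CommRingCat.ofHom (σ : K ≃ₐ[k] K).toRingHom) →
        ∀ v ∈ V, Points.map (Limits.prod.map (𝟙 X.obj)
          ((yon (Spec (CommRingCat.of k))).map g)) v ∈ V := by
    intro σ hσ g hg v hv
    have hgt : g ≫ gTower k k' K = gTower k k' K := by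
      apply Over.OverMorphism.ext
      rw [Over.comp_left, hg]
      change Spec.map _ ≫ Spec.map _ = Spec.map _
      rw [← Spec.map_comp]
      congr 1
      ext x
      exact (IntermediateField.mem_fixingSubgroup_iff _ _).1 hσ x x.2
    rw [← h3] at hv ⊢
    change Points.map (piX X.obj k' K) _ ∈ V'
    rw [← Points.map_comp]
    change Points.map (piX X.obj k' K) v ∈ V' at hv
    have : Limits.prod.map (𝟙 X.obj) ((yon (Spec (CommRingCat.of k))).map g) ≫ piX X.obj k' K
        = piX X.obj k' K := by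
      rw [prod.map_map, Category.id_comp, ← Functor.map_comp, hgt]
    rw [this]; exact hv
  intro σ hσ g hg
  apply Set.Subset.antisymm
  · rintro _ ⟨v, hv, rfl⟩
    exact key σ hσ g hg v hv
  · intro v hv
    let g' : pt k K ⟶ pt k K := Over.homMk
      (Spec.map (CommRingCat.ofHom ((σ⁻¹ : K ≃ₐ[k] K)).toRingHom)) (by
        change Spec.map _ ≫ Spec.map _ = Spec.map _
        rw [← Spec.map_comp]
        congr 1
        ext x
        exact (σ⁻¹ : K ≃ₐ[k] K).commutes x)
    have hg'g : g' ≫ g = 𝟙 _ := by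
      apply Over.OverMorphism.ext
      rw [Over.comp_left, hg]
      change Spec.map _ ≫ Spec.map _ = 𝟙 _
      rw [← Spec.map_comp, ← Spec.map_id]
      congr 1
      ext x
      change (σ⁻¹ : K ≃ₐ[k] K) (σ x) = x
      exact σ.symm_apply_apply x
    refine ⟨Points.map (Limits.prod.map (𝟙 X.obj)
      ((yon (Spec (CommRingCat.of k))).map g')) v,
      key σ⁻¹ (inv_mem hσ) g' rfl v hv, ?_⟩
    rw [← Points.map_comp, prod.map_map, Category.id_comp, ← Functor.map_comp, hg'g]
    erw [(yon (Spec (CommRingCat.of k))).map_id]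
    rw [prod.map_id_id]
    exact Points.map_id v

end main

end Groth.Agent.H7.GeomConnSp
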