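import Mathlib
import Groth.Prelude.Def_AlgSp4
import Groth.Prelude.Def_AlgSpDec
import Groth.Prelude.Def_AlgSpSub
import Groth.Agent.Lib.Helper7.LocNoethFib

set_option autoImplicit false
universe u
open CategoryTheory CategoryTheory.Limits AlgebraicGeometry Opposite

namespace Groth.Agent.H7.GeomRedFib

open _root_.AlgSp Groth.Agent.H5.AlgSp Groth.Agent.H7.LocNoethFib

variable {S : Scheme.{u}}

lemma toHom_fpOfHom {F : Sp S} {K : Type u} [Field K] (str : Spec (.of K) ⟶ S)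
    (x : (yon S).obj (Over.mk str) ⟶ F) : (fpOfHom str x).toHom = x :=
  fpHom_fpOfHom str x

lemma fpOfHom_toHom {F : Sp S} (p : FieldPt F) : fpOfHom p.str p.toHom = p :=
  fpOfHom_fpHom p

/-- Reducedness of sheaves descends along representable flat surjective quasi-compact
morphisms to an algebraic space. -/
theorem isReducedSp_of_repWith_fsq {P Q : Sp S} (hQ : IsAlgSpace Q) (g : P ⟶ Q)
    (hg : RepWith fsq g) (hP : IsReducedSp P) : IsReducedSp Q := by
  obtain ⟨V, b, hbe, hbs⟩ := hQ.atlas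
  have sq := hg.rep.isPullback b
  have h : fsq (hg.rep.snd b).left := hg.property_snd b
  have hfe : RepWith @Etale (hg.rep.fst b) :=
    MorphismProperty.of_isPullback (P := RepWith @Etale) sq.flip hbe
  have hW : AlgebraicGeometry.IsReduced (hg.rep.pullback b).left :=
    Groth.Agent.H3.AlgSpCov.isReduced_of_etale_of_isReducedSp hP (hg.rep.fst b) hfe
  have h1 : Flat (hg.rep.snd b).left := h.1.1
  have h2 : Surjective (hg.rep.snd b).left := h.1.2
  exact ⟨V, b, hbe, hbs,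
    Groth.Agent.H3.AlgSpCov.isReduced_of_flat_surjective (hg.rep.snd b).left h2.surj⟩

/-- If the field point `p` factors through the field point `p₀` and the fibres over `p` are
reduced, so are the fibres over `p₀`. -/
theorem reduced_fibre_of_factor (X Y : AlgSp.Space S) (f : X ⟶ Y)
    (p p₀ : AlgSp.FieldPt Y.obj) (c : p.pt ⟶ p₀.pt) (hc : (yon S).map c ≫ p₀.toHom = p.toHom)
    (hRed : ∀ ⦃P : AlgSp.Sp S⦄ (fst : P ⟶ X.obj) (snd : P ⟶ (AlgSp.yon S).obj p.pt),
      IsPullback fst snd f.hom p.toHom → AlgSp.IsReducedSp P)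
    {Q : AlgSp.Sp S} (qfst : Q ⟶ X.obj) (qsnd : Q ⟶ (AlgSp.yon S).obj p₀.pt)
    (hQ : IsPullback qfst qsnd f.hom p₀.toHom) :
    AlgSp.IsReducedSp Q := by
  have hQa : IsAlgSpace Q :=
    isAlgSpace_pullback Y.property.diag X.property (IsAlgSpace.yon_obj p₀.pt) hQ
  have sqP := IsPullback.of_hasPullback qsnd ((yon S).map c)
  have big : IsPullback (pullback.fst qsnd ((yon S).map c) ≫ qfst)
      (pullback.snd qsnd ((yon S).map c)) f.hom ((yon S).map c ≫ p₀.toHom) :=
    sqP.paste_horiz hQ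
  rw [hc] at big
  have hP : IsReducedSp (pullback qsnd ((yon S).map c)) := hRed _ _ big
  have hc' : RepWith fsq ((yon S).map c) := (repWith_yon_map_iff fsq c).2 (fsq_of_fields c.left)
  have hg : RepWith fsq (pullback.fst qsnd ((yon S).map c)) :=
    MorphismProperty.of_isPullback (P := RepWith fsq) sqP.flip hc'
  exact isReducedSp_of_repWith_fsq hQa _ hg hP

/-- The geometric reducedness hypothesis at `k₁`, in the form of arbitrary field points over
`k₁`. -/
theorem reduced_of_geom (X Y : AlgSp.Space S) (f : X ⟶ Y) (k : AlgSp.FieldPt Y.obj)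
    (H : ∀ (k' : Type u) [Field k'] (φ : k.K →+* k') (Xk' : AlgSp.Sp S) (a : Xk' ⟶ X.obj)
          (b : Xk' ⟶ (AlgSp.yon S).obj (Over.mk (Spec.map (CommRingCat.ofHom φ) ≫ k.str))),
          IsPullback a b f.hom ((AlgSp.yon S).map (Over.homMk (Spec.map (CommRingCat.ofHom φ)) rfl :
            Over.mk (Spec.map (CommRingCat.ofHom φ) ≫ k.str) ⟶ k.pt) ≫ k.toHom) →
          AlgSp.EtaleLocally (fun U => IsReduced U) Xk')
    {Ω : Type u} [Field Ω] (w : Spec (CommRingCat.of Ω) ⟶ S) (a' : Over.mk w ⟶ k.pt)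
    {P : AlgSp.Sp S} (fst : P ⟶ X.obj) (snd : P ⟶ (AlgSp.yon S).obj (Over.mk w))
    (sq : IsPullback fst snd f.hom ((yon S).map a' ≫ k.toHom)) : AlgSp.IsReducedSp P := by
  obtain ⟨φ, hφ⟩ : ∃ φ : k.K →+* Ω, Spec.map (CommRingCat.ofHom φ) = a'.left :=
    ⟨(Spec.preimage a'.left).hom, Spec.map_preimage a'.left⟩
  have hw : Spec.map (CommRingCat.ofHom φ) ≫ k.str = w := by
    rw [hφ]; exact Over.w a'
  let e : Over.mk w ≅ Over.mk (Spec.map (CommRingCat.ofHom φ) ≫ k.str) :=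
    Over.isoMk (Iso.refl _) (by simp [hw])
  have he : e.hom ≫ (Over.homMk (Spec.map (CommRingCat.ofHom φ)) rfl :
      Over.mk (Spec.map (CommRingCat.ofHom φ) ≫ k.str) ⟶ k.pt) = a' := by
    apply Over.OverMorphism.ext
    simp [e, hφ]
  refine H Ω φ P fst (snd ≫ (yon S).map e.hom) ?_
  refine IsPullback.of_iso sq (Iso.refl _) (Iso.refl _) ((yon S).mapIso e) (Iso.refl _)
    (by simp) (by simp) (by simp) ?_
  simp only [Iso.refl_hom, Category.comp_id, Functor.mapIso_hom]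
  rw [← Category.assoc, ← Functor.map_comp, he]

theorem S10686_main {X Y : AlgSp.Space S} (f : X ⟶ Y) (y : AlgSp.Points Y.obj) :
    [∃ (k : AlgSp.FieldPt Y.obj), AlgSp.Points.mk k = y ∧
        ∀ (k' : Type u) [Field k'] (φ : k.K →+* k') (Xk' : AlgSp.Sp S) (a : Xk' ⟶ X.obj)
          (b : Xk' ⟶ (AlgSp.yon S).obj (Over.mk (Spec.map (CommRingCat.ofHom φ) ≫ k.str))),
          IsPullback a b f.hom ((AlgSp.yon S).map (Over.homMk (Spec.map (CommRingCat.ofHom φ)) rfl :
            Over.mk (Spec.map (CommRingCat.ofHom φ) ≫ k.str) ⟶ k.pt) ≫ k.toHom) →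
          AlgSp.EtaleLocally (fun U => IsReduced U) Xk',
      ∀ (k : AlgSp.FieldPt Y.obj), AlgSp.Points.mk k = y →
        ∀ (k' : Type u) [Field k'] (φ : k.K →+* k') (Xk' : AlgSp.Sp S) (a : Xk' ⟶ X.obj)
          (b : Xk' ⟶ (AlgSp.yon S).obj (Over.mk (Spec.map (CommRingCat.ofHom φ) ≫ k.str))),
          IsPullback a b f.hom ((AlgSp.yon S).map (Over.homMk (Spec.map (CommRingCat.ofHom φ)) rfl :
            Over.mk (Spec.map (CommRingCat.ofHom φ) ≫ k.str) ⟶ k.pt) ≫ k.toHom) →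
          AlgSp.EtaleLocally (fun U => IsReduced U) Xk',
      ∀ (k : AlgSp.FieldPt Y.obj), AlgSp.Points.mk k = y →
        ∀ (Xk : AlgSp.Sp S) (a : Xk ⟶ X.obj) (b : Xk ⟶ (AlgSp.yon S).obj k.pt), IsPullback a b f.hom k.toHom →
          AlgSp.EtaleLocally (fun U => IsReduced U) Xk].TFAE := by
  tfae_have 2 → 1 := by
    intro H
    obtain ⟨k, hk⟩ := Points.mk_surjective y
    exact ⟨k, hk, H k hk⟩
  tfae_have 3 → 2 := by
    intro H k hk k' _ φ Xk' a b sq
    have hr : Points.mk (fpOfHom (Spec.map (CommRingCat.ofHom φ) ≫ k.str)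
        ((AlgSp.yon S).map (Over.homMk (Spec.map (CommRingCat.ofHom φ)) rfl :
            Over.mk (Spec.map (CommRingCat.ofHom φ) ≫ k.str) ⟶ k.pt) ≫ k.toHom)) = y := by
      rw [mk_fpOfHom_comp k.str, fpOfHom_toHom, hk]
    refine H _ hr Xk' a b ?_
    rw [toHom_fpOfHom]
    exact sq
  tfae_have 1 → 3 := by
    rintro ⟨k₁, hk₁, H⟩ k hk Xk a b sq
    have hkk : Points.mk (fpOfHom k₁.str k₁.toHom) = Points.mk (fpOfHom k.str k.toHom) := by
      rw [fpOfHom_toHom, fpOfHom_toHom, hk₁, hk]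
    obtain ⟨Ω, _, w, a', b', hab⟩ := (mk_fpOfHom_eq_iff _ _ _ _).1 hkk
    refine reduced_fibre_of_factor X Y f (fpOfHom w ((yon S).map b' ≫ k.toHom)) k b'
      (toHom_fpOfHom _ _).symm ?_ a b sq
    intro P fst snd hP
    rw [toHom_fpOfHom, ← hab] at hP
    exact reduced_of_geom X Y f k₁ H w a' fst snd hP
  tfae_finish

end Groth.Agent.H7.GeomRedFib
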