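import Mathlib
import Groth.Prelude
import Groth.Agent.Lib.Helper7.GeomConnSp1
import Groth.Agent.Lib.Helper7.GeomRedFib
import Groth.Agent.Lib.Helper5.AlgSp.FibreProduct

set_option autoImplicit false
universe u
open CategoryTheory CategoryTheory.Limits AlgebraicGeometry Opposite TopologicalSpace

namespace Groth.Agent.H7.GeomFibCard

open _root_.AlgSp Groth.Agent.H5.AlgSp Groth.Agent.H7.GeomConnSp

variable {S : Scheme.{u}}

/-- the fibre over a separably closed field point and its base change to a bigger field have the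
same number of connected components. -/
theorem card_eq_of_field_ext {X Y : Sp S} (hX : IsAlgSpace X) (hY : IsAlgSpace Y) (f : X ⟶ Y)
    (k : FieldPt Y) [IsSepClosed k.K]
    (Xk : Sp S) (a : Xk ⟶ X) (b : Xk ⟶ (yon S).obj k.pt) (h : IsPullback a b f k.toHom)
    {Ω : Type u} [Field Ω] (w : Spec (CommRingCat.of Ω) ⟶ S) (m : Over.mk w ⟶ k.pt)
    (XΩ : Sp S) (p : XΩ ⟶ X) (q : XΩ ⟶ (yon S).obj (Over.mk w))
    (hΩ : IsPullback p q f ((yon S).map m ≫ k.toHom)) :
    ENat.card (ConnectedComponents (Points XΩ)) = ENat.card (ConnectedComponents (Points Xk)) := by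
  have hXk : IsAlgSpace Xk := isAlgSpace_pullback hY.diag hX (IsAlgSpace.yon_obj _) h
  obtain ⟨l, hl⟩ : ∃ l, l = h.lift p (q ≫ (yon S).map m) (by rw [Category.assoc]; exact hΩ.w) :=
    ⟨_, rfl⟩
  have hl1 : l ≫ a = p := by rw [hl]; exact h.lift_fst _ _ _
  have hl2 : l ≫ b = q ≫ (yon S).map m := by rw [hl]; exact h.lift_snd _ _ _
  have sq : IsPullback l q b ((yon S).map m) := by
    refine IsPullback.of_right (h₁₂ := a) (h₂₂ := k.toHom) ?_ hl2 h
    rw [hl1]
    exact hΩ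
  haveI : IsIntegral k.pt.left := (inferInstance : IsIntegral (Spec (CommRingCat.of k.K)))
  haveI : Subsingleton ↥k.pt.left := (inferInstance : Subsingleton (PrimeSpectrum k.K))
  have hb := bijective_connectedComponentsMap hXk (IsAlgSpace.yon_obj (Over.mk w)) (T := k.pt)
    ((yon S).map m) b l q sq (by
      intro L _ str hh P fst snd sqP
      obtain ⟨φ, hφ⟩ := Spec.map_surjective m.left
      letI : Algebra k.K Ω := φ.hom.toAlgebra
      have hm : m.left = Spec.map (CommRingCat.ofHom (algebraMap k.K Ω)) := hφ.symm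
      haveI : ConnectedSpace ↥(pullback hh.left m.left) := by
        rw [hm]
        exact connectedSpace_pullback_field (E := k.K) (Ω := Ω) hh.left
      exact connectedSpace_points_of_isPullback_yon hh m P fst snd sqP)
  exact ENat.card_congr (Equiv.ofBijective _ hb)

theorem S10670_main {X Y X' Y' : AlgSp.Space S} (f : X ⟶ Y) (g : Y' ⟶ Y)
    (gX : X' ⟶ X) (f' : X' ⟶ Y')
    (hsq : IsPullback gX.hom f'.hom f.hom g.hom)
    (k' : AlgSp.FieldPt Y'.obj) (hk' : k'.IsGeometric) (k : AlgSp.FieldPt Y.obj)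
    (hk : k.IsGeometric)
    (hkk : AlgSp.Points.mk k = AlgSp.Points.map g.hom (AlgSp.Points.mk k'))
    (Xk' : AlgSp.Sp S) (a' : Xk' ⟶ X'.obj) (b' : Xk' ⟶ (AlgSp.yon S).obj k'.pt)
    (h' : IsPullback a' b' f'.hom k'.toHom)
    (Xk : AlgSp.Sp S) (a : Xk ⟶ X.obj) (b : Xk ⟶ (AlgSp.yon S).obj k.pt)
    (h : IsPullback a b f.hom k.toHom) :
    ENat.card (_root_.ConnectedComponents (AlgSp.Points Xk')) =
      ENat.card (_root_.ConnectedComponents (AlgSp.Points Xk)) := by
  haveI : IsAlgClosed k.K := hk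
  haveI : IsAlgClosed k'.K := hk'
  haveI : IsSepClosed k.K := inferInstance
  haveI : IsSepClosed k'.K := inferInstance
  have e1 : Points.mk k = Points.mk (fpOfHom k.str k.toHom) := by
    rw [Groth.Agent.H7.GeomRedFib.fpOfHom_toHom]
  have e2 : Points.map g.hom (Points.mk k') = Points.mk (fpOfHom k'.str (k'.toHom ≫ g.hom)) := by
    conv_lhs => rw [← Groth.Agent.H7.GeomRedFib.fpOfHom_toHom k']
    rw [map_mk_fpOfHom]
  rw [e1, e2, mk_fpOfHom_eq_iff] at hkk
  obtain ⟨Ω, _, w, m, m', hmm⟩ := hkk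
  -- the fibre over Ω
  obtain ⟨P, p, q, sqΩ⟩ : ∃ (P : Sp S) (p : P ⟶ X.obj) (q : P ⟶ (yon S).obj (Over.mk w)),
      IsPullback p q f.hom ((yon S).map m ≫ k.toHom) :=
    ⟨_, _, _, IsPullback.of_hasPullback f.hom ((yon S).map m ≫ k.toHom)⟩
  have c1 := card_eq_of_field_ext X.property Y.property f.hom k Xk a b h w m _ _ _ sqΩ
  -- the fibre over Ω as a base change of `X'`
  have hw : p ≫ f.hom = (q ≫ (yon S).map m' ≫ k'.toHom) ≫ g.hom := by
    rw [sqΩ.w, hmm]
    simp only [Category.assoc]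
  obtain ⟨l, hl⟩ : ∃ l, l = hsq.lift _ _ hw := ⟨_, rfl⟩
  have hl1 : l ≫ gX.hom = p := by
    rw [hl]; exact hsq.lift_fst _ _ _
  have hl2 : l ≫ f'.hom = q ≫ (yon S).map m' ≫ k'.toHom := by
    rw [hl]; exact hsq.lift_snd _ _ _
  have sqΩ' : IsPullback l q f'.hom ((yon S).map m' ≫ k'.toHom) := by
    refine IsPullback.of_right (h₁₂ := gX.hom) (h₂₂ := g.hom) ?_ hl2 hsq
    rw [hl1, Category.assoc, ← hmm]
    exact sqΩ
  have c2 := card_eq_of_field_ext X'.property Y'.property f'.hom k' Xk' a' b' h' w m' _ _ _ sqΩ'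
  rw [← c1, ← c2]

end Groth.Agent.H7.GeomFibCard
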