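import Mathlib

/-! helper7: geometric irreducibility via flatness and the generic fibre (S17181). -/

set_option autoImplicit false

universe u

open CategoryTheory Limits AlgebraicGeometry TopologicalSpace

namespace Groth.Agent.H7.GeomIrr

/-- a flat morphism whose fibre over a generic point of the target is irreducible has irreducible
source. -/
theorem irreducibleSpace_of_flat_of_fiber {X C : Scheme.{u}} (f : X ⟶ C) [Flat f]
    (η : C) (hη : ∀ c : C, η ⤳ c) [IrreducibleSpace (f.fiber η)] : IrreducibleSpace X := by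
  obtain ⟨ξ, hξ⟩ : ∃ ξ : f.fiber η, ξ = genericPoint (f.fiber η) := ⟨_, rfl⟩
  have key : ∀ x : X, f.fiberι η ξ ⤳ x := by
    intro x
    obtain ⟨x', hx', hfx'⟩ := Flat.generalizingMap f (hη (f x))
    have hmem : x' ∈ Set.range (f.fiberι η) := by rw [f.range_fiberι]; exact hfx'
    obtain ⟨z, rfl⟩ := hmem
    have h1 : ξ ⤳ z := hξ ▸ genericPoint_specializes z
    exact (h1.map (f.fiberι η).continuous).trans hx'
  rw [irreducibleSpace_def]
  change IsIrreducible (Set.univ : Set X)
  have h2 : (Set.univ : Set X) = closure {f.fiberι η ξ} :=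
    (Set.eq_univ_of_forall fun x ↦ specializes_iff_mem_closure.mp (key x)).symm
  rw [h2]
  exact isIrreducible_singleton.closure

/-- the fibre of a base change is a base change of the fibre. -/
theorem geometricallyIrreducible_fiber_of_isPullback {X X' C C' : Scheme.{u}} {f : X ⟶ C}
    {f' : X' ⟶ C'} {g' : X' ⟶ X} {g : C' ⟶ C} (h : IsPullback g' f' f g) (c' : C')
    [GeometricallyIrreducible (f.fiberToSpecResidueField (g c'))] :
    GeometricallyIrreducible (f'.fiberToSpecResidueField c') := by
  have ha : IsPullback (f'.fiberι c') (f'.fiberToSpecResidueField c') f'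
      (C'.fromSpecResidueField c') := IsPullback.of_hasPullback _ _
  have hb := ha.paste_horiz h
  have he : IsPullback (f.fiberι (g c')) (f.fiberToSpecResidueField (g c')) f
      (C.fromSpecResidueField (g c')) := IsPullback.of_hasPullback _ _
  have hc : C'.fromSpecResidueField c' ≫ g =
      Spec.map (g.residueFieldMap c') ≫ C.fromSpecResidueField (g c') :=
    (Scheme.Hom.SpecMap_residueFieldMap_fromSpecResidueField g c').symm
  rw [hc] at hb
  let l : f'.fiber c' ⟶ f.fiber (g c') :=
    he.lift (f'.fiberι c' ≫ g') (f'.fiberToSpecResidueField c' ≫ Spec.map (g.residueFieldMap c'))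
      hb.w
  have hl1 : l ≫ f.fiberι (g c') = f'.fiberι c' ≫ g' := he.lift_fst _ _ _
  have hl2 : l ≫ f.fiberToSpecResidueField (g c') =
      f'.fiberToSpecResidueField c' ≫ Spec.map (g.residueFieldMap c') := he.lift_snd _ _ _
  rw [← hl1] at hb
  have hleft := IsPullback.of_right hb hl2 he
  exact MorphismProperty.of_isPullback (P := @GeometricallyIrreducible) hleft inferInstance

/-- **S17181**. -/
theorem S17181_main (k : Type u) [Field k]
    (X C : Scheme.{u}) [X.Over (Spec (CommRingCat.of k))] [C.Over (Spec (CommRingCat.of k))]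
    (f : X ⟶ C) [f.IsOver (Spec (CommRingCat.of k))] [IrreducibleSpace X] [IrreducibleSpace C]
    [GeometricallyIrreducible (C ↘ Spec (CommRingCat.of k))] [Flat f] [LocallyOfFiniteType f]
    [GeometricallyIrreducible (f.fiberToSpecResidueField (genericPoint C))] :
    GeometricallyIrreducible (X ↘ Spec (CommRingCat.of k)) := by
  refine ⟨geometrically_iff_of_isClosedUnderIsomorphisms.mpr fun K _ x ↦ ?_⟩
  have hCK : IrreducibleSpace ↥(pullback (C ↘ Spec (CommRingCat.of k)) x) :=
    pullback_of_geometrically
      (GeometricallyIrreducible.geometrically_irreducibleSpace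
        (f := C ↘ Spec (CommRingCat.of k))) K x
  have hw : f ≫ (C ↘ Spec (CommRingCat.of k)) = X ↘ Spec (CommRingCat.of k) :=
    CategoryTheory.comp_over f _
  let fK : pullback (X ↘ Spec (CommRingCat.of k)) x ⟶ pullback (C ↘ Spec (CommRingCat.of k)) x :=
    pullback.map _ _ _ _ f (𝟙 _) (𝟙 _) (by simp [hw]) (by simp)
  have h1 : fK ≫ pullback.fst (C ↘ Spec (CommRingCat.of k)) x =
      pullback.fst (X ↘ Spec (CommRingCat.of k)) x ≫ f := pullback.lift_fst _ _ _
  have h2 : fK ≫ pullback.snd (C ↘ Spec (CommRingCat.of k)) x =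
      pullback.snd (X ↘ Spec (CommRingCat.of k)) x :=
    (pullback.lift_snd _ _ _).trans (Category.comp_id _)
  have hbig : IsPullback (pullback.fst (X ↘ Spec (CommRingCat.of k)) x)
      (pullback.snd (X ↘ Spec (CommRingCat.of k)) x) (X ↘ Spec (CommRingCat.of k)) x :=
    IsPullback.of_hasPullback _ _
  have hright : IsPullback (pullback.fst (C ↘ Spec (CommRingCat.of k)) x)
      (pullback.snd (C ↘ Spec (CommRingCat.of k)) x) (C ↘ Spec (CommRingCat.of k)) x :=
    IsPullback.of_hasPullback _ _
  -- the left square is a pullback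
  have hleft : IsPullback (pullback.fst (X ↘ Spec (CommRingCat.of k)) x) fK f
      (pullback.fst (C ↘ Spec (CommRingCat.of k)) x) := by
    refine IsPullback.of_bot ?_ h1.symm hright
    rw [h2, hw]
    exact hbig
  haveI : Flat fK := MorphismProperty.of_isPullback (P := @Flat) hleft inferInstance
  -- the generic point of C_K lies over the generic point of C
  obtain ⟨ηK, hηK⟩ : ∃ ηK : ↥(pullback (C ↘ Spec (CommRingCat.of k)) x),
      ηK = genericPoint _ := ⟨_, rfl⟩
  have hη : pullback.fst (C ↘ Spec (CommRingCat.of k)) x ηK = genericPoint C := by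
    haveI : Flat (pullback.fst (C ↘ Spec (CommRingCat.of k)) x) := inferInstance
    obtain ⟨c', hc', hfc'⟩ := Flat.generalizingMap (pullback.fst (C ↘ Spec (CommRingCat.of k)) x)
      (genericPoint_specializes (pullback.fst (C ↘ Spec (CommRingCat.of k)) x ηK))
    have h3 : ηK ⤳ c' := hηK ▸ genericPoint_specializes c'
    have h4 : c' = ηK := (hc'.antisymm h3).eq
    rw [← hfc', h4]
  haveI : GeometricallyIrreducible (f.fiberToSpecResidueField
      (pullback.fst (C ↘ Spec (CommRingCat.of k)) x ηK)) := by
    rw [hη]; infer_instance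
  haveI := geometricallyIrreducible_fiber_of_isPullback hleft ηK
  haveI : IrreducibleSpace (fK.fiber ηK) :=
    GeometricallyIrreducible.irreducibleSpace_of_subsingleton (fK.fiberToSpecResidueField ηK)
  exact irreducibleSpace_of_flat_of_fiber fK ηK (fun c ↦ hηK ▸ genericPoint_specializes c)

end Groth.Agent.H7.GeomIrr
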