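import Groth.Agent.Lib.Helper7.GeomRedOpenSp1
import Groth.Agent.Lib.Helper1.GRedGlobal
import Groth.Agent.Lib.Helper3.Residual.OnePoint
import Groth.Agent.Lib.Helper5.AlgSp.SchImageQC
import Mathlib

/-!
# Constructibility of the locus of geometrically reduced fibres for algebraic spaces (S10683)
-/

set_option autoImplicit false
universe u
open CategoryTheory CategoryTheory.Limits AlgebraicGeometry Topology TopologicalSpace

namespace Groth.Agent.H7.GeomRedConstrSp

open _root_.AlgSp Groth.Agent.H5.AlgSp Groth.Agent.H7.GeomRedFib Groth.Agent.H3.AlgSpProp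
  Groth.Agent.H1.GRedPt Groth.Agent.H1.GRedPtOpen Groth.Agent.H7.GeomRedOpenSp

variable {S : Scheme.{u}}

/-- every morphism to a scheme all of whose local rings are fields is flat. -/
theorem flat_of_isField_stalk {Z T : Scheme.{u}} (r : Z ⟶ T)
    (hT : ∀ t : T, IsField (T.presheaf.stalk t)) : Flat r := by
  rw [Flat.iff_flat_stalkMap]
  intro z
  letI := (hT (r z)).toField
  algebraize [(r.stalkMap z).hom]
  show Module.Flat _ _
  infer_instance

/-- `grAt` implies the intrinsic condition (no flatness needed). -/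
theorem gr_of_mem_grAt' {X Y : Sp S} (f : X ⟶ Y) {U V : Over S} (a : (yon S).obj U ⟶ X)
    (b : (yon S).obj V ⟶ Y) (h : U ⟶ V) (ha : RepWith @Etale a) (hb : RepWith @Etale b)
    (comm : a ≫ f = (yon S).map h ≫ b) [LocallyOfFinitePresentation h.left]
    (u : U.left) (hu : u ∈ grAt h.left) : GR f (Points.ofPt a u) := by
  intro K _ str ξ P fst snd sqP z hz
  obtain ⟨T₁, Z₁, p₁, q₁, rU, rT, c, sqT, hq₁, sqS, sqL, hc, -⟩ :=
    exists_fibre_chart a b h ha hb comm ξ fst snd sqP
  obtain ⟨z₁, hz₁, hz₁u⟩ := Groth.Agent.H7.QFinSp.exists_point_of_isPullback_yon sqL z u hz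
  refine ⟨Z₁, c, z₁, hc, hz₁, ?_⟩
  have hT₁ : IsReduced T₁.left :=
    Groth.Agent.H3.AlgSpCov.isReduced_of_etale_of_isReducedSp (isReducedSp_yon_field str)
      ((yon S).map q₁) ((repWith_yon_map_iff @Etale _).2 hq₁)
  have hfld : ∀ t : T₁.left, IsField (T₁.left.presheaf.stalk t) := by
    intro t
    haveI : Etale q₁.left := hq₁
    exact Groth.Agent.H3.Residual.isField_stalk_of_etale_field (k := K) q₁.left t
  haveI : Flat rT.left := flat_of_isField_stalk rT.left hfld
  haveI : LocallyOfFinitePresentation rT.left :=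
    MorphismProperty.of_isPullback (P := @LocallyOfFinitePresentation) sqS inferInstance
  refine Groth.Agent.H1.GRedPtData.isReduced_stalk rT.left z₁ inferInstance ?_
  rw [grAt_of_isPullback h.left rT.left rU.left p₁.left sqS]
  change rU.left z₁ ∈ grAt h.left
  rw [hz₁u]; exact hu

/-- S10683. -/
theorem S10683_main {X Y : AlgSp.Space S} (f : X ⟶ Y)
    (hf1 : AlgSp.IsQuasiCompactMor f.hom) (hf2 : AlgSp.LocP @LocallyOfFinitePresentation f.hom)
    (V : Over S) (hV : IsAffine V.left) (a : (AlgSp.yon S).obj V ⟶ Y.obj)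
    (ha : AlgSp.RepWith @Etale a) :
    Topology.IsConstructible ((AlgSp.Points.ofPt a) ⁻¹' {y : AlgSp.Points Y.obj | ERed f y}) := by
  have sq := IsPullback.of_hasPullback f.hom a
  haveI : CompactSpace V.left := inferInstance
  obtain ⟨U, u, hue, hus, hU⟩ := hf1 (IsAlgSpace.yon_obj V)
    ((isQuasiCompactSp_yon_iff V).2 inferInstance) a (pullback.fst f.hom a)
    (pullback.snd f.hom a) sq
  obtain ⟨h, hh⟩ := (yon S).map_surjective (u ≫ pullback.snd f.hom a)
  have hfst : RepWith @Etale (pullback.fst f.hom a) :=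
    MorphismProperty.of_isPullback (P := RepWith (S := S) @Etale) sq.flip ha
  have ha' : RepWith @Etale (u ≫ pullback.fst f.hom a) :=
    (repWith_isMultiplicative (S := S) @Etale).comp_mem _ _ hue hfst
  have comm : (u ≫ pullback.fst f.hom a) ≫ f.hom = (yon S).map h ≫ a := by
    rw [Category.assoc, pullback.condition, ← Category.assoc, hh]
  haveI : LocallyOfFinitePresentation h.left := hf2 _ a h ha' ha comm
  haveI : CompactSpace U.left := hU
  haveI : QuasiCompact h.left := inferInstance
  have key : (AlgSp.Points.ofPt a) ⁻¹' {y : AlgSp.Points Y.obj | ERed f y}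
      = Groth.Agent.H1.GRedLocus.grLocus h.left := by
    ext v
    rw [Set.mem_preimage, Set.mem_ofPred_eq, ered_iff]
    change _ ↔ GeometricallyReduced (h.left.fiberToSpecResidueField v)
    rw [geometricallyReduced_fiber_iff]
    constructor
    · intro hG u₀ hu₀
      refine mem_grAt_of_gr X.property Y.property f.hom _ a h ha' ha comm u₀ (hG _ ?_)
      rw [Points.map_ofPt, comm, ofPt_yon_map_comp, hu₀]
    · intro hG x hx
      obtain ⟨z, hz1, hz2⟩ := points_pullback_surjective sq x (Points.ofScheme V v)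
        (by rw [hx, Points.ofPt_eq_map_ofScheme])
      obtain ⟨u₀, rfl⟩ := ofPt_surjective_of_repWith hus z
      have hv : h.left u₀ = v := by
        rw [Points.map_ofPt, ← hh] at hz2
        have := congrArg (Points.toScheme V) hz2
        rwa [Points.toScheme_ofPt, Points.toScheme_ofScheme] at this
      rw [← hz1, Points.map_ofPt]
      exact gr_of_mem_grAt' f.hom _ a h ha' ha comm u₀ (hG u₀ hv)
  rw [key]
  exact (Groth.Agent.H1.GRedGlobal.isLocallyConstructible_grLocus h.left).isConstructible

end Groth.Agent.H7.GeomRedConstrSp
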