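import Groth.Agent.Lib.Helper7.GeomRedFib
import Groth.Agent.Lib.Helper7.QFin18
import Groth.Agent.Lib.Helper7.NASA6
import Groth.Agent.Lib.Helper1.GRedPtOpen
import Groth.Agent.Lib.Helper1.GRedPtData
import Groth.Agent.Lib.Helper3.AlgSpProp.HasAt
import Groth.Agent.Lib.Helper3.AlgSpCov.RedNoeth
import Groth.Agent.Lib.Helper5.AlgSp.LocPCalc
import Groth.Agent.Lib.Helper5.AlgSp.PointsTop
import Groth.Agent.Lib.Helper8.AlgLCI.RegImm
import Mathlib

/-!
# Openness of the locus of geometrically reduced fibres for algebraic spaces (S10682)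
-/

set_option autoImplicit false
universe u
open CategoryTheory CategoryTheory.Limits AlgebraicGeometry Topology TopologicalSpace

namespace Groth.Agent.H7.GeomRedOpenSp

open _root_.AlgSp Groth.Agent.H5.AlgSp Groth.Agent.H7.GeomRedFib Groth.Agent.H3.AlgSpProp
  Groth.Agent.H1.GRedPt Groth.Agent.H1.GRedPtOpen

variable {S : Scheme.{u}}

/-- the pointed property "the local ring is reduced". -/
abbrev RedAt : ∀ U : Scheme.{u}, ↥U → Prop := fun U u => _root_.IsReduced ↥(U.presheaf.stalk u)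

/-- The fibre of `f` through `x` is geometrically reduced at `x` (intrinsic form). -/
def GR {X Y : Sp S} (f : X ⟶ Y) (x : Points X) : Prop :=
  ∀ (K : Type u) [Field K] (str : Spec (CommRingCat.of K) ⟶ S)
    (ξ : (yon S).obj (Over.mk str) ⟶ Y) (P : Sp S) (fst : P ⟶ X)
    (snd : P ⟶ (yon S).obj (Over.mk str)), IsPullback fst snd f ξ →
    ∀ z : Points P, Points.map fst z = x → HasAt RedAt P z

/-- The chart `Z₁ = U ×_V (V ×_Y T)` of the fibre product `P = X ×_Y T` attached to a chart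
diagram of `f`. -/
theorem exists_fibre_chart {X Y : Sp S} {f : X ⟶ Y} {U V : Over S} (a : (yon S).obj U ⟶ X)
    (b : (yon S).obj V ⟶ Y) (h : U ⟶ V) (ha : RepWith @Etale a) (hb : RepWith @Etale b)
    (comm : a ≫ f = (yon S).map h ≫ b) {T : Over S} (ξ : (yon S).obj T ⟶ Y) {P : Sp S}
    (fst : P ⟶ X) (snd : P ⟶ (yon S).obj T) (sqP : IsPullback fst snd f ξ) :
    ∃ (T₁ Z₁ : Over S) (p₁ : T₁ ⟶ V) (q₁ : T₁ ⟶ T) (rU : Z₁ ⟶ U) (rT : Z₁ ⟶ T₁)
      (c : (yon S).obj Z₁ ⟶ P),
      IsPullback ((yon S).map p₁) ((yon S).map q₁) b ξ ∧ Etale q₁.left ∧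
      IsPullback rU.left rT.left h.left p₁.left ∧
      IsPullback c ((yon S).map rU) fst a ∧ RepWith @Etale c ∧
      c ≫ snd = (yon S).map (rT ≫ q₁) := by
  have sqT : IsPullback ((yon S).map (hb.rep.fst' ξ)) ((yon S).map (hb.rep.snd ξ)) b ξ :=
    hb.rep.isPullback' ξ
  have hq₁ : Etale (hb.rep.snd ξ).left := hb.property_snd ξ
  let Z₁ : Over S := Over.mk (pullback.fst h.left (hb.rep.fst' ξ).left ≫ U.hom)
  let rU : Z₁ ⟶ U := Over.homMk (pullback.fst h.left (hb.rep.fst' ξ).left) rfl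
  let rT : Z₁ ⟶ hb.rep.pullback ξ := Over.homMk (pullback.snd h.left (hb.rep.fst' ξ).left) (by
    change pullback.snd h.left (hb.rep.fst' ξ).left ≫ (hb.rep.pullback ξ).hom
      = pullback.fst h.left (hb.rep.fst' ξ).left ≫ U.hom
    rw [← Over.w (hb.rep.fst' ξ), ← Over.w h, ← Category.assoc, ← Category.assoc,
      pullback.condition])
  have sqS : IsPullback rU.left rT.left h.left (hb.rep.fst' ξ).left :=
    IsPullback.of_hasPullback _ _
  have sqO : IsPullback rU rT h (hb.rep.fst' ξ) :=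
    (Groth.Agent.H7.QFinSp.isPullback_left_iff' _ _ _ _).1 sqS
  have sqZ := Groth.Agent.H7.NAS.isPullback_yon sqO
  have big := sqZ.paste_vert sqT
  rw [← comm] at big
  have hw : ((yon S).map rU ≫ a) ≫ f
      = ((yon S).map rT ≫ (yon S).map (hb.rep.snd ξ)) ≫ ξ := by
    rw [Category.assoc]; exact big.w
  have hc1 : sqP.lift _ _ hw ≫ fst = (yon S).map rU ≫ a := sqP.lift_fst _ _ _
  have hc2 : sqP.lift _ _ hw ≫ snd = (yon S).map rT ≫ (yon S).map (hb.rep.snd ξ) :=
    sqP.lift_snd _ _ _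
  have sqL : IsPullback ((yon S).map rU) (sqP.lift _ _ hw) a fst := by
    refine IsPullback.of_bot ?_ hc1.symm sqP
    rw [hc2]; exact big
  refine ⟨hb.rep.pullback ξ, Z₁, hb.rep.fst' ξ, hb.rep.snd ξ, rU, rT, sqP.lift _ _ hw, sqT, hq₁,
    sqS, sqL.flip, ?_, ?_⟩
  · exact MorphismProperty.of_isPullback (P := RepWith (S := S) @Etale) sqL ha
  · rw [hc2, Functor.map_comp]

/-- all points of `h_{Spec K}` map to the point of the field point. -/
theorem map_eq_mk_fpOfHom {F : Sp S} {K : Type u} [Field K] (str : Spec (CommRingCat.of K) ⟶ S)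
    (ξ : (yon S).obj (Over.mk str) ⟶ F) (w : Points ((yon S).obj (Over.mk str))) :
    Points.map ξ w = Points.mk (fpOfHom str ξ) := by
  obtain ⟨t, rfl⟩ := (Points.schemeHomeo (Over.mk str)).surjective w
  have ht : t = IsLocalRing.closedPoint K := Subsingleton.elim (α := PrimeSpectrum K) _ _
  subst ht
  rw [← ofPt_closedPoint str ξ, Points.ofPt_eq_map_ofScheme]
  rfl

theorem isReducedSp_yon_field {K : Type u} [Field K] (str : Spec (CommRingCat.of K) ⟶ S) :
    IsReducedSp ((yon S).obj (Over.mk str)) :=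
  ⟨Over.mk str, 𝟙 _, repWith_id @Etale _, repWith_id @Surjective _,
    (inferInstance : IsReduced (Spec (CommRingCat.of K)))⟩

/-- `grAt` implies the intrinsic condition. -/
theorem gr_of_mem_grAt {X Y : Sp S} (f : X ⟶ Y) {U V : Over S} (a : (yon S).obj U ⟶ X)
    (b : (yon S).obj V ⟶ Y) (h : U ⟶ V) (ha : RepWith @Etale a) (hb : RepWith @Etale b)
    (comm : a ≫ f = (yon S).map h ≫ b) [Flat h.left] [LocallyOfFinitePresentation h.left]
    (u : U.left) (hu : u ∈ grAt h.left) : GR f (Points.ofPt a u) := by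
  intro K _ str ξ P fst snd sqP z hz
  obtain ⟨T₁, Z₁, p₁, q₁, rU, rT, c, sqT, hq₁, sqS, sqL, hc, -⟩ :=
    exists_fibre_chart a b h ha hb comm ξ fst snd sqP
  obtain ⟨z₁, hz₁, hz₁u⟩ := Groth.Agent.H7.QFinSp.exists_point_of_isPullback_yon sqL z u hz
  refine ⟨Z₁, c, z₁, hc, hz₁, ?_⟩
  have hT₁ : IsReduced T₁.left :=
    Groth.Agent.H3.AlgSpCov.isReduced_of_etale_of_isReducedSp (isReducedSp_yon_field str)
      ((yon S).map q₁) ((repWith_yon_map_iff @Etale _).2 hq₁)
  haveI : Flat rT.left := MorphismProperty.of_isPullback (P := @Flat) sqS inferInstance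
  haveI : LocallyOfFinitePresentation rT.left :=
    MorphismProperty.of_isPullback (P := @LocallyOfFinitePresentation) sqS inferInstance
  refine Groth.Agent.H1.GRedPtData.isReduced_stalk rT.left z₁ inferInstance ?_
  rw [grAt_of_isPullback h.left rT.left rU.left p₁.left sqS]
  change rU.left z₁ ∈ grAt h.left
  rw [hz₁u]; exact hu

/-- the intrinsic condition implies `grAt`. -/
theorem mem_grAt_of_gr {X Y : Sp S} (hX : IsAlgSpace X) (hY : IsAlgSpace Y) (f : X ⟶ Y)
    {U V : Over S} (a : (yon S).obj U ⟶ X)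
    (b : (yon S).obj V ⟶ Y) (h : U ⟶ V) (ha : RepWith @Etale a) (hb : RepWith @Etale b)
    (comm : a ≫ f = (yon S).map h ≫ b) (u : U.left) (hgr : GR f (Points.ofPt a u)) :
    u ∈ grAt h.left := by
  rw [mem_grAt_iff_test]
  intro K _ g Z fstZ sndZ hZ z hzu
  let str : Spec (CommRingCat.of K) ⟶ S := g ≫ V.hom
  let g' : Over.mk str ⟶ V := Over.homMk g rfl
  have sqP := IsPullback.of_hasPullback f ((yon S).map g' ≫ b)
  obtain ⟨T₁, Z₁, p₁, q₁, rU, rT, c, sqT, hq₁, sqS, sqL, hc, hcs⟩ :=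
    exists_fibre_chart a b h ha hb comm ((yon S).map g' ≫ b) _ _ sqP
  -- the section
  obtain ⟨s, hs⟩ := (yon S).map_surjective
    (sqT.lift ((yon S).map g') (𝟙 _) (by rw [Category.id_comp]))
  have hs1 : s ≫ p₁ = g' := (yon S).map_injective (by
    rw [Functor.map_comp, hs, sqT.lift_fst])
  have hs2 : s ≫ q₁ = 𝟙 _ := (yon S).map_injective (by
    rw [Functor.map_comp, hs, sqT.lift_snd]
    exact ((yon S).map_id _).symm)
  have hse : Etale s.left :=
    Groth.Agent.H8.AlgLCI.etale_of_comp_etale s ((yon S).map q₁)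
      ((repWith_yon_map_iff @Etale _).2 hq₁) (by
        rw [← Functor.map_comp, hs2]
        refine (repWith_yon_map_iff @Etale _).2 ?_
        change Etale (𝟙 _)
        infer_instance)
  -- the map `Z ⟶ Z₁`
  have hw : fstZ ≫ h.left = (sndZ ≫ s.left) ≫ p₁.left := by
    rw [Category.assoc, ← Over.comp_left, hs1]; exact hZ.w
  have he1 : sqS.lift fstZ (sndZ ≫ s.left) hw ≫ rU.left = fstZ := sqS.lift_fst _ _ _
  have he2 : sqS.lift fstZ (sndZ ≫ s.left) hw ≫ rT.left = sndZ ≫ s.left := sqS.lift_snd _ _ _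
  have sqe : IsPullback (sqS.lift fstZ (sndZ ≫ s.left) hw) sndZ rT.left s.left := by
    refine IsPullback.of_right ?_ he2 sqS
    rw [he1, ← Over.comp_left, hs1]
    exact hZ
  haveI : Etale (sqS.lift fstZ (sndZ ≫ s.left) hw) :=
    MorphismProperty.of_isPullback (P := @Etale) sqe.flip hse
  have hz₁ : Points.map (pullback.fst f ((yon S).map g' ≫ b))
      (Points.ofPt c (sqS.lift fstZ (sndZ ≫ s.left) hw z)) = Points.ofPt a u := by
    rw [Points.map_ofPt, sqL.w, ofPt_yon_map_comp]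
    congr 1
    rw [← Scheme.Hom.comp_apply, he1, hzu]
  have hP : IsAlgSpace (pullback f ((yon S).map g' ≫ b)) :=
    isAlgSpace_pullback hY.diag hX (IsAlgSpace.yon_obj _) sqP
  have hred := (hasAt_iff_forall etaleLocalAt_isReduced_stalk hP _).1
    (hgr K str _ _ _ _ sqP _ hz₁) Z₁ c _ hc rfl
  exact (etaleLocalAt_isReduced_stalk (sqS.lift fstZ (sndZ ≫ s.left) hw) z).2 hred


/-- the geometric reducedness of the fibres over `y` (shape of the statement). -/
def ERed {X Y : AlgSp.Space S} (f : X ⟶ Y) (y : AlgSp.Points Y.obj) : Prop :=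
  ∀ (k : AlgSp.FieldPt Y.obj), AlgSp.Points.mk k = y →
    ∀ (k' : Type u) [Field k'] (φ : k.K →+* k') (Xk' : AlgSp.Sp S) (a : Xk' ⟶ X.obj)
      (b : Xk' ⟶ (AlgSp.yon S).obj (Over.mk (Spec.map (CommRingCat.ofHom φ) ≫ k.str))),
      IsPullback a b f.hom ((AlgSp.yon S).map (Over.homMk (Spec.map (CommRingCat.ofHom φ)) rfl :
        Over.mk (Spec.map (CommRingCat.ofHom φ) ≫ k.str) ⟶ k.pt) ≫ k.toHom) →
      AlgSp.EtaleLocally (fun U => IsReduced U) Xk'

theorem ered_iff {X Y : AlgSp.Space S} (f : X ⟶ Y) (y : AlgSp.Points Y.obj) :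
    ERed f y ↔ ∀ x : Points X.obj, Points.map f.hom x = y → GR f.hom x := by
  constructor
  · intro hE x hx K _ str ξ P fst snd sqP z hz
    -- the field point `ξ` lies over `y`
    have hk : Points.mk (fpOfHom str ξ) = y := by
      rw [← map_eq_mk_fpOfHom str ξ (Points.map snd z), ← Points.map_comp, ← sqP.w,
        Points.map_comp, hz, hx]
    have h23 := (S10686_main f y).out 1 2
    have h3 := h23.1 hE (fpOfHom str ξ) hk P fst snd (by
      rw [Groth.Agent.H7.GeomRedFib.toHom_fpOfHom]; exact sqP)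
    obtain ⟨T, p, hpe, hps, hT⟩ := h3
    obtain ⟨t, ht⟩ := ofPt_surjective_of_repWith hps z
    haveI := hT
    exact ⟨T, p, t, hpe, ht, inferInstance⟩
  · intro hG k hk k' _ φ Xk' a b sq
    have hXk' : IsAlgSpace Xk' :=
      isAlgSpace_pullback Y.property.diag X.property (IsAlgSpace.yon_obj _) sq
    obtain ⟨T, p, hpe, hps⟩ := hXk'.atlas
    refine ⟨T, p, hpe, hps, ?_⟩
    have hr : Points.mk (fpOfHom (Spec.map (CommRingCat.ofHom φ) ≫ k.str)
        ((AlgSp.yon S).map (Over.homMk (Spec.map (CommRingCat.ofHom φ)) rfl :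
            Over.mk (Spec.map (CommRingCat.ofHom φ) ≫ k.str) ⟶ k.pt) ≫ k.toHom)) = y := by
      rw [mk_fpOfHom_comp k.str, fpOfHom_toHom, hk]
    have hst : ∀ t : T.left, _root_.IsReduced (T.left.presheaf.stalk t) := by
      intro t
      have hx : Points.map f.hom (Points.map a (Points.ofPt p t)) = y := by
        rw [← Points.map_comp, sq.w, Points.map_comp, map_eq_mk_fpOfHom, hr]
      have := hG _ hx k' (Spec.map (CommRingCat.ofHom φ) ≫ k.str) _ Xk' a b sq
        (Points.ofPt p t) rfl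
      exact (hasAt_iff_forall etaleLocalAt_isReduced_stalk hXk' _).1 this T p t hpe rfl
    exact AlgebraicGeometry.isReduced_of_isReduced_stalk T.left

/-- S10682. -/
theorem S10682_main {X Y : AlgSp.Space S} (f : X ⟶ Y)
    (hf1 : AlgSp.LocP @Flat f.hom) (hf2 : AlgSp.IsProperMor f.hom)
    (hf3 : AlgSp.IsFinitePresentationMor f.hom) :
    IsOpen {y : AlgSp.Points Y.obj | ∀ (k : AlgSp.FieldPt Y.obj), AlgSp.Points.mk k = y →
        ∀ (k' : Type u) [Field k'] (φ : k.K →+* k') (Xk' : AlgSp.Sp S) (a : Xk' ⟶ X.obj)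
          (b : Xk' ⟶ (AlgSp.yon S).obj (Over.mk (Spec.map (CommRingCat.ofHom φ) ≫ k.str))),
          IsPullback a b f.hom ((AlgSp.yon S).map (Over.homMk (Spec.map (CommRingCat.ofHom φ)) rfl :
            Over.mk (Spec.map (CommRingCat.ofHom φ) ≫ k.str) ⟶ k.pt) ≫ k.toHom) →
          AlgSp.EtaleLocally (fun U => IsReduced U) Xk'} := by
  have hW : IsOpen {x : Points X.obj | GR f.hom x} := by
    obtain ⟨V, b, hbe, hbs⟩ := Y.property.atlas
    obtain ⟨U, a, h, hae, has, comm⟩ := exists_chart_diagram_surj X.property f.hom hbe hbs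
    haveI : Flat h.left := hf1 a b h hae hbe comm
    haveI : LocallyOfFinitePresentation h.left := hf3.1 a b h hae hbe comm
    rw [← (isQuotientMap_ofPt hae has).isOpen_preimage]
    have hpre : Points.ofPt a ⁻¹' {x | GR f.hom x} = grAt h.left := by
      ext u
      exact ⟨mem_grAt_of_gr X.property Y.property f.hom a b h hae hbe comm u,
        gr_of_mem_grAt f.hom a b h hae hbe comm u⟩
    rw [hpre]
    exact isOpen_grAt h.left
  have hcl : IsClosedMap (Points.map f.hom) :=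
    hf2.2.2 Y.property (𝟙 _) (𝟙 _) f.hom (IsPullback.of_horiz_isIso ⟨by simp⟩)
  have hE : {y : AlgSp.Points Y.obj | ERed f y}
      = (Points.map f.hom '' {x : Points X.obj | GR f.hom x}ᶜ)ᶜ := by
    ext y
    rw [Set.mem_ofPred_eq, ered_iff, Set.mem_compl_iff, Set.mem_image]
    constructor
    · rintro h ⟨x, hx, hxy⟩
      exact hx (h x hxy)
    · intro h x hxy
      by_contra hx
      exact h ⟨x, hx, hxy⟩
  change IsOpen {y : AlgSp.Points Y.obj | ERed f y}
  rw [hE]
  exact (hcl _ hW.isClosed_compl).isOpen_compl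

end Groth.Agent.H7.GeomRedOpenSp
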