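import Groth.Agent.Lib.Helper7.GeomConnSp1
import Groth.Agent.H4.GeomRed2
import Groth.Agent.Lib.Helper1.BCTowerApp
import Mathlib

/-!
# Geometric reducedness of algebraic spaces over fields and base field extension (S10479, S10502)
-/

set_option autoImplicit false
universe u

open AlgebraicGeometry CategoryTheory Limits TensorProduct

namespace Groth.Agent.H7.GeomRedSp

open _root_.AlgSp Groth.Agent.H5.AlgSp Groth.Agent.H7.GeomConnSp Groth.Agent.H4.GeomRed

variable {k : Type u} [Field k]

/-- geometric reducedness at a point and base field extension, for schemes. -/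
theorem isGeomReducedAt_bcStr_iff {K : Type u} [Field K] [Algebra k K] {X : Scheme.{u}}
    (f : X ⟶ Spec (CommRingCat.of k)) (x : X) (x' : ↥(FBase.bc f K))
    (hx' : (FBase.bcπ f K).base x' = x) :
    FBase.IsGeomReducedAt f x ↔ FBase.IsGeomReducedAt (FBase.bcStr f K) x' := by
  letI : X.Over (Spec (CommRingCat.of k)) := ⟨f⟩
  exact Groth.Agent.H1.BCTower.s1545 k X K x x' hx'

section chartK

variable (K : Type u) [Field K] [Algebra k K]

/-- chart independence of geometric reducedness over `K` at a point of a space over `Spec K`. -/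
theorem isGeomReducedAt_chart_iff_K {X' : Sp (Spec (CommRingCat.of k))}
    (π : X' ⟶ (yon (Spec (CommRingCat.of k))).obj (pt k K))
    {U U' : Over (Spec (CommRingCat.of k))}
    (a : (yon _).obj U ⟶ X') (a' : (yon _).obj U' ⟶ X') (q : U ⟶ pt k K) (q' : U' ⟶ pt k K)
    (hq : a ≫ π = (yon _).map q) (hq' : a' ≫ π = (yon _).map q')
    (ha : RepWith @Etale a) (ha' : RepWith @Etale a') (u : ↥U.left) (u' : ↥U'.left)
    (hx : Points.ofPt a u = Points.ofPt a' u') :
    FBase.IsGeomReducedAt q.left u ↔ FBase.IsGeomReducedAt q'.left u' := by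
  obtain ⟨W, snd, fst, sq⟩ := ha.1 a'
  obtain ⟨e, rfl⟩ := (yon _).map_surjective fst
  have he : Etale e.left := ha'.2 a _ _ sq.flip
  have hsnd : Etale snd.left := ha.2 a' _ _ sq
  have h1 : Points.map a (Points.ofScheme U u) = Points.ofPt a' u' := by
    rw [← Points.ofPt_eq_map_ofScheme, hx]
  obtain ⟨w, hw1, hw2⟩ := exists_point_of_isPullback sq _ u' h1
  have hw3 : e.left w = u := eq_of_ofPt_yon_map_eq e w u hw2
  have hcomm : e ≫ q = snd ≫ q' := by
    apply (yon _).map_injective
    rw [Functor.map_comp, Functor.map_comp, ← hq, ← hq', ← Category.assoc, ← Category.assoc, sq.w]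
  have hcomm' : e.left ≫ q.left = snd.left ≫ q'.left := by
    have := congrArg (fun m => m.left) hcomm
    simpa using this
  rw [← hw3, ← hw1]
  exact (isGeomReducedAt_iff_of_etale (e.left ≫ q.left) q.left e.left rfl w).symm.trans
    (isGeomReducedAt_iff_of_etale (e.left ≫ q.left) q'.left snd.left hcomm'.symm w)

end chartK


section bcChart

variable (K : Type u) [Field K] [Algebra k K]

/-- the base change of a `k`-scheme to `K`, as a scheme over `Spec k`. -/
noncomputable abbrev bcOver (U : Over (Spec (CommRingCat.of k))) : Over (Spec (CommRingCat.of k)) :=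
  Over.mk (FBase.bcπ U.hom K ≫ U.hom)

noncomputable abbrev bcPr1 (U : Over (Spec (CommRingCat.of k))) : bcOver K U ⟶ U :=
  Over.homMk (FBase.bcπ U.hom K) rfl

noncomputable abbrev bcPr2 (U : Over (Spec (CommRingCat.of k))) : bcOver K U ⟶ pt k K :=
  Over.homMk (FBase.bcStr U.hom K) (pullback.condition.symm)

noncomputable abbrev toTm (U : Over (Spec (CommRingCat.of k))) : U ⟶ Tm k :=
  Over.homMk U.hom (by simp)

theorem isPullback_bcOver (U : Over (Spec (CommRingCat.of k))) :
    IsPullback (bcPr1 K U) (bcPr2 K U) (toTm U) (gT k K) := by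
  have hcomm : bcPr1 K U ≫ toTm U = bcPr2 K U ≫ gT k K := Over.OverMorphism.ext pullback.condition
  exact IsPullback.of_map (Over.forget _) hcomm
    (IsPullback.of_hasPullback U.hom (Spec.map (CommRingCat.ofHom (algebraMap k K))))

/-- the base change of a chart. -/
noncomputable def bcChart {X : Sp (Spec (CommRingCat.of k))} {U : Over (Spec (CommRingCat.of k))}
    (a : (yon _).obj U ⟶ X) :
    (yon _).obj (bcOver K U) ⟶ X ⨯ (yon (Spec (CommRingCat.of k))).obj (pt k K) :=
  prod.lift ((yon _).map (bcPr1 K U) ≫ a) ((yon _).map (bcPr2 K U))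

theorem bcChart_snd {X : Sp (Spec (CommRingCat.of k))} {U : Over (Spec (CommRingCat.of k))}
    (a : (yon _).obj U ⟶ X) : bcChart K a ≫ prod.snd = (yon _).map (bcPr2 K U) := by
  unfold bcChart
  rw [prod.lift_snd]

theorem bcChart_fst {X : Sp (Spec (CommRingCat.of k))} {U : Over (Spec (CommRingCat.of k))}
    (a : (yon _).obj U ⟶ X) : bcChart K a ≫ prod.fst = (yon _).map (bcPr1 K U) ≫ a := by
  unfold bcChart
  rw [prod.lift_fst]

theorem isPullback_bcChart {X : Sp (Spec (CommRingCat.of k))}
    {U : Over (Spec (CommRingCat.of k))} (a : (yon _).obj U ⟶ X) :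
    IsPullback (bcChart K a) ((yon _).map (bcPr1 K U)) prod.fst a := by
  have big := (isPullback_bcOver K U).map (yon (Spec (CommRingCat.of k)))
  have right := isPullback_prod X ((yon (Spec (CommRingCat.of k))).obj (pt k K))
  have he : (hT k).from ((yon (Spec (CommRingCat.of k))).obj (pt k K)) =
      (yon (Spec (CommRingCat.of k))).map (gT k K) := (hT k).hom_ext _ _
  rw [he] at right
  have he2 : a ≫ (hT k).from X = (yon (Spec (CommRingCat.of k))).map (toTm U) :=
    (hT k).hom_ext _ _
  refine IsPullback.of_right (h₁₂ := prod.snd) (h₂₂ := (hT k).from X) ?_ (bcChart_fst K a)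
    right.flip
  rw [bcChart_snd, he2]
  exact big.flip

theorem repWith_etale_bcChart {X : Sp (Spec (CommRingCat.of k))}
    {U : Over (Spec (CommRingCat.of k))} (a : (yon _).obj U ⟶ X) (ha : RepWith @Etale a) :
    RepWith @Etale (bcChart K a) :=
  MorphismProperty.of_isPullback (P := RepWith @Etale) (isPullback_bcChart K a).flip ha

/-- points of the base-changed chart over a given pair of points. -/
theorem exists_point_bcChart {X : Sp (Spec (CommRingCat.of k))}
    {U : Over (Spec (CommRingCat.of k))} (a : (yon _).obj U ⟶ X) (u : ↥U.left)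
    (x' : Points (X ⨯ (yon (Spec (CommRingCat.of k))).obj (pt k K)))
    (hx' : Points.map prod.fst x' = Points.ofPt a u) :
    ∃ u' : ↥(bcOver K U).left, (FBase.bcπ U.hom K).base u' = u ∧
      Points.ofPt (bcChart K a) u' = x' :=
  exists_point_of_isPullback (isPullback_bcChart K a) x' u hx'

end bcChart


section main

variable (K : Type u) [Field K] [Algebra k K]

/-- S10479. -/
theorem S10479_main (X : AlgSp.Space (Spec (CommRingCat.of k)))
    (x : AlgSp.Points X.obj) (x' : AlgSp.Points (X.obj ⨯ (AlgSp.yon (Spec (CommRingCat.of k))).obj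
      (Over.mk (Spec.map (CommRingCat.ofHom (algebraMap k K))))))
    (hx' : AlgSp.Points.map (Limits.prod.fst : (X.obj ⨯ (AlgSp.yon (Spec (CommRingCat.of k))).obj
      (Over.mk (Spec.map (CommRingCat.ofHom (algebraMap k K))))) ⟶ X.obj) x' = x) :
    (∃ (U : Over (Spec (CommRingCat.of k))) (a : (AlgSp.yon (Spec (CommRingCat.of k))).obj U ⟶ X.obj)
      (u : ↥U.left), AlgSp.RepWith @Etale a ∧ AlgSp.Points.ofPt a u = x ∧
        FBase.IsGeomReducedAt U.hom u) ↔
      ∃ (U' : Over (Spec (CommRingCat.of k))) (a' : (AlgSp.yon (Spec (CommRingCat.of k))).obj U' ⟶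
          (X.obj ⨯ (AlgSp.yon (Spec (CommRingCat.of k))).obj
            (Over.mk (Spec.map (CommRingCat.ofHom (algebraMap k K))))))
        (q : U' ⟶ Over.mk (Spec.map (CommRingCat.ofHom (algebraMap k K)))) (u' : ↥U'.left),
        AlgSp.RepWith @Etale a' ∧
          a' ≫ Limits.prod.snd = (AlgSp.yon (Spec (CommRingCat.of k))).map q ∧
          AlgSp.Points.ofPt a' u' = x' ∧ FBase.IsGeomReducedAt q.left u' := by
  constructor
  · rintro ⟨U, a, u, ha, hu, hg⟩
    obtain ⟨u', hu'1, hu'2⟩ := exists_point_bcChart K a u x' (hx'.trans hu.symm)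
    refine ⟨bcOver K U, bcChart K a, bcPr2 K U, u', repWith_etale_bcChart K a ha,
      bcChart_snd K a, hu'2, ?_⟩
    exact (isGeomReducedAt_bcStr_iff U.hom u u' hu'1).1 hg
  · rintro ⟨U', a', q, u', ha', hq, hu', hg'⟩
    obtain ⟨U, a, hae, has⟩ := X.property.atlas
    obtain ⟨u, hu⟩ := ofPt_surjective_of_repWith has x
    obtain ⟨u'', hu''1, hu''2⟩ := exists_point_bcChart K a u x' (hx'.trans hu.symm)
    refine ⟨U, a, u, hae, hu, ?_⟩
    refine (isGeomReducedAt_bcStr_iff U.hom u u'' hu''1).2 ?_
    exact (isGeomReducedAt_chart_iff_K K prod.snd a' (bcChart K a) q (bcPr2 K U) hq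
      (bcChart_snd K a) ha' (repWith_etale_bcChart K a hae) u' u'' (hu'.trans hu''2.symm)).1 hg'

/-- S10502. -/
theorem S10502_main (X : AlgSp.Space (Spec (CommRingCat.of k))) :
    (∀ x : AlgSp.Points X.obj, (∃ (U : Over (Spec (CommRingCat.of k)))
      (a : (AlgSp.yon (Spec (CommRingCat.of k))).obj U ⟶ X.obj) (u : ↥U.left),
      AlgSp.RepWith @Etale a ∧ AlgSp.Points.ofPt a u = x ∧ FBase.IsGeomReducedAt U.hom u)) ↔
      ∀ x' : AlgSp.Points (X.obj ⨯ (AlgSp.yon (Spec (CommRingCat.of k))).obj
        (Over.mk (Spec.map (CommRingCat.ofHom (algebraMap k K))))),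
        (∃ (U' : Over (Spec (CommRingCat.of k)))
          (a' : (AlgSp.yon (Spec (CommRingCat.of k))).obj U' ⟶
            (X.obj ⨯ (AlgSp.yon (Spec (CommRingCat.of k))).obj
              (Over.mk (Spec.map (CommRingCat.ofHom (algebraMap k K))))))
        (q : U' ⟶ Over.mk (Spec.map (CommRingCat.ofHom (algebraMap k K)))) (u' : ↥U'.left),
        AlgSp.RepWith @Etale a' ∧
          a' ≫ Limits.prod.snd = (AlgSp.yon (Spec (CommRingCat.of k))).map q ∧
          AlgSp.Points.ofPt a' u' = x' ∧ FBase.IsGeomReducedAt q.left u') := by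
  constructor
  · intro h x'
    exact (S10479_main K X _ x' rfl).1 (h _)
  · intro h x
    obtain ⟨x', hx'⟩ := surjective_fst X.obj K x
    exact (S10479_main K X x x' hx').2 (h x')

end main

end Groth.Agent.H7.GeomRedSp
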