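import Groth.Agent.Lib.Helper7.GeomRedSp1
import Groth.Agent.Lib.Helper3.AlgSpCov.RedNoeth
import Groth.Agent.Lib.Helper3.Decent.Etale
import Groth.Agent.Lib.Helper5.AlgSp.Decent
import Mathlib

/-!
# Geometrically integral algebraic spaces over fields (S10497)
-/

set_option autoImplicit false
universe u

open AlgebraicGeometry CategoryTheory Limits TensorProduct

namespace Groth.Agent.H7.GeomRedSp

open _root_.AlgSp Groth.Agent.H5.AlgSp Groth.Agent.H7.GeomConnSp Groth.Agent.H4.GeomRed

variable {k : Type u} [Field k]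

/-- S10497. -/
theorem S10497_main (X : AlgSp.Space (Spec (CommRingCat.of k))) (hX : AlgSp.IsDecent X.obj) :
    (∀ (K : Type u) [Field K] [Algebra k K], AlgSp.IsIntegralSp (X.obj ⨯
      (AlgSp.yon (Spec (CommRingCat.of k))).obj
        (Over.mk (Spec.map (CommRingCat.ofHom (algebraMap k K)))))) ↔
      (∀ x : AlgSp.Points X.obj, (∃ (U : Over (Spec (CommRingCat.of k)))
        (a : (AlgSp.yon (Spec (CommRingCat.of k))).obj U ⟶ X.obj) (u : ↥U.left),
      AlgSp.RepWith @Etale a ∧ AlgSp.Points.ofPt a u = x ∧ FBase.IsGeomReducedAt U.hom u)) ∧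
        ∀ (K : Type u) [Field K] [Algebra k K], IrreducibleSpace (AlgSp.Points (X.obj ⨯
          (AlgSp.yon (Spec (CommRingCat.of k))).obj
            (Over.mk (Spec.map (CommRingCat.ofHom (algebraMap k K)))))) := by
  obtain ⟨U, a, hae, has⟩ := X.property.atlas
  constructor
  · intro H
    refine ⟨fun x => ?_, fun K _ _ => (H K).2.2⟩
    obtain ⟨u, hu⟩ := ofPt_surjective_of_repWith has x
    refine ⟨U, a, u, hae, hu, ?_⟩
    intro K _ _ u' _
    haveI : AlgebraicGeometry.IsReduced (bcOver K U).left :=
      Groth.Agent.H3.AlgSpCov.isReduced_of_etale_of_isReducedSp (H K).1 (bcChart K a)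
        (repWith_etale_bcChart K a hae)
    exact (inferInstance : _root_.IsReduced ((bcOver K U).left.presheaf.stalk u'))
  · rintro ⟨H1, H2⟩ K _ _
    refine ⟨⟨bcOver K U, bcChart K a, repWith_etale_bcChart K a hae,
      MorphismProperty.of_isPullback (P := RepWith @Surjective) (isPullback_bcChart K a).flip has,
      ?_⟩, ?_, H2 K⟩
    · haveI : ∀ u' : ↥(bcOver K U).left, _root_.IsReduced ((bcOver K U).left.presheaf.stalk u') := by
        intro u'
        have hg := geomReducedAtPt_iff_forall _ (H1 (Points.ofPt a ((FBase.bcπ U.hom K).base u')))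
          U a _ hae rfl
        exact hg K u' rfl
      exact isReduced_of_isReduced_stalk _
    · exact isDecent_of_isPullback (IsAlgSpace.yon_obj (Tm k))
        (isPullback_prod X.obj ((yon (Spec (CommRingCat.of k))).obj (pt k K))) hX
        (Groth.Agent.H3.Decent.isDecent_yon _)

end Groth.Agent.H7.GeomRedSp
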