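import Mathlib
import Groth.Prelude.Def_SGA4a

open CategoryTheory CategoryTheory.Limits Opposite

universe v u

namespace Groth.Agent.H7.Gir

variable {E : Type v} [Category.{u} E]

/-- kernel pairs are equivalence relations -/
theorem isEquivRel_of_isKernelPair {X Y R : E} {f : X ⟶ Y} {a b : R ⟶ X}
    (h : IsKernelPair f a b) : SGA4.IsEquivRel a b := by
  intro T
  have key : ∀ x y : T ⟶ X, (∃ g : T ⟶ R, g ≫ a = x ∧ g ≫ b = y) ↔ x ≫ f = y ≫ f := by
    intro x y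
    constructor
    · rintro ⟨g, rfl, rfl⟩
      rw [Category.assoc, Category.assoc, h.w]
    · intro e
      exact ⟨h.lift x y e, h.lift_fst _ _ _, h.lift_snd _ _ _⟩
  refine ⟨?_, ⟨?_, ?_, ?_⟩⟩
  · intro f₁ f₂ hf
    have h1 : f₁ ≫ a = f₂ ≫ a := congrArg Prod.fst hf
    have h2 : f₁ ≫ b = f₂ ≫ b := congrArg Prod.snd hf
    exact h.hom_ext h1 h2
  · intro x
    exact (key x x).mpr rfl
  · intro x y hxy
    exact (key y x).mpr ((key x y).mp hxy).symm
  · intro x y z hxy hyz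
    exact (key x z).mpr (((key x y).mp hxy).trans ((key y z).mp hyz))

theorem effectiveEpi_iso_comp {X X' Y : E} (i : X' ≅ X) (f : X ⟶ Y) [EffectiveEpi f] :
    EffectiveEpi (i.hom ≫ f) := by
  have hh : ∀ {W : E} (e : X' ⟶ W),
      (∀ {Z : E} (g₁ g₂ : Z ⟶ X'), g₁ ≫ i.hom ≫ f = g₂ ≫ i.hom ≫ f → g₁ ≫ e = g₂ ≫ e) →
      ∀ {Z : E} (g₁ g₂ : Z ⟶ X), g₁ ≫ f = g₂ ≫ f → g₁ ≫ i.inv ≫ e = g₂ ≫ i.inv ≫ e := by
    intro W e h Z g₁ g₂ hg
    have := h (g₁ ≫ i.inv) (g₂ ≫ i.inv) (by simpa using hg)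
    simpa using this
  exact ⟨⟨{
    desc := fun e h => EffectiveEpi.desc f (i.inv ≫ e) (hh e h)
    fac := fun e h => by
      rw [Category.assoc, EffectiveEpi.fac, Iso.hom_inv_id_assoc]
    uniq := fun e h m hm => by
      apply EffectiveEpi.uniq
      rw [← hm, Category.assoc, Iso.inv_hom_id_assoc] }⟩⟩

variable [HasPullbacks E]

/-- universally effective epimorphisms -/
def Cover {A B : E} (π : A ⟶ B) : Prop :=
  ∀ ⦃P B' : E⦄ (fst : P ⟶ A) (snd : P ⟶ B') (g : B' ⟶ B), IsPullback fst snd π g →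
    EffectiveEpi snd

theorem cover_of_chosen {A B : E} (π : A ⟶ B)
    (h : ∀ (B' : E) (g : B' ⟶ B), EffectiveEpi (pullback.snd π g)) : Cover π := by
  intro P B' fst snd g hP
  haveI := h B' g
  have e : snd = hP.isoPullback.hom ≫ pullback.snd π g := hP.isoPullback_hom_snd.symm
  rw [e]
  exact effectiveEpi_iso_comp _ _

theorem Cover.effectiveEpi {A B : E} {π : A ⟶ B} (h : Cover π) : EffectiveEpi π :=
  h (𝟙 A) π (𝟙 B) (IsPullback.of_horiz_isIso ⟨by simp⟩)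

theorem Cover.epi {A B : E} {π : A ⟶ B} (h : Cover π) : Epi π :=
  haveI := h.effectiveEpi
  inferInstance

theorem Cover.baseChange {A B P B' : E} {π : A ⟶ B} (h : Cover π) {fst : P ⟶ A} {snd : P ⟶ B'}
    {g : B' ⟶ B} (hP : IsPullback fst snd π g) : Cover snd := by
  intro P' B'' fst' snd' g' hP'
  exact h (fst' ≫ fst) snd' (g' ≫ g) (hP'.paste_horiz hP)

theorem cover_of_iso {A B : E} (π : A ⟶ B) [IsIso π] : Cover π := by
  intro P B' fst snd g hP
  haveI : IsIso snd := hP.isIso_snd_of_isIso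
  infer_instance

/-- the lifting property of covers against monomorphisms -/
theorem Cover.lift {A B I Z : E} {p : A ⟶ B} (hp : Cover p) (m : I ⟶ Z) [Mono m]
    (a : A ⟶ I) (b : B ⟶ Z) (w : a ≫ m = p ≫ b) : ∃ d : B ⟶ I, p ≫ d = a ∧ d ≫ m = b := by
  haveI := hp.effectiveEpi
  have h : ∀ {Z' : E} (g₁ g₂ : Z' ⟶ A), g₁ ≫ p = g₂ ≫ p → g₁ ≫ a = g₂ ≫ a := by
    intro Z' g₁ g₂ hg
    rw [← cancel_mono m, Category.assoc, Category.assoc, w, ← Category.assoc, hg, Category.assoc]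
  refine ⟨EffectiveEpi.desc p a h, EffectiveEpi.fac p a h, ?_⟩
  rw [← cancel_epi p, ← Category.assoc, EffectiveEpi.fac, w]

variable (hc : ∀ (R A : E) (p₁ p₂ : R ⟶ A), SGA4.IsEquivRel p₁ p₂ →
  SGA4.IsEffectiveUniversalEquivRel p₁ p₂)

include hc in
/-- image factorisation -/
theorem exists_image {X Y : E} (f : X ⟶ Y) :
    ∃ (I : E) (e : X ⟶ I) (m : I ⟶ Y), e ≫ m = f ∧ Cover e ∧ Mono m := by
  have hk : IsKernelPair f (pullback.fst f f) (pullback.snd f f) := IsPullback.of_hasPullback f f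
  obtain ⟨I, e, hpb, hpo, hcov⟩ := hc _ _ _ _ (isEquivRel_of_isKernelPair hk)
  have he : Cover e := cover_of_chosen e hcov
  let m : I ⟶ Y := hpo.desc f f pullback.condition
  have hm : e ≫ m = f := hpo.inl_desc _ _ _
  refine ⟨I, e, m, hm, he, ⟨?_⟩⟩
  intro T u v huv
  -- two successive base changes of `e`
  have h1 : IsPullback (pullback.fst e u) (pullback.snd e u) e u := IsPullback.of_hasPullback e u
  let s₁ := pullback.snd e u
  have h2 : IsPullback (pullback.fst e (s₁ ≫ v)) (pullback.snd e (s₁ ≫ v)) e (s₁ ≫ v) :=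
    IsPullback.of_hasPullback e (s₁ ≫ v)
  let s₂ := pullback.snd e (s₁ ≫ v)
  haveI : Epi s₁ := (he.baseChange h1).epi
  haveI : Epi s₂ := (he.baseChange h2).epi
  let x : pullback e (s₁ ≫ v) ⟶ X := s₂ ≫ pullback.fst e u
  let y : pullback e (s₁ ≫ v) ⟶ X := pullback.fst e (s₁ ≫ v)
  have hx : x ≫ e = s₂ ≫ s₁ ≫ u := by
    show (s₂ ≫ pullback.fst e u) ≫ e = _
    rw [Category.assoc, h1.w]
  have hy : y ≫ e = s₂ ≫ s₁ ≫ v := h2.w
  have hxy : x ≫ f = y ≫ f := by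
    rw [← hm, ← Category.assoc, ← Category.assoc, hx, hy, Category.assoc, Category.assoc,
      Category.assoc, Category.assoc, huv]
  have hxe : x ≫ e = y ≫ e := by
    have h3 : hk.lift x y hxy ≫ pullback.fst f f = x := hk.lift_fst _ _ _
    have h4 : hk.lift x y hxy ≫ pullback.snd f f = y := hk.lift_snd _ _ _
    calc x ≫ e = (hk.lift x y hxy ≫ pullback.fst f f) ≫ e := by rw [h3]
      _ = hk.lift x y hxy ≫ pullback.snd f f ≫ e := by rw [Category.assoc, hpb.w]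
      _ = y ≫ e := by rw [← Category.assoc, h4]
  rw [hx, hy] at hxe
  exact (cancel_epi s₁).mp ((cancel_epi s₂).mp hxe)

end Groth.Agent.H7.Gir
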