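import Mathlib
import Groth.Prelude.Def_SGA4a
import Groth.Agent.Lib.Helper7.Gir1

open CategoryTheory CategoryTheory.Limits Opposite

universe v u

namespace Groth.Agent.H7.Gir

variable {E : Type v} [Category.{u} E] [HasPullbacks E]
  (hb : SGA4.HasDisjointUniversalCoproducts.{v, u} E)

include hb in
/-- every colimit cofan of a small family is universal -/
theorem universal_of_isColimit {ι : Type u} {X : ι → E} (c : Cofan X) (hc : IsColimit c) :
    IsUniversalColimit c := by
  obtain ⟨c₀, hc₀, _, hu⟩ := hb ι X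
  exact hu.of_iso (hc₀.uniqueUpToIso hc)

include hb in
theorem disjoint_of_family {ι : Type u} (X : ι → E) : CoproductDisjoint X := by
  obtain ⟨c₀, hc₀, hd, _⟩ := hb ι X
  exact hd

include hb in
theorem exists_cofan {ι : Type u} (X : ι → E) : ∃ c : Cofan X, Nonempty (IsColimit c) := by
  obtain ⟨c₀, hc₀, _, _⟩ := hb ι X
  exact ⟨c₀, ⟨hc₀⟩⟩

include hb in
/-- pulling back a coproduct decomposition -/
theorem isColimit_pullback {ι : Type u} {X : ι → E} {B : E} (f : ∀ i, X i ⟶ B)
    (hf : IsColimit (Cofan.mk B f)) {B' : E} (g : B' ⟶ B) :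
    Nonempty (IsColimit (Cofan.mk B' (fun i => pullback.fst g (f i)))) := by
  have hu := universal_of_isColimit hb _ hf
  let α : Discrete.functor (fun i => pullback g (f i)) ⟶ Discrete.functor X :=
    Discrete.natTrans (fun i => pullback.snd g (f i.as))
  refine hu (Cofan.mk B' (fun i => pullback.fst g (f i))) α g ?_ (NatTrans.Equifibered.of_discrete α) ?_
  · ext ⟨i⟩
    show pullback.snd g (f i) ≫ f i = pullback.fst g (f i) ≫ g
    exact pullback.condition.symm
  · rintro ⟨i⟩
    exact IsPullback.of_hasPullback g (f i)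

include hb in
/-- initial objects are strict -/
theorem isInitial_of_hom {O Z : E} (hO : IsInitial O) (z : Z ⟶ O) : Nonempty (IsInitial Z) := by
  let X : PEmpty.{u + 1} → E := fun i => i.elim
  let c : Cofan X := Cofan.mk O (fun i => i.elim)
  have hc : IsColimit c := (isColimitEquivIsInitialOfIsEmpty E c).symm hO
  have hu := universal_of_isColimit hb c hc
  let c' : Cofan X := Cofan.mk Z (fun i => i.elim)
  have h := hu c' (𝟙 _) z (by ext ⟨i⟩; exact i.elim) (NatTrans.Equifibered.of_discrete _)
    (by rintro ⟨i⟩; exact i.elim)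
  exact ⟨isColimitEquivIsInitialOfIsEmpty E c' h.some⟩

include hb in
/-- two distinct coprojections have initial intersection, so an object mapping to both is
initial -/
theorem isInitial_of_ne {ι : Type u} {X : ι → E} {B : E} (f : ∀ i, X i ⟶ B)
    (hf : IsColimit (Cofan.mk B f)) {i j : ι} (hij : i ≠ j) {Z : E} (a : Z ⟶ X i) (b : Z ⟶ X j)
    (w : a ≫ f i = b ≫ f j) : Nonempty (IsInitial Z) := by
  haveI := disjoint_of_family hb X
  obtain ⟨hO⟩ := CoproductDisjoint.nonempty_isInitial_of_ne hf hij
    (PullbackCone.mk (pullback.fst (f i) (f j)) (pullback.snd (f i) (f j)) pullback.condition)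
    (pullbackIsPullback _ _)
  exact isInitial_of_hom hb hO (pullback.lift a b w)

include hb in
theorem mono_inj {ι : Type u} {X : ι → E} {B : E} (f : ∀ i, X i ⟶ B)
    (hf : IsColimit (Cofan.mk B f)) (i : ι) : Mono (f i) := by
  haveI := disjoint_of_family hb X
  exact CoproductDisjoint.mono_inj hf i

end Groth.Agent.H7.Gir
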