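import Mathlib
import Groth.Prelude.Def_SGA4a
import Groth.Agent.Lib.Helper7.Gir2

open CategoryTheory CategoryTheory.Limits Opposite

universe v u

namespace Groth.Agent.H7.Gir

variable {E : Type v} [Category.{u} E] [HasPullbacks E]
  (hb : SGA4.HasDisjointUniversalCoproducts.{v, u} E)

/-- the covering presieves: small coproduct decompositions and single covers -/
def IsCov {X : E} (R : Presieve X) : Prop :=
  (∃ (ι : Type u) (Y : ι → E) (f : ∀ i, Y i ⟶ X),
      Nonempty (IsColimit (Cofan.mk X f)) ∧ R = Presieve.ofArrows Y f) ∨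
    (∃ (A : E) (π : A ⟶ X), Cover π ∧ R = Presieve.singleton π)

include hb in
theorem cov_pullback ⦃X X' : E⦄ (g : X' ⟶ X) (R : Presieve X) (hR : IsCov R) :
    ∃ T : Presieve X', IsCov T ∧ T.FactorsThruAlong R g := by
  rcases hR with ⟨ι, Y₀, f, ⟨hf⟩, hR⟩ | ⟨A, π, hπ, hR⟩
  · refine ⟨Presieve.ofArrows (fun i => pullback g (f i)) (fun i => pullback.fst g (f i)),
      Or.inl ⟨ι, _, _, isColimit_pullback hb f hf g, rfl⟩, ?_⟩
    intro Z k hk
    obtain ⟨i⟩ := hk
    refine ⟨Y₀ i, pullback.snd g (f i), f i, ?_, pullback.condition.symm⟩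
    rw [hR]
    exact Presieve.ofArrows.mk i
  · refine ⟨Presieve.singleton (pullback.snd π g),
      Or.inr ⟨_, _, hπ.baseChange (IsPullback.of_hasPullback π g), rfl⟩, ?_⟩
    intro Z k hk
    obtain ⟨⟩ := hk
    refine ⟨A, pullback.fst π g, π, ?_, pullback.condition⟩
    rw [hR]
    exact Presieve.singleton.mk

/-- the coverage -/
def cov (hb : SGA4.HasDisjointUniversalCoproducts.{v, u} E) : Coverage E where
  coverings X := {R | IsCov R}
  pullback := cov_pullback hb

/-- the topology -/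
def JE (hb : SGA4.HasDisjointUniversalCoproducts.{v, u} E) : GrothendieckTopology E :=
  (cov hb).toGrothendieck

theorem isSheaf_iff (F : Eᵒᵖ ⥤ Type u) :
    Presieve.IsSheaf (JE hb) F ↔ ∀ {X : E} (R : Presieve X), IsCov R → Presieve.IsSheafFor F R :=
  Presieve.isSheaf_coverage (cov hb) F

theorem generate_mem {X : E} (R : Presieve X) (hR : IsCov R) : Sieve.generate R ∈ JE hb X :=
  Coverage.Saturate.of X R hR

/-- representables are sheaves -/
theorem isSheaf_yoneda (Z : E) : Presieve.IsSheaf (JE hb) (yoneda.obj Z) := by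
  rw [isSheaf_iff]
  intro X R hR
  rcases hR with ⟨ι, Y, f, ⟨hf⟩, rfl⟩ | ⟨A, π, hπ, rfl⟩
  · rw [Presieve.isSheafFor_arrows_iff]
    intro x _
    refine ⟨Cofan.IsColimit.desc hf x, fun i => Cofan.IsColimit.fac hf x i, ?_⟩
    intro t ht
    exact Cofan.IsColimit.hom_ext hf _ _ (fun i => (ht i).trans (Cofan.IsColimit.fac hf x i).symm)
  · rw [Presieve.isSheafFor_singleton]
    intro x hx
    haveI := hπ.effectiveEpi
    have h : ∀ {W : E} (g₁ g₂ : W ⟶ A), g₁ ≫ π = g₂ ≫ π → g₁ ≫ x = g₂ ≫ x :=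
      fun g₁ g₂ hg => hx g₁ g₂ hg
    refine ⟨EffectiveEpi.desc π x h, EffectiveEpi.fac π _ h, ?_⟩
    intro t ht
    exact EffectiveEpi.uniq π _ h t ht

variable {hb} {F : Eᵒᵖ ⥤ Type u} (hF : Presieve.IsSheaf (JE hb) F)

include hF in
/-- a sheaf has exactly one section over an initial object -/
theorem unique_of_isInitial {Z : E} (hZ : IsInitial Z) : ∃! t : F.obj (op Z), True := by
  let X : PEmpty.{u + 1} → E := fun i => i.elim
  have hc : IsColimit (Cofan.mk Z (fun i : PEmpty.{u + 1} => (i.elim : X i ⟶ Z))) :=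
    (isColimitEquivIsInitialOfIsEmpty E _).symm hZ
  have h1 := (isSheaf_iff hb F).mp hF _ (Or.inl ⟨PEmpty, X, _, ⟨hc⟩, rfl⟩)
  rw [Presieve.isSheafFor_arrows_iff] at h1
  obtain ⟨t, _, ht⟩ := h1 (fun i => i.elim) (fun i => i.elim)
  exact ⟨t, trivial, fun t' _ => ht t' (fun i => i.elim)⟩

include hF in
/-- a sheaf turns small coproducts into products -/
theorem sheaf_coprod {ι : Type u} {X : ι → E} {B : E} (f : ∀ i, X i ⟶ B)
    (hf : IsColimit (Cofan.mk B f)) (x : ∀ i, F.obj (op (X i))) :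
    ∃! t : F.obj (op B), ∀ i, F.map (f i).op t = x i := by
  have h1 := (isSheaf_iff hb F).mp hF _ (Or.inl ⟨ι, X, f, ⟨hf⟩, rfl⟩)
  rw [Presieve.isSheafFor_arrows_iff] at h1
  apply h1
  intro i j Z a b w
  by_cases hij : i = j
  · subst hij
    haveI := mono_inj hb f hf i
    have : a = b := (cancel_mono (f i)).mp w
    rw [this]
  · obtain ⟨hZ⟩ := isInitial_of_ne hb f hf hij a b w
    obtain ⟨t, _, ht⟩ := unique_of_isInitial hF hZ
    exact (ht _ trivial).trans (ht _ trivial).symm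

include hF in
/-- a sheaf satisfies descent along covers -/
theorem sheaf_cover {A B : E} (π : A ⟶ B) (hπ : Cover π) (x : F.obj (op A))
    (hx : F.map (pullback.fst π π).op x = F.map (pullback.snd π π).op x) :
    ∃! t : F.obj (op B), F.map π.op t = x := by
  have h1 := (isSheaf_iff hb F).mp hF _ (Or.inr ⟨A, π, hπ, rfl⟩)
  rw [Presieve.isSheafFor_singleton] at h1
  apply h1
  intro Z a b w
  let l : Z ⟶ pullback π π := pullback.lift a b w
  have ha : l ≫ pullback.fst π π = a := pullback.lift_fst _ _ _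
  have hb' : l ≫ pullback.snd π π = b := pullback.lift_snd _ _ _
  rw [← ha, ← hb', op_comp, op_comp, Functor.map_comp_apply, Functor.map_comp_apply, hx]

include hF in
theorem sheaf_cover_inj {A B : E} (π : A ⟶ B) (hπ : Cover π) (t t' : F.obj (op B))
    (h : F.map π.op t = F.map π.op t') : t = t' := by
  have h1 := (isSheaf_iff hb F).mp hF _ (Or.inr ⟨A, π, hπ, rfl⟩)
  apply h1.isSeparatedFor.ext
  rintro Z _ ⟨⟩
  exact h

end Groth.Agent.H7.Gir
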