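import Mathlib
import Groth.Prelude.Def_SGA4a
import Groth.Agent.Lib.Helper7.Gir3

open CategoryTheory CategoryTheory.Limits Opposite

universe v u

namespace Groth.Agent.H7.Gir

variable {E : Type v} [Category.{u} E] [HasPullbacks E]

theorem Cover.comp_iso {A B B' : E} {e : A ⟶ B} (he : Cover e) (m : B ⟶ B') [IsIso m] :
    Cover (e ≫ m) := by
  intro P T fst snd k hP
  have h2 : IsPullback fst snd e (k ≫ inv m) := by
    refine IsPullback.of_iso hP (Iso.refl _) (Iso.refl _) (Iso.refl _) (asIso m).symm ?_ ?_ ?_ ?_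
    · simp
    · simp
    · simp
    · simp
  exact he fst snd _ h2

variable (hb : SGA4.HasDisjointUniversalCoproducts.{v, u} E)
  (hc : ∀ (R A : E) (p₁ p₂ : R ⟶ A), SGA4.IsEquivRel p₁ p₂ →
    SGA4.IsEffectiveUniversalEquivRel p₁ p₂)
  {S : Type u} (g : S → E)
  (hdet : ∀ ⦃X Y : E⦄ (f : X ⟶ Y), (∀ (s : S) (h : g s ⟶ Y), ∃! h' : g s ⟶ X, h' ≫ f = h) → IsIso f)

include hb hc hdet in
/-- every object is covered by the coproduct of all maps from generators -/
theorem exists_gen_cover (X : E) :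
    ∃ (c : Cofan (fun p : Σ s : S, (g s ⟶ X) => g p.1)) (_ : IsColimit c) (p : c.pt ⟶ X),
      Cover p ∧ ∀ q, c.inj q ≫ p = q.2 := by
  obtain ⟨c, ⟨hcol⟩⟩ := exists_cofan hb (fun p : Σ s : S, (g s ⟶ X) => g p.1)
  let p : c.pt ⟶ X := Cofan.IsColimit.desc hcol (fun q => q.2)
  have hp : ∀ q, c.inj q ≫ p = q.2 := fun q => Cofan.IsColimit.fac hcol _ q
  obtain ⟨I, e, m, hem, he, hm⟩ := exists_image hc p
  haveI : IsIso m := by
    apply hdet
    intro s h
    refine ⟨c.inj ⟨s, h⟩ ≫ e, ?_, ?_⟩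
    · show (c.inj ⟨s, h⟩ ≫ e) ≫ m = h
      rw [Category.assoc, hem, hp]
    · intro h' hh'
      rw [← cancel_mono m, hh', Category.assoc, hem, hp]
  refine ⟨c, hcol, p, ?_, hp⟩
  rw [← hem]
  exact he.comp_iso m

/-- the sieve of morphisms factoring through a generator -/
def gSieve (X : E) : Sieve X where
  arrows Y f := ∃ (s : S) (a : Y ⟶ g s) (b : g s ⟶ X), a ≫ b = f
  downward_closed := by
    rintro Y Z f ⟨s, a, b, rfl⟩ k
    exact ⟨s, k ≫ a, b, by rw [Category.assoc]⟩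

include hc hdet in
theorem gSieve_mem (X : E) : gSieve g X ∈ JE hb X := by
  obtain ⟨c, hcol, p, hp, hq⟩ := exists_gen_cover hb hc g hdet X
  have h1 : Sieve.generate (Presieve.singleton p) ∈ JE hb X :=
    generate_mem hb _ (Or.inr ⟨_, p, hp, rfl⟩)
  refine (JE hb).transitive h1 _ ?_
  rintro Y f ⟨W, k, _, ⟨⟩, rfl⟩
  rw [Sieve.pullback_comp]
  apply (JE hb).pullback_stable
  have h2 : Sieve.generate (Presieve.ofArrows _ c.inj) ∈ JE hb c.pt :=
    generate_mem hb _ (Or.inl ⟨_, _, c.inj, ⟨hcol.ofIsoColimit (Cofan.ext (Iso.refl _) (by simp))⟩, rfl⟩)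
  refine (JE hb).superset_covering ?_ h2
  rintro Z _ ⟨W', l, _, ⟨q⟩, rfl⟩
  exact ⟨q.1, l, q.2, by rw [Category.assoc, hq]⟩

end Groth.Agent.H7.Gir
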