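import Mathlib
import Groth.Prelude.Def_SGA4a
import Groth.Agent.Lib.Helper7.Gir4

open CategoryTheory CategoryTheory.Limits Opposite

universe v u

namespace Groth.Agent.H7.Gir

variable {E : Type v} [Category.{u} E] [HasFiniteLimits E]
  {hb : SGA4.HasDisjointUniversalCoproducts.{v, u} E}
  (hc : ∀ (R A : E) (p₁ p₂ : R ⟶ A), SGA4.IsEquivRel p₁ p₂ →
    SGA4.IsEffectiveUniversalEquivRel p₁ p₂)
  {S : Type u} (g : S → E)
  (hdet : ∀ ⦃X Y : E⦄ (f : X ⟶ Y), (∀ (s : S) (h : g s ⟶ Y), ∃! h' : g s ⟶ X, h' ≫ f = h) → IsIso f)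
  {F : Eᵒᵖ ⥤ Type u} (hF : Presieve.IsSheaf (JE hb) F)

include hF in
theorem sheaf_coprod' {ι : Type u} {X : ι → E} (c : Cofan X) (hcol : IsColimit c)
    (x : ∀ i, F.obj (op (X i))) : ∃! t : F.obj (op c.pt), ∀ i, F.map (c.inj i).op t = x i :=
  sheaf_coprod hF c.inj (hcol.ofIsoColimit (Cofan.ext (Iso.refl _) (by simp))) x

include hF in
theorem sheaf_coprod_ext {ι : Type u} {X : ι → E} (c : Cofan X) (hcol : IsColimit c)
    (t t' : F.obj (op c.pt)) (h : ∀ i, F.map (c.inj i).op t = F.map (c.inj i).op t') : t = t' := by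
  obtain ⟨t₀, _, huniq⟩ := sheaf_coprod' hF c hcol (fun i => F.map (c.inj i).op t')
  exact (huniq t h).trans (huniq t' (fun _ => rfl)).symm

lemma map_comp_app {X Y Z : E} (f : X ⟶ Y) (k : Y ⟶ Z) (z : F.obj (op Z)) :
    F.map (f ≫ k).op z = F.map f.op (F.map k.op z) := by
  rw [op_comp, Functor.map_comp_apply]

include hc hdet hF in
/-- the key step: the kernel of the canonical element is representable by a subobject of `A × A` -/
theorem exists_kernel {A : E} (a : F.obj (op A)) :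
    ∃ (I : E) (i₁ i₂ : I ⟶ A), SGA4.IsEquivRel i₁ i₂ ∧
      ∀ (T : E) (f k : T ⟶ A), (∃ h : T ⟶ I, h ≫ i₁ = f ∧ h ≫ i₂ = k) ↔
        F.map f.op a = F.map k.op a := by
  -- the coproduct of all related pairs of generalized elements
  let ι₂ := Σ s : S, {fk : (g s ⟶ A) × (g s ⟶ A) // F.map fk.1.op a = F.map fk.2.op a}
  obtain ⟨cR, ⟨hR⟩⟩ := exists_cofan hb (fun p : ι₂ => g p.1)
  let r₁ : cR.pt ⟶ A := Cofan.IsColimit.desc hR (fun p => p.2.1.1)
  let r₂ : cR.pt ⟶ A := Cofan.IsColimit.desc hR (fun p => p.2.1.2)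
  have hr₁ : ∀ p, cR.inj p ≫ r₁ = p.2.1.1 := fun p => Cofan.IsColimit.fac hR _ p
  have hr₂ : ∀ p, cR.inj p ≫ r₂ = p.2.1.2 := fun p => Cofan.IsColimit.fac hR _ p
  obtain ⟨I, e, m, hem, he, hm⟩ := exists_image hc (prod.lift r₁ r₂)
  let i₁ : I ⟶ A := m ≫ prod.fst
  let i₂ : I ⟶ A := m ≫ prod.snd
  have hei₁ : e ≫ i₁ = r₁ := by
    show e ≫ m ≫ prod.fst = r₁
    rw [← Category.assoc, hem, prod.lift_fst]
  have hei₂ : e ≫ i₂ = r₂ := by
    show e ≫ m ≫ prod.snd = r₂
    rw [← Category.assoc, hem, prod.lift_snd]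
  have hi : F.map i₁.op a = F.map i₂.op a := by
    apply sheaf_cover_inj hF e he
    rw [← map_comp_app, ← map_comp_app, hei₁, hei₂]
    apply sheaf_coprod_ext hF cR hR
    intro p
    rw [← map_comp_app, ← map_comp_app, hr₁, hr₂]
    exact p.2.2
  have key : ∀ (T : E) (f k : T ⟶ A), (∃ h : T ⟶ I, h ≫ i₁ = f ∧ h ≫ i₂ = k) ↔
      F.map f.op a = F.map k.op a := by
    intro T f k
    constructor
    · rintro ⟨h, rfl, rfl⟩
      exact (map_comp_app (F := F) h i₁ a).trans
        ((congrArg (F.map h.op) hi).trans (map_comp_app (F := F) h i₂ a).symm)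
    · intro hfk
      obtain ⟨cT, hT, p, hp, hq⟩ := exists_gen_cover hb hc g hdet T
      have hrel : ∀ q : Σ s : S, (g s ⟶ T), F.map (q.2 ≫ f).op a = F.map (q.2 ≫ k).op a := by
        intro q
        rw [map_comp_app, map_comp_app, hfk]
      let α : cT.pt ⟶ I := Cofan.IsColimit.desc hT
        (fun q => cR.inj ⟨q.1, ⟨(q.2 ≫ f, q.2 ≫ k), hrel q⟩⟩ ≫ e)
      have hα : ∀ q, cT.inj q ≫ α = cR.inj ⟨q.1, ⟨(q.2 ≫ f, q.2 ≫ k), hrel q⟩⟩ ≫ e :=
        fun q => Cofan.IsColimit.fac hT _ q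
      have w : α ≫ m = p ≫ prod.lift f k := by
        apply Cofan.IsColimit.hom_ext hT
        intro q
        rw [← Category.assoc, hα, Category.assoc, hem, ← Category.assoc, hq]
        apply prod.hom_ext
        · rw [Category.assoc, Category.assoc, prod.lift_fst, prod.lift_fst, hr₁]
        · rw [Category.assoc, Category.assoc, prod.lift_snd, prod.lift_snd, hr₂]
      obtain ⟨d, _, hd⟩ := hp.lift m α (prod.lift f k) w
      refine ⟨d, ?_, ?_⟩
      · show d ≫ m ≫ prod.fst = f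
        rw [← Category.assoc, hd, prod.lift_fst]
      · show d ≫ m ≫ prod.snd = k
        rw [← Category.assoc, hd, prod.lift_snd]
  refine ⟨I, i₁, i₂, ?_, key⟩
  intro T
  refine ⟨?_, ⟨?_, ?_, ?_⟩⟩
  · intro h h' hh
    have h1 : h ≫ i₁ = h' ≫ i₁ := congrArg Prod.fst hh
    have h2 : h ≫ i₂ = h' ≫ i₂ := congrArg Prod.snd hh
    rw [← cancel_mono m]
    apply prod.hom_ext
    · rw [Category.assoc, Category.assoc]
      exact h1
    · rw [Category.assoc, Category.assoc]
      exact h2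
  · intro x
    exact (key T x x).mpr rfl
  · intro x y hxy
    exact (key T y x).mpr ((key T x y).mp hxy).symm
  · intro x y z hxy hyz
    exact (key T x z).mpr (((key T x y).mp hxy).trans ((key T y z).mp hyz))

include hc hdet hF in
/-- every sheaf is representable -/
theorem exists_representableBy : ∃ B : E, Nonempty (F.RepresentableBy B) := by
  -- the coproduct of all sections over generators
  let ι := Σ s : S, F.obj (op (g s))
  obtain ⟨cA, ⟨hA⟩⟩ := exists_cofan hb (fun p : ι => g p.1)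
  let A := cA.pt
  obtain ⟨a, ha, _⟩ := sheaf_coprod' hF cA hA (fun p => p.2)
  obtain ⟨I, i₁, i₂, hrel, key⟩ := exists_kernel hc g hdet hF a
  obtain ⟨B, π, hpb, hpo, hcov⟩ := hc _ _ _ _ hrel
  have hπ : Cover π := cover_of_chosen π hcov
  -- the universal element
  have hx : F.map (pullback.fst π π).op a = F.map (pullback.snd π π).op a :=
    (key _ _ _).mp ⟨hpb.lift _ _ pullback.condition, hpb.lift_fst _ _ _, hpb.lift_snd _ _ _⟩
  obtain ⟨b, hb', _⟩ := sheaf_cover hF π hπ a hx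
  have hπrel : ∀ {T : E} (f k : T ⟶ A), F.map f.op a = F.map k.op a → f ≫ π = k ≫ π := by
    intro T f k hfk
    obtain ⟨h, rfl, rfl⟩ := (key T f k).mpr hfk
    rw [Category.assoc, Category.assoc, hpb.w]
  have hinj : ∀ (X : E) (n n' : X ⟶ B), F.map n.op b = F.map n'.op b → n = n' := by
    intro X n n' hn
    have h1 : IsPullback (pullback.fst π n) (pullback.snd π n) π n := IsPullback.of_hasPullback π n
    let q₁ := pullback.snd π n
    have h2 : IsPullback (pullback.fst π (q₁ ≫ n')) (pullback.snd π (q₁ ≫ n')) π (q₁ ≫ n') :=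
      IsPullback.of_hasPullback π (q₁ ≫ n')
    let q₂ := pullback.snd π (q₁ ≫ n')
    haveI : Epi q₁ := (hπ.baseChange h1).epi
    haveI : Epi q₂ := (hπ.baseChange h2).epi
    let f : pullback π (q₁ ≫ n') ⟶ A := q₂ ≫ pullback.fst π n
    let k : pullback π (q₁ ≫ n') ⟶ A := pullback.fst π (q₁ ≫ n')
    have hf : f ≫ π = q₂ ≫ q₁ ≫ n := by
      show (q₂ ≫ pullback.fst π n) ≫ π = _
      rw [Category.assoc, h1.w]
    have hk : k ≫ π = q₂ ≫ q₁ ≫ n' := h2.w
    have hfk : F.map f.op a = F.map k.op a := by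
      rw [← hb', ← map_comp_app, ← map_comp_app, hf, hk, map_comp_app, map_comp_app,
        map_comp_app, map_comp_app, hn]
    have := hπrel f k hfk
    rw [hf, hk] at this
    exact (cancel_epi q₁).mp ((cancel_epi q₂).mp this)
  have hsurj : ∀ (X : E) (y : F.obj (op X)), ∃ n : X ⟶ B, F.map n.op b = y := by
    intro X y
    obtain ⟨cX, hX, p, hp, hq⟩ := exists_gen_cover hb hc g hdet X
    let k : cX.pt ⟶ A := Cofan.IsColimit.desc hX (fun q => cA.inj ⟨q.1, F.map q.2.op y⟩)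
    have hk : ∀ q, cX.inj q ≫ k = cA.inj ⟨q.1, F.map q.2.op y⟩ :=
      fun q => Cofan.IsColimit.fac hX _ q
    have hka : F.map k.op a = F.map p.op y := by
      apply sheaf_coprod_ext hF cX hX
      intro q
      rw [← map_comp_app, ← map_comp_app, hk, hq]
      exact ha ⟨q.1, F.map q.2.op y⟩
    haveI := hp.effectiveEpi
    have hdesc : ∀ {W : E} (g₁ g₂ : W ⟶ cX.pt), g₁ ≫ p = g₂ ≫ p → g₁ ≫ k ≫ π = g₂ ≫ k ≫ π := by
      intro W g₁ g₂ hg
      rw [← Category.assoc, ← Category.assoc]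
      apply hπrel
      rw [map_comp_app, map_comp_app, hka, ← map_comp_app, ← map_comp_app, hg]
    refine ⟨EffectiveEpi.desc p (k ≫ π) hdesc, ?_⟩
    apply sheaf_cover_inj hF p hp
    rw [← map_comp_app, EffectiveEpi.fac, map_comp_app, hb', hka]
  refine ⟨B, ⟨{
    homEquiv := fun {X} => Equiv.ofBijective (fun n => F.map n.op b)
      ⟨fun n n' h => hinj X n n' h, fun y => hsurj X y⟩
    homEquiv_comp := by
      intro X X' f k
      exact map_comp_app f k b }⟩⟩

end Groth.Agent.H7.Gir
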