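import Mathlib
import Groth.Prelude.Def_SGA4a
import Groth.Agent.Lib.Helper7.Gir5

open CategoryTheory CategoryTheory.Limits Opposite

universe v u

namespace Groth.Agent.H7.Gir

variable {E : Type v} [Category.{u} E] [HasFiniteLimits E]
  (hb : SGA4.HasDisjointUniversalCoproducts.{v, u} E)
  (hc : ∀ (R A : E) (p₁ p₂ : R ⟶ A), SGA4.IsEquivRel p₁ p₂ →
    SGA4.IsEffectiveUniversalEquivRel p₁ p₂)
  {S : Type u} (g : S → E)
  (hdet : ∀ ⦃X Y : E⦄ (f : X ⟶ Y), (∀ (s : S) (h : g s ⟶ Y), ∃! h' : g s ⟶ X, h' ≫ f = h) → IsIso f)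

theorem subcanonical : (JE hb).Subcanonical :=
  GrothendieckTopology.Subcanonical.of_isSheaf_yoneda_obj _ (isSheaf_yoneda hb)

include hc hdet in
theorem essSurj_yoneda : haveI := subcanonical hb; (JE hb).yoneda.EssSurj := by
  haveI := subcanonical hb
  refine ⟨fun F => ?_⟩
  have hF : Presieve.IsSheaf (JE hb) F.obj := (isSheaf_iff_isSheaf_of_type _ _).mp F.property
  obtain ⟨B, ⟨r⟩⟩ := exists_representableBy hc g hdet hF
  exact ⟨B, ⟨(fullyFaithfulSheafToPresheaf _ _).preimageIso r.toIso⟩⟩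

include hc hdet in
/-- `E` is equivalent to the category of sheaves on itself -/
theorem nonempty_equiv_sheaf : Nonempty (E ≌ Sheaf (JE hb) (Type u)) := by
  haveI := subcanonical hb
  haveI := essSurj_yoneda hb hc g hdet
  haveI : (JE hb).yoneda.IsEquivalence := { }
  exact ⟨(JE hb).yoneda.asEquivalence⟩

end Groth.Agent.H7.Gir
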