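import Mathlib
import Groth.Prelude.Def_SGA4a
import Groth.Agent.Lib.Helper7.Gir6

open CategoryTheory CategoryTheory.Limits Opposite

universe v u

namespace Groth.Agent.H7.Gir

variable {E : Type v} [Category.{u} E] [HasFiniteLimits E]
  (hb : SGA4.HasDisjointUniversalCoproducts.{v, u} E)
  (hc : ∀ (R A : E) (p₁ p₂ : R ⟶ A), SGA4.IsEquivRel p₁ p₂ →
    SGA4.IsEffectiveUniversalEquivRel p₁ p₂)

/-- transfer the unique lifting property along an isomorphism of sources -/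
theorem existsUnique_of_iso {G G' X Y : E} (φ : G ≅ G') (f : X ⟶ Y)
    (H : ∀ h : G' ⟶ Y, ∃! h' : G' ⟶ X, h' ≫ f = h) (h : G ⟶ Y) :
    ∃! h' : G ⟶ X, h' ≫ f = h := by
  obtain ⟨h₀, hh₀, huniq⟩ := H (φ.inv ≫ h)
  refine ⟨φ.hom ≫ h₀, ?_, ?_⟩
  · show (φ.hom ≫ h₀) ≫ f = h
    rw [Category.assoc, hh₀, Iso.hom_inv_id_assoc]
  · intro h'' hh''
    have : φ.inv ≫ h'' = h₀ := huniq _ (by
      show (φ.inv ≫ h'') ≫ f = φ.inv ≫ h
      rw [Category.assoc, hh''])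
    rw [← this, Iso.hom_inv_id_assoc]

include hb hc in
theorem main (hd : ∃ P : ObjectProperty E, ObjectProperty.Small.{u} P ∧ P.IsDetecting) :
    SGA4.IsTopos.{v, u} E := by
  obtain ⟨P, hPs, hPd⟩ := hd
  haveI : ObjectProperty.Small.{u} P := hPs
  haveI : LocallySmall.{u} E := ⟨fun X Y => inferInstance⟩
  haveI : EssentiallySmall.{u} P.FullSubcategory := essentiallySmall_of_small_of_locallySmall _
  let C := SmallModel.{u} P.FullSubcategory
  let eq : P.FullSubcategory ≌ C := equivSmallModel _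
  let i : C ⥤ E := eq.inverse ⋙ P.ι
  have hdet : ∀ ⦃X Y : E⦄ (f : X ⟶ Y),
      (∀ (s : C) (h : i.obj s ⟶ Y), ∃! h' : i.obj s ⟶ X, h' ≫ f = h) → IsIso f := by
    intro X Y f H
    apply hPd
    intro G hG h
    let φ : G ≅ i.obj (eq.functor.obj ⟨G, hG⟩) := P.ι.mapIso (eq.unitIso.app ⟨G, hG⟩)
    exact existsUnique_of_iso φ f (H _) h
  obtain ⟨e₁⟩ := nonempty_equiv_sheaf hb hc i.obj hdet
  haveI : i.IsCoverDense (JE hb) := ⟨fun X => by
    refine (JE hb).superset_covering ?_ (gSieve_mem hb hc i.obj hdet X)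
    rintro Y f ⟨s, a, b, rfl⟩
    exact ⟨⟨s, a, b, rfl⟩⟩⟩
  let e₂ : Sheaf (i.inducedTopology (JE hb)) (Type u) ≌ Sheaf (JE hb) (Type u) :=
    i.sheafInducedTopologyEquivOfIsCoverDense (JE hb) (Type u)
  exact ⟨C, inferInstance, i.inducedTopology (JE hb), ⟨e₁.trans e₂.symm⟩⟩

end Groth.Agent.H7.Gir
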