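import Mathlib
import Groth.Prelude.Def_SGA4a

open CategoryTheory CategoryTheory.Limits Opposite

universe w' w₁ w₂ v' v₁ v₂

namespace Groth.Agent.H7.Glu

section Generic

variable {C : Type*} [Category* C]

theorem isIso_of_isPullback {P P' X Y Z : C} {fst : P ⟶ X} {snd : P ⟶ Y} {fst' : P' ⟶ X}
    {snd' : P' ⟶ Y} {f : X ⟶ Z} {g : Y ⟶ Z} (h : IsPullback fst snd f g)
    (h' : IsPullback fst' snd' f g) (l : P ⟶ P') (h1 : l ≫ fst' = fst) (h2 : l ≫ snd' = snd) :
    IsIso l := by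
  refine ⟨h.lift fst' snd' h'.w, h.hom_ext ?_ ?_, h'.hom_ext ?_ ?_⟩
  · rw [Category.assoc, h.lift_fst, h1, Category.id_comp]
  · rw [Category.assoc, h.lift_snd, h2, Category.id_comp]
  · rw [Category.assoc, h1, h.lift_fst, Category.id_comp]
  · rw [Category.assoc, h2, h.lift_snd, Category.id_comp]

theorem isIso_of_isPushout {P P' X Y Z : C} {f : Z ⟶ X} {g : Z ⟶ Y} {inl : X ⟶ P} {inr : Y ⟶ P}
    {inl' : X ⟶ P'} {inr' : Y ⟶ P'} (h : IsPushout f g inl inr)
    (h' : IsPushout f g inl' inr') (l : P ⟶ P') (h1 : inl ≫ l = inl') (h2 : inr ≫ l = inr') :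
    IsIso l := by
  refine ⟨h'.desc inl inr h.w, h.hom_ext ?_ ?_, h'.hom_ext ?_ ?_⟩
  · rw [← Category.assoc, h1, h'.inl_desc, Category.comp_id]
  · rw [← Category.assoc, h2, h'.inr_desc, Category.comp_id]
  · rw [← Category.assoc, h'.inl_desc, h1, Category.comp_id]
  · rw [← Category.assoc, h'.inr_desc, h2, Category.comp_id]

theorem isIso_of_isInitial {X Y : C} (hX : IsInitial X) (hY : IsInitial Y) (f : X ⟶ Y) : IsIso f :=
  ⟨hY.to X, hX.hom_ext _ _, hY.hom_ext _ _⟩

end Generic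

variable {E' : Type v'} [Category.{w'} E'] {E₁ : Type v₁} [Category.{w₁} E₁]
  {E₂ : Type v₂} [Category.{w₂} E₂] (U₁ : E' ⥤ E₁) (U₂ : E' ⥤ E₂)

/-- joint conservativity of a pair of functors -/
def JCons : Prop :=
  ∀ ⦃X Y : E'⦄ (f : X ⟶ Y), IsIso (U₁.map f) → IsIso (U₂.map f) → IsIso f

variable {U₁ U₂} (hU : JCons U₁ U₂)

section Pullback

variable [HasPullbacks E'] [PreservesLimitsOfShape WalkingCospan U₁]
  [PreservesLimitsOfShape WalkingCospan U₂]

theorem isIso_map_lift {E : Type*} [Category* E] (U : E' ⥤ E)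
    [PreservesLimitsOfShape WalkingCospan U]
    {P X Y Z : E'} {fst : P ⟶ X} {snd : P ⟶ Y} {f : X ⟶ Z} {g : Y ⟶ Z}
    (sq : CommSq fst snd f g)
    (h : IsPullback (U.map fst) (U.map snd) (U.map f) (U.map g)) :
    IsIso (U.map (pullback.lift fst snd sq.w)) := by
  have hP := (IsPullback.of_hasPullback f g).map U
  refine isIso_of_isPullback h hP _ ?_ ?_
  · rw [← U.map_comp, pullback.lift_fst]
  · rw [← U.map_comp, pullback.lift_snd]

include hU in
theorem isPullback_of_map {P X Y Z : E'} {fst : P ⟶ X} {snd : P ⟶ Y} {f : X ⟶ Z} {g : Y ⟶ Z}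
    (sq : CommSq fst snd f g)
    (h₁ : IsPullback (U₁.map fst) (U₁.map snd) (U₁.map f) (U₁.map g))
    (h₂ : IsPullback (U₂.map fst) (U₂.map snd) (U₂.map f) (U₂.map g)) :
    IsPullback fst snd f g := by
  haveI : IsIso (pullback.lift fst snd sq.w) :=
    hU _ (isIso_map_lift U₁ sq h₁) (isIso_map_lift U₂ sq h₂)
  exact IsPullback.of_iso_pullback sq (asIso (pullback.lift fst snd sq.w))
    (pullback.lift_fst _ _ _) (pullback.lift_snd _ _ _)

include hU in
theorem mono_of_map {X Y : E'} (f : X ⟶ Y) (h₁ : Mono (U₁.map f)) (h₂ : Mono (U₂.map f)) :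
    Mono f := by
  have hk : IsKernelPair f (pullback.fst f f) (pullback.snd f f) := IsPullback.of_hasPullback f f
  have hk₁ : IsKernelPair (U₁.map f) (U₁.map (pullback.fst f f)) (U₁.map (pullback.snd f f)) :=
    IsPullback.map U₁ hk
  have hk₂ : IsKernelPair (U₂.map f) (U₂.map (pullback.fst f f)) (U₂.map (pullback.snd f f)) :=
    IsPullback.map U₂ hk
  haveI : IsIso (pullback.fst f f) := hU _ hk₁.isIso_of_mono hk₂.isIso_of_mono
  exact hk.mono_of_isIso_fst

end Pullback

section Colimit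

theorem isIso_map_colimit_desc {E : Type*} [Category* E] (U : E' ⥤ E)
    {J : Type*} [Category* J] {F : J ⥤ E'} [HasColimit F]
    [PreservesColimit F U] (c : Cocone F)
    (h : IsColimit (U.mapCocone c)) : IsIso (U.map (colimit.desc F c)) := by
  have hcol := isColimitOfPreserves U (colimit.isColimit F)
  have e1 : ∀ j, (U.mapCocone (colimit.cocone F)).ι.app j ≫ U.map (colimit.desc F c)
      = (U.mapCocone c).ι.app j := by
    intro j
    show U.map (colimit.ι F j) ≫ U.map (colimit.desc F c) = U.map (c.ι.app j)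
    rw [← U.map_comp, colimit.ι_desc]
  refine ⟨h.desc (U.mapCocone (colimit.cocone F)), hcol.hom_ext ?_, h.hom_ext ?_⟩
  · intro j
    rw [← Category.assoc, e1, h.fac]
    exact (Category.comp_id _).symm
  · intro j
    rw [← Category.assoc, h.fac, e1]
    exact (Category.comp_id _).symm

include hU in
theorem nonempty_isColimit_of_map {J : Type*} [Category* J] {F : J ⥤ E'} [HasColimit F]
    [PreservesColimit F U₁] [PreservesColimit F U₂] (c : Cocone F)
    (h₁ : IsColimit (U₁.mapCocone c)) (h₂ : IsColimit (U₂.mapCocone c)) :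
    Nonempty (IsColimit c) := by
  haveI : IsIso ((colimit.isColimit F).desc c) :=
    hU _ (isIso_map_colimit_desc U₁ c h₁) (isIso_map_colimit_desc U₂ c h₂)
  exact ⟨IsColimit.ofPointIso (colimit.isColimit F)⟩

include hU in
theorem isInitial_of_map {O Z : E'} (hO : IsInitial O) (hO₁ : IsInitial (U₁.obj O))
    (hO₂ : IsInitial (U₂.obj O)) (h₁ : IsInitial (U₁.obj Z)) (h₂ : IsInitial (U₂.obj Z)) :
    Nonempty (IsInitial Z) := by
  haveI : IsIso (hO.to Z) := hU _ (isIso_of_isInitial hO₁ h₁ _) (isIso_of_isInitial hO₂ h₂ _)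
  exact ⟨IsInitial.ofIso hO (asIso (hO.to Z))⟩

end Colimit

section Pushout

variable [HasPushouts E'] [PreservesColimitsOfShape WalkingSpan U₁]
  [PreservesColimitsOfShape WalkingSpan U₂]

theorem isIso_map_desc {E : Type*} [Category* E] (U : E' ⥤ E)
    [PreservesColimitsOfShape WalkingSpan U]
    {P X Y Z : E'} {f : Z ⟶ X} {g : Z ⟶ Y} {inl : X ⟶ P} {inr : Y ⟶ P}
    (sq : CommSq f g inl inr)
    (h : IsPushout (U.map f) (U.map g) (U.map inl) (U.map inr)) :
    IsIso (U.map (pushout.desc inl inr sq.w)) := by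
  have hP := (IsPushout.of_hasPushout f g).map U
  refine isIso_of_isPushout hP h _ ?_ ?_
  · rw [← U.map_comp, pushout.inl_desc]
  · rw [← U.map_comp, pushout.inr_desc]

include hU in
theorem isPushout_of_map {P X Y Z : E'} {f : Z ⟶ X} {g : Z ⟶ Y} {inl : X ⟶ P} {inr : Y ⟶ P}
    (sq : CommSq f g inl inr)
    (h₁ : IsPushout (U₁.map f) (U₁.map g) (U₁.map inl) (U₁.map inr))
    (h₂ : IsPushout (U₂.map f) (U₂.map g) (U₂.map inl) (U₂.map inr)) :
    IsPushout f g inl inr := by
  haveI : IsIso (pushout.desc inl inr sq.w) :=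
    hU _ (isIso_map_desc U₁ sq h₁) (isIso_map_desc U₂ sq h₂)
  exact IsPushout.of_iso_pushout sq (asIso (pushout.desc inl inr sq.w)).symm
    (by rw [Iso.symm_hom, asIso_inv, IsIso.comp_inv_eq, pushout.inl_desc])
    (by rw [Iso.symm_hom, asIso_inv, IsIso.comp_inv_eq, pushout.inr_desc])

end Pushout

end Groth.Agent.H7.Glu
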