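import Mathlib
import Groth.Prelude.Def_SGA4a
import Groth.Agent.Lib.Helper7.Glu1

open CategoryTheory CategoryTheory.Limits Opposite

universe w' w₁ w₂ v' v₁ v₂

namespace Groth.Agent.H7.Glu

section EffEpi

variable {E' : Type v'} [Category.{w'} E'] {E₁ : Type v₁} [Category.{w₁} E₁]
  {E₂ : Type v₂} [Category.{w₂} E₂] {U₁ : E' ⥤ E₁} {U₂ : E' ⥤ E₂}
  [HasPullbacks E'] [HasPushouts E']

theorem kp_inl_eq_inr {P B' : E'} (q : P ⟶ B') :
    pushout.inl (pullback.fst q q) (pullback.snd q q) =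
      pushout.inr (pullback.fst q q) (pullback.snd q q) := by
  have h1 : pullback.lift (𝟙 P) (𝟙 P) rfl ≫ pullback.fst q q = 𝟙 P := pullback.lift_fst _ _ _
  have h2 : pullback.lift (𝟙 P) (𝟙 P) rfl ≫ pullback.snd q q = 𝟙 P := pullback.lift_snd _ _ _
  calc pushout.inl (pullback.fst q q) (pullback.snd q q)
      = (pullback.lift (𝟙 P) (𝟙 P) rfl ≫ pullback.fst q q) ≫ pushout.inl _ _ := by
        rw [h1, Category.id_comp]
    _ = (pullback.lift (𝟙 P) (𝟙 P) rfl ≫ pullback.snd q q) ≫ pushout.inr _ _ := by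
        rw [Category.assoc, Category.assoc, pushout.condition]
    _ = pushout.inr _ _ := by rw [h2, Category.id_comp]

/-- the comparison map from the quotient by the kernel pair -/
noncomputable def kpDesc {P B' : E'} (q : P ⟶ B') :
    pushout (pullback.fst q q) (pullback.snd q q) ⟶ B' :=
  pushout.desc q q pullback.condition

theorem isIso_map_kpDesc {E : Type*} [Category* E] (U : E' ⥤ E)
    [PreservesLimitsOfShape WalkingCospan U] [PreservesColimitsOfShape WalkingSpan U]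
    {P B' : E'} (q : P ⟶ B') [hq : EffectiveEpi (U.map q)] : IsIso (U.map (kpDesc q)) := by
  have hpb := (IsPullback.of_hasPullback q q).map U
  have hpo := (IsPushout.of_hasPushout (pullback.fst q q) (pullback.snd q q)).map U
  have hlr := kp_inl_eq_inr q
  have hdesc : ∀ {W : E} (g₁ g₂ : W ⟶ U.obj P), g₁ ≫ U.map q = g₂ ≫ U.map q →
      g₁ ≫ U.map (pushout.inl (pullback.fst q q) (pullback.snd q q)) =
        g₂ ≫ U.map (pushout.inl (pullback.fst q q) (pullback.snd q q)) := by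
    intro W g₁ g₂ hg
    have e1 : hpb.lift g₁ g₂ hg ≫ U.map (pullback.fst q q) = g₁ := hpb.lift_fst _ _ _
    have e2 : hpb.lift g₁ g₂ hg ≫ U.map (pullback.snd q q) = g₂ := hpb.lift_snd _ _ _
    calc g₁ ≫ U.map (pushout.inl _ _)
        = hpb.lift g₁ g₂ hg ≫ U.map (pullback.fst q q) ≫ U.map (pushout.inl _ _) := by
          rw [← Category.assoc, e1]
      _ = hpb.lift g₁ g₂ hg ≫ U.map (pullback.snd q q) ≫ U.map (pushout.inr _ _) := by
          rw [hpo.w]
      _ = g₂ ≫ U.map (pushout.inl _ _) := by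
          rw [← Category.assoc, e2, hlr]
  have hm1 : U.map (pushout.inl _ _) ≫ U.map (kpDesc q) = U.map q := by
    rw [← U.map_comp]
    congr 1
    exact pushout.inl_desc _ _ _
  have hm2 : U.map (pushout.inr _ _) ≫ U.map (kpDesc q) = U.map q := by
    rw [← U.map_comp]
    congr 1
    exact pushout.inr_desc _ _ _
  refine ⟨EffectiveEpi.desc (U.map q) _ hdesc, hpo.hom_ext ?_ ?_, ?_⟩
  · rw [← Category.assoc, hm1, EffectiveEpi.fac, Category.comp_id]
  · rw [← Category.assoc, hm2, EffectiveEpi.fac, Category.comp_id, hlr]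
  · haveI : Epi (U.map q) := inferInstance
    rw [← cancel_epi (U.map q), ← Category.assoc, EffectiveEpi.fac, hm1, Category.comp_id]

variable [PreservesLimitsOfShape WalkingCospan U₁] [PreservesLimitsOfShape WalkingCospan U₂]
  [PreservesColimitsOfShape WalkingSpan U₁] [PreservesColimitsOfShape WalkingSpan U₂]

theorem effectiveEpi_of_isIso_kpDesc {P B' : E'} (q : P ⟶ B') [IsIso (kpDesc q)] :
    EffectiveEpi q := by
  have hq : pushout.inl _ _ ≫ kpDesc q = q := pushout.inl_desc _ _ _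
  have hq' : pushout.inr _ _ ≫ kpDesc q = q := pushout.inr_desc _ _ _
  exact ⟨⟨{
    desc := fun e h => inv (kpDesc q) ≫ pushout.desc e e (h _ _ pullback.condition)
    fac := fun e h => by
      have e1 : q ≫ inv (kpDesc q) = pushout.inl _ _ := by
        rw [IsIso.comp_inv_eq, hq]
      rw [← Category.assoc, e1, pushout.inl_desc]
    uniq := fun e h m hm => by
      rw [IsIso.eq_inv_comp]
      apply pushout.hom_ext
      · rw [← Category.assoc, hq, hm, pushout.inl_desc]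
      · rw [← Category.assoc, hq', hm, pushout.inr_desc] }⟩⟩

theorem effectiveEpi_of_map (hU : JCons U₁ U₂) {P B' : E'} (q : P ⟶ B')
    (h₁ : EffectiveEpi (U₁.map q)) (h₂ : EffectiveEpi (U₂.map q)) : EffectiveEpi q := by
  haveI : IsIso (kpDesc q) := hU _ (isIso_map_kpDesc U₁ q) (isIso_map_kpDesc U₂ q)
  exact effectiveEpi_of_isIso_kpDesc q

end EffEpi

section EquivRel

universe v u

variable {E : Type v} [Category.{u} E]

theorem isEquivRel_iff {R A : E} (p₁ p₂ : R ⟶ A) :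
    SGA4.IsEquivRel p₁ p₂ ↔
      (∀ ⦃T : E⦄ (f g : T ⟶ R), f ≫ p₁ = g ≫ p₁ → f ≫ p₂ = g ≫ p₂ → f = g) ∧
      (∃ r : A ⟶ R, r ≫ p₁ = 𝟙 A ∧ r ≫ p₂ = 𝟙 A) ∧
      (∃ s : R ⟶ R, s ≫ p₁ = p₂ ∧ s ≫ p₂ = p₁) ∧
      (∀ ⦃P : E⦄ (a b : P ⟶ R), a ≫ p₂ = b ≫ p₁ →
        ∃ t : P ⟶ R, t ≫ p₁ = a ≫ p₁ ∧ t ≫ p₂ = b ≫ p₂) := by
  constructor
  · intro h
    refine ⟨?_, ?_, ?_, ?_⟩
    · intro T f g h1 h2
      exact (h T).1 (Prod.ext h1 h2)
    · exact (h A).2.refl (𝟙 A)
    · exact (h R).2.symm ⟨𝟙 R, Category.id_comp _, Category.id_comp _⟩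
    · intro P a b hab
      exact (h P).2.trans ⟨a, rfl, rfl⟩ ⟨b, hab.symm, rfl⟩
  · rintro ⟨hm, ⟨r, hr1, hr2⟩, ⟨s, hs1, hs2⟩, ht⟩ T
    refine ⟨?_, ⟨?_, ?_, ?_⟩⟩
    · intro f g hfg
      exact hm f g (congrArg Prod.fst hfg) (congrArg Prod.snd hfg)
    · intro x
      exact ⟨x ≫ r, by rw [Category.assoc, hr1, Category.comp_id],
        by rw [Category.assoc, hr2, Category.comp_id]⟩
    · rintro x y ⟨f, rfl, rfl⟩
      exact ⟨f ≫ s, by rw [Category.assoc, hs1], by rw [Category.assoc, hs2]⟩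
    · rintro x y z ⟨f, rfl, rfl⟩ ⟨g, hg, rfl⟩
      obtain ⟨t, ht1, ht2⟩ := ht f g hg.symm
      exact ⟨t, ht1, ht2⟩

variable {E₀ : Type*} [Category* E₀]

theorem isEquivRel_map {E₀ : Type v₁} [Category.{u} E₀]
    [HasBinaryProducts E] [HasPullbacks E] (U : E ⥤ E₀)
    [PreservesLimitsOfShape (Discrete WalkingPair) U] [PreservesLimitsOfShape WalkingCospan U]
    {R A : E} {p₁ p₂ : R ⟶ A} (h : SGA4.IsEquivRel p₁ p₂) :
    SGA4.IsEquivRel (U.map p₁) (U.map p₂) := by
  rw [isEquivRel_iff] at h ⊢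
  obtain ⟨hm, ⟨r, hr1, hr2⟩, ⟨s, hs1, hs2⟩, ht⟩ := h
  refine ⟨?_, ⟨U.map r, ?_, ?_⟩, ⟨U.map s, ?_, ?_⟩, ?_⟩
  · intro T f g h1 h2
    haveI : Mono (prod.lift p₁ p₂) := by
      constructor
      intro Z a b hab
      apply hm
      · have := congrArg (· ≫ prod.fst) hab
        simp only [Category.assoc, prod.lift_fst] at this
        exact this
      · have := congrArg (· ≫ prod.snd) hab
        simp only [Category.assoc, prod.lift_snd] at this
        exact this
    haveI : Mono (U.map (prod.lift p₁ p₂)) := inferInstance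
    have hlim : IsLimit (BinaryFan.mk (U.map (prod.fst : A ⨯ A ⟶ A)) (U.map prod.snd)) :=
      isLimitMapConeBinaryFanEquiv U _ _ (isLimitOfPreserves U (prodIsProd A A))
    rw [← cancel_mono (U.map (prod.lift p₁ p₂))]
    apply BinaryFan.IsLimit.hom_ext hlim
    · show (f ≫ U.map (prod.lift p₁ p₂)) ≫ U.map prod.fst = (g ≫ U.map (prod.lift p₁ p₂)) ≫ U.map prod.fst
      rw [Category.assoc, Category.assoc, ← U.map_comp, prod.lift_fst]
      exact h1
    · show (f ≫ U.map (prod.lift p₁ p₂)) ≫ U.map prod.snd = (g ≫ U.map (prod.lift p₁ p₂)) ≫ U.map prod.snd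
      rw [Category.assoc, Category.assoc, ← U.map_comp, prod.lift_snd]
      exact h2
  · rw [← U.map_comp, hr1, U.map_id]
  · rw [← U.map_comp, hr2, U.map_id]
  · rw [← U.map_comp, hs1]
  · rw [← U.map_comp, hs2]
  · intro P a b hab
    obtain ⟨t, ht1, ht2⟩ := ht (pullback.fst p₂ p₁) (pullback.snd p₂ p₁) pullback.condition
    have hpb := (IsPullback.of_hasPullback p₂ p₁).map U
    refine ⟨hpb.lift a b hab ≫ U.map t, ?_, ?_⟩
    · rw [Category.assoc, ← U.map_comp, ht1, U.map_comp, ← Category.assoc, hpb.lift_fst]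
    · rw [Category.assoc, ← U.map_comp, ht2, U.map_comp, ← Category.assoc, hpb.lift_snd]

end EquivRel

end Groth.Agent.H7.Glu
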