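import Mathlib
import Groth.Prelude.Def_SGA4a
import Groth.Agent.Lib.Helper7.Glu2
import Groth.Agent.Lib.Helper7.Gir4

open CategoryTheory CategoryTheory.Limits Opposite

universe v' v₁ v₂ v u

namespace Groth.Agent.H7.Glu

open Groth.Agent.H7.Gir

section Univ

variable {E : Type v} [Category.{u} E] [HasPullbacks E]
  (hb : SGA4.HasDisjointUniversalCoproducts.{v, u} E)

include hb in
/-- every colimit cocone over a small discrete diagram is universal -/
theorem universal_of_isColimit' {ι : Type u} {G : Discrete ι ⥤ E} (c : Cocone G)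
    (hc : IsColimit c) : IsUniversalColimit c := by
  let e : Discrete.functor (fun i => G.obj ⟨i⟩) ≅ G := Discrete.natIso (fun i => Iso.refl _)
  let c₀ : Cofan (fun i => G.obj ⟨i⟩) := (Cocone.precompose e.hom).obj c
  have hc₀ : IsColimit c₀ := (IsColimit.precomposeHomEquiv e c).symm hc
  have hu₀ : IsUniversalColimit c₀ := universal_of_isColimit hb c₀ hc₀
  have hu₁ := hu₀.precompose_isIso e.inv
  refine hu₁.of_iso (Cocone.ext (Iso.refl _) ?_)
  intro j
  simp [c₀]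

end Univ

variable {E' : Type v'} [Category.{u} E'] {E₁ : Type v₁} [Category.{u} E₁]
  {E₂ : Type v₂} [Category.{u} E₂] {U₁ : E' ⥤ E₁} {U₂ : E' ⥤ E₂} (hU : JCons U₁ U₂)

section B

variable [HasPullbacks E'] [HasPullbacks E₁] [HasPullbacks E₂]
  [∀ ι : Type u, HasColimitsOfShape (Discrete ι) E']
  [∀ ι : Type u, PreservesColimitsOfShape (Discrete ι) U₁]
  [∀ ι : Type u, PreservesColimitsOfShape (Discrete ι) U₂]
  [PreservesLimitsOfShape WalkingCospan U₁] [PreservesLimitsOfShape WalkingCospan U₂]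

omit [HasPullbacks E'] in
theorem universal_map {E : Type v} [Category.{u} E] [HasPullbacks E]
    (hb : SGA4.HasDisjointUniversalCoproducts.{v, u} E) (U : E' ⥤ E)
    [∀ ι : Type u, PreservesColimitsOfShape (Discrete ι) U]
    [PreservesLimitsOfShape WalkingCospan U] {ι : Type u} {F : Discrete ι ⥤ E'} (c : Cocone F)
    (hc : IsColimit c) {F' : Discrete ι ⥤ E'} (c' : Cocone F') (α : F' ⟶ F) (f : c'.pt ⟶ c.pt)
    (hα : α ≫ c.ι = c'.ι ≫ (Functor.const _).map f)
    (hpb : ∀ j, IsPullback (c'.ι.app j) (α.app j) f (c.ι.app j)) :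
    Nonempty (IsColimit (U.mapCocone c')) := by
  have hu := universal_of_isColimit' hb (U.mapCocone c) (isColimitOfPreserves U hc)
  refine hu (U.mapCocone c') (Functor.whiskerRight α U) (U.map f) ?_
    (NatTrans.Equifibered.of_discrete _) ?_
  · ext j
    have := congrArg (fun t => U.map (t.app j)) hα
    simpa using this
  · intro j
    exact (hpb j).map U

omit [HasPullbacks E'] in
theorem initial_pt_map {E : Type v} [Category.{u} E] [HasPullbacks E]
    (hb : SGA4.HasDisjointUniversalCoproducts.{v, u} E) (U : E' ⥤ E)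
    [∀ ι : Type u, PreservesColimitsOfShape (Discrete ι) U]
    {ι : Type u} {X : ι → E'} (c₁ : Cofan X) (hc₁ : IsColimit c₁) {i j : ι} (hij : i ≠ j)
    {Z : E'} (a : Z ⟶ X i) (b : Z ⟶ X j) (w : a ≫ c₁.inj i = b ≫ c₁.inj j) :
    Nonempty (IsInitial (U.obj Z)) := by
  have hc₁' : IsColimit (Cofan.mk c₁.pt c₁.inj) :=
    hc₁.ofIsoColimit (Cofan.ext (Iso.refl _) (by simp))
  have hcU := isColimitCofanMkObjOfIsColimit U X c₁.inj hc₁'
  exact isInitial_of_ne hb (fun j => U.map (c₁.inj j)) hcU hij (U.map a) (U.map b)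
    (by rw [← U.map_comp, w, U.map_comp])

omit [HasPullbacks E'] in
theorem mono_map {E : Type v} [Category.{u} E] [HasPullbacks E]
    (hb : SGA4.HasDisjointUniversalCoproducts.{v, u} E) (U : E' ⥤ E)
    [∀ ι : Type u, PreservesColimitsOfShape (Discrete ι) U]
    {ι : Type u} {X : ι → E'} (c₁ : Cofan X) (hc₁ : IsColimit c₁) (i : ι) :
    Mono (U.map (c₁.inj i)) := by
  have hc₁' : IsColimit (Cofan.mk c₁.pt c₁.inj) :=
    hc₁.ofIsoColimit (Cofan.ext (Iso.refl _) (by simp))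
  have hcU := isColimitCofanMkObjOfIsColimit U X c₁.inj hc₁'
  exact mono_inj hb (fun j => U.map (c₁.inj j)) hcU i

/-- the empty family -/
def X0 (E' : Type v') [Category.{u} E'] : PEmpty.{u + 1} → E' := fun i => i.elim

omit [HasPullbacks E'] in
theorem isInitial_X0 : Nonempty (IsInitial (∐ (X0.{v', u} E'))) :=
  ⟨isColimitEquivIsInitialOfIsEmpty E' _ (coproductIsCoproduct (X0 E'))⟩

omit [HasPullbacks E'] in
theorem initial_obj_map {E : Type v} [Category.{u} E] (U : E' ⥤ E)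
    [∀ ι : Type u, PreservesColimitsOfShape (Discrete ι) U] :
    Nonempty (IsInitial (U.obj (∐ (X0.{v', u} E')))) := by
  have hcU := isColimitCofanMkObjOfIsColimit U (X0 E') (Sigma.ι (X0 E'))
    (coproductIsCoproduct (X0 E'))
  exact ⟨isColimitEquivIsInitialOfIsEmpty E _ hcU⟩

include hU in
theorem transfer_b (hb₁ : SGA4.HasDisjointUniversalCoproducts.{v₁, u} E₁)
    (hb₂ : SGA4.HasDisjointUniversalCoproducts.{v₂, u} E₂) :
    SGA4.HasDisjointUniversalCoproducts.{v', u} E' := by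
  intro ι X
  let c : Cofan X := Cofan.mk (∐ X) (Sigma.ι X)
  have hc : IsColimit c := coproductIsCoproduct X
  refine ⟨c, hc, ⟨?_, ?_⟩, ?_⟩
  · intro c₁ hc₁ i j hij s hs
    obtain ⟨h₁⟩ := initial_pt_map hb₁ U₁ c₁ hc₁ hij s.fst s.snd s.condition
    obtain ⟨h₂⟩ := initial_pt_map hb₂ U₂ c₁ hc₁ hij s.fst s.snd s.condition
    obtain ⟨hO⟩ := isInitial_X0.{v', u} (E' := E')
    obtain ⟨hO₁⟩ := initial_obj_map.{v', v₁, u} U₁
    obtain ⟨hO₂⟩ := initial_obj_map.{v', v₂, u} U₂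
    exact isInitial_of_map hU hO hO₁ hO₂ h₁ h₂
  · intro c₁ hc₁ i
    exact mono_of_map hU _ (mono_map hb₁ U₁ c₁ hc₁ i) (mono_map hb₂ U₂ c₁ hc₁ i)
  · intro F' c' α f hα _ hpb
    obtain ⟨h₁⟩ := universal_map hb₁ U₁ c hc c' α f hα hpb
    obtain ⟨h₂⟩ := universal_map hb₂ U₂ c hc c' α f hα hpb
    exact nonempty_isColimit_of_map hU c' h₁ h₂

end B

section C

variable [HasFiniteLimits E'] [HasPushouts E'] [HasPullbacks E₁] [HasPullbacks E₂]
  [PreservesFiniteLimits U₁] [PreservesFiniteLimits U₂]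
  [PreservesColimitsOfShape WalkingSpan U₁] [PreservesColimitsOfShape WalkingSpan U₂]

omit [HasPushouts E'] in
/-- the image under `U` of the quotient map is a universally effective epimorphism, and the image
of the kernel pair square is cartesian -/
theorem quotient_map {E : Type v} [Category.{u} E] [HasPullbacks E]
    (hc : ∀ (R A : E) (p₁ p₂ : R ⟶ A), SGA4.IsEquivRel p₁ p₂ →
      SGA4.IsEffectiveUniversalEquivRel p₁ p₂) (U : E' ⥤ E)
    [PreservesFiniteLimits U] [PreservesColimitsOfShape WalkingSpan U]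
    {R A B : E'} {p₁ p₂ : R ⟶ A} (h : SGA4.IsEquivRel p₁ p₂) {π : A ⟶ B}
    (hpo : IsPushout p₁ p₂ π π) :
    IsPullback (U.map p₁) (U.map p₂) (U.map π) (U.map π) ∧ Cover (U.map π) := by
  obtain ⟨B₁, π₁, hpb₁, hpo₁, heff₁⟩ := hc _ _ _ _ (isEquivRel_map U h)
  have hpoU := hpo.map U
  let l : U.obj B ⟶ B₁ := hpoU.desc π₁ π₁ hpo₁.w
  have hl : U.map π ≫ l = π₁ := hpoU.inl_desc _ _ _
  haveI : IsIso l := isIso_of_isPushout hpoU hpo₁ l hl (hpoU.inr_desc _ _ _)
  have hπ : U.map π = π₁ ≫ inv l := by rw [IsIso.eq_comp_inv, hl]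
  constructor
  · refine IsPullback.of_iso hpb₁ (Iso.refl _) (Iso.refl _) (Iso.refl _) (asIso l).symm ?_ ?_ ?_ ?_
    · simp
    · simp
    · simp [hπ]
    · simp [hπ]
  · rw [hπ]
    exact (cover_of_chosen π₁ heff₁).comp_iso (inv l)

include hU in
theorem transfer_c
    (hc₁ : ∀ (R A : E₁) (p₁ p₂ : R ⟶ A), SGA4.IsEquivRel p₁ p₂ →
      SGA4.IsEffectiveUniversalEquivRel p₁ p₂)
    (hc₂ : ∀ (R A : E₂) (p₁ p₂ : R ⟶ A), SGA4.IsEquivRel p₁ p₂ →
      SGA4.IsEffectiveUniversalEquivRel p₁ p₂) :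
    ∀ (R A : E') (p₁ p₂ : R ⟶ A), SGA4.IsEquivRel p₁ p₂ →
      SGA4.IsEffectiveUniversalEquivRel p₁ p₂ := by
  intro R A p₁ p₂ h
  obtain ⟨_, ⟨r, hr1, hr2⟩, _, _⟩ := (isEquivRel_iff p₁ p₂).mp h
  have hlr : pushout.inl p₁ p₂ = pushout.inr p₁ p₂ := by
    calc pushout.inl p₁ p₂ = (r ≫ p₁) ≫ pushout.inl p₁ p₂ := by rw [hr1, Category.id_comp]
      _ = (r ≫ p₂) ≫ pushout.inr p₁ p₂ := by
        rw [Category.assoc, Category.assoc, pushout.condition]
      _ = pushout.inr p₁ p₂ := by rw [hr2, Category.id_comp]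
  have hpo : IsPushout p₁ p₂ (pushout.inl p₁ p₂) (pushout.inl p₁ p₂) := by
    have := IsPushout.of_hasPushout p₁ p₂
    rw [← hlr] at this
    exact this
  obtain ⟨hpb₁, hcov₁⟩ := quotient_map hc₁ U₁ h hpo
  obtain ⟨hpb₂, hcov₂⟩ := quotient_map hc₂ U₂ h hpo
  refine ⟨pushout p₁ p₂, pushout.inl p₁ p₂, isPullback_of_map hU ⟨hpo.w⟩ hpb₁ hpb₂, hpo, ?_⟩
  intro B' g
  have hsq := IsPullback.of_hasPullback (pushout.inl p₁ p₂) g
  exact effectiveEpi_of_map hU _ (hcov₁.baseChange (hsq.map U₁)).effectiveEpi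
    (hcov₂.baseChange (hsq.map U₂)).effectiveEpi

end C

end Groth.Agent.H7.Glu
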