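import Mathlib
import Groth.Prelude.Def_SGA4a
import Groth.Agent.Lib.Helper7.Glu3
import Groth.Agent.Lib.Helper7.Giraud

open CategoryTheory CategoryTheory.Limits Opposite

universe u

namespace Groth.Agent.H7.Glu

section Comma

variable {A : Type*} [Category* A] {B : Type*} [Category* B] {T : Type*} [Category* T]
  {L : A ⥤ T} {R : B ⥤ T}

theorem jcons_comma : JCons (Comma.fst L R) (Comma.snd L R) := by
  intro X Y f h₁ h₂
  haveI : IsIso f.left := h₁
  haveI : IsIso f.right := h₂
  have : f = (Comma.isoMk (asIso f.left) (asIso f.right) f.w).hom := by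
    ext <;> rfl
  rw [this]
  infer_instance

instance preservesLimitsOfShape_fst {J : Type*} [Category* J] [HasLimitsOfShape J A]
    [HasLimitsOfShape J B] [PreservesLimitsOfShape J R] :
    PreservesLimitsOfShape J (Comma.fst L R) where
  preservesLimit :=
    preservesLimit_of_preserves_limit_cone
      (Comma.coneOfPreservesIsLimit _ (limit.isLimit _) (limit.isLimit _))
      (limit.isLimit _)

instance preservesLimitsOfShape_snd {J : Type*} [Category* J] [HasLimitsOfShape J A]
    [HasLimitsOfShape J B] [PreservesLimitsOfShape J R] :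
    PreservesLimitsOfShape J (Comma.snd L R) where
  preservesLimit :=
    preservesLimit_of_preserves_limit_cone
      (Comma.coneOfPreservesIsLimit _ (limit.isLimit _) (limit.isLimit _))
      (limit.isLimit _)

instance preservesFiniteLimits_fst [HasFiniteLimits A] [HasFiniteLimits B]
    [PreservesFiniteLimits R] : PreservesFiniteLimits (Comma.fst L R) :=
  ⟨fun _ _ _ => inferInstance⟩

instance preservesFiniteLimits_snd [HasFiniteLimits A] [HasFiniteLimits B]
    [PreservesFiniteLimits R] : PreservesFiniteLimits (Comma.snd L R) :=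
  ⟨fun _ _ _ => inferInstance⟩

end Comma

variable {C D : Type u} [SmallCategory C] [SmallCategory D] (J : GrothendieckTopology C)
  (K : GrothendieckTopology D) (ρ : Sheaf J (Type u) ⥤ Sheaf K (Type u)) [PreservesFiniteLimits ρ]


theorem hasColimitsOfShape_sheaf (J' : Type*) [Category* J'] [HasColimitsOfShape J' (Type u)] :
    HasColimitsOfShape J' (Sheaf K (Type u)) := by
  haveI : HasWeakSheafify K (Type u) := inferInstance
  exact Sheaf.instHasColimitsOfShape

theorem hasColimitsOfShape_comma (J' : Type*) [Category* J'] [HasColimitsOfShape J' (Type u)] :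
    HasColimitsOfShape J' (Comma (𝟭 (Sheaf K (Type u))) ρ) := by
  haveI := hasColimitsOfShape_sheaf K J'
  haveI := hasColimitsOfShape_sheaf J J'
  haveI : PreservesColimitsOfShape J' (𝟭 (Sheaf K (Type u))) := inferInstance
  exact Comma.hasColimitsOfShape

theorem preservesColimitsOfShape_fst' (J' : Type*) [Category* J'] [HasColimitsOfShape J' (Type u)] :
    PreservesColimitsOfShape J' (Comma.fst (𝟭 (Sheaf K (Type u))) ρ) := by
  haveI := hasColimitsOfShape_sheaf K J'
  haveI := hasColimitsOfShape_sheaf J J'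
  haveI : PreservesColimitsOfShape J' (𝟭 (Sheaf K (Type u))) := inferInstance
  exact Comma.preservesColimitsOfShape_fst

theorem preservesColimitsOfShape_snd' (J' : Type*) [Category* J'] [HasColimitsOfShape J' (Type u)] :
    PreservesColimitsOfShape J' (Comma.snd (𝟭 (Sheaf K (Type u))) ρ) := by
  haveI := hasColimitsOfShape_sheaf K J'
  haveI := hasColimitsOfShape_sheaf J J'
  haveI : PreservesColimitsOfShape J' (𝟭 (Sheaf K (Type u))) := inferInstance
  exact Comma.preservesColimitsOfShape_snd

theorem hasFiniteLimits_sheaf : HasFiniteLimits (Sheaf K (Type u)) := inferInstance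

theorem hasFiniteLimits_comma : HasFiniteLimits (Comma (𝟭 (Sheaf K (Type u))) ρ) := by
  haveI := hasFiniteLimits_sheaf K
  haveI := hasFiniteLimits_sheaf J
  exact Comma.hasFiniteLimits

theorem preservesFiniteLimits_fst' :
    PreservesFiniteLimits (Comma.fst (𝟭 (Sheaf K (Type u))) ρ) := by
  haveI := hasFiniteLimits_sheaf K
  haveI := hasFiniteLimits_sheaf J
  exact preservesFiniteLimits_fst

theorem preservesFiniteLimits_snd' :
    PreservesFiniteLimits (Comma.snd (𝟭 (Sheaf K (Type u))) ρ) := by
  haveI := hasFiniteLimits_sheaf K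
  haveI := hasFiniteLimits_sheaf J
  exact preservesFiniteLimits_snd

theorem comma_b :
    SGA4.HasDisjointUniversalCoproducts.{u + 1, u} (Comma (𝟭 (Sheaf K (Type u))) ρ) := by
  haveI := hasFiniteLimits_comma J K ρ
  haveI := hasFiniteLimits_sheaf K
  haveI := hasFiniteLimits_sheaf J
  haveI : ∀ ι : Type u, HasColimitsOfShape (Discrete ι) (Comma (𝟭 (Sheaf K (Type u))) ρ) :=
    fun ι => hasColimitsOfShape_comma J K ρ (Discrete ι)
  haveI : ∀ ι : Type u, PreservesColimitsOfShape (Discrete ι) (Comma.fst (𝟭 (Sheaf K (Type u))) ρ) :=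
    fun ι => preservesColimitsOfShape_fst' J K ρ (Discrete ι)
  haveI : ∀ ι : Type u, PreservesColimitsOfShape (Discrete ι) (Comma.snd (𝟭 (Sheaf K (Type u))) ρ) :=
    fun ι => preservesColimitsOfShape_snd' J K ρ (Discrete ι)
  haveI := preservesFiniteLimits_fst' J K ρ
  haveI := preservesFiniteLimits_snd' J K ρ
  exact transfer_b (jcons_comma (L := 𝟭 (Sheaf K (Type u))) (R := ρ))
    (Groth.Agent.H7.Giraud.main K).1 (Groth.Agent.H7.Giraud.main J).1

theorem comma_c : haveI := hasFiniteLimits_comma J K ρ
    ∀ (R A : Comma (𝟭 (Sheaf K (Type u))) ρ) (p₁ p₂ : R ⟶ A),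
      SGA4.IsEquivRel p₁ p₂ → SGA4.IsEffectiveUniversalEquivRel p₁ p₂ := by
  haveI := hasFiniteLimits_comma J K ρ
  haveI := hasFiniteLimits_sheaf K
  haveI := hasFiniteLimits_sheaf J
  haveI : HasPushouts (Comma (𝟭 (Sheaf K (Type u))) ρ) :=
    hasColimitsOfShape_comma J K ρ WalkingSpan
  haveI := preservesColimitsOfShape_fst' J K ρ WalkingSpan
  haveI := preservesColimitsOfShape_snd' J K ρ WalkingSpan
  haveI := preservesFiniteLimits_fst' J K ρ
  haveI := preservesFiniteLimits_snd' J K ρ
  exact transfer_c (jcons_comma (L := 𝟭 (Sheaf K (Type u))) (R := ρ))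
    (Groth.Agent.H7.Giraud.main K).2 (Groth.Agent.H7.Giraud.main J).2

end Groth.Agent.H7.Glu
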