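import Mathlib
import Groth.Prelude.Def_SGA4a
import Groth.Agent.Lib.Helper7.Glu4

open CategoryTheory CategoryTheory.Limits Opposite

universe u

namespace Groth.Agent.H7.Glu

section L

variable {D : Type u} [SmallCategory D] {K : GrothendieckTopology D}
  {I : Type*} [Category* I] {F : I ⥤ Sheaf K (Type u)} (c : Cocone F)

/-- the union of the images of the legs of a cocone of sheaves -/
def Im : Subfunctor c.pt.obj where
  obj U := {t | ∃ (i : I) (x : (F.obj i).obj.obj U), (c.ι.app i).hom.app U x = t}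
  map := by
    rintro U V g t ⟨i, x, rfl⟩
    exact ⟨i, (F.obj i).obj.map g x, NatTrans.naturality_apply (c.ι.app i).hom g x⟩

variable {c}

/-- every section of the colimit of a diagram of sheaves comes locally from the diagram -/
theorem sieveOfSection_mem (hc : IsColimit c) {d : D} (t : c.pt.obj.obj (op d)) :
    (Im c).sieveOfSection t ∈ K d := by
  have hpt : Presieve.IsSheaf K c.pt.obj := (isSheaf_iff_isSheaf_of_type K _).mp c.pt.property
  let Z : Sheaf K (Type u) := ⟨((Im c).sheafify K).toFunctor,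
    (isSheaf_iff_isSheaf_of_type K _).mpr (Subfunctor.sheafify_isSheaf _ hpt)⟩
  let m : Z ⟶ c.pt := ⟨((Im c).sheafify K).ι⟩
  have hle : ∀ i, Subfunctor.range (c.ι.app i).hom ≤ (Im c).sheafify K := by
    intro i
    refine le_trans ?_ (Subfunctor.le_sheafify K (Im c))
    rintro U _ ⟨x, rfl⟩
    exact ⟨i, x, rfl⟩
  let l : ∀ i, F.obj i ⟶ Z := fun i => ⟨Subfunctor.lift (c.ι.app i).hom (hle i)⟩
  have hl : ∀ i, l i ≫ m = c.ι.app i := fun i => Sheaf.hom_ext (by rfl)
  let s : Cocone F :=
    { pt := Z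
      ι :=
        { app := l
          naturality := by
            intro i j f
            apply Sheaf.hom_ext
            ext U x
            apply Subtype.ext
            have := congrArg (fun k => k.hom.app U x) (c.w f)
            exact this } }
  have hdesc : hc.desc s ≫ m = 𝟙 c.pt := by
    apply hc.hom_ext
    intro i
    rw [← Category.assoc, hc.fac]
    show l i ≫ m = c.ι.app i ≫ 𝟙 _
    rw [hl, Category.comp_id]
  have h1 : ((hc.desc s).hom.app (op d) t).1 = t := by
    have := congrArg (fun k => k.hom.app (op d) t) hdesc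
    exact this
  have h2 := ((hc.desc s).hom.app (op d) t).2
  rw [h1] at h2
  exact h2

end L

section Star

variable {C D : Type u} [SmallCategory C] [SmallCategory D] (J : GrothendieckTopology C)
  (K : GrothendieckTopology D) (ρ : Sheaf J (Type u) ⥤ Sheaf K (Type u))
  (κ : Cardinal.{u}) [Fact κ.IsRegular] [ρ.IsCardinalAccessible κ]
  {P : ObjectProperty (Cᵒᵖ ⥤ Type u)} (hP : P.IsCardinalFilteredGenerator κ)

include hP in
/-- every section of `ρ X` comes locally from `ρ` of the sheafification of a generator -/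
theorem exists_cover_gen (X : Sheaf J (Type u)) {d : D} (t : (ρ.obj X).obj.obj (op d)) :
    ∃ S ∈ K d, ∀ ⦃d' : D⦄ (g : d' ⟶ d), S g →
      ∃ (G : Cᵒᵖ ⥤ Type u) (_ : P G) (φ : (presheafToSheaf J (Type u)).obj G ⟶ X)
        (u₀ : (ρ.obj ((presheafToSheaf J (Type u)).obj G)).obj.obj (op d')),
        (ρ.map φ).hom.app (op d') u₀ = (ρ.obj X).obj.map g.op t := by
  obtain ⟨I, _, _, ⟨pres⟩⟩ := hP.exists_colimitsOfShape X.obj
  let aJ := presheafToSheaf J (Type u)
  let c₀ : Cocone pres.diag := pres.cocone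
  have hc₀ : IsColimit c₀ := pres.isColimit
  haveI : PreservesColimitsOfSize.{u, u} aJ :=
    (sheafificationAdjunction J (Type u)).leftAdjoint_preservesColimits
  have hc₁ : IsColimit (aJ.mapCocone c₀) := isColimitOfPreserves aJ hc₀
  haveI : PreservesColimitsOfShape I ρ := Functor.preservesColimitsOfShape_of_isCardinalAccessible ρ κ I
  have hc₂ : IsColimit (ρ.mapCocone (aJ.mapCocone c₀)) := isColimitOfPreserves ρ hc₁
  let ε : aJ.obj X.obj ⟶ X := (sheafificationAdjunction J (Type u)).counit.app X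
  haveI : IsIso ε := inferInstance
  let t' : (ρ.obj (aJ.obj X.obj)).obj.obj (op d) := (ρ.map (inv ε)).hom.app (op d) t
  have ht' : (ρ.map ε).hom.app (op d) t' = t := by
    have : ρ.map (inv ε) ≫ ρ.map ε = 𝟙 _ := by rw [← ρ.map_comp, IsIso.inv_hom_id, ρ.map_id]
    have := congrArg (fun k => k.hom.app (op d) t) this
    exact this
  refine ⟨_, sieveOfSection_mem hc₂ t', ?_⟩
  rintro d' g ⟨i, x, hx⟩
  refine ⟨pres.diag.obj i, pres.prop_diag_obj i, aJ.map (c₀.ι.app i) ≫ ε, x, ?_⟩
  have h3 : (ρ.map (aJ.map (c₀.ι.app i))).hom.app (op d') x =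
      (ρ.obj (aJ.obj X.obj)).obj.map g.op t' := hx
  have h4 : (ρ.map ε).hom.app (op d') ((ρ.obj (aJ.obj X.obj)).obj.map g.op t') =
      (ρ.obj X).obj.map g.op ((ρ.map ε).hom.app (op d) t') :=
    NatTrans.naturality_apply (ρ.map ε).hom g.op t'
  rw [ρ.map_comp]
  show (ρ.map ε).hom.app (op d') ((ρ.map (aJ.map (c₀.ι.app i))).hom.app (op d') x) = _
  rw [h3, h4, ht']

end Star

end Groth.Agent.H7.Glu
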