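import Mathlib
import Groth.Prelude.Def_SGA4a
import Groth.Agent.Lib.Helper7.Glu5
import Groth.Agent.Lib.Helper7.CanTop1
import Groth.Agent.Lib.Helper7.Gir7

open CategoryTheory CategoryTheory.Limits Opposite

universe u

namespace Groth.Agent.H7.Glu

open Groth.Agent.H7.ShCoprod Groth.Agent.H7.DetectFam Groth.Agent.H7.CanTop

variable {C D : Type u} [SmallCategory C] [SmallCategory D] (J : GrothendieckTopology C)
  (K : GrothendieckTopology D) (ρ : Sheaf J (Type u) ⥤ Sheaf K (Type u))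

/-- generators of the first kind -/
noncomputable def g1 {O : Sheaf K (Type u)} (hO : IsInitial O) (c : C) :
    Comma (𝟭 (Sheaf K (Type u))) ρ :=
  { left := O, right := ε J c, hom := hO.to _ }

/-- generators of the second kind -/
noncomputable def g2 (d : D) (G : Cᵒᵖ ⥤ Type u)
    (ũ : ε K d ⟶ ρ.obj ((presheafToSheaf J (Type u)).obj G)) :
    Comma (𝟭 (Sheaf K (Type u))) ρ :=
  { left := ε K d, right := (presheafToSheaf J (Type u)).obj G, hom := ũ }

/-- the detecting family -/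
def Pdet {O : Sheaf K (Type u)} (hO : IsInitial O) (P : ObjectProperty (Cᵒᵖ ⥤ Type u)) :
    ObjectProperty (Comma (𝟭 (Sheaf K (Type u))) ρ) :=
  ObjectProperty.ofObj (g1 J K ρ hO) ⊔
    ObjectProperty.ofObj (fun x : (Σ (d : D) (G : Subtype P),
      (ε K d ⟶ ρ.obj ((presheafToSheaf J (Type u)).obj G.1))) => g2 J K ρ x.1 x.2.1.1 x.2.2)

theorem pdet_g2 {O : Sheaf K (Type u)} (hO : IsInitial O) {P : ObjectProperty (Cᵒᵖ ⥤ Type u)}
    (d : D) (G : Cᵒᵖ ⥤ Type u) (hG : P G)
    (ũ : ε K d ⟶ ρ.obj ((presheafToSheaf J (Type u)).obj G)) :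
    Pdet J K ρ hO P (g2 J K ρ d G ũ) :=
  Or.inr (ObjectProperty.ofObj_apply (fun x : (Σ (d : D) (G : Subtype P),
      (ε K d ⟶ ρ.obj ((presheafToSheaf J (Type u)).obj G.1))) => g2 J K ρ x.1 x.2.1.1 x.2.2)
    ⟨d, ⟨G, hG⟩, ũ⟩)

theorem small_Pdet {O : Sheaf K (Type u)} (hO : IsInitial O) (P : ObjectProperty (Cᵒᵖ ⥤ Type u))
    [ObjectProperty.Small.{u} P] : ObjectProperty.Small.{u} (Pdet J K ρ hO P) := by
  unfold Pdet
  infer_instance

/-- morphisms out of a generator of the second kind -/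
noncomputable def homMk {d : D} {G : Cᵒᵖ ⥤ Type u}
    (u₀ : (ρ.obj ((presheafToSheaf J (Type u)).obj G)).obj.obj (op d))
    (Y : Comma (𝟭 (Sheaf K (Type u))) ρ) (s : Y.left.obj.obj (op d))
    (φ : (presheafToSheaf J (Type u)).obj G ⟶ Y.right)
    (h : Y.hom.hom.app (op d) s = (ρ.map φ).hom.app (op d) u₀) :
    g2 J K ρ d G (elOf K u₀) ⟶ Y :=
  { left := elOf K s
    right := φ
    w := by
      show elOf K s ≫ Y.hom = elOf K u₀ ≫ ρ.map φ
      rw [elOf_comp, elOf_comp, h] }

section Detect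

variable {O : Sheaf K (Type u)} (hO : IsInitial O) (κ : Cardinal.{u}) [Fact κ.IsRegular]
  [ρ.IsCardinalAccessible κ] {P : ObjectProperty (Cᵒᵖ ⥤ Type u)}
  (hP : P.IsCardinalFilteredGenerator κ)

include hP in
theorem isDetecting : (Pdet J K ρ hO P).IsDetecting := by
  intro Y₁ Y₂ f hf
  -- step 1: the right component is an isomorphism
  have hdetJ := DetectFam.main J Set.univ (fun X =>
    ⟨PUnit, fun _ => X, fun _ => 𝟙 X, by
      have : Sieve.ofArrows (fun _ : PUnit.{u + 1} => X) (fun _ => 𝟙 X) = ⊤ := by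
        rw [eq_top_iff]
        intro Z g _
        exact ⟨X, g, 𝟙 X, ⟨PUnit.unit⟩, Category.comp_id _⟩
      rw [this]
      exact J.top_mem X, fun _ => trivial⟩)
  haveI hα : IsIso f.right := by
    apply hdetJ
    rintro G ⟨⟨c, _⟩⟩ h
    let m' : g1 J K ρ hO c ⟶ Y₂ := { left := hO.to _, right := h, w := hO.hom_ext _ _ }
    obtain ⟨m, hm, huniq⟩ := hf _ (Or.inl ⟨c⟩) m'
    refine ⟨m.right, ?_, ?_⟩
    · exact congrArg CommaMorphism.right hm
    · intro h'' hh''
      let m'' : g1 J K ρ hO c ⟶ Y₁ := { left := hO.to _, right := h'', w := hO.hom_ext _ _ }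
      have : m'' = m := huniq m'' (by
        apply CommaMorphism.ext
        · exact hO.hom_ext _ _
        · exact hh'')
      exact congrArg CommaMorphism.right this
  -- step 2: the left component is locally bijective
  have hw : ∀ {d : D} (s : Y₁.left.obj.obj (op d)),
      Y₂.hom.hom.app (op d) (f.left.hom.app (op d) s) =
        (ρ.map f.right).hom.app (op d) (Y₁.hom.hom.app (op d) s) := by
    intro d s
    have := congrArg (fun k => k.hom.app (op d) s) f.w
    exact this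
  have hαinj : ∀ {d : D} (a b : (ρ.obj Y₁.right).obj.obj (op d)),
      (ρ.map f.right).hom.app (op d) a = (ρ.map f.right).hom.app (op d) b → a = b := by
    intro d a b hab
    have h1 : ρ.map f.right ≫ ρ.map (inv f.right) = 𝟙 _ := by
      rw [← ρ.map_comp, IsIso.hom_inv_id, ρ.map_id]
    have h2 : ∀ x : (ρ.obj Y₁.right).obj.obj (op d),
        (ρ.map (inv f.right)).hom.app (op d) ((ρ.map f.right).hom.app (op d) x) = x := by
      intro x
      have := congrArg (fun k => k.hom.app (op d) x) h1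
      exact this
    rw [← h2 a, ← h2 b, hab]
  have hnat₁ : ∀ {d d' : D} (g : d' ⟶ d) (s : Y₁.left.obj.obj (op d)),
      Y₁.hom.hom.app (op d') (Y₁.left.obj.map g.op s) =
        (ρ.obj Y₁.right).obj.map g.op (Y₁.hom.hom.app (op d) s) :=
    fun g s => NatTrans.naturality_apply Y₁.hom.hom g.op s
  have hinj : Sheaf.IsLocallyInjective f.left := by
    refine ⟨fun {U} s₁ s₂ h => ?_⟩
    obtain ⟨d⟩ := U
    have ht : Y₁.hom.hom.app (op d) s₁ = Y₁.hom.hom.app (op d) s₂ := by
      apply hαinj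
      rw [← hw, ← hw]
      exact congrArg _ h
    obtain ⟨S, hS, hSg⟩ := exists_cover_gen J K ρ κ hP Y₁.right (Y₁.hom.hom.app (op d) s₁)
    refine K.superset_covering ?_ hS
    intro d' g hg
    obtain ⟨G, hG, φ, u₀, hu₀⟩ := hSg g hg
    show Y₁.left.obj.map g.op s₁ = Y₁.left.obj.map g.op s₂
    let m₁ := homMk J K ρ u₀ Y₁ (Y₁.left.obj.map g.op s₁) φ (by rw [hnat₁, hu₀])
    let m₂ := homMk J K ρ u₀ Y₁ (Y₁.left.obj.map g.op s₂) φ (by rw [hnat₁, hu₀, ht])
    have hm : m₂ ≫ f = m₁ ≫ f := by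
      apply CommaMorphism.ext
      · show elOf K (Y₁.left.obj.map g.op s₂) ≫ f.left = elOf K (Y₁.left.obj.map g.op s₁) ≫ f.left
        rw [elOf_comp, elOf_comp]
        have e1 : ∀ s, f.left.hom.app (op d') (Y₁.left.obj.map g.op s) =
            Y₂.left.obj.map g.op (f.left.hom.app (op d) s) :=
          fun s => NatTrans.naturality_apply f.left.hom g.op s
        rw [e1, e1]
        exact congrArg _ (congrArg _ h.symm)
      · rfl
    obtain ⟨m, _, huniq⟩ := hf (g2 J K ρ d' G (elOf K u₀))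
      (pdet_g2 J K ρ hO d' G hG _) (m₁ ≫ f)
    have h12 : m₁ = m₂ := (huniq m₁ rfl).trans (huniq m₂ hm).symm
    have h3 : elOf K (Y₁.left.obj.map g.op s₁) = elOf K (Y₁.left.obj.map g.op s₂) :=
      congrArg CommaMorphism.left h12
    exact (elEquiv K d' Y₁.left).symm.injective h3
  have hsurj : Sheaf.IsLocallySurjective f.left := by
    refine ⟨fun {d} s' => ?_⟩
    have h1 : ρ.map (inv f.right) ≫ ρ.map f.right = 𝟙 _ := by
      rw [← ρ.map_comp, IsIso.inv_hom_id, ρ.map_id]
    let t' := Y₂.hom.hom.app (op d) s'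
    let t := (ρ.map (inv f.right)).hom.app (op d) t'
    have htt' : (ρ.map f.right).hom.app (op d) t = t' := by
      have := congrArg (fun k => k.hom.app (op d) t') h1
      exact this
    obtain ⟨S, hS, hSg⟩ := exists_cover_gen J K ρ κ hP Y₁.right t
    refine K.superset_covering ?_ hS
    intro d' g hg
    obtain ⟨G, hG, φ, u₀, hu₀⟩ := hSg g hg
    have hnat₂ : Y₂.hom.hom.app (op d') (Y₂.left.obj.map g.op s') =
        (ρ.obj Y₂.right).obj.map g.op t' := NatTrans.naturality_apply Y₂.hom.hom g.op s'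
    have hnat₃ : (ρ.map f.right).hom.app (op d') ((ρ.obj Y₁.right).obj.map g.op t) =
        (ρ.obj Y₂.right).obj.map g.op ((ρ.map f.right).hom.app (op d) t) :=
      NatTrans.naturality_apply (ρ.map f.right).hom g.op t
    let m' := homMk J K ρ u₀ Y₂ (Y₂.left.obj.map g.op s') (φ ≫ f.right) (by
      rw [hnat₂, ρ.map_comp]
      show _ = (ρ.map f.right).hom.app (op d') ((ρ.map φ).hom.app (op d') u₀)
      rw [hu₀, hnat₃, htt'])
    obtain ⟨m, hm, _⟩ := hf (g2 J K ρ d' G (elOf K u₀))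
      (pdet_g2 J K ρ hO d' G hG _) m'
    let ml : ε K d' ⟶ Y₁.left := m.left
    refine ⟨elEquiv K d' Y₁.left ml, ?_⟩
    have h2 : ml ≫ f.left = elOf K (Y₂.left.obj.map g.op s') :=
      congrArg CommaMorphism.left hm
    show f.left.hom.app (op d') (elEquiv K d' Y₁.left ml) = _
    rw [← elEquiv_naturality_right, h2, elEquiv_elOf]
  haveI : IsIso f.left := (Sheaf.isLocallyBijective_iff_isIso f.left).mp ⟨hinj, hsurj⟩
  exact jcons_comma f (inferInstanceAs (IsIso f.left)) (inferInstanceAs (IsIso f.right))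

end Detect

theorem main [PreservesFiniteLimits ρ] [ρ.IsAccessible.{u}] :
    SGA4.IsTopos.{u + 1, u} (Comma (𝟭 (Sheaf K (Type u))) ρ) := by
  obtain ⟨κ, _, _⟩ := Functor.IsAccessible.exists_cardinal (F := ρ)
  obtain ⟨P, hPs, hP⟩ :=
    HasCardinalFilteredGenerator.exists_small_generator (Cᵒᵖ ⥤ Type u) κ
  haveI : HasInitial (Sheaf K (Type u)) := hasColimitsOfShape_sheaf K (Discrete PEmpty.{1})
  have hO : IsInitial (⊥_ (Sheaf K (Type u))) := initialIsInitial
  haveI := hasFiniteLimits_comma J K ρ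
  exact Groth.Agent.H7.Gir.main (comma_b J K ρ) (comma_c J K ρ)
    ⟨Pdet J K ρ hO P, small_Pdet J K ρ hO P, isDetecting J K ρ hO κ hP⟩

end Groth.Agent.H7.Glu
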