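import Mathlib

open CategoryTheory CategoryTheory.Limits

universe v₁ v₂ v₃ u₁ u₂ u₃

namespace Groth.Agent.H7.Glue

variable {E : Type u₁} [Category.{v₁} E] {F : Type u₂} [Category.{v₂} F]
  {G : Type u₃} [Category.{v₃} G]
  {L : E ⥤ F} {ι : F ⥤ E} (adj₁ : L ⊣ ι) {S : E ⥤ G} {R : G ⥤ E} (adj₂ : S ⊣ R)

/-- the comparison functor into the glued category -/
@[simps]
def Φ : E ⥤ Comma (𝟭 F) (R ⋙ L) where
  obj X := { left := L.obj X, right := S.obj X, hom := L.map (adj₂.unit.app X) }
  map {X X'} f :=
    { left := L.map f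
      right := S.map f
      w := by
        show L.map f ≫ L.map (adj₂.unit.app X') = L.map (adj₂.unit.app X) ≫ L.map (R.map (S.map f))
        rw [← L.map_comp, ← L.map_comp]
        congr 1
        exact adj₂.unit.naturality f }
  map_id X := by
    apply CommaMorphism.ext
    · exact L.map_id X
    · exact S.map_id X
  map_comp f g := by
    apply CommaMorphism.ext
    · exact L.map_comp f g
    · exact S.map_comp f g

variable [ι.Full] [ι.Faithful] [R.Full] [R.Faithful] [HasPullbacks E]
  [PreservesLimitsOfShape WalkingCospan L] [PreservesLimitsOfShape WalkingCospan S]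
  (hc : ∀ {X Y : E} (m : X ⟶ Y), IsIso (S.map m) → IsIso (L.map m) → IsIso m)
  (ht : ∀ {Y Y' : F} (f : Y ⟶ Y'), IsIso (S.map (ι.map f)))

include hc ht in
theorem isPullback_unit (X : E) :
    IsPullback (adj₂.unit.app X) (adj₁.unit.app X) (adj₁.unit.app (R.obj (S.obj X)))
      (ι.map (L.map (adj₂.unit.app X))) := by
  have hw : adj₂.unit.app X ≫ adj₁.unit.app (R.obj (S.obj X)) =
      adj₁.unit.app X ≫ ι.map (L.map (adj₂.unit.app X)) :=
    adj₁.unit.naturality (adj₂.unit.app X)
  let a := adj₁.unit.app (R.obj (S.obj X))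
  let b := ι.map (L.map (adj₂.unit.app X))
  let cmp : X ⟶ pullback a b := pullback.lift (adj₂.unit.app X) (adj₁.unit.app X) hw
  have hP : IsPullback (pullback.fst a b) (pullback.snd a b) a b := IsPullback.of_hasPullback _ _
  suffices h : IsIso cmp by
    refine IsPullback.of_iso hP (asIso cmp).symm (Iso.refl _) (Iso.refl _) (Iso.refl _)
      ?_ ?_ ?_ ?_
    · rw [Iso.symm_hom, asIso_inv, IsIso.eq_inv_comp, Iso.refl_hom, Category.comp_id]
      exact pullback.lift_fst _ _ _
    · rw [Iso.symm_hom, asIso_inv, IsIso.eq_inv_comp, Iso.refl_hom, Category.comp_id]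
      exact pullback.lift_snd _ _ _
    · exact (Category.comp_id _).trans (Category.id_comp _).symm
    · exact (Category.comp_id _).trans (Category.id_comp _).symm
  apply hc
  · have hP' := hP.map S
    haveI : IsIso (S.map b) := ht _
    haveI : IsIso (S.map (pullback.fst a b)) := hP'.isIso_fst_of_isIso
    have e : S.map cmp ≫ S.map (pullback.fst a b) = S.map (adj₂.unit.app X) := by
      rw [← Functor.map_comp, pullback.lift_fst]
    haveI : IsIso (S.map (adj₂.unit.app X)) :=
      (inferInstance : IsIso ((Functor.whiskerRight adj₂.unit S).app X))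
    haveI : IsIso (S.map cmp ≫ S.map (pullback.fst a b)) := by
      rw [e]; infer_instance
    exact IsIso.of_isIso_comp_right _ (S.map (pullback.fst a b))
  · have hP' := hP.map L
    haveI : IsIso (L.map a) :=
      (inferInstance : IsIso ((Functor.whiskerRight adj₁.unit L).app (R.obj (S.obj X))))
    haveI : IsIso (L.map (pullback.snd a b)) := hP'.isIso_snd_of_isIso
    have e : L.map cmp ≫ L.map (pullback.snd a b) = L.map (adj₁.unit.app X) := by
      rw [← Functor.map_comp, pullback.lift_snd]
    haveI : IsIso (L.map (adj₁.unit.app X)) :=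
      (inferInstance : IsIso ((Functor.whiskerRight adj₁.unit L).app X))
    haveI : IsIso (L.map cmp ≫ L.map (pullback.snd a b)) := by
      rw [e]; infer_instance
    exact IsIso.of_isIso_comp_right _ (L.map (pullback.snd a b))

include adj₁ hc ht in
theorem faithful : (Φ adj₂ (L := L)).Faithful := by
  constructor
  intro X X' f g h
  have h1 : L.map f = L.map g := congrArg CommaMorphism.left h
  have h2 : S.map f = S.map g := congrArg CommaMorphism.right h
  apply (isPullback_unit adj₁ adj₂ hc ht X').hom_ext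
  · have e1 := adj₂.unit.naturality f
    have e2 := adj₂.unit.naturality g
    simp only [Functor.id_map, Functor.comp_map] at e1 e2
    rw [e1, e2, h2]
  · have e1 := adj₁.unit.naturality f
    have e2 := adj₁.unit.naturality g
    simp only [Functor.id_map, Functor.comp_map] at e1 e2
    rw [e1, e2, h1]

include adj₁ hc ht in
theorem full_aux (X X' : E) (kl : L.obj X ⟶ L.obj X') (kr : S.obj X ⟶ S.obj X')
    (hk : kl ≫ L.map (adj₂.unit.app X') = L.map (adj₂.unit.app X) ≫ L.map (R.map kr)) :
    ∃ f : X ⟶ X', L.map f = kl ∧ S.map f = kr := by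
  have hX' := isPullback_unit adj₁ adj₂ hc ht X'
  have hcomp : (adj₂.unit.app X ≫ R.map kr) ≫ adj₁.unit.app (R.obj (S.obj X')) =
      (adj₁.unit.app X ≫ ι.map kl) ≫ ι.map (L.map (adj₂.unit.app X')) := by
    have e1 := adj₁.unit.naturality (adj₂.unit.app X ≫ R.map kr)
    simp only [Functor.id_map, Functor.comp_map] at e1
    rw [e1, Category.assoc, ← ι.map_comp, hk, L.map_comp]
    rfl
  let f : X ⟶ X' := hX'.lift (adj₂.unit.app X ≫ R.map kr) (adj₁.unit.app X ≫ ι.map kl) hcomp
  have hf1 : f ≫ adj₂.unit.app X' = adj₂.unit.app X ≫ R.map kr := hX'.lift_fst _ _ _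
  have hf2 : f ≫ adj₁.unit.app X' = adj₁.unit.app X ≫ ι.map kl := hX'.lift_snd _ _ _
  refine ⟨f, ?_, ?_⟩
  · apply (adj₁.homEquiv X (L.obj X')).injective
    rw [Adjunction.homEquiv_unit, Adjunction.homEquiv_unit, ← hf2]
    exact (adj₁.unit.naturality f).symm
  · apply (adj₂.homEquiv X (S.obj X')).injective
    rw [Adjunction.homEquiv_unit, Adjunction.homEquiv_unit, ← hf1]
    exact (adj₂.unit.naturality f).symm

include adj₁ hc ht in
theorem full : (Φ adj₂ (L := L)).Full := by
  constructor
  intro X X' k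
  obtain ⟨f, h1, h2⟩ := full_aux adj₁ adj₂ hc ht X X' k.left k.right k.w
  exact ⟨f, CommaMorphism.ext h1 h2⟩

include adj₁ ht in
theorem essSurj : (Φ adj₂ (L := L)).EssSurj := by
  constructor
  intro T
  obtain ⟨Y, Z, φ⟩ := T
  change Y ⟶ L.obj (R.obj Z) at φ
  let a := adj₁.unit.app (R.obj Z)
  let b := ι.map φ
  let X := pullback a b
  have hP : IsPullback (pullback.fst a b) (pullback.snd a b) a b := IsPullback.of_hasPullback _ _
  let r : S.obj X ⟶ Z := (adj₂.homEquiv X Z).symm (pullback.fst a b)
  let l : L.obj X ⟶ Y := (adj₁.homEquiv X Y).symm (pullback.snd a b)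
  have hr : adj₂.unit.app X ≫ R.map r = pullback.fst a b :=
    (adj₂.homEquiv_unit X Z r).symm.trans ((adj₂.homEquiv X Z).apply_symm_apply _)
  have hl : adj₁.unit.app X ≫ ι.map l = pullback.snd a b :=
    (adj₁.homEquiv_unit X Y l).symm.trans ((adj₁.homEquiv X Y).apply_symm_apply _)
  have hri : IsIso r := by
    have e : r = S.map (pullback.fst a b) ≫ adj₂.counit.app Z := Adjunction.homEquiv_counit _ _ _ _
    rw [e]
    have hP' := hP.map S
    haveI : IsIso (S.map b) := ht _
    haveI : IsIso (S.map (pullback.fst a b)) := hP'.isIso_fst_of_isIso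
    infer_instance
  have hli : IsIso l := by
    have e : l = L.map (pullback.snd a b) ≫ adj₁.counit.app Y := Adjunction.homEquiv_counit _ _ _ _
    rw [e]
    have hP' := hP.map L
    haveI : IsIso (L.map a) :=
      (inferInstance : IsIso ((Functor.whiskerRight adj₁.unit L).app (R.obj Z)))
    haveI : IsIso (L.map (pullback.snd a b)) := hP'.isIso_snd_of_isIso
    infer_instance
  refine ⟨X, ⟨Comma.isoMk (@asIso _ _ _ _ l hli) (@asIso _ _ _ _ r hri) ?_⟩⟩
  show l ≫ φ = L.map (adj₂.unit.app X) ≫ L.map (R.map r)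
  apply (adj₁.homEquiv X _).injective
  rw [Adjunction.homEquiv_unit, Adjunction.homEquiv_unit, ι.map_comp, ← Category.assoc, hl,
    ← L.map_comp, hr]
  have e1 := adj₁.unit.naturality (pullback.fst a b)
  simp only [Functor.id_map, Functor.comp_map] at e1
  rw [← e1]
  exact hP.w.symm

include adj₁ hc ht in
theorem isEquivalence : (Φ adj₂ (L := L)).IsEquivalence := by
  haveI := faithful adj₁ adj₂ hc ht
  haveI := full adj₁ adj₂ hc ht
  haveI := essSurj adj₁ adj₂ ht
  exact {}

include adj₁ adj₂ hc ht in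
theorem main : Nonempty (E ≌ Comma (𝟭 F) (R ⋙ L)) := by
  haveI := isEquivalence adj₁ adj₂ hc ht
  exact ⟨(Φ adj₂ (L := L)).asEquivalence⟩

end Groth.Agent.H7.Glue
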