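import Mathlib
import Groth.Agent.Lib.Helper7.GorSp2
import Groth.Agent.Lib.Helper8.Hens.StrictQuot
import Groth.Agent.Lib.Helper8.Hens.Noeth
import Groth.Agent.Lib.Helper8.Hens.FlatDescent

/-!
# Gorenstein morphisms and strict henselizations (S10693)
-/

set_option autoImplicit false
set_option linter.style.haveILetI false
universe u

namespace Groth.Agent.H7.GorHens

open IsLocalRing Groth.Agent.H8.Hens Groth.Agent.H7.GorFib Groth.Agent.H1.CMFib
  Groth.Agent.H7.GorEt

section alg

variable {A B R' R : Type u} [CommRing A] [CommRing B] [CommRing R'] [CommRing R]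
  [IsLocalRing A] [IsLocalRing B] [IsLocalRing R'] [IsLocalRing R]
  (ψ : A →+* B) [IsLocalHom ψ]
  [Algebra A R'] [IsLocalHom (algebraMap A R')] [Hensel.IsStrictHenselization A R']
  [Algebra B R] [IsLocalHom (algebraMap B R)] [Hensel.IsStrictHenselization B R]
  (φ : R' →+* R) [IsLocalHom φ]

include ψ in
theorem flat_iff (hφ : φ.comp (algebraMap A R') = (algebraMap B R).comp ψ) :
    ψ.Flat ↔ φ.Flat := by
  have hBR : (algebraMap B R).Flat :=
    RingHom.flat_algebraMap_iff.mpr (flat_of_isStrictHenselization (R := B) R)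
  have hAR' : (algebraMap A R').Flat :=
    RingHom.flat_algebraMap_iff.mpr (flat_of_isStrictHenselization (R := A) R')
  constructor
  · intro hψ
    have h2 : ((algebraMap B R).comp ψ).Flat := RingHom.Flat.comp hψ hBR
    rw [← hφ] at h2
    letI : Algebra R' R := φ.toAlgebra
    letI : Algebra A R := (φ.comp (algebraMap A R')).toAlgebra
    haveI : IsScalarTower A R' R := IsScalarTower.of_algebraMap_eq' rfl
    haveI : Module.Flat A R := h2
    exact flat_of_flat_base_of_isStrictHenselization (R := A) (S := R') R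
  · intro hφ'
    have h2 : (φ.comp (algebraMap A R')).Flat := RingHom.Flat.comp hAR' hφ'
    rw [hφ] at h2
    exact Groth.Agent.H9.FLH.ringHom_flat_of_comp ψ (algebraMap B R) hBR h2

include ψ in
theorem gor_iff (hφ : φ.comp (algebraMap A R') = (algebraMap B R).comp ψ)
    [IsNoetherianRing (B ⧸ (maximalIdeal A).map ψ)] :
    LocCoh.IsGorensteinLocalRing (B ⧸ (maximalIdeal A).map ψ) ↔
      LocCoh.IsGorensteinLocalRing (R ⧸ (maximalIdeal R').map φ) := by
  have hI : (maximalIdeal A).map ψ ≤ maximalIdeal B := map_maximalIdeal_le' ψ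
  have hItop : (maximalIdeal A).map ψ ≠ ⊤ := fun h => by
    rw [h] at hI
    exact (maximalIdeal.isMaximal B).ne_top (top_le_iff.mp hI)
  have hJ : (maximalIdeal R').map φ = ((maximalIdeal A).map ψ).map (algebraMap B R) := by
    rw [← map_maximalIdeal_of_isStrictHenselization (R := A) R', Ideal.map_map, hφ,
      ← Ideal.map_map]
  haveI : IsLocalRing (B ⧸ (maximalIdeal A).map ψ) := UMP.isLocalRing_quotient _ hItop
  haveI : IsLocalRing (R ⧸ ((maximalIdeal A).map ψ).map (algebraMap B R)) :=
    UMP.isLocalRing_quotient _ (UMP.map_ne_top _ hItop)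
  haveI := UMP.isLocalHom_quotient (S := R) ((maximalIdeal A).map ψ)
  haveI := UMP.isStrictHenselization_quotient (A := B) (S := R) ((maximalIdeal A).map ψ)
  haveI : IsNoetherianRing (R ⧸ ((maximalIdeal A).map ψ).map (algebraMap B R)) :=
    (isNoetherianRing_iff_of_isStrictHenselization (R := B ⧸ (maximalIdeal A).map ψ) _).mp
      inferInstance
  have hflat : (algebraMap (B ⧸ (maximalIdeal A).map ψ)
      (R ⧸ ((maximalIdeal A).map ψ).map (algebraMap B R))).Flat :=
    RingHom.flat_algebraMap_iff.mpr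
      (flat_of_isStrictHenselization (R := B ⧸ (maximalIdeal A).map ψ) _)
  have hm := map_maximalIdeal_of_isStrictHenselization (R := B ⧸ (maximalIdeal A).map ψ)
    (R ⧸ ((maximalIdeal A).map ψ).map (algebraMap B R))
  have key := gor_iff_of_flat_local (algebraMap (B ⧸ (maximalIdeal A).map ψ)
      (R ⧸ ((maximalIdeal A).map ψ).map (algebraMap B R))) hflat (RingEquiv.refl _)
  have hfield : LocCoh.IsGorensteinLocalRing
      ((R ⧸ ((maximalIdeal A).map ψ).map (algebraMap B R)) ⧸
        (maximalIdeal (B ⧸ (maximalIdeal A).map ψ)).map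
          (algebraMap (B ⧸ (maximalIdeal A).map ψ)
            (R ⧸ ((maximalIdeal A).map ψ).map (algebraMap B R)))) := by
    apply gor_of_isField
    rw [hm]
    exact (Ideal.Quotient.maximal_ideal_iff_isField_quotient _).mp (maximalIdeal.isMaximal _)
  rw [gor_iff_of_ringEquiv (Ideal.quotEquivOfEq hJ), key]
  exact ⟨fun h => ⟨h, hfield⟩, fun h => h.1⟩

end alg

open AlgebraicGeometry CategoryTheory Limits _root_.AlgSp Groth.Agent.H5.AlgSp
  Groth.Agent.H7.GorSp Groth.Agent.H1.FibreStalk

variable {S : Scheme.{u}}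

theorem S10693_main {X Y : Sp S} (f : X ⟶ Y) (hf : FibNoeth f)
    (x : Points X) {U V : Over S} (a : (yon S).obj U ⟶ X) (b : (yon S).obj V ⟶ Y)
    (h : U ⟶ V) (ha : RepWith @Etale a) (hb : RepWith @Etale b)
    (hc : a ≫ f = (yon S).map h ≫ b)
    (u : ↥U.left) (hu : Points.ofPt a u = x)
    (R : Type u) [CommRing R] [IsLocalRing R] [Algebra ↥(U.left.presheaf.stalk u) R]
    [IsLocalHom (algebraMap ↥(U.left.presheaf.stalk u) R)]
    [Hensel.IsStrictHenselization ↥(U.left.presheaf.stalk u) R]
    (R' : Type u) [CommRing R'] [IsLocalRing R'] [Algebra ↥(V.left.presheaf.stalk (h.left u)) R']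
    [IsLocalHom (algebraMap ↥(V.left.presheaf.stalk (h.left u)) R')]
    [Hensel.IsStrictHenselization ↥(V.left.presheaf.stalk (h.left u)) R']
    (φ : R' →+* R) [IsLocalHom φ]
    (hφ : φ.comp (algebraMap ↥(V.left.presheaf.stalk (h.left u)) R') =
      (algebraMap ↥(U.left.presheaf.stalk u) R).comp (h.left.stalkMap u).hom) :
    LocPAt (fun h u => Dual3.IsGorensteinAt h u) f x ↔
      φ.Flat ∧ LocCoh.IsGorensteinLocalRing (R ⧸ (IsLocalRing.maximalIdeal R').map φ) := by
  subst hu
  rw [locPAt_gor_iff hf a b h ha hb hc u]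
  haveI : IsLocalHom (h.left.stalkMap u).hom := inferInstance
  haveI := chart_fibre_noeth hf a b h ha hb hc (h.left u)
  haveI : IsNoetherianRing ((h.left.fiber (h.left u)).presheaf.stalk (h.left.asFiber u)) :=
    inferInstance
  have e := fiberStalkEquiv h.left u
  haveI : IsNoetherianRing (U.left.presheaf.stalk u ⧸
      (maximalIdeal (V.left.presheaf.stalk (h.left u))).map (h.left.stalkMap u).hom) :=
    isNoetherianRing_of_ringEquiv _ e.symm
  unfold Dual3.IsGorensteinAt
  rw [flat_iff (h.left.stalkMap u).hom φ hφ, ← gor_iff_of_ringEquiv e,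
    gor_iff (h.left.stalkMap u).hom φ hφ]

end Groth.Agent.H7.GorHens
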