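import Mathlib
import Groth.Agent.Lib.Helper7.GorHens

/-!
# Flat morphisms from a Gorenstein algebraic space (S10691)
-/

set_option autoImplicit false
set_option linter.style.haveILetI false
universe u

open AlgebraicGeometry CategoryTheory Limits

namespace Groth.Agent.H7.GorSp3

open IsLocalRing _root_.AlgSp Groth.Agent.H5.AlgSp Groth.Agent.H5.EtSrc Groth.Agent.H7.FlatLocSp
  Groth.Agent.H7.GorSp Groth.Agent.H7.GorFib Groth.Agent.H7.GorEt Groth.Agent.H1.FibreStalk
  Groth.Agent.H8.Hens

/-- Gorenstein-ness of local rings along étale morphisms. -/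
theorem gor_stalk_etale_iff {U'' U : Scheme.{u}} (p : U'' ⟶ U) [Etale p] [IsLocallyNoetherian U]
    (r : U'') :
    LocCoh.IsGorensteinLocalRing (U''.presheaf.stalk r) ↔
      LocCoh.IsGorensteinLocalRing (U.presheaf.stalk (p r)) := by
  haveI : IsLocallyNoetherian U'' := LocallyOfFiniteType.isLocallyNoetherian p
  have key := gor_iff_of_flat_local (p.stalkMap r).hom (Flat.stalkMap p r) (RingEquiv.refl _)
  have hfield : LocCoh.IsGorensteinLocalRing (U''.presheaf.stalk r ⧸
      (maximalIdeal (U.presheaf.stalk (p r))).map (p.stalkMap r).hom) := by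
    apply gor_of_isField
    rw [Groth.Agent.H1.EtStalk.map_maximalIdeal_stalkMap p r]
    exact (Ideal.Quotient.maximal_ideal_iff_isField_quotient _).mp (maximalIdeal.isMaximal _)
  rw [key]
  exact ⟨fun h => h.1, fun h => ⟨h, hfield⟩⟩

variable {S : Scheme.{u}}

/-- every locally Noetherian scheme étale over an étale-locally Gorenstein sheaf has Gorenstein
local rings. -/
theorem gor_stalk_of_etaleLocally {Z : Sp S} (hZ : EtaleLocally Dual3.IsGorenstein Z)
    {T : Over S} (a : (yon S).obj T ⟶ Z) (ha : RepWith @Etale a) [IsLocallyNoetherian T.left]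
    (t : T.left) : LocCoh.IsGorensteinLocalRing (T.left.presheaf.stalk t) := by
  obtain ⟨U₀, p, hpe, hps, hU₀n, hU₀g⟩ := hZ
  have sq := hpe.rep.isPullback' a
  have h1 : Etale (hpe.rep.snd a).left := hpe.property_snd a
  have h2 : Etale (hpe.rep.fst' a).left := ha.property p _ _ sq.flip
  have h3 : Surjective (hpe.rep.snd a).left := hps.property _ _ _ sq
  obtain ⟨r, hr⟩ := (hpe.rep.snd a).left.surjective t
  haveI := hU₀n
  have e1 := gor_stalk_etale_iff (hpe.rep.fst' a).left r
  have e2 := gor_stalk_etale_iff (hpe.rep.snd a).left r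
  rw [hr] at e2
  exact e2.mp (e1.mpr (hU₀g _))

/-- a strict henselization of a Gorenstein local ring is Gorenstein -/
theorem gor_strictHenselization {A R : Type u} [CommRing A] [IsLocalRing A] [CommRing R]
    [IsLocalRing R] [Algebra A R] [IsLocalHom (algebraMap A R)]
    [Hensel.IsStrictHenselization A R] (hA : LocCoh.IsGorensteinLocalRing A) :
    LocCoh.IsGorensteinLocalRing R := by
  haveI : IsNoetherianRing A := hA.toIsNoetherian
  haveI : IsNoetherianRing R :=
    (isNoetherianRing_iff_of_isStrictHenselization (R := A) R).mp inferInstance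
  have hflat : (algebraMap A R).Flat :=
    RingHom.flat_algebraMap_iff.mpr (flat_of_isStrictHenselization (R := A) R)
  have key := gor_iff_of_flat_local (algebraMap A R) hflat (RingEquiv.refl _)
  rw [key]
  refine ⟨hA, gor_of_isField ?_⟩
  rw [map_maximalIdeal_of_isStrictHenselization (R := A) R]
  exact (Ideal.Quotient.maximal_ideal_iff_isField_quotient _).mp (maximalIdeal.isMaximal _)

theorem S10691_main {X Y : Sp S} (hX : IsAlgSpace X) (f : X ⟶ Y) (hf : LocP @Flat f)
    (hX1 : IsLocNoethSp X) (hY1 : IsLocNoethSp Y)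
    (hX2 : EtaleLocally Dual3.IsGorenstein X) :
    (∀ x : Points X, LocPAt (fun h u => Dual3.IsGorensteinAt h u) f x) ∧
      ∀ (x : Points X) (V : Over S) (b : (yon S).obj V ⟶ Y), RepWith @Etale b →
        ∀ (v : ↥V.left), Points.ofPt b v = Points.map f x →
          ∀ (R : Type u) [CommRing R] [IsLocalRing R] [Algebra ↥(V.left.presheaf.stalk v) R]
            [IsLocalHom (algebraMap ↥(V.left.presheaf.stalk v) R)]
            [Hensel.IsStrictHenselization ↥(V.left.presheaf.stalk v) R],
            LocCoh.IsGorensteinLocalRing R := by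
  have key : ∀ ⦃U V : Over S⦄ (a : (yon S).obj U ⟶ X) (b : (yon S).obj V ⟶ Y) (h : U ⟶ V),
      RepWith @Etale a → RepWith @Etale b → a ≫ f = (yon S).map h ≫ b → ∀ u : U.left,
      Dual3.IsGorensteinAt h.left u ∧
        LocCoh.IsGorensteinLocalRing (V.left.presheaf.stalk (h.left u)) := by
    intro U V a b h ha hb comm u
    haveI : IsLocallyNoetherian U.left :=
      Groth.Agent.H3.AlgSpCov.isLocallyNoetherian_of_etale_of_isLocNoethSp hX1 a ha
    haveI : IsLocallyNoetherian V.left :=
      Groth.Agent.H3.AlgSpCov.isLocallyNoetherian_of_etale_of_isLocNoethSp hY1 b hb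
    haveI hfl : Flat h.left := hf a b h ha hb comm
    have hG := gor_stalk_of_etaleLocally hX2 a ha u
    have k := (gor_iff_of_flat_local (h.left.stalkMap u).hom (Flat.stalkMap h.left u)
      (fiberStalkEquiv h.left u)).mp hG
    exact ⟨⟨Flat.stalkMap h.left u, k.2⟩, k.1⟩
  refine ⟨fun x U V a b h u ha hb comm _ => (key a b h ha hb comm u).1, ?_⟩
  intro x V b hb v hv R _ _ _ _ _
  obtain ⟨U, a, h, c, hae, comm, hce, hcs, hca, hch⟩ := exists_chart_diagram hX f hb
  obtain ⟨z, hz1, hz2⟩ := points_pullback_surjective (IsPullback.of_hasPullback f b) x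
    (Points.ofScheme V v) (by rw [← hv, Points.ofPt_eq_map_ofScheme])
  obtain ⟨u, hu⟩ := ofPt_surjective_of_repWith hcs z
  have hku : h.left u = v := by
    have h0 : Points.map (pullback.snd f b) (Points.ofPt c u) =
        Points.ofPt (c ≫ pullback.snd f b) u := rfl
    have h1 : Points.ofPt ((yon S).map h) u = Points.ofScheme V v := by
      rw [← hch, ← h0, hu, hz2]
    have h2 := congrArg (Points.toScheme V) h1
    rwa [Points.toScheme_ofPt, Points.toScheme_ofScheme] at h2
  subst hku
  exact gor_strictHenselization (key a b h hae hb comm u).2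

end Groth.Agent.H7.GorSp3
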