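import Mathlib
import Groth.Agent.Lib.Helper7.GorSp3

/-!
# Gorenstein morphisms of algebraic spaces: characterisation by fibres (S10690)
-/

set_option autoImplicit false
set_option linter.style.haveILetI false
universe u

open AlgebraicGeometry CategoryTheory Limits

namespace Groth.Agent.H7.GorSp4

open IsLocalRing _root_.AlgSp Groth.Agent.H5.AlgSp Groth.Agent.H5.EtSrc Groth.Agent.H7.FlatLocSp
  Groth.Agent.H7.GorSp Groth.Agent.H7.GorFib Groth.Agent.H7.GorEt Groth.Agent.H7.GorBC
  Groth.Agent.H7.GorSp3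

variable {S : Scheme.{u}}

/-- the fibre of a chart over a point is an étale surjective chart of the fibre of `f`. -/
theorem exists_fibre_chart {X Y : Sp S} {f : X ⟶ Y} {U V : Over S} {b : (yon S).obj V ⟶ Y}
    (h : U ⟶ V) (c : (yon S).obj U ⟶ pullback f b) (hce : RepWith @Etale c)
    (hcs : RepWith @Surjective c) (hch : c ≫ pullback.snd f b = (yon S).map h)
    (v : V.left) {Xv : Sp S} (av : Xv ⟶ X)
    (cv : Xv ⟶ (yon S).obj (Over.mk (V.left.fromSpecResidueField v ≫ V.hom)))
    (sqv : IsPullback av cv f ((yon S).map (Over.homMk (V.left.fromSpecResidueField v) rfl :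
      Over.mk (V.left.fromSpecResidueField v ≫ V.hom) ⟶ V) ≫ b)) :
    ∃ (U' : Over S) (p : (yon S).obj U' ⟶ Xv) (_ : U'.left ≅ h.left.fiber v),
      RepWith @Etale p ∧ RepWith @Surjective p := by
  obtain ⟨U', pr1, k', hpb, hpbl⟩ := exists_over_pullback h
    (Over.homMk (V.left.fromSpecResidueField v) rfl :
      Over.mk (V.left.fromSpecResidueField v ≫ V.hom) ⟶ V)
  obtain ⟨a', c', -, -, hc'e, hc's, hc'a, -⟩ := exists_chart_baseChange sqv h c hce hcs hch
    (𝟙 _) (Over.homMk (V.left.fromSpecResidueField v) rfl :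
      Over.mk (V.left.fromSpecResidueField v ≫ V.hom) ⟶ V) (Category.id_comp _) pr1 k' hpb
  refine ⟨U', a', hpbl.isoPullback, ?_, ?_⟩
  · rw [← hc'a]
    exact MorphismProperty.RespectsIso.postcomp _ _ _ hc'e
  · rw [← hc'a]
    exact MorphismProperty.RespectsIso.postcomp _ _ _ hc's

/-- Gorenstein-ness of the local rings of a fibre in terms of `IsGorensteinAt`. -/
theorem gor_fiber_stalk_iff {U V : Scheme.{u}} (h : U ⟶ V) (v : V) (t : h.fiber v) :
    LocCoh.IsGorensteinLocalRing ((h.fiber v).presheaf.stalk t) ↔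
      LocCoh.IsGorensteinLocalRing ((h.fiber (h (h.fiberι v t))).presheaf.stalk
        (h.asFiber (h.fiberι v t))) := by
  have hy : h (h.fiberι v t) = v := by
    have : h.fiberι v t ∈ Set.range (h.fiberι v) := ⟨t, rfl⟩
    rw [h.range_fiberι v] at this
    exact this
  exact gor_stalk_fiber_congr h (h.fiberι v t) v hy t rfl

theorem S10690_main {X Y : Sp S} (hX : IsAlgSpace X) (hY : IsAlgSpace Y) (f : X ⟶ Y)
    (hf : FibNoeth f) :
    [∀ x : Points X, LocPAt (fun h u => Dual3.IsGorensteinAt h u) f x,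
      LocP @Flat f ∧ ∃ (V : Over S) (b : (yon S).obj V ⟶ Y),
        RepWith @Etale b ∧ RepWith @Surjective b ∧
          ∀ (v : ↥V.left) (Xv : Sp S) (a : Xv ⟶ X)
            (c : Xv ⟶ (yon S).obj (Over.mk (V.left.fromSpecResidueField v ≫ V.hom))),
            IsPullback a c f ((yon S).map (Over.homMk (V.left.fromSpecResidueField v) rfl :
              Over.mk (V.left.fromSpecResidueField v ≫ V.hom) ⟶ V) ≫ b) →
            EtaleLocally Dual3.IsGorenstein Xv,
      LocP @Flat f ∧ ∀ (V : Over S) (b : (yon S).obj V ⟶ Y), RepWith @Etale b →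
          ∀ (v : ↥V.left) (Xv : Sp S) (a : Xv ⟶ X)
            (c : Xv ⟶ (yon S).obj (Over.mk (V.left.fromSpecResidueField v ≫ V.hom))),
            IsPullback a c f ((yon S).map (Over.homMk (V.left.fromSpecResidueField v) rfl :
              Over.mk (V.left.fromSpecResidueField v ≫ V.hom) ⟶ V) ≫ b) →
            EtaleLocally Dual3.IsGorenstein Xv].TFAE := by
  tfae_have 1 → 3 := by
    intro h1
    refine ⟨fun U V a b h ha hb comm => ?_, fun V b hb v Xv av cv sqv => ?_⟩
    · exact Flat.of_stalkMap (f := h.left) fun u => (h1 (Points.ofPt a u) a b h u ha hb comm rfl).1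
    · obtain ⟨U, a, h, c, hae, comm, hce, hcs, hca, hch⟩ := exists_chart_diagram hX f hb
      obtain ⟨U', p, e, hpe, hps⟩ := exists_fibre_chart h c hce hcs hch v av cv sqv
      haveI := chart_fibre_noeth hf a b h hae hb comm v
      haveI : IsLocallyNoetherian U'.left := isLocallyNoetherian_of_isOpenImmersion e.hom
      refine ⟨U', p, hpe, hps, inferInstance, fun t => ?_⟩
      rw [← gor_stalk_iff_of_iso e t, gor_fiber_stalk_iff]
      exact (h1 (Points.ofPt a _) a b h _ hae hb comm rfl).2
  tfae_have 3 → 2 := by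
    rintro ⟨h1, h2⟩
    obtain ⟨V, b, hbe, hbs⟩ := hY.atlas
    exact ⟨h1, V, b, hbe, hbs, h2 V b hbe⟩
  tfae_have 2 → 1 := by
    rintro ⟨h1, V, b, hbe, hbs, h2⟩ x
    obtain ⟨U, a, h, c, hae, comm, hce, hcs, hca, hch⟩ := exists_chart_diagram hX f hbe
    have has : RepWith @Surjective a := by
      rw [← hca]
      exact (RepWith @Surjective).comp_mem _ _ hcs
        (MorphismProperty.of_isPullback (P := RepWith @Surjective)
          (IsPullback.of_hasPullback f b).flip hbs)
    obtain ⟨u, rfl⟩ := ofPt_surjective_of_repWith has x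
    rw [locPAt_gor_iff hf a b h hae hbe comm u]
    haveI : Flat h.left := h1 a b h hae hbe comm
    refine ⟨Flat.stalkMap h.left u, ?_⟩
    have hG := h2 (h.left u) _ _ _ (IsPullback.of_hasPullback f
      ((yon S).map (Over.homMk (V.left.fromSpecResidueField (h.left u)) rfl :
        Over.mk (V.left.fromSpecResidueField (h.left u) ≫ V.hom) ⟶ V) ≫ b))
    obtain ⟨U', p, e, hpe, hps⟩ := exists_fibre_chart h c hce hcs hch (h.left u) _ _
      (IsPullback.of_hasPullback f
      ((yon S).map (Over.homMk (V.left.fromSpecResidueField (h.left u)) rfl :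
        Over.mk (V.left.fromSpecResidueField (h.left u) ≫ V.hom) ⟶ V) ≫ b))
    haveI := chart_fibre_noeth hf a b h hae hbe comm (h.left u)
    haveI : IsLocallyNoetherian U'.left := isLocallyNoetherian_of_isOpenImmersion e.hom
    have hG' := gor_stalk_of_etaleLocally hG p hpe (e.inv (h.left.asFiber u))
    rw [← gor_stalk_iff_of_iso e.symm (h.left.asFiber u)]
    exact hG'
  tfae_finish

end Groth.Agent.H7.GorSp4
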