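import Mathlib

/-! Graded maps `A[1/t] → R[T,T⁻¹]` coming from `A → R[T]` (helper7). -/

set_option autoImplicit false

namespace Groth.Agent.H7.GrLift

open scoped Polynomial LaurentPolynomial

universe u v

variable {R : Type u} {A : Type v} [CommRing R] [CommRing A] [Algebra R A]
  (𝒜 : ℤ → Submodule R A) [GradedAlgebra 𝒜] (t : A) (ht : t ∈ 𝒜 (-1))
  (ψ : Localization.Away t →ₐ[R] R[T;T⁻¹])
  (hψt : ψ (algebraMap A (Localization.Away t) t) = LaurentPolynomial.T 1)
  (hψ : ∀ (n : ℤ) (a : A), a ∈ 𝒜 n →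
    ∃ r : R, ψ (algebraMap A (Localization.Away t) a) =
      LaurentPolynomial.C r * LaurentPolynomial.T (-n))

include ht hψt in
/-- positive degree elements die under the vanishing hypothesis. -/
lemma psi_eq_zero_of_pos
    (h1 : ∀ a ∈ 𝒜 1, ψ (algebraMap A (Localization.Away t) (t * a)) = 0)
    (n : ℤ) (hn : 1 ≤ n) (a : A) (ha : a ∈ 𝒜 n) :
    ψ (algebraMap A (Localization.Away t) a) = 0 := by
  obtain ⟨m, hm⟩ := Int.eq_ofNat_of_zero_le (show 0 ≤ n - 1 by omega)
  have hb : t ^ m * a ∈ 𝒜 1 := by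
    have h2 := SetLike.mul_mem_graded (SetLike.pow_mem_graded m ht) ha
    have h3 : m • (-1 : ℤ) + n = 1 := by
      rw [nsmul_eq_mul]
      omega
    rw [h3] at h2
    exact h2
  have h4 := h1 _ hb
  rw [← mul_assoc, ← pow_succ', map_mul, map_mul, map_pow, map_pow, hψt] at h4
  exact ((LaurentPolynomial.isUnit_T (R := R) 1).pow (m + 1)).mul_right_eq_zero.1 h4

include hψ in
lemma psi_mem_range_of_nonpos (n : ℤ) (hn : n ≤ 0) (a : A) (ha : a ∈ 𝒜 n) :
    ψ (algebraMap A (Localization.Away t) a) ∈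
      (Polynomial.toLaurentAlg : R[X] →ₐ[R] R[T;T⁻¹]).range := by
  obtain ⟨r, hr⟩ := hψ n a ha
  refine ⟨Polynomial.monomial (-n).toNat r, ?_⟩
  rw [hr]
  show Polynomial.toLaurent _ = _
  rw [Polynomial.toLaurent_C_mul_T, Int.toNat_of_nonneg (by omega)]

include ht hψt hψ in
lemma psi_mem_range
    (h1 : ∀ a ∈ 𝒜 1, ψ (algebraMap A (Localization.Away t) (t * a)) = 0) (a : A) :
    ψ (algebraMap A (Localization.Away t) a) ∈
      (Polynomial.toLaurentAlg : R[X] →ₐ[R] R[T;T⁻¹]).range := by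
  classical
  rw [← DirectSum.sum_support_decompose 𝒜 a, map_sum, map_sum]
  apply Subalgebra.sum_mem
  intro i _
  by_cases hi : 1 ≤ i
  · rw [psi_eq_zero_of_pos 𝒜 t ht ψ hψt h1 i hi _ (SetLike.coe_mem _)]
    exact zero_mem _
  · exact psi_mem_range_of_nonpos 𝒜 t ψ hψ i (by omega) _ (SetLike.coe_mem _)

include ht hψt hψ in
theorem main :
    (∃! χ : A →ₐ[R] R[X], ∀ a : A,
        ψ (algebraMap A (Localization.Away t) a) = Polynomial.toLaurentAlg (χ a)) ↔
      ∀ a ∈ 𝒜 1, ψ (algebraMap A (Localization.Away t) (t * a)) = 0 := by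
  have hinj : Function.Injective (Polynomial.toLaurentAlg : R[X] →ₐ[R] R[T;T⁻¹]) := by
    intro p q hpq
    exact Polynomial.toLaurent_injective hpq
  constructor
  · rintro ⟨χ, hχ, -⟩ a ha
    obtain ⟨r, hr⟩ := hψ 1 a ha
    have h2 : ψ (algebraMap A (Localization.Away t) a) = 0 := by
      have h3 := hχ a
      rw [hr] at h3
      have h4 := congrArg LaurentPolynomial.trunc h3
      rw [LaurentPolynomial.trunc_C_mul_T, if_neg (by norm_num), Polynomial.toLaurentAlg_apply,
        Polynomial.trunc_toLaurent] at h4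
      rw [hχ a, ← h4, map_zero]
    rw [map_mul, map_mul, h2, mul_zero]
  · intro h1
    set ψ' : A →ₐ[R] R[T;T⁻¹] := ψ.comp (IsScalarTower.toAlgHom R A (Localization.Away t))
      with hψ'
    have hmem : ∀ a, ψ' a ∈ (Polynomial.toLaurentAlg : R[X] →ₐ[R] R[T;T⁻¹]).range :=
      fun a => psi_mem_range 𝒜 t ht ψ hψt hψ h1 a
    let χ : A →ₐ[R] R[X] :=
      ((AlgEquiv.ofInjective _ hinj).symm : _ →ₐ[R] R[X]).comp (ψ'.codRestrict _ hmem)
    have hχ : ∀ a : A,
        ψ (algebraMap A (Localization.Away t) a) = Polynomial.toLaurentAlg (χ a) := by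
      intro a
      have h5 : (AlgEquiv.ofInjective _ hinj) (χ a) = ψ'.codRestrict _ hmem a :=
        (AlgEquiv.ofInjective _ hinj).apply_symm_apply _
      have h6 := congrArg Subtype.val h5
      rw [AlgEquiv.ofInjective_apply] at h6
      exact h6.symm
    refine ⟨χ, hχ, fun χ' hχ' => ?_⟩
    apply AlgHom.ext
    intro a
    apply hinj
    rw [← hχ a, ← hχ' a]

end Groth.Agent.H7.GrLift
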