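import Groth.Agent.Lib.Helper7.PTors
import Groth.Agent.Lib.Helper5.AlgSp.RefinedDVR
import Mathlib

/-!
# Homogeneity of pointwise étale-local, base-change-local properties on group algebraic spaces
-/

set_option autoImplicit false
universe u

open AlgebraicGeometry CategoryTheory Limits MonoidalCategory CartesianMonoidalCategory MonObj

namespace Groth.Agent.H7.GrpHom

open _root_.AlgSp Groth.Agent.H5.AlgSp Groth.Agent.H1.AlgSpDim

variable {S : Scheme.{u}}

/-- `HasAtMor` and precomposition with an isomorphism. -/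
theorem hasAtMor_iso_comp {Q : ∀ (U V : Scheme.{u}), (U ⟶ V) → ↥U → Prop} {P₁ P₂ Y : Sp S}
    (Ψ : P₁ ⟶ P₂) [IsIso Ψ] (b : P₂ ⟶ Y) (z : Points P₁) :
    HasAtMor Q (Ψ ≫ b) z ↔ HasAtMor Q b (Points.map Ψ z) := by
  constructor
  · rintro ⟨U, V, a, c, h, u, ha, hc, comm, hu, hq⟩
    refine ⟨U, V, a ≫ Ψ, c, h, u, (RepWith @Etale).comp_mem _ _ ha (repWith_of_isIso Ψ), hc, ?_, ?_,
      hq⟩
    · rw [Category.assoc, comm]
    · rw [← hu, Points.map_ofPt]
  · rintro ⟨U, V, a, c, h, u, ha, hc, comm, hu, hq⟩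
    refine ⟨U, V, a ≫ inv Ψ, c, h, u,
      (RepWith @Etale).comp_mem _ _ ha (repWith_of_isIso (inv Ψ)), hc, ?_, ?_, hq⟩
    · rw [Category.assoc, IsIso.inv_hom_id_assoc, comm]
    · have h1 : Points.map (inv Ψ) (Points.ofPt a u) = z := by
        rw [hu, ← Points.map_comp, IsIso.hom_inv_id, Points.map_id]
      rw [← h1, Points.map_ofPt]

/-- the abstract homogeneity lemma. -/
theorem hasAtMor_iff_of_iso_pullbacks {Q : ∀ (U V : Scheme.{u}), (U ⟶ V) → ↥U → Prop}
    (hQ : EtLocal Q) (hQ' : BCLocal Q) {X Y Y' P₁ P₂ : Sp S} (hX : IsAlgSpace X)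
    (hY : IsAlgSpace Y) (hY' : IsAlgSpace Y') (f : X ⟶ Y) (hf : LocP @LocallyOfFiniteType f)
    {g₁ g₂ : Y' ⟶ Y} {a₁ : P₁ ⟶ X} {b₁ : P₁ ⟶ Y'} {a₂ : P₂ ⟶ X} {b₂ : P₂ ⟶ Y'}
    (sq₁ : IsPullback a₁ b₁ f g₁) (sq₂ : IsPullback a₂ b₂ f g₂) (Ψ : P₁ ⟶ P₂) [IsIso Ψ]
    (hΨ : Ψ ≫ b₂ = b₁) (z : Points P₁) :
    HasAtMor Q f (Points.map a₁ z) ↔ HasAtMor Q f (Points.map a₂ (Points.map Ψ z)) := by
  rw [← hasAtMor_base_change hQ hQ' hX hY hY' sq₁ hf z,
    ← hasAtMor_base_change hQ hQ' hX hY hY' sq₂ hf (Points.map Ψ z), ← hΨ]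
  exact hasAtMor_iso_comp Ψ b₂ z

section Group

variable {C : Type*} [Category C] [CartesianMonoidalCategory C]

/-- the shear isomorphism `(x, y) ↦ (x y, y)` of a group object. -/
def shear (G : C) [GrpObj G] : G ⊗ G ≅ G ⊗ G where
  hom := lift μ (snd G G)
  inv := lift (lift (fst G G) (snd G G ≫ ι) ≫ μ) (snd G G)
  hom_inv_id := by
    apply CartesianMonoidalCategory.hom_ext
    · have h1 : lift μ (snd G G) ≫ lift (fst G G) (snd G G ≫ ι) =
          lift (μ : G ⊗ G ⟶ G) (snd G G ≫ ι) := by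
        rw [comp_lift, lift_fst, lift_snd_assoc]
      have h3 : lift (lift (fst G G) (snd G G) ≫ μ) (snd G G ≫ ι) ≫ μ = fst G G := by
        rw [MonObj.lift_lift_assoc, GrpObj.lift_comp_inv_right, MonObj.lift_comp_one_right]
      rw [lift_fst_snd, Category.id_comp] at h3
      rw [Category.assoc, lift_fst, ← Category.assoc, h1, Category.id_comp, h3]
    · simp
  inv_hom_id := by
    apply CartesianMonoidalCategory.hom_ext
    · simp only [Category.assoc, lift_fst, Category.id_comp]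
      rw [MonObj.lift_lift_assoc, GrpObj.lift_comp_inv_left, MonObj.lift_comp_one_right]
    · simp

@[simp] theorem shear_hom_snd (G : C) [GrpObj G] : (shear G).hom ≫ snd G G = snd G G := by
  simp [shear]

@[simp] theorem shear_hom_fst (G : C) [GrpObj G] : (shear G).hom ≫ fst G G = μ := by
  simp [shear]

/-- `(e, g) ↦ (g, g)` under the shear map. -/
theorem lift_unit_shear (G : C) [GrpObj G] :
    lift (toUnit G ≫ η) (𝟙 G) ≫ (shear G).hom = lift (𝟙 G) (𝟙 G) := by
  apply CartesianMonoidalCategory.hom_ext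
  · simp [shear]
  · simp [shear]

end Group

end Groth.Agent.H7.GrpHom

namespace Groth.Agent.H7.GrpHom

open _root_.AlgSp Groth.Agent.H5.AlgSp Groth.Agent.H1.AlgSpDim

variable {S : Scheme.{u}}

/-- **Homogeneity**: on a group algebraic space locally of finite type over `B`, an étale-local
base-change-local pointwise property holds at `g` iff it holds at the unit point of the fibre
through `g`. -/
theorem hasAtMor_unit_iff {Q : ∀ (U V : Scheme.{u}), (U ⟶ V) → ↥U → Prop}
    (hQ : EtLocal Q) (hQ' : BCLocal Q) {B : Sp S} (hB : IsAlgSpace B) (G : Over B) [GrpObj G]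
    (hG : IsAlgSpace G.left) (hlft : LocP @LocallyOfFiniteType G.hom) (g : Points G.left) :
    HasAtMor Q G.hom (Points.map (η[G] : 𝟙_ (Over B) ⟶ G).left (Points.map G.hom g)) ↔
      HasAtMor Q G.hom g := by
  have sq := IsPullback.of_hasPullback G.hom G.hom
  haveI : IsIso (shear G).hom.left :=
    inferInstanceAs (IsIso ((Over.forget B).map (shear G).hom))
  have hΨ : (shear G).hom.left ≫ pullback.snd G.hom G.hom = pullback.snd G.hom G.hom :=
    congrArg CommaMorphism.left (shear_hom_snd G)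
  have hΨ1 : (shear G).hom.left ≫ pullback.fst G.hom G.hom = (μ[G] : G ⊗ G ⟶ G).left :=
    congrArg CommaMorphism.left (shear_hom_fst G)
  have h1 : (lift (toUnit G ≫ η[G]) (𝟙 G)).left ≫ pullback.fst G.hom G.hom =
      G.hom ≫ (η[G] : 𝟙_ (Over B) ⟶ G).left :=
    congrArg CommaMorphism.left (lift_fst (toUnit G ≫ η[G]) (𝟙 G))
  have h2 : (lift (toUnit G ≫ η[G]) (𝟙 G)).left ≫ (shear G).hom.left =
      (lift (𝟙 G) (𝟙 G)).left := congrArg CommaMorphism.left (lift_unit_shear G)
  have h3 : (lift (𝟙 G) (𝟙 G)).left ≫ pullback.fst G.hom G.hom = 𝟙 G.left :=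
    congrArg CommaMorphism.left (lift_fst (𝟙 G) (𝟙 G))
  have key := hasAtMor_iff_of_iso_pullbacks hQ hQ' hG hB hG G.hom hlft sq sq (shear G).hom.left hΨ
    (Points.map (lift (toUnit G ≫ η[G]) (𝟙 G)).left g)
  have e0 : Points.map (pullback.fst G.hom G.hom)
      (Points.map (lift (toUnit G ≫ η[G]) (𝟙 G)).left g) =
      Points.map (η[G] : 𝟙_ (Over B) ⟶ G).left (Points.map G.hom g) := by
    rw [← Points.map_comp, h1, Points.map_comp]
  have e1 : Points.map (pullback.fst G.hom G.hom) (Points.map (shear G).hom.left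
      (Points.map (lift (toUnit G ≫ η[G]) (𝟙 G)).left g)) = g := by
    rw [← Points.map_comp, ← Points.map_comp, ← Category.assoc, h2, h3, Points.map_id]
  rw [e0, e1] at key
  exact key

/-- a space of points over the spectrum of a field is a subsingleton. -/
theorem subsingleton_points_field (k : Type u) [Field k] (str : Spec (CommRingCat.of k) ⟶ S) :
    Subsingleton (Points ((yon S).obj (Over.mk str))) := by
  haveI : Subsingleton ↥(Over.mk str).left := by
    show Subsingleton ↥(Spec (CommRingCat.of k))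
    infer_instance
  exact (Points.schemeHomeo (Over.mk str)).symm.injective.subsingleton

theorem S10136_main (k : Type u) [Field k]
    (G : Over ((AlgSp.yon (Spec (CommRingCat.of k))).obj (Over.mk (𝟙 _)))) [GrpObj G]
    (hG : AlgSp.IsAlgSpace G.left)
    (hlft : AlgSp.LocP @LocallyOfFiniteType G.hom) (g : AlgSp.Points G.left) :
    AlgSp.HasAt (fun V v => FlatMor.localDim ↥V v = AlgSp.dim G.left) G.left g := by
  haveI := subsingleton_points_field k (𝟙 (Spec (CommRingCat.of k)))
  have hB : IsAlgSpace ((AlgSp.yon (Spec (CommRingCat.of k))).obj (Over.mk (𝟙 _))) :=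
    IsAlgSpace.yon_obj _
  obtain ⟨U, a, hae, has⟩ := hG.atlas
  obtain ⟨u, rfl⟩ := ofPt_surjective_of_repWith has g
  -- all points have the same local dimension
  have hall : ∀ g' : Points G.left,
      HasAt (fun V v => FlatMor.localDim ↥V v = FlatMor.localDim ↥U.left u) G.left g' := by
    intro g'
    have h0 : HasAt (fun V v => FlatMor.localDim ↥V v = FlatMor.localDim ↥U.left u) G.left
        (Points.ofPt a u) := ⟨U, a, u, hae, rfl, rfl⟩
    rw [hasAt_localDim_iff_hasAtMor_field (fun e => e = FlatMor.localDim ↥U.left u) G.hom] at h0 ⊢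
    have hQ := etLocal_fibreDimAt_pred (fun e => e = FlatMor.localDim ↥U.left u)
    have hQ' := bcLocal_fibreDimAt_pred (fun e => e = FlatMor.localDim ↥U.left u)
    rw [← hasAtMor_unit_iff hQ hQ' hB G hG hlft] at h0 ⊢
    rwa [Subsingleton.elim (Points.map G.hom g') (Points.map G.hom (Points.ofPt a u))]
  have hdim : AlgSp.dim G.left = FlatMor.localDim ↥U.left u := by
    apply le_antisymm
    · rw [dim_le_iff hG]
      intro z
      obtain ⟨V, c, v, hc, hv, hq⟩ := hall z
      exact ⟨V, c, v, hc, hv, hq.le⟩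
    · refine (Groth.Agent.H3.TopDim.localDim_le_dim u).trans ?_
      unfold AlgSp.dim
      exact le_iSup_of_le U (le_iSup_of_le a (le_iSup_of_le hae le_rfl))
  rw [hdim]
  exact hall _

end Groth.Agent.H7.GrpHom
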