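import Groth.Agent.Lib.Helper7.GrpHom
import Groth.Agent.Lib.Helper7.FinDense
import Groth.Agent.Lib.Helper7.FibDimSC
import Mathlib

/-!
# S10144: the largest open over which a group algebraic space is locally quasi-finite
-/

set_option autoImplicit false
universe u

open AlgebraicGeometry CategoryTheory Limits MonoidalCategory CartesianMonoidalCategory MonObj

namespace Groth.Agent.H7.GrpHom

open _root_.AlgSp Groth.Agent.H5.AlgSp Groth.Agent.H1.AlgSpDim Groth.Agent.H7.FinDense
open Groth.Agent.H3.QFinFibre (QF FD0 hasAtMor_QF_iff)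

variable {S : Scheme.{u}}

/-- the set of points of the base over which the unit point of the fibre has relative dimension
at most zero. -/
def unitQFSet {B : Sp S} (G : Over B) [GrpObj G] : Set (Points B) :=
  {b | HasAtMor FD0 G.hom (Points.map (η[G] : 𝟙_ (Over B) ⟶ G).left b)}

theorem isOpen_unitQFSet {B : Sp S} (G : Over B) [GrpObj G]
    (hlft : LocP @LocallyOfFiniteType G.hom) : IsOpen (unitQFSet G) :=
  (Groth.Agent.H7.FibDimSC.isOpen_hasAtMor_FD G.hom hlft 0).preimage (Points.continuous_map _)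

/-- the base change of a group space along `h : T ⟶ B` is locally quasi-finite iff `h` lands in
`unitQFSet`. -/
theorem lqf_iff_forall_unit {B : Sp S} (hB : IsAlgSpace B) (G : Over B) [GrpObj G]
    (hG : IsAlgSpace G.left) (hlft : LocP @LocallyOfFiniteType G.hom) {T P : Sp S}
    (hT : IsAlgSpace T) (h : T ⟶ B) {a : P ⟶ G.left} {b : P ⟶ T}
    (sq : IsPullback a b G.hom h) :
    LocP ((@LocallyQuasiFinite : MorphismProperty Scheme.{u}) ⊓ @LocallyOfFiniteType) b ↔
      ∀ t : Points T, Points.map h t ∈ unitQFSet G := by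
  have hP : IsAlgSpace P := isAlgSpace_pullback hB.diag hG hT sq
  have hlft' : LocP @LocallyOfFiniteType b :=
    locP_of_isPullback Groth.Agent.H5.AlgSp.etale_le_lft sq hG hB hT hlft
  have hQ := etLocal_fibreDimAt_pred (fun e => e ≤ ((0 : ℕ) : WithBot ℕ∞))
  have hQ' := bcLocal_fibreDimAt_pred (fun e => e ≤ ((0 : ℕ) : WithBot ℕ∞))
  constructor
  · intro hl t
    have hη : (η[G] : 𝟙_ (Over B) ⟶ G).left ≫ G.hom = 𝟙 B := Over.w (η[G] : 𝟙_ (Over B) ⟶ G)
    have hcomp : Points.map G.hom (Points.map (η[G] : 𝟙_ (Over B) ⟶ G).left (Points.map h t)) =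
        Points.map h t := by
      have := Points.map_comp (η[G] : 𝟙_ (Over B) ⟶ G).left G.hom (Points.map h t)
      rw [← this, hη]
      exact Points.map_id (F := B) _
    obtain ⟨z, hz1, hz2⟩ := points_pullback_surjective sq _ t hcomp
    have h1 : HasAtMor FD0 b z := hasAtMor_FD0_of_lqf hP hT b hl z
    rw [hasAtMor_base_change hQ hQ' hG hB hT sq hlft z, hz1] at h1
    exact h1
  · intro hall
    apply lqf_of_forall_hasAtMor_FD0 hP hT b hlft'
    intro z
    rw [hasAtMor_base_change hQ hQ' hG hB hT sq hlft z,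
      ← hasAtMor_unit_iff hQ hQ' hB G hG hlft]
    have e : Points.map G.hom (Points.map a z) = Points.map h (Points.map b z) := by
      rw [← Points.map_comp, ← Points.map_comp, sq.w]
    rw [e]
    exact hall _

theorem S10144_main (S : Scheme.{u}) (B : AlgSp.Sp S) (hB : AlgSp.IsAlgSpace B)
    (G : Over B) [GrpObj G] (hG : AlgSp.IsAlgSpace G.left)
    (hlft : AlgSp.LocP @LocallyOfFiniteType G.hom) :
    ∃ (W : AlgSp.Sp S) (w : W ⟶ B), AlgSp.RepWith @IsOpenImmersion w ∧
      (∀ (W' : AlgSp.Sp S) (w' : W' ⟶ B), AlgSp.RepWith @IsOpenImmersion w' →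
        (AlgSp.LocP (@LocallyQuasiFinite ⊓ @LocallyOfFiniteType) (pullback.snd G.hom w') ↔
          ∃ k : W' ⟶ W, k ≫ w = w')) ∧
      (∀ (B' : AlgSp.Sp S), AlgSp.IsAlgSpace B' → ∀ (f : B' ⟶ B) (W'' : AlgSp.Sp S)
        (w'' : W'' ⟶ B'), AlgSp.RepWith @IsOpenImmersion w'' →
        (AlgSp.LocP (@LocallyQuasiFinite ⊓ @LocallyOfFiniteType)
            (pullback.snd (pullback.snd G.hom f) w'') ↔
          ∃ k : W'' ⟶ pullback w f, k ≫ pullback.snd w f = w'')) := by
  have hopen := isOpen_unitQFSet G hlft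
  have hfac : ∀ {T : Sp S} (h : T ⟶ B),
      (∃ k : T ⟶ openSub B (unitQFSet G), k ≫ openSubι B (unitQFSet G) = h) ↔
        ∀ t : Points T, Points.map h t ∈ unitQFSet G := by
    intro T h
    rw [factors_through_open_iff _ (repWith_openSubι hopen) h, range_points_map_openSubι]
    constructor
    · intro h' t; exact h' ⟨t, rfl⟩
    · rintro h' _ ⟨t, rfl⟩; exact h' t
  refine ⟨openSub B (unitQFSet G), openSubι B (unitQFSet G), repWith_openSubι hopen, ?_, ?_⟩
  · intro W' w' hw'
    have hW' : IsAlgSpace W' := isAlgSpace_of_representable hB w' hw'.rep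
    rw [lqf_iff_forall_unit hB G hG hlft hW' w' (IsPullback.of_hasPullback G.hom w'), hfac]
  · intro B' hB' f W'' w'' hw''
    have hW'' : IsAlgSpace W'' := isAlgSpace_of_representable hB' w'' hw''.rep
    have sq : IsPullback (pullback.fst (pullback.snd G.hom f) w'' ≫ pullback.fst G.hom f)
        (pullback.snd (pullback.snd G.hom f) w'') G.hom (w'' ≫ f) :=
      (IsPullback.of_hasPullback (pullback.snd G.hom f) w'').paste_horiz
        (IsPullback.of_hasPullback G.hom f)
    rw [lqf_iff_forall_unit hB G hG hlft hW'' (w'' ≫ f) sq, ← hfac]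
    constructor
    · rintro ⟨k, hk⟩
      exact ⟨pullback.lift k w'' hk, pullback.lift_snd _ _ _⟩
    · rintro ⟨k, hk⟩
      refine ⟨k ≫ pullback.fst _ _, ?_⟩
      rw [Category.assoc, pullback.condition, ← Category.assoc, hk]

end Groth.Agent.H7.GrpHom
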