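import Groth.Agent.Lib.Helper7.QFin2
import Mathlib

/-!
# Étale localization of quasi-finite morphisms: prescribed finite part of a fibre (schemes)
-/

set_option autoImplicit false
universe u

open AlgebraicGeometry CategoryTheory Limits TopologicalSpace

namespace Groth.Agent.H7.QFin

/-- Points of a fibre of a quasi-compact morphism locally of finite type lying in an open on which
the morphism is locally quasi-finite are finite in number. -/
theorem finite_fibre_inter_open {W V : Scheme.{u}} (h : W ⟶ V) [QuasiCompact h]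
    [LocallyOfFiniteType h] (W' : W.Opens) [LocallyQuasiFinite (W'.ι ≫ h)] (v : V) :
    {w : W | w ∈ W' ∧ h w = v}.Finite := by
  have hN : NoetherianSpace (h.fiber v) := by
    have h1 : IsLocallyNoetherian (h.fiber v) := by
      unfold Scheme.Hom.fiber
      infer_instance
    have : IsNoetherian (h.fiber v) := { }
    infer_instance
  have hN' : NoetherianSpace (h ⁻¹' {v}) := (noetherianSpace_iff_of_homeomorph (h.fiberHomeo v)).1 hN
  have hsub : {w : W | w ∈ W' ∧ h w = v} ⊆ h ⁻¹' {v} := fun w hw => hw.2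
  have hc : IsCompact {w : W | w ∈ W' ∧ h w = v} := (noetherianSpace_set_iff _).1 hN' _ hsub
  have hd : _root_.IsDiscrete {w : W | w ∈ W' ∧ h w = v} := by
    have h1 := ((W'.ι ≫ h).isDiscrete_preimage_singleton v).image
      W'.ι.isEmbedding.toIsInducing
    refine h1.mono ?_
    rintro w ⟨hw1, hw2⟩
    exact ⟨⟨w, hw1⟩, by simpa [Scheme.Hom.comp_apply] using hw2, rfl⟩
  exact hc.finite hd

/-- A finite part of a fibre of a locally quasi-finite morphism has a quasi-compact open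
neighbourhood meeting the fibre only in that part. -/
theorem exists_compact_open_fibre {Z V : Scheme.{u}} (k : Z ⟶ V) [LocallyQuasiFinite k] (v : V)
    (F : Set Z) (hF : F.Finite) (hFv : ∀ z ∈ F, k z = v) :
    ∃ Z' : Z.Opens, IsCompact (Z' : Set Z) ∧ F ⊆ Z' ∧ ∀ z ∈ Z', k z = v → z ∈ F := by
  have hd := k.isDiscrete_preimage_singleton v
  rw [isDiscrete_iff_forall_mem_exists_isOpen] at hd
  have key : ∀ z : F, ∃ A : Z.Opens, IsAffineOpen A ∧ (z : Z) ∈ A ∧
      ∀ z' ∈ A, k z' = v → z' = z := by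
    intro z
    obtain ⟨O, hO, hOz⟩ := hd z (hFv z z.2)
    have hzO : (z : Z) ∈ O := by
      have : (z : Z) ∈ O ∩ k ⁻¹' {v} := by rw [hOz]; rfl
      exact this.1
    obtain ⟨_, ⟨A, hA, rfl⟩, hzA, hAO⟩ :=
      Z.isBasis_affineOpens.exists_subset_of_mem_open hzO hO
    refine ⟨A, hA, hzA, fun z' hz' hz'v => ?_⟩
    have : z' ∈ O ∩ k ⁻¹' {v} := ⟨hAO hz', hz'v⟩
    rw [hOz] at this
    exact this
  choose A hA hzA hAF using key
  haveI : Finite F := hF
  refine ⟨⨆ z : F, A z, ?_, ?_, ?_⟩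
  · rw [TopologicalSpace.Opens.coe_iSup]
    exact isCompact_iUnion fun z => (hA z).isCompact
  · intro z hz
    exact TopologicalSpace.Opens.mem_iSup.2 ⟨⟨z, hz⟩, hzA ⟨z, hz⟩⟩
  · intro z hz hzv
    obtain ⟨z₀, hz₀⟩ := TopologicalSpace.Opens.mem_iSup.1 hz
    rw [hAF z₀ z hz₀ hzv]
    exact z₀.2

/-- surjectivity of a binary `coprod.desc`. -/
theorem surjective_coprodDesc {A B X : Scheme.{u}} (f : A ⟶ X) (g : B ⟶ X)
    (h : Set.range f ∪ Set.range g = Set.univ) : Surjective (coprod.desc f g) := by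
  refine ⟨fun x => ?_⟩
  have hx : x ∈ Set.range f ∪ Set.range g := by rw [h]; trivial
  rcases hx with ⟨a, rfl⟩ | ⟨b, rfl⟩
  · exact ⟨(coprod.inl : A ⟶ A ⨿ B) a, by rw [← Scheme.Hom.comp_apply, coprod.inl_desc]⟩
  · exact ⟨(coprod.inr : B ⟶ A ⨿ B) b, by rw [← Scheme.Hom.comp_apply, coprod.inr_desc]⟩

/-- the union of two opens finite over the base is finite over the base. -/
theorem isFinite_sup {P V' : Scheme.{u}} (snd : P ⟶ V') [IsSeparated snd]
    [LocallyOfFiniteType snd] [LocallyQuasiFinite snd] (A B : P.Opens)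
    (hA : IsFinite (A.ι ≫ snd)) (hB : IsFinite (B.ι ≫ snd)) : IsFinite ((A ⊔ B).ι ≫ snd) := by
  let ιA : A.toScheme ⟶ (A ⊔ B).toScheme := P.homOfLE le_sup_left
  let ιB : B.toScheme ⟶ (A ⊔ B).toScheme := P.homOfLE le_sup_right
  have hc : coprod.desc ιA ιB ≫ (A ⊔ B).ι ≫ snd = coprod.desc (A.ι ≫ snd) (B.ι ≫ snd) := by
    apply coprod.hom_ext
    · rw [coprod.inl_desc_assoc, coprod.inl_desc, ← Category.assoc, Scheme.homOfLE_ι]
    · rw [coprod.inr_desc_assoc, coprod.inr_desc, ← Category.assoc, Scheme.homOfLE_ι]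
  haveI : Surjective (coprod.desc ιA ιB) := by
    apply surjective_coprodDesc
    apply Set.eq_univ_of_forall
    rintro ⟨x, hx⟩
    rcases TopologicalSpace.Opens.mem_sup.1 hx with h | h
    · left
      refine ⟨⟨x, h⟩, ?_⟩
      apply (A ⊔ B).ι.injective
      rw [← Scheme.Hom.comp_apply, Scheme.homOfLE_ι]
      rfl
    · right
      refine ⟨⟨x, h⟩, ?_⟩
      apply (A ⊔ B).ι.injective
      rw [← Scheme.Hom.comp_apply, Scheme.homOfLE_ι]
      rfl
  haveI : UniversallyClosed (coprod.desc ιA ιB ≫ (A ⊔ B).ι ≫ snd) := by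
    rw [hc]
    infer_instance
  haveI : UniversallyClosed ((A ⊔ B).ι ≫ snd) :=
    UniversallyClosed.of_comp_surjective (coprod.desc ιA ιB) _
  haveI : IsProper ((A ⊔ B).ι ≫ snd) := { }
  exact IsFinite.of_isProper_of_locallyQuasiFinite _

/-- a finite union of opens finite over the base is finite over the base. -/
theorem isFinite_list_sup {P V' : Scheme.{u}} (snd : P ⟶ V') [IsSeparated snd]
    [LocallyOfFiniteType snd] [LocallyQuasiFinite snd] (L : List P.Opens)
    (hL : ∀ A ∈ L, IsFinite (A.ι ≫ snd)) : IsFinite ((L.foldr (· ⊔ ·) ⊥).ι ≫ snd) := by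
  induction L with
  | nil =>
    simp only [List.foldr_nil]
    haveI : IsEmpty ((⊥ : P.Opens) : Scheme.{u}) := ⟨fun x => x.2⟩
    haveI : IsClosedImmersion ((⊥ : P.Opens).ι ≫ snd) := inferInstance
    infer_instance
  | cons A L ih =>
    simp only [List.foldr_cons]
    exact isFinite_sup snd A _ (hL A (List.mem_cons_self ..))
      (ih fun B hB => hL B (List.mem_cons_of_mem _ hB))

theorem mem_list_sup {P : Scheme.{u}} (L : List P.Opens) (x : P) :
    x ∈ L.foldr (· ⊔ ·) ⊥ ↔ ∃ A ∈ L, x ∈ A := by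
  induction L with
  | nil => simp
  | cons A L ih =>
    simp only [List.foldr_cons, List.mem_cons, exists_eq_or_imp]
    rw [← ih]
    exact TopologicalSpace.Opens.mem_sup

/-- **Étale localization of quasi-finite separated morphisms, prescribed finite part of the
fibre**: after an étale base change the base change splits off an open, finite over the base,
whose points over the marked point are exactly those lying over the prescribed finite set. -/
theorem exists_split_finite_part {Z V : Scheme.{u}} (k : Z ⟶ V) [IsAffine V] [IsSeparated k]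
    [LocallyOfFiniteType k] [LocallyQuasiFinite k] (v : V) (F : Set Z) (hF : F.Finite)
    (hFv : ∀ z ∈ F, k z = v) :
    ∃ (V' : Scheme.{u}) (j : V' ⟶ V) (v' : V'), Etale j ∧ j v' = v ∧
      ∃ A : (pullback k j).Opens, IsFinite (A.ι ≫ pullback.snd k j) ∧
        ∀ ζ : ↥(pullback k j), pullback.snd k j ζ = v' →
          (ζ ∈ A ↔ pullback.fst k j ζ ∈ F) := by
  obtain ⟨Z', hZ'c, hFZ', hZ'F⟩ := exists_compact_open_fibre k v F hF hFv
  haveI : CompactSpace Z'.toScheme := isCompact_iff_compactSpace.1 hZ'c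
  haveI : QuasiCompact (Z'.ι ≫ k) := (quasiCompact_iff_compactSpace _).2 inferInstance
  obtain ⟨V', j, v', hj, hjv, hgood⟩ := exists_good_nbhd (Z'.ι ≫ k) v
  have sq1 := isPullback_morphismRestrict (pullback.fst k j) Z'
  have sq := sq1.paste_vert (IsPullback.of_hasPullback k j)
  obtain ⟨L, hL, hcov⟩ := hgood.of_isPullback sq
  refine ⟨V', j, v', hj, hjv, ((pullback.fst k j) ⁻¹ᵁ Z').ι ''ᵁ (L.foldr (· ⊔ ·) ⊥), ?_, ?_⟩
  · have h1 : IsFinite ((L.foldr (· ⊔ ·) ⊥).ι ≫ ((pullback.fst k j) ⁻¹ᵁ Z').ι ≫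
        pullback.snd k j) := isFinite_list_sup _ L fun A hA => (hL A hA).2
    have h2 : ((((pullback.fst k j) ⁻¹ᵁ Z').ι ''ᵁ (L.foldr (· ⊔ ·) ⊥)).ι ≫ pullback.snd k j) =
        (((pullback.fst k j) ⁻¹ᵁ Z').ι.isoImage (L.foldr (· ⊔ ·) ⊥)).inv ≫
          (L.foldr (· ⊔ ·) ⊥).ι ≫ ((pullback.fst k j) ⁻¹ᵁ Z').ι ≫ pullback.snd k j := by
      rw [Scheme.Hom.isoImage_inv_ι_assoc]
    rw [h2]
    infer_instance
  · intro ζ hζ
    have hkζ : k (pullback.fst k j ζ) = v := by
      rw [← Scheme.Hom.comp_apply, pullback.condition, Scheme.Hom.comp_apply, hζ, hjv]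
    constructor
    · rintro ⟨α, hα, rfl⟩
      exact hZ'F _ α.2 hkζ
    · intro hζF
      have hζZ : ζ ∈ (pullback.fst k j) ⁻¹ᵁ Z' := hFZ' hζF
      obtain ⟨A, hA, hαA⟩ := hcov ⟨ζ, hζZ⟩ (by
        rw [Scheme.Hom.comp_apply]
        exact hζ)
      exact ⟨⟨ζ, hζZ⟩, (mem_list_sup L _).2 ⟨A, hA, hαA⟩, rfl⟩

end Groth.Agent.H7.QFin
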