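import Groth.Agent.Lib.Helper7.QFin15
import Groth.Agent.Lib.Helper7.QFin16
import Mathlib

/-!
# The quasi-finite locus of a morphism of algebraic spaces
-/

set_option autoImplicit false
universe u

open AlgebraicGeometry CategoryTheory Limits

namespace Groth.Agent.H7.QFinSp

open _root_.AlgSp Groth.Agent.H5.AlgSp Groth.Agent.H5.EtSrc Groth.Agent.H5.Descent
open Groth.Agent.H7.QFin

variable {S : Scheme.{u}}

/-- the quasi-finite locus. -/
def qfSet {X Y : Sp S} (f : X ⟶ Y) : Set (Points X) :=
  {x | HasAtMor (fun U _ h u => ∃ W : U.Opens, u ∈ W ∧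
    (@LocallyQuasiFinite ⊓ @LocallyOfFiniteType : MorphismProperty Scheme.{u}) (W.ι ≫ h)) f x}

theorem isOpen_qfSet {X Y : Sp S} (hX : IsAlgSpace X) (hY : IsAlgSpace Y) (f : X ⟶ Y) :
    IsOpen (qfSet f) := by
  rw [isOpen_iff_forall_mem_open]
  intro x hx
  obtain ⟨F', j', hF', hj', hx', hloc⟩ :=
    (hasAtMor_iff_exists_open etale_le_lqf_lft hX hY x).1 hx
  refine ⟨Set.range (Points.map j'), ?_, isOpen_range_points_map_of_openImm hj', hx'⟩
  intro x'' hx''
  exact (hasAtMor_iff_exists_open etale_le_lqf_lft hX hY x'').2 ⟨F', j', hF', hj', hx'', hloc⟩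

/-- the restriction of `f` to its quasi-finite locus is locally quasi-finite. -/
theorem locP_qfLocus {X Y : Sp S} (hX : IsAlgSpace X) (hY : IsAlgSpace Y) (f : X ⟶ Y) :
    LocP (@LocallyQuasiFinite ⊓ @LocallyOfFiniteType) (openSubι X (qfSet f) ≫ f) := by
  have hΩ := isOpen_qfSet hX hY f
  have hX' : IsAlgSpace (openSub X (qfSet f)) := isAlgSpace_openSub hX hΩ
  have hι : RepWith @IsOpenImmersion (openSubι X (qfSet f)) := repWith_openSubι hΩ
  rw [locP_iff_forall_hasAtMor etale_le_lqf_lft hX' hY]
  intro z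
  have hx : Points.map (openSubι X (qfSet f)) z ∈ qfSet f := by
    have : Points.map (openSubι X (qfSet f)) z ∈
        Set.range (Points.map (openSubι X (qfSet f))) := ⟨z, rfl⟩
    rwa [range_points_map_openSubι] at this
  obtain ⟨F', j', hF', hj', ⟨x', hx'⟩, hloc⟩ :=
    (hasAtMor_iff_exists_open etale_le_lqf_lft hX hY _).1 hx
  have sq' := IsPullback.of_hasPullback j' (openSubι X (qfSet f))
  have hF'' : IsAlgSpace (pullback j' (openSubι X (qfSet f))) :=
    isAlgSpace_pullback hX.diag hF' hX' sq'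
  have hj'' : RepWith @IsOpenImmersion (pullback.snd j' (openSubι X (qfSet f))) :=
    MorphismProperty.of_isPullback (P := RepWith @IsOpenImmersion) sq' hj'
  have hfst'' : RepWith @Etale (pullback.fst j' (openSubι X (qfSet f))) :=
    repWith_mono openImm_le_etale
      (MorphismProperty.of_isPullback (P := RepWith @IsOpenImmersion) sq'.flip hι)
  obtain ⟨z'', -, hz''⟩ := points_pullback_surjective sq' x' z hx'
  refine (hasAtMor_iff_exists_open etale_le_lqf_lft hX' hY z).2
    ⟨pullback j' (openSubι X (qfSet f)), pullback.snd j' (openSubι X (qfSet f)), hF'', hj'',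
      ⟨z'', hz''⟩, ?_⟩
  have : pullback.snd j' (openSubι X (qfSet f)) ≫ openSubι X (qfSet f) ≫ f =
      pullback.fst j' (openSubι X (qfSet f)) ≫ j' ≫ f := by
    rw [← Category.assoc, ← pullback.condition, Category.assoc]
  rw [this]
  exact locP_comp_etale hfst'' hloc

/-- the restriction of a separated morphism to its quasi-finite locus is representable. -/
theorem representable_qfLocus {X Y : Sp S} (hX : IsAlgSpace X) (hY : IsAlgSpace Y) (f : X ⟶ Y)
    (hsep : IsSeparatedMor f) : Representable (openSubι X (qfSet f) ≫ f) := by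
  have hΩ := isOpen_qfSet hX hY f
  have hX' : IsAlgSpace (openSub X (qfSet f)) := isAlgSpace_openSub hX hΩ
  have hι : RepWith @IsOpenImmersion (openSubι X (qfSet f)) := repWith_openSubι hΩ
  haveI : Mono (openSubι X (qfSet f)) := Groth.Agent.H3.AlgSpCov.mono_of_isOpenImmersion hι
  exact representable_of_sepLQF hX' hY _ (isSeparatedMor_comp (isSeparatedMor_of_mono _) hsep)
    (locP_qfLocus hX hY f)

end Groth.Agent.H7.QFinSp
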