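import Groth.Agent.Lib.Helper7.GrpHom2
import Groth.Agent.Lib.Helper7.QFin17
import Groth.Agent.Lib.Helper5.DF.DF9
import Mathlib

/-!
# S10143: the largest open over which a group algebraic space is unramified

We prove a generic statement for a class `P` of morphisms whose "neighbourhood" predicate is
étale-local and base-change-local, and apply it to `P = lft ⊓ unramified`.
-/

set_option autoImplicit false
universe u

open AlgebraicGeometry CategoryTheory Limits MonoidalCategory CartesianMonoidalCategory MonObj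

namespace Groth.Agent.H7.GrpHom

open _root_.AlgSp Groth.Agent.H5.AlgSp Groth.Agent.H1.AlgSpDim Groth.Agent.H5.EtSrc

variable {S : Scheme.{u}}

/-- the neighbourhood predicate attached to a class of morphisms. -/
abbrev NB (P : MorphismProperty Scheme.{u}) : ∀ (U V : Scheme.{u}), (U ⟶ V) → ↥U → Prop :=
  fun U _ h u => ∃ W : U.Opens, u ∈ W ∧ P (W.ι ≫ h)

/-- the class of unramified morphisms (locally of finite type and formally unramified). -/
abbrev UNR : MorphismProperty Scheme.{u} := @LocallyOfFiniteType ⊓ @FormallyUnramified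

theorem etale_le_unr : (@Etale : MorphismProperty Scheme.{u}) ≤ UNR :=
  fun _ _ g (_ : Etale g) =>
    ⟨(inferInstance : LocallyOfFiniteType g), (inferInstance : FormallyUnramified g)⟩

theorem etLocal_NB_unr : EtLocal (NB UNR.{u}) := by
  intro U V U'' V'' h h'' p q hp hq comm hh hh'' r
  constructor
  · rintro ⟨W'', hr, hW''⟩
    have h1 : UNR ((W''.ι ≫ h'') ≫ q) := UNR.comp_mem _ _ hW'' (etale_le_unr _ _ _ hq)
    have h2 : UNR ((W''.ι ≫ p) ≫ h) := by
      rw [Category.assoc, ← comm, ← Category.assoc]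
      exact h1
    haveI : Etale (W''.ι ≫ p) := inferInstance
    obtain ⟨N, hN, hPN⟩ := of_etale_range (P := UNR) (W''.ι ≫ p) h h2
    refine ⟨N, ?_, hPN⟩
    change p r ∈ (N : Set _)
    rw [hN]
    exact ⟨⟨r, hr⟩, rfl⟩
  · rintro ⟨W, hr, hW⟩
    refine ⟨p ⁻¹ᵁ W, hr, ?_⟩
    haveI : Etale (p ∣_ W) := inferInstance
    have h1 : UNR ((p ∣_ W) ≫ W.ι ≫ h) :=
      UNR.comp_mem _ _ (etale_le_unr _ _ _ (inferInstance : Etale (p ∣_ W))) hW
    have h2 : ((p ⁻¹ᵁ W).ι ≫ h'') ≫ q = (p ∣_ W) ≫ W.ι ≫ h := by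
      rw [Category.assoc, comm, ← Category.assoc, ← Category.assoc, morphismRestrict_ι]
    rw [← h2] at h1
    haveI := h1.1
    haveI := h1.2
    exact ⟨locallyOfFiniteType_of_comp _ q, FormallyUnramified.of_comp _ q⟩

theorem bcLocal_NB_unr : BCLocal (NB UNR.{u}) := by
  intro U V U' V' h k k' h' sq hh r
  haveI := hh
  haveI : LocallyOfFiniteType h' := MorphismProperty.of_isPullback (P := @LocallyOfFiniteType) sq hh
  have key : ∀ {A B : Scheme.{u}} (g : A ⟶ B) [LocallyOfFiniteType g] (a : A),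
      NB UNR _ _ g a ↔ (g.stalkMap a).hom.FormallyUnramified := by
    intro A B g _ a
    rw [← H5.LL.exists_unramified_nhd_iff]
    constructor
    · rintro ⟨W, ha, hW⟩; exact ⟨W, ha, hW.2⟩
    · rintro ⟨W, ha, hW⟩; exact ⟨W, ha, inferInstance, hW⟩
  rw [key h' r, key h (k' r)]
  exact H5.DF.formallyUnramified_stalkMap_iff_of_isPullback sq r

section Generic

variable {P : MorphismProperty Scheme.{u}} [P.IsStableUnderBaseChange]
  [P.IsStableUnderComposition] [IsEtaleLocalSource P] [IsZariskiLocalAtSource P]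

/-- the locus of points where `f` has `P` in the neighbourhood sense is open. -/
theorem isOpen_nbSet (hP : (@Etale : MorphismProperty Scheme.{u}) ≤ P) {X Y : Sp S}
    (hX : IsAlgSpace X) (hY : IsAlgSpace Y) (f : X ⟶ Y) :
    IsOpen {x : Points X | HasAtMor (NB P) f x} := by
  rw [isOpen_iff_forall_mem_open]
  intro x hx
  obtain ⟨F', j', hF', hj', hx', hloc⟩ := (hasAtMor_iff_exists_open hP hX hY x).1 hx
  refine ⟨Set.range (Points.map j'), ?_,
    Groth.Agent.H7.QFinSp.isOpen_range_points_map_of_openImm hj', hx'⟩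
  intro x'' hx''
  exact (hasAtMor_iff_exists_open hP hX hY x'').2 ⟨F', j', hF', hj', hx'', hloc⟩

/-- the set of points of the base at whose unit point the group space has `P`. -/
def unitSet (P : MorphismProperty Scheme.{u}) {B : Sp S} (G : Over B) [GrpObj G] :
    Set (Points B) :=
  {b | HasAtMor (NB P) G.hom (Points.map (η[G] : 𝟙_ (Over B) ⟶ G).left b)}

theorem isOpen_unitSet (hP : (@Etale : MorphismProperty Scheme.{u}) ≤ P) {B : Sp S}
    (hB : IsAlgSpace B) (G : Over B) [GrpObj G] (hG : IsAlgSpace G.left) :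
    IsOpen (unitSet P G) :=
  (isOpen_nbSet hP hG hB G.hom).preimage (Points.continuous_map _)

theorem locP_iff_forall_unitSet (hP : (@Etale : MorphismProperty Scheme.{u}) ≤ P)
    (hQ : EtLocal (NB P)) (hQ' : BCLocal (NB P))
    {B : Sp S} (hB : IsAlgSpace B) (G : Over B) [GrpObj G]
    (hG : IsAlgSpace G.left) (hlft : LocP @LocallyOfFiniteType G.hom) {T E : Sp S}
    (hT : IsAlgSpace T) (h : T ⟶ B) {a : E ⟶ G.left} {b : E ⟶ T}
    (sq : IsPullback a b G.hom h) :
    LocP P b ↔ ∀ t : Points T, Points.map h t ∈ unitSet P G := by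
  have hE : IsAlgSpace E := isAlgSpace_pullback hB.diag hG hT sq
  rw [locP_iff_forall_hasAtMor hP hE hT]
  constructor
  · intro hl t
    have hη : (η[G] : 𝟙_ (Over B) ⟶ G).left ≫ G.hom = 𝟙 B := Over.w (η[G] : 𝟙_ (Over B) ⟶ G)
    have hcomp : Points.map G.hom (Points.map (η[G] : 𝟙_ (Over B) ⟶ G).left (Points.map h t)) =
        Points.map h t := by
      have := Points.map_comp (η[G] : 𝟙_ (Over B) ⟶ G).left G.hom (Points.map h t)
      rw [← this, hη]
      exact Points.map_id (F := B) _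
    obtain ⟨z, hz1, hz2⟩ := points_pullback_surjective sq _ t hcomp
    have h1 : HasAtMor (NB P) b z := hl z
    rw [hasAtMor_base_change hQ hQ' hG hB hT sq hlft z, hz1] at h1
    exact h1
  · intro hall z
    rw [hasAtMor_base_change hQ hQ' hG hB hT sq hlft z,
      ← hasAtMor_unit_iff hQ hQ' hB G hG hlft]
    have e : Points.map G.hom (Points.map a z) = Points.map h (Points.map b z) := by
      rw [← Points.map_comp, ← Points.map_comp, sq.w]
    rw [e]
    exact hall _

theorem largest_open_generic (hP : (@Etale : MorphismProperty Scheme.{u}) ≤ P)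
    (hQ : EtLocal (NB P)) (hQ' : BCLocal (NB P))
    (B : AlgSp.Sp S) (hB : AlgSp.IsAlgSpace B)
    (G : Over B) [GrpObj G] (hG : AlgSp.IsAlgSpace G.left)
    (hlft : AlgSp.LocP @LocallyOfFiniteType G.hom) :
    ∃ (W : AlgSp.Sp S) (w : W ⟶ B), AlgSp.RepWith @IsOpenImmersion w ∧
      (∀ (W' : AlgSp.Sp S) (w' : W' ⟶ B), AlgSp.RepWith @IsOpenImmersion w' →
        (AlgSp.LocP P (pullback.snd G.hom w') ↔ ∃ k : W' ⟶ W, k ≫ w = w')) ∧
      (∀ (B' : AlgSp.Sp S), AlgSp.IsAlgSpace B' → ∀ (f : B' ⟶ B) (W'' : AlgSp.Sp S)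
        (w'' : W'' ⟶ B'), AlgSp.RepWith @IsOpenImmersion w'' →
        (AlgSp.LocP P (pullback.snd (pullback.snd G.hom f) w'') ↔
          ∃ k : W'' ⟶ pullback w f, k ≫ pullback.snd w f = w'')) := by
  have hopen := isOpen_unitSet hP hB G hG
  have hfac : ∀ {T : Sp S} (h : T ⟶ B),
      (∃ k : T ⟶ openSub B (unitSet P G), k ≫ openSubι B (unitSet P G) = h) ↔
        ∀ t : Points T, Points.map h t ∈ unitSet P G := by
    intro T h
    rw [factors_through_open_iff _ (repWith_openSubι hopen) h, range_points_map_openSubι]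
    constructor
    · intro h' t; exact h' ⟨t, rfl⟩
    · rintro h' _ ⟨t, rfl⟩; exact h' t
  refine ⟨openSub B (unitSet P G), openSubι B (unitSet P G), repWith_openSubι hopen, ?_, ?_⟩
  · intro W' w' hw'
    have hW' : IsAlgSpace W' := isAlgSpace_of_representable hB w' hw'.rep
    rw [locP_iff_forall_unitSet hP hQ hQ' hB G hG hlft hW' w'
      (IsPullback.of_hasPullback G.hom w'), hfac]
  · intro B' hB' f W'' w'' hw''
    have hW'' : IsAlgSpace W'' := isAlgSpace_of_representable hB' w'' hw''.rep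
    have sq : IsPullback (pullback.fst (pullback.snd G.hom f) w'' ≫ pullback.fst G.hom f)
        (pullback.snd (pullback.snd G.hom f) w'') G.hom (w'' ≫ f) :=
      (IsPullback.of_hasPullback (pullback.snd G.hom f) w'').paste_horiz
        (IsPullback.of_hasPullback G.hom f)
    rw [locP_iff_forall_unitSet hP hQ hQ' hB G hG hlft hW'' (w'' ≫ f) sq, ← hfac]
    constructor
    · rintro ⟨k, hk⟩
      exact ⟨pullback.lift k w'' hk, pullback.lift_snd _ _ _⟩
    · rintro ⟨k, hk⟩
      refine ⟨k ≫ pullback.fst _ _, ?_⟩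
      rw [Category.assoc, pullback.condition, ← Category.assoc, hk]

end Generic

theorem S10143_main (S : Scheme.{u}) (B : AlgSp.Sp S) (hB : AlgSp.IsAlgSpace B)
    (G : Over B) [GrpObj G] (hG : AlgSp.IsAlgSpace G.left)
    (hlft : AlgSp.LocP @LocallyOfFiniteType G.hom) :
    ∃ (W : AlgSp.Sp S) (w : W ⟶ B), AlgSp.RepWith @IsOpenImmersion w ∧
      (∀ (W' : AlgSp.Sp S) (w' : W' ⟶ B), AlgSp.RepWith @IsOpenImmersion w' →
        (AlgSp.LocP (@LocallyOfFiniteType ⊓ @FormallyUnramified) (pullback.snd G.hom w') ↔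
          ∃ k : W' ⟶ W, k ≫ w = w')) ∧
      (∀ (B' : AlgSp.Sp S), AlgSp.IsAlgSpace B' → ∀ (f : B' ⟶ B) (W'' : AlgSp.Sp S)
        (w'' : W'' ⟶ B'), AlgSp.RepWith @IsOpenImmersion w'' →
        (AlgSp.LocP (@LocallyOfFiniteType ⊓ @FormallyUnramified)
            (pullback.snd (pullback.snd G.hom f) w'') ↔
          ∃ k : W'' ⟶ pullback w f, k ≫ pullback.snd w f = w'')) :=
  largest_open_generic (P := UNR) etale_le_unr etLocal_NB_unr bcLocal_NB_unr B hB G hG hlft

end Groth.Agent.H7.GrpHom
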