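import Groth.Agent.Lib.Helper7.GrpHom
import Groth.Agent.Lib.Helper8.AlgSp.Gpd
import Groth.Agent.Lib.Helper8.AlgSp.OverField
import Mathlib

/-!
# S10135: a groupoid over a field with `s, t` locally of finite type has equidimensional arrows
-/

set_option autoImplicit false
universe u

open AlgebraicGeometry CategoryTheory Limits

namespace Groth.Agent.H7.GrpHom

open _root_.AlgSp Groth.Agent.H5.AlgSp Groth.Agent.H1.AlgSpDim Groth.Agent.H8.AlgSp

variable {S : Scheme.{u}}

/-- `HasAtMor` and postcomposition with an isomorphism. -/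
theorem hasAtMor_comp_iso {Q : ∀ (U V : Scheme.{u}), (U ⟶ V) → ↥U → Prop} {X Y Y' : Sp S}
    (f : X ⟶ Y) (Φ : Y ⟶ Y') [IsIso Φ] (x : Points X) :
    HasAtMor Q (f ≫ Φ) x ↔ HasAtMor Q f x := by
  constructor
  · rintro ⟨U, V, a, c, h, u, ha, hc, comm, hu, hq⟩
    refine ⟨U, V, a, c ≫ inv Φ, h, u, ha,
      (RepWith @Etale).comp_mem _ _ hc (repWith_of_isIso (inv Φ)), ?_, hu, hq⟩
    rw [← Category.assoc, ← comm, Category.assoc, Category.assoc, IsIso.hom_inv_id,
      Category.comp_id]
  · rintro ⟨U, V, a, c, h, u, ha, hc, comm, hu, hq⟩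
    refine ⟨U, V, a, c ≫ Φ, h, u, ha,
      (RepWith @Etale).comp_mem _ _ hc (repWith_of_isIso Φ), ?_, hu, hq⟩
    rw [← Category.assoc, comm, Category.assoc]

/-- **Homogeneity for groupoids**: an étale-local base-change-local pointwise property of the
source morphism holds at an arrow `r` iff it holds at the identity arrow of its target. -/
theorem hasAtMor_groupoid_iff {Q : ∀ (U V : Scheme.{u}), (U ⟶ V) → ↥U → Prop}
    (hQ : EtLocal Q) (hQ' : BCLocal Q) {B : Sp S} (G : GroupoidSp B) (hU : IsAlgSpace G.U)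
    (hR : IsAlgSpace G.R) (hs : LocP @LocallyOfFiniteType G.s) (r : Points G.R) :
    HasAtMor Q G.s (Points.map G.e (Points.map G.t r)) ↔ HasAtMor Q G.s r := by
  have sq₁ := IsPullback.of_hasPullback G.s G.t
  have sq₂ := GroupoidSp.isPullback_c_snd G
  have hι : (G.t ≫ G.e) ≫ G.s = 𝟙 G.R ≫ G.t := by
    rw [Category.assoc, G.e_s, Category.comp_id, Category.id_comp]
  have key := hasAtMor_iff_of_iso_pullbacks hQ hQ' hR hU hR G.s hs sq₁ sq₂ (𝟙 _)
    (Category.id_comp _) (Points.map (pullback.lift (G.t ≫ G.e) (𝟙 G.R) hι) r)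
  have e0 : Points.map (pullback.fst G.s G.t)
      (Points.map (pullback.lift (G.t ≫ G.e) (𝟙 G.R) hι) r) =
      Points.map G.e (Points.map G.t r) := by
    rw [← Points.map_comp, pullback.lift_fst, Points.map_comp]
  have hc : pullback.lift (G.t ≫ G.e) (𝟙 G.R) hι ≫ G.c = 𝟙 G.R := by
    refine Eq.trans ?_ (G.e_comp (𝟙 G.R))
    congr 1
  have e1 : Points.map G.c (Points.map (𝟙 _)
      (Points.map (pullback.lift (G.t ≫ G.e) (𝟙 G.R) hι) r)) = r := by
    rw [Points.map_id, ← Points.map_comp, hc, Points.map_id]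
  rw [e0, e1] at key
  exact key

theorem S10135_main (S : Scheme.{u}) (B : AlgSp.Sp S) (hB : AlgSp.IsAlgSpace B)
    (G : AlgSp.GroupoidSp B) (hR : AlgSp.IsAlgSpace G.R) (k : Type u) [Field k]
    (σ : Spec (CommRingCat.of k) ⟶ S) (eU : G.U ≅ (AlgSp.yon S).obj (Over.mk σ))
    (hs : AlgSp.LocP @LocallyOfFiniteType G.s) (ht : AlgSp.LocP @LocallyOfFiniteType G.t)
    (r : AlgSp.Points G.R) :
    AlgSp.HasAt (fun V v => FlatMor.localDim ↥V v = AlgSp.dim G.R) G.R r := by
  haveI := subsingleton_points_field k σ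
  have hU : IsAlgSpace G.U := isAlgSpace_of_iso eU (IsAlgSpace.yon_obj _)
  haveI : Subsingleton (Points G.U) := ⟨fun x y => by
    have hx : Points.map eU.inv (Points.map eU.hom x) = x := by
      rw [← Points.map_comp, Iso.hom_inv_id, Points.map_id]
    have hy : Points.map eU.inv (Points.map eU.hom y) = y := by
      rw [← Points.map_comp, Iso.hom_inv_id, Points.map_id]
    rw [← hx, ← hy, Subsingleton.elim (Points.map eU.hom x) (Points.map eU.hom y)]⟩
  obtain ⟨U, a, hae, has⟩ := hR.atlas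
  obtain ⟨u, rfl⟩ := ofPt_surjective_of_repWith has r
  have hall : ∀ r' : Points G.R,
      HasAt (fun V v => FlatMor.localDim ↥V v = FlatMor.localDim ↥U.left u) G.R r' := by
    intro r'
    have h0 : HasAt (fun V v => FlatMor.localDim ↥V v = FlatMor.localDim ↥U.left u) G.R
        (Points.ofPt a u) := ⟨U, a, u, hae, rfl, rfl⟩
    rw [hasAt_localDim_iff_hasAtMor_field (fun e => e = FlatMor.localDim ↥U.left u)
      (G.s ≫ eU.hom), hasAtMor_comp_iso] at h0 ⊢
    have hQ := etLocal_fibreDimAt_pred (fun e => e = FlatMor.localDim ↥U.left u)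
    have hQ' := bcLocal_fibreDimAt_pred (fun e => e = FlatMor.localDim ↥U.left u)
    rw [← hasAtMor_groupoid_iff hQ hQ' G hU hR hs] at h0 ⊢
    rwa [Subsingleton.elim (Points.map G.t r') (Points.map G.t (Points.ofPt a u))]
  have hdim : AlgSp.dim G.R = FlatMor.localDim ↥U.left u := by
    apply le_antisymm
    · rw [dim_le_iff hR]
      intro z
      obtain ⟨V, c, v, hc, hv, hq⟩ := hall z
      exact ⟨V, c, v, hc, hv, hq.le⟩
    · refine (Groth.Agent.H3.TopDim.localDim_le_dim u).trans ?_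
      unfold AlgSp.dim
      exact le_iSup_of_le U (le_iSup_of_le a (le_iSup_of_le hae le_rfl))
  rw [hdim]
  exact hall _

end Groth.Agent.H7.GrpHom
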