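import Groth.Agent.Lib.Helper7.GrpHom
import Groth.Agent.Lib.Helper3.Decent.ClosedPoint
import Groth.Agent.Lib.Helper5.AlgSp.Limits.SepSpTerminal
import Groth.Agent.Lib.Helper3.DescSh.Rep
import Mathlib

/-!
# S10127: a decent group algebraic space over a field is separated
-/

set_option autoImplicit false
universe u

open AlgebraicGeometry CategoryTheory Limits MonoidalCategory CartesianMonoidalCategory MonObj

namespace Groth.Agent.H7.GrpSep

open _root_.AlgSp Groth.Agent.H5.AlgSp Groth.Agent.H7.GrpHom

/-- a rational point of a decent algebraic space over a field is a closed immersion. -/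
theorem repWith_isClosedImmersion_ratPt (k : Type u) [Field k]
    {X : Sp (Spec (CommRingCat.of k))} (hX : IsAlgSpace X) (hd : IsDecent X)
    (e : (yon (Spec (CommRingCat.of k))).obj (Over.mk (𝟙 _)) ⟶ X) :
    RepWith @IsClosedImmersion e := by
  have hs : IsClosed ({(𝟙 (Spec (CommRingCat.of k)) : Spec (CommRingCat.of k) ⟶ _)
      (IsLocalRing.closedPoint k)} : Set ↥(Spec (CommRingCat.of k))) := isClosed_discrete _
  have hfac := Scheme.descResidueField_stalkClosedPointTo_fromSpecResidueField k
    (Spec (CommRingCat.of k)) (𝟙 _)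
  have hiso : IsIso (Spec.map (Scheme.descResidueField
      (Scheme.stalkClosedPointTo (𝟙 (Spec (CommRingCat.of k)))))) := by
    refine ⟨(Spec (CommRingCat.of k)).fromSpecResidueField _, hfac, ?_⟩
    rw [← cancel_mono ((Spec (CommRingCat.of k)).fromSpecResidueField _), Category.assoc, hfac,
      Category.comp_id, Category.id_comp]
  have hbij : Function.Bijective (Scheme.descResidueField
      (Scheme.stalkClosedPointTo (𝟙 (Spec (CommRingCat.of k))))).hom :=
    isIso_SpecMap_iff.1 hiso
  have hfin : (Scheme.descResidueField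
      (Scheme.stalkClosedPointTo (𝟙 (Spec (CommRingCat.of k))))).hom.Finite :=
    RingHom.Finite.of_surjective _ hbij.surjective
  let j0 : Over.mk (Spec.map (Scheme.descResidueField
      (Scheme.stalkClosedPointTo (𝟙 (Spec (CommRingCat.of k))))) ≫
        (Spec (CommRingCat.of k)).fromSpecResidueField _) ≅
      Over.mk (𝟙 (Spec (CommRingCat.of k))) :=
    Over.isoMk (Iso.refl _) (by
      show 𝟙 _ ≫ 𝟙 _ = Spec.map _ ≫ _
      rw [hfac, Category.id_comp])
  have h1 := (Groth.Agent.H3.Decent.repWith_isFinite_fieldPt_of_finite_over_closed hX hd _ hs k _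
    hfin ((yon _).map j0.hom ≫ e)).2 hbij
  have h2 : e = (yon _).map j0.inv ≫ (yon _).map j0.hom ≫ e := by
    rw [← Category.assoc, ← Functor.map_comp, Iso.inv_hom_id, CategoryTheory.Functor.map_id, Category.id_comp]
  rw [h2]
  exact (RepWith @IsClosedImmersion).comp_mem _ _ (repWith_of_isIso _) h1


variable {S : Scheme.{u}}

/-- a group space whose unit section is a closed immersion is separated over its base. -/
theorem isSeparatedMor_of_unit {B : Sp S} (G : Over B) [GrpObj G]
    (he : RepWith @IsClosedImmersion (η[G] : 𝟙_ (Over B) ⟶ G).left) : IsSeparatedMor G.hom := by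
  have hη : (η[G] : 𝟙_ (Over B) ⟶ G).left ≫ G.hom = 𝟙 B := Over.w (η[G] : 𝟙_ (Over B) ⟶ G)
  have h1 : (lift (toUnit G ≫ η[G]) (𝟙 G)).left ≫ pullback.fst G.hom G.hom =
      G.hom ≫ (η[G] : 𝟙_ (Over B) ⟶ G).left :=
    congrArg CommaMorphism.left (lift_fst (toUnit G ≫ η[G]) (𝟙 G))
  have h1' : (lift (toUnit G ≫ η[G]) (𝟙 G)).left ≫ pullback.snd G.hom G.hom = 𝟙 G.left :=
    congrArg CommaMorphism.left (lift_snd (toUnit G ≫ η[G]) (𝟙 G))
  have outer : IsPullback ((lift (toUnit G ≫ η[G]) (𝟙 G)).left ≫ pullback.snd G.hom G.hom) G.hom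
      G.hom ((η[G] : 𝟙_ (Over B) ⟶ G).left ≫ G.hom) := by
    rw [h1', hη]
    exact IsPullback.of_horiz_isIso ⟨by simp⟩
  have right : IsPullback (pullback.snd G.hom G.hom) (pullback.fst G.hom G.hom) G.hom G.hom :=
    (IsPullback.of_hasPullback G.hom G.hom).flip
  have left : IsPullback (lift (toUnit G ≫ η[G]) (𝟙 G)).left G.hom (pullback.fst G.hom G.hom)
      (η[G] : 𝟙_ (Over B) ⟶ G).left := IsPullback.of_right outer h1 right
  have hι : RepWith @IsClosedImmersion (lift (toUnit G ≫ η[G]) (𝟙 G)).left :=
    MorphismProperty.of_isPullback (P := RepWith @IsClosedImmersion) left.flip he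
  have h2 : (lift (toUnit G ≫ η[G]) (𝟙 G)).left ≫ (shear G).hom.left =
      (lift (𝟙 G) (𝟙 G)).left := congrArg CommaMorphism.left (lift_unit_shear G)
  have h3 : (lift (𝟙 G) (𝟙 G)).left = pullback.diagonal G.hom := by
    apply pullback.hom_ext
    · rw [pullback.diagonal_fst]
      exact congrArg CommaMorphism.left (lift_fst (𝟙 G) (𝟙 G))
    · rw [pullback.diagonal_snd]
      exact congrArg CommaMorphism.left (lift_snd (𝟙 G) (𝟙 G))
  show RepWith @IsClosedImmersion (pullback.diagonal G.hom)
  rw [← h3, ← h2]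
  haveI : IsIso (shear G).hom.left :=
    inferInstanceAs (IsIso ((Over.forget B).map (shear G).hom))
  exact (RepWith @IsClosedImmersion).comp_mem _ _ hι (repWith_of_isIso _)

/-- a sheaf separated over the terminal sheaf is separated. -/
theorem isSeparatedSp_of_isSeparatedMor_pt {F : Sp S}
    (q : F ⟶ (yon S).obj (Over.mk (𝟙 S))) (hq : IsSeparatedMor q) : IsSeparatedSp F := by
  have t := Groth.Agent.H3.DescSh.ptIsTerminal S
  have sqP : IsPullback (Limits.prod.fst : F ⨯ F ⟶ F) Limits.prod.snd q q := by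
    have := IsPullback.of_is_product' (prodIsProd F F) t
    rwa [t.hom_ext (t.from F) q] at this
  have e : pullback.diagonal q = Limits.diag F ≫ sqP.isoPullback.hom := by
    apply pullback.hom_ext
    · rw [pullback.diagonal_fst, Category.assoc, sqP.isoPullback_hom_fst, Limits.diag,
        prod.lift_fst]
    · rw [pullback.diagonal_snd, Category.assoc, sqP.isoPullback_hom_snd, Limits.diag,
        prod.lift_snd]
  have hq' : RepWith @IsClosedImmersion (pullback.diagonal q) := hq
  rw [e] at hq'
  exact (MorphismProperty.cancel_right_of_respectsIso (RepWith @IsClosedImmersion) _ _).1 hq'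

theorem S10127_main (k : Type u) [Field k]
    (G : Over ((AlgSp.yon (Spec (CommRingCat.of k))).obj (Over.mk (𝟙 _)))) [GrpObj G]
    (hG : AlgSp.IsAlgSpace G.left) (hd : AlgSp.IsDecent G.left) :
    AlgSp.IsSeparatedSp G.left :=
  isSeparatedSp_of_isSeparatedMor_pt G.hom
    (isSeparatedMor_of_unit G (repWith_isClosedImmersion_ratPt k hG hd _))

end Groth.Agent.H7.GrpSep
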