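import Groth.Agent.Lib.Helper7.GrpSep
import Groth.Agent.Lib.Helper8.AlgSp.Stab
import Groth.Agent.Lib.Helper8.AlgSp.OverField
import Groth.Agent.S10122
import Mathlib

/-!
# S10128: a decent groupoid over a field is separated
-/

set_option autoImplicit false
universe u

open AlgebraicGeometry CategoryTheory Limits

namespace Groth.Agent.H7.GrpSep

open _root_.AlgSp Groth.Agent.H5.AlgSp Groth.Agent.H3.Decent Groth.Agent.H3.FinQuot

variable {S : Scheme.{u}}

/-- on a decent space, the point of a section of a morphism to the spectrum of a field is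
closed. -/
theorem isClosed_point_of_section_field {X : Sp S} (hX : IsAlgSpace X) (hd : IsDecent X)
    (k : Type u) [Field k] (σ : Spec (CommRingCat.of k) ⟶ S)
    (p : (yon S).obj (Over.mk σ) ⟶ X) (f : X ⟶ (yon S).obj (Over.mk σ)) (hpf : p ≫ f = 𝟙 _)
    (t : ↥(Spec (CommRingCat.of k))) :
    IsClosed ({Points.ofPt p t} : Set (Points X)) := by
  rw [← closure_subset_iff_isClosed]
  intro y hy
  have hxy : Points.ofPt p t ⤳ y := specializes_iff_mem_closure.2 hy
  obtain ⟨U, a, hae, has⟩ := hX.atlas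
  obtain ⟨u0, hu0⟩ := ofPt_surjective_of_repWith has y
  obtain ⟨u, hu, hux⟩ := exists_specializes_ofPt_of_fieldPt hxy (hd _) a hae u0 hu0
  have hrep : Representable p := hX.representable_from_yon p
  let E : Over S := hrep.pullback a
  let e1 : E ⟶ Over.mk σ := hrep.fst' a
  let e2 : E ⟶ U := hrep.snd a
  have sqE : IsPullback ((yon S).map e1) ((yon S).map e2) p a := hrep.isPullback' a
  have he1 : Etale e1.left := by
    have := (RepWith @Etale).of_isPullback sqE.flip hae
    exact (repWith_yon_map_iff @Etale e1).1 this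
  obtain ⟨w, hw2, -⟩ := exists_point_of_isPullback sqE (Points.ofScheme _ t) u (by
    rw [← Points.ofPt_eq_map_ofScheme]; exact hux.symm)
  obtain ⟨L, hL, c, hc, ⟨z, hz⟩⟩ := exists_field_chart_of_etale_field e1.left w
  have hzc : z = IsLocalRing.closedPoint L := Subsingleton.elim (α := PrimeSpectrum L) _ _
  have hce : Etale (c ≫ e1.left) := inferInstance
  have hcf : IsFinite (c ≫ e1.left) := isFinite_of_etale_fields (c ≫ e1.left)
  obtain ⟨θ, hθ⟩ : ∃ θ : CommRingCat.of k ⟶ CommRingCat.of L, Spec.map θ = c ≫ e1.left :=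
    ⟨Spec.preimage _, Spec.map_preimage _⟩
  have hθint : θ.hom.IsIntegral := by
    rw [← hθ, IsFinite.SpecMap_iff] at hcf
    exact hcf.to_isIntegral
  obtain ⟨h, hh⟩ := (yon S).map_surjective (a ≫ f)
  have hcomm : e2 ≫ h = e1 := by
    apply (yon S).map_injective
    rw [Functor.map_comp, hh, ← Category.assoc, ← sqE.w, Category.assoc, hpf, Category.comp_id]
  have hm : (c ≫ e2.left) ≫ h.left = Spec.map θ := by
    rw [hθ, Category.assoc, ← Over.comp_left, hcomm]
  have hcl := isClosed_singleton_of_integral_field (K := k) h.left (c ≫ e2.left) θ hm hθint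
  have hu' : (c ≫ e2.left) (IsLocalRing.closedPoint L) = u := by
    rw [Scheme.Hom.comp_apply, ← hzc, hz, hw2]
  rw [hu'] at hcl
  have h3 : u0 ∈ closure ({u} : Set _) := specializes_iff_mem_closure.1 hu
  rw [hcl.closure_eq] at h3
  have h4 : u0 = u := h3
  change y = _
  rw [← hu0, h4, hux]


/-- on a decent space, a section of a morphism to the spectrum of a field is a closed
immersion. -/
theorem repWith_isClosedImmersion_section_field {X : Sp S} (hX : IsAlgSpace X) (hd : IsDecent X)
    (k : Type u) [Field k] (σ : Spec (CommRingCat.of k) ⟶ S)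
    (p : (yon S).obj (Over.mk σ) ⟶ X) (f : X ⟶ (yon S).obj (Over.mk σ)) (hpf : p ≫ f = 𝟙 _) :
    RepWith @IsClosedImmersion p := by
  have hcl := isClosed_point_of_section_field hX hd k σ p f hpf (IsLocalRing.closedPoint k)
  rw [ofPt_closedPoint] at hcl
  obtain ⟨kx, hkx, strx, ρ, hρ, hm, hq⟩ := isDecent_iff.1 hd (Points.mk (fpOfHom σ p))
  have hρcl : RepWith @IsClosedImmersion ρ := by
    apply repWith_isClosedImmersion_of_isClosed_point hX strx ρ hq
    rw [hρ]; exact hcl
  have hred : IsReduced (Over.mk σ).left := inferInstanceAs (IsReduced (Spec (CommRingCat.of k)))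
  obtain ⟨g, hg⟩ := exists_factor_qc_mono_point_of_reduced (IsAlgSpace.yon_obj _) hX p strx ρ hq
    (isReducedSp_yon _) (fun y => by rw [points_map_field, hρ])
  obtain ⟨γ, rfl⟩ := (yon S).map_surjective g
  obtain ⟨δ, hδ⟩ := (yon S).map_surjective (ρ ≫ f)
  have hγδ : γ ≫ δ = 𝟙 _ := by
    apply (yon S).map_injective
    rw [Functor.map_comp, hδ, ← Category.assoc, hg, hpf, CategoryTheory.Functor.map_id]
  obtain ⟨θ, hθ⟩ : ∃ θ : CommRingCat.of kx ⟶ CommRingCat.of k, Spec.map θ = γ.left :=
    ⟨Spec.preimage _, Spec.map_preimage _⟩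
  obtain ⟨θ', hθ'⟩ : ∃ θ' : CommRingCat.of k ⟶ CommRingCat.of kx, Spec.map θ' = δ.left :=
    ⟨Spec.preimage _, Spec.map_preimage _⟩
  have hθθ' : θ' ≫ θ = 𝟙 _ := by
    apply Spec.map_injective
    rw [Spec.map_comp, hθ, hθ', Spec.map_id, ← Over.comp_left, hγδ]
    rfl
  have hsurj : Function.Surjective θ.hom := fun x => ⟨θ'.hom x, by
    have := congrArg (fun φ => φ.hom x) hθθ'
    simpa using this⟩
  have hγci : IsClosedImmersion γ.left := by
    rw [← hθ]
    exact IsClosedImmersion.spec_of_surjective θ hsurj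
  rw [← hg]
  exact MorphismProperty.comp_mem _ _ _ ((repWith_yon_map_iff _ _).2 hγci) hρcl


open Groth.Agent.H8.AlgSp Groth.Agent.H3.DescSh in
theorem S10128_main (S : Scheme.{u}) (B : AlgSp.Sp S) (hB : AlgSp.IsAlgSpace B)
    (G : AlgSp.GroupoidSp B) (hR : AlgSp.IsAlgSpace G.R) (k : Type u) [Field k]
    (σ : Spec (CommRingCat.of k) ⟶ S) (eU : G.U ≅ (AlgSp.yon S).obj (Over.mk σ))
    (hd : AlgSp.IsDecent G.R) : AlgSp.IsSeparatedSp G.R := by
  have hU : IsAlgSpace G.U := isAlgSpace_of_iso eU (IsAlgSpace.yon_obj _)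
  -- the identity section is a closed immersion
  have h1 : RepWith @IsClosedImmersion (eU.inv ≫ G.e) :=
    repWith_isClosedImmersion_section_field hR hd k σ (eU.inv ≫ G.e) (G.s ≫ eU.hom) (by
      rw [Category.assoc, ← Category.assoc G.e, G.e_s, Category.id_comp, Iso.inv_hom_id])
  have he : RepWith @IsClosedImmersion G.e := by
    have h2 : G.e = eU.hom ≫ eU.inv ≫ G.e := by rw [Iso.hom_inv_id_assoc]
    rw [h2]
    exact (RepWith @IsClosedImmersion).comp_mem _ _ (repWith_of_isIso _) h1
  -- the unit of the stabilizer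
  have hej : G.e ≫ G.j = 𝟙 G.U ≫ G.diag := by
    apply pullback.hom_ext
    · rw [Category.assoc, GroupoidSp.j_fst, G.e_t, Category.id_comp, GroupoidSp.diag,
        pullback.lift_fst]
    · rw [Category.assoc, GroupoidSp.j_snd, G.e_s, Category.id_comp, GroupoidSp.diag,
        pullback.lift_snd]
  have heG : (pullback.lift G.e (𝟙 G.U) hej : G.U ⟶ G.stabilizer) ≫ G.stabilizerι = G.e :=
    pullback.lift_fst _ _ _
  haveI : Mono G.stabilizerι := ⟨fun a b h => GroupoidSp.stab_hom_ext G a b h⟩
  have heGci : RepWith @IsClosedImmersion (pullback.lift G.e (𝟙 G.U) hej : G.U ⟶ G.stabilizer) :=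
    repWith_of_comp_of_diag (b := G.stabilizerι) (by rw [heG]; exact he)
      (isSeparatedMor_of_mono G.stabilizerι)
  have hj : IsSeparatedMor G.j :=
    ((Groth.Agent.S10122.result S B hB G hU hR _ heG).1.2).2 heGci
  -- the chain `R ⟶ U ×_B U ⟶ U × U ⟶ U ⟶ pt`
  have hu : IsSeparatedMor ((ptIsTerminal S).from G.U) := by
    have h3 : (ptIsTerminal S).from G.U = eU.hom ≫ (yon S).map (toBase (Over.mk σ)) :=
      (ptIsTerminal S).hom_ext _ _
    rw [h3]
    refine isSeparatedMor_comp (isSeparatedMor_of_mono _) ((isSeparatedMor_yon_map_iff _).2 ?_)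
    show IsSeparated σ
    infer_instance
  have hm : Mono (pullback.lift (pullback.fst G.pU G.pU) (pullback.snd G.pU G.pU)
      ((ptIsTerminal S).hom_ext _ _) :
      pullback G.pU G.pU ⟶ pullback ((ptIsTerminal S).from G.U) ((ptIsTerminal S).from G.U)) := by
    refine ⟨fun a b h => ?_⟩
    apply pullback.hom_ext
    · have := congrArg (· ≫ pullback.fst _ _) h
      simpa only [Category.assoc, pullback.lift_fst] using this
    · have := congrArg (· ≫ pullback.snd _ _) h
      simpa only [Category.assoc, pullback.lift_snd] using this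
  have hsnd : IsSeparatedMor (pullback.snd ((ptIsTerminal S).from G.U)
      ((ptIsTerminal S).from G.U)) :=
    repWith_diag_of_isPullback (IsPullback.of_hasPullback _ _) hu
  have hm' := @isSeparatedMor_of_mono _ _ _ _ hm
  exact isSeparatedSp_of_isSeparatedMor_pt _
    (isSeparatedMor_comp hj (isSeparatedMor_comp hm' (isSeparatedMor_comp hsnd hu)))

end Groth.Agent.H7.GrpSep
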