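import Groth.Agent.Lib.Helper7.HD2

/-! Hyperelliptic fields: regular differentials (helper7). -/

set_option autoImplicit false
set_option linter.unusedSectionVars false

universe u v w

namespace Groth.Agent.H7.HD

open FunFld LocRes WithZero LaurentSeries HahnSeries Polynomial
open Groth.Agent.H7.RF

section hyper

variable {k : Type u} {K : Type v} [Field k] [Field K] [Algebra k K] [Algebra (RatFunc k) K]
  [IsScalarTower k (RatFunc k) K]
variable {F : Type w} [Field F] [Algebra k F]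
variable {P : Place k K} {φ : K →ₐ[k] F⸨X⸩}

local notation "φ₀" => algebraMap k[X] (RatFunc k)
local notation "ι" => algebraMap (RatFunc k) K

variable (hdeg : Module.finrank (RatFunc k) K = 2) {y : K} {f : k[X]}

include hdeg in
/-- `x^i dx / y` is regular at every place for `i < g` -/
theorem vDiff_pow_div_le (hK : IsFunctionField k K) (h2 : ringChar k ≠ 2) (hf : Squarefree f)
    (hd : 1 ≤ f.natDegree) (hyf : y ^ 2 = ι (φ₀ f)) (hφ : IsExpansionAt P.1 φ) {i : ℕ}
    (hi : i < genus k K) :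
    vDiff φ ((ι RatFunc.X) ^ i / y) (ι RatFunc.X) ≤ 1 := by
  haveI := QL.finiteDimensional_of_finrank hdeg
  obtain ⟨p₀, e, he⟩ := exists_isOverWith (isFunctionField (k := k)).isFF1 P
  have hg := genus_of_sq hdeg hK h2 hf hd hyf
  have hy0 : y ≠ 0 := y_ne_zero hf hyf
  have hX0 : ι (RatFunc.X : RatFunc k) ≠ 0 := by
    rw [Ne, map_eq_zero_iff _ (algebraMap (RatFunc k) K).injective]
    exact RatFunc.X_ne_zero
  have hu0 : (ι RatFunc.X) ^ i / y ≠ 0 := div_ne_zero (pow_ne_zero _ hX0) hy0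
  have hordu : P.ord ((ι RatFunc.X) ^ i / y) = i * P.ord (ι RatFunc.X) - P.ord y := by
    rw [P.ord_div (pow_ne_zero _ hX0) hy0, P.ord_pow]
  unfold vDiff
  rw [map_mul, hφ.1, P.v_eq_exp_neg_ord hu0, hordu]
  rcases le_or_gt (p₀.1 RatFunc.X) 1 with hX | hX
  · obtain ⟨hx, m, hδ, hm⟩ := finite_data hdeg h2 hf hd hyf hφ he hX
    rw [hδ, ← exp_add, ← exp_zero, exp_le_exp, hm]
    have : 0 ≤ (i : ℤ) * P.ord (ι RatFunc.X) := mul_nonneg (by positivity) hx
    linarith
  · obtain ⟨hcase, hx, hδ, hy⟩ := pole_data hdeg h2 hf hd hyf hφ he hX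
    rw [hδ, ← exp_add, ← exp_zero, exp_le_exp, hx]
    rcases hcase with ⟨rfl, hodd⟩ | ⟨rfl, hev⟩
    · obtain ⟨m, hm⟩ := hodd
      have hgm : genus k K = m := by rw [hg, hm]; omega
      rw [hm] at hy
      push_cast at hy ⊢
      have : (i : ℤ) + 1 ≤ m := by rw [← hgm]; exact_mod_cast hi
      linarith
    · obtain ⟨m, hm⟩ := hev
      have hgm : genus k K + 1 = m := by rw [hg, hm]; omega
      rw [hm] at hy
      push_cast at hy ⊢
      have hi' : (i : ℤ) < genus k K := by exact_mod_cast hi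
      have : (i : ℤ) + 2 ≤ m := by
        rw [← hgm]
        push_cast
        linarith
      linarith

include hdeg in
/-- if `z dx` is regular at `P` then `z y` is bounded at `P` -/
theorem v_mul_y_le (hK : IsFunctionField k K) (h2 : ringChar k ≠ 2) (hf : Squarefree f)
    (hd : 1 ≤ f.natDegree) (hyf : y ^ 2 = ι (φ₀ f)) (hφ : IsExpansionAt P.1 φ) {z : K}
    (hz : vDiff φ z (ι RatFunc.X) ≤ 1) {p₀ : Place k (RatFunc k)} {e : ℕ}
    (he : IsOverWith P p₀ e) :
    (p₀.1 RatFunc.X ≤ 1 → P.1 (z * y) ≤ 1) ∧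
    (1 < p₀.1 RatFunc.X → P.1 (z * y) ≤ exp ((e : ℤ) * ((genus k K : ℤ) - 1))) := by
  have hg := genus_of_sq hdeg hK h2 hf hd hyf
  have hy0 : y ≠ 0 := y_ne_zero hf hyf
  rcases eq_or_ne z 0 with rfl | hz0
  · simp
  unfold vDiff at hz
  rw [map_mul, hφ.1, P.v_eq_exp_neg_ord hz0] at hz
  rw [P.v_eq_exp_neg_ord (mul_ne_zero hz0 hy0), P.ord_mul hz0 hy0]
  constructor
  · intro hX
    obtain ⟨hx, m, hδ, hm⟩ := finite_data hdeg h2 hf hd hyf hφ he hX
    rw [hδ, ← exp_add, ← exp_zero, exp_le_exp] at hz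
    rw [← exp_zero, exp_le_exp, hm]
    linarith
  · intro hX
    obtain ⟨hcase, hx, hδ, hy⟩ := pole_data hdeg h2 hf hd hyf hφ he hX
    rw [hδ, ← exp_add, ← exp_zero, exp_le_exp] at hz
    rw [exp_le_exp]
    rcases hcase with ⟨rfl, hodd⟩ | ⟨rfl, hev⟩
    · obtain ⟨m, hm⟩ := hodd
      have hgm : genus k K = m := by rw [hg, hm]; omega
      rw [hm] at hy
      rw [hgm]
      push_cast at hy hz ⊢
      linarith
    · obtain ⟨m, hm⟩ := hev
      have hgm : genus k K + 1 = m := by rw [hg, hm]; omega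
      rw [hm] at hy
      have hgm' : (genus k K : ℤ) = m - 1 := by rw [← hgm]; push_cast; ring
      rw [hgm']
      push_cast at hy hz ⊢
      linarith

include hdeg in
/-- every regular `z dx` has `z = a(x)/y` with `deg a < g` -/
theorem exists_poly_of_regular (hK : IsFunctionField k K) (h2 : ringChar k ≠ 2)
    (hf : Squarefree f) (hd : 1 ≤ f.natDegree) (hyf : y ^ 2 = ι (φ₀ f))
    (F : Place k K → Type w) [∀ P, Field (F P)] [∀ P, Algebra k (F P)]
    (φ : ∀ P, K →ₐ[k] LaurentSeries (F P)) (hφ : ∀ P, IsExpansionAt P.1 (φ P)) {z : K}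
    (hz : ∀ P, vDiff (φ P) z (ι RatFunc.X) ≤ 1) :
    ∃ a : k[X], a.degree < (genus k K : WithBot ℕ) ∧ z = ι (φ₀ a) / y := by
  classical
  haveI := QL.finiteDimensional_of_finrank hdeg
  have hFF1 := (isFunctionField (k := k)).isFF1
  obtain ⟨Pinf, hinf⟩ := exists_pole (k := k)
  have hg := genus_of_sq hdeg hK h2 hf hd hyf
  have hy0 : y ≠ 0 := y_ne_zero hf hyf
  have hdg : 2 * genus k K + 1 ≤ f.natDegree := by rw [hg]; omega
  -- the local bounds
  have hloc : ∀ (Q : Place k K) (p₀ : Place k (RatFunc k)) (e : ℕ), IsOverWith Q p₀ e →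
      (p₀.1 RatFunc.X ≤ 1 → Q.1 (z * y) ≤ 1) ∧
      (1 < p₀.1 RatFunc.X → Q.1 (z * y) ≤ exp ((e : ℤ) * ((genus k K : ℤ) - 1))) :=
    fun Q p₀ e he => v_mul_y_le hdeg hK h2 hf hd hyf (hφ Q) (hz Q) he
  -- membership in `L (Dinf n)` for `n + 1 ≥ g`
  have hmem : ∀ n : ℕ, genus k K ≤ n + 1 → z * y ∈ L (Dinf K Pinf n) := by
    intro n hn
    rw [mem_L]
    intro Q
    obtain ⟨p₀, e, he⟩ := exists_isOverWith hFF1 Q
    rw [Dinf, conorm_apply hFF1 _ he]
    rcases le_or_gt (p₀.1 RatFunc.X) 1 with hX | hX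
    · have hne : Pinf ≠ p₀ := by
        rintro rfl
        exact absurd hinf (not_lt.2 hX)
      rw [Finsupp.single_eq_of_ne' hne, mul_zero, exp_zero]
      exact (hloc Q p₀ e he).1 hX
    · have heq : p₀ = Pinf := eq_of_pole hX hinf
      subst heq
      rw [Finsupp.single_eq_same]
      refine ((hloc Q p₀ e he).2 hX).trans ?_
      rw [exp_le_exp]
      have : (genus k K : ℤ) ≤ n + 1 := by exact_mod_cast hn
      nlinarith [Nat.cast_nonneg (α := ℤ) e]
  rcases Nat.eq_zero_or_pos (genus k K) with hg0 | hgpos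
  · -- genus zero: `z = 0`
    obtain ⟨a, b, ha, hb, hab⟩ :=
      exists_poly_of_mem_Dinf hdeg hf hd hyf hinf h2 0 (hmem 0 (by omega))
    have hb0 : b = 0 := by
      rcases hb with hb | hb
      · exact hb
      · omega
    rw [hb0, map_zero, map_zero, zero_mul, add_zero] at hab
    rw [zero_add, mem_degreeLT, ← Nat.cast_one, degree_lt_iff_coeff_zero] at ha
    have hC : a = C (a.coeff 0) := by
      ext m
      rcases Nat.eq_zero_or_pos m with rfl | hm
      · simp
      · rw [ha m hm, coeff_C, if_neg (by omega)]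
    have hc0 : a.coeff 0 = 0 := by
      by_contra hc
      obtain ⟨Q, e, he⟩ := QL.exists_isOver (K := K) (isFunctionField (k := k)) Pinf
      have h1 := (hloc Q Pinf e he).2 hinf
      rw [hab, hC, RatFunc.algebraMap_C, ← RatFunc.algebraMap_eq_C, ← IsScalarTower.algebraMap_apply,
        Q.v_algebraMap hc, hg0, ← exp_zero, exp_le_exp] at h1
      have he0 : (1 : ℤ) ≤ e := by exact_mod_cast Nat.one_le_iff_ne_zero.2 (isOverWith_ne_zero he)
      push_cast at h1
      linarith
    rw [hc0, map_zero] at hC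
    rw [hC, map_zero, map_zero] at hab
    refine ⟨0, ?_, ?_⟩
    · rw [degree_zero]; exact WithBot.bot_lt_coe _
    · rw [map_zero, map_zero, zero_div]
      exact (mul_eq_zero.1 hab).resolve_right hy0
  · obtain ⟨a, b, ha, hb, hab⟩ :=
      exists_poly_of_mem_Dinf hdeg hf hd hyf hinf h2 (genus k K - 1) (hmem _ (by omega))
    have hb0 : b = 0 := by
      rcases hb with hb | hb
      · exact hb
      · omega
    rw [hb0, map_zero, map_zero, zero_mul, add_zero] at hab
    refine ⟨a, ?_, ?_⟩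
    · rw [mem_degreeLT, Nat.sub_add_cancel hgpos] at ha
      exact ha
    · rw [← hab, mul_div_cancel_right₀ _ hy0]

end hyper

end Groth.Agent.H7.HD
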