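import Mathlib
import Groth.Agent.Lib.Helper7.InnLoc

/-! The `B`-model `G = B[X]/(t X² - a)` of the square-root algebra and its universal maps. -/

set_option autoImplicit false
open scoped TensorProduct

namespace Groth.Agent.H7.HModel

open MvPolynomial

universe u v w

section Defs

variable {B : Type u} [CommRing B] {l : ℕ} (t a : Fin l → B)

/-- the defining ideal of the model. -/
noncomputable def relI : Ideal (MvPolynomial (Fin l) B) :=
  Ideal.span (Set.range fun k : Fin l => C (t k) * X k ^ 2 - C (a k))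

/-- the model `B[X_k]/(t_k X_k² - a_k)`. -/
abbrev G : Type u := MvPolynomial (Fin l) B ⧸ relI t a

/-- the generators. -/
noncomputable def xG (k : Fin l) : G t a := Ideal.Quotient.mk _ (X k)

theorem rel_xG (k : Fin l) : algebraMap B (G t a) (t k) * xG t a k ^ 2 = algebraMap B (G t a) (a k) := by
  have h : Ideal.Quotient.mk (relI t a) (C (t k) * X k ^ 2 - C (a k)) = 0 :=
    Ideal.Quotient.eq_zero_iff_mem.mpr (Ideal.subset_span ⟨k, rfl⟩)
  rw [map_sub, map_mul, map_pow, sub_eq_zero] at h
  exact h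

/-- the square-root algebra over `T` for units `s`. -/
noncomputable abbrev sqI {T : Type w} [CommRing T] (s : Fin l → Tˣ) : Ideal (MvPolynomial (Fin l) T) :=
  Ideal.span (Set.range fun k : Fin l => X k ^ 2 - C (s k : T))

end Defs

section PSide

variable {B : Type u} [CommRing B] {l : ℕ} (t a : Fin l → B)
  {T : Type u} [CommRing T] [Algebra B T] (s : Fin l → Tˣ)
  (hs : ∀ k, (s k : T) * algebraMap B T (t k) = algebraMap B T (a k))
  (ht : ∀ k, IsUnit (algebraMap B T (t k)))
  (D : Type w) [CommRing D] [Algebra B D] [Algebra (G t a) D] [IsScalarTower B (G t a) D]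

/-- the map on polynomials. -/
noncomputable def θ₀ : MvPolynomial (Fin l) T →ₐ[T] T ⊗[B] D :=
  MvPolynomial.aeval (fun k => (1 : T) ⊗ₜ[B] algebraMap (G t a) D (xG t a k))

include hs ht in
theorem θ₀_rel (k : Fin l) : θ₀ t a (T := T) D (X k ^ 2 - C (s k : T)) = 0 := by
  obtain ⟨u, hu⟩ := (ht k).exists_left_inv
  have hD : algebraMap B D (t k) * algebraMap (G t a) D (xG t a k) ^ 2 = algebraMap B D (a k) := by
    have := congrArg (algebraMap (G t a) D) (rel_xG t a k)
    rwa [map_mul, map_pow, ← IsScalarTower.algebraMap_apply, ← IsScalarTower.algebraMap_apply] at this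
  have h1 : (algebraMap B T (t k)) ⊗ₜ[B] (algebraMap (G t a) D (xG t a k) ^ 2) =
      ((s k : T) * algebraMap B T (t k)) ⊗ₜ[B] (1 : D) := by
    rw [hs k, Algebra.algebraMap_eq_smul_one (t k), TensorProduct.smul_tmul, Algebra.smul_def, hD,
      Algebra.algebraMap_eq_smul_one (a k), Algebra.algebraMap_eq_smul_one (A := T) (a k),
      TensorProduct.smul_tmul]
  have h2 : (1 : T) ⊗ₜ[B] (algebraMap (G t a) D (xG t a k) ^ 2) = (s k : T) ⊗ₜ[B] (1 : D) := by
    calc (1 : T) ⊗ₜ[B] (algebraMap (G t a) D (xG t a k) ^ 2)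
        = (u ⊗ₜ[B] (1 : D)) * ((algebraMap B T (t k)) ⊗ₜ[B] (algebraMap (G t a) D (xG t a k) ^ 2)) := by
          rw [Algebra.TensorProduct.tmul_mul_tmul, hu, one_mul]
      _ = (s k : T) ⊗ₜ[B] (1 : D) := by
          rw [h1, Algebra.TensorProduct.tmul_mul_tmul, one_mul]
          congr 1
          calc u * ((s k : T) * algebraMap B T (t k)) = (s k : T) * (u * algebraMap B T (t k)) := by
                ring
            _ = (s k : T) := by rw [hu, mul_one]
  rw [map_sub, map_pow, θ₀, MvPolynomial.aeval_X, MvPolynomial.aeval_C, Algebra.TensorProduct.tmul_pow,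
    one_pow, h2, Algebra.TensorProduct.algebraMap_apply, Algebra.algebraMap_self, RingHom.id_apply,
    sub_self]

/-- the map from the square-root algebra over `T` to `T ⊗ D`. -/
noncomputable def θ : (MvPolynomial (Fin l) T ⧸ sqI s) →ₐ[T] T ⊗[B] D :=
  Ideal.Quotient.liftₐ (sqI s) (θ₀ t a D) (by
    intro x hx
    have hle : sqI s ≤ RingHom.ker (θ₀ t a (T := T) D : MvPolynomial (Fin l) T →+* T ⊗[B] D) := by
      unfold sqI
      rw [Ideal.span_le]
      rintro _ ⟨k, rfl⟩
      exact θ₀_rel t a s hs ht D k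
    exact hle hx)

theorem θ_mk (P : MvPolynomial (Fin l) T) :
    θ t a s hs ht D (Ideal.Quotient.mk _ P) = θ₀ t a D P := rfl

/-- key property: the image of a polynomial with coefficients in `B`. -/
theorem θ₀_map (P : MvPolynomial (Fin l) B) :
    θ₀ t a (T := T) D (MvPolynomial.map (algebraMap B T) P) =
      (1 : T) ⊗ₜ[B] algebraMap (G t a) D (Ideal.Quotient.mk _ P) := by
  induction P using MvPolynomial.induction_on with
  | C b =>
      rw [MvPolynomial.map_C, θ₀, MvPolynomial.aeval_C, Algebra.TensorProduct.algebraMap_apply,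
        Algebra.algebraMap_self, RingHom.id_apply]
      have : (Ideal.Quotient.mk (relI t a) (C b)) = algebraMap B (G t a) b := rfl
      rw [this, ← IsScalarTower.algebraMap_apply, Algebra.algebraMap_eq_smul_one b,
        Algebra.algebraMap_eq_smul_one (A := D) b, TensorProduct.smul_tmul]
  | add p q hp hq =>
      rw [map_add, map_add, hp, hq, map_add, map_add, TensorProduct.tmul_add]
  | mul_X p k hp =>
      rw [map_mul, map_mul, hp, MvPolynomial.map_X, θ₀, MvPolynomial.aeval_X, map_mul, map_mul,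
        Algebra.TensorProduct.tmul_mul_tmul, one_mul]
      rfl

include hs ht in
/-- `θ f · (τ ⊗ 1) = 1 ⊗ [P]` whenever `f · τ = [P]`. -/
theorem θ_mul (f : MvPolynomial (Fin l) T ⧸ sqI s) (τ : B) (P : MvPolynomial (Fin l) B)
    (hf : f * Ideal.Quotient.mk _ (C (algebraMap B T τ)) =
      Ideal.Quotient.mk _ (MvPolynomial.map (algebraMap B T) P)) :
    θ t a s hs ht D f * (algebraMap B T τ ⊗ₜ[B] (1 : D)) =
      (1 : T) ⊗ₜ[B] algebraMap (G t a) D (Ideal.Quotient.mk _ P) := by
  have h1 := congrArg (θ t a s hs ht D) hf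
  rw [map_mul, θ_mk, θ_mk, θ₀_map, θ₀, MvPolynomial.aeval_C, Algebra.TensorProduct.algebraMap_apply,
    Algebra.algebraMap_self, RingHom.id_apply] at h1
  exact h1

include hs ht in
theorem θ_isUnit (f : MvPolynomial (Fin l) T ⧸ sqI s) (τ : B) (P : MvPolynomial (Fin l) B)
    (hf : f * Ideal.Quotient.mk _ (C (algebraMap B T τ)) =
      Ideal.Quotient.mk _ (MvPolynomial.map (algebraMap B T) P))
    (hP : IsUnit (algebraMap (G t a) D (Ideal.Quotient.mk _ P))) :
    IsUnit (θ t a s hs ht D f) := by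
  have h1 := θ_mul t a s hs ht D f τ P hf
  have h2 : IsUnit ((1 : T) ⊗ₜ[B] algebraMap (G t a) D (Ideal.Quotient.mk _ P)) :=
    hP.map (Algebra.TensorProduct.includeRight : D →ₐ[B] T ⊗[B] D)
  rw [← h1] at h2
  exact isUnit_of_mul_isUnit_left h2

include hs ht in
theorem θ_eq_zero (f : MvPolynomial (Fin l) T ⧸ sqI s) (τ : B) (hτ : IsUnit (algebraMap B T τ))
    (P : MvPolynomial (Fin l) B)
    (hf : f * Ideal.Quotient.mk _ (C (algebraMap B T τ)) =
      Ideal.Quotient.mk _ (MvPolynomial.map (algebraMap B T) P))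
    (hP : algebraMap (G t a) D (Ideal.Quotient.mk _ P) = 0) :
    θ t a s hs ht D f = 0 := by
  have h1 := θ_mul t a s hs ht D f τ P hf
  rw [hP, TensorProduct.tmul_zero] at h1
  have h2 : IsUnit (algebraMap B T τ ⊗ₜ[B] (1 : D)) :=
    hτ.map (Algebra.TensorProduct.includeLeft : T →ₐ[B] T ⊗[B] D)
  exact (h2.mul_left_eq_zero).mp h1

end PSide

section BSide

variable {B : Type u} [CommRing B] {l : ℕ} (t a : Fin l → B)
  {T : Type u} [CommRing T] [Algebra B T] (s : Fin l → Tˣ)
  (hs : ∀ k, (s k : T) * algebraMap B T (t k) = algebraMap B T (a k))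

/-- the map on polynomials `B[X] → T[X]/(X² - s)`. -/
noncomputable def χ₀ : MvPolynomial (Fin l) B →ₐ[B] (MvPolynomial (Fin l) T ⧸ sqI s) :=
  MvPolynomial.aeval (fun k => Ideal.Quotient.mk (sqI s) (X k))

theorem χ₀_apply (P : MvPolynomial (Fin l) B) :
    χ₀ s P = Ideal.Quotient.mk (sqI s) (MvPolynomial.map (algebraMap B T) P) := by
  induction P using MvPolynomial.induction_on with
  | C b =>
      rw [χ₀, MvPolynomial.aeval_C, MvPolynomial.map_C]
      rfl
  | add p q hp hq => rw [map_add, map_add, map_add, hp, hq]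
  | mul_X p k hp => rw [map_mul, map_mul, map_mul, hp, MvPolynomial.map_X, χ₀, MvPolynomial.aeval_X]

theorem sq_mk_X (k : Fin l) :
    Ideal.Quotient.mk (sqI s) (X k) ^ 2 = Ideal.Quotient.mk (sqI s) (C (s k : T)) := by
  rw [← map_pow, Ideal.Quotient.eq]
  exact Ideal.subset_span ⟨k, rfl⟩

include hs in
theorem χ₀_rel (k : Fin l) : χ₀ (T := T) s (C (t k) * X k ^ 2 - C (a k)) = 0 := by
  rw [χ₀_apply, map_sub, map_mul, map_pow, MvPolynomial.map_C, MvPolynomial.map_C,
    MvPolynomial.map_X, map_sub, map_mul, map_pow, sq_mk_X, ← map_mul, ← map_sub, ← C_mul, ← C_sub,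
    mul_comm, hs k, sub_self, C_0, map_zero]

/-- the map from the model to the square-root algebra over `T`. -/
noncomputable def χ : G t a →ₐ[B] (MvPolynomial (Fin l) T ⧸ sqI s) :=
  Ideal.Quotient.liftₐ (relI t a) (χ₀ s) (by
    intro x hx
    have hle : relI t a ≤ RingHom.ker (χ₀ (B := B) (T := T) s :
        MvPolynomial (Fin l) B →+* (MvPolynomial (Fin l) T ⧸ sqI s)) := by
      unfold relI
      rw [Ideal.span_le]
      rintro _ ⟨k, rfl⟩
      exact χ₀_rel t a s hs k
    exact hle hx)

theorem χ_mk (P : MvPolynomial (Fin l) B) :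
    χ t a s hs (Ideal.Quotient.mk _ P) =
      Ideal.Quotient.mk (sqI s) (MvPolynomial.map (algebraMap B T) P) :=
  χ₀_apply s P

end BSide

section Lift

variable {B : Type u} [CommRing B] (p : Ideal B) [p.IsPrime] {l : ℕ}

attribute [local instance] MvPolynomial.algebraMvPolynomial in
theorem exists_lift_poly (F : MvPolynomial (Fin l) (Localization.AtPrime p)) :
    ∃ (P : MvPolynomial (Fin l) B) (τ : B), τ ∉ p ∧
      F * C (algebraMap B (Localization.AtPrime p) τ) =
        MvPolynomial.map (algebraMap B (Localization.AtPrime p)) P := by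
  obtain ⟨⟨P, m⟩, hPm⟩ := IsLocalization.surj (p.primeCompl.map (C (σ := Fin l)))
    (S := MvPolynomial (Fin l) (Localization.AtPrime p)) F
  obtain ⟨τ, hτ, hm⟩ := m.2
  refine ⟨P, τ, hτ, ?_⟩
  rw [MvPolynomial.algebraMap_def] at hPm
  simp only at hPm
  rw [← hPm, ← hm, MvPolynomial.map_C]

theorem exists_lift_units (s : Fin l → (Localization.AtPrime p)ˣ) :
    ∃ t a : Fin l → B, (∀ k, t k ∉ p) ∧ (∀ k, a k ∉ p) ∧
      ∀ k, (s k : Localization.AtPrime p) * algebraMap B (Localization.AtPrime p) (t k) =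
        algebraMap B (Localization.AtPrime p) (a k) := by
  have h1 : ∀ k, ∃ x : B × p.primeCompl,
      (s k : Localization.AtPrime p) * algebraMap B (Localization.AtPrime p) x.2 =
        algebraMap B (Localization.AtPrime p) x.1 :=
    fun k => IsLocalization.surj p.primeCompl (s k : Localization.AtPrime p)
  choose x hx using h1
  refine ⟨fun k => (x k).2, fun k => (x k).1, fun k => (x k).2.2, fun k => ?_, hx⟩
  have h2 : IsUnit (algebraMap B (Localization.AtPrime p) (x k).1) := by
    rw [← hx k]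
    exact (s k).isUnit.mul (IsLocalization.map_units _ (x k).2)
  exact (IsLocalization.AtPrime.isUnit_to_map_iff (Localization.AtPrime p) p _).mp h2

theorem exists_lift_elems {r : ℕ} (s : Fin l → (Localization.AtPrime p)ˣ)
    (f : Fin r → (MvPolynomial (Fin l) (Localization.AtPrime p) ⧸ sqI s)) :
    ∃ (P : Fin r → MvPolynomial (Fin l) B) (τ : Fin r → B), (∀ i, τ i ∉ p) ∧
      ∀ i, f i * Ideal.Quotient.mk _ (C (algebraMap B (Localization.AtPrime p) (τ i))) =
        Ideal.Quotient.mk _ (MvPolynomial.map (algebraMap B (Localization.AtPrime p)) (P i)) := by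
  have h1 : ∀ i, ∃ (P : MvPolynomial (Fin l) B) (τ : B), τ ∉ p ∧
      f i * Ideal.Quotient.mk _ (C (algebraMap B (Localization.AtPrime p) τ)) =
        Ideal.Quotient.mk _ (MvPolynomial.map (algebraMap B (Localization.AtPrime p)) P) := by
    intro i
    obtain ⟨F, hF⟩ := Ideal.Quotient.mk_surjective (f i)
    obtain ⟨P, τ, hτ, hP⟩ := exists_lift_poly p F
    refine ⟨P, τ, hτ, ?_⟩
    rw [← hF, ← map_mul, hP]
  choose P τ hτ hP using h1
  exact ⟨P, τ, hτ, hP⟩

end Lift

end Groth.Agent.H7.HModel
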