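import Mathlib

/-! Spreading out a hermitian congruence from a localized module. -/

set_option autoImplicit false

namespace Groth.Agent.H7.HSpread

open Matrix

universe u v w w'

section Abstract

variable {B : Type u} [CommRing B] (S : Submonoid B)
  {N : Type v} [CommRing N] [Algebra B N] (lamN : N →ₐ[B] N)
  {n : ℕ} (hN h'N : Matrix (Fin n) (Fin n) N)

/-- the hermitian congruence property over `E`. -/
def HC {E : Type w} [CommRing E] [Algebra B E] (j : N →ₐ[B] E) (lamE : E →ₐ[B] E) : Prop :=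
  ∃ v : Matrix (Fin n) (Fin n) E, IsUnit v ∧
    (v.map lamE).transpose * hN.map j * v = h'N.map j

variable {E : Type w} [CommRing E] [Algebra B E] (j : N →ₐ[B] E)

theorem map_mul' (X Y : Matrix (Fin n) (Fin n) N) : (X * Y).map j = X.map j * Y.map j :=
  Matrix.map_mul

theorem map_smul' (b : B) (X : Matrix (Fin n) (Fin n) N) : (b • X).map j = b • X.map j := by
  ext i k
  simp

theorem exists_kill [IsLocalizedModule S j.toLinearMap] (X : Matrix (Fin n) (Fin n) N)
    (h : X.map j = 0) : ∃ c ∈ S, c • X = 0 := by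
  classical
  have h1 : ∀ ik : Fin n × Fin n, ∃ c : S, c.1 • X ik.1 ik.2 = 0 := by
    intro ik
    have h0 : j.toLinearMap (X ik.1 ik.2) = j.toLinearMap 0 := by
      rw [map_zero]
      have := congrFun (congrFun h ik.1) ik.2
      simpa using this
    obtain ⟨c, hc⟩ := IsLocalizedModule.exists_of_eq (S := S) h0
    refine ⟨c, ?_⟩
    rw [smul_zero] at hc
    exact hc
  choose c hc using h1
  refine ⟨∏ ik : Fin n × Fin n, (c ik).1, prod_mem fun ik _ => (c ik).2, ?_⟩
  ext i k
  rw [Matrix.smul_apply, Matrix.zero_apply,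
    ← Finset.mul_prod_erase Finset.univ (fun ik => (c ik).1) (Finset.mem_univ (i, k)), mul_comm,
    mul_smul, hc (i, k), smul_zero]

theorem map_eq_zero_of_smul {E' : Type w'} [CommRing E'] [Algebra B E'] (j' : N →ₐ[B] E')
    (c : B) (hc : IsUnit (algebraMap B E' c)) (X : Matrix (Fin n) (Fin n) N) (h : c • X = 0) :
    X.map j' = 0 := by
  have h1 : c • X.map j' = 0 := by rw [← map_smul', h, Matrix.map_zero _ (map_zero _)]
  obtain ⟨e, he⟩ := hc.exists_left_inv
  ext i k
  have h2 := congrFun (congrFun h1 i) k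
  rw [Matrix.smul_apply, Matrix.zero_apply, Algebra.smul_def] at h2
  rw [Matrix.zero_apply]
  calc X.map j' i k = (e * algebraMap B E' c) * X.map j' i k := by rw [he, one_mul]
    _ = e * (algebraMap B E' c * X.map j' i k) := by ring
    _ = 0 := by rw [h2, mul_zero]

theorem spread [IsLocalizedModule S j.toLinearMap]
    (lamE : E →ₐ[B] E) (hjl : ∀ x, lamE (j x) = j (lamN x))
    (hc : HC hN h'N j lamE) :
    ∃ c ∈ S, ∀ {E' : Type w'} [CommRing E'] [Algebra B E'] (j' : N →ₐ[B] E')
      (lamE' : E' →ₐ[B] E') (_ : ∀ x, lamE' (j' x) = j' (lamN x))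
      (_ : IsUnit (algebraMap B E' c)), HC hN h'N j' lamE' := by
  classical
  obtain ⟨v, hv, heq⟩ := hc
  obtain ⟨w, hvw⟩ := hv.exists_right_inv
  -- denominators
  obtain ⟨t, ht⟩ := IsLocalizedModule.exist_integer_multiples_of_finite S j.toLinearMap
    (fun ik : Fin n × Fin n => v ik.1 ik.2)
  obtain ⟨t', ht'⟩ := IsLocalizedModule.exist_integer_multiples_of_finite S j.toLinearMap
    (fun ik : Fin n × Fin n => w ik.1 ik.2)
  choose V₀ hV₀ using ht
  choose W₀ hW₀ using ht'
  let V : Matrix (Fin n) (Fin n) N := fun i k => V₀ (i, k)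
  let W : Matrix (Fin n) (Fin n) N := fun i k => W₀ (i, k)
  have hV : V.map j = (t : B) • v := by
    ext i k
    exact hV₀ (i, k)
  have hW : W.map j = (t' : B) • w := by
    ext i k
    exact hW₀ (i, k)
  have hVl : (V.map lamN).map j = (t : B) • v.map lamE := by
    ext i k
    simp only [Matrix.map_apply, Matrix.smul_apply]
    rw [← hjl]
    have := congrFun (congrFun hV i) k
    simp only [Matrix.map_apply, Matrix.smul_apply] at this
    rw [this, map_smul]
  -- first relation
  have hX₁ : (V * W - ((t : B) * (t' : B)) • (1 : Matrix (Fin n) (Fin n) N)).map j = 0 := by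
    rw [Matrix.map_sub (f := j) (fun a b => map_sub j a b), map_mul', map_smul', hV, hW,
      Matrix.map_one _ (map_zero j) (map_one j), Matrix.smul_mul, Matrix.mul_smul, hvw, smul_smul,
      sub_self]
  obtain ⟨c₁, hc₁S, hc₁⟩ := exists_kill S j _ hX₁
  -- second relation
  have hX₂ : ((V.map lamN).transpose * hN * V - ((t : B) * (t : B)) • h'N).map j = 0 := by
    rw [Matrix.map_sub (f := j) (fun a b => map_sub j a b), map_mul', map_mul', map_smul',
      Matrix.transpose_map, hVl, hV, Matrix.transpose_smul, Matrix.smul_mul, Matrix.smul_mul,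
      Matrix.mul_smul, heq, smul_smul, sub_self]
  obtain ⟨c₂, hc₂S, hc₂⟩ := exists_kill S j _ hX₂
  refine ⟨(t : B) * (t' : B) * c₁ * c₂,
    S.mul_mem (S.mul_mem (S.mul_mem t.2 t'.2) hc₁S) hc₂S, ?_⟩
  intro E' _ _ j' lamE' hjl' hunit
  have hu : ∀ e : B, e ∣ (t : B) * (t' : B) * c₁ * c₂ → IsUnit (algebraMap B E' e) := fun e he =>
    isUnit_of_dvd_unit (map_dvd _ he) hunit
  obtain ⟨a, ha⟩ := (hu (t : B) ⟨(t' : B) * c₁ * c₂, by ring⟩).exists_left_inv
  obtain ⟨a', ha'⟩ := (hu (t' : B) ⟨(t : B) * c₁ * c₂, by ring⟩).exists_left_inv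
  have h1 := map_eq_zero_of_smul j' c₁ (hu c₁ ⟨(t : B) * (t' : B) * c₂, by ring⟩) _ hc₁
  have h2 := map_eq_zero_of_smul j' c₂ (hu c₂ ⟨(t : B) * (t' : B) * c₁, by ring⟩) _ hc₂
  rw [Matrix.map_sub (f := j') (fun a b => map_sub j' a b), sub_eq_zero, map_mul', map_smul',
    Matrix.map_one _ (map_zero j') (map_one j')] at h1
  rw [Matrix.map_sub (f := j') (fun a b => map_sub j' a b), sub_eq_zero, map_mul', map_mul',
    map_smul', Matrix.transpose_map] at h2
  have hla : lamE' a = a := by
    have h3 : lamE' a * algebraMap B E' (t : B) = 1 := by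
      rw [← lamE'.commutes (t : B), ← map_mul, ha, map_one]
    calc lamE' a = lamE' a * (algebraMap B E' (t : B) * a) := by rw [mul_comm _ a, ha, mul_one]
      _ = (lamE' a * algebraMap B E' (t : B)) * a := by ring
      _ = a := by rw [h3, one_mul]
  have hVl' : (V.map lamN).map j' = (V.map j').map lamE' := by
    ext i k
    simp only [Matrix.map_apply]
    rw [hjl']
  refine ⟨a • V.map j', ?_, ?_⟩
  · have hinv : (a • V.map j') * (a' • W.map j') = 1 := by
      have h3 : a * a' * (algebraMap B E') ((t : B) * (t' : B)) = 1 := by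
        rw [map_mul]
        calc a * a' * (algebraMap B E' t * algebraMap B E' t') =
            (a * algebraMap B E' t) * (a' * algebraMap B E' t') := by ring
          _ = 1 := by rw [ha, ha', one_mul]
      rw [Matrix.smul_mul, Matrix.mul_smul, h1, smul_smul,
        ← algebraMap_smul E' ((t : B) * (t' : B)) (1 : Matrix (Fin n) (Fin n) E'), smul_smul, h3,
        one_smul]
    exact ⟨⟨_, _, hinv, mul_eq_one_comm.mp hinv⟩, rfl⟩
  · have h3 : lamE' a * a * (algebraMap B E') ((t : B) * (t : B)) = 1 := by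
      rw [map_mul, hla]
      calc a * a * (algebraMap B E' t * algebraMap B E' t) =
          (a * algebraMap B E' t) * (a * algebraMap B E' t) := by ring
        _ = 1 := by rw [ha, one_mul]
    have h4 : (a • V.map j').map lamE' = lamE' a • (V.map j').map lamE' := by
      ext i k
      simp
    rw [h4, Matrix.transpose_smul, Matrix.smul_mul, Matrix.smul_mul, Matrix.mul_smul, ← hVl', h2,
      smul_smul, ← algebraMap_smul E' ((t : B) * (t : B)) (h'N.map j'), smul_smul, h3, one_smul]

theorem HC.map {E₂ : Type w'} [CommRing E₂] [Algebra B E₂] (lamE : E →ₐ[B] E)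
    (lamE₂ : E₂ →ₐ[B] E₂) (φ : E →ₐ[B] E₂) (hφ : ∀ x, φ (lamE x) = lamE₂ (φ x))
    (hc : HC hN h'N j lamE) : HC hN h'N (φ.comp j) lamE₂ := by
  obtain ⟨v, hv, heq⟩ := hc
  refine ⟨v.map φ, ?_, ?_⟩
  · have := hv.map φ.mapMatrix
    rwa [AlgHom.mapMatrix_apply] at this
  · have h1 := congrArg (fun X : Matrix (Fin n) (Fin n) E => X.map φ) heq
    simp only [map_mul', Matrix.map_map, Matrix.transpose_map] at h1
    have h2 : (v.map (φ ∘ lamE)) = (v.map φ).map lamE₂ := by
      ext i k
      simp only [Matrix.map_apply, Function.comp_apply]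
      exact hφ _
    rw [← h2, ← Matrix.transpose_map]
    exact h1

end Abstract

end Groth.Agent.H7.HSpread
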