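import Mathlib
import Groth.Prelude.Def_W4c2azumayainvolQEt
import Groth.Agent.Lib.Helper7.HSpread
import Groth.Agent.Lib.Helper7.HModel
import Groth.Agent.Lib.Helper7.InnLoc

/-! Spreading hermitian congruence data from `B_p` to `B_b` (S17364). -/

set_option autoImplicit false
open scoped TensorProduct

namespace Groth.Agent.H7.HMain

open MvPolynomial HSpread HModel

universe u v w w'

section Tensor

variable {B : Type u} {A : Type v} [CommRing B] [CommRing A] [Algebra B A] (lam : A ≃ₐ[B] A)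
  {n : ℕ} (h h' : Matrix (Fin n) (Fin n) A)

/-- the involution on `C ⊗ A`. -/
noncomputable def lamT (C : Type w) [CommRing C] [Algebra B C] : C ⊗[B] A →ₐ[B] C ⊗[B] A :=
  Algebra.TensorProduct.map (AlgHom.id B C) (lam : A →ₐ[B] A)

theorem lamT_tmul (C : Type w) [CommRing C] [Algebra B C] (c : C) (x : A) :
    lamT lam C (c ⊗ₜ[B] x) = c ⊗ₜ[B] lam x := rfl

theorem coe_congr (C : Type w) [CommRing C] [Algebra B C] :
    ⇑(Algebra.TensorProduct.congr (AlgEquiv.refl : C ≃ₐ[C] C) lam) = ⇑(lamT lam C) := by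
  funext x
  induction x using TensorProduct.induction_on with
  | zero => simp
  | add x y hx hy => rw [map_add, map_add, hx, hy]
  | tmul c a => rfl

/-- the property in the statement. -/
def HCt (C : Type w) [CommRing C] [Algebra B C] : Prop :=
  ∃ v : Matrix (Fin n) (Fin n) (C ⊗[B] A), IsUnit v ∧
    (v.map (Algebra.TensorProduct.congr (AlgEquiv.refl : C ≃ₐ[C] C) lam)).transpose *
      h.map (Algebra.TensorProduct.includeRight : A →ₐ[B] C ⊗[B] A) * v =
      h'.map (Algebra.TensorProduct.includeRight : A →ₐ[B] C ⊗[B] A)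

theorem hct_iff (C : Type w) [CommRing C] [Algebra B C] :
    HCt lam h h' C ↔ HC h h' (Algebra.TensorProduct.includeRight : A →ₐ[B] C ⊗[B] A)
      (lamT lam C) := by
  unfold HCt HC
  rw [coe_congr]

variable (D : Type w) [CommRing D] [Algebra B D]

/-- the base-changed matrices over `D ⊗ A`. -/
noncomputable def hD (x : Matrix (Fin n) (Fin n) A) : Matrix (Fin n) (Fin n) (D ⊗[B] A) :=
  x.map (Algebra.TensorProduct.includeRight : A →ₐ[B] D ⊗[B] A)

/-- the map `D ⊗ A → C ⊗ A` induced by `ω : D → C`. -/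
noncomputable def jω {C : Type w'} [CommRing C] [Algebra B C] (ω : D →ₐ[B] C) :
    D ⊗[B] A →ₐ[B] C ⊗[B] A :=
  Algebra.TensorProduct.map ω (AlgHom.id B A)

theorem jω_tmul {C : Type w'} [CommRing C] [Algebra B C] (ω : D →ₐ[B] C) (d : D) (x : A) :
    jω D ω (d ⊗ₜ[B] x) = ω d ⊗ₜ[B] x := rfl

theorem jω_lamT {C : Type w'} [CommRing C] [Algebra B C] (ω : D →ₐ[B] C) (x : D ⊗[B] A) :
    lamT lam C (jω D ω x) = jω D ω (lamT lam D x) := by
  induction x using TensorProduct.induction_on with
  | zero => simp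
  | add x y hx hy => rw [map_add, map_add, hx, hy, map_add, map_add]
  | tmul d a => rfl

theorem hD_map {C : Type w'} [CommRing C] [Algebra B C] (ω : D →ₐ[B] C)
    (x : Matrix (Fin n) (Fin n) A) :
    (hD D x).map (jω D ω) = x.map (Algebra.TensorProduct.includeRight : A →ₐ[B] C ⊗[B] A) := by
  unfold hD
  rw [Matrix.map_map]
  congr 1
  funext y
  show jω D ω ((1 : D) ⊗ₜ[B] y) = (1 : C) ⊗ₜ[B] y
  rw [jω_tmul, map_one]

theorem hc_iff {C : Type w'} [CommRing C] [Algebra B C] (ω : D →ₐ[B] C) :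
    HC (hD D h) (hD D h') (jω D ω) (lamT lam C) ↔ HCt lam h h' C := by
  rw [hct_iff]
  unfold HC
  rw [hD_map, hD_map]

theorem HCt.map {C₁ : Type w} {C₂ : Type w'} [CommRing C₁] [Algebra B C₁] [CommRing C₂]
    [Algebra B C₂] (g : C₁ →ₐ[B] C₂) (hc : HCt lam h h' C₁) : HCt lam h h' C₂ := by
  rw [hct_iff] at hc ⊢
  have h1 := HC.map h h' _ (lamT lam C₁) (lamT lam C₂) (jω C₁ g) (fun x => (jω_lamT lam C₁ g x).symm) hc
  have h2 : (jω C₁ g).comp (Algebra.TensorProduct.includeRight : A →ₐ[B] C₁ ⊗[B] A) =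
      (Algebra.TensorProduct.includeRight : A →ₐ[B] C₂ ⊗[B] A) := by
    ext y
    show jω C₁ g ((1 : C₁) ⊗ₜ[B] y) = (1 : C₂) ⊗ₜ[B] y
    rw [jω_tmul, map_one]
  rw [h2] at h1
  exact h1

/-- `(B_p ⊗ D) ⊗ A` is the localization of `D ⊗ A`. -/
theorem isLocalizedModule_jω (p : Ideal B) [p.IsPrime] :
    IsLocalizedModule p.primeCompl
      (jω (A := A) D (Algebra.TensorProduct.includeRight :
        D →ₐ[B] Localization.AtPrime p ⊗[B] D)).toLinearMap := by
  haveI := InnLoc.isLocalizedModule_mk B (D ⊗[B] A) p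
  have h1 : (jω (A := A) D (Algebra.TensorProduct.includeRight :
        D →ₐ[B] Localization.AtPrime p ⊗[B] D)).toLinearMap =
      (TensorProduct.assoc B (Localization.AtPrime p) D A).symm.toLinearMap ∘ₗ
        (TensorProduct.mk B (Localization.AtPrime p) (D ⊗[B] A) 1) := by
    ext d x
    rfl
  rw [h1]
  infer_instance

end Tensor

section Main

variable {B : Type u} {A : Type v} [CommRing B] [CommRing A] [Algebra B A] (lam : A ≃ₐ[B] A)
  {n : ℕ} (h h' : Matrix (Fin n) (Fin n) A) (p : Ideal B) [p.IsPrime]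

theorem stepA (D : Type u) [CommRing D] [Algebra B D]
    (hc : HCt lam h h' (Localization.AtPrime p ⊗[B] D)) :
    ∃ c ∈ p.primeCompl, ∀ (C' : Type u) [CommRing C'] [Algebra B C'] (_ : D →ₐ[B] C'),
      IsUnit (algebraMap B C' c) → HCt lam h h' C' := by
  rw [← hc_iff lam h h' D (Algebra.TensorProduct.includeRight :
    D →ₐ[B] Localization.AtPrime p ⊗[B] D)] at hc
  haveI := isLocalizedModule_jω (A := A) D p
  obtain ⟨c, hcS, hc'⟩ := spread.{u, max u v, max u v, max u v} p.primeCompl (lamT lam D)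
    (hD D h) (hD D h') _ (lamT lam (Localization.AtPrime p ⊗[B] D))
    (fun x => jω_lamT lam D _ x) hc
  refine ⟨c, hcS, fun C' _ _ ω hu => ?_⟩
  apply (hc_iff lam h h' D ω).mp
  apply hc' (jω D ω) (lamT lam C') (fun x => jω_lamT lam D ω x)
  rw [Algebra.TensorProduct.algebraMap_apply]
  exact hu.map (Algebra.TensorProduct.includeLeft : C' →ₐ[B] C' ⊗[B] A)

section PSide

variable {l : ℕ} (s : Fin l → (Localization.AtPrime p)ˣ) (t a : Fin l → B)
  (hs : ∀ k, (s k : Localization.AtPrime p) * algebraMap B (Localization.AtPrime p) (t k) =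
    algebraMap B (Localization.AtPrime p) (a k))
  (ht : ∀ k, IsUnit (algebraMap B (Localization.AtPrime p) (t k)))

include hs ht in
theorem pSide (f : MvPolynomial (Fin l) (Localization.AtPrime p) ⧸ sqI s) (τ : B)
    (P : MvPolynomial (Fin l) B)
    (hf : f * Ideal.Quotient.mk _ (C (algebraMap B (Localization.AtPrime p) τ)) =
      Ideal.Quotient.mk _ (MvPolynomial.map (algebraMap B (Localization.AtPrime p)) P))
    (hv : HCt lam h h' (Localization.Away f)) :
    HCt lam h h' (Localization.AtPrime p ⊗[B]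
      Localization.Away (Ideal.Quotient.mk (relI t a) P)) := by
  have hu : IsUnit ((θ t a s hs ht (Localization.Away (Ideal.Quotient.mk (relI t a) P))).restrictScalars B f) :=
    θ_isUnit t a s hs ht _ f τ P hf (IsLocalization.Away.algebraMap_isUnit _)
  exact HCt.map lam h h' (IsLocalization.Away.liftAlgHom f hu) hv

include hs ht in
theorem spanAux {r : ℕ} (f : Fin r → MvPolynomial (Fin l) (Localization.AtPrime p) ⧸ sqI s)
    (τ : Fin r → B) (hτ : ∀ i, τ i ∉ p) (P : Fin r → MvPolynomial (Fin l) B)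
    (hP : ∀ i, f i * Ideal.Quotient.mk _ (C (algebraMap B (Localization.AtPrime p) (τ i))) =
      Ideal.Quotient.mk _ (MvPolynomial.map (algebraMap B (Localization.AtPrime p)) (P i)))
    (hspan : Ideal.span (Set.range f) = ⊤)
    (D : Type u) [CommRing D] [Algebra B D] [Algebra (G t a) D] [IsScalarTower B (G t a) D]
    (hD0 : ∀ i, algebraMap (G t a) D (Ideal.Quotient.mk (relI t a) (P i)) = 0) :
    ∃ c ∈ p.primeCompl, algebraMap B D c = 0 := by
  have hz : ∀ i, θ t a s hs ht D (f i) = 0 := by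
    intro i
    exact θ_eq_zero t a s hs ht _ (f i) (τ i)
      (IsLocalization.map_units (M := p.primeCompl) _ ⟨τ i, hτ i⟩) (P i) (hP i) (hD0 i)
  have hle : Ideal.span (Set.range f) ≤ RingHom.ker (θ t a s hs ht D).toRingHom := by
    rw [Ideal.span_le]
    rintro _ ⟨i, rfl⟩
    exact hz i
  have h1 : (1 : Localization.AtPrime p ⊗[B] D) = 0 := by
    have : (1 : MvPolynomial (Fin l) (Localization.AtPrime p) ⧸ sqI s) ∈
        Ideal.span (Set.range f) := by rw [hspan]; trivial
    have := hle this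
    rw [RingHom.mem_ker] at this
    simpa using this
  haveI := InnLoc.isLocalizedModule_mk B D p
  have h2 : TensorProduct.mk B (Localization.AtPrime p) D 1 (1 : D) =
      TensorProduct.mk B (Localization.AtPrime p) D 1 0 := by
    rw [map_zero]
    exact h1
  obtain ⟨c, hc⟩ := IsLocalizedModule.exists_of_eq (S := p.primeCompl) h2
  refine ⟨c.1, c.2, ?_⟩
  rw [smul_zero, Submonoid.smul_def] at hc
  rw [Algebra.algebraMap_eq_smul_one]
  exact hc

include hs ht in
theorem spanStep {r : ℕ} (f : Fin r → MvPolynomial (Fin l) (Localization.AtPrime p) ⧸ sqI s)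
    (τ : Fin r → B) (hτ : ∀ i, τ i ∉ p) (P : Fin r → MvPolynomial (Fin l) B)
    (hP : ∀ i, f i * Ideal.Quotient.mk _ (C (algebraMap B (Localization.AtPrime p) (τ i))) =
      Ideal.Quotient.mk _ (MvPolynomial.map (algebraMap B (Localization.AtPrime p)) (P i)))
    (hspan : Ideal.span (Set.range f) = ⊤) :
    ∃ c ∈ p.primeCompl, algebraMap B (G t a) c ∈
      Ideal.span (Set.range fun i => (Ideal.Quotient.mk (relI t a) (P i) : G t a)) := by
  obtain ⟨c, hcS, hc⟩ := spanAux p s t a hs ht f τ hτ P hP hspan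
    (G t a ⧸ Ideal.span (Set.range fun i => (Ideal.Quotient.mk (relI t a) (P i) : G t a)))
    (fun i => by
      show Ideal.Quotient.mk _ _ = 0
      rw [Ideal.Quotient.eq_zero_iff_mem]
      exact Ideal.subset_span ⟨i, rfl⟩)
  refine ⟨c, hcS, ?_⟩
  rw [← Ideal.Quotient.eq_zero_iff_mem]
  exact hc

end PSide

theorem main
    (hdata : ∃ (l : ℕ) (s : Fin l → (Localization.AtPrime p)ˣ) (r : ℕ)
      (f : Fin r → (MvPolynomial (Fin l) (Localization.AtPrime p) ⧸ sqI s)),
        Ideal.span (Set.range f) = ⊤ ∧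
        ∀ (i : Fin r) (C : Type u) [CommRing C] [Algebra B C]
          [Algebra (MvPolynomial (Fin l) (Localization.AtPrime p) ⧸ sqI s) C]
          [IsScalarTower B (MvPolynomial (Fin l) (Localization.AtPrime p) ⧸ sqI s) C]
          [IsLocalization.Away (f i) C], HCt lam h h' C) :
    ∃ b : B, b ∉ p ∧
      (∃ (l : ℕ) (s : Fin l → (Localization.Away b)ˣ) (r : ℕ)
        (f : Fin r → (MvPolynomial (Fin l) (Localization.Away b) ⧸ sqI s)),
        Ideal.span (Set.range f) = ⊤ ∧
        ∀ (i : Fin r) (C : Type u) [CommRing C] [Algebra B C]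
          [Algebra (MvPolynomial (Fin l) (Localization.Away b) ⧸ sqI s) C]
          [IsScalarTower B (MvPolynomial (Fin l) (Localization.Away b) ⧸ sqI s) C]
          [IsLocalization.Away (f i) C], HCt lam h h' C) := by
  obtain ⟨l, s, r, f, hspan, hv⟩ := hdata
  obtain ⟨t, a, htp, hap, hs⟩ := exists_lift_units p s
  obtain ⟨P, τ, hτ, hP⟩ := exists_lift_elems p s f
  have ht : ∀ k, IsUnit (algebraMap B (Localization.AtPrime p) (t k)) := fun k =>
    IsLocalization.map_units (M := p.primeCompl) _ ⟨t k, htp k⟩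
  have h1 : ∀ i, ∃ c ∈ p.primeCompl, ∀ (C' : Type u) [CommRing C'] [Algebra B C']
      (_ : Localization.Away (Ideal.Quotient.mk (relI t a) (P i)) →ₐ[B] C'),
      IsUnit (algebraMap B C' c) → HCt lam h h' C' := by
    intro i
    apply stepA
    apply pSide lam h h' p s t a hs ht (f i) (τ i) (P i) (hP i)
    exact hv i (Localization.Away (f i))
  choose c hcS hc using h1
  obtain ⟨c₀, hc₀S, hc₀⟩ := spanStep p s t a hs ht f τ hτ P hP hspan
  have hbp : ((∏ k, t k * a k) * c₀ * ∏ i, c i) ∉ p := by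
    intro hmem
    rcases (Ideal.IsPrime.mem_or_mem inferInstance hmem) with h2 | h2
    · rcases (Ideal.IsPrime.mem_or_mem inferInstance h2) with h3 | h3
      · rw [Ideal.IsPrime.prod_mem_iff] at h3
        obtain ⟨k, -, hk⟩ := h3
        rcases (Ideal.IsPrime.mem_or_mem inferInstance hk) with h4 | h4
        · exact htp k h4
        · exact hap k h4
      · exact hc₀S h3
    · rw [Ideal.IsPrime.prod_mem_iff] at h2
      obtain ⟨i, -, hi⟩ := h2
      exact hcS i hi
  set b : B := (∏ k, t k * a k) * c₀ * ∏ i, c i with hb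
  have hu : ∀ x : B, x ∣ b → IsUnit (algebraMap B (Localization.Away b) x) := fun x hx =>
    isUnit_of_dvd_unit (map_dvd _ hx) (IsLocalization.Away.algebraMap_isUnit b)
  have hdt : ∀ k, t k ∣ b := fun k =>
    Dvd.dvd.mul_right (Dvd.dvd.mul_right (Dvd.dvd.trans (Dvd.intro _ rfl)
      (Finset.dvd_prod_of_mem (fun k => t k * a k) (Finset.mem_univ k))) _) _
  have hda : ∀ k, a k ∣ b := fun k =>
    Dvd.dvd.mul_right (Dvd.dvd.mul_right (Dvd.dvd.trans (Dvd.intro_left _ rfl)
      (Finset.dvd_prod_of_mem (fun k => t k * a k) (Finset.mem_univ k))) _) _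
  have hdc₀ : c₀ ∣ b := Dvd.dvd.mul_right (Dvd.intro_left _ rfl) _
  have hdc : ∀ i, c i ∣ b := fun i =>
    Dvd.dvd.mul_left (Finset.dvd_prod_of_mem c (Finset.mem_univ i)) _
  let s' : Fin l → (Localization.Away b)ˣ := fun k =>
    (hu (a k) (hda k)).unit * (hu (t k) (hdt k)).unit⁻¹
  have hs' : ∀ k, (s' k : Localization.Away b) * algebraMap B (Localization.Away b) (t k) =
      algebraMap B (Localization.Away b) (a k) := by
    intro k
    show ((hu (a k) (hda k)).unit * (hu (t k) (hdt k)).unit⁻¹ : (Localization.Away b)ˣ).val *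
      algebraMap B (Localization.Away b) (t k) = _
    rw [Units.val_mul, mul_assoc]
    rw [IsUnit.val_inv_mul, mul_one]
    exact (hu (a k) (hda k)).unit_spec
  refine ⟨b, hbp, l, s', r, fun i => Ideal.Quotient.mk (sqI s')
    (MvPolynomial.map (algebraMap B (Localization.Away b)) (P i)), ?_, ?_⟩
  · have h2 := Ideal.mem_map_of_mem (χ t a s' hs').toRingHom hc₀
    rw [Ideal.map_span, ← Set.range_comp] at h2
    have h3 : ((χ t a s' hs').toRingHom ∘ fun i => (Ideal.Quotient.mk (relI t a) (P i) : G t a)) =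
        fun i => Ideal.Quotient.mk (sqI s')
          (MvPolynomial.map (algebraMap B (Localization.Away b)) (P i)) := by
      funext i
      exact χ_mk t a s' hs' (P i)
    rw [h3] at h2
    refine Ideal.eq_top_of_isUnit_mem _ h2 ?_
    show IsUnit ((χ t a s' hs') (algebraMap B (G t a) c₀))
    rw [AlgHom.commutes, IsScalarTower.algebraMap_apply B (Localization.Away b)
      (MvPolynomial (Fin l) (Localization.Away b) ⧸ sqI s')]
    exact (hu c₀ hdc₀).map _
  · intro i C' _ _ _ _ _
    have hunit : IsUnit (((IsScalarTower.toAlgHom B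
        (MvPolynomial (Fin l) (Localization.Away b) ⧸ sqI s') C').comp (χ t a s' hs'))
        (Ideal.Quotient.mk _ (P i))) := by
      rw [AlgHom.comp_apply, χ_mk]
      exact IsLocalization.Away.algebraMap_isUnit _
    refine hc i C' (IsLocalization.Away.liftAlgHom _ hunit) ?_
    rw [IsScalarTower.algebraMap_apply B (MvPolynomial (Fin l) (Localization.Away b) ⧸ sqI s') C',
      IsScalarTower.algebraMap_apply B (Localization.Away b)
        (MvPolynomial (Fin l) (Localization.Away b) ⧸ sqI s')]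
    exact ((hu (c i) (hdc i)).map _).map _

end Main

end Groth.Agent.H7.HMain
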