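import Mathlib
import Groth.Prelude.Def_HRes
import Groth.Agent.Lib.Helper7.EX6

set_option autoImplicit false

universe u

open CategoryTheory CategoryTheory.Limits Opposite AlgebraicGeometry Abelian

namespace Groth.Agent.H7.HR

variable (K : Precoverage Scheme.{u})

abbrev A' := AddCommGrpCat.{u + 1}

/-- The constant presheaf. -/
abbrev cP (S : Scheme.{u}) (M : AddCommGrpCat.{u + 1}) : (Over S)ᵒᵖ ⥤ AddCommGrpCat.{u + 1} :=
  (Functor.const _).obj M

lemma toSheafify_pullConst_inv {S T : Scheme.{u}} (f : T ⟶ S) (M : AddCommGrpCat.{u + 1}) :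
    toSheafify (QuotSh.J K T) (cP T M) ≫ (HRes.pullConst K f M).inv.hom =
      Functor.whiskerLeft (Over.map f).op (toSheafify (QuotSh.J K S) (cP S M)) :=
  Functor.toSheafify_pullbackSheafificationCompatibility (G := Over.map f)
    AddCommGrpCat.{u + 1} (QuotSh.J K T) (QuotSh.J K S) (cP S M)

lemma pullConst_id (S : Scheme.{u}) (M : AddCommGrpCat.{u + 1}) :
    (HRes.pullConst K (𝟙 S) M).inv ≫
      (K.toGrothendieck.overMapPullbackId AddCommGrpCat.{u + 1} S).hom.app
        ((constantSheaf (QuotSh.J K S) AddCommGrpCat.{u + 1}).obj M) = 𝟙 _ := by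
  apply Sheaf.hom_ext
  refine sheafify_hom_ext (QuotSh.J K S) _ _
    ((constantSheaf (QuotSh.J K S) AddCommGrpCat.{u + 1}).obj M).property ?_
  have h1 := toSheafify_pullConst_inv K (𝟙 S) M
  have h2 : Functor.whiskerLeft (Over.map (𝟙 S)).op (toSheafify (QuotSh.J K S) (cP S M)) ≫
      ((K.toGrothendieck.overMapPullbackId AddCommGrpCat.{u + 1} S).hom.app
        ((constantSheaf (QuotSh.J K S) AddCommGrpCat.{u + 1}).obj M)).hom =
      toSheafify (QuotSh.J K S) (cP S M) := by
    refine NatTrans.ext (funext fun U => ?_)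
    rw [NatTrans.comp_app, GrothendieckTopology.overMapPullbackId_hom_app_hom_app]
    exact ((toSheafify (QuotSh.J K S) (cP S M)).naturality
      ((Over.mapId S).inv.app (unop U)).op).symm.trans (Category.id_comp _)
  have key : toSheafify (QuotSh.J K S) (cP S M) ≫ (HRes.pullConst K (𝟙 S) M).inv.hom ≫
      ((K.toGrothendieck.overMapPullbackId AddCommGrpCat.{u + 1} S).hom.app
        ((constantSheaf (QuotSh.J K S) AddCommGrpCat.{u + 1}).obj M)).hom =
      toSheafify (QuotSh.J K S) (cP S M) :=
    (Category.assoc _ _ _).symm.trans ((congrArg (· ≫ _) h1).trans h2)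
  exact key.trans (Category.comp_id _).symm

open Groth.Agent.H7.EX

theorem S14708_main (S : Scheme.{u}) (F : BigSite.Ab K S) (n : ℕ) (x : BigSite.H K S F n) :
    Sheaf.H.map ((K.toGrothendieck.overMapPullbackId AddCommGrpCat.{u + 1} S).hom.app F) n
      (HRes.pull K (𝟙 S) F n x) = x := by
  rw [Sheaf.H.map_apply, HRes.pull_apply]
  exact restr_id (K.toGrothendieck.overMapPullbackId AddCommGrpCat.{u + 1} S)
    (HRes.pullConst K (𝟙 S) (AddCommGrpCat.of (ULift.{u + 1} ℤ)))
    (pullConst_id K S (AddCommGrpCat.of (ULift.{u + 1} ℤ))) x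

lemma pullConst_comp {S T T' : Scheme.{u}} (f : T ⟶ S) (g : T' ⟶ T) (M : AddCommGrpCat.{u + 1}) :
    (HRes.pullConst K (g ≫ f) M).inv =
      (HRes.pullConst K g M).inv ≫
        (BigSite.pullBig K g AddCommGrpCat.{u + 1}).map (HRes.pullConst K f M).inv ≫
          (K.toGrothendieck.overMapPullbackComp AddCommGrpCat.{u + 1} g f).hom.app
            ((constantSheaf (QuotSh.J K S) AddCommGrpCat.{u + 1}).obj M) := by
  apply Sheaf.hom_ext
  refine sheafify_hom_ext (QuotSh.J K T') _ _
    ((BigSite.pullBig K (g ≫ f) AddCommGrpCat.{u + 1}).obj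
      ((constantSheaf (QuotSh.J K S) AddCommGrpCat.{u + 1}).obj M)).property ?_
  have h1 := toSheafify_pullConst_inv K (g ≫ f) M
  have h2 := toSheafify_pullConst_inv K g M
  have h3 := toSheafify_pullConst_inv K f M
  have h4 : Functor.whiskerLeft (Over.map g).op (toSheafify (QuotSh.J K T) (cP T M)) ≫
      Functor.whiskerLeft (Over.map g).op (HRes.pullConst K f M).inv.hom =
      Functor.whiskerLeft (Over.map g).op
        (Functor.whiskerLeft (Over.map f).op (toSheafify (QuotSh.J K S) (cP S M))) := by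
    exact (Functor.whiskerLeft_comp _ _ _).symm.trans
      (congrArg (Functor.whiskerLeft (Over.map g).op) h3)
  have h5 : Functor.whiskerLeft (Over.map g).op
        (Functor.whiskerLeft (Over.map f).op (toSheafify (QuotSh.J K S) (cP S M))) ≫
      ((K.toGrothendieck.overMapPullbackComp AddCommGrpCat.{u + 1} g f).hom.app
        ((constantSheaf (QuotSh.J K S) AddCommGrpCat.{u + 1}).obj M)).hom =
      Functor.whiskerLeft (Over.map (g ≫ f)).op (toSheafify (QuotSh.J K S) (cP S M)) := by
    refine NatTrans.ext (funext fun U => ?_)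
    rw [NatTrans.comp_app, GrothendieckTopology.overMapPullbackComp_hom_app_hom_app]
    exact ((toSheafify (QuotSh.J K S) (cP S M)).naturality
      ((Over.mapComp g f).hom.app (unop U)).op).symm.trans (Category.id_comp _)
  refine h1.trans ?_
  have key : toSheafify (QuotSh.J K T') (cP T' M) ≫ (HRes.pullConst K g M).inv.hom ≫
      Functor.whiskerLeft (Over.map g).op (HRes.pullConst K f M).inv.hom ≫
      ((K.toGrothendieck.overMapPullbackComp AddCommGrpCat.{u + 1} g f).hom.app
        ((constantSheaf (QuotSh.J K S) AddCommGrpCat.{u + 1}).obj M)).hom =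
      Functor.whiskerLeft (Over.map (g ≫ f)).op (toSheafify (QuotSh.J K S) (cP S M)) :=
    (Category.assoc _ _ _).symm.trans ((congrArg (· ≫ _) h2).trans
      ((Category.assoc _ _ _).symm.trans ((congrArg (· ≫ _) h4).trans h5)))
  exact key.symm

theorem S14709_main {S T T' : Scheme.{u}} (f : T ⟶ S) (g : T' ⟶ T) (F : BigSite.Ab K S) (n : ℕ)
    (x : BigSite.H K S F n) :
    HRes.pull K (g ≫ f) F n x =
      Sheaf.H.map ((K.toGrothendieck.overMapPullbackComp AddCommGrpCat.{u + 1} g f).hom.app F) n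
        (HRes.pull K g ((BigSite.pullBig K f AddCommGrpCat.{u + 1}).obj F) n
          (HRes.pull K f F n x)) := by
  rw [Sheaf.H.map_apply, HRes.pull_apply, HRes.pull_apply, HRes.pull_apply]
  exact restr_comp (K.toGrothendieck.overMapPullbackComp AddCommGrpCat.{u + 1} g f)
    (HRes.pullConst K f (AddCommGrpCat.of (ULift.{u + 1} ℤ)))
    (HRes.pullConst K g (AddCommGrpCat.of (ULift.{u + 1} ℤ)))
    (HRes.pullConst K (g ≫ f) (AddCommGrpCat.of (ULift.{u + 1} ℤ)))
    (pullConst_comp K f g (AddCommGrpCat.of (ULift.{u + 1} ℤ))) x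

end Groth.Agent.H7.HR
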