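import Groth.Agent.Lib.Helper5.Geom.DiffExp
import Mathlib.RingTheory.Binomial

/-! Hasse derivatives and Laurent expansions (helper7). -/

set_option autoImplicit false
set_option linter.unusedSectionVars false

universe u v w

namespace Groth.Agent.H7.HasseExp

open FunFld LocRes LaurentSeries HahnSeries

section laurent

variable {R : Type*} [CommRing R]

/-- the coefficient of a product of Laurent series as a sum over an interval -/
theorem coeff_mul_Icc (x y : R⸨X⸩) (N L U : ℤ) (hL : ∀ b, b < L → x.coeff b = 0)
    (hU : ∀ b, U < b → y.coeff (N - b) = 0) :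
    (x * y).coeff N = ∑ b ∈ Finset.Icc L U, x.coeff b * y.coeff (N - b) := by
  rw [HahnSeries.coeff_mul]
  refine Finset.sum_of_injOn Prod.fst ?_ ?_ ?_ ?_
  · intro p hp q hq hpq
    rw [Finset.mem_coe, Finset.mem_addAntidiagonal] at hp hq
    refine Prod.ext hpq ?_
    have h1 := hp.2.2
    have h2 := hq.2.2
    rw [hpq] at h1
    omega
  · intro p hp
    rw [Finset.mem_coe, Finset.mem_addAntidiagonal] at hp
    rw [Finset.mem_coe, Finset.mem_Icc]
    constructor
    · by_contra hlt
      exact hp.1 (hL _ (not_le.1 hlt))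
    · by_contra hlt
      have := hU _ (not_le.1 hlt)
      have h2 : N - p.1 = p.2 := by have := hp.2.2; omega
      rw [h2] at this
      exact hp.2.1 this
  · intro b _ hb
    by_contra hne
    apply hb
    refine ⟨(b, N - b), ?_, rfl⟩
    rw [Finset.mem_coe, Finset.mem_addAntidiagonal]
    refine ⟨?_, ?_, by simp⟩
    · intro h0
      apply hne
      simp only [HahnSeries.mem_support, ne_eq, not_not] at h0
      rw [h0, zero_mul]
    · intro h0
      apply hne
      simp only [HahnSeries.mem_support, ne_eq, not_not] at h0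
      rw [h0, mul_zero]
  · intro p hp
    rw [Finset.mem_addAntidiagonal] at hp
    have h2 : N - p.1 = p.2 := by have := hp.2.2; omega
    rw [h2]

lemma coeff_eq_zero_of_lt_order' (x : R⸨X⸩) {b : ℤ} (hb : b < x.order) : x.coeff b = 0 :=
  HahnSeries.coeff_eq_zero_of_lt_order hb

/-- **Leibniz rule** for the Hasse derivatives of Laurent series. -/
theorem hasseDeriv_mul (n : ℕ) (f g : R⸨X⸩) :
    LaurentSeries.hasseDeriv R n (f * g) =
      ∑ ij ∈ Finset.HasAntidiagonal.antidiagonal n,
        LaurentSeries.hasseDeriv R ij.1 f * LaurentSeries.hasseDeriv R ij.2 g := by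
  ext m
  set L := f.order with hLdef
  set U := m + n - g.order with hUdef
  rw [LaurentSeries.hasseDeriv_coeff, HahnSeries.coeff_sum,
    coeff_mul_Icc f g (m + n) L U (fun b hb => coeff_eq_zero_of_lt_order' f hb)
      (fun b hb => coeff_eq_zero_of_lt_order' g (by omega))]
  have hterm : ∀ ij ∈ Finset.HasAntidiagonal.antidiagonal n,
      (LaurentSeries.hasseDeriv R ij.1 f * LaurentSeries.hasseDeriv R ij.2 g).coeff m =
        ∑ b ∈ Finset.Icc L U, (Ring.choose b ij.1 * Ring.choose (m + n - b) ij.2) •
          (f.coeff b * g.coeff (m + n - b)) := by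
    intro ij hij
    have hn : ij.1 + ij.2 = n := Finset.HasAntidiagonal.mem_antidiagonal.1 hij
    rw [coeff_mul_Icc _ _ m (L - ij.1) (U - ij.1)
      (fun b hb => by
        rw [LaurentSeries.hasseDeriv_coeff, coeff_eq_zero_of_lt_order' f (by omega), smul_zero])
      (fun b hb => by
        rw [LaurentSeries.hasseDeriv_coeff, coeff_eq_zero_of_lt_order' g (by omega), smul_zero])]
    refine Finset.sum_nbij' (fun b => b + ij.1) (fun b => b - ij.1) ?_ ?_ ?_ ?_ ?_
    · intro b hb
      rw [Finset.mem_Icc] at hb ⊢
      omega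
    · intro b hb
      rw [Finset.mem_Icc] at hb ⊢
      omega
    · intro b _; omega
    · intro b _; omega
    · intro b _
      rw [LaurentSeries.hasseDeriv_coeff, LaurentSeries.hasseDeriv_coeff]
      have h1 : m - b + (ij.2 : ℤ) = m + n - (b + ij.1) := by
        have : (n : ℤ) = ij.1 + ij.2 := by exact_mod_cast hn.symm
        omega
      rw [h1, smul_mul_smul_comm]
  rw [Finset.sum_congr rfl hterm, Finset.sum_comm, Finset.smul_sum]
  refine Finset.sum_congr rfl (fun b _ => ?_)
  rw [← Finset.sum_smul]
  congr 1
  have := Ring.add_choose_eq (r := b) (s := m + n - b) n (Commute.all _ _)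
  rw [← this]
  congr 1
  ring

end laurent

section main

variable {k : Type u} {K : Type v} [Field k] [Field K] [Algebra k K]
variable {F : Type w} [Field F] [Algebra k F]

/-- **S12583**: the expansion of the Hasse derivatives with respect to a local parameter. -/
theorem expansion_hasseD (hK : IsFunctionField k K) (hg : IsGeometric k K)
    (φ : K →ₐ[k] F⸨X⸩) {t : K} (ht : φ t = HahnSeries.single 1 1)
    {H : K →ₐ[k] PowerSeries K} (hH : IsHasseFamily t H) (n : ℕ) (x : K) :
    φ (hasseD H n x) = LaurentSeries.hasseDeriv F n (φ x) := by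
  induction n using Nat.strong_induction_on generalizing x with
  | _ n ih =>
  rcases Nat.eq_zero_or_pos n with rfl | hn
  · rw [hasseD_apply, PowerSeries.coeff_zero_eq_constantCoeff_apply, hH.2,
      LaurentSeries.hasseDeriv_zero]
    rfl
  -- the derivation
  have hsmulφ : ∀ (c : k) (y : K), φ (c • y) = c • φ y := fun c y => by
    rw [Algebra.smul_def, map_mul, LocRes.map_algebraMap, HahnSeries.C_mul_eq_smul,
      algebraMap_smul]
  have hsmulH : ∀ (c : k) (y : K), hasseD H n (c • y) = c • hasseD H n y := fun c y => by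
    rw [hasseD_apply, hasseD_apply, map_smul, PowerSeries.coeff_smul]
  have hsmuld : ∀ (c : k) (g : F⸨X⸩),
      LaurentSeries.hasseDeriv F n (c • g) = c • LaurentSeries.hasseDeriv F n g := fun c g => by
    rw [← algebraMap_smul F c g, map_smul, algebraMap_smul]
  letI := φ.toRingHom.toAlgebra
  haveI : IsScalarTower k K F⸨X⸩ := isScalarTower_exp φ
  let δlin : K →ₗ[k] F⸨X⸩ :=
    { toFun := fun y => φ (hasseD H n y) - LaurentSeries.hasseDeriv F n (φ y)
      map_add' := fun a b => by
        simp only [hasseD_apply, map_add]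
        abel
      map_smul' := fun c a => by
        simp only [RingHom.id_apply]
        rw [hsmulH, hsmulφ, hsmulφ, hsmuld, smul_sub] }
  have hδlin : ∀ y, δlin y = φ (hasseD H n y) - LaurentSeries.hasseDeriv F n (φ y) := fun y => rfl
  have h0H : ∀ y, hasseD H 0 y = y := fun y => by
    rw [hasseD_apply, PowerSeries.coeff_zero_eq_constantCoeff_apply, hH.2]
  have hleib : ∀ a b : K, δlin (a * b) = a • δlin b + b • δlin a := by
    intro a b
    have hsm : ∀ (c : K) (g : F⸨X⸩), c • g = φ c * g := fun c g => rfl
    rw [hδlin, hδlin, hδlin, hsm, hsm, hasseD_apply, map_mul, PowerSeries.coeff_mul, map_sum,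
      map_mul, hasseDeriv_mul, ← Finset.sum_sub_distrib]
    have hterm : ∀ ij ∈ Finset.HasAntidiagonal.antidiagonal n,
        φ ((PowerSeries.coeff ij.1) (H a) * (PowerSeries.coeff ij.2) (H b)) -
          (LaurentSeries.hasseDeriv F ij.1) (φ a) * (LaurentSeries.hasseDeriv F ij.2) (φ b) =
        (φ (hasseD H ij.1 a) - LaurentSeries.hasseDeriv F ij.1 (φ a)) * φ (hasseD H ij.2 b) +
          LaurentSeries.hasseDeriv F ij.1 (φ a) *
            (φ (hasseD H ij.2 b) - LaurentSeries.hasseDeriv F ij.2 (φ b)) := by
      intro ij _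
      rw [map_mul, hasseD_apply, hasseD_apply]
      ring
    rw [Finset.sum_congr rfl hterm, Finset.sum_add_distrib]
    have h1 : ∑ ij ∈ Finset.HasAntidiagonal.antidiagonal n,
        (φ (hasseD H ij.1 a) - LaurentSeries.hasseDeriv F ij.1 (φ a)) * φ (hasseD H ij.2 b) =
        (φ (hasseD H n a) - LaurentSeries.hasseDeriv F n (φ a)) * φ b := by
      rw [Finset.sum_eq_single (n, 0)]
      · rw [h0H]
      · intro ij hij hne
        have hsum : ij.1 + ij.2 = n := Finset.HasAntidiagonal.mem_antidiagonal.1 hij
        have hlt : ij.1 < n := by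
          rcases Nat.lt_or_ge ij.1 n with h | h
          · exact h
          · exfalso; apply hne; apply Prod.ext <;> simp <;> omega
        rw [ih ij.1 hlt, sub_self, zero_mul]
      · intro h
        exact absurd (Finset.HasAntidiagonal.mem_antidiagonal.2 (by simp)) h
    have h2 : ∑ ij ∈ Finset.HasAntidiagonal.antidiagonal n,
        LaurentSeries.hasseDeriv F ij.1 (φ a) *
          (φ (hasseD H ij.2 b) - LaurentSeries.hasseDeriv F ij.2 (φ b)) =
        φ a * (φ (hasseD H n b) - LaurentSeries.hasseDeriv F n (φ b)) := by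
      rw [Finset.sum_eq_single (0, n)]
      · rw [LaurentSeries.hasseDeriv_zero]; rfl
      · intro ij hij hne
        have hsum : ij.1 + ij.2 = n := Finset.HasAntidiagonal.mem_antidiagonal.1 hij
        have hlt : ij.2 < n := by
          rcases Nat.lt_or_ge ij.2 n with h | h
          · exact h
          · exfalso; apply hne; apply Prod.ext <;> simp <;> omega
        rw [ih ij.2 hlt, sub_self, mul_zero]
      · intro h
        exact absurd (Finset.HasAntidiagonal.mem_antidiagonal.2 (by simp)) h
    rw [h1, h2]
    ring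
  let δ : Derivation k K F⸨X⸩ := Derivation.mk' δlin hleib
  have hδt : δ t = 0 := by
    change δlin t = 0
    rw [hδlin, hasseD_apply, hH.1, ht, LaurentSeries.hasseDeriv_single, map_add,
      PowerSeries.coeff_C, if_neg hn.ne', zero_add, PowerSeries.coeff_X]
    have hc : Ring.choose (1 : ℤ) n = ((Nat.choose 1 n : ℕ) : ℤ) := by
      have := Ring.choose_natCast (R := ℤ) 1 n
      simpa using this
    rcases Nat.eq_or_lt_of_le (Nat.succ_le_of_lt hn) with h1 | h1
    · have h1' : n = 1 := h1.symm
      rw [if_pos h1', map_one, hc, h1']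
      simp
    · rw [if_neg (by omega), map_zero, hc, Nat.choose_eq_zero_of_lt h1]
      simp
  have hDt : KaehlerDifferential.D k K t ≠ 0 := by
    apply Geom.D_ne_zero_of_expansion φ
    rw [ht, LocRes.D_apply, LaurentSeries.derivative_apply, LaurentSeries.hasseDeriv_single]
    simp
  have hz := Geom.derivation_eq_zero hK hg hDt δ hδt
  have h2 : δ x = 0 := by rw [hz]; rfl
  exact sub_eq_zero.1 ((hδlin x).symm.trans h2)

end main

end Groth.Agent.H7.HasseExp
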