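import Mathlib

open CategoryTheory Category Limits Preadditive Pretriangulated Triangulated ZeroObject

namespace Groth.Agent.H7.Heart

universe v' u' v u

variable {C : Type u} [Category.{v} C] [Preadditive C] [HasZeroObject C] [HasShift C ℤ]
  [∀ n : ℤ, (shiftFunctor C n).Additive] [Pretriangulated C]
  (t : TStructure C) {H : Type u'} [Category.{v'} H] [Preadditive H] [t.Heart H]

lemma hι ⦃X Y : H⦄ ⦃n : ℤ⦄ (f : t.ιHeart.obj X ⟶ (t.ιHeart.obj Y)⟦n⟧) (hn : n < 0) :
    f = 0 := by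
  have : t.IsGE ((t.ιHeart.obj Y)⟦n⟧) (-n) := t.isGE_shift _ 0 n (-n) (by lia)
  exact t.zero f 0 (-n) (by lia)

lemma exists_preimage (Z : C) [t.IsLE Z 0] [t.IsGE Z 0] :
    ∃ (W : H), Nonempty (t.ιHeart.obj W ≅ Z) := by
  have h0 : t.heart Z := by
    rw [t.mem_heart_iff]; exact ⟨inferInstance, inferInstance⟩
  rw [← t.essImage_ιHeart H] at h0
  exact h0

include t in
lemma hasZeroObject : HasZeroObject H := by
  obtain ⟨Z, ⟨e⟩⟩ := exists_preimage t (H := H) (0 : C)
  refine ⟨Z, ?_⟩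
  rw [IsZero.iff_id_eq_zero]
  apply t.ιHeart.map_injective
  rw [CategoryTheory.Functor.map_id, Functor.map_zero]
  exact (IsZero.of_iso (isZero_zero C) e).eq_of_src _ _

include t in
lemma hasBinaryBiproduct (X Y : H) : HasBinaryBiproduct X Y := by
  have h1 : t.IsLE (t.ιHeart.obj X ⊞ t.ιHeart.obj Y) 0 :=
    t.isLE₂ _ (binaryBiproductTriangle_distinguished _ _) 0
      (by change t.IsLE (t.ιHeart.obj X) 0; infer_instance)
      (by change t.IsLE (t.ιHeart.obj Y) 0; infer_instance)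
  have h2 : t.IsGE (t.ιHeart.obj X ⊞ t.ιHeart.obj Y) 0 :=
    t.isGE₂ _ (binaryBiproductTriangle_distinguished _ _) 0
      (by change t.IsGE (t.ιHeart.obj X) 0; infer_instance)
      (by change t.IsGE (t.ιHeart.obj Y) 0; infer_instance)
  obtain ⟨Z, ⟨e⟩⟩ := exists_preimage t (H := H) (t.ιHeart.obj X ⊞ t.ιHeart.obj Y)
  refine HasBinaryBiproduct.mk ⟨
    { pt := Z
      fst := t.ιHeart.preimage (e.hom ≫ biprod.fst)
      snd := t.ιHeart.preimage (e.hom ≫ biprod.snd)
      inl := t.ιHeart.preimage (biprod.inl ≫ e.inv)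
      inr := t.ιHeart.preimage (biprod.inr ≫ e.inv)
      inl_fst := t.ιHeart.map_injective (by simp)
      inl_snd := t.ιHeart.map_injective (by simp)
      inr_fst := t.ιHeart.map_injective (by simp)
      inr_snd := t.ιHeart.map_injective (by simp) }, isBinaryBilimitOfTotal _ ?_⟩
  apply t.ιHeart.map_injective
  simp only [Functor.map_add, Functor.map_comp, Functor.map_preimage, Functor.map_id,
    assoc]
  rw [← cancel_epi e.inv, ← cancel_mono e.hom]
  simp only [comp_add, add_comp, assoc, e.inv_hom_id_assoc, e.inv_hom_id, comp_id, id_comp]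
  simp [biprod.total]

include t in
lemma hasFiniteProducts : HasFiniteProducts H := by
  haveI := hasZeroObject t (H := H)
  haveI : HasBinaryBiproducts H := ⟨fun X Y => hasBinaryBiproduct t X Y⟩
  exact hasFiniteProducts_of_has_binary_and_terminal

set_option backward.defeqAttrib.useBackward true in
set_option backward.isDefEq.respectTransparency false in
lemma admissible [IsTriangulated C] :
    AbelianSubcategory.admissibleMorphism (t.ιHeart (H := H)) = ⊤ := by
  ext X₁ X₂ f₁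
  simp only [MorphismProperty.top_apply, iff_true]
  intro X₃ f₂ f₃ hT
  have h1 : t.IsLE X₃ 0 := t.isLE₂ _ (rot_of_distTriang _ hT) 0
    (by change t.IsLE (t.ιHeart.obj X₂) 0; infer_instance)
    (by
      change t.IsLE ((t.ιHeart.obj X₁)⟦(1 : ℤ)⟧) 0
      have := t.isLE_shift (t.ιHeart.obj X₁) 0 1 (-1) (by lia)
      exact t.isLE_of_le _ (-1) 0 (by lia))
  have h2 : t.IsGE X₃ (-1) := t.isGE₂ _ (rot_of_distTriang _ hT) (-1)
    (by change t.IsGE (t.ιHeart.obj X₂) (-1); exact t.isGE_of_ge _ (-1) 0 (by lia))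
    (by change t.IsGE ((t.ιHeart.obj X₁)⟦(1 : ℤ)⟧) (-1); exact t.isGE_shift _ 0 1 (-1) (by lia))
  have h3 : t.IsLE ((t.truncLT 0).obj X₃) (-1) := t.isLE_truncLT_obj X₃ 0 (-1) (by lia)
  have h4 : t.IsLE (((t.truncLT 0).obj X₃)⟦(-1 : ℤ)⟧) 0 := t.isLE_shift _ (-1) (-1) 0 (by lia)
  have h5 : t.IsGE (((t.truncLT 0).obj X₃)⟦(-1 : ℤ)⟧) 0 := t.isGE_shift _ (-1) (-1) 0 (by lia)
  obtain ⟨K, ⟨eK⟩⟩ := exists_preimage t (H := H) (((t.truncLT 0).obj X₃)⟦(-1 : ℤ)⟧)
  obtain ⟨Q, ⟨eQ⟩⟩ := exists_preimage t (H := H) ((t.truncGE 0).obj X₃)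
  let eA : (t.ιHeart.obj K)⟦(1 : ℤ)⟧ ≅ (t.truncLT 0).obj X₃ :=
    (shiftFunctor C (1 : ℤ)).mapIso eK ≪≫ (shiftEquiv C (1 : ℤ)).counitIso.app _
  refine ⟨K, Q, eA.hom ≫ (t.truncLTι 0).app X₃, (t.truncGEπ 0).app X₃ ≫ eQ.inv,
    eQ.hom ≫ (t.truncGEδLT 0).app X₃ ≫ eA.inv⟦(1 : ℤ)⟧', ?_⟩
  refine isomorphic_distinguished _ (t.triangleLTGE_distinguished 0 X₃) _ ?_
  refine Triangle.isoMk _ _ eA (Iso.refl _) eQ ?_ ?_ ?_
  · dsimp
    simp
  · dsimp
    simp
  · dsimp
    simp

include t in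
theorem S11520_main [IsTriangulated C] :
    ∃ a : Abelian H, @Abelian.toPreadditive H _ a = ‹Preadditive H› := by
  haveI := hasFiniteProducts t (H := H)
  exact ⟨AbelianSubcategory.abelian (t.ιHeart (H := H)) (hι t) (admissible t), rfl⟩

end Groth.Agent.H7.Heart

namespace Groth.Agent.H7.Heart

universe v' u' v u

variable {C : Type u} [Category.{v} C] [Preadditive C] [HasZeroObject C] [HasShift C ℤ]
  [∀ n : ℤ, (shiftFunctor C n).Additive] [Pretriangulated C] [IsTriangulated C]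
  (t : TStructure C) {H : Type u'} [Category.{v'} H] [Abelian H] [t.Heart H]

set_option backward.defeqAttrib.useBackward true in
set_option backward.isDefEq.respectTransparency false in
theorem S11521_main {X Y Z : H} (u : X ⟶ Y) (v : Y ⟶ Z) :
    (∃ huv : u ≫ v = 0, (ShortComplex.mk u v huv).ShortExact) ↔
      ∃ (w : t.ιHeart.obj Z ⟶ (t.ιHeart.obj X)⟦(1 : ℤ)⟧),
        Triangle.mk (t.ιHeart.map u) (t.ιHeart.map v) w ∈ distTriang C := by
  constructor
  · rintro ⟨huv, hS⟩
    haveI : Epi v := hS.epi_g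
    obtain ⟨X₁, i, δ, hT⟩ := AbelianSubcategory.exists_distinguished_triangle_of_epi
      (hι t) (admissible t) v
    have hlim := AbelianSubcategory.isLimitKernelForkOfDistTriang (hι t) i v δ hT
    have hlim' : IsLimit (KernelFork.ofι u huv) := hS.fIsKernel
    let e : X ≅ X₁ := IsLimit.conePointUniqueUpToIso hlim' hlim
    have he : e.hom ≫ i = u :=
      IsLimit.conePointUniqueUpToIso_hom_comp hlim' hlim WalkingParallelPair.zero
    refine ⟨δ ≫ (t.ιHeart.map e.inv)⟦(1 : ℤ)⟧', ?_⟩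
    refine isomorphic_distinguished _ hT _ ?_
    refine Triangle.isoMk _ _ (t.ιHeart.mapIso e) (Iso.refl _) (Iso.refl _) ?_ ?_ ?_
    · dsimp
      rw [comp_id, ← Functor.map_comp, he]
    · dsimp
      simp
    · dsimp
      rw [id_comp, assoc, ← Functor.map_comp, ← Functor.map_comp, e.inv_hom_id,
        CategoryTheory.Functor.map_id, CategoryTheory.Functor.map_id, comp_id]
  · rintro ⟨w, hT⟩
    have hlim := AbelianSubcategory.isLimitKernelForkOfDistTriang (hι t) u v w hT
    have hcolim := AbelianSubcategory.isColimitCokernelCoforkOfDistTriang (hι t) u v w hT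
    have huv : u ≫ v = 0 := t.ιHeart.map_injective (by
      have := comp_distTriang_mor_zero₁₂ _ hT
      dsimp at this
      rw [Functor.map_comp, this, Functor.map_zero])
    refine ⟨huv, ?_⟩
    haveI : Mono u := mono_of_isLimit_fork hlim
    haveI : Epi v := epi_of_isColimit_cofork hcolim
    exact { exact := ShortComplex.exact_of_f_is_kernel _ hlim }

end Groth.Agent.H7.Heart
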