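import Groth.Agent.Lib.Helper5.FunFld.Galois2
import Mathlib.FieldTheory.AlgebraicClosure

/-! Weak versions (no hypothesis on the constant field) of the fundamental identity
`∑ e f = n` and of `|D| deg P = e deg Q` (helper7). -/

set_option autoImplicit false
set_option linter.unusedSectionVars false

namespace Groth.Agent.H7.Hil

open FunFld WithZero

section const

variable {k K : Type*} [Field k] [Field K] [Algebra k K]

/-- The exact constant field of a weak function field makes it a function field. -/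
theorem isFunctionField_algebraicClosure (hK : IsFF1 k K) :
    IsFunctionField (algebraicClosure k K) K := by
  have h1 : IsFF1 (algebraicClosure k K) K := by
    refine IsFF1.of_trdeg_essFiniteType ?_ ?_
    · have h1 : Algebra.trdeg k (algebraicClosure k K) = 0 := trdeg_eq_zero
      have h2 := lift_trdeg_add_eq k (algebraicClosure k K) K
      rw [h1, hK.trdeg_eq_one] at h2
      simp only [Cardinal.lift_one, Cardinal.lift_zero, zero_add] at h2
      have h3 : Cardinal.lift.{u_2} (Algebra.trdeg (algebraicClosure k K) K) =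
          Cardinal.lift.{u_2} 1 := by
        rw [h2]; simp
      exact Cardinal.lift_injective h3
    · have := hK.essFiniteType
      exact Algebra.EssFiniteType.of_comp k (algebraicClosure k K) K
  refine ⟨h1, fun y hy => ?_⟩
  have hy' : IsAlgebraic k y := hy.restrictScalars k
  exact ⟨⟨y, mem_algebraicClosure_iff.2 hy'⟩, rfl⟩

/-- A place over `k` is a place over the constant field. -/
def placeUp (P : Place k K) : Place (algebraicClosure k K) K :=
  ⟨P.1, by
    refine ⟨fun c => ?_, P.2.2⟩
    by_cases hc : (algebraMap (algebraicClosure k K) K c) = 0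
    · rw [hc, map_zero]; exact zero_le_one
    · exact (v_eq_one_of_isAlgebraic P.1 P.2.1 hc (mem_algebraicClosure_iff.1 c.2)).le⟩

/-- A place over the constant field is a place over `k`. -/
def placeDown (P : Place (algebraicClosure k K) K) : Place k K :=
  ⟨P.1, by
    refine ⟨fun c => ?_, P.2.2⟩
    have := P.2.1 (algebraMap k (algebraicClosure k K) c)
    rwa [← IsScalarTower.algebraMap_apply] at this⟩

/-- In a weak function field, every place is the only zero of some function. -/
theorem exists_zero_only (hK : IsFF1 k K) (P : Place k K) :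
    ∃ x : K, Transcendental k x ∧ P.1 x < 1 ∧ ∀ Q : Place k K, Q.1 x < 1 → Q = P := by
  obtain ⟨x, hx, hxP, honly⟩ := FunFld.exists_zero_only (isFunctionField_algebraicClosure hK)
    (placeUp P)
  refine ⟨x, hx.of_tower_top k, hxP, fun Q hQ => ?_⟩
  have := honly (placeUp Q) hQ
  have h2 : (placeUp Q).1 = (placeUp P).1 := by rw [this]
  exact Subtype.ext h2

end const

variable {k K K' : Type*} [Field k] [Field K] [Field K'] [Algebra k K] [Algebra K K'] [Algebra k K']
  [IsScalarTower k K K'] [FiniteDimensional K K']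

/-- **Fundamental identity** `∑_{Q | P} e(Q|P) deg Q = [K' : K] deg P`, no hypothesis on
constants. -/
theorem sum_ramIdx_mul_deg (hK : IsFF1 k K) (P : Place k K)
    (Qs : Finset (Place k K')) (hQs : ∀ Q, Q ∈ Qs ↔ IsOver Q P) :
    ∑ Q ∈ Qs, ramIdx Q P * Q.deg = Module.finrank K K' * P.deg := by
  classical
  obtain ⟨x, hxtr, hxP, honly⟩ := exists_zero_only hK P
  have hK' : IsFF1 k K' := hK.of_finite
  have hx0 : x ≠ 0 := by rintro rfl; exact hxtr isAlgebraic_zero
  have hx'tr := transcendental_algebraMap (K' := K') hxtr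
  have hS' : ∀ Q : Place k K', Q ∈ Qs ↔ Q.1 (algebraMap K K' x) < 1 := fun Q => by
    rw [hQs, isOver_iff_of_zero_only hK hxP honly]
  have h1 := W.sum_ord_mul_deg_zeros hK' hx'tr Qs hS'
  have hS : ∀ Q : Place k K, Q ∈ ({P} : Finset (Place k K)) ↔ Q.1 x < 1 := by
    intro Q
    rw [Finset.mem_singleton]
    constructor
    · rintro rfl; exact hxP
    · exact honly Q
  have h2 := W.sum_ord_mul_deg_zeros hK hxtr {P} hS
  rw [Finset.sum_singleton] at h2
  rw [finrank_adjoin_algebraMap, Nat.cast_mul, ← h2] at h1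
  have hr : 0 < P.ord x := (P.v_lt_one_iff hx0).1 hxP
  have h3 : ∑ Q ∈ Qs, Q.ord (algebraMap K K' x) * (Q.deg : ℤ) =
      P.ord x * ((∑ Q ∈ Qs, ramIdx Q P * Q.deg : ℕ) : ℤ) := by
    push_cast
    rw [Finset.mul_sum]
    refine Finset.sum_congr rfl (fun Q hQ => ?_)
    rw [((hQs Q).1 hQ).isOverWith.ord_eq]
    ring
  rw [h3] at h1
  have h4 : ((∑ Q ∈ Qs, ramIdx Q P * Q.deg : ℕ) : ℤ) = ((Module.finrank K K' * P.deg : ℕ) : ℤ) := by
    have : P.ord x * ((∑ Q ∈ Qs, ramIdx Q P * Q.deg : ℕ) : ℤ) =
        P.ord x * ((Module.finrank K K' * P.deg : ℕ) : ℤ) := by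
      rw [h1]; push_cast; ring
    exact mul_left_cancel₀ hr.ne' this
  exact_mod_cast h4

theorem card_decomposition_mul_deg [IsGalois K K'] (hK : IsFF1 k K) {Q : Place k K'}
    {P : Place k K} {e : ℕ} (h : IsOverWith Q P e) :
    Nat.card (Q.O.decompositionSubgroup K) * P.deg = e * Q.deg := by
  classical
  have hfin := finite_isOver (K' := K') hK P
  have h1 := sum_ramIdx_mul_deg hK P hfin.toFinset (fun Q' => by
    rw [Set.Finite.mem_toFinset, Set.mem_ofPred_eq])
  have h2 : ∑ Q' ∈ hfin.toFinset, ramIdx Q' P * Q'.deg = hfin.toFinset.card * (e * Q.deg) := by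
    rw [Finset.sum_const_nat]
    intro Q' hQ'
    rw [Set.Finite.mem_toFinset, Set.mem_ofPred_eq] at hQ'
    obtain ⟨h3, h4⟩ := h.of_isOver hQ'
    rw [h3.ramIdx_eq, h4]
  have h3 := card_isOver_mul_card_decomposition (K := K) ⟨e, h⟩
  have h4 : Nat.card {Q' : Place k K' // IsOver Q' P} = hfin.toFinset.card := by
    rw [← Set.ncard_eq_toFinset_card _ hfin]
    exact Nat.card_coe_set_eq {Q' : Place k K' | IsOver Q' P}
  rw [h4] at h3
  rw [h2, ← h3] at h1
  have hpos : 0 < hfin.toFinset.card := by
    rw [Finset.card_pos]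
    exact ⟨Q, by rw [Set.Finite.mem_toFinset]; exact ⟨e, h⟩⟩
  have : hfin.toFinset.card * (e * Q.deg) =
      hfin.toFinset.card * (Nat.card (Q.O.decompositionSubgroup K) * P.deg) := by
    rw [h1]; ring
  exact (Nat.eq_of_mul_eq_mul_left hpos this).symm

end Groth.Agent.H7.Hil
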