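import Groth.Agent.Lib.Helper7.Hil1

/-! Hilbert's theory: inertia groups of intermediate fields, the inertia field (helper7). -/

set_option autoImplicit false
set_option linter.unusedSectionVars false

attribute [-instance] IsLocalRing.instModuleResidueFieldOfAlgebra

namespace Groth.Agent.H7.Hil

open FunFld WithZero Polynomial

section general

variable {k F L : Type*} [Field k] [Field F] [Field L] [Algebra k F] [Algebra F L] [Algebra k L]
  [IsScalarTower k F L] (Q : Place k L)

/-- `σ` acts trivially on the residue field of `Q`. -/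
def InI (σ : L → L) : Prop := ∀ y, Q.1 y ≤ 1 → Q.1 (σ y - y) < 1

variable {Q}

lemma mem_decomposition_of_inI {σ : L ≃ₐ[F] L} (h : InI Q σ) :
    σ ∈ Q.O.decompositionSubgroup F := by
  rw [mem_decompositionSubgroup_iff]
  symm
  apply Place.eq_of_O_le
  intro y hy
  rw [Place.conj_apply]
  have : σ y = (σ y - y) + y := by ring
  rw [this]
  exact (Q.1.map_add _ _).trans (max_le (h y hy).le hy)

lemma mem_inertia_iff (σ : Q.O.decompositionSubgroup F) :
    σ ∈ Q.O.inertiaSubgroup F ↔ InI Q (σ : L ≃ₐ[F] L) := by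
  unfold ValuationSubring.inertiaSubgroup
  rw [MonoidHom.mem_ker]
  constructor
  · intro h y hy
    have h1 := RingEquiv.congr_fun h (IsLocalRing.residue Q.O ⟨y, Q.mem_O_iff.2 hy⟩)
    change σ • IsLocalRing.residue Q.O ⟨y, Q.mem_O_iff.2 hy⟩ = _ at h1
    rw [← IsLocalRing.ResidueField.residue_smul] at h1
    change IsLocalRing.residue Q.O _ = IsLocalRing.residue Q.O _ at h1
    rw [← sub_eq_zero, ← map_sub, IsLocalRing.residue_eq_zero_iff,
      Place.mem_maximalIdeal_iff] at h1
    exact h1
  · intro h
    ext x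
    obtain ⟨y, rfl⟩ := IsLocalRing.residue_surjective x
    change σ • IsLocalRing.residue Q.O y = IsLocalRing.residue Q.O y
    rw [← IsLocalRing.ResidueField.residue_smul, ← sub_eq_zero, ← map_sub,
      IsLocalRing.residue_eq_zero_iff, Place.mem_maximalIdeal_iff]
    exact h y (Q.mem_O_iff.1 y.2)

lemma mem_map_inertia_iff (σ : L ≃ₐ[F] L) :
    σ ∈ (Q.O.inertiaSubgroup F).map (Q.O.decompositionSubgroup F).subtype ↔ InI Q σ := by
  constructor
  · rintro ⟨τ, hτ, rfl⟩
    exact (mem_inertia_iff τ).1 hτ
  · intro h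
    exact ⟨⟨σ, mem_decomposition_of_inI h⟩, (mem_inertia_iff _).2 h, rfl⟩

/-- The inertia group as a subtype. -/
noncomputable def inertiaEquivSubtype :
    (Q.O.inertiaSubgroup F) ≃ {τ : L ≃ₐ[F] L // InI Q τ} where
  toFun τ := ⟨τ.1.1, (mem_inertia_iff τ.1).1 τ.2⟩
  invFun τ := ⟨⟨τ.1, mem_decomposition_of_inI τ.2⟩, (mem_inertia_iff _).2 τ.2⟩
  left_inv τ := rfl
  right_inv τ := rfl

lemma card_map_inertia :
    Nat.card ((Q.O.inertiaSubgroup F).map (Q.O.decompositionSubgroup F).subtype) =
      Nat.card (Q.O.inertiaSubgroup F) :=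
  Nat.card_congr (Subgroup.equivMapOfInjective _ _ (Subgroup.subtype_injective _)).symm.toEquiv

end general

variable {k K K' : Type*} [Field k] [Field K] [Field K'] [Algebra k K] [Algebra K K'] [Algebra k K']
  [IsScalarTower k K K'] {Q : Place k K'}

instance isScalarTower_base (E : IntermediateField K K') : IsScalarTower k E K' :=
  IsScalarTower.of_algebraMap_eq (fun _ => rfl)

/-- automorphisms over `E` vs automorphisms over `K` fixing `E`. -/
noncomputable def inIEquiv (E : IntermediateField K K') :
    {τ : K' ≃ₐ[E] K' // InI Q τ} ≃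
      {σ : K' ≃ₐ[K] K' // InI Q σ ∧ σ ∈ E.fixingSubgroup} where
  toFun τ := ⟨τ.1.restrictScalars K, τ.2, by
    rw [IntermediateField.mem_fixingSubgroup_iff]
    intro x hx
    exact τ.1.commutes ⟨x, hx⟩⟩
  invFun σ := ⟨AlgEquiv.ofRingEquiv (f := σ.1.toRingEquiv) (fun x =>
      (IntermediateField.mem_fixingSubgroup_iff _ _).1 σ.2.2 x x.2), σ.2.1⟩
  left_inv τ := by ext x; rfl
  right_inv σ := by ext x; rfl

/-- The inertia group of `Q` over an intermediate field `E` is `I ∩ Gal(K'/E)`. -/
theorem card_inertia_intermediate (E : IntermediateField K K') :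
    Nat.card (Q.O.inertiaSubgroup E) =
      Nat.card ↥(((Q.O.inertiaSubgroup K).map (Q.O.decompositionSubgroup K).subtype) ⊓
        E.fixingSubgroup) := by
  refine (Nat.card_congr ((inertiaEquivSubtype (F := ↥E) (Q := Q)).trans (inIEquiv E))).trans ?_
  refine Nat.card_congr (Equiv.subtypeEquivRight (fun σ => ?_))
  rw [Subgroup.mem_inf, mem_map_inertia_iff]

section galois

variable [FiniteDimensional K K'] [IsGalois K K']

/-- The ramification index of `Q` over an intermediate field `E` is `|I ∩ Gal(K'/E)|`. -/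
theorem exists_place_intermediate (hK : IsFF1 k K)
    [Algebra.IsSeparable k (IsLocalRing.ResidueField Q.O)] (E : IntermediateField K K') :
    ∃ (QE : Place k E) (eE : ℕ), IsOverWith Q QE eE ∧
      eE = Nat.card ↥(((Q.O.inertiaSubgroup K).map (Q.O.decompositionSubgroup K).subtype) ⊓
        E.fixingSubgroup) := by
  have hE : IsFF1 k E := hK.of_finite
  obtain ⟨QE, eE, he⟩ := exists_isOverWith hE Q
  refine ⟨QE, eE, he, ?_⟩
  rw [← card_inertia_intermediate E]
  exact (card_inertia hE he).symm

/-- `K'` is totally ramified at `Q` over the inertia field. -/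
theorem totallyRamified_inertiaField (hK : IsFF1 k K)
    [Algebra.IsSeparable k (IsLocalRing.ResidueField Q.O)] :
    ∃ Q₁ : Place k (IntermediateField.fixedField
        ((Q.O.inertiaSubgroup K).map (Q.O.decompositionSubgroup K).subtype)),
      IsOverWith Q Q₁ (Module.finrank (IntermediateField.fixedField
        ((Q.O.inertiaSubgroup K).map (Q.O.decompositionSubgroup K).subtype)) K') := by
  obtain ⟨Q₁, e₁, he, hcard⟩ := exists_place_intermediate (Q := Q) hK
    (IntermediateField.fixedField
        ((Q.O.inertiaSubgroup K).map (Q.O.decompositionSubgroup K).subtype))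
  refine ⟨Q₁, ?_⟩
  rw [IntermediateField.fixingSubgroup_fixedField, inf_idem] at hcard
  rw [IntermediateField.finrank_fixedField_eq_card, ← hcard]
  exact he

end galois

end Groth.Agent.H7.Hil
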