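import Groth.Agent.Lib.Helper7.Hil2

/-! Hilbert's theory: unramified ⟺ contained in the inertia field (helper7). -/

set_option autoImplicit false
set_option linter.unusedSectionVars false

attribute [-instance] IsLocalRing.instModuleResidueFieldOfAlgebra

namespace Groth.Agent.H7.Hil

open FunFld WithZero Polynomial

lemma pow_range_dvd {e e' : ℕ} 
    (h : Set.range (fun γ : WithZero (Multiplicative ℤ) => γ ^ e) =
      Set.range (fun γ : WithZero (Multiplicative ℤ) => γ ^ e')) : e' ∣ e := by
  by_cases he' : e' = 0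
  · subst he'
    have h1 : (exp (-1 : ℤ)) ^ e ∈ Set.range (fun γ : WithZero (Multiplicative ℤ) => γ ^ 0) := by
      rw [← h]; exact ⟨_, rfl⟩
    obtain ⟨γ, hγ⟩ := h1
    simp only [pow_zero] at hγ
    rw [← exp_nsmul, ← exp_zero, exp_inj] at hγ
    simp only [nsmul_eq_mul, mul_neg, mul_one] at hγ
    have : e = 0 := by omega
    rw [this]
  have h1 : (exp (-1 : ℤ)) ^ e ∈ Set.range (fun γ : WithZero (Multiplicative ℤ) => γ ^ e') := by
    rw [← h]; exact ⟨_, rfl⟩
  obtain ⟨γ, hγ⟩ := h1
  have hγ0 : γ ≠ 0 := by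
    rintro rfl
    simp only [zero_pow he'] at hγ
    exact pow_ne_zero e exp_ne_zero hγ.symm
  rw [← exp_log hγ0] at hγ
  simp only at hγ
  rw [← exp_nsmul, ← exp_nsmul, exp_inj] at hγ
  simp only [nsmul_eq_mul, mul_neg, mul_one] at hγ
  have h2 : (e' : ℤ) ∣ (e : ℤ) := ⟨-log γ, by linarith⟩
  exact Int.natCast_dvd_natCast.1 h2

lemma pow_range_inj {e e' : ℕ}
    (h : Set.range (fun γ : WithZero (Multiplicative ℤ) => γ ^ e) =
      Set.range (fun γ : WithZero (Multiplicative ℤ) => γ ^ e')) : e = e' :=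
  Nat.dvd_antisymm (pow_range_dvd h.symm) (pow_range_dvd h)

variable {k K K' : Type*} [Field k] [Field K] [Field K'] [Algebra k K] [Algebra K K'] [Algebra k K']
  {Q : Place k K'}

lemma range_comap_eq {P : Place k K} {e : ℕ} (he : IsOverWith Q P e) :
    Set.range (Q.1.comap (algebraMap K K')) =
      Set.range (fun γ : WithZero (Multiplicative ℤ) => γ ^ e) := by
  ext γ
  constructor
  · rintro ⟨x, hx⟩
    rw [Valuation.comap_apply, he x] at hx
    exact ⟨P.1 x, hx⟩
  · rintro ⟨δ, hδ⟩
    obtain ⟨x, hx⟩ := P.2.2 δ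
    refine ⟨x, ?_⟩
    rw [Valuation.comap_apply, he x, hx]
    exact hδ

variable [IsScalarTower k K K'] [FiniteDimensional K K'] [IsGalois K K']

/-- `e(Q ∩ E | Q ∩ K) = 1` iff `E` is contained in the inertia field. -/
theorem unramified_iff_le_inertiaField (hK : IsFF1 k K)
    [Algebra.IsSeparable k (IsLocalRing.ResidueField Q.O)] (E : IntermediateField K K') :
    Set.range (Q.1.comap (algebraMap E K')) = Set.range (Q.1.comap (algebraMap K K')) ↔
      E ≤ IntermediateField.fixedField
        ((Q.O.inertiaSubgroup K).map (Q.O.decompositionSubgroup K).subtype) := by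
  obtain ⟨P, e, he⟩ := exists_isOverWith hK Q
  obtain ⟨QE, eE, heE, hcard⟩ := exists_place_intermediate (Q := Q) hK E
  have hcardI := card_inertia hK he
  rw [← card_map_inertia] at hcardI
  rw [range_comap_eq he, range_comap_eq heE, IntermediateField.le_iff_le]
  constructor
  · intro h
    have h1 := pow_range_inj h
    rw [← inf_eq_left]
    refine Subgroup.eq_of_le_of_card_ge inf_le_left ?_
    rw [hcardI, ← hcard, h1]
  · intro h
    rw [inf_eq_left.2 h, hcardI] at hcard
    rw [hcard]

end Groth.Agent.H7.Hil
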