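import Mathlib
import Groth.Prelude.Def_HilbD

set_option autoImplicit false
open CategoryTheory CategoryTheory.Limits AlgebraicGeometry
universe u

namespace Groth.Agent.H7.Hilb1

variable {X S : Scheme.{u}} (f : X ⟶ S)

/-- graph of a section -/
noncomputable def graph (T : Over S) (x : T.left ⟶ X) (hx : x ≫ f = T.hom) :
    T.left ⟶ PicF.XT f T :=
  pullback.lift x (𝟙 T.left) (by simpa using hx)

@[reassoc (attr := simp)]
lemma graph_fst (T : Over S) (x : T.left ⟶ X) (hx : x ≫ f = T.hom) :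
    graph f T x hx ≫ pullback.fst f T.hom = x := pullback.lift_fst _ _ _

@[reassoc (attr := simp)]
lemma graph_snd (T : Over S) (x : T.left ⟶ X) (hx : x ≫ f = T.hom) :
    graph f T x hx ≫ pullback.snd f T.hom = 𝟙 _ := pullback.lift_snd _ _ _

lemma secGraph_eq (T : Over S) (x : T.left ⟶ X) (hx : x ≫ f = T.hom) :
    HilbD.secGraph f T x hx = (graph f T x hx).ker := rfl

instance [IsSeparated f] (T : Over S) (x : T.left ⟶ X) (hx : x ≫ f = T.hom) :
    IsClosedImmersion (graph f T x hx) := by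
  have h : graph f T x hx ≫ pullback.snd f T.hom = 𝟙 _ := graph_snd f T x hx
  have : IsSeparated (pullback.snd f T.hom) := inferInstance
  have h2 : IsClosedImmersion (graph f T x hx ≫ pullback.snd f T.hom) := by
    rw [h]; infer_instance
  exact IsClosedImmersion.of_comp (graph f T x hx) (pullback.snd f T.hom)

end Groth.Agent.H7.Hilb1

namespace Groth.Agent.H7.Hilb1

open Scheme

/-- base change of the image subscheme of a closed immersion. -/
lemma ker_pullback_snd_of_isPullback {Z Y Z' Y' : Scheme.{u}} (i : Z ⟶ Y) [IsClosedImmersion i]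
    (h : Y' ⟶ Y) (i' : Z' ⟶ Y') (k : Z' ⟶ Z) (sq : IsPullback i' k h i) :
    (pullback.snd i.ker.subschemeι h).ker = i'.ker := by
  have hiso : IsPullback i.toImage i (i.ker.subschemeι) (𝟙 Y) :=
    IsPullback.of_horiz_isIso ⟨by simp⟩
  have sq2 : IsPullback (k ≫ i.toImage) i' (i.ker.subschemeι) (h ≫ 𝟙 Y) :=
    (sq.flip).paste_horiz hiso
  rw [Category.comp_id] at sq2
  rw [← sq2.isoPullback_hom_snd, Scheme.Hom.ker_comp_of_isIso]

end Groth.Agent.H7.Hilb1

namespace Groth.Agent.H7.Hilb1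

variable {X S : Scheme.{u}} (f : X ⟶ S)

@[reassoc (attr := simp)]
lemma XTmap_fst {T T' : Over S} (g : T' ⟶ T) :
    PicF.XTmap f g ≫ pullback.fst f T.hom = pullback.fst f T'.hom :=
  (pullback.lift_fst _ _ _).trans (Category.comp_id _)

@[reassoc (attr := simp)]
lemma XTmap_snd {T T' : Over S} (g : T' ⟶ T) :
    PicF.XTmap f g ≫ pullback.snd f T.hom = pullback.snd f T'.hom ≫ g.left :=
  pullback.lift_snd _ _ _

lemma graph_comp_XTmap {T T' : Over S} (g : T' ⟶ T) (x : T.left ⟶ X) (hx : x ≫ f = T.hom) :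
    graph f T' (g.left ≫ x) (by rw [Category.assoc, hx, Over.w]) ≫ PicF.XTmap f g =
      g.left ≫ graph f T x hx := by
  apply pullback.hom_ext <;> simp

lemma isPullback_graph {T T' : Over S} (g : T' ⟶ T) (x : T.left ⟶ X) (hx : x ≫ f = T.hom) :
    IsPullback (graph f T' (g.left ≫ x) (by rw [Category.assoc, hx, Over.w])) g.left
      (PicF.XTmap f g) (graph f T x hx) := by
  refine ⟨⟨graph_comp_XTmap f g x hx⟩, ⟨PullbackCone.IsLimit.mk _
    (fun s => s.fst ≫ pullback.snd f T'.hom) ?_ ?_ ?_⟩⟩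
  · intro s
    have e1 := s.condition =≫ pullback.fst f T.hom
    have e2 := s.condition =≫ pullback.snd f T.hom
    simp only [Category.assoc, XTmap_fst, XTmap_snd, graph_fst, graph_snd, Category.comp_id] at e1 e2
    apply pullback.hom_ext
    · simp only [Category.assoc, graph_fst]
      rw [e1, ← e2]; simp
    · simp
  · intro s
    have e2 := s.condition =≫ pullback.snd f T.hom
    simp only [Category.assoc, XTmap_snd, graph_snd, Category.comp_id] at e2
    simpa using e2
  · intro s m h1 h2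
    have := h1 =≫ pullback.snd f T'.hom
    simpa using this

lemma pull_secGraph {T T' : Over S} [IsSeparated f] (g : T' ⟶ T) (x : T.left ⟶ X)
    (hx : x ≫ f = T.hom) :
    HilbD.pull f g (HilbD.secGraph f T x hx) =
      HilbD.secGraph f T' (g.left ≫ x) (by rw [Category.assoc, hx, Over.w]) := by
  rw [secGraph_eq, secGraph_eq, HilbD.pull]
  exact ker_pullback_snd_of_isPullback _ _ _ _ (isPullback_graph f g x hx)

end Groth.Agent.H7.Hilb1

namespace Groth.Agent.H7.Hilb1

variable {X S : Scheme.{u}} (f : X ⟶ S)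

lemma graph_inj [IsSeparated f] (T : Over S) (x x' : T.left ⟶ X) (hx : x ≫ f = T.hom)
    (hx' : x' ≫ f = T.hom) (h : (graph f T x hx).ker = (graph f T x' hx').ker) : x = x' := by
  have e1 := IsClosedImmersion.lift_fac (graph f T x' hx') (graph f T x hx) (le_of_eq h.symm)
  have e2 := e1 =≫ pullback.snd f T.hom
  simp only [Category.assoc, graph_snd, Category.comp_id] at e2
  rw [e2, Category.id_comp] at e1
  have e3 := e1 =≫ pullback.fst f T.hom
  simpa using e3.symm

lemma isFinLocFreeOfDeg_one_of_isIso {A B : Scheme.{u}} (e : A ⟶ B) [IsIso e] :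
    Mor2.IsFinLocFreeOfDeg 1 e := by
  refine ⟨⟨inferInstance, inferInstance, inferInstance⟩, fun y => ?_⟩
  rw [Scheme.Hom.finrank_eq_one_of_isIso]; rfl

lemma graph_ker_deg_one [IsSeparated f] (T : Over S) (x : T.left ⟶ X) (hx : x ≫ f = T.hom) :
    Mor2.IsFinLocFreeOfDeg 1 ((graph f T x hx).ker.subschemeι ≫ PicF.XTproj f T) := by
  have h1 : (graph f T x hx).toImage ≫ ((graph f T x hx).ker.subschemeι ≫ PicF.XTproj f T)
      = 𝟙 _ := by
    rw [← Category.assoc]
    have := (graph f T x hx).toImage_imageι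
    rw [Scheme.Hom.imageι] at this
    rw [this]; exact graph_snd f T x hx
  have h2 : (graph f T x hx).ker.subschemeι ≫ PicF.XTproj f T =
      inv (graph f T x hx).toImage := by
    rw [← cancel_epi (graph f T x hx).toImage, h1, IsIso.hom_inv_id]
  rw [h2]
  exact isFinLocFreeOfDeg_one_of_isIso _

lemma isIso_of_deg_one {A B : Scheme.{u}} (p : A ⟶ B) (h : Mor2.IsFinLocFreeOfDeg 1 p) :
    IsIso p := by
  obtain ⟨⟨h1, h2, h3⟩, h4⟩ := h
  rw [Scheme.Hom.isIso_iff_finrank_eq]
  ext y; exact h4 y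

lemma exists_graph_of_deg_one (T : Over S) (I' : (PicF.XT f T).IdealSheafData)
    (hI' : Mor2.IsFinLocFreeOfDeg 1 (I'.subschemeι ≫ PicF.XTproj f T)) :
    ∃ (x : T.left ⟶ X) (hx : x ≫ f = T.hom), I' = (graph f T x hx).ker := by
  have hp : IsIso (I'.subschemeι ≫ PicF.XTproj f T) := isIso_of_deg_one _ hI'
  obtain ⟨p, hpdef⟩ : ∃ p, p = I'.subschemeι ≫ PicF.XTproj f T := ⟨_, rfl⟩
  rw [← hpdef] at hp
  have hx : (inv p ≫ I'.subschemeι ≫ pullback.fst f T.hom) ≫ f = T.hom := by
    simp only [Category.assoc, pullback.condition]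
    rw [← Category.assoc I'.subschemeι]
    show inv p ≫ (I'.subschemeι ≫ PicF.XTproj f T) ≫ T.hom = T.hom
    rw [← hpdef, IsIso.inv_hom_id_assoc]
  refine ⟨inv p ≫ I'.subschemeι ≫ pullback.fst f T.hom, hx, ?_⟩
  have e : I'.subschemeι = p ≫ graph f T _ hx := by
    apply pullback.hom_ext
    · simp only [Category.assoc, graph_fst]
      rw [IsIso.hom_inv_id_assoc]
    · simp only [Category.assoc, graph_snd, Category.comp_id]
      exact hpdef.symm
  conv_lhs => rw [← I'.ker_subschemeι, e]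
  rw [Scheme.Hom.ker_comp_of_isIso]

lemma secGraph_congr (T : Over S) (x x' : T.left ⟶ X) (hx : x ≫ f = T.hom) (hx' : x' ≫ f = T.hom)
    (h : x = x') : HilbD.secGraph f T x hx = HilbD.secGraph f T x' hx' := by
  subst h; rfl

lemma key [IsSeparated f] (T : Over S) (g : T ⟶ Over.mk f) : HilbD.pull f g
      (HilbD.secGraph f (Over.mk f) (𝟙 X) (Category.id_comp f)) =
      (graph f T g.left (Over.w g)).ker := by
  rw [pull_secGraph f g (𝟙 X) (Category.id_comp f), ← secGraph_eq]
  exact secGraph_congr f T _ _ _ _ (Category.comp_id _)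

theorem main [IsSeparated f] :
    ∃ Δ : HilbD.Obj f 1 (Over.mk f),
      Δ.1 = HilbD.secGraph f (Over.mk f) (𝟙 X) (Category.id_comp f) ∧
      HilbD.IsUniversal f 1 (Over.mk f) Δ := by
  refine ⟨⟨HilbD.secGraph f (Over.mk f) (𝟙 X) (Category.id_comp f),
    graph_ker_deg_one f (Over.mk f) (𝟙 X) (Category.id_comp f)⟩, rfl, ?_⟩
  intro T Z'
  obtain ⟨I', hI'⟩ := Z'
  obtain ⟨x, hx, hI⟩ := exists_graph_of_deg_one f T I' hI'
  refine ⟨Over.homMk x hx, ?_, ?_⟩
  · exact (key f T (Over.homMk x hx)).trans hI.symm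
  · intro g' hg'
    have h1 : (graph f T g'.left (Over.w g')).ker = (graph f T x hx).ker :=
      (key f T g').symm.trans (hg'.trans hI)
    have := graph_inj f T _ _ _ _ h1
    ext
    exact this

end Groth.Agent.H7.Hilb1
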