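import Mathlib
open Polynomial
namespace Groth.Agent.H7.HypGeo

variable {k : Type*} [Field k] [CharZero k]

lemma choose_succ_cast (N K : ℕ) :
    ((N.choose (K + 1) : ℕ) : k) * ((K : k) + 1) = (N.choose K : k) * ((N : k) - K) := by
  by_cases h : K ≤ N
  · have := Nat.choose_succ_right_eq N K
    have h2 := congrArg (fun t : ℕ => (t : k)) this
    push_cast [Nat.cast_sub h] at h2
    exact h2
  · push Not at h
    rw [Nat.choose_eq_zero_of_lt h, Nat.choose_eq_zero_of_lt (by omega)]
    simp

/-- coefficients -/
noncomputable def a (k : Type*) [Field k] (i j n m : ℕ) : k :=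
  if m ≤ n then ((i.choose (n - m) * j.choose m : ℕ) : k) else 0

lemma a_rec (i j n m : ℕ) :
    ((m : k) + 1) * ((m : k) + 1 + i - n) * a k i j n (m + 1) =
      ((m : k) - n) * ((m : k) - j) * a k i j n m := by
  unfold a
  by_cases h1 : m + 1 ≤ n
  · have h2 : m ≤ n := by omega
    rw [if_pos h1, if_pos h2]
    obtain ⟨t, rfl⟩ : ∃ t, n = m + 1 + t := ⟨n - (m + 1), by omega⟩
    have e1 : m + 1 + t - (m + 1) = t := by omega
    have e2 : m + 1 + t - m = t + 1 := by omega
    rw [e1, e2]
    have c1 := choose_succ_cast (k := k) j m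
    have c2 := choose_succ_cast (k := k) i t
    push_cast
    linear_combination ((i : k) - t) * (i.choose t : k) * c1 -
      (j.choose m : k) * ((j : k) - m) * c2
  · rw [if_neg h1]
    by_cases h2 : m ≤ n
    · have : m = n := by omega
      subst this
      simp
    · rw [if_neg h2]; simp

/-- the polynomial -/
noncomputable def hp (k : Type*) [Field k] (i j n : ℕ) : k[X] :=
  ∑ m ∈ Finset.range (n + 1), C (a k i j n m) * X ^ m

lemma coeff_hp (i j n m : ℕ) : (hp k i j n).coeff m = a k i j n m := by
  unfold hp
  rw [finsetSum_coeff]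
  simp only [coeff_C_mul_X_pow]
  rw [Finset.sum_eq_single m]
  · simp
  · intro b _ hb
    rw [if_neg (Ne.symm hb)]
  · intro hm
    rw [if_pos rfl]
    unfold a
    rw [if_neg]
    simpa [Finset.mem_range] using hm

lemma coeff_theta (p : k[X]) (m : ℕ) : (X * derivative p).coeff m = (m : k) * p.coeff m := by
  rcases m with _ | m
  · simp
  · rw [coeff_X_mul, coeff_derivative]
    push_cast
    ring

lemma ode (i j n : ℕ) :
    X * derivative (X * derivative (hp k i j n)) + C ((i : k) - n) * (X * derivative (hp k i j n)) =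
      X * (X * derivative (X * derivative (hp k i j n)) -
        C ((n : k) + j) * (X * derivative (hp k i j n)) + C ((n : k) * j) * hp k i j n) := by
  ext m
  rcases m with _ | m
  · simp
  · conv_rhs => rw [coeff_X_mul]
    simp only [coeff_add, coeff_sub, coeff_C_mul, coeff_theta, coeff_hp]
    have := a_rec (k := k) i j n m
    push_cast
    linear_combination this

theorem main (i j n : ℕ) (c : k) (hc0 : c ≠ 0) (hc1 : c ≠ 1) :
    rootMultiplicity c (hp k i j n) ≤ 1 := by
  set h := hp k i j n with hh
  by_contra hcon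
  push Not at hcon
  have hne : h ≠ 0 := by
    rintro h0
    rw [h0, rootMultiplicity_zero] at hcon
    omega
  set μ := rootMultiplicity c h with hμ
  have hroot : h.IsRoot c := (rootMultiplicity_pos hne).mp (by omega)
  have hμ1 : (derivative h).rootMultiplicity c = μ - 1 := derivative_rootMultiplicity_of_root hroot
  have hne1 : derivative h ≠ 0 := by
    intro h0
    rw [h0, rootMultiplicity_zero] at hμ1
    omega
  have hroot1 : (derivative h).IsRoot c := (rootMultiplicity_pos hne1).mp (by omega)
  have hμ2 : (derivative (derivative h)).rootMultiplicity c = μ - 1 - 1 := by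
    rw [derivative_rootMultiplicity_of_root hroot1, hμ1]
  have hne2 : derivative (derivative h) ≠ 0 := by
    intro h0
    have hd := derivative_eq_zero.mp h0
    rw [eq_C_of_natDegree_eq_zero hd] at hroot1 hne1
    rw [IsRoot.def, eval_C] at hroot1
    rw [hroot1] at hne1
    simp at hne1
  -- divisibility
  have hd0 : (X - C c) ^ (μ - 1) ∣ h :=
    (pow_dvd_pow _ (Nat.sub_le _ _)).trans (pow_rootMultiplicity_dvd h c)
  have hd1 : (X - C c) ^ (μ - 1) ∣ derivative h := by
    rw [← hμ1]; exact pow_rootMultiplicity_dvd _ c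
  have hode := ode (k := k) i j n
  rw [← hh] at hode
  -- X * (1 - X) * h'' = E * h' + C * h
  have hkey : X * ((X : k[X]) * (1 - X) * derivative (derivative h)) =
      X * ((X - C ((n : k) + j) * X - 1 - C ((i : k) - n)) * derivative h + C ((n : k) * j) * h) := by
    have e1 : derivative (X * derivative h) = derivative h + X * derivative (derivative h) := by
      rw [derivative_mul, derivative_X, one_mul]
    rw [e1] at hode
    linear_combination hode
  have hkey' := mul_left_cancel₀ (X_ne_zero (R := k)) hkey
  have hdvd : (X - C c) ^ (μ - 1) ∣ (X : k[X]) * (1 - X) * derivative (derivative h) := by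
    rw [hkey']
    exact dvd_add (Dvd.dvd.mul_left hd1 _) (Dvd.dvd.mul_left hd0 _)
  have hcop : IsCoprime ((X - C c) ^ (μ - 1)) ((X : k[X]) * (1 - X)) := by
    apply IsCoprime.pow_left
    apply IsCoprime.mul_right
    · have := isCoprime_X_sub_C_of_isUnit_sub (R := k) (a := c) (b := 0) (by simpa using hc0)
      simpa using this
    · have := isCoprime_X_sub_C_of_isUnit_sub (R := k) (a := c) (b := 1)
        (by rw [isUnit_iff_ne_zero]; exact sub_ne_zero.mpr hc1)
      have h2 : (1 : k[X]) - X = -(X - C 1) := by simp
      rw [h2]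
      exact this.neg_right
  have hdvd2 : (X - C c) ^ (μ - 1) ∣ derivative (derivative h) := hcop.dvd_of_dvd_mul_left hdvd
  have := (le_rootMultiplicity_iff hne2).mpr hdvd2
  omega

theorem main' (k : Type*) [Field k] [CharZero k] (i j n : ℕ) (c : k) (hc0 : c ≠ 0) (hc1 : c ≠ 1) :
    Polynomial.rootMultiplicity c
      (∑ l ∈ Finset.range (n + 1),
        Polynomial.C (((i.choose l) * (j.choose (n - l)) : ℕ) : k) * Polynomial.X ^ (n - l)) ≤ 1 := by
  have : (∑ l ∈ Finset.range (n + 1),
      Polynomial.C (((i.choose l) * (j.choose (n - l)) : ℕ) : k) * Polynomial.X ^ (n - l)) =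
      hp k i j n := by
    unfold hp
    rw [← Finset.sum_flip]
    apply Finset.sum_congr rfl
    intro l hl
    have hl' : l ≤ n := by simpa [Finset.mem_range, Nat.lt_succ_iff] using hl
    unfold a
    rw [if_pos hl', Nat.sub_sub_self hl']
  rw [this]
  exact main i j n c hc0 hc1

end Groth.Agent.H7.HypGeo
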