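import Groth.Agent.Lib.Helper5.FunFld.Ext2
import Groth.Agent.Lib.Helper5.FunFld.Weak.Zeros

/-! The ring `B' = ⋂_{Q | P} O_Q` over a place `P` in a finite extension: it is a free
`O_P`-module of rank `[K' : K]` (helper7). Step A: a large family independent modulo `π B'`. -/

set_option autoImplicit false

namespace Groth.Agent.H7.IC

open FunFld WithZero

variable {k K K' : Type*} [Field k] [Field K] [Field K'] [Algebra k K] [Algebra K K'] [Algebra k K']
  [IsScalarTower k K K']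

/-- `y ∈ B'`: integral at all places over `P`. -/
def InB (P : Place k K) (y : K') : Prop := ∀ Q : Place k K', IsOver Q P → Q.1 y ≤ 1

/-- `y ∈ 𝔪_P B'`. -/
def InPiB (P : Place k K) (y : K') : Prop :=
  ∀ Q : Place k K', IsOver Q P → Q.1 y ≤ exp (-(ramIdx Q P : ℤ))

lemma InB.add {P : Place k K} {x y : K'} (hx : InB P x) (hy : InB P y) : InB P (x + y) :=
  fun Q hQ => (Q.1.map_add _ _).trans (max_le (hx Q hQ) (hy Q hQ))

lemma InB.mul {P : Place k K} {x y : K'} (hx : InB P x) (hy : InB P y) : InB P (x * y) :=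
  fun Q hQ => by rw [map_mul]; exact mul_le_one' (hx Q hQ) (hy Q hQ)

lemma InB.zero {P : Place k K} : InB P (0 : K') := fun Q _ => by simp

lemma InB.one {P : Place k K} : InB P (1 : K') := fun Q _ => by simp

lemma InB.neg {P : Place k K} {x : K'} (hx : InB P x) : InB P (-x) :=
  fun Q hQ => by rw [Valuation.map_neg]; exact hx Q hQ

lemma InB.sum {P : Place k K} {ι : Type*} (s : Finset ι) (f : ι → K') (h : ∀ i ∈ s, InB P (f i)) :
    InB P (∑ i ∈ s, f i) := fun Q hQ => Valuation.map_sum_le _ (fun i hi => h i hi Q hQ)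

lemma InPiB.add {P : Place k K} {x y : K'} (hx : InPiB P x) (hy : InPiB P y) : InPiB P (x + y) :=
  fun Q hQ => (Q.1.map_add _ _).trans (max_le (hx Q hQ) (hy Q hQ))

lemma InPiB.neg {P : Place k K} {x : K'} (hx : InPiB P x) : InPiB P (-x) :=
  fun Q hQ => by rw [Valuation.map_neg]; exact hx Q hQ

lemma InPiB.sub {P : Place k K} {x y : K'} (hx : InPiB P x) (hy : InPiB P y) : InPiB P (x - y) := by
  rw [sub_eq_add_neg]; exact hx.add hy.neg

lemma InPiB.zero {P : Place k K} : InPiB P (0 : K') := fun Q _ => by simp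

lemma InPiB.sum {P : Place k K} {ι : Type*} (s : Finset ι) (f : ι → K')
    (h : ∀ i ∈ s, InPiB P (f i)) : InPiB P (∑ i ∈ s, f i) :=
  fun Q hQ => Valuation.map_sum_le _ (fun i hi => h i hi Q hQ)

lemma InPiB.inB {P : Place k K} {x : K'} (hx : InPiB P x) : InB P x :=
  fun Q hQ => (hx Q hQ).trans (by rw [← exp_zero, exp_le_exp]; omega)

/-- `c ∈ O_P`, `y ∈ B'` ⟹ `c y ∈ B'`. -/
lemma InB.smul {P : Place k K} {c : K} (hc : P.1 c ≤ 1) {y : K'} (hy : InB P y) :
    InB P (c • y) := by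
  intro Q hQ
  rw [Algebra.smul_def, map_mul]
  refine mul_le_one' ?_ (hy Q hQ)
  rw [hQ.isOverWith c]
  exact pow_le_one' hc _

/-- `c ∈ 𝔪_P`, `y ∈ B'` ⟹ `c y ∈ 𝔪_P B'`. -/
lemma InPiB.of_smul {P : Place k K} {c : K} (hc : P.1 c < 1) {y : K'} (hy : InB P y) :
    InPiB P (c • y) := by
  intro Q hQ
  rw [Algebra.smul_def, map_mul, hQ.isOverWith c]
  have h1 : P.1 c ≤ exp (-1) := by
    rcases eq_or_ne c 0 with rfl | hc0
    · simp
    · rw [P.v_eq_exp_neg_ord hc0, exp_le_exp]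
      have := (P.v_lt_one_iff hc0).1 hc
      omega
  calc P.1 c ^ ramIdx Q P * Q.1 y ≤ exp (-1) ^ ramIdx Q P * 1 :=
        mul_le_mul' (pow_le_pow_left' h1 _) (hy Q hQ)
    _ = _ := by rw [mul_one, ← exp_nsmul]; congr 1; simp

/-- `c ∈ O_P`, `y ∈ 𝔪_P B'` ⟹ `c y ∈ 𝔪_P B'`. -/
lemma InPiB.smul {P : Place k K} {c : K} (hc : P.1 c ≤ 1) {y : K'} (hy : InPiB P y) :
    InPiB P (c • y) := by
  intro Q hQ
  rw [Algebra.smul_def, map_mul, hQ.isOverWith c]
  calc P.1 c ^ ramIdx Q P * Q.1 y ≤ 1 * exp (-(ramIdx Q P : ℤ)) :=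
        mul_le_mul' (pow_le_one' hc _) (hy Q hQ)
    _ = _ := one_mul _

lemma InB.ksmul {P : Place k K} (c : k) {y : K'} (hy : InB P y) : InB P (c • y) :=
  fun Q hQ => (Q.v_smul_le c y).trans (hy Q hQ)

lemma InPiB.ksmul {P : Place k K} (c : k) {y : K'} (hy : InPiB P y) : InPiB P (c • y) :=
  fun Q hQ => (Q.v_smul_le c y).trans (hy Q hQ)

variable [FiniteDimensional K K']

/-- Step A: `[K':K] · deg P` elements of `B'`, `k`-linearly independent modulo `𝔪_P B'`. -/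
theorem exists_indep_family (hK : IsFunctionField k K) (P : Place k K) :
    ∃ (Z : Fin (Module.finrank K K' * P.deg) → K'), (∀ i, InB P (Z i)) ∧
      ∀ c : Fin (Module.finrank K K' * P.deg) → k, InPiB P (∑ i, c i • Z i) → c = 0 := by
  classical
  suffices h : ∃ (ι : Type _) (_ : Fintype ι) (Z : ι → K'),
      Fintype.card ι = Module.finrank K K' * P.deg ∧ (∀ i, InB P (Z i)) ∧
      ∀ c : ι → k, InPiB P (∑ i, c i • Z i) → c = 0 by
    obtain ⟨ι, _, Z, hcard, hZ, hind⟩ := h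
    let e := Fintype.equivFinOfCardEq hcard
    refine ⟨Z ∘ e.symm, fun i => hZ _, fun c hc => ?_⟩
    have h1 : ∑ i, c i • (Z ∘ e.symm) i = ∑ j, (c ∘ e) j • Z j := by
      rw [← Equiv.sum_comp e]
      simp
    rw [h1] at hc
    have h2 := hind _ hc
    funext i
    have := congrFun h2 (e.symm i)
    simpa using this
  have hK' : IsFF1 k K' := hK.isFF1.of_finite
  have hfin := finite_isOver (K' := K') hK.isFF1 P
  set Qs := hfin.toFinset with hQsdef
  have hQs : ∀ Q, Q ∈ Qs ↔ IsOver Q P := fun Q => by rw [hQsdef, Set.Finite.mem_toFinset]; rfl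
  have hsum := sum_ramIdx_mul_deg hK P Qs hQs
  choose ι hι u hcard hu1 hind using fun Q : Place k K' =>
    W.Place.exists_indep_mod_pow hK' Q (ramIdx Q P)
  obtain ⟨ε, hεdef⟩ : ∃ ε : WithZero (Multiplicative ℤ),
      ε = exp (-(∑ Q ∈ Qs, (ramIdx Q P : ℤ))) := ⟨_, rfl⟩
  have hε0 : ε ≠ 0 := by rw [hεdef]; exact exp_ne_zero
  have hεle : ∀ Q ∈ Qs, ε ≤ exp (-(ramIdx Q P : ℤ)) := by
    intro Q hQ
    rw [hεdef, exp_le_exp, neg_le_neg_iff]
    exact Finset.single_le_sum (f := fun Q : Place k K' => (ramIdx Q P : ℤ))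
      (fun Q' _ => Int.natCast_nonneg _) hQ
  have hε1 : ε ≤ 1 := by
    rw [hεdef, ← exp_zero, exp_le_exp, neg_nonpos]
    exact Finset.sum_nonneg (fun Q' _ => Int.natCast_nonneg _)
  choose U hU using fun (Q : Place k K') (i : ι Q) =>
    Place.exists_approx Qs (fun Q' => if Q' = Q then u Q i else 0) hε0
  have hUP : ∀ Q ∈ Qs, ∀ i : ι Q, Q.1 (U Q i - u Q i) < ε := by
    intro Q hQ i
    have := hU Q i Q hQ
    rwa [if_pos rfl] at this
  have hUQ : ∀ Q : Place k K', ∀ i : ι Q, ∀ Q' ∈ Qs, Q' ≠ Q → Q'.1 (U Q i) < ε := by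
    intro Q i Q' hQ' hne
    have := hU Q i Q' hQ'
    rwa [if_neg hne, sub_zero] at this
  refine ⟨Σ Q : Qs, ι Q.1, inferInstance, fun I : (Σ Q : Qs, ι Q.1) => U I.1.1 I.2, ?_, ?_, ?_⟩
  · rw [Fintype.card_sigma, ← hsum]
    rw [Finset.sum_coe_sort Qs (fun Q => Fintype.card (ι Q))]
    refine Finset.sum_congr rfl (fun Q _ => ?_)
    rw [hcard, mul_comm]
  · rintro ⟨⟨Q, hQ⟩, i⟩ Q' hQ'
    have hQ'm := (hQs Q').2 hQ'
    by_cases hne : Q' = Q
    · subst hne
      have : U Q' i = u Q' i + (U Q' i - u Q' i) := by ring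
      change Q'.1 (U Q' i) ≤ 1
      rw [this]
      exact (Q'.1.map_add _ _).trans (max_le (hu1 Q' i) ((hUP Q' hQ i).le.trans hε1))
    · exact ((hUQ Q i Q' hQ'm hne).le.trans hε1)
  · intro c hc
    funext I
    obtain ⟨⟨Q, hQ⟩, i⟩ := I
    have hQo := (hQs Q).1 hQ
    -- show the Q-block vanishes
    have hblock : Q.1 (∑ j : ι Q, c ⟨⟨Q, hQ⟩, j⟩ • u Q j) ≤ exp (-(ramIdx Q P : ℤ)) := by
      have hT : ∑ I : (Σ Q : Qs, ι Q.1), c I • U I.1.1 I.2 =
          (∑ j : ι Q, c ⟨⟨Q, hQ⟩, j⟩ • U Q j) +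
            ∑ Q' ∈ (Finset.univ : Finset Qs).erase ⟨Q, hQ⟩, ∑ j : ι Q'.1, c ⟨Q', j⟩ • U Q'.1 j := by
        rw [Fintype.sum_sigma]
        exact (Finset.add_sum_erase Finset.univ
          (fun Q' : Qs => ∑ j : ι Q'.1, c ⟨Q', j⟩ • U Q'.1 j)
          (Finset.mem_univ (⟨Q, hQ⟩ : Qs))).symm
      have hdecomp : ∑ j : ι Q, c ⟨⟨Q, hQ⟩, j⟩ • u Q j =
          (∑ I : (Σ Q : Qs, ι Q.1), c I • U I.1.1 I.2) -
          (∑ Q' ∈ (Finset.univ : Finset Qs).erase ⟨Q, hQ⟩, ∑ j : ι Q'.1, c ⟨Q', j⟩ • U Q'.1 j) -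
          ∑ j : ι Q, c ⟨⟨Q, hQ⟩, j⟩ • (U Q j - u Q j) := by
        rw [hT]
        simp only [smul_sub, Finset.sum_sub_distrib]
        ring
      rw [hdecomp]
      refine (Valuation.map_sub _ _ _).trans (max_le ?_ ?_)
      · refine (Valuation.map_sub _ _ _).trans (max_le (hc Q hQo) ?_)
        apply Valuation.map_sum_le
        intro Q' hQ'
        rw [Finset.mem_erase] at hQ'
        apply Valuation.map_sum_le
        intro j _
        refine (Q.v_smul_le _ _).trans ?_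
        have hQQ : Q ≠ Q'.1 := fun h => hQ'.1 (Subtype.ext h.symm)
        exact ((hUQ Q'.1 j Q hQ hQQ).le.trans (hεle Q hQ))
      · apply Valuation.map_sum_le
        intro j _
        refine (Q.v_smul_le _ _).trans ?_
        exact ((hUP Q hQ j).le.trans (hεle Q hQ))
    have := hind Q (fun j => c ⟨⟨Q, hQ⟩, j⟩) hblock
    exact congrFun this i

end Groth.Agent.H7.IC
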