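import Groth.Agent.Lib.Helper7.IC1

/-! `B' = ⋂_{Q | P} O_Q` is a free `O_P`-module of rank `[K' : K]` (helper7). -/

set_option autoImplicit false

namespace Groth.Agent.H7.IC

open FunFld WithZero

variable {k K K' : Type*} [Field k] [Field K] [Field K'] [Algebra k K] [Algebra K K'] [Algebra k K']
  [IsScalarTower k K K']

/-- independence modulo `𝔪_P B'` over `O_P`. -/
def IndepMod (P : Place k K) {r : ℕ} (m : Fin r → K') : Prop :=
  (∀ i, InB P (m i)) ∧ ∀ c : Fin r → K, (∀ i, P.1 (c i) ≤ 1) → InPiB P (∑ i, c i • m i) →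
    ∀ i, P.1 (c i) < 1

/-- normalizing a coefficient vector by its largest entry -/
lemma exists_normalize (P : Place k K) {r : ℕ} (c : Fin r → K) (i1 : Fin r) (h1 : c i1 ≠ 0) :
    ∃ i0, c i0 ≠ 0 ∧ (∀ i, P.1 (c i / c i0) ≤ 1) ∧ P.1 (c i1) ≤ P.1 (c i0) := by
  obtain ⟨i0, -, hmax⟩ := Finset.exists_max_image Finset.univ (fun i => P.1 (c i)) ⟨i1, Finset.mem_univ _⟩
  have h0 : c i0 ≠ 0 := by
    intro h
    have := hmax i1 (Finset.mem_univ _)
    rw [h, map_zero] at this
    exact P.v_ne_zero h1 (le_antisymm this zero_le)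
  refine ⟨i0, h0, fun i => ?_, hmax i1 (Finset.mem_univ _)⟩
  rw [map_div₀]
  exact div_le_one_of_le₀ (hmax i (Finset.mem_univ _)) zero_le

lemma IndepMod.linearIndependent {P : Place k K} {r : ℕ} {m : Fin r → K'} (h : IndepMod P m) :
    LinearIndependent K m := by
  rw [Fintype.linearIndependent_iff]
  intro c hc
  by_contra hne
  push Not at hne
  obtain ⟨i1, hi1⟩ := hne
  obtain ⟨i0, h0, hle, -⟩ := exists_normalize P c i1 hi1
  have hsum : ∑ i, (c i / c i0) • m i = (c i0)⁻¹ • ∑ i, c i • m i := by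
    rw [Finset.smul_sum]
    refine Finset.sum_congr rfl (fun i _ => ?_)
    rw [smul_smul, div_eq_inv_mul]
  have := h.2 (fun i => c i / c i0) hle (by rw [hsum, hc, smul_zero]; exact InPiB.zero) i0
  rw [div_self h0, map_one] at this
  exact lt_irrefl _ this

variable [FiniteDimensional K K']

lemma IndepMod.le_finrank {P : Place k K} {r : ℕ} {m : Fin r → K'} (h : IndepMod P m) :
    r ≤ Module.finrank K K' := by
  have := h.linearIndependent.fintype_card_le_finrank
  simpa using this

/-- a maximal family independent mod `π`. -/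
lemma exists_maximal (P : Place k K) : ∃ (r : ℕ) (m : Fin r → K'), IndepMod P m ∧
    ∀ m' : Fin (r + 1) → K', ¬ IndepMod P m' := by
  classical
  set r := Nat.findGreatest (fun r => ∃ m : Fin r → K', IndepMod P m) (Module.finrank K K') with hr
  have h0 : ∃ m : Fin 0 → K', IndepMod P m :=
    ⟨fun i => i.elim0, fun i => i.elim0, fun c _ _ i => i.elim0⟩
  obtain ⟨m, hm⟩ := Nat.findGreatest_spec (P := fun r => ∃ m : Fin r → K', IndepMod P m)
    (Nat.zero_le _) h0
  refine ⟨r, m, hm, fun m' hm' => ?_⟩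
  have hle := hm'.le_finrank
  exact Nat.findGreatest_is_greatest (P := fun r => ∃ m : Fin r → K', IndepMod P m)
    (Nat.lt_succ_self r) hle ⟨m', hm'⟩

/-- spanning modulo `π` by a maximal family -/
lemma exists_coeff_of_maximal {P : Place k K} {r : ℕ} {m : Fin r → K'} (hm : IndepMod P m)
    (hmax : ∀ m' : Fin (r + 1) → K', ¬ IndepMod P m') {b : K'} (hb : InB P b) :
    ∃ c : Fin r → K, (∀ i, P.1 (c i) ≤ 1) ∧ InPiB P (b - ∑ i, c i • m i) := by
  have h1 := hmax (Fin.cons b m)
  unfold IndepMod at h1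
  push Not at h1
  have hB : ∀ i, InB P ((Fin.cons b m : Fin (r + 1) → K') i) := by
    intro i
    refine Fin.cases ?_ (fun j => ?_) i
    · simpa using hb
    · simpa using hm.1 j
  obtain ⟨c, hc1, hc2, i, hi⟩ := h1 hB
  rw [Fin.sum_univ_succ] at hc2
  simp only [Fin.cons_zero, Fin.cons_succ] at hc2
  have hc0 : P.1 (c 0) = 1 := by
    refine le_antisymm (hc1 0) ?_
    by_contra hlt
    rw [not_le] at hlt
    have h2 : InPiB P (∑ j : Fin r, c j.succ • m j) := by
      have := hc2.sub (InPiB.of_smul hlt hb)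
      simpa using this
    have h3 := hm.2 (fun j => c j.succ) (fun j => hc1 _) h2
    revert hi
    refine Fin.cases ?_ (fun j => ?_) i
    · intro h; exact absurd hlt (not_lt.2 h)
    · intro h; exact absurd (h3 j) (not_lt.2 h)
  have hc00 : c 0 ≠ 0 := by
    intro h; rw [h, map_zero] at hc0; exact zero_ne_one hc0
  refine ⟨fun j => -(c j.succ / c 0), fun j => ?_, ?_⟩
  · rw [Valuation.map_neg, map_div₀, hc0, _root_.div_one]; exact hc1 _
  · have hinv : P.1 (c 0)⁻¹ ≤ 1 := by rw [map_inv₀, hc0, inv_one]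
    have := hc2.smul hinv
    have e : (c 0)⁻¹ • (c 0 • b + ∑ j : Fin r, c j.succ • m j) =
        b - ∑ j : Fin r, (-(c j.succ / c 0)) • m j := by
      rw [smul_add, smul_smul, inv_mul_cancel₀ hc00, one_smul, Finset.smul_sum, sub_eq_add_neg,
        ← Finset.sum_neg_distrib]
      congr 1
      refine Finset.sum_congr rfl (fun j _ => ?_)
      rw [smul_smul, neg_smul, neg_neg, div_eq_inv_mul]
    rwa [e] at this

/-- lifts of a `k`-basis of the residue field -/
lemma exists_residue_lifts (hK : IsFunctionField k K) (P : Place k K) :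
    ∃ a : Fin P.deg → K, (∀ j, P.1 (a j) ≤ 1) ∧
      ∀ c : K, P.1 c ≤ 1 → ∃ γ : Fin P.deg → k, P.1 (c - ∑ j, γ j • a j) < 1 := by
  have hfin := W.Place.finiteDimensional_residueField P hK.isFF1
  let b := Module.finBasis k (IsLocalRing.ResidueField P.O)
  choose s hs using fun j => IsLocalRing.residue_surjective (b j)
  refine ⟨fun j => (s j : K), fun j => P.mem_O_iff.1 (s j).2, fun c hc => ?_⟩
  set cO : P.O := ⟨c, P.mem_O_iff.2 hc⟩ with hcO
  refine ⟨fun j => b.repr (IsLocalRing.residue P.O cO) j, ?_⟩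
  have h1 : c - ∑ j, (b.repr (IsLocalRing.residue P.O cO) j) • (s j : K) =
      ((cO - ∑ j, (b.repr (IsLocalRing.residue P.O cO) j) • s j : P.O) : K) := by
    push_cast
    congr 1
    refine Finset.sum_congr rfl (fun j _ => ?_)
    exact (P.coe_smul_O _ _).symm
  have h2 : P.1 ((cO - ∑ j, (b.repr (IsLocalRing.residue P.O cO) j) • s j : P.O) : K) < 1 := by
    rw [← P.residue_eq_zero_iff, map_sub, map_sum]
    simp only [FunFld.Place.residue_smul, hs]
    rw [sub_eq_zero]
    exact (b.sum_repr _).symm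
  exact lt_of_eq_of_lt (congrArg P.1 h1) h2

/-- the `k`-submodule `𝔪_P B'`. -/
def piB (P : Place k K) : Submodule k K' where
  carrier := {y | InPiB P y}
  add_mem' := fun ha hb => InPiB.add ha hb
  zero_mem' := InPiB.zero
  smul_mem' := fun c _ hy => InPiB.ksmul c hy

/-- a maximal family has full size. -/
lemma finrank_le_of_maximal (hK : IsFunctionField k K) {P : Place k K} {r : ℕ} {m : Fin r → K'}
    (hm : IndepMod P m) (hmax : ∀ m' : Fin (r + 1) → K', ¬ IndepMod P m') :
    Module.finrank K K' ≤ r := by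
  classical
  obtain ⟨Z, hZ, hind⟩ := exists_indep_family (K' := K') hK P
  obtain ⟨a, ha1, ha2⟩ := exists_residue_lifts hK P
  set q := (piB (K' := K') P).mkQ with hq
  have hli : LinearIndependent k (q ∘ Z) := by
    rw [Fintype.linearIndependent_iff]
    intro c hc
    have : q (∑ i, c i • Z i) = 0 := by
      rw [map_sum]; simpa using hc
    rw [hq, Submodule.mkQ_apply, Submodule.Quotient.mk_eq_zero] at this
    exact congrFun (hind c this)
  set S : Fin P.deg × Fin r → K' ⧸ piB (K' := K') P := fun ij => q (a ij.1 • m ij.2) with hS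
  have hspan : ∀ b : K', InB P b → q b ∈ Submodule.span k (Set.range S) := by
    intro b hb
    obtain ⟨c, hc1, hc2⟩ := exists_coeff_of_maximal hm hmax hb
    choose γ hγ using fun i => ha2 (c i) (hc1 i)
    have h1 : b - ∑ i, ∑ j, γ i j • (a j • m i) ∈ piB (K' := K') P := by
      have e : b - ∑ i, ∑ j, γ i j • (a j • m i) =
          (b - ∑ i, c i • m i) + ∑ i, (c i - ∑ j, γ i j • a j) • m i := by
        simp only [sub_smul, Finset.sum_sub_distrib, Finset.sum_smul, smul_assoc]
        ring
      rw [e]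
      exact hc2.add (InPiB.sum _ _ (fun i _ => InPiB.of_smul (hγ i) (hm.1 i)))
    have h2 : q b = ∑ i, ∑ j, γ i j • q (a j • m i) := by
      rw [← sub_eq_zero]
      have : q (b - ∑ i, ∑ j, γ i j • (a j • m i)) = 0 := by
        rw [hq, Submodule.mkQ_apply, Submodule.Quotient.mk_eq_zero]; exact h1
      rw [map_sub, map_sum] at this
      simp only [map_sum, map_smul] at this
      exact this
    rw [h2]
    refine Submodule.sum_mem _ (fun i _ => Submodule.sum_mem _ (fun j _ => ?_))
    exact Submodule.smul_mem _ _ (Submodule.subset_span ⟨(j, i), rfl⟩)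
  have hle : Submodule.span k (Set.range (q ∘ Z)) ≤ Submodule.span k (Set.range S) := by
    rw [Submodule.span_le]
    rintro _ ⟨i, rfl⟩
    exact hspan _ (hZ i)
  have : Module.Finite k (Submodule.span k (Set.range S)) :=
    FiniteDimensional.span_of_finite k (Set.finite_range S)
  have h1 := Submodule.finrank_mono hle
  rw [finrank_span_eq_card hli] at h1
  have h2 := finrank_range_le_card (R := k) S
  rw [Set.finrank] at h2
  simp only [Fintype.card_fin, Fintype.card_prod] at h1 h2
  have h3 : Module.finrank K K' * P.deg ≤ P.deg * r := h1.trans h2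
  have hd : 0 < P.deg := W.Place.deg_pos P hK.isFF1
  rw [mul_comm] at h3
  exact Nat.le_of_mul_le_mul_left h3 hd

/-- **Main theorem**: `B'` is a free `O_P`-module of rank `[K':K]`. -/
theorem exists_basis (hK : IsFunctionField k K) (P : Place k K) :
    ∃ m : Fin (Module.finrank K K') → K', IndepMod P m ∧ LinearIndependent K m ∧
      ∀ y, InB P y → ∃ c : Fin (Module.finrank K K') → K, (∀ i, P.1 (c i) ≤ 1) ∧
        y = ∑ i, c i • m i := by
  obtain ⟨r, m, hm, hmax⟩ := exists_maximal (K' := K') P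
  have hr : r = Module.finrank K K' :=
    le_antisymm hm.le_finrank (finrank_le_of_maximal hK hm hmax)
  subst hr
  refine ⟨m, hm, hm.linearIndependent, fun y hy => ?_⟩
  have : Nonempty (Fin (Module.finrank K K')) := Fin.pos_iff_nonempty.1 Module.finrank_pos
  let B := basisOfLinearIndependentOfCardEqFinrank hm.linearIndependent (by simp)
  have hB : ∀ i, B i = m i := fun i => by simp [B]
  set c : Fin (Module.finrank K K') → K := fun i => B.repr y i with hc
  have hy' : y = ∑ i, c i • m i := by
    conv_lhs => rw [← B.sum_repr y]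
    exact Finset.sum_congr rfl (fun i _ => by rw [hB])
  refine ⟨c, ?_, hy'⟩
  by_contra hne
  push Not at hne
  obtain ⟨i1, hi1⟩ := hne
  have hi1' : c i1 ≠ 0 := by
    intro h; rw [h, map_zero] at hi1; exact not_lt.2 zero_le hi1
  obtain ⟨i0, h0, hle, hge⟩ := exists_normalize P c i1 hi1'
  have hsum : ∑ i, (c i / c i0) • m i = (c i0)⁻¹ • y := by
    rw [hy', Finset.smul_sum]
    refine Finset.sum_congr rfl (fun i _ => ?_)
    rw [smul_smul, div_eq_inv_mul]
  have hlt : P.1 (c i0)⁻¹ < 1 := by
    rw [map_inv₀]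
    exact inv_lt_one_of_one_lt₀ (lt_of_lt_of_le hi1 hge)
  have := hm.2 (fun i => c i / c i0) hle (by rw [hsum]; exact InPiB.of_smul hlt hy) i0
  rw [div_self h0, map_one] at this
  exact lt_irrefl _ this

end Groth.Agent.H7.IC
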