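import Groth.Agent.Lib.Helper7.IC3

/-! A family of `[K':K]` elements of `B'` independent mod `π` is an `O_P`-basis of `B'`
(helper7). -/

set_option autoImplicit false

namespace Groth.Agent.H7.IC

open FunFld WithZero Polynomial

variable {k K K' : Type*} [Field k] [Field K] [Field K'] [Algebra k K] [Algebra K K'] [Algebra k K']
  [IsScalarTower k K K'] [FiniteDimensional K K']

theorem IndepMod.exists_coeff {P : Place k K} {r : ℕ} {m : Fin r → K'} (hm : IndepMod P m)
    (hr : r = Module.finrank K K') {y : K'} (hy : InB P y) :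
    ∃ c : Fin r → K, (∀ i, P.1 (c i) ≤ 1) ∧ y = ∑ i, c i • m i := by
  subst hr
  have : Nonempty (Fin (Module.finrank K K')) := Fin.pos_iff_nonempty.1 Module.finrank_pos
  let B := basisOfLinearIndependentOfCardEqFinrank hm.linearIndependent (by simp)
  have hB : ∀ i, B i = m i := fun i => by simp [B]
  set c : Fin (Module.finrank K K') → K := fun i => B.repr y i with hc
  have hy' : y = ∑ i, c i • m i := by
    conv_lhs => rw [← B.sum_repr y]
    exact Finset.sum_congr rfl (fun i _ => by rw [hB])
  refine ⟨c, ?_, hy'⟩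
  by_contra hne
  push Not at hne
  obtain ⟨i1, hi1⟩ := hne
  have hi1' : c i1 ≠ 0 := by
    intro h; rw [h, map_zero] at hi1; exact not_lt.2 zero_le hi1
  obtain ⟨i0, h0, hle, hge⟩ := exists_normalize P c i1 hi1'
  have hsum : ∑ i, (c i / c i0) • m i = (c i0)⁻¹ • y := by
    rw [hy', Finset.smul_sum]
    refine Finset.sum_congr rfl (fun i _ => ?_)
    rw [smul_smul, div_eq_inv_mul]
  have hlt : P.1 (c i0)⁻¹ < 1 := by
    rw [map_inv₀]
    exact inv_lt_one_of_one_lt₀ (lt_of_lt_of_le hi1 hge)
  have := hm.2 (fun i => c i / c i0) hle (by rw [hsum]; exact InPiB.of_smul hlt hy) i0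
  rw [div_self h0, map_one] at this
  exact lt_irrefl _ this

/-- dividing an element of `𝔪_P B'` by a uniformizer. -/
lemma InPiB.div_uniformizer {P : Place k K} {t : K} (ht : P.1 t = exp (-1)) {y : K'}
    (hy : InPiB P y) : InB P (y / algebraMap K K' t) := by
  intro Q hQ
  rw [map_div₀, hQ.isOverWith t, ht, ← exp_nsmul]
  have h1 := hy Q hQ
  have : (ramIdx Q P • (-1 : ℤ)) = -(ramIdx Q P : ℤ) := by simp
  rw [this]
  exact div_le_one_of_le₀ h1 zero_le

lemma InB.mul_uniformizer {P : Place k K} {t : K} (ht : P.1 t = exp (-1)) {y : K'}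
    (hy : InB P y) : InPiB P (algebraMap K K' t * y) := by
  have := InPiB.of_smul (c := t) (by rw [ht, ← exp_zero, exp_lt_exp]; norm_num) hy
  rwa [Algebra.smul_def] at this

end Groth.Agent.H7.IC
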