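import Groth.Agent.Lib.Helper7.IC4

/-! Unramifiedness criterion: a subalgebra `A ⊆ B'` spanned by `[K':K]` independent elements with
`A/πA` reduced is all of `B'`, and every place over `P` is unramified (helper7). -/

set_option autoImplicit false

namespace Groth.Agent.H7.IC

open FunFld WithZero Polynomial

variable {k K K' : Type*} [Field k] [Field K] [Field K'] [Algebra k K] [Algebra K K'] [Algebra k K']
  [IsScalarTower k K K'] [FiniteDimensional K K'] (P : Place k K) [Algebra P.O K']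
  [IsScalarTower P.O K K']

/-- data for the criterion -/
structure RedData (A : Subalgebra P.O K') (t : K) {n : ℕ} (m : Fin n → K') : Prop where
  ht : P.1 t = exp (-1)
  hli : LinearIndependent K m
  hmA : ∀ i, m i ∈ A
  hAB : ∀ y ∈ A, InB P y
  hspan : ∀ y ∈ A, ∃ c : Fin n → K, (∀ i, P.1 (c i) ≤ 1) ∧ y = ∑ i, c i • m i
  hred : ∀ z ∈ A, ∀ s : ℕ, (∃ w ∈ A, z ^ s = algebraMap K K' t * w) →
    ∃ w ∈ A, z = algebraMap K K' t * w

variable {P}

lemma RedData.sum_mem {A : Subalgebra P.O K'} {t : K} {n : ℕ} {m : Fin n → K'}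
    (D : RedData P A t m) (c : Fin n → K) (hc : ∀ i, P.1 (c i) ≤ 1) : ∑ i, c i • m i ∈ A := by
  refine Subalgebra.sum_mem _ (fun i _ => ?_)
  have : c i • m i = (⟨c i, P.mem_O_iff.2 (hc i)⟩ : P.O) • m i :=
    (O_smul_eq (K' := K') P ⟨c i, P.mem_O_iff.2 (hc i)⟩ (m i)).symm
  rw [this]
  exact Subalgebra.smul_mem _ (D.hmA i) _

/-- key step -/
theorem RedData.mem_pi_of_inPiB (hK : IsFunctionField k K) {A : Subalgebra P.O K'} {t : K} {n : ℕ}
    {m : Fin n → K'} (D : RedData P A t m) {z : K'} (hzA : z ∈ A) (hz : InPiB P z) :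
    ∃ w ∈ A, z = algebraMap K K' t * w := by
  have ht := D.ht
  have ht0 : t ≠ 0 := by
    rintro rfl; rw [map_zero] at ht; exact exp_ne_zero ht.symm
  have ht1 : P.1 t ≤ 1 := by rw [ht, ← exp_zero, exp_le_exp]; norm_num
  set tO : P.O := ⟨t, P.mem_O_iff.2 ht1⟩ with htO
  set b := z / algebraMap K K' t with hb
  have hbB : InB P b := hz.div_uniformizer ht
  have hbint : IsIntegral P.O b := (mem_integralClosure_iff P hK b).2 hbB
  obtain ⟨p, hp1, hp2⟩ := hbint
  have hp2' : aeval b p = 0 := hp2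
  have h1 := Polynomial.scaleRoots_aeval_eq_zero (r := tO) hp2'
  have h2 : algebraMap P.O K' tO * b = z := by
    rw [algebraMap_O_apply, hb]
    have : algebraMap K K' t ≠ 0 := by simpa using ht0
    rw [htO]
    field_simp
  rw [h2] at h1
  set q := scaleRoots p tO with hq
  have hqm : q.Monic := (monic_scaleRoots_iff tO).2 hp1
  rw [Polynomial.aeval_eq_sum_range, Finset.sum_range_succ, hqm.coeff_natDegree, one_smul] at h1
  apply D.hred z hzA q.natDegree
  have h3 : z ^ q.natDegree = -∑ i ∈ Finset.range q.natDegree, q.coeff i • z ^ i :=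
    eq_neg_of_add_eq_zero_right h1
  have h4 : ∀ i ∈ Finset.range q.natDegree, ∃ w ∈ A, q.coeff i • z ^ i = algebraMap K K' t * w := by
    intro i hi
    rw [Finset.mem_range, hq, natDegree_scaleRoots] at hi
    obtain ⟨j, hj⟩ : ∃ j, p.natDegree - i = j + 1 := ⟨p.natDegree - i - 1, by omega⟩
    refine ⟨(p.coeff i * tO ^ j) • z ^ i, Subalgebra.smul_mem _ (Subalgebra.pow_mem _ hzA _) _, ?_⟩
    rw [hq, coeff_scaleRoots, hj, pow_succ, ← mul_assoc, Algebra.smul_def, Algebra.smul_def,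
      map_mul, algebraMap_O_apply (K' := K') P tO]
    ring
  choose! w hwA hw using h4
  refine ⟨-∑ i ∈ Finset.range q.natDegree, w i,
    Subalgebra.neg_mem _ (Subalgebra.sum_mem _ hwA), ?_⟩
  rw [h3, mul_neg, Finset.mul_sum]
  congr 1
  exact Finset.sum_congr rfl hw

theorem RedData.indepMod (hK : IsFunctionField k K) {A : Subalgebra P.O K'} {t : K} {n : ℕ}
    {m : Fin n → K'} (D : RedData P A t m) : IndepMod P m := by
  refine ⟨fun i => D.hAB _ (D.hmA i), fun c hc hsum => ?_⟩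
  obtain ⟨w, hwA, hw⟩ := D.mem_pi_of_inPiB hK (D.sum_mem c hc) hsum
  obtain ⟨c', hc', rfl⟩ := D.hspan w hwA
  have h1 : ∑ i, c i • m i = ∑ i, (t * c' i) • m i := by
    rw [hw, Finset.mul_sum]
    refine Finset.sum_congr rfl (fun i _ => ?_)
    rw [mul_smul, Algebra.smul_def t]
  have h2 := Fintype.linearIndependent_iff.1 D.hli (fun i => c i - t * c' i) (by
    simp only [sub_smul, Finset.sum_sub_distrib, h1, sub_self])
  intro i
  have h3 : c i = t * c' i := sub_eq_zero.1 (h2 i)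
  rw [h3, map_mul, D.ht]
  calc exp (-1) * P.1 (c' i) ≤ exp (-1) * 1 := mul_le_mul' le_rfl (hc' i)
    _ < 1 := by rw [mul_one, ← exp_zero, exp_lt_exp]; norm_num

theorem RedData.mem_of_inB (hK : IsFunctionField k K) {A : Subalgebra P.O K'} {t : K} {n : ℕ}
    {m : Fin n → K'} (D : RedData P A t m) (hn : n = Module.finrank K K') {y : K'}
    (hy : InB P y) : y ∈ A := by
  obtain ⟨c, hc, rfl⟩ := (D.indepMod hK).exists_coeff hn hy
  exact D.sum_mem c hc

/-- `B'/πB'` is reduced. -/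
theorem RedData.inPiB_of_pow (hK : IsFunctionField k K) {A : Subalgebra P.O K'} {t : K} {n : ℕ}
    {m : Fin n → K'} (D : RedData P A t m) (hn : n = Module.finrank K K') {y : K'}
    (hy : InB P y) (s : ℕ) (hs : InPiB P (y ^ s)) : InPiB P y := by
  have hyA := D.mem_of_inB hK hn hy
  obtain ⟨w, hwA, hw⟩ := D.mem_pi_of_inPiB hK (Subalgebra.pow_mem _ hyA s) hs
  obtain ⟨w', hwA', hw'⟩ := D.hred y hyA s ⟨w, hwA, hw⟩
  rw [hw']
  exact (D.hAB w' hwA').mul_uniformizer D.ht

/-- all places over `P` are unramified when `B'/πB'` is reduced. -/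
theorem isOverWith_one_of_reduced (hK : IsFunctionField k K)
    (hred : ∀ y : K', InB P y → ∀ s : ℕ, InPiB P (y ^ s) → InPiB P y)
    {Q : Place k K'} (hQ : IsOver Q P) : IsOverWith Q P 1 := by
  classical
  have hfin := finite_isOver (K' := K') hK.isFF1 P
  set Qs := hfin.toFinset with hQsdef
  have hQs : ∀ Q, Q ∈ Qs ↔ IsOver Q P := fun Q => by rw [hQsdef, Set.Finite.mem_toFinset]; rfl
  have he := hQ.isOverWith
  have hpos := hQ.ramIdx_pos
  suffices hle : ramIdx Q P ≤ 1 by
    have : ramIdx Q P = 1 := le_antisymm hle hpos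
    rwa [this] at he
  obtain ⟨y, hy⟩ := Place.exists_approx_eq Qs (fun _ => 0)
    (fun Q' => if Q' = Q then -1 else -(ramIdx Q' P : ℤ))
  simp only [sub_zero] at hy
  have hyQ : Q.1 y = exp (-1) := by
    have := hy Q ((hQs Q).2 hQ)
    rwa [if_pos rfl] at this
  have hyQ' : ∀ Q', IsOver Q' P → Q' ≠ Q → Q'.1 y = exp (-(ramIdx Q' P : ℤ)) := by
    intro Q' hQ' hne
    have := hy Q' ((hQs Q').2 hQ')
    rwa [if_neg hne] at this
  have hyB : InB P y := by
    intro Q' hQ'
    by_cases hne : Q' = Q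
    · subst hne; rw [hyQ, ← exp_zero, exp_le_exp]; norm_num
    · rw [hyQ' Q' hQ' hne, ← exp_zero, exp_le_exp]; omega
  have hpow : InPiB P (y ^ ramIdx Q P) := by
    intro Q' hQ'
    by_cases hne : Q' = Q
    · subst hne
      rw [map_pow, hyQ, ← exp_nsmul]
      apply le_of_eq; congr 1; simp
    · rw [map_pow, hyQ' Q' hQ' hne, ← exp_nsmul, exp_le_exp]
      have h1 : (1 : ℤ) ≤ ramIdx Q P := by exact_mod_cast hpos
      have h2 : (0 : ℤ) ≤ ramIdx Q' P := Int.natCast_nonneg _
      simp only [nsmul_eq_mul]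
      nlinarith
  have h4 := hred y hyB _ hpow Q hQ
  rw [hyQ, exp_le_exp] at h4
  omega

theorem RedData.isOverWith_one (hK : IsFunctionField k K) {A : Subalgebra P.O K'} {t : K} {n : ℕ}
    {m : Fin n → K'} (D : RedData P A t m) (hn : n = Module.finrank K K')
    {Q : Place k K'} (hQ : IsOver Q P) : IsOverWith Q P 1 :=
  isOverWith_one_of_reduced hK (fun _ hy s hs => D.inPiB_of_pow hK hn hy s hs) hQ

end Groth.Agent.H7.IC
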