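import Mathlib
import Groth.Agent.Lib.Helper7.ACI4
import Groth.Agent.Lib.Helper2.PropIntD
import Groth.Agent.Lib.Helper5.AlgSp.UnivInj

/-! # Base change of the small étale site along an integral universally injective morphism of
algebraic spaces: pushforward is fully faithful. -/

set_option autoImplicit false
set_option linter.style.haveILetI false
set_option linter.unusedVariables false
set_option linter.unusedSectionVars false
set_option maxHeartbeats 800000
universe u
open CategoryTheory CategoryTheory.Limits AlgebraicGeometry Opposite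

set_option backward.isDefEq.respectTransparency false

namespace Groth.Agent.H7.INJ

open AlgSp Groth.Agent.H7.ASm Groth.Agent.H7.ACI

variable {S : Scheme.{u}} {Z X : AlgSp.Sp S} {i : Z ⟶ X}
  (hi : AlgSp.RepWith @IsIntegralHom i) (hu : AlgSp.RepWith @UniversallyInjective i)

include hu in
lemma isClosedEmbedding_bcπ (P : EtOver X) :
    Topology.IsClosedEmbedding (EtOver.bcπ hi.1 P).left.base := by
  haveI : IsIntegralHom (EtOver.bcπ hi.1 P).left :=
    hi.2 P.obj.hom _ _ (EtOver.isPullback_bcObj hi.1 P)
  haveI : UniversallyInjective (EtOver.bcπ hi.1 P).left :=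
    hu.2 P.obj.hom _ _ (EtOver.isPullback_bcObj hi.1 P)
  exact Topology.IsClosedEmbedding.of_continuous_injective_isClosedMap
    (EtOver.bcπ hi.1 P).left.continuous (EtOver.bcπ hi.1 P).left.injective
    (EtOver.bcπ hi.1 P).left.isClosedMap

include hu in
theorem exists_lift_hom (U U' : EtOver X)
    (h : (EtOver.bc hi.1).obj U ⟶ (EtOver.bc hi.1).obj U') :
    ∃ (W : EtOver X) (a : W ⟶ U) (b : W ⟶ U'), IsIso ((EtOver.bc hi.1).map a) ∧
      (EtOver.bc hi.1).map a ≫ h = (EtOver.bc hi.1).map b := by
  let G := EtOver.bc hi.1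
  let P : EtOver X := EtOver.prodObj U U'
  let γ : G.obj U ⟶ G.obj P := prodLift hi.1 U U' (𝟙 _) h
  have hγ1 : γ ≫ G.map (EtOver.prodFst U U') = 𝟙 _ := prodLift_fst hi.1 U U' (𝟙 _) h
  have hγ2 : γ ≫ G.map (EtOver.prodSnd U U') = h := prodLift_snd hi.1 U U' (𝟙 _) h
  haveI : Mono γ.hom.left.left := by
    have : γ.hom.left.left ≫ (G.map (EtOver.prodFst U U')).hom.left.left = 𝟙 _ :=
      congrArg (fun t => t.hom.left.left) hγ1
    exact mono_of_mono_fac this
  haveI : Etale γ.hom.left.left := EtOver.etale_left γ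
  haveI : IsOpenImmersion γ.hom.left.left := IsOpenImmersion.of_flat_of_mono γ.hom.left.left
  let c : (G.obj P).obj.left.left ⟶ P.obj.left.left := (EtOver.bcπ hi.1 P).left
  have hce : Topology.IsClosedEmbedding c.base := isClosedEmbedding_bcπ hi hu P
  let O : Set ↥(G.obj P).obj.left.left := Set.range γ.hom.left.left
  have hO : IsOpen O := IsOpenImmersion.isOpen_range γ.hom.left.left
  let W' : P.obj.left.left.Opens := ⟨(c '' Oᶜ)ᶜ,
    (hce.isClosedMap _ hO.isClosed_compl).isOpen_compl⟩
  let W : EtOver X := openObj P W'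
  let w : W ⟶ P := openIncl P W'
  have hpb : IsPullback (G.map w).hom.left.left (EtOver.bcπ hi.1 W).left c W'.ι :=
    EtOver.isPullback_bcMap_left hi.1 w
  haveI : IsOpenImmersion (G.map w).hom.left.left :=
    MorphismProperty.of_isPullback (P := @IsOpenImmersion) hpb.flip
      (inferInstance : IsOpenImmersion W'.ι)
  have hr : Set.range γ.hom.left.left = Set.range (G.map w).hom.left.left := by
    have h1 := Scheme.image_preimage_eq_of_isPullback hpb.flip Set.univ
    rw [Set.preimage_univ, Set.image_univ, Set.image_univ] at h1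
    have h2 : Set.range W'.ι = (W' : Set ↥P.obj.left.left) := Scheme.Opens.range_ι W'
    have h3 : Set.range (G.map w).hom.left.left = c ⁻¹' (W' : Set ↥P.obj.left.left) :=
      h1.trans (congrArg (fun s => c ⁻¹' s) h2)
    refine Eq.trans ?_ h3.symm
    exact eq_preimage_compl_image_compl c hce.injective O
  obtain ⟨θ, hθ, hθw⟩ := exists_iso_of_range_eq γ (G.map w) hr
  refine ⟨W, w ≫ EtOver.prodFst U U', w ≫ EtOver.prodSnd U U', ?_, ?_⟩
  · have : θ ≫ G.map (w ≫ EtOver.prodFst U U') = 𝟙 _ := by
      rw [G.map_comp, ← Category.assoc, hθw, hγ1]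
    have h2 : G.map (w ≫ EtOver.prodFst U U') = inv θ := by
      rw [← cancel_epi θ, this, IsIso.hom_inv_id]
    rw [h2]; infer_instance
  · rw [← cancel_epi θ, G.map_comp, G.map_comp, ← Category.assoc, ← Category.assoc,
      ← Category.assoc, hθw, hγ1, hγ2, Category.id_comp]

include hu in
theorem isLocallyFull_bc : (EtOver.bc hi.1).IsLocallyFull (etTop Z) where
  functorPushforward_imageSieve_mem {U V} f := by
    obtain ⟨W, a, b, ha, hab⟩ := exists_lift_hom hi hu U V f
    exact functorPushforward_mem_of_isIso _ _ _ a ⟨b, hab.symm⟩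

end Groth.Agent.H7.INJ
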