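import Mathlib
import Groth.Agent.Lib.Helper7.INJ1

/-! # Base change of the small étale site along an integral universally injective morphism of
algebraic spaces is cover-dense; pushforward is fully faithful. -/

set_option autoImplicit false
set_option linter.style.haveILetI false
set_option linter.unusedVariables false
set_option linter.unusedSectionVars false
set_option maxHeartbeats 800000
universe u
open CategoryTheory CategoryTheory.Limits AlgebraicGeometry Opposite

set_option backward.isDefEq.respectTransparency false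

namespace Groth.Agent.H7.INJ

open AlgSp Groth.Agent.H7.ASm Groth.Agent.H7.ACI

variable {S : Scheme.{u}} {Z X : AlgSp.Sp S} {i : Z ⟶ X}
  (hi : AlgSp.RepWith @IsIntegralHom i) (hu : AlgSp.RepWith @UniversallyInjective i)

include hu in
theorem exists_cover_by_image (hX : IsAlgSpace X) (V : EtOver Z) (v : ↥V.obj.left.left) :
    ∃ (U : EtOver X) (m : (EtOver.bc hi.1).obj U ⟶ V), v ∈ Set.range m.hom.left.left := by
  obtain ⟨U₀, p₀, hp₀, hs₀⟩ := hX.atlas
  let G := EtOver.bc hi.1
  let E₀ : EtOver X := EtOver.mk p₀ hp₀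
  let Z₀ : EtOver Z := G.obj E₀
  have hsZ : RepWith @Surjective (hi.1.fst p₀) :=
    MorphismProperty.of_isPullback (hi.1.isPullback p₀).flip hs₀
  have hsurj : Function.Surjective (EtOver.prodFst V Z₀).hom.left.left :=
    surjective_prodFst (hi.1.fst p₀) Z₀.property hsZ V
  obtain ⟨v', hv'⟩ := hsurj v
  let π₁ := EtOver.prodFst V Z₀
  let π₂ := EtOver.prodSnd V Z₀
  let f₀ : Z₀.obj.left.left ⟶ U₀.left := (EtOver.bcπ hi.1 E₀).left
  haveI : IsIntegralHom f₀ := hi.2 E₀.obj.hom _ _ (EtOver.isPullback_bcObj hi.1 E₀)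
  haveI : UniversallyInjective f₀ := hu.2 E₀.obj.hom _ _ (EtOver.isPullback_bcObj hi.1 E₀)
  let p : (EtOver.prodObj V Z₀).obj.left.left ⟶ Z₀.obj.left.left := π₂.hom.left.left
  haveI : Etale p := EtOver.etale_left π₂
  obtain ⟨U₁, q, hq, h, h1, h2⟩ :=
    Groth.Agent.H2.PropInt.propC_of_integral f₀ f₀.injective _ p
  obtain ⟨y, hy⟩ := h2.surj v'
  let U : EtOver X := etObj p₀ hp₀ q hq
  let g : U ⟶ E₀ := etObjHom p₀ hp₀ q hq
  have hpb : IsPullback (G.map g).hom.left.left (EtOver.bcπ hi.1 U).left f₀ q :=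
    EtOver.isPullback_bcMap_left hi.1 g
  let e := hpb.isoPullback
  have he : e.hom ≫ pullback.fst f₀ q = (G.map g).hom.left.left := hpb.isoPullback_hom_fst
  let m₀ : (G.obj U).obj.left.left ⟶ (EtOver.prodObj V Z₀).obj.left.left := e.hom ≫ h
  have hm₀ : m₀ ≫ π₂.hom.left.left = (G.map g).hom.left.left := by
    change (e.hom ≫ h) ≫ p = _
    rw [Category.assoc, h1, he]
  obtain ⟨m, hm, -⟩ := exists_hom_of_left (G.map g) π₂ m₀ hm₀
  refine ⟨U, m ≫ π₁, e.inv y, ?_⟩
  have e1 : (m ≫ π₁).hom.left.left = (e.hom ≫ h) ≫ π₁.hom.left.left :=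
    congrArg (fun k => k ≫ π₁.hom.left.left) hm
  have e2 : (m ≫ π₁).hom.left.left (e.inv y) = π₁.hom.left.left (h (e.hom (e.inv y))) := by
    rw [e1]
    simp only [Scheme.Hom.comp_apply]
  rw [e2]
  have e3 : e.hom (e.inv y) = y := by
    rw [← Scheme.Hom.comp_apply, e.inv_hom_id]
    rfl
  rw [e3]
  exact (congrArg (fun t => π₁.hom.left.left t) hy).trans hv'

include hu in
/-- base change along an integral universally injective morphism of algebraic spaces is
cover-dense. -/
theorem isCoverDense_bc (hX : IsAlgSpace X) : (EtOver.bc hi.1).IsCoverDense (etTop Z) where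
  is_cover V := by
    refine sieve_mem_of_jointly_surjective _ (fun v => ?_)
    obtain ⟨U, m, hm⟩ := exists_cover_by_image hi hu hX V v
    exact ⟨(EtOver.bc hi.1).obj U, m, Presieve.in_coverByImage _ m, hm⟩

instance hasLimitsStructuredArrow_type (V : (EtOver Z)ᵒᵖ) :
    HasLimitsOfShape (StructuredArrow V (EtOver.bc hi.1).op) (Type (u + 1)) := by
  haveI : HasLimitsOfSize.{u, u + 1} (Type (u + 1)) :=
    hasLimitsOfSizeShrink.{u, u + 1, u + 1, u + 1} _
  infer_instance

instance hasLimitsStructuredArrow_ab (V : (EtOver Z)ᵒᵖ) :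
    HasLimitsOfShape (StructuredArrow V (EtOver.bc hi.1).op) AddCommGrpCat.{u + 1} := by
  haveI : HasLimitsOfSize.{u, u + 1} AddCommGrpCat.{u + 1} :=
    hasLimitsOfSizeShrink.{u, u + 1, u + 1, u + 1} _
  infer_instance

include hu in
theorem pushEt_full_faithful_type (hX : IsAlgSpace X) :
    (AlgSp.pushEt hi.1 (Type (u + 1))).Full ∧ (AlgSp.pushEt hi.1 (Type (u + 1))).Faithful := by
  haveI := isCoverDense_bc hi hu hX
  haveI := isLocallyFull_bc hi hu
  haveI := fun V => hasLimitsStructuredArrow_type hi V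
  exact full_faithful_of_dense (EtOver.bc hi.1) (etTop X) (etTop Z) (Type (u + 1))

include hu in
theorem pushEt_full_faithful_ab (hX : IsAlgSpace X) :
    (AlgSp.pushEt hi.1 AddCommGrpCat.{u + 1}).Full ∧
      (AlgSp.pushEt hi.1 AddCommGrpCat.{u + 1}).Faithful := by
  haveI := isCoverDense_bc hi hu hX
  haveI := isLocallyFull_bc hi hu
  haveI := fun V => hasLimitsStructuredArrow_ab hi V
  exact full_faithful_of_dense (EtOver.bc hi.1) (etTop X) (etTop Z) AddCommGrpCat.{u + 1}

theorem S10307_main {Y X : AlgSp.Space S} (f : Y ⟶ X)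
    (hi : AlgSp.RepWith @IsIntegralHom f.hom) (hu : AlgSp.IsUnivInjectiveMor f.hom) :
    ((AlgSp.pushEt hi.1 (Type (u + 1))).Full ∧ (AlgSp.pushEt hi.1 (Type (u + 1))).Faithful) ∧
    ((AlgSp.pushEt hi.1 AddCommGrpCat.{u + 1}).Full ∧
      (AlgSp.pushEt hi.1 AddCommGrpCat.{u + 1}).Faithful) ∧
    IsIso (AlgSp.pullPushAdjEt hi.1 (Type (u + 1))).counit := by
  have hu' : AlgSp.RepWith @UniversallyInjective f.hom :=
    (Groth.Agent.H5.AlgSp.repWith_universallyInjective_iff hi.1).2 hu
  have h1 := pushEt_full_faithful_type hi hu' X.property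
  have h2 := pushEt_full_faithful_ab hi hu' X.property
  refine ⟨h1, h2, ?_⟩
  haveI := h1.1
  haveI := h1.2
  infer_instance

end Groth.Agent.H7.INJ
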