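import Mathlib
import Groth.Prelude.Def_BigSite

/-! # Condition (B) for a continuous functor of sites: pushforward preserves epimorphisms of
abelian sheaves -/

set_option autoImplicit false
set_option linter.style.haveILetI false
set_option linter.unusedVariables false
set_option linter.unusedSectionVars false
universe u
open CategoryTheory CategoryTheory.Limits Opposite

namespace Groth.Agent.H7.IPB

variable {C D : Type (u + 1)} [Category.{u} C] [Category.{u} D]
  (J : GrothendieckTopology C) (K : GrothendieckTopology D) (F : C ⥤ D)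

/-- site-theoretic condition (B): every covering sieve of `F U` is answered by a covering sieve of
`U` on whose members `V` the object `F V` is a "disjoint union" of pieces mapping into the sieve. -/
def CondB : Prop :=
  ∀ (U : C) (R : Sieve (F.obj U)), R ∈ K (F.obj U) →
    ∃ R' : Presieve U, Sieve.generate R' ∈ J U ∧
      ∀ ⦃V : C⦄ (g : V ⟶ U), R' g →
        ∃ (μ : Type u) (W : μ → D) (q : ∀ a, W a ⟶ F.obj V),
          Sieve.ofArrows W q ∈ K (F.obj V) ∧ (∀ a, Mono (q a)) ∧
          (∀ a b, a ≠ b → ∀ (T : D) (k : T ⟶ W a) (k' : T ⟶ W b), k ≫ q a = k' ≫ q b →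
            (⊥ : Sieve T) ∈ K T) ∧
          ∀ a, R (q a ≫ F.map g)

theorem subsingleton_of_bot (B : Sheaf K AddCommGrpCat.{u + 1}) (V : D)
    (hV : (⊥ : Sieve V) ∈ K V) : Subsingleton (B.obj.obj (op V)) := by
  have hP : Presieve.IsSheaf K (B.obj ⋙ forget AddCommGrpCat.{u + 1}) :=
    (isSheaf_iff_isSheaf_of_type _ _).mp
      ((sheafCompose K (forget AddCommGrpCat.{u + 1})).obj B).property
  constructor
  intro a b
  apply (hP.isSeparated _ hV).ext
  intro W f hf
  exact hf.elim

theorem epi_pushforward [F.IsContinuous J K] (hB : CondB J K F)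
    {A B : Sheaf K AddCommGrpCat.{u + 1}} (φ : A ⟶ B) [Epi φ] :
    Epi ((F.sheafPushforwardContinuous AddCommGrpCat.{u + 1} J K).map φ) := by
  rw [← Sheaf.isLocallySurjective_iff_epi' AddCommGrpCat.{u + 1}]
  have hφ : Sheaf.IsLocallySurjective φ :=
    (Sheaf.isLocallySurjective_iff_epi' AddCommGrpCat.{u + 1} φ).mpr inferInstance
  constructor
  intro U s
  have hR := Presheaf.imageSieve_mem K φ.hom (U := op (F.obj U)) s
  obtain ⟨R', hR', hh⟩ := hB U _ hR
  refine J.superset_covering ?_ hR'
  rw [Sieve.generate_le_iff]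
  intro V g hg
  obtain ⟨μ, W, q, hcov, hmono, hdisj, hfac⟩ := hh g hg
  -- local lifts
  choose t ht using hfac
  -- glue
  have hA : Presieve.IsSheaf K (A.obj ⋙ forget AddCommGrpCat.{u + 1}) :=
    (isSheaf_iff_isSheaf_of_type _ _).mp
      ((sheafCompose K (forget AddCommGrpCat.{u + 1})).obj A).property
  have hBs : Presieve.IsSheaf K (B.obj ⋙ forget AddCommGrpCat.{u + 1}) :=
    (isSheaf_iff_isSheaf_of_type _ _).mp
      ((sheafCompose K (forget AddCommGrpCat.{u + 1})).obj B).property
  have h1 : Presieve.IsSheafFor (A.obj ⋙ forget AddCommGrpCat.{u + 1}) (Presieve.ofArrows W q) := by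
    rw [Presieve.isSheafFor_iff_generate]; exact hA _ hcov
  rw [Presieve.isSheafFor_arrows_iff] at h1
  obtain ⟨t', ht', -⟩ := h1 t (by
    intro a b T ga gb hab
    by_cases hab' : a = b
    · subst hab'
      haveI := hmono a
      have : ga = gb := (cancel_mono (q a)).1 hab
      rw [this]
    · haveI := subsingleton_of_bot K A T (hdisj a b hab' T ga gb hab)
      exact Subsingleton.elim _ _)
  refine ⟨t', ?_⟩
  -- separatedness
  refine (hBs _ hcov).isSeparatedFor.ext ?_
  rintro T k ⟨T', k', r', ⟨a⟩, rfl⟩
  have key : B.obj.map (q a).op (φ.hom.app (op (F.obj V)) t') =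
      B.obj.map (q a).op (B.obj.map (F.map g).op s) := by
    have hnat := φ.hom.naturality (q a).op
    have e1 : B.obj.map (q a).op (φ.hom.app _ t') = φ.hom.app _ (A.obj.map (q a).op t') :=
      (ConcreteCategory.congr_hom hnat t').symm
    have e2 : A.obj.map (q a).op t' = t a := ht' a
    have e3 : B.obj.map (q a ≫ F.map g).op s = B.obj.map (q a).op (B.obj.map (F.map g).op s) := by
      rw [op_comp, B.obj.map_comp]; rfl
    rw [e1, e2, ht a, e3]
  have e4 : ∀ x : ToType (B.obj.obj (op (F.obj V))),
      B.obj.map (k' ≫ q a).op x = B.obj.map k'.op (B.obj.map (q a).op x) := by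
    intro x
    rw [op_comp, B.obj.map_comp]; rfl
  change B.obj.map (k' ≫ q a).op (φ.hom.app (op (F.obj V)) t') =
    B.obj.map (k' ≫ q a).op (B.obj.map (F.map g).op s)
  rw [e4, e4]
  exact congrArg (B.obj.map k'.op) key

theorem preservesFiniteLimits_push [F.IsContinuous J K] :
    PreservesFiniteLimits (F.sheafPushforwardContinuous AddCommGrpCat.{u + 1} J K) := by
  have : PreservesFiniteLimits (F.sheafPushforwardContinuous AddCommGrpCat.{u + 1} J K ⋙
      sheafToPresheaf _ _) := by
    show PreservesFiniteLimits (sheafToPresheaf _ _ ⋙ (Functor.whiskeringLeft _ _ _).obj F.op)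
    infer_instance
  exact preservesFiniteLimits_of_reflects_of_preserves _ (sheafToPresheaf _ _)

theorem preservesFiniteColimits_of_condB [F.IsContinuous J K]
    [(F.sheafPushforwardContinuous AddCommGrpCat.{u + 1} J K).Additive] (hB : CondB J K F) :
    PreservesFiniteColimits (F.sheafPushforwardContinuous AddCommGrpCat.{u + 1} J K) := by
  rw [Functor.preservesFiniteColimits_iff_forall_exact_map_and_epi]
  intro S hS
  have hl := preservesFiniteLimits_push J K F
  refine ⟨((Functor.preservesFiniteLimits_iff_forall_exact_map_and_mono _).mp hl S hS).1, ?_⟩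
  haveI := hS.epi_g
  exact epi_pushforward J K F hB S.g

end Groth.Agent.H7.IPB
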