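import Mathlib
import Groth.Prelude.Def_AlgSpOX2
import Groth.Agent.Lib.Helper7.IPB1
import Groth.Agent.Lib.Helper2.PropIntE
import Groth.Agent.Lib.Helper5.AlgSp.IntegralMor

/-! # Condition (B) for base change along an integral representable morphism of sheaves -/

set_option autoImplicit false
set_option linter.style.haveILetI false
set_option linter.unusedVariables false
set_option linter.unusedSectionVars false
set_option backward.isDefEq.respectTransparency false
set_option maxHeartbeats 400000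
universe u
open CategoryTheory CategoryTheory.Limits AlgebraicGeometry Opposite

namespace Groth.Agent.H7.IPB

open _root_.AlgSp

variable {S : Scheme.{u}} {X : Sp S}

theorem bot_mem_etTop_of_isEmpty (T : EtOver X) (hT : IsEmpty ↥T.obj.left.left) :
    (⊥ : Sieve T) ∈ etTop X T := by
  have h := ofArrows_mem_etTop (E := T) (fun e : PEmpty.{1} => e.elim) (fun e => e.elim)
    (fun x => (hT.false x).elim)
  refine (etTop X).superset_covering ?_ h
  rw [Sieve.ofArrows, Sieve.generate_le_iff]
  rintro _ _ ⟨e⟩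
  exact e.elim

/-- an étale scheme over the underlying scheme of an object gives an object of the site -/
noncomputable def extObj (B : EtOver X) {Z : Scheme.{u}} (z : Z ⟶ B.obj.left.left) (hz : Etale z) :
    EtOver X :=
  EtOver.mk (U := Over.mk (z ≫ B.obj.left.hom))
    ((yon S).map (Over.homMk z rfl : Over.mk (z ≫ B.obj.left.hom) ⟶ B.obj.left) ≫ B.obj.hom)
    ((repWith_isMultiplicative (S := S) @Etale).comp_mem _ _
      ((repWith_yon_map_iff _ _).2 hz) B.property)

noncomputable def extHom (B : EtOver X) {Z : Scheme.{u}} (z : Z ⟶ B.obj.left.left) (hz : Etale z) :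
    extObj B z hz ⟶ B :=
  EtOver.homMk (Over.homMk z rfl) rfl

theorem extHom_left_left (B : EtOver X) {Z : Scheme.{u}} (z : Z ⟶ B.obj.left.left) (hz : Etale z) :
    (extHom B z hz).hom.left.left = z := rfl

/-- morphisms into an object are determined by the underlying morphism of schemes -/
theorem hom_ext_left_left {E E' : EtOver X} (k k' : E ⟶ E')
    (h : k.hom.left.left = k'.hom.left.left) : k = k' :=
  EtOver.hom_ext _ _ (Over.OverMorphism.ext h)

theorem mono_of_mono_left_left {E E' : EtOver X} (k : E ⟶ E') [Mono k.hom.left.left] : Mono k := by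
  constructor
  intro T a b hab
  apply hom_ext_left_left
  have h := congrArg (fun m => m.hom.left.left) hab
  exact (cancel_mono k.hom.left.left).1 h

/-- a morphism of schemes compatible with the maps to a common target object lifts to the site -/
noncomputable def extLiftOver (Bj : EtOver X) {Z : Scheme.{u}} (z : Z ⟶ Bj.obj.left.left)
    {B E : EtOver X} (m : Bj ⟶ B) (r : E ⟶ B) (h : Z ⟶ E.obj.left.left)
    (hh : h ≫ r.hom.left.left = z ≫ m.hom.left.left) :
    Over.mk (z ≫ Bj.obj.left.hom) ⟶ E.obj.left :=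
  Over.homMk h (by
    change h ≫ E.obj.left.hom = z ≫ Bj.obj.left.hom
    have e1 : E.obj.left.hom = r.hom.left.left ≫ B.obj.left.hom := (Over.w r.hom.left).symm
    have e2 : Bj.obj.left.hom = m.hom.left.left ≫ B.obj.left.hom := (Over.w m.hom.left).symm
    calc h ≫ E.obj.left.hom = h ≫ r.hom.left.left ≫ B.obj.left.hom := congrArg (h ≫ ·) e1
      _ = (h ≫ r.hom.left.left) ≫ B.obj.left.hom := (Category.assoc _ _ _).symm
      _ = (z ≫ m.hom.left.left) ≫ B.obj.left.hom := congrArg (· ≫ B.obj.left.hom) hh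
      _ = z ≫ m.hom.left.left ≫ B.obj.left.hom := Category.assoc _ _ _
      _ = z ≫ Bj.obj.left.hom := congrArg (z ≫ ·) e2.symm)

theorem extLiftOver_comp (Bj : EtOver X) {Z : Scheme.{u}} (z : Z ⟶ Bj.obj.left.left)
    {B E : EtOver X} (m : Bj ⟶ B) (r : E ⟶ B) (h : Z ⟶ E.obj.left.left)
    (hh : h ≫ r.hom.left.left = z ≫ m.hom.left.left) :
    extLiftOver Bj z m r h hh ≫ r.hom.left =
      (Over.homMk z rfl : Over.mk (z ≫ Bj.obj.left.hom) ⟶ Bj.obj.left) ≫ m.hom.left :=
  Over.OverMorphism.ext hh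

noncomputable def extLift (Bj : EtOver X) {Z : Scheme.{u}} (z : Z ⟶ Bj.obj.left.left) (hz : Etale z)
    {B E : EtOver X} (m : Bj ⟶ B) (r : E ⟶ B) (h : Z ⟶ E.obj.left.left)
    (hh : h ≫ r.hom.left.left = z ≫ m.hom.left.left) :
    extObj Bj z hz ⟶ E :=
  EtOver.homMk (extLiftOver Bj z m r h hh) (by
    change (yon S).map (extLiftOver Bj z m r h hh) ≫ E.obj.hom =
      (yon S).map (Over.homMk z rfl : Over.mk (z ≫ Bj.obj.left.hom) ⟶ Bj.obj.left) ≫ Bj.obj.hom
    calc (yon S).map (extLiftOver Bj z m r h hh) ≫ E.obj.hom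
        = (yon S).map (extLiftOver Bj z m r h hh) ≫ ((yon S).map r.hom.left ≫ B.obj.hom) :=
          congrArg ((yon S).map (extLiftOver Bj z m r h hh) ≫ ·) (EtOver.w r).symm
      _ = ((yon S).map (extLiftOver Bj z m r h hh) ≫ (yon S).map r.hom.left) ≫ B.obj.hom :=
          (Category.assoc _ _ _).symm
      _ = (yon S).map (extLiftOver Bj z m r h hh ≫ r.hom.left) ≫ B.obj.hom :=
          congrArg (· ≫ B.obj.hom) ((yon S).map_comp _ _).symm
      _ = (yon S).map ((Over.homMk z rfl : Over.mk (z ≫ Bj.obj.left.hom) ⟶ Bj.obj.left) ≫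
            m.hom.left) ≫ B.obj.hom :=
          congrArg (fun t => (yon S).map t ≫ B.obj.hom) (extLiftOver_comp Bj z m r h hh)
      _ = ((yon S).map (Over.homMk z rfl : Over.mk (z ≫ Bj.obj.left.hom) ⟶ Bj.obj.left) ≫
            (yon S).map m.hom.left) ≫ B.obj.hom :=
          congrArg (· ≫ B.obj.hom) ((yon S).map_comp _ _)
      _ = (yon S).map (Over.homMk z rfl : Over.mk (z ≫ Bj.obj.left.hom) ⟶ Bj.obj.left) ≫
            ((yon S).map m.hom.left ≫ B.obj.hom) := Category.assoc _ _ _
      _ = _ := congrArg ((yon S).map (Over.homMk z rfl :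
            Over.mk (z ≫ Bj.obj.left.hom) ⟶ Bj.obj.left) ≫ ·) (EtOver.w m))

theorem extLift_comp (Bj : EtOver X) {Z : Scheme.{u}} (z : Z ⟶ Bj.obj.left.left) (hz : Etale z)
    {B E : EtOver X} (m : Bj ⟶ B) (r : E ⟶ B) (h : Z ⟶ E.obj.left.left)
    (hh : h ≫ r.hom.left.left = z ≫ m.hom.left.left) :
    extLift Bj z hz m r h hh ≫ r = extHom Bj z hz ≫ m :=
  hom_ext_left_left _ _ hh

end Groth.Agent.H7.IPB
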