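import Mathlib
import Groth.Agent.Lib.Helper7.INJ2
import Groth.Agent.Lib.Helper7.IPB2
import Groth.Agent.Lib.Helper5.AlgSp.QCompact

/-! # Essential image of the pushforward along an integral universally injective morphism of
algebraic spaces. -/

set_option autoImplicit false
set_option linter.style.haveILetI false
set_option linter.unusedVariables false
set_option linter.unusedSectionVars false
set_option maxHeartbeats 800000
universe u
open CategoryTheory CategoryTheory.Limits AlgebraicGeometry Opposite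

set_option backward.isDefEq.respectTransparency false

namespace Groth.Agent.H7.INJ

open AlgSp Groth.Agent.H7.ASm Groth.Agent.H7.ACI

section abstract

/-- a sheaf for `J` lies in the essential image of the pushforward along a dense functor iff it
is a sheaf for the induced topology. -/
theorem essImage_iff_isSheaf_induced {C D : Type*} [Category C] [Category D] (G : C ⥤ D)
    (J : GrothendieckTopology C) (K : GrothendieckTopology D) (A : Type*) [Category A]
    [G.IsContinuous J K] [G.IsCoverDense K] [G.IsLocallyFull K] [G.IsLocallyFaithful K]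
    [∀ V, HasLimitsOfShape (StructuredArrow V G.op) A] (H : Sheaf J A) :
    (G.sheafPushforwardContinuous A J K).essImage H ↔
      Presheaf.IsSheaf (G.inducedTopology K) H.obj := by
  let J' : GrothendieckTopology C := G.inducedTopology K
  haveI : G.IsDenseSubsite J' K := inferInstance
  let P : Sheaf K A ⥤ Sheaf J' A := G.sheafPushforwardContinuous A J' K
  haveI : P.IsEquivalence := inferInstance
  constructor
  · rintro ⟨F, ⟨e⟩⟩
    have e' : G.op ⋙ F.obj ≅ H.obj := (sheafToPresheaf J A).mapIso e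
    exact (Presheaf.isSheaf_of_iso_iff e').1 (P.obj F).property
  · intro hH
    let H' : Sheaf J' A := ⟨H.obj, hH⟩
    let F := P.objPreimage H'
    let e : P.obj F ≅ H' := P.objObjPreimageIso H'
    have e' : G.op ⋙ F.obj ≅ H.obj := (sheafToPresheaf J' A).mapIso e
    exact ⟨F, ⟨(fullyFaithfulSheafToPresheaf J A).preimageIso e'⟩⟩

/-- a `J`-sheaf of types is a `J'`-sheaf if every `J'`-covering sieve is locally (for `J`) one for
which the sheaf condition holds. -/
theorem isSheaf_of_local {C : Type*} [Category C] (J J' : GrothendieckTopology C)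
    (P : Cᵒᵖ ⥤ Type*) (hP : Presieve.IsSheaf J P)
    (h : ∀ (E : C) (R : Sieve E), R ∈ J' E → ∃ R' : Sieve E, R' ∈ J E ∧
       ∀ ⦃T : C⦄ ⦃g : T ⟶ E⦄, R' g → Presieve.IsSheafFor P (R.pullback g : Presieve T)) :
    Presieve.IsSheaf J' P := by
  intro E R hR
  obtain ⟨R', hR', hloc⟩ := h E R hR
  exact Presieve.isSheafFor_trans P R' R (hP _ hR')
    (fun T g hg => (hP _ (J.pullback_stable g hR')).isSeparatedFor) hloc

end abstract

variable {S : Scheme.{u}} {Z X : AlgSp.Sp S} {i : Z ⟶ X}
  (hi : AlgSp.RepWith @IsIntegralHom i) (hu : AlgSp.RepWith @UniversallyInjective i)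

/-- the base change of `E` is empty iff the image of `E` misses the image of `i`. -/
theorem isEmpty_bc_iff (E : EtOver X) :
    IsEmpty ↥((EtOver.bc hi.1).obj E).obj.left.left ↔
      Disjoint (Set.range (AlgSp.Points.map E.obj.hom)) (Set.range (AlgSp.Points.map i)) := by
  have sq := (EtOver.isPullback_bcObj hi.1 E).flip
  have hr := Groth.Agent.H5.AlgSp.range_points_map_fst sq
  constructor
  · intro hE
    rw [Set.disjoint_left]
    rintro _ ⟨x, rfl⟩ hx
    have hx' : x ∈ Set.range (Points.map ((yon S).map (EtOver.bcπ hi.1 E))) := by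
      rw [hr]; exact hx
    obtain ⟨y, -⟩ := hx'
    exact hE.false ((Points.schemeEquiv _).symm y)
  · intro hd
    refine ⟨fun t => ?_⟩
    let y := Points.schemeEquiv ((EtOver.bc hi.1).obj E).obj.left t
    have hy : Points.map ((yon S).map (EtOver.bcπ hi.1 E)) y ∈
        Points.map E.obj.hom ⁻¹' Set.range (Points.map i) := by
      rw [← hr]; exact ⟨y, rfl⟩
    exact Set.disjoint_left.1 hd ⟨_, rfl⟩ hy

/-- the sieve of arrows which are in `R` or whose source has empty base change. -/
def bigSieve {E : EtOver X} (R : Sieve E) : Sieve E where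
  arrows T g := R g ∨ IsEmpty ↥((EtOver.bc hi.1).obj T).obj.left.left
  downward_closed := by
    rintro T T' g (h | h) k
    · exact Or.inl (R.downward_closed h k)
    · exact Or.inr ⟨fun t => h.false (((EtOver.bc hi.1).map k).hom.left.left t)⟩

include hu in
theorem bigSieve_mem {E : EtOver X} (R : Sieve E)
    (hR : R.functorPushforward (EtOver.bc hi.1) ∈ etTop Z ((EtOver.bc hi.1).obj E)) :
    bigSieve hi R ∈ etTop X E := by
  let G := EtOver.bc hi.1
  let c : (G.obj E).obj.left.left ⟶ E.obj.left.left := (EtOver.bcπ hi.1 E).left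
  have hce : Topology.IsClosedEmbedding c.base := isClosedEmbedding_bcπ hi hu E
  let W' : E.obj.left.left.Opens := ⟨(Set.range c)ᶜ, hce.isClosed_range.isOpen_compl⟩
  let W : EtOver X := openObj E W'
  let w : W ⟶ E := openIncl E W'
  have hpb : IsPullback (G.map w).hom.left.left (EtOver.bcπ hi.1 W).left c W'.ι :=
    EtOver.isPullback_bcMap_left hi.1 w
  have hWe : IsEmpty ↥(G.obj W).obj.left.left := by
    refine ⟨fun y => ?_⟩
    have h1 : c ((G.map w).hom.left.left y) = W'.ι ((EtOver.bcπ hi.1 W).left y) :=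
      (Scheme.Hom.comp_apply _ _ y).symm.trans
        ((congrArg (fun k : (G.obj W).obj.left.left ⟶ E.obj.left.left => k y) hpb.w).trans
          (Scheme.Hom.comp_apply _ _ y))
    have h2 : W'.ι ((EtOver.bcπ hi.1 W).left y) ∈ (Set.range c)ᶜ :=
      ((EtOver.bcπ hi.1 W).left y).2
    exact h2 (h1 ▸ ⟨_, rfl⟩)
  refine sieve_mem_of_jointly_surjective _ (fun e => ?_)
  by_cases he : e ∈ Set.range c
  · obtain ⟨z, rfl⟩ := he
    obtain ⟨V, v, hv, y, hy⟩ := exists_mem_range_of_mem_etTop _ hR z
    obtain ⟨T, g, a, hg, rfl⟩ := hv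
    refine ⟨T, g, Or.inl hg, (EtOver.bcπ hi.1 T).left (a.hom.left.left y), ?_⟩
    have hpb' : IsPullback (G.map g).hom.left.left (EtOver.bcπ hi.1 T).left c g.hom.left.left :=
      EtOver.isPullback_bcMap_left hi.1 g
    have h3 : g.hom.left.left ((EtOver.bcπ hi.1 T).left (a.hom.left.left y)) =
        c ((G.map g).hom.left.left (a.hom.left.left y)) :=
      (Scheme.Hom.comp_apply _ _ _).symm.trans
        ((congrArg (fun k : (G.obj T).obj.left.left ⟶ E.obj.left.left => k (a.hom.left.left y))
          hpb'.w.symm).trans (Scheme.Hom.comp_apply _ _ _))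
    rw [h3]
    exact congrArg (fun t => c t) hy
  · exact ⟨W, w, Or.inr hWe, ⟨e, he⟩, rfl⟩

include hu in
theorem isSheaf_induced_of_unique (hX : IsAlgSpace X)
    (P : (EtOver X)ᵒᵖ ⥤ Type (u + 1)) (hP : Presieve.IsSheaf (etTop X) P)
    (hE : ∀ T : EtOver X, IsEmpty ↥((EtOver.bc hi.1).obj T).obj.left.left →
      Nonempty (Unique (P.obj (op T)))) :
    Presieve.IsSheaf ((EtOver.bc hi.1).inducedTopology (etTop Z)) P := by
  haveI := isCoverDense_bc hi hu hX
  haveI := isLocallyFull_bc hi hu
  refine isSheaf_of_local (etTop X) _ P hP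
    (fun E R hR => ⟨bigSieve hi R, bigSieve_mem hi hu R
      ((Functor.mem_inducedTopology_iff_of_isCoverDense (EtOver.bc hi.1) (etTop Z) R).1 hR), ?_⟩)
  rintro T g (hg | hg)
  · rw [Sieve.pullback_eq_top_of_mem R hg]
    exact Presieve.isSheafFor_top_sieve P
  · have hall : ∀ (T' : EtOver X) (k : T' ⟶ T), Nonempty (Unique (P.obj (op T'))) :=
      fun T' k => hE T' ⟨fun t => hg.false (((EtOver.bc hi.1).map k).hom.left.left t)⟩
    intro x hx
    obtain ⟨uT⟩ := hall T (𝟙 T)
    refine ⟨uT.default, ?_, ?_⟩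
    · intro T' k hk
      obtain ⟨u'⟩ := hall T' k
      exact (u'.uniq _).trans (u'.uniq _).symm
    · intro y _
      exact uT.uniq y

include hu in
theorem essImage_type (hX : IsAlgSpace X) (H : EtSh X (Type (u + 1))) :
    (AlgSp.pushEt hi.1 (Type (u + 1))).essImage H ↔
      ∀ E : EtOver X,
        Disjoint (Set.range (AlgSp.Points.map E.obj.hom)) (Set.range (AlgSp.Points.map i)) →
          Nonempty (Unique (H.obj.obj (op E))) := by
  haveI := isCoverDense_bc hi hu hX
  haveI := isLocallyFull_bc hi hu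
  haveI := fun V => hasLimitsStructuredArrow_type hi V
  constructor
  · rintro ⟨F, ⟨e⟩⟩ E hE
    have hemp := (isEmpty_bc_iff hi E).2 hE
    have hbot := Groth.Agent.H7.IPB.bot_mem_etTop_of_isEmpty _ hemp
    have hterm := Sheaf.isTerminalOfBotCover F _ hbot
    have e' : F.obj.obj (op ((EtOver.bc hi.1).obj E)) ≅ H.obj.obj (op E) :=
      ((sheafToPresheaf _ _).mapIso e).app (op E)
    exact ⟨Types.isTerminalEquivUnique _ (hterm.ofIso e')⟩
  · intro h
    refine (essImage_iff_isSheaf_induced (EtOver.bc hi.1) (etTop X) (etTop Z) (Type (u + 1)) H).2 ?_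
    rw [isSheaf_iff_isSheaf_of_type]
    exact isSheaf_induced_of_unique hi hu hX H.obj ((isSheaf_iff_isSheaf_of_type _ _).1 H.property)
      (fun T hT => h T ((isEmpty_bc_iff hi T).1 hT))

include hu in
theorem essImage_ab (hX : IsAlgSpace X) (H : AbEt X) :
    (AlgSp.pushEt hi.1 AddCommGrpCat.{u + 1}).essImage H ↔
      ∀ E : EtOver X,
        Disjoint (Set.range (AlgSp.Points.map E.obj.hom)) (Set.range (AlgSp.Points.map i)) →
          Subsingleton ↥(H.obj.obj (op E)) := by
  haveI := isCoverDense_bc hi hu hX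
  haveI := isLocallyFull_bc hi hu
  haveI := fun V => hasLimitsStructuredArrow_ab hi V
  haveI : HasLimitsOfSize.{u, u + 1} AddCommGrpCat.{u + 1} :=
    hasLimitsOfSizeShrink.{u, u + 1, u + 1, u + 1} _
  haveI : PreservesLimitsOfSize.{u, u + 1} (forget AddCommGrpCat.{u + 1}) :=
    preservesLimitsOfSize_shrink.{u + 1, u + 1, u, u + 1} _
  constructor
  · rintro ⟨F, ⟨e⟩⟩ E hE
    have hemp := (isEmpty_bc_iff hi E).2 hE
    have hbot := Groth.Agent.H7.IPB.bot_mem_etTop_of_isEmpty _ hemp
    have hterm := Sheaf.isTerminalOfBotCover F _ hbot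
    have e' : F.obj.obj (op ((EtOver.bc hi.1).obj E)) ≅ H.obj.obj (op E) :=
      ((sheafToPresheaf _ _).mapIso e).app (op E)
    have hz : IsZero (H.obj.obj (op E)) :=
      IsZero.of_iso (isZero_zero _) ((hterm.ofIso e').uniqueUpToIso HasZeroObject.zeroIsTerminal)
    exact AddCommGrpCat.subsingleton_of_isZero hz
  · intro h
    refine (essImage_iff_isSheaf_induced (EtOver.bc hi.1) (etTop X) (etTop Z)
      AddCommGrpCat.{u + 1} H).2 ?_
    rw [Presheaf.isSheaf_iff_isSheaf_comp _ _ (forget AddCommGrpCat.{u + 1}),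
      isSheaf_iff_isSheaf_of_type]
    refine isSheaf_induced_of_unique hi hu hX (H.obj ⋙ forget AddCommGrpCat.{u + 1}) ?_ ?_
    · exact (isSheaf_iff_isSheaf_of_type _ _).1
        ((Presheaf.isSheaf_iff_isSheaf_comp _ _ (forget AddCommGrpCat.{u + 1})).1 H.property)
    · intro T hT
      haveI := h T ((isEmpty_bc_iff hi T).1 hT)
      exact ⟨⟨⟨(0 : ↥(H.obj.obj (op T)))⟩, fun a => Subsingleton.elim _ _⟩⟩

theorem S10334_main {Y X : AlgSp.Space S} (f : Y ⟶ X)
    (hi : AlgSp.RepWith @IsIntegralHom f.hom) (hu : AlgSp.IsUnivInjectiveMor f.hom) :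
    (∀ G : AlgSp.EtSh X.obj (Type (u + 1)),
      (AlgSp.pushEt hi.1 (Type (u + 1))).essImage G ↔
        ∀ E : AlgSp.EtOver X.obj,
          Disjoint (Set.range (AlgSp.Points.map E.obj.hom)) (Set.range (AlgSp.Points.map f.hom)) →
            Nonempty (Unique (G.obj.obj (op E)))) ∧
    (∀ G : AlgSp.AbEt X.obj,
      (AlgSp.pushEt hi.1 AddCommGrpCat.{u + 1}).essImage G ↔
        ∀ E : AlgSp.EtOver X.obj,
          Disjoint (Set.range (AlgSp.Points.map E.obj.hom)) (Set.range (AlgSp.Points.map f.hom)) →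
            Subsingleton ↥(G.obj.obj (op E))) := by
  have hu' : AlgSp.RepWith @UniversallyInjective f.hom :=
    (Groth.Agent.H5.AlgSp.repWith_universallyInjective_iff hi.1).2 hu
  exact ⟨fun G => essImage_type hi hu' X.property G, fun G => essImage_ab hi hu' X.property G⟩

end Groth.Agent.H7.INJ
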