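import Mathlib
import Groth.Agent.Lib.Helper7.IPB2

set_option autoImplicit false
set_option linter.style.haveILetI false
set_option linter.unusedVariables false
set_option linter.unusedSectionVars false
set_option backward.isDefEq.respectTransparency false
set_option maxHeartbeats 800000
universe u
open CategoryTheory CategoryTheory.Limits AlgebraicGeometry Opposite

namespace Groth.Agent.H7.IPB

open _root_.AlgSp

variable {S : Scheme.{u}} {X Y₀ : Sp S} {f : X ⟶ Y₀} (hf : Representable f)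

theorem condB_bc (hint : RepWith @IsIntegralHom f) :
    CondB (etTop Y₀) (etTop X) (EtOver.bc hf) := by
  intro V R hR
  unfold etTop at hR
  rw [Precoverage.mem_toGrothendieck_iff_of_isStableUnderComposition] at hR
  obtain ⟨R₀, hR₀, hle⟩ := hR
  obtain ⟨ι, Uo, r, rfl⟩ := R₀.exists_eq_ofArrows
  rw [ofArrows_mem_etPre_iff] at hR₀
  choose i hi using hR₀
  let B : EtOver X := (EtOver.bc hf).obj V
  let g : B.obj.left.left ⟶ V.obj.left.left := (EtOver.bcπ hf V).left
  haveI hg : IsIntegralHom g := hint.2 V.obj.hom _ _ (EtOver.isPullback_bcObj hf V)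
  let fstI : pullback g (𝟙 V.obj.left.left) ⟶ B.obj.left.left := pullback.fst g (𝟙 V.obj.left.left)
  haveI : IsIso fstI := inferInstance
  let γ : ∀ x : ↥B.obj.left.left, (Uo (i x)).obj.left.left ⟶ pullback g (𝟙 V.obj.left.left) :=
    fun x => (r (i x)).hom.left.left ≫ inv fstI
  have hγet : ∀ x, Etale (γ x) := fun x => by
    haveI := EtOver.etale_left (r (i x))
    infer_instance
  have hγsurj : ∀ z : ↥(pullback g (𝟙 V.obj.left.left)), ∃ x, z ∈ Set.range (γ x).base := by
    intro z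
    obtain ⟨y, hy⟩ := hi (fstI.base z)
    refine ⟨fstI.base z, y, ?_⟩
    change ((r _).hom.left.left ≫ inv fstI).base y = z
    rw [Scheme.Hom.comp_apply]
    have : (r (i (fstI.base z))).hom.left.left.base y = fstI.base z := hy
    rw [this, ← Scheme.Hom.comp_apply, IsIso.hom_inv_id]
    rfl
  obtain ⟨κ, V', v', hv'et, hv'surj, hW⟩ := Groth.Agent.H2.PropInt.propB_of_integral g _
    (𝟙 V.obj.left.left) (↥B.obj.left.left) (fun x => (Uo (i x)).obj.left.left) γ hγet hγsurj
  refine ⟨Presieve.ofArrows (fun j => extObj V (v' j) (hv'et j))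
    (fun j => extHom V (v' j) (hv'et j)), ofArrows_mem_etTop _ _ hv'surj, ?_⟩
  rintro _ _ ⟨j⟩
  obtain ⟨μ, Wop, hdisj, hsup, hfac⟩ := hW j
  choose ia h hh using hfac
  let Vj : EtOver Y₀ := extObj V (v' j) (hv'et j)
  let gj : Vj ⟶ V := extHom V (v' j) (hv'et j)
  let Bj : EtOver X := (EtOver.bc hf).obj Vj
  have sq : IsPullback (EtOver.bcMap hf gj).hom.left.left (EtOver.bcπ hf Vj).left g (v' j) :=
    EtOver.isPullback_bcMap_left hf gj
  let β : Bj.obj.left.left ⟶ B.obj.left.left := (EtOver.bcMap hf gj).hom.left.left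
  let πj : Bj.obj.left.left ⟶ V' j := (EtOver.bcπ hf Vj).left
  let θ : pullback g (v' j ≫ 𝟙 V.obj.left.left) ⟶ Bj.obj.left.left :=
    sq.lift (pullback.fst _ _) (pullback.snd _ _)
      (by rw [pullback.condition, Category.comp_id])
  let θ' : Bj.obj.left.left ⟶ pullback g (v' j ≫ 𝟙 V.obj.left.left) :=
    pullback.lift β πj (by rw [Category.comp_id]; exact sq.w)
  have hθβ : θ ≫ β = pullback.fst _ _ := sq.lift_fst _ _ _
  have hθπ : θ ≫ πj = pullback.snd _ _ := sq.lift_snd _ _ _
  have hθθ' : θ ≫ θ' = 𝟙 _ := by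
    apply pullback.hom_ext
    · rw [Category.assoc, pullback.lift_fst, hθβ, Category.id_comp]
    · rw [Category.assoc, pullback.lift_snd, hθπ, Category.id_comp]
  have hθ'θ : θ' ≫ θ = 𝟙 _ := by
    apply sq.hom_ext
    · rw [Category.assoc, hθβ, pullback.lift_fst, Category.id_comp]
    · rw [Category.assoc, hθπ, pullback.lift_snd, Category.id_comp]
  haveI : IsIso θ := ⟨θ', hθθ', hθ'θ⟩
  let z : ∀ a : μ, ((Wop a : (pullback g (v' j ≫ 𝟙 V.obj.left.left)).Opens) : Scheme.{u}) ⟶
      Bj.obj.left.left := fun a => (Wop a).ι ≫ θ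
  have hz : ∀ a, Etale (z a) := fun a => inferInstance
  refine ⟨μ, fun a => extObj Bj (z a) (hz a), fun a => extHom Bj (z a) (hz a), ?_, ?_, ?_, ?_⟩
  · refine ofArrows_mem_etTop _ _ (fun b => ?_)
    have hb' : θ'.base b ∈ (⨆ a, Wop a : (pullback g (v' j ≫ 𝟙 V.obj.left.left)).Opens) := by
      rw [hsup]; trivial
    obtain ⟨a, hba⟩ := TopologicalSpace.Opens.mem_iSup.1 hb'
    refine ⟨a, ⟨θ'.base b, hba⟩, ?_⟩
    change ((Wop a).ι ≫ θ).base _ = b
    rw [Scheme.Hom.comp_apply]
    have h1 : (Wop a).ι.base ⟨θ'.base b, hba⟩ = θ'.base b := rfl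
    rw [h1, ← Scheme.Hom.comp_apply, hθ'θ]
    rfl
  · intro a
    haveI : Mono (extHom Bj (z a) (hz a)).hom.left.left :=
      inferInstanceAs (Mono ((Wop a).ι ≫ θ))
    exact mono_of_mono_left_left _
  · intro a b hab T k k' hk
    refine bot_mem_etTop_of_isEmpty T ⟨fun t => ?_⟩
    have h0 : k.hom.left.left ≫ ((Wop a).ι ≫ θ) = k'.hom.left.left ≫ ((Wop b).ι ≫ θ) :=
      congrArg (fun m => m.hom.left.left) hk
    have h1 : (k.hom.left.left ≫ (Wop a).ι) ≫ θ = (k'.hom.left.left ≫ (Wop b).ι) ≫ θ :=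
      (Category.assoc _ _ _).trans (h0.trans (Category.assoc _ _ _).symm)
    have h2 : k.hom.left.left ≫ (Wop a).ι = k'.hom.left.left ≫ (Wop b).ι := (cancel_mono θ).1 h1
    have h2' := congrArg (fun m => m.base t) h2
    have h3 : ((k.hom.left.left.base t).1 : ↥(pullback g (v' j ≫ 𝟙 V.obj.left.left))) =
        (k'.hom.left.left.base t).1 := h2'
    have h4 : (k.hom.left.left.base t).1 ∈ Wop a ⊓ Wop b :=
      ⟨(k.hom.left.left.base t).2, h3 ▸ (k'.hom.left.left.base t).2⟩
    exact (hdisj a b hab).le_bot h4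
  · intro a
    have hcomp : h a ≫ (r (i (ia a))).hom.left.left = z a ≫ β := by
      have e1 := congrArg (· ≫ fstI) (hh a)
      simp only [Category.assoc] at e1
      have e2 : γ (ia a) ≫ fstI = (r (i (ia a))).hom.left.left := by
        change ((r (i (ia a))).hom.left.left ≫ inv fstI) ≫ fstI = _
        rw [Category.assoc, IsIso.inv_hom_id, Category.comp_id]
      rw [e2] at e1
      rw [e1]
      change _ = ((Wop a).ι ≫ θ) ≫ β
      rw [Category.assoc, hθβ]
      congr 1
      exact (pullback.lift_fst _ _ _).trans (Category.comp_id _)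
    have hR1 : R (r (i (ia a))) := hle _ _ (Presieve.ofArrows.mk _)
    have := R.downward_closed hR1 (extLift Bj (z a) (hz a) (EtOver.bcMap hf gj) (r (i (ia a)))
      (h a) hcomp)
    rw [extLift_comp] at this
    exact this

end Groth.Agent.H7.IPB
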