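import Mathlib
import Groth.Agent.Lib.Helper7.IPB3
import Groth.Agent.Lib.Helper7.BS4

set_option autoImplicit false
set_option linter.style.haveILetI false
set_option linter.unusedVariables false
set_option linter.unusedSectionVars false
set_option backward.isDefEq.respectTransparency false
set_option maxHeartbeats 800000
universe u
open CategoryTheory CategoryTheory.Limits AlgebraicGeometry Opposite

namespace Groth.Agent.H7.IPB

open _root_.AlgSp

theorem S10738_main {S : Scheme.{u}} {X Y : Sp S} (f : X ⟶ Y)
    (hf : Representable f) (hint : IsIntegralMor f) :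
    PreservesFiniteColimits (pushEt hf AddCommGrpCat.{u + 1}) ∧
      ∀ (p : ℕ), 0 < p → ∀ F : AbEt X, IsZero ((RpushEt hf p).obj F) := by
  have hB := condB_bc hf ((Groth.Agent.H5.AlgSp.isIntegralMor_iff_repWith).1 hint)
  have h1 : PreservesFiniteColimits (pushEt hf AddCommGrpCat.{u + 1}) :=
    preservesFiniteColimits_of_condB _ _ _ hB
  refine ⟨h1, fun p hp F => ?_⟩
  haveI := h1
  haveI : PreservesFiniteLimits (pushEt hf AddCommGrpCat.{u + 1}) :=
    preservesFiniteLimits_push _ _ _
  obtain ⟨n, rfl⟩ := Nat.exists_eq_succ_of_ne_zero hp.ne'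
  exact Groth.Agent.H7.BS.isZero_rightDerived_succ_of_exact (pushEt hf AddCommGrpCat.{u + 1}) F n

end Groth.Agent.H7.IPB
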