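import Mathlib
open CategoryTheory CategoryTheory.Limits Opposite
universe u
namespace Groth.Agent.H7.ShPullFF2

noncomputable def lanYon {C : Type u} [SmallCategory C] {C' : Type u} [SmallCategory C']
    (F : C ⥤ C') : F ⋙ yoneda ≅ yoneda ⋙ F.op.lan :=
  Functor.isoWhiskerLeft F (uliftYonedaIsoYoneda.{u}).symm ≪≫
    Presheaf.compULiftYonedaIsoULiftYonedaCompLan.{u} F ≪≫
    Functor.isoWhiskerRight (uliftYonedaIsoYoneda.{u}) F.op.lan

noncomputable def e {C : Type u} [SmallCategory C] {C' : Type u} [SmallCategory C']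
    (J : GrothendieckTopology C) (K : GrothendieckTopology C') [J.Subcanonical] [K.Subcanonical]
    (F : C ⥤ C') [F.IsContinuous J K] :
    J.yoneda ⋙ F.sheafPullback (Type u) J K ≅ F ⋙ K.yoneda :=
  Functor.isoWhiskerLeft J.yoneda
      (Functor.sheafPullbackConstruction.sheafPullbackIso F (Type u) J K) ≪≫
    (show J.yoneda ⋙ (sheafToPresheaf J (Type u) ⋙ F.op.lan ⋙ presheafToSheaf K (Type u)) ≅
      (yoneda ⋙ F.op.lan) ⋙ presheafToSheaf K (Type u) from Iso.refl _) ≪≫
    Functor.isoWhiskerRight (lanYon F).symm (presheafToSheaf K (Type u)) ≪≫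
    (show (F ⋙ yoneda) ⋙ presheafToSheaf K (Type u) ≅
      (F ⋙ K.yoneda) ⋙ (sheafToPresheaf K (Type u) ⋙ presheafToSheaf K (Type u)) from Iso.refl _) ≪≫
    Functor.isoWhiskerLeft (F ⋙ K.yoneda) (asIso (sheafificationAdjunction K (Type u)).counit) ≪≫
    Functor.rightUnitor _

theorem main {C : Type u} [SmallCategory C] {C' : Type u} [SmallCategory C']
    (J : GrothendieckTopology C) (K : GrothendieckTopology C') [J.Subcanonical] [K.Subcanonical]
    (u : C ⥤ C') [u.IsContinuous J K] [u.IsCocontinuous J K]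
    (h : (u.sheafPullback (Type u) J K).Full ∧ (u.sheafPullback (Type u) J K).Faithful) :
    u.Full ∧ u.Faithful := by
  obtain ⟨h1, h2⟩ := h
  haveI : (J.yoneda ⋙ u.sheafPullback (Type u) J K).Full := inferInstance
  haveI : (J.yoneda ⋙ u.sheafPullback (Type u) J K).Faithful := inferInstance
  haveI : (u ⋙ K.yoneda).Full := Functor.Full.of_iso (e J K u)
  haveI : (u ⋙ K.yoneda).Faithful := Functor.Faithful.of_iso (e J K u)
  exact ⟨Functor.Full.of_comp_faithful u K.yoneda, Functor.Faithful.of_comp u K.yoneda⟩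

end Groth.Agent.H7.ShPullFF2
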