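import Mathlib
import Groth.Agent.Lib.Helper7.ShPullFF2

open CategoryTheory CategoryTheory.Limits Opposite

universe u

namespace Groth.Agent.H7.IndLan

variable {C : Type u} [SmallCategory C] {C' : Type u} [SmallCategory C'] (u : C ⥤ C')

/-- left Kan extension on presheaves -/
noncomputable abbrev L : (Cᵒᵖ ⥤ Type u) ⥤ (C'ᵒᵖ ⥤ Type u) := u.op.lan

/-- the adjunction -/
noncomputable abbrev adj : L u ⊣ (Functor.whiskeringLeft _ _ (Type u)).obj u.op :=
  u.op.lanAdjunction (Type u)

lemma comp_unit_eq {F G : Cᵒᵖ ⥤ Type u} (φ ψ : F ⟶ G) (h : (L u).map φ = (L u).map ψ) :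
    φ ≫ (adj u).unit.app G = ψ ≫ (adj u).unit.app G := by
  have h1 := (adj u).unit.naturality φ
  have h2 := (adj u).unit.naturality ψ
  simp only [Functor.id_map, Functor.comp_map] at h1 h2
  rw [h1, h2, h]

lemma map_eq_of_comp_unit_eq {F G : Cᵒᵖ ⥤ Type u} (φ ψ : F ⟶ G)
    (h : φ ≫ (adj u).unit.app G = ψ ≫ (adj u).unit.app G) : (L u).map φ = (L u).map ψ := by
  apply ((adj u).homEquiv _ _).injective
  rw [Adjunction.homEquiv_unit, Adjunction.homEquiv_unit]
  have h1 := (adj u).unit.naturality φ
  have h2 := (adj u).unit.naturality ψ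
  simp only [Functor.id_map, Functor.comp_map] at h1 h2
  rw [← h1, ← h2, h]

lemma umap_eq_of_Lmap_eq {X Y : C} (f f' : X ⟶ Y)
    (h : (L u).map (yoneda.map f) = (L u).map (yoneda.map f')) : u.map f = u.map f' := by
  have n1 := (ShPullFF2.lanYon u).hom.naturality f
  have n2 := (ShPullFF2.lanYon u).hom.naturality f'
  simp only [Functor.comp_map] at n1 n2
  have : yoneda.map (u.map f) ≫ (ShPullFF2.lanYon u).hom.app Y =
      yoneda.map (u.map f') ≫ (ShPullFF2.lanYon u).hom.app Y := by
    rw [n1, n2, h]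
  have h3 : yoneda.map (u.map f) = yoneda.map (u.map f') := by
    have := congrArg (fun t => t ≫ (ShPullFF2.lanYon u).inv.app Y) this
    simpa using this
  exact yoneda.map_injective h3

lemma Lmap_eq_of_umap_eq {X Y : C} (f f' : X ⟶ Y) (h : u.map f = u.map f') :
    (L u).map (yoneda.map f) = (L u).map (yoneda.map f') := by
  have n1 := (ShPullFF2.lanYon u).hom.naturality f
  have n2 := (ShPullFF2.lanYon u).hom.naturality f'
  simp only [Functor.comp_map] at n1 n2
  have : (ShPullFF2.lanYon u).hom.app X ≫ (L u).map (yoneda.map f) =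
      (ShPullFF2.lanYon u).hom.app X ≫ (L u).map (yoneda.map f') := by
    rw [← n1, ← n2, h]
  have := congrArg (fun t => (ShPullFF2.lanYon u).inv.app X ≫ t) this
  simpa using this

lemma unit_yoneda_injective [u.Faithful] (X Y : C) :
    Function.Injective (((adj u).unit.app (yoneda.obj Y)).app (op X)) := by
  intro f f' hff
  have h1 : yoneda.map f ≫ (adj u).unit.app (yoneda.obj Y) =
      yoneda.map f' ≫ (adj u).unit.app (yoneda.obj Y) := by
    apply yonedaEquiv.injective
    rw [yonedaEquiv_comp, yonedaEquiv_comp, yonedaEquiv_yoneda_map, yonedaEquiv_yoneda_map]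
    exact hff
  exact u.map_injective (umap_eq_of_Lmap_eq u f f' (map_eq_of_comp_unit_eq u _ _ h1))


theorem unit_injective_of_ind [u.Faithful] (G : Cᵒᵖ ⥤ Type u) (hG : IsIndObject G) (X : C) :
    Function.Injective (((adj u).unit.app G).app (op X)) := by
  obtain ⟨⟨P⟩⟩ := hG
  have hc : IsColimit P.cocone := P.coconeIsColimit
  have hcX := isColimitOfPreserves ((evaluation Cᵒᵖ (Type u)).obj (op X)) hc
  haveI : PreservesColimitsOfSize.{u, u} (L u) := (adj u).leftAdjoint_preservesColimits
  have hL := isColimitOfPreserves (L u) hc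
  have hLX := isColimitOfPreserves ((evaluation C'ᵒᵖ (Type u)).obj (op (u.obj X))) hL
  haveI := P.hI
  intro a b hab
  obtain ⟨j, f, rfl⟩ := Types.jointly_surjective_of_isColimit hcX a
  obtain ⟨j', g, rfl⟩ := Types.jointly_surjective_of_isColimit hcX b
  have nat : ∀ (i : P.I) (h : X ⟶ P.F.obj i),
      ((adj u).unit.app G).app (op X) ((P.cocone.ι.app i).app (op X) h) =
        ((L u).map (P.cocone.ι.app i)).app (op (u.obj X))
          (((adj u).unit.app (yoneda.obj (P.F.obj i))).app (op X) h) := by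
    intro i h
    have := (adj u).unit.naturality (P.cocone.ι.app i)
    have := congrArg (fun t => t.app (op X)) this
    exact ConcreteCategory.congr_hom this h
  have nat2 : ∀ {i k : P.I} (α : i ⟶ k) (h : X ⟶ P.F.obj i),
      ((L u).map (yoneda.map (P.F.map α))).app (op (u.obj X))
          (((adj u).unit.app (yoneda.obj (P.F.obj i))).app (op X) h) =
        ((adj u).unit.app (yoneda.obj (P.F.obj k))).app (op X) (h ≫ P.F.map α) := by
    intro i k α h
    have := (adj u).unit.naturality (yoneda.map (P.F.map α))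
    have := congrArg (fun t => t.app (op X)) this
    exact (ConcreteCategory.congr_hom this h).symm
  have hab' : (((evaluation C'ᵒᵖ (Type u)).obj (op (u.obj X))).mapCocone
        ((L u).mapCocone P.cocone)).ι.app j
        (((adj u).unit.app (yoneda.obj (P.F.obj j))).app (op X) f) =
      (((evaluation C'ᵒᵖ (Type u)).obj (op (u.obj X))).mapCocone
        ((L u).mapCocone P.cocone)).ι.app j'
        (((adj u).unit.app (yoneda.obj (P.F.obj j'))).app (op X) g) := by
    have := hab
    change ((adj u).unit.app G).app (op X) ((P.cocone.ι.app j).app (op X) f) =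
      ((adj u).unit.app G).app (op X) ((P.cocone.ι.app j').app (op X) g) at this
    rw [nat, nat] at this
    exact this
  obtain ⟨k, α, β, hk⟩ := (Types.FilteredColimit.isColimit_eq_iff _ hLX).mp hab'
  change ((L u).map (yoneda.map (P.F.map α))).app (op (u.obj X)) _ =
    ((L u).map (yoneda.map (P.F.map β))).app (op (u.obj X)) _ at hk
  rw [nat2, nat2] at hk
  have hfg : f ≫ P.F.map α = g ≫ P.F.map β := unit_yoneda_injective u X _ hk
  have w1 := congrArg (fun t => t.app (op X)) (P.cocone.w α)
  have w2 := congrArg (fun t => t.app (op X)) (P.cocone.w β)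
  have e1 := ConcreteCategory.congr_hom w1 f
  have e2 := ConcreteCategory.congr_hom w2 g
  change (P.cocone.ι.app j).app (op X) f = (P.cocone.ι.app j').app (op X) g
  rw [← e1, ← e2]
  change (P.cocone.ι.app k).app (op X) (f ≫ P.F.map α) = (P.cocone.ι.app k).app (op X) (g ≫ P.F.map β)
  rw [hfg]


theorem S6135_main : u.Faithful ↔ ∀ (F G : Cᵒᵖ ⥤ Type u), IsIndObject F → IsIndObject G →
      Function.Injective (fun φ : F ⟶ G =>
        (u.op.lan : (Cᵒᵖ ⥤ Type u) ⥤ (C'ᵒᵖ ⥤ Type u)).map φ) := by
  constructor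
  · intro hu F G hF hG φ ψ h
    have h1 := comp_unit_eq u φ ψ h
    apply NatTrans.ext; funext ⟨X⟩
    have h2 : φ.app (op X) ≫ ((adj u).unit.app G).app (op X) =
        ψ.app (op X) ≫ ((adj u).unit.app G).app (op X) := by
      have := congrArg (fun t => t.app (op X)) h1
      simpa using this
    haveI : Mono (((adj u).unit.app G).app (op X)) :=
      (mono_iff_injective _).mpr (unit_injective_of_ind u G hG X)
    exact (cancel_mono _).mp h2
  · intro H
    refine ⟨fun {X Y} f f' hff => ?_⟩
    have := H _ _ (isIndObject_yoneda X) (isIndObject_yoneda Y) (Lmap_eq_of_umap_eq u f f' hff)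
    exact yoneda.map_injective this

theorem S6136_main : (u.Full ∧ u.Faithful) ↔ ∀ (F G : Cᵒᵖ ⥤ Type u), IsIndObject F →
      IsIndObject G → Function.Bijective (fun φ : F ⟶ G =>
        (u.op.lan : (Cᵒᵖ ⥤ Type u) ⥤ (C'ᵒᵖ ⥤ Type u)).map φ) := by
  constructor
  · rintro ⟨h1, h2⟩ F G _ _
    haveI : IsIso (adj u).unit := inferInstance
    exact ((adj u).fullyFaithfulLOfIsIsoUnit).map_bijective F G
  · intro H
    have hf : u.Faithful := (S6135_main u).mpr (fun F G hF hG => (H F G hF hG).1)
    refine ⟨⟨fun {X Y} g => ?_⟩, hf⟩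
    obtain ⟨φ, hφ⟩ := (H _ _ (isIndObject_yoneda X) (isIndObject_yoneda Y)).2
      ((ShPullFF2.lanYon u).inv.app X ≫ yoneda.map g ≫ (ShPullFF2.lanYon u).hom.app Y)
    obtain ⟨f, rfl⟩ := yoneda.map_surjective φ
    refine ⟨f, ?_⟩
    have n1 := (ShPullFF2.lanYon u).hom.naturality f
    simp only [Functor.comp_map] at n1
    change (L u).map (yoneda.map f) = _ at hφ
    rw [hφ] at n1
    have h3 : yoneda.map (u.map f) ≫ (ShPullFF2.lanYon u).hom.app Y =
        yoneda.map g ≫ (ShPullFF2.lanYon u).hom.app Y := by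
      rw [n1]; simp
    have h4 : yoneda.map (u.map f) = yoneda.map g := by
      have := congrArg (fun t => t ≫ (ShPullFF2.lanYon u).inv.app Y) h3
      simpa using this
    exact yoneda.map_injective h4

end Groth.Agent.H7.IndLan
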