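import Mathlib
import Groth.Agent.Lib.Helper7.IndLan

open CategoryTheory CategoryTheory.Limits Opposite

universe u

namespace Groth.Agent.H7.IndLan

variable {C : Type u} [SmallCategory C] {C' : Type u} [SmallCategory C'] (u : C ⥤ C')

/-- transfer an element -/
noncomputable def el (G' : C'ᵒᵖ ⥤ Type u) (A : CostructuredArrow yoneda (u.op ⋙ G')) :
    G'.obj (op (u.obj A.left)) :=
  (yonedaEquiv A.hom : (u.op ⋙ G').obj (op A.left))

lemma el_naturality (G' : C'ᵒᵖ ⥤ Type u) {A B : CostructuredArrow yoneda (u.op ⋙ G')} (f : A ⟶ B) :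
    G'.map (u.map f.left).op (el u G' B) = el u G' A := by
  unfold el
  have := CostructuredArrow.w f
  rw [← this]
  exact (yonedaEquiv_naturality (F := u.op ⋙ G') B.hom f.left)

lemma el_mk (G' : C'ᵒᵖ ⥤ Type u) (X : C) (a : (u.op ⋙ G').obj (op X)) :
    el u G' (CostructuredArrow.mk (yonedaEquiv.symm a)) = a := by
  unfold el
  simp

lemma hom_eq_of_el (G' : C'ᵒᵖ ⥤ Type u) {A B : CostructuredArrow yoneda (u.op ⋙ G')}
    (g : A.left ⟶ B.left) (hg : G'.map (u.map g).op (el u G' B) = el u G' A) :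
    yoneda.map g ≫ B.hom = A.hom := by
  apply yonedaEquiv.injective
  rw [← yonedaEquiv_naturality]
  exact hg

/-- The comparison functor between categories of elements. -/
noncomputable def Φ (G' : C'ᵒᵖ ⥤ Type u) :
    CostructuredArrow yoneda (u.op ⋙ G') ⥤ CostructuredArrow yoneda G' where
  obj A := CostructuredArrow.mk (Y := u.obj A.left) (yonedaEquiv.symm (el u G' A))
  map {A B} f := CostructuredArrow.homMk (u.map f.left) (by
    apply yonedaEquiv.injective
    dsimp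
    rw [← yonedaEquiv_naturality, Equiv.apply_symm_apply, Equiv.apply_symm_apply]
    exact el_naturality u G' f)
  map_id A := by apply CostructuredArrow.hom_ext; simp
  map_comp f g := by apply CostructuredArrow.hom_ext; simp

lemma Φ_hom_el (G' : C'ᵒᵖ ⥤ Type u) {A B : CostructuredArrow yoneda (u.op ⋙ G')}
    (f : (Φ u G').obj A ⟶ (Φ u G').obj B) (g : u.obj A.left ⟶ u.obj B.left) (hg : f.left = g) :
    G'.map g.op (el u G' B) = el u G' A := by
  have hw := CostructuredArrow.w f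
  have h1 : yoneda.map g ≫ yonedaEquiv.symm (el u G' B) = yonedaEquiv.symm (el u G' A) := by
    rw [← hg]; exact hw
  have h2 := congrArg yonedaEquiv h1
  rw [← yonedaEquiv_naturality, Equiv.apply_symm_apply, Equiv.apply_symm_apply] at h2
  exact h2

instance [u.Faithful] (G' : C'ᵒᵖ ⥤ Type u) : (Φ u G').Faithful where
  map_injective {A B} f g h := by
    apply CostructuredArrow.hom_ext
    have := congrArg (fun t => t.left) h
    exact u.map_injective this

instance [u.Full] [u.Faithful] (G' : C'ᵒᵖ ⥤ Type u) : (Φ u G').Full where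
  map_surjective {A B} f := by
    let g : u.obj A.left ⟶ u.obj B.left := f.left
    have hg := Φ_hom_el u G' f g rfl
    refine ⟨CostructuredArrow.homMk (u.preimage g) ?_, ?_⟩
    · apply hom_eq_of_el
      rw [u.map_preimage]
      exact hg
    · apply CostructuredArrow.hom_ext
      change u.map (u.preimage g) = f.left
      rw [u.map_preimage]

theorem isIndObject_restrict [u.Full] [u.Faithful]
    (hret : ∀ X' : C', ∃ (X : C) (i : X' ⟶ u.obj X) (r : u.obj X ⟶ X'), i ≫ r = 𝟙 X')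
    (G' : C'ᵒᵖ ⥤ Type u) (hG' : IsIndObject G') : IsIndObject (u.op ⋙ G') := by
  rw [isIndObject_iff] at hG' ⊢
  obtain ⟨hfil, -⟩ := hG'
  refine ⟨?_, ?_⟩
  · apply IsFiltered.of_exists_of_isFiltered_of_fullyFaithful (Φ u G')
    intro d
    obtain ⟨X, i, r, hir⟩ := hret d.left
    let a : G'.obj (op (u.obj X)) := G'.map r.op (yonedaEquiv d.hom)
    refine ⟨CostructuredArrow.mk (Y := X) (yonedaEquiv.symm (show (u.op ⋙ G').obj (op X) from a)),
      ⟨CostructuredArrow.homMk i ?_⟩⟩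
    apply yonedaEquiv.injective
    dsimp [Φ]
    rw [← yonedaEquiv_naturality, Equiv.apply_symm_apply, el_mk]
    change G'.map i.op (G'.map r.op (yonedaEquiv d.hom)) = _
    rw [← Functor.map_comp_apply, ← op_comp, hir]
    simp
  · have := essentiallySmallSelf (CostructuredArrow yoneda (u.op ⋙ G'))
    apply finallySmall_of_essentiallySmall


/-- the restriction functor -/
noncomputable abbrev R : (C'ᵒᵖ ⥤ Type u) ⥤ (Cᵒᵖ ⥤ Type u) :=
  (Functor.whiskeringLeft Cᵒᵖ C'ᵒᵖ (Type u)).obj u.op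

theorem isIso_of_restrict
    (hret : ∀ X' : C', ∃ (X : C) (i : X' ⟶ u.obj X) (r : u.obj X ⟶ X'), i ≫ r = 𝟙 X')
    {G₁ G₂ : C'ᵒᵖ ⥤ Type u} (α : G₁ ⟶ G₂) (h : IsIso ((R u).map α)) : IsIso α := by
  have hX : ∀ X : C, IsIso (α.app (op (u.obj X))) := fun X =>
    inferInstanceAs (IsIso (((R u).map α).app (op X)))
  have : ∀ Y : C'ᵒᵖ, IsIso (α.app Y) := by
    rintro ⟨X'⟩
    obtain ⟨X, i, r, hir⟩ := hret X'
    haveI := hX X
    refine ⟨G₂.map r.op ≫ inv (α.app (op (u.obj X))) ≫ G₁.map i.op, ?_, ?_⟩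
    · rw [← Category.assoc, ← α.naturality r.op, Category.assoc, IsIso.hom_inv_id_assoc,
        ← G₁.map_comp, ← op_comp, hir]
      simp
    · rw [Category.assoc, Category.assoc, α.naturality i.op, IsIso.inv_hom_id_assoc,
        ← G₂.map_comp, ← op_comp, hir]
      simp
  exact NatIso.isIso_of_isIso_app α

theorem isIso_counit [u.Full] [u.Faithful]
    (hret : ∀ X' : C', ∃ (X : C) (i : X' ⟶ u.obj X) (r : u.obj X ⟶ X'), i ≫ r = 𝟙 X')
    (G' : C'ᵒᵖ ⥤ Type u) : IsIso ((adj u).counit.app G') := by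
  apply isIso_of_restrict u hret
  haveI : IsIso (adj u).unit := inferInstance
  have h := (adj u).right_triangle_components G'
  haveI : IsIso ((adj u).unit.app ((R u).obj G') ≫ (R u).map ((adj u).counit.app G')) := by
    rw [h]; exact IsIso.id _
  exact IsIso.of_isIso_comp_left ((adj u).unit.app ((R u).obj G')) _

theorem retract_of_ess (X' : C') (F : Cᵒᵖ ⥤ Type u) (hF : IsIndObject F)
    (e : (L u).obj F ≅ yoneda.obj X') :
    ∃ (X : C) (i : X' ⟶ u.obj X) (r : u.obj X ⟶ X'), i ≫ r = 𝟙 X' := by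
  obtain ⟨⟨P⟩⟩ := hF
  have hc := P.coconeIsColimit
  haveI : PreservesColimitsOfSize.{u, u} (L u) := (adj u).leftAdjoint_preservesColimits
  have hL := isColimitOfPreserves (L u) hc
  have hLX := isColimitOfPreserves ((evaluation C'ᵒᵖ (Type u)).obj (op X')) hL
  let ξ : ((L u).obj F).obj (op X') := e.inv.app (op X') (𝟙 X')
  obtain ⟨j, ζ, hζ⟩ := Types.jointly_surjective_of_isColimit hLX ξ
  change ((L u).obj (yoneda.obj (P.F.obj j))).obj (op X') at ζ
  change ((L u).map (P.cocone.ι.app j)).app (op X') ζ = ξ at hζ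
  let i : X' ⟶ u.obj (P.F.obj j) := ((ShPullFF2.lanYon u).inv.app (P.F.obj j)).app (op X') ζ
  let m : yoneda.obj (u.obj (P.F.obj j)) ⟶ yoneda.obj X' :=
    (ShPullFF2.lanYon u).hom.app (P.F.obj j) ≫ (L u).map (P.cocone.ι.app j) ≫ e.hom
  obtain ⟨r, hr⟩ := yoneda.map_surjective m
  refine ⟨P.F.obj j, i, r, ?_⟩
  have h1 : i ≫ r = (yoneda.map r).app (op X') i := rfl
  rw [h1, hr]
  change e.hom.app (op X') (((L u).map (P.cocone.ι.app j)).app (op X')
    (((ShPullFF2.lanYon u).hom.app (P.F.obj j)).app (op X')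
      (((ShPullFF2.lanYon u).inv.app (P.F.obj j)).app (op X') ζ))) = 𝟙 X'
  have h2 : ((ShPullFF2.lanYon u).hom.app (P.F.obj j)).app (op X')
      (((ShPullFF2.lanYon u).inv.app (P.F.obj j)).app (op X') ζ) = ζ := by
    have := congrArg (fun t => t.app (op X')) ((ShPullFF2.lanYon u).inv_hom_id_app (P.F.obj j))
    exact ConcreteCategory.congr_hom this ζ
  rw [h2, hζ]
  have h3 := congrArg (fun t => t.app (op X')) e.inv_hom_id
  exact ConcreteCategory.congr_hom h3 (𝟙 X')

theorem S12109_main :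
    ((∀ (F G : Cᵒᵖ ⥤ Type u), IsIndObject F → IsIndObject G →
        Function.Bijective (fun φ : F ⟶ G =>
          (u.op.lan : (Cᵒᵖ ⥤ Type u) ⥤ (C'ᵒᵖ ⥤ Type u)).map φ)) ∧
      (∀ G' : C'ᵒᵖ ⥤ Type u, IsIndObject G' →
        ∃ F : Cᵒᵖ ⥤ Type u, IsIndObject F ∧
          Nonempty ((u.op.lan : (Cᵒᵖ ⥤ Type u) ⥤ (C'ᵒᵖ ⥤ Type u)).obj F ≅ G'))) ↔
    ((u.Full ∧ u.Faithful) ∧
      ∀ X' : C', ∃ (X : C) (i : X' ⟶ u.obj X) (r : u.obj X ⟶ X'), i ≫ r = 𝟙 X') := by
  constructor
  · rintro ⟨H1, H2⟩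
    refine ⟨(S6136_main u).mpr H1, fun X' => ?_⟩
    obtain ⟨F, hF, ⟨e⟩⟩ := H2 (yoneda.obj X') (isIndObject_yoneda X')
    exact retract_of_ess u X' F hF e
  · rintro ⟨⟨h1, h2⟩, hret⟩
    refine ⟨(S6136_main u).mp ⟨h1, h2⟩, fun G' hG' => ?_⟩
    refine ⟨u.op ⋙ G', isIndObject_restrict u hret G' hG', ⟨?_⟩⟩
    haveI := isIso_counit u hret G'
    exact asIso ((adj u).counit.app G')

end Groth.Agent.H7.IndLan
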