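import Mathlib

set_option autoImplicit false

namespace Groth.Agent.H7.Inertia

open Pointwise Polynomial

variable {B : Type*} [CommRing B] {Γ : Type*} [Group Γ] [Finite Γ] [MulSemiringAction Γ B]
  (P : Ideal B) [P.IsMaximal]

/-- Inverses modulo `P` of invariant elements can be chosen invariant. -/
theorem exists_inv_invariant (H : Subgroup Γ) {n : B} (hn : ∀ h ∈ H, h • n = n) (hnP : n ∉ P) :
    ∃ a : B, (∀ h ∈ H, h • a = a) ∧ a * n - 1 ∈ P := by
  let A := FixedPoints.subring B H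
  haveI : Algebra.IsInvariant A B H := ⟨fun b hb => ⟨⟨b, hb⟩, rfl⟩⟩
  haveI : Algebra.IsIntegral A B := Algebra.IsInvariant.isIntegral A B H
  have hmax : (P.comap (algebraMap A B)).IsMaximal :=
    Ideal.isMaximal_comap_of_isIntegral_of_isMaximal P
  let n' : A := ⟨n, fun h => hn h h.2⟩
  have hn' : n' ∉ P.comap (algebraMap A B) := hnP
  obtain ⟨a, i, hi, hai⟩ := hmax.exists_inv hn'
  refine ⟨a.1, fun h hh => a.2 ⟨h, hh⟩, ?_⟩
  have h1 : (a.1 * n - 1 : B) = - (i : B) := by
    have := congrArg (Subtype.val) hai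
    simp only [Subring.coe_add, Subring.coe_mul, Subring.coe_one] at this
    rw [← this]; ring
  rw [h1]
  exact P.neg_mem hi

/-- The CRT element: `T`-invariant, `≡ 1` mod `P`, and in every other conjugate of `P`. -/
theorem exists_crt :
    ∃ e : B, (∀ τ ∈ P.inertia Γ, τ • e = e) ∧ e - 1 ∈ P ∧ ∀ γ : Γ, γ • P ≠ P → e ∈ γ • P := by
  classical
  cases nonempty_fintype Γ
  let J := Finset.inf (Finset.univ.filter fun g : Γ => g • P ≠ P) (fun g ↦ g • P)
  have h1 : ¬ J ≤ P := by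
    rw [Ideal.IsPrime.inf_le' inferInstance]
    rintro ⟨g, hg1, hg2⟩
    exact (Finset.mem_filter.mp hg1).2 (smul_eq_of_smul_le hg2)
  obtain ⟨z, hzJ, hzP⟩ := SetLike.not_le_iff_exists.mp h1
  obtain ⟨z', i, hi, hz'⟩ := (inferInstance : P.IsMaximal).exists_inv hzP
  have hz1 : z' * z - 1 ∈ P := by
    have : z' * z - 1 = - i := by rw [← hz']; ring
    rw [this]; exact P.neg_mem hi
  have hz1J : ∀ γ : Γ, γ • P ≠ P → z' * z ∈ γ • P := fun γ hγ =>
    Ideal.mul_mem_left _ _
      ((Finset.inf_le (Finset.mem_filter.mpr ⟨Finset.mem_univ γ, hγ⟩) : J ≤ γ • P) hzJ)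
  let T := P.inertia Γ
  refine ⟨∏ τ : T, τ • (z' * z), fun τ hτ => ?_, ?_, fun γ hγ => ?_⟩
  · exact Finset.smul_prod_perm (z' * z) (⟨τ, hτ⟩ : T)
  · rw [← Ideal.Quotient.eq, map_prod, map_one]
    apply Finset.prod_eq_one
    intro τ _
    have h2 : (τ : Γ) • (z' * z) - z' * z ∈ P := τ.2 (z' * z)
    rw [← map_one (Ideal.Quotient.mk P), Ideal.Quotient.eq]
    have : τ • (z' * z) - 1 = ((τ : Γ) • (z' * z) - z' * z) + (z' * z - 1) := by
      rw [Subgroup.smul_def]; ring
    rw [this]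
    exact P.add_mem h2 hz1
  · refine Ideal.prod_mem _ (Finset.mem_univ (1 : T)) ?_
    rw [one_smul]
    exact hz1J γ hγ

/-- reduction of the `T`-charpoly -/
theorem charpoly_map (x : B) [Fintype (P.inertia Γ)] :
    (MulSemiringAction.charpoly (P.inertia Γ) x).map (Ideal.Quotient.mk P) =
      (X - C (Ideal.Quotient.mk P x)) ^ Fintype.card (P.inertia Γ) := by
  rw [MulSemiringAction.charpoly_eq, Polynomial.map_prod]
  rw [← Finset.card_univ, ← Finset.prod_const]
  refine Finset.prod_congr rfl fun τ _ => ?_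
  rw [Polynomial.map_sub, map_X, map_C]
  congr 2
  exact Ideal.Quotient.eq.mpr (τ.2 x)

omit [Finite Γ] in
theorem charpoly_coeff_inv (x : B) [Fintype (P.inertia Γ)] (i : ℕ) (τ : Γ) (hτ : τ ∈ P.inertia Γ) :
    τ • (MulSemiringAction.charpoly (P.inertia Γ) x).coeff i =
      (MulSemiringAction.charpoly (P.inertia Γ) x).coeff i :=
  MulSemiringAction.smul_coeff_charpoly x i (⟨τ, hτ⟩ : P.inertia Γ)

/-- `B/P` is purely inseparable over the image of `B^T`, elementwise version. -/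
theorem smul_sub_mem_of_forall (δ : Γ)
    (h : ∀ u : B, (∀ τ ∈ P.inertia Γ, τ • u = u) → δ • u - u ∈ P) (x : B) : δ • x - x ∈ P := by
  classical
  cases nonempty_fintype (P.inertia Γ)
  obtain ⟨hp, hhp⟩ : ∃ hp, hp = MulSemiringAction.charpoly (P.inertia Γ) x := ⟨_, rfl⟩
  have h1 : (δ • hp).map (Ideal.Quotient.mk P) = hp.map (Ideal.Quotient.mk P) := by
    ext i
    rw [coeff_map, coeff_map, Polynomial.coeff_smul]
    refine Ideal.Quotient.eq.mpr (h _ (fun τ hτ => ?_))
    rw [hhp]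
    exact charpoly_coeff_inv P x i τ hτ
  have h2 : (δ • hp).eval (δ • x) = 0 := by
    rw [Polynomial.smul_eval_smul, hhp, MulSemiringAction.eval_charpoly, smul_zero]
  have h3 : ((δ • hp).map (Ideal.Quotient.mk P)).eval (Ideal.Quotient.mk P (δ • x)) = 0 := by
    rw [Polynomial.eval_map, Polynomial.eval₂_at_apply, h2, map_zero]
  rw [h1, hhp, charpoly_map, eval_pow, eval_sub, eval_X, eval_C] at h3
  letI := Ideal.Quotient.field P
  have h4 := pow_eq_zero_iff (Fintype.card_ne_zero (α := P.inertia Γ)) |>.mp h3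
  exact Ideal.Quotient.eq.mp (sub_eq_zero.mp h4)

/-- the coset function `γT ↦ γ • u` (via a chosen representative). -/
noncomputable def cf (u : B) (q : Γ ⧸ P.inertia Γ) : B := (Quotient.out q : Γ) • u

omit [Finite Γ] [P.IsMaximal] in
theorem out_inv_mul_mem (γ : Γ) :
    (Quotient.out (QuotientGroup.mk γ : Γ ⧸ P.inertia Γ) : Γ)⁻¹ * γ ∈ P.inertia Γ := by
  have h : (QuotientGroup.mk (Quotient.out (QuotientGroup.mk γ : Γ ⧸ P.inertia Γ)) :
      Γ ⧸ P.inertia Γ) = QuotientGroup.mk γ := Quotient.out_eq' _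
  rwa [QuotientGroup.eq] at h

omit [Finite Γ] [P.IsMaximal] in
theorem cf_mk {u : B} (hu : ∀ τ ∈ P.inertia Γ, τ • u = u) (γ : Γ) :
    cf P u (QuotientGroup.mk γ) = γ • u := by
  unfold cf
  have := hu _ (out_inv_mul_mem P γ)
  rw [mul_smul, inv_smul_eq_iff] at this
  exact this.symm

omit [Finite Γ] [P.IsMaximal] in
theorem cf_mul (u v : B) (q : Γ ⧸ P.inertia Γ) : cf P (u * v) q = cf P u q * cf P v q := by
  unfold cf
  rw [smul_mul']

omit [Finite Γ] [P.IsMaximal] in
theorem cf_one (q : Γ ⧸ P.inertia Γ) : cf P (1 : B) q = 1 := by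
  unfold cf
  rw [smul_one]

omit [Finite Γ] [P.IsMaximal] in
theorem smul_cf {u : B} (hu : ∀ τ ∈ P.inertia Γ, τ • u = u) (δ : Γ) (q : Γ ⧸ P.inertia Γ) :
    δ • cf P u q = cf P u (δ • q) := by
  induction q using QuotientGroup.induction_on with
  | H γ =>
    rw [MulAction.Quotient.smul_mk, cf_mk P hu, cf_mk P hu, smul_eq_mul, mul_smul]

omit [Finite Γ] [P.IsMaximal] in
theorem out_smul_eq_iff (γ : Γ) :
    (Quotient.out (QuotientGroup.mk γ : Γ ⧸ P.inertia Γ) : Γ) • P = P ↔ γ • P = P := by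
  have h2 := Ideal.inertia_le_stabilizer P (out_inv_mul_mem P γ)
  rw [MulAction.mem_stabilizer_iff, mul_smul, inv_smul_eq_iff] at h2
  rw [← h2]

section trace

variable {P} {e : B} (he2 : e - 1 ∈ P) (he3 : ∀ γ : Γ, γ • P ≠ P → e ∈ γ • P)

include he2 he3 in
omit [Finite Γ] in
open Classical in
theorem mk_cf_mul (u : B) (q : Γ ⧸ P.inertia Γ) :
    Ideal.Quotient.mk P (cf P (e * u) q) =
      if (Quotient.out q : Γ) • P = P then Ideal.Quotient.mk P (cf P u q) else 0 := by
  rw [cf_mul, map_mul]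
  split_ifs with h
  · have : Ideal.Quotient.mk P (cf P e q) = 1 := by
      rw [← map_one (Ideal.Quotient.mk P), Ideal.Quotient.eq]
      have h1 : cf P e q - 1 = (Quotient.out q : Γ) • (e - 1) := by
        unfold cf; rw [smul_sub, smul_one]
      rw [h1]
      have := Ideal.smul_mem_pointwise_smul (Quotient.out q : Γ) _ P he2
      rwa [h] at this
    rw [this, one_mul]
  · have : Ideal.Quotient.mk P (cf P e q) = 0 := by
      rw [Ideal.Quotient.eq_zero_iff_mem]
      unfold cf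
      rw [← Ideal.mem_inv_pointwise_smul_iff]
      apply he3
      intro h'
      apply h
      rw [inv_smul_eq_iff] at h'
      exact h'.symm
    rw [this, zero_mul]

/-- the trace-like map `u ↦ ∑_{γ ∈ Γ/T} γ • (e u)` -/
noncomputable def tr [Fintype (Γ ⧸ P.inertia Γ)] (e u : B) : B := ∑ q : Γ ⧸ P.inertia Γ, cf P (e * u) q

omit [Finite Γ] [P.IsMaximal] in
theorem smul_tr [Fintype (Γ ⧸ P.inertia Γ)] (he1 : ∀ τ ∈ P.inertia Γ, τ • e = e)
    {u : B} (hu : ∀ τ ∈ P.inertia Γ, τ • u = u) (δ : Γ) : δ • tr (Γ := Γ) (P := P) e u = tr (Γ := Γ) (P := P) e u := by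
  unfold tr
  rw [Finset.smul_sum]
  have : ∀ q : Γ ⧸ P.inertia Γ, δ • cf P (e * u) q = cf P (e * u) (δ • q) := fun q =>
    smul_cf P (fun τ hτ => by rw [smul_mul', he1 τ hτ, hu τ hτ]) δ q
  simp_rw [this]
  exact Equiv.sum_comp (MulAction.toPerm δ) (fun q => cf P (e * u) q)

include he2 he3 in
omit [Finite Γ] in
open Classical in
theorem mk_tr [Fintype (Γ ⧸ P.inertia Γ)] (u : B) :
    Ideal.Quotient.mk P (tr (Γ := Γ) (P := P) e u) =
      ∑ i : {q : Γ ⧸ P.inertia Γ // (Quotient.out q : Γ) • P = P},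
        Ideal.Quotient.mk P (cf P u i.1) := by
  unfold tr
  rw [map_sum]
  simp_rw [mk_cf_mul he2 he3]
  rw [← Finset.sum_filter]
  exact Finset.sum_subtype _ (by simp) _

end trace

section dedekind

variable {P}

/-- the characters `B^T → B/P`, `u ↦ \overline{γ u}` for `γT ⊆ D`. -/
noncomputable def chi (i : {q : Γ ⧸ P.inertia Γ // (Quotient.out q : Γ) • P = P}) :
    FixedPoints.subring B (P.inertia Γ) →* B ⧸ P where
  toFun u := Ideal.Quotient.mk P (cf P u.1 i.1)
  map_one' := by simp [cf_one]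
  map_mul' u v := by simp [cf_mul]

theorem chi_injective : Function.Injective (chi (P := P) (Γ := Γ)) := by
  rintro ⟨q, hq⟩ ⟨q', hq'⟩ h
  induction q using QuotientGroup.induction_on with
  | H γ =>
  induction q' using QuotientGroup.induction_on with
  | H γ' =>
  rw [out_smul_eq_iff] at hq hq'
  apply Subtype.ext
  change (QuotientGroup.mk γ : Γ ⧸ _) = QuotientGroup.mk γ'
  rw [QuotientGroup.eq]
  intro x
  change (γ⁻¹ * γ') • x - x ∈ P
  refine smul_sub_mem_of_forall P _ (fun u hu => ?_) x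
  have := DFunLike.congr_fun h ⟨u, fun τ => hu τ τ.2⟩
  simp only [chi, MonoidHom.coe_mk, OneHom.coe_mk] at this
  rw [cf_mk P hu, cf_mk P hu, Ideal.Quotient.eq] at this
  have h3 : γ' • u - γ • u ∈ P := by rw [← neg_sub]; exact P.neg_mem this
  have h4 := Ideal.smul_mem_pointwise_smul γ⁻¹ _ P h3
  rw [inv_smul_eq_iff.mpr hq.symm, smul_sub, smul_smul, inv_smul_smul] at h4
  exact h4

theorem exists_sum_chi_ne_zero [Fintype (Γ ⧸ P.inertia Γ)] [DecidablePred fun q : Γ ⧸ P.inertia Γ => (Quotient.out q : Γ) • P = P] :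
    ∃ c : B, (∀ τ ∈ P.inertia Γ, τ • c = c) ∧
      ∑ i : {q : Γ ⧸ P.inertia Γ // (Quotient.out q : Γ) • P = P},
        Ideal.Quotient.mk P (cf P c i.1) ≠ 0 := by
  letI := Ideal.Quotient.field P
  have hli := (linearIndependent_monoidHom (FixedPoints.subring B (P.inertia Γ)) (B ⧸ P)).comp _
    (chi_injective (P := P) (Γ := Γ))
  by_contra hcon
  push Not at hcon
  have h0 : ∑ i : {q : Γ ⧸ P.inertia Γ // (Quotient.out q : Γ) • P = P}, (1 : B ⧸ P) •
      (((fun f => f : (FixedPoints.subring B (P.inertia Γ) →* B ⧸ P) → _ → B ⧸ P) ∘ chi) i) = 0 := by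
    ext u
    simp only [Function.comp_apply, one_smul, Finset.sum_apply, Pi.zero_apply]
    exact hcon u.1 (fun τ hτ => u.2 ⟨τ, hτ⟩)
  have := Fintype.linearIndependent_iff.mp hli (fun _ => 1) h0
    ⟨QuotientGroup.mk 1, (out_smul_eq_iff P 1).mpr (one_smul _ _)⟩
  exact one_ne_zero this

end dedekind

/-- `D`-invariant residues of `T`-invariant elements come from `B^Γ`. -/
theorem exists_invariant_of_stabilizer_fixed {w : B} (hw : ∀ τ ∈ P.inertia Γ, τ • w = w)
    (hD : ∀ σ : Γ, σ • P = P → σ • w - w ∈ P) :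
    ∃ a : B, (∀ γ : Γ, γ • a = a) ∧ a - w ∈ P := by
  classical
  cases nonempty_fintype (Γ ⧸ P.inertia Γ)
  obtain ⟨e, he1, he2, he3⟩ := exists_crt (Γ := Γ) P
  obtain ⟨c, hc, hcne⟩ := exists_sum_chi_ne_zero (P := P) (Γ := Γ)
  rw [← mk_tr he2 he3] at hcne
  have hn : tr (Γ := Γ) (P := P) e c ∉ P := by rwa [Ne, Ideal.Quotient.eq_zero_iff_mem] at hcne
  obtain ⟨a', ha', ha'n⟩ := exists_inv_invariant P (⊤ : Subgroup Γ)
    (fun h _ => smul_tr he1 hc h) hn
  refine ⟨a' * tr (Γ := Γ) (P := P) e (c * w), fun γ => ?_, ?_⟩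
  · rw [smul_mul', ha' γ trivial,
      smul_tr he1 (fun τ hτ => by rw [smul_mul', hc τ hτ, hw τ hτ])]
  · rw [← Ideal.Quotient.eq, map_mul, mk_tr he2 he3]
    have : ∀ i : {q : Γ ⧸ P.inertia Γ // (Quotient.out q : Γ) • P = P},
        Ideal.Quotient.mk P (cf P (c * w) i.1) =
          Ideal.Quotient.mk P (cf P c i.1) * Ideal.Quotient.mk P w := by
      rintro ⟨q, hq⟩
      rw [cf_mul, map_mul]
      congr 1
      rw [Ideal.Quotient.eq]
      exact hD _ hq
    simp_rw [this]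
    rw [← Finset.sum_mul, ← mk_tr he2 he3, ← mul_assoc, ← map_mul]
    have : Ideal.Quotient.mk P (a' * tr (Γ := Γ) (P := P) e c) = 1 := by
      rw [← map_one (Ideal.Quotient.mk P), Ideal.Quotient.eq]; exact ha'n
    rw [this, one_mul]

/-- field-theoretic core of the `⇐` direction -/
theorem mem_range_of_separable {k K : Type*} [Field k] [Field K] (ι : k →+* K) (x : K)
    (h g : k[X]) (n : ℕ) (hn : n ≠ 0) (hh : h.map ι = (X - C x) ^ n)
    (hg : (g.map ι).Separable) (hgx : (g.map ι).eval x = 0) : x ∈ ι.range := by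
  letI := ι.toAlgebra
  have hι : algebraMap k K = ι := rfl
  have hg0 : aeval x g = 0 := by rw [aeval_def, ← eval_map]; exact hgx
  have hh0 : aeval x h = 0 := by
    rw [aeval_def, ← eval_map, hι, hh]; simp [hn]
  have hhmon : h.Monic := by
    apply Polynomial.monic_of_injective ι.injective
    rw [hh]; exact (monic_X_sub_C x).pow n
  have hint : IsIntegral k x := ⟨h, hhmon, hh0⟩
  have hm1 : minpoly k x ∣ h := minpoly.dvd k x hh0
  have hm2 : minpoly k x ∣ g := minpoly.dvd k x hg0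
  have hmsep : ((minpoly k x).map ι).Separable := hg.of_dvd (Polynomial.map_dvd ι hm2)
  have hmdvd : (minpoly k x).map ι ∣ (X - C x) ^ n := hh ▸ Polynomial.map_dvd ι hm1
  obtain ⟨j, hj, hassoc⟩ := (dvd_prime_pow (prime_X_sub_C x) n).mp hmdvd
  have hmon : ((minpoly k x).map ι).Monic := (minpoly.monic hint).map ι
  have heq : (minpoly k x).map ι = (X - C x) ^ j :=
    eq_of_monic_of_associated hmon ((monic_X_sub_C x).pow j) hassoc
  have hj1 : j = 1 := by
    rw [heq] at hmsep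
    by_cases hj0 : j = 0
    · exfalso
      rw [hj0, pow_zero] at heq
      have := minpoly.aeval k x
      rw [aeval_def, ← eval_map, hι, heq] at this
      simp at this
    · exact (Polynomial.Separable.of_pow (not_isUnit_X_sub_C x) hj0 hmsep).2
  rw [hj1, pow_one] at heq
  refine ⟨-(minpoly k x).coeff 0, ?_⟩
  have := congrArg (fun p => p.coeff 0) heq
  simp only [coeff_map, coeff_sub, coeff_X_zero, coeff_C_zero, zero_sub] at this
  rw [map_neg, this, neg_neg]

/-- the `⇐` direction -/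
theorem exists_inertia_invariant_of_separable (x : B) (g : B[X])
    (hginv : ∀ (i : ℕ) (γ : Γ), γ • g.coeff i = g.coeff i)
    (hsep : (g.map (Ideal.Quotient.mk P)).Separable) (hgx : g.eval x ∈ P) :
    ∃ y : B, (∀ τ ∈ P.inertia Γ, τ • y = y) ∧ x - y ∈ P := by
  classical
  cases nonempty_fintype (P.inertia Γ)
  let A := FixedPoints.subring B (P.inertia Γ)
  haveI : Algebra.IsInvariant A B (P.inertia Γ) := ⟨fun b hb => ⟨⟨b, hb⟩, rfl⟩⟩
  haveI : Algebra.IsIntegral A B := Algebra.IsInvariant.isIntegral A B (P.inertia Γ)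
  haveI hmax : (P.comap (algebraMap A B)).IsMaximal :=
    Ideal.isMaximal_comap_of_isIntegral_of_isMaximal P
  letI := Ideal.Quotient.field P
  letI := Ideal.Quotient.field (P.comap (algebraMap A B))
  let ι : A ⧸ P.comap (algebraMap A B) →+* B ⧸ P := Ideal.quotientMap P (algebraMap A B) le_rfl
  have hι : ι.comp (Ideal.Quotient.mk _) = (Ideal.Quotient.mk P).comp (algebraMap A B) :=
    Ideal.quotientMap_comp_mk le_rfl
  obtain ⟨hA, hhA⟩ : ∃ hA : A[X], hA.map (algebraMap A B) =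
      MulSemiringAction.charpoly (P.inertia Γ) x :=
    (Polynomial.lifts_iff_coeff_lifts _).mpr
      (fun i => ⟨⟨_, fun τ => MulSemiringAction.smul_coeff_charpoly x i τ⟩, rfl⟩)
  obtain ⟨gA, hgA⟩ : ∃ gA : A[X], gA.map (algebraMap A B) = g :=
    (Polynomial.lifts_iff_coeff_lifts _).mpr
      (fun i => ⟨⟨g.coeff i, fun τ => hginv i τ⟩, rfl⟩)
  have key := mem_range_of_separable ι (Ideal.Quotient.mk P x) (hA.map (Ideal.Quotient.mk _))
    (gA.map (Ideal.Quotient.mk _)) (Fintype.card (P.inertia Γ)) Fintype.card_ne_zero ?_ ?_ ?_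
  · obtain ⟨a, ha⟩ := key
    obtain ⟨a, rfl⟩ := Ideal.Quotient.mk_surjective a
    refine ⟨a.1, fun τ hτ => a.2 ⟨τ, hτ⟩, ?_⟩
    rw [← Ideal.Quotient.eq]
    exact ha.symm
  · rw [Polynomial.map_map, hι, ← Polynomial.map_map, hhA, charpoly_map]
  · rw [Polynomial.map_map, hι, ← Polynomial.map_map, hgA]
    exact hsep
  · rw [Polynomial.map_map, hι, ← Polynomial.map_map, hgA, Polynomial.eval_map,
      Polynomial.eval₂_at_apply]
    exact Ideal.Quotient.eq_zero_iff_mem.mpr hgx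

omit [Finite Γ] [P.IsMaximal] in
/-- `D` normalizes `T`: conjugates `σ • y` of a `T`-invariant `y` by `σ ∈ D` are `T`-invariant. -/
theorem smul_invariant {y : B} (hy : ∀ τ ∈ P.inertia Γ, τ • y = y) (σ : Γ) (hσ : σ • P = P)
    (τ : Γ) (hτ : τ ∈ P.inertia Γ) : τ • σ • y = σ • y := by
  have h1 : σ⁻¹ * τ * σ ∈ P.inertia Γ := by
    intro x
    change (σ⁻¹ * τ * σ) • x - x ∈ P
    have h2 : τ • (σ • x) - σ • x ∈ P := hτ (σ • x)
    have h3 := Ideal.smul_mem_pointwise_smul σ⁻¹ _ P h2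
    rw [inv_smul_eq_iff.mpr hσ.symm, smul_sub, inv_smul_smul] at h3
    rwa [mul_smul, mul_smul]
  have := hy _ h1
  rw [mul_smul, mul_smul, inv_smul_eq_iff] at this
  exact this

/-- the `⇒` direction -/
theorem exists_separable_of_inertia_invariant (y : B) (hy : ∀ τ ∈ P.inertia Γ, τ • y = y) :
    ∃ g : B[X], (∀ (i : ℕ) (γ : Γ), γ • g.coeff i = g.coeff i) ∧
      (g.map (Ideal.Quotient.mk P)).Separable ∧
      (g.map (Ideal.Quotient.mk P)).eval (Ideal.Quotient.mk P y) = 0 := by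
  classical
  letI := Ideal.Quotient.field P
  letI act : MulSemiringAction (MulAction.stabilizer Γ P) (B ⧸ P) :=
    MulSemiringAction.compHom (B ⧸ P) (Ideal.Quotient.stabilizerHom P (P.under ℤ) Γ)
  have hact : ∀ (σ : MulAction.stabilizer Γ P) (b : B),
      σ • (Ideal.Quotient.mk P b) = Ideal.Quotient.mk P ((σ : Γ) • b) := fun σ b => rfl
  cases nonempty_fintype (MulAction.stabilizer Γ P)
  obtain ⟨F, hF⟩ : ∃ F, F = prodXSubSMul (MulAction.stabilizer Γ P) (B ⧸ P) (Ideal.Quotient.mk P y) :=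
    ⟨_, rfl⟩
  have hFsep : F.Separable := by
    rw [hF]
    exact Polynomial.separable_prod_X_sub_C_iff.2
      (MulAction.injective_ofQuotientStabilizer (MulAction.stabilizer Γ P) (Ideal.Quotient.mk P y))
  -- lift to `B[X]` with `T`-invariant coefficients
  let FB : B[X] := ∏ q : MulAction.stabilizer Γ P ⧸
      MulAction.stabilizer (MulAction.stabilizer Γ P) (Ideal.Quotient.mk P y),
      (X - C (((Quotient.out q : MulAction.stabilizer Γ P) : Γ) • y))
  have hFB : FB.map (Ideal.Quotient.mk P) = F := by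
    rw [hF, prodXSubSMul, Polynomial.map_prod]
    refine Finset.prod_congr rfl fun q _ => ?_
    rw [Polynomial.map_sub, map_X, map_C, ← hact]
    congr 2
    conv_rhs => rw [← Quotient.out_eq' q]
    rfl
  have hFBinv : ∀ τ ∈ P.inertia Γ, τ • FB = FB := by
    intro τ hτ
    rw [Finset.smul_prod']
    refine Finset.prod_congr rfl fun q _ => ?_
    rw [smul_sub, smul_X, smul_C, smul_invariant P hy _ (Quotient.out q).2 τ hτ]
  have hcoeff : ∀ i : ℕ, ∃ a : B, (∀ γ : Γ, γ • a = a) ∧ Ideal.Quotient.mk P a = F.coeff i := by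
    intro i
    obtain ⟨a, ha, ha2⟩ := exists_invariant_of_stabilizer_fixed (Γ := Γ) P (w := FB.coeff i)
      (fun τ hτ => by rw [← Polynomial.coeff_smul τ FB i, hFBinv τ hτ])
      (fun σ hσ => by
        rw [← Ideal.Quotient.eq, ← hact ⟨σ, hσ⟩, ← coeff_map, hFB, hF]
        exact prodXSubSMul.coeff _ _ _ _ _)
    refine ⟨a, ha, ?_⟩
    rw [← hFB, coeff_map]
    exact Ideal.Quotient.eq.mpr ha2
  choose a ha1 ha2 using hcoeff
  let g : B[X] := ∑ i ∈ Finset.range (F.natDegree + 1), monomial i (a i)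
  have hgcoeff : ∀ j, g.coeff j = if j < F.natDegree + 1 then a j else 0 := by
    intro j
    simp only [g, Polynomial.finsetSum_coeff, coeff_monomial, Finset.sum_ite_eq', Finset.mem_range]
  have hgF : g.map (Ideal.Quotient.mk P) = F := by
    ext j
    rw [coeff_map, hgcoeff]
    split_ifs with hj
    · exact ha2 j
    · rw [map_zero, coeff_eq_zero_of_natDegree_lt (by omega)]
  refine ⟨g, fun i γ => ?_, hgF ▸ hFsep, ?_⟩
  · rw [hgcoeff]
    split_ifs
    · exact ha1 i γ
    · exact smul_zero γ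
  · rw [hgF, hF]
    exact prodXSubSMul.eval _ _ _

end Groth.Agent.H7.Inertia
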