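import Mathlib

/-! A retraction of inflation on 1-cocycles when `|P|` acts invertibly. -/

namespace Groth.Agent.H7.InfRetr

open groupCohomology CategoryTheory

universe u

variable {k G : Type u} [CommRing k] [Group G] (A : Rep.{u} k G) (P : Subgroup G) [P.Normal]
  [Fintype P] (hP : Function.Bijective fun a : A => (Nat.card P : k) • a)

/-- multiplication by `|P|` as a linear equivalence. -/
noncomputable def cardEquiv : A.V ≃ₗ[k] A.V :=
  LinearEquiv.ofBijective ((Nat.card P : k) • (LinearMap.id : A.V →ₗ[k] A.V)) hP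

theorem cardEquiv_apply (a : A.V) : cardEquiv A P hP a = (Nat.card P : k) • a := rfl

/-- the average of `f` over `P`. -/
noncomputable def avg (f : G → A.V) : A.V :=
  (cardEquiv A P hP).symm (∑ q : P, f q)

theorem card_smul_avg (f : G → A.V) : (Nat.card P : k) • avg A P hP f = ∑ q : P, f q := by
  rw [← cardEquiv_apply A P hP, avg, LinearEquiv.apply_symm_apply]

theorem avg_add (f₁ f₂ : G → A.V) : avg A P hP (f₁ + f₂) = avg A P hP f₁ + avg A P hP f₂ := by
  rw [avg, avg, avg, ← map_add]
  congr 1
  exact Finset.sum_add_distrib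

theorem avg_smul (c : k) (f : G → A.V) : avg A P hP (c • f) = c • avg A P hP f := by
  rw [avg, avg, ← map_smul]
  congr 1
  rw [Finset.smul_sum]
  rfl

/-- the modified cocycle. -/
noncomputable def mod (f : G → A.V) (g : G) : A.V :=
  f g + (A.ρ g (avg A P hP f) - avg A P hP f)

variable {A P}

theorem rho_avg_sub (f : G → A.V) (hf : ∀ g h : G, f (g * h) = A.ρ g (f h) + f g) (p : G)
    (hp : p ∈ P) : A.ρ p (avg A P hP f) - avg A P hP f = - f p := by
  apply hP.1
  show (Nat.card P : k) • _ = (Nat.card P : k) • _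
  rw [smul_sub, ← map_smul, card_smul_avg, smul_neg, map_sum]
  have h1 : ∀ q : P, A.ρ p (f q) = f (p * q) - f p := fun q => by rw [hf]; abel
  simp_rw [h1]
  rw [Finset.sum_sub_distrib, Finset.sum_const, Finset.card_univ]
  have h2 : ∑ q : P, f (p * q) = ∑ q : P, f q := by
    let e : P ≃ P := Equiv.mulLeft (⟨p, hp⟩ : P)
    exact Fintype.sum_equiv e _ _ (fun q => rfl)
  rw [h2, sub_sub_cancel_left, Nat.card_eq_fintype_card, Nat.cast_smul_eq_nsmul]

theorem mod_mul (f : G → A.V) (hf : ∀ g h : G, f (g * h) = A.ρ g (f h) + f g) (g h : G) :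
    mod A P hP f (g * h) = A.ρ g (mod A P hP f h) + mod A P hP f g := by
  simp only [mod]
  rw [hf, map_mul, Module.End.mul_apply, map_add, map_sub]
  abel

theorem mod_of_mem (f : G → A.V) (hf : ∀ g h : G, f (g * h) = A.ρ g (f h) + f g) (p : G)
    (hp : p ∈ P) : mod A P hP f p = 0 := by
  rw [mod, rho_avg_sub hP f hf p hp, add_neg_cancel]

theorem mod_mul_mem (f : G → A.V) (hf : ∀ g h : G, f (g * h) = A.ρ g (f h) + f g) (g p : G)
    (hp : p ∈ P) : mod A P hP f (g * p) = mod A P hP f g := by
  rw [mod_mul hP f hf, mod_of_mem hP f hf p hp, map_zero, zero_add]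

theorem rho_mod (f : G → A.V) (hf : ∀ g h : G, f (g * h) = A.ρ g (f h) + f g) (g p : G)
    (hp : p ∈ P) : A.ρ p (mod A P hP f g) = mod A P hP f g := by
  have h1 := mod_mul hP f hf p g
  rw [mod_of_mem hP f hf p hp, add_zero] at h1
  rw [← h1]
  have h2 : p * g = g * (g⁻¹ * p * g) := by group
  rw [h2]
  exact mod_mul_mem hP f hf g _ (Subgroup.Normal.conj_mem' inferInstance p hp g)

theorem mod_add (f₁ f₂ : G → A.V) (g : G) :
    mod A P hP (f₁ + f₂) g = mod A P hP f₁ g + mod A P hP f₂ g := by
  simp only [mod, avg_add, map_add, Pi.add_apply]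
  abel

theorem mod_smul (c : k) (f : G → A.V) (g : G) :
    mod A P hP (c • f) g = c • mod A P hP f g := by
  simp only [mod, avg_smul, map_smul, Pi.smul_apply, smul_add, smul_sub]

section retr

variable (A P)

/-- the underlying function of the retraction applied to `f`. -/
noncomputable def retrFun (f : cocycles₁ A) :
    G ⧸ P → (A.quotientToInvariants P).V := fun q =>
  Quotient.liftOn' q
    (fun g => (⟨mod A P hP f g, fun p =>
      rho_mod hP f ((mem_cocycles₁_iff f).1 f.2) g p.1 p.2⟩ :
        Representation.invariants (A.ρ.comp P.subtype)))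
    (fun a b hab => by
      rw [QuotientGroup.leftRel_apply] at hab
      apply Subtype.ext
      show mod A P hP f a = mod A P hP f b
      have : b = a * (a⁻¹ * b) := by group
      rw [this]
      exact (mod_mul_mem hP f ((mem_cocycles₁_iff f).1 f.2) a _ hab).symm)

theorem retrFun_mk (f : cocycles₁ A) (g : G) :
    ((retrFun A P hP f (g : G ⧸ P) : Representation.invariants (A.ρ.comp P.subtype)) : A.V)
      = mod A P hP f g := rfl

theorem retrFun_mem (f : cocycles₁ A) :
    retrFun A P hP f ∈ cocycles₁ (A.quotientToInvariants P) := by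
  rw [mem_cocycles₁_iff]
  intro g h
  induction g using QuotientGroup.induction_on with | @H g =>
  induction h using QuotientGroup.induction_on with | @H h =>
  apply Subtype.ext
  rw [← QuotientGroup.mk_mul]
  show mod A P hP f (g * h) = A.ρ g (mod A P hP f h) + mod A P hP f g
  exact mod_mul hP f ((mem_cocycles₁_iff f).1 f.2) g h

/-- the retraction. -/
noncomputable def retr : cocycles₁ A →ₗ[k] cocycles₁ (A.quotientToInvariants P) where
  toFun f := ⟨retrFun A P hP f, retrFun_mem A P hP f⟩
  map_add' f₁ f₂ := by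
    apply cocycles₁_ext
    intro q
    induction q using QuotientGroup.induction_on with | @H g =>
    apply Subtype.ext
    show mod A P hP (⇑(f₁ + f₂)) g = mod A P hP f₁ g + mod A P hP f₂ g
    exact mod_add hP f₁ f₂ g
  map_smul' c f := by
    apply cocycles₁_ext
    intro q
    induction q using QuotientGroup.induction_on with | @H g =>
    apply Subtype.ext
    show mod A P hP (⇑(c • f)) g = c • mod A P hP f g
    exact mod_smul hP c f g

theorem retr_apply_mk (f : cocycles₁ A) (g : G) :
    ((retr A P hP f (g : G ⧸ P) : Representation.invariants (A.ρ.comp P.subtype)) : A.V)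
      = mod A P hP f g := rfl

theorem retr_inf (φ : cocycles₁ (A.quotientToInvariants P)) :
    retr A P hP (mapCocycles₁ (QuotientGroup.mk' P)
      (Rep.ofHom (A.ρ.quotientToInvariants_lift P)) φ) = φ := by
  apply cocycles₁_ext
  intro q
  induction q using QuotientGroup.induction_on with | @H g =>
  apply Subtype.ext
  rw [retr_apply_mk]
  set ψ := mapCocycles₁ (QuotientGroup.mk' P)
      (Rep.ofHom (A.ρ.quotientToInvariants_lift P)) φ with hψ
  have hval : ∀ g : G, ψ g = ((φ (g : G ⧸ P) : Representation.invariants (A.ρ.comp P.subtype)) : A.V) :=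
    fun g => rfl
  have havg : avg A P hP ψ = 0 := by
    rw [avg]
    have : ∑ q : P, ψ q = 0 := by
      apply Finset.sum_eq_zero
      intro q _
      rw [hval, (QuotientGroup.eq_one_iff (q : G)).2 q.2, cocycles₁_map_one]
      rfl
    rw [this, map_zero]
  rw [mod, havg, map_zero, sub_zero, add_zero, hval]

end retr

theorem main {k G : Type u} [CommRing k] [Group G] (A : Rep.{u} k G) (P : Subgroup G) [P.Normal]
    [Finite P] (hP : Function.Bijective fun a : A => (Nat.card P : k) • a) :
    ∃ r : ModuleCat.of k (groupCohomology.cocycles₁ A) ⟶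
        ModuleCat.of k (groupCohomology.cocycles₁ (A.quotientToInvariants P)),
      (groupCohomology.mapCocycles₁ (QuotientGroup.mk' P)
          (Rep.ofHom (A.ρ.quotientToInvariants_lift P)) :
          ModuleCat.of k (groupCohomology.cocycles₁ (A.quotientToInvariants P)) ⟶
            ModuleCat.of k (groupCohomology.cocycles₁ A)) ≫ r = 𝟙 _ := by
  haveI := Fintype.ofFinite P
  refine ⟨ModuleCat.ofHom (retr A P hP), ?_⟩
  apply ModuleCat.hom_ext
  apply LinearMap.ext
  intro φ
  exact retr_inf A P hP φ

end Groth.Agent.H7.InfRetr
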