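import Mathlib

/-!
# An integral "birational" extension of a normal ring is trivial
-/

set_option autoImplicit false
universe u

open CategoryTheory

namespace Groth.Agent.H7.IntBirat

section local_

variable {A : Type u} [CommRing A] (m : Ideal A) [m.IsPrime]

/-- the kernel of `A → A_m`. -/
noncomputable abbrev p0 : Ideal A := RingHom.ker (algebraMap A (Localization.AtPrime m))

theorem mem_p0_iff (a : A) : a ∈ p0 m ↔ ∃ s : A, s ∉ m ∧ s * a = 0 := by
  rw [RingHom.mem_ker, IsLocalization.map_eq_zero_iff m.primeCompl]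
  constructor
  · rintro ⟨s, hs⟩
    exact ⟨s.1, s.2, hs⟩
  · rintro ⟨s, hs, h⟩
    exact ⟨⟨s, hs⟩, h⟩

theorem p0_le : p0 m ≤ m := by
  intro a ha
  obtain ⟨s, hs, h⟩ := (mem_p0_iff m a).1 ha
  have : s * a ∈ m := by rw [h]; exact m.zero_mem
  exact (Ideal.IsPrime.mem_or_mem ‹m.IsPrime› this).resolve_left hs

theorem p0_le_of_le (q : Ideal A) [q.IsPrime] (hq : q ≤ m) : p0 m ≤ q := by
  intro a ha
  obtain ⟨s, hs, h⟩ := (mem_p0_iff m a).1 ha
  have : s * a ∈ q := by rw [h]; exact q.zero_mem
  exact (Ideal.IsPrime.mem_or_mem ‹q.IsPrime› this).resolve_left (fun h' => hs (hq h'))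

variable [IsDomain (Localization.AtPrime m)]

instance p0_isPrime : (p0 m).IsPrime := RingHom.ker_isPrime _

theorem p0_mem_minimalPrimes : p0 m ∈ minimalPrimes A := by
  refine ⟨⟨inferInstance, bot_le⟩, ?_⟩
  rintro q ⟨hq, -⟩ hqp
  haveI := hq
  exact p0_le_of_le m q (hqp.trans (p0_le m))

theorem eq_p0_of_mem_minimalPrimes (p : Ideal A) (hp : p ∈ minimalPrimes A) (hpm : p ≤ m) :
    p = p0 m := by
  haveI : p.IsPrime := hp.1.1
  have h1 : p0 m ≤ p := p0_le_of_le m p hpm
  exact le_antisymm (hp.2 ⟨inferInstance, bot_le⟩ h1) h1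

theorem primeCompl_le : m.primeCompl ≤ (p0 m).primeCompl := fun _ hx h => hx (p0_le m h)

/-- the `A_m`-algebra structure on `A_{p₀}`. -/
noncomputable def algK : Algebra (Localization.AtPrime m) (Localization.AtPrime (p0 m)) :=
  IsLocalization.localizationAlgebraOfSubmonoidLe _ _ m.primeCompl (p0 m).primeCompl
    (primeCompl_le m)

theorem towerK : @IsScalarTower A (Localization.AtPrime m) (Localization.AtPrime (p0 m)) _
    (algK m).toSMul _ :=
  IsLocalization.localization_isScalarTower_of_submonoid_le _ _ m.primeCompl (p0 m).primeCompl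
    (primeCompl_le m)

theorem isFractionRingK : @IsFractionRing (Localization.AtPrime m) _
    (Localization.AtPrime (p0 m)) _ (algK m) := by
  letI := algK m
  haveI := towerK m
  haveI h1 : IsLocalization ((p0 m).primeCompl.map (algebraMap A (Localization.AtPrime m)))
      (Localization.AtPrime (p0 m)) :=
    IsLocalization.isLocalization_of_submonoid_le _ _ m.primeCompl (p0 m).primeCompl
      (primeCompl_le m)
  refine IsLocalization.of_le (M := (p0 m).primeCompl.map (algebraMap A (Localization.AtPrime m)))
    _ ?_ ?_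
  · rintro _ ⟨t, ht, rfl⟩
    apply mem_nonZeroDivisors_of_ne_zero
    intro h0
    exact ht h0
  · intro r hr
    have hr0 : r ≠ 0 := nonZeroDivisors.ne_zero hr
    obtain ⟨a, s, rfl⟩ := IsLocalization.exists_mk'_eq m.primeCompl r
    have ha : a ∉ p0 m := by
      intro h
      apply hr0
      have h' : algebraMap A (Localization.AtPrime m) a = 0 := h
      rw [IsLocalization.mk'_eq_mul_mk'_one, h', zero_mul]
    have hua : IsUnit (algebraMap A (Localization.AtPrime (p0 m)) a) :=
      IsLocalization.map_units _ (⟨a, ha⟩ : (p0 m).primeCompl)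
    have hspec : IsLocalization.mk' (Localization.AtPrime m) a s *
        algebraMap A (Localization.AtPrime m) s = algebraMap A (Localization.AtPrime m) a :=
      IsLocalization.mk'_spec _ _ _
    have h2 := congrArg (algebraMap (Localization.AtPrime m) (Localization.AtPrime (p0 m))) hspec
    rw [map_mul, ← IsScalarTower.algebraMap_apply, ← IsScalarTower.algebraMap_apply] at h2
    rw [← h2] at hua
    exact isUnit_of_mul_isUnit_left hua

end local_

section main

variable {A B : Type u} [CommRing A] [CommRing B] [Algebra A B] [Algebra.IsIntegral A B]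
  [IsReduced B]

/-- the kernel of a retraction `B → K` over a minimal prime `p` of `A` is `p`-torsion. -/
theorem exists_smul_eq_zero_of_ker
    (h1 : ∀ q ∈ minimalPrimes B, q.comap (algebraMap A B) ∈ minimalPrimes A)
    (h2 : Set.InjOn (Ideal.comap (algebraMap A B)) (minimalPrimes B))
    (h3 : (minimalPrimes B).Finite)
    (p : Ideal A) [p.IsPrime] (hp : p ∈ minimalPrimes A)
    {K : Type u} [CommRing K] [IsDomain K] [Algebra A K]
    (hker : RingHom.ker (algebraMap A K) = p)
    (ψ : B →+* K) (hψ : ψ.comp (algebraMap A B) = algebraMap A K) (c : B) (hc : ψ c = 0) :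
    ∃ t : A, t ∉ p ∧ t • c = 0 := by
  classical
  haveI : (RingHom.ker ψ).IsPrime := RingHom.ker_isPrime ψ
  have hcomap : (RingHom.ker ψ).comap (algebraMap A B) = p := by
    ext a
    rw [Ideal.mem_comap, RingHom.mem_ker, ← hker, RingHom.mem_ker, ← hψ]
    rfl
  obtain ⟨q', hq', hq'le⟩ := Ideal.exists_minimalPrimes_le (bot_le : ⊥ ≤ RingHom.ker ψ)
  haveI : q'.IsPrime := hq'.1.1
  have hq'A : q'.comap (algebraMap A B) = p := by
    have h4 := h1 q' hq'
    have h5 : q'.comap (algebraMap A B) ≤ p := by
      rw [← hcomap]; exact Ideal.comap_mono hq'le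
    exact le_antisymm h5 (hp.2 h4.1 h5)
  have hqeq : q' = RingHom.ker ψ := by
    by_contra hne
    have hlt : q' < RingHom.ker ψ := lt_of_le_of_ne hq'le hne
    obtain ⟨x, hx, hx'⟩ := Set.exists_of_ssubset hlt
    have := Ideal.comap_lt_comap_of_integral_mem_sdiff (R := A) hq'le ⟨hx, hx'⟩
      (Algebra.IsIntegral.isIntegral x)
    rw [hq'A, hcomap] at this
    exact lt_irrefl _ this
  have hcq : c ∈ q' := by rw [hqeq]; exact hc
  have key : ∀ q : Ideal B, ∃ t : A, q ∈ minimalPrimes B → q ≠ q' →
      t ∈ q.comap (algebraMap A B) ∧ t ∉ p := by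
    intro q
    by_cases hq : q ∈ minimalPrimes B ∧ q ≠ q'
    · have h4 := h1 q hq.1
      have hne : q.comap (algebraMap A B) ≠ p := by
        intro h
        exact hq.2 (h2 hq.1 hq' (h.trans hq'A.symm))
      have hnle : ¬ q.comap (algebraMap A B) ≤ p := by
        intro hle
        exact hne (le_antisymm hle (hp.2 h4.1 hle))
      obtain ⟨t, ht, ht'⟩ := Set.not_subset.1 hnle
      exact ⟨t, fun _ _ => ⟨ht, ht'⟩⟩
    · exact ⟨0, fun h h' => absurd ⟨h, h'⟩ hq⟩
  choose t ht using key
  refine ⟨∏ q ∈ h3.toFinset.erase q', t q, ?_, ?_⟩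
  · rw [Ideal.IsPrime.prod_mem_iff]
    rintro ⟨q, hq, hmem⟩
    rw [Finset.mem_erase, Set.Finite.mem_toFinset] at hq
    exact (ht q hq.2 hq.1).2 hmem
  · have hnil : (∏ q ∈ h3.toFinset.erase q', t q) • c ∈ sInf (minimalPrimes B) := by
      rw [Ideal.mem_sInf]
      intro q hq
      by_cases hqq : q = q'
      · rw [hqq, Algebra.smul_def]
        exact Ideal.mul_mem_left _ _ hcq
      · rw [Algebra.smul_def]
        apply Ideal.mul_mem_right
        have hmem : q ∈ h3.toFinset.erase q' := by
          rw [Finset.mem_erase, Set.Finite.mem_toFinset]; exact ⟨hqq, hq⟩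
        have h6 : (∏ q ∈ h3.toFinset.erase q', t q) ∈ q.comap (algebraMap A B) := by
          obtain ⟨r, hr⟩ := Finset.dvd_prod_of_mem t hmem
          rw [hr]
          exact Ideal.mul_mem_right _ _ (ht q hq hqq).1
        exact h6
    have : sInf (minimalPrimes B) = ⊥ := by
      change sInf (⊥ : Ideal B).minimalPrimes = ⊥
      rw [Ideal.sInf_minimalPrimes]
      exact nilradical_eq_zero B
    rw [this] at hnil
    exact hnil

/-- **Main ring-theoretic statement.** -/
theorem bijective_algebraMap
    (hnorm : ∀ (m : Ideal A) [m.IsMaximal], IsDomain (Localization.AtPrime m) ∧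
      IsIntegrallyClosed (Localization.AtPrime m))
    (h1 : ∀ q ∈ minimalPrimes B, q.comap (algebraMap A B) ∈ minimalPrimes A)
    (h2 : Set.InjOn (Ideal.comap (algebraMap A B)) (minimalPrimes B))
    (h3 : (minimalPrimes B).Finite)
    (h4 : ∀ (p : Ideal A) [p.IsPrime], p ∈ minimalPrimes A →
      ∃ ψ : B →+* Localization.AtPrime p,
        ψ.comp (algebraMap A B) = algebraMap A (Localization.AtPrime p)) :
    Function.Bijective (algebraMap A B) := by
  -- local data at a maximal ideal
  have local_data : ∀ (m : Ideal A) [m.IsMaximal], ∃ (p : Ideal A) (_ : p.IsPrime)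
      (_ : p ∈ minimalPrimes A), p ≤ m ∧
      (∀ p' ∈ minimalPrimes A, p' ≤ m → p' = p) ∧
      (∀ a : A, algebraMap A (Localization.AtPrime p) a = 0 → ∃ s : A, s ∉ m ∧ s * a = 0) ∧
      IsDomain (Localization.AtPrime p) ∧
      RingHom.ker (algebraMap A (Localization.AtPrime p)) = p ∧
      ∀ β : Localization.AtPrime p, IsIntegral A β →
        ∃ (a s : A), s ∉ m ∧ algebraMap A (Localization.AtPrime p) s * β =
          algebraMap A (Localization.AtPrime p) a := by
    intro m hm
    haveI := (hnorm m).1
    haveI := (hnorm m).2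
    letI := algK m
    haveI := towerK m
    haveI := isFractionRingK m
    haveI hdK : IsDomain (Localization.AtPrime (p0 m)) :=
      IsFractionRing.isDomain (Localization.AtPrime m)
    have hinj : Function.Injective
        (algebraMap (Localization.AtPrime m) (Localization.AtPrime (p0 m))) :=
      IsFractionRing.injective _ _
    have hkerK : RingHom.ker (algebraMap A (Localization.AtPrime (p0 m))) = p0 m := by
      ext a
      rw [RingHom.mem_ker, RingHom.mem_ker,
        IsScalarTower.algebraMap_apply A (Localization.AtPrime m) (Localization.AtPrime (p0 m)),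
        map_eq_zero_iff _ hinj]
    refine ⟨p0 m, inferInstance, p0_mem_minimalPrimes m, p0_le m,
      fun p' hp' hle => eq_p0_of_mem_minimalPrimes m p' hp' hle, ?_, hdK, hkerK, ?_⟩
    · intro a ha
      have : a ∈ p0 m := by rw [← hkerK]; exact ha
      exact (mem_p0_iff m a).1 this
    · intro β hβ
      have hβ' : IsIntegral (Localization.AtPrime m) β := hβ.tower_top
      obtain ⟨α, hα⟩ := (isIntegrallyClosed_iff (Localization.AtPrime (p0 m))).1 inferInstance hβ'
      obtain ⟨a, s, rfl⟩ := IsLocalization.exists_mk'_eq m.primeCompl α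
      refine ⟨a, s.1, s.2, ?_⟩
      have hspec : IsLocalization.mk' (Localization.AtPrime m) a s *
          algebraMap A (Localization.AtPrime m) s = algebraMap A (Localization.AtPrime m) a :=
        IsLocalization.mk'_spec _ _ _
      have h5 := congrArg (algebraMap (Localization.AtPrime m) (Localization.AtPrime (p0 m)))
        hspec
      rw [map_mul, ← IsScalarTower.algebraMap_apply, ← IsScalarTower.algebraMap_apply, hα] at h5
      rw [mul_comm]; exact h5
  constructor
  · -- injectivity
    intro a a' haa'
    rw [← sub_eq_zero]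
    have ha : algebraMap A B (a - a') = 0 := by rw [map_sub, haa', sub_self]
    generalize a - a' = d at ha
    by_contra hd
    have hne : (Ideal.span {d}).annihilator ≠ ⊤ := by
      intro h
      apply hd
      have : (1 : A) ∈ (Ideal.span {d}).annihilator := by rw [h]; trivial
      rw [Submodule.mem_annihilator_span_singleton] at this
      simpa using this
    obtain ⟨m, hm, hle⟩ := Ideal.exists_le_maximal _ hne
    obtain ⟨p, hpp, hpmin, hpm, -, hzero, -, -, -⟩ := local_data m
    obtain ⟨ψ, hψ⟩ := h4 p hpmin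
    have h0 : algebraMap A (Localization.AtPrime p) d = 0 := by
      rw [← hψ, RingHom.comp_apply, ha, map_zero]
    obtain ⟨s, hs, hsd⟩ := hzero d h0
    apply hs
    apply hle
    rw [Submodule.mem_annihilator_span_singleton]
    exact hsd
  · -- surjectivity
    intro b
    by_contra hb
    let I : Ideal A := (LinearMap.range (Algebra.linearMap A B)).colon {b}
    have hI : ∀ a : A, a ∈ I ↔ ∃ a' : A, algebraMap A B a' = a • b := by
      intro a
      change a ∈ (LinearMap.range (Algebra.linearMap A B)).colon {b} ↔ _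
      rw [Submodule.mem_colon_singleton]
      rfl
    have hne : I ≠ ⊤ := by
      intro h
      apply hb
      have : (1 : A) ∈ I := by rw [h]; trivial
      obtain ⟨a', ha'⟩ := (hI 1).1 this
      exact ⟨a', by rw [ha', one_smul]⟩
    obtain ⟨m, hm, hle⟩ := Ideal.exists_le_maximal _ hne
    obtain ⟨p, hpp, hpmin, hpm, huniq, -, hdK, hkerK, hic⟩ := local_data m
    obtain ⟨ψ, hψ⟩ := h4 p hpmin
    have hcomm : ∀ a : A, ψ (algebraMap A B a) = algebraMap A (Localization.AtPrime p) a :=
      fun a => congrArg (fun g => g a) hψ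
    let ψ' : B →ₐ[A] Localization.AtPrime p := { ψ with commutes' := hcomm }
    have hβ : IsIntegral A (ψ b) := (Algebra.IsIntegral.isIntegral (R := A) b).map ψ'
    obtain ⟨a, s, hs, hsa⟩ := hic (ψ b) hβ
    -- the element c
    have hc : ψ (s • b - algebraMap A B a) = 0 := by
      have e1 : ψ (algebraMap A B s) = algebraMap A (Localization.AtPrime p) s := by
        rw [← hψ]; rfl
      have e2 : ψ (algebraMap A B a) = algebraMap A (Localization.AtPrime p) a := by
        rw [← hψ]; rfl
      rw [map_sub, Algebra.smul_def, map_mul, e1, e2, hsa, sub_self]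
    obtain ⟨t, htp, htc⟩ := exists_smul_eq_zero_of_ker h1 h2 h3 p hpmin hkerK ψ hψ _ hc
    -- find s' ∉ m killing c
    have hex : ∃ s' : A, s' ∉ m ∧ s' • (s • b - algebraMap A B a) = 0 := by
      by_contra hcon
      push Not at hcon
      let M : Submonoid B :=
        { carrier := {x | ∃ (s' : A) (n : ℕ), s' ∉ m ∧
            x = algebraMap A B s' * (s • b - algebraMap A B a) ^ n}
          one_mem' := ⟨1, 0, (Ideal.ne_top_iff_one m).1 hm.ne_top, by simp⟩
          mul_mem' := by
            rintro x y ⟨s₁, n₁, hs₁, rfl⟩ ⟨s₂, n₂, hs₂, rfl⟩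
            refine ⟨s₁ * s₂, n₁ + n₂, ?_, ?_⟩
            · intro h
              rcases hm.isPrime.mem_or_mem h with h | h
              · exact hs₁ h
              · exact hs₂ h
            · rw [map_mul, pow_add]; ring }
      have hdisj : Disjoint ((⊥ : Ideal B) : Set B) (M : Set B) := by
        rw [Set.disjoint_left]
        rintro x hx ⟨s', n, hs', rfl⟩
        have hx0 : algebraMap A B s' * (s • b - algebraMap A B a) ^ n = 0 := hx
        apply hcon s' hs'
        rw [Algebra.smul_def]
        have hpow : (algebraMap A B s' * (s • b - algebraMap A B a)) ^ (n + 1) = 0 := by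
          rw [mul_pow, pow_succ (algebraMap A B s'), pow_succ' (s • b - algebraMap A B a)]
          calc algebraMap A B s' ^ n * algebraMap A B s' *
                ((s • b - algebraMap A B a) * (s • b - algebraMap A B a) ^ n)
              = algebraMap A B s' ^ n * (s • b - algebraMap A B a) *
                (algebraMap A B s' * (s • b - algebraMap A B a) ^ n) := by ring
            _ = 0 := by rw [hx0, mul_zero]
        exact eq_zero_of_pow_eq_zero hpow
      obtain ⟨q, hq, -, hqM⟩ := Ideal.exists_le_prime_disjoint (⊥ : Ideal B) M hdisj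
      haveI := hq
      obtain ⟨q', hq', hq'le⟩ := Ideal.exists_minimalPrimes_le (bot_le : ⊥ ≤ q)
      have hq'M : ∀ x ∈ M, x ∉ q' := fun x hx hx' =>
        Set.disjoint_left.1 hqM (hq'le hx') hx
      have hcq' : (s • b - algebraMap A B a) ∉ q' :=
        hq'M _ ⟨1, 1, (Ideal.ne_top_iff_one m).1 hm.ne_top, by simp⟩
      have hq'm : q'.comap (algebraMap A B) ≤ m := by
        intro x hx
        by_contra hxm
        exact hq'M _ ⟨x, 0, hxm, by simp⟩ hx
      have hq'p : q'.comap (algebraMap A B) = p := huniq _ (h1 q' hq') hq'm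
      haveI : q'.IsPrime := hq'.1.1
      have h7 : t • (s • b - algebraMap A B a) ∈ q' := by rw [htc]; exact q'.zero_mem
      rw [Algebra.smul_def] at h7
      rcases Ideal.IsPrime.mem_or_mem inferInstance h7 with h8 | h8
      · apply htp
        rw [← hq'p]
        exact h8
      · exact hcq' h8
    obtain ⟨s', hs', hs'c⟩ := hex
    have hmem : s' * s ∈ I := by
      rw [hI]
      refine ⟨s' * a, ?_⟩
      rw [smul_sub, sub_eq_zero] at hs'c
      rw [mul_smul, hs'c, Algebra.smul_def, map_mul]
    have := hle hmem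
    rcases hm.isPrime.mem_or_mem this with h | h
    · exact hs' h
    · exact hs h

end main

end Groth.Agent.H7.IntBirat
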