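import Groth.Agent.Lib.Helper7.IntBirat1
import Mathlib

/-!
# An integral birational morphism from a reduced scheme to a normal affine scheme is an isomorphism
-/

set_option autoImplicit false
universe u

open AlgebraicGeometry CategoryTheory Limits Topology

namespace Groth.Agent.H7.IntBirat

section topology

variable {T : Type*} [TopologicalSpace T]

theorem mem_genericPoints_iff [QuasiSober T] [T0Space T] (x : T) :
    x ∈ genericPoints T ↔ ∀ x' : T, x' ⤳ x → x' = x := by
  constructor
  · intro hx x' h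
    have h1 : closure ({x} : Set T) ⊆ closure {x'} := specializes_iff_closure_subset.1 h
    have h2 : IsIrreducible (closure ({x'} : Set T)) := isIrreducible_singleton.closure
    have hx' : closure ({x} : Set T) ∈ irreducibleComponents T := hx
    have h3 : closure ({x'} : Set T) ⊆ closure {x} := hx'.2 h2 h1
    have h4 : x ⤳ x' := by
      rw [specializes_iff_mem_closure]
      exact h3 (subset_closure rfl)
    exact (h.antisymm h4).eq
  · intro h
    obtain ⟨Z, hZ, hzZ⟩ := exists_mem_irreducibleComponents_subset_of_isIrreducible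
      ({x} : Set T) isIrreducible_singleton
    have hZirr : IsIrreducible Z := hZ.1
    have hZcl : IsClosed Z := isClosed_of_mem_irreducibleComponents Z hZ
    obtain ⟨g, hg⟩ := QuasiSober.sober hZirr hZcl
    have hgx : g ⤳ x := by
      rw [specializes_iff_mem_closure, hg.def]
      exact hzZ rfl
    have : g = x := h g hgx
    change closure {x} ∈ irreducibleComponents T
    rw [← this, hg.def]
    exact hZ

end topology

/-- generic points of an affine scheme correspond to minimal primes of its ring of functions. -/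
theorem fromSpec_mem_genericPoints_iff {X : Scheme.{u}} [IsAffine X]
    (q : PrimeSpectrum Γ(X, ⊤)) :
    (isAffineOpen_top X).fromSpec q ∈ genericPoints X ↔ q.asIdeal ∈ minimalPrimes Γ(X, ⊤) := by
  rw [mem_genericPoints_iff]
  have hiso : IsIso (isAffineOpen_top X).fromSpec := by
    rw [IsAffineOpen.fromSpec_top]; infer_instance
  let e := (isAffineOpen_top X).fromSpec.homeomorph
  have he : ∀ z, e z = (isAffineOpen_top X).fromSpec z := fun _ => rfl
  constructor
  · intro h
    refine ⟨⟨q.2, bot_le⟩, ?_⟩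
    rintro q' ⟨hq', -⟩ hle
    have h1 : (⟨q', hq'⟩ : PrimeSpectrum Γ(X, ⊤)) ⤳ q :=
      (PrimeSpectrum.le_iff_specializes _ _).1 hle
    have h2 := h (e ⟨q', hq'⟩) (by rw [he]; exact h1.map e.continuous)
    have h3 : (⟨q', hq'⟩ : PrimeSpectrum Γ(X, ⊤)) = q := e.injective h2
    rw [← h3]
  · intro h x' hx'
    obtain ⟨q', rfl⟩ := e.surjective x'
    rw [he] at hx'
    have h1 : q' ⤳ q := (e.isInducing.specializes_iff).1 hx'
    have h2 : (q' : PrimeSpectrum Γ(X, ⊤)).asIdeal ≤ q.asIdeal :=
      (PrimeSpectrum.le_iff_specializes (q' : PrimeSpectrum Γ(X, ⊤)) q).2 h1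
    have h3 : q.asIdeal ≤ (q' : PrimeSpectrum Γ(X, ⊤)).asIdeal :=
      h.2 ⟨(q' : PrimeSpectrum Γ(X, ⊤)).2, bot_le⟩ h2
    have : (q' : PrimeSpectrum Γ(X, ⊤)) = q := PrimeSpectrum.ext (le_antisymm h2 h3)
    rw [this]; rfl

/-- the retraction `Γ(W) → 𝒪_{V,v}` attached to a point `v` over which `i` becomes an
isomorphism. -/
theorem exists_retraction {W V : Scheme.{u}} (i : W ⟶ V) (v : V)
    [IsIso (pullback.snd i (V.fromSpecStalk v))] :
    ∃ ψ₀ : Γ(W, ⊤) ⟶ V.presheaf.stalk v, i.appTop ≫ ψ₀ = V.presheaf.germ ⊤ v trivial := by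
  have hσ : (inv (pullback.snd i (V.fromSpecStalk v)) ≫ pullback.fst i (V.fromSpecStalk v)) ≫ i =
      V.fromSpecStalk v := by
    rw [Category.assoc, pullback.condition, IsIso.inv_hom_id_assoc]
  refine ⟨(inv (pullback.snd i (V.fromSpecStalk v)) ≫
    pullback.fst i (V.fromSpecStalk v)).appTop ≫ (Scheme.ΓSpecIso (V.presheaf.stalk v)).hom, ?_⟩
  apply Spec.map_injective
  rw [Spec.map_comp, Spec.map_comp, SpecMap_ΓSpecIso_hom, Category.assoc,
    ← Scheme.toSpecΓ_naturality_assoc, ← Scheme.toSpecΓ_naturality, ← Category.assoc, hσ,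
    Scheme.fromSpecStalk_toSpecΓ]

/-- **Affine case.** An integral morphism from a reduced scheme to a normal affine scheme which
is "birational" (isomorphism over the local rings at the generic points, bijective on generic
points, finitely many of them) is an isomorphism. -/
theorem isIso_of_integral_birational {W V : Scheme.{u}} [IsAffine V] (i : W ⟶ V)
    [IsIntegralHom i] [IsReduced W]
    (hnorm : ∀ t : V, IsDomain (V.presheaf.stalk t) ∧ IsIntegrallyClosed (V.presheaf.stalk t))
    (hGa : ∀ v ∈ genericPoints V, IsIso (pullback.snd i (V.fromSpecStalk v)))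
    (hGb : ∀ w ∈ genericPoints W, i w ∈ genericPoints V)
    (hGc : Set.InjOn i (genericPoints W))
    (hGd : (genericPoints W).Finite) : IsIso i := by
  haveI : IsAffine W := isAffine_of_isAffineHom i
  have hV := isAffineOpen_top V
  have hW := isAffineOpen_top W
  letI : Algebra Γ(V, ⊤) Γ(W, ⊤) := i.appTop.hom.toAlgebra
  have halg : algebraMap Γ(V, ⊤) Γ(W, ⊤) = i.appTop.hom := rfl
  have hnat : ∀ q : PrimeSpectrum Γ(W, ⊤),
      i (hW.fromSpec q) = hV.fromSpec (Spec.map i.appTop q) := by
    intro q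
    have h1 := IsAffineOpen.SpecMap_appLE_fromSpec i hV hW le_top
    have h2 : i.appLE ⊤ ⊤ le_top = i.appTop := by simp [Scheme.Hom.appLE]
    rw [h2] at h1
    rw [← Scheme.Hom.comp_apply, ← h1, Scheme.Hom.comp_apply]
  have hcomap : ∀ q : PrimeSpectrum Γ(W, ⊤),
      (Spec.map i.appTop q).asIdeal = q.asIdeal.comap (algebraMap Γ(V, ⊤) Γ(W, ⊤)) := fun _ => rfl
  have hinjW : Function.Injective hW.fromSpec := hW.fromSpec.isOpenEmbedding.injective
  haveI : Algebra.IsIntegral Γ(V, ⊤) Γ(W, ⊤) :=
    ⟨fun x => IsIntegralHom.isIntegral_app i ⊤ hV x⟩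
  have hb : Function.Bijective (algebraMap Γ(V, ⊤) Γ(W, ⊤)) := by
    apply bijective_algebraMap
    · -- normality
      intro m hm
      let y : PrimeSpectrum Γ(V, ⊤) := ⟨m, inferInstance⟩
      letI := TopCat.Presheaf.algebra_section_stalk V.presheaf
        (⟨hV.fromSpec y, trivial⟩ : (⊤ : V.Opens))
      haveI hloc : IsLocalization.AtPrime (V.presheaf.stalk (hV.fromSpec y)) m :=
        hV.isLocalization_stalk' y trivial
      let e := IsLocalization.algEquiv m.primeCompl (Localization.AtPrime m)
        (V.presheaf.stalk (hV.fromSpec y))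
      haveI := (hnorm (hV.fromSpec y)).1
      haveI := (hnorm (hV.fromSpec y)).2
      exact ⟨MulEquiv.isDomain (V.presheaf.stalk (hV.fromSpec y)) e.toMulEquiv,
        IsIntegrallyClosed.of_equiv e.symm.toRingEquiv⟩
    · -- minimal primes map to minimal primes
      intro q hq
      have h1 := (fromSpec_mem_genericPoints_iff (X := W) ⟨q, hq.1.1⟩).2 hq
      have h2 := hGb _ h1
      rw [hnat] at h2
      exact (fromSpec_mem_genericPoints_iff (X := V) _).1 h2
    · -- injectivity on minimal primes
      intro q₁ hq₁ q₂ hq₂ h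
      have h1 := (fromSpec_mem_genericPoints_iff (X := W) ⟨q₁, hq₁.1.1⟩).2 hq₁
      have h2 := (fromSpec_mem_genericPoints_iff (X := W) ⟨q₂, hq₂.1.1⟩).2 hq₂
      have h3 : i (hW.fromSpec ⟨q₁, hq₁.1.1⟩) = i (hW.fromSpec ⟨q₂, hq₂.1.1⟩) := by
        rw [hnat, hnat]
        congr 1
        exact PrimeSpectrum.ext h
      have h4 := hinjW (hGc h1 h2 h3)
      exact congrArg PrimeSpectrum.asIdeal h4
    · -- finiteness
      have h1 : (hW.fromSpec ⁻¹' genericPoints W).Finite :=
        hGd.preimage (hinjW.injOn)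
      refine (h1.image PrimeSpectrum.asIdeal).subset ?_
      intro q hq
      exact ⟨⟨q, hq.1.1⟩, (fromSpec_mem_genericPoints_iff (X := W) ⟨q, hq.1.1⟩).2 hq, rfl⟩
    · -- retractions
      intro p hp hpmin
      let y : PrimeSpectrum Γ(V, ⊤) := ⟨p, hp⟩
      have hv : hV.fromSpec y ∈ genericPoints V :=
        (fromSpec_mem_genericPoints_iff (X := V) y).2 hpmin
      haveI := hGa _ hv
      obtain ⟨ψ₀, hψ₀⟩ := exists_retraction i (hV.fromSpec y)
      letI := TopCat.Presheaf.algebra_section_stalk V.presheaf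
        (⟨hV.fromSpec y, trivial⟩ : (⊤ : V.Opens))
      haveI hloc : IsLocalization.AtPrime (V.presheaf.stalk (hV.fromSpec y)) p :=
        hV.isLocalization_stalk' y trivial
      let e := IsLocalization.algEquiv p.primeCompl (V.presheaf.stalk (hV.fromSpec y))
        (Localization.AtPrime p)
      refine ⟨e.toAlgHom.toRingHom.comp ψ₀.hom, ?_⟩
      ext a
      have h1 : ψ₀.hom (algebraMap Γ(V, ⊤) Γ(W, ⊤) a) =
          algebraMap Γ(V, ⊤) (V.presheaf.stalk (hV.fromSpec y)) a := by
        have := congrArg (fun g => g.hom a) hψ₀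
        exact this
      change e (ψ₀.hom (algebraMap Γ(V, ⊤) Γ(W, ⊤) a)) = _
      rw [h1]
      exact e.commutes a
  have hiso : IsIso i.appTop := (ConcreteCategory.isIso_iff_bijective _).2 hb
  exact (HasAffineProperty.iff_of_isAffine (P := MorphismProperty.isomorphisms Scheme)).2
    ⟨inferInstance, hiso⟩

end Groth.Agent.H7.IntBirat
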