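import Groth.Agent.Lib.Helper7.BiratFib9
import Groth.Agent.Lib.Helper7.IntBirat2
import Groth.Agent.Lib.Helper5.AlgSp.ImmersionDense
import Groth.Agent.Lib.Helper5.AlgSp.IntegralMor
import Groth.Agent.Lib.Helper5.AlgSp.Cover
import Groth.Agent.Lib.Helper5.AlgSp.Limits.EvIso
import Mathlib

/-!
# S10438: an integral birational morphism from a reduced to a normal decent space is an isomorphism
-/

set_option autoImplicit false
universe u

open AlgebraicGeometry CategoryTheory Limits Topology

namespace Groth.Agent.H7.IntBirat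

open _root_.AlgSp Groth.Agent.H5.AlgSp Groth.Agent.H7.BiratFib

variable {S : Scheme.{u}}

/-- generic points of a scheme and of its sheaf. -/
theorem mem_genericPoints_ofScheme_iff (W : Over S) (w : W.left) :
    w ∈ genericPoints W.left ↔
      Points.ofScheme W w ∈ genericPoints (Points ((yon S).obj W)) :=
  genericPoints_chart_iff (IsAlgSpace.yon_obj W) (Groth.Agent.H3.Decent.isDecent_yon W) (𝟙 _)
    ((repWith_isMultiplicative (S := S) @Etale).id_mem _) w

/-- the affine chart case. -/
theorem isIso_left_of_chart {X Y : AlgSp.Space S} (f : X ⟶ Y)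
    (hX : AlgSp.IsDecent X.obj) (hY : AlgSp.IsDecent Y.obj)
    (hYf : (irreducibleComponents (AlgSp.Points Y.obj)).Finite)
    (hf : W4stk3decentspacesp2.IsBirational f.hom)
    (hXr : AlgSp.EtaleLocally (fun T => IsReduced T) X.obj)
    {V W : Over S} [IsAffine V.left]
    (hVn : ∀ t : ↥V.left, IsDomain ↥(V.left.presheaf.stalk t) ∧
      IsIntegrallyClosed ↥(V.left.presheaf.stalk t))
    (b : (yon S).obj V ⟶ Y.obj) (hb : RepWith @Etale b) (i : W ⟶ V) [IsIntegralHom i.left]
    (fst : (yon S).obj W ⟶ X.obj) (sq : IsPullback fst ((yon S).map i) f.hom b) :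
    IsIso i.left := by
  have hfst : RepWith @Etale fst :=
    MorphismProperty.of_isPullback (P := RepWith (S := S) @Etale) sq.flip hb
  haveI : IsReduced W.left := isReduced_of_etale_of_isReducedSp hXr fst hfst
  obtain ⟨hPd, hPfin, hVfin, hbir⟩ := S10437_main f hX hY hYf hf b hb fst _ sq
  haveI : T0Space (Points ((yon S).obj W)) :=
    t0Space_points_of_isDecent (IsAlgSpace.yon_obj W) hPd
  have hmap : ∀ w : W.left, Points.map ((yon S).map i) (Points.ofScheme W w) =
      Points.ofScheme V (i.left w) := by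
    intro w
    rw [← Points.ofPt_eq_map_ofScheme, ofPt_yon_map']
  have hinj : Function.Injective (Points.ofScheme W) := (Points.schemeHomeo W).injective
  apply isIso_of_integral_birational i.left hVn
  · intro v hv
    have hvgen : Points.ofPt b v ∈ genericPoints (Points Y.obj) :=
      (genericPoints_chart_iff Y.property hY b hb v).1 hv
    let Q : Over S := Over.mk (pullback.fst i.left (V.left.fromSpecStalk v) ≫ W.hom)
    let pr1 : Q ⟶ W := Over.homMk (pullback.fst i.left (V.left.fromSpecStalk v)) rfl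
    let pr2 : Q ⟶ (Over.mk (V.left.fromSpecStalk v ≫ V.hom) : Over S) :=
      Over.homMk (pullback.snd i.left (V.left.fromSpecStalk v)) (by
        change pullback.snd i.left (V.left.fromSpecStalk v) ≫ V.left.fromSpecStalk v ≫ V.hom =
          pullback.fst i.left (V.left.fromSpecStalk v) ≫ W.hom
        have h2 : W.hom = i.left ≫ V.hom := (Over.w i).symm
        calc pullback.snd i.left (V.left.fromSpecStalk v) ≫ V.left.fromSpecStalk v ≫ V.hom
            = pullback.fst i.left (V.left.fromSpecStalk v) ≫ i.left ≫ V.hom :=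
              (pullback.condition_assoc _).symm
          _ = pullback.fst i.left (V.left.fromSpecStalk v) ≫ W.hom := congrArg _ h2.symm)
    have hcomm : pr1 ≫ i = pr2 ≫ (Over.homMk (V.left.fromSpecStalk v) rfl :
        (Over.mk (V.left.fromSpecStalk v ≫ V.hom) : Over S) ⟶ V) :=
      Over.OverMorphism.ext pullback.condition
    have sqQ : IsPullback pr1 pr2 i (Over.homMk (V.left.fromSpecStalk v) rfl :
        (Over.mk (V.left.fromSpecStalk v ≫ V.hom) : Over S) ⟶ V) :=
      IsPullback.of_map (Over.forget S) hcomm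
        (IsPullback.of_hasPullback i.left (V.left.fromSpecStalk v))
    have sqQy := NAS.isPullback_yon sqQ
    haveI : IsIso ((yon S).map pr2) :=
      isIso_snd_of_generic f hX hY hf b v hvgen _ _ (sqQy.paste_horiz sq)
    haveI : IsIso pr2 := isIso_of_fully_faithful (yon S) pr2
    exact (inferInstance : IsIso ((Over.forget S).map pr2))
  · intro w hw
    rw [mem_genericPoints_ofScheme_iff, ← hmap]
    exact hbir.bijOn.mapsTo ((mem_genericPoints_ofScheme_iff W w).1 hw)
  · intro w₁ hw₁ w₂ hw₂ h
    apply hinj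
    apply hbir.bijOn.injOn ((mem_genericPoints_ofScheme_iff W w₁).1 hw₁)
      ((mem_genericPoints_ofScheme_iff W w₂).1 hw₂)
    rw [hmap, hmap, h]
  · have h1 := finite_genericPoints_of_finite_irreducibleComponents hPfin
    refine (h1.preimage hinj.injOn).subset ?_
    intro w hw
    exact (mem_genericPoints_ofScheme_iff W w).1 hw

/-- S10438. -/
theorem S10438_main {X Y : AlgSp.Space S} (f : X ⟶ Y)
    (hX : AlgSp.IsDecent X.obj) (hY : AlgSp.IsDecent Y.obj)
    (hYf : (irreducibleComponents (AlgSp.Points Y.obj)).Finite)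
    (hi : AlgSp.IsIntegralMor f.hom) (hf : W4stk3decentspacesp2.IsBirational f.hom)
    (hYn : AlgSp.EtaleLocally (fun T => ∀ t : ↥T, IsDomain ↥(T.presheaf.stalk t) ∧
      IsIntegrallyClosed ↥(T.presheaf.stalk t)) Y.obj)
    (hXr : AlgSp.EtaleLocally (fun T => IsReduced T) X.obj) : IsIso f.hom := by
  obtain ⟨U₀, p₀, hp₀e, hp₀s, hU₀n⟩ := hYn
  have hi' : RepWith @IsIntegralHom f.hom := isIntegralMor_iff_repWith.1 hi
  let W₀ : Over S := hi'.rep.pullback p₀
  let i₀ : W₀ ⟶ U₀ := hi'.rep.snd p₀
  let f₀ : (yon S).obj W₀ ⟶ X.obj := hi'.rep.fst p₀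
  have sq₀ : IsPullback f₀ ((yon S).map i₀) f.hom p₀ := hi'.rep.isPullback p₀
  haveI hint₀ : IsIntegralHom i₀.left := hi'.property_snd p₀
  haveI : Sheaf.IsLocallySurjective p₀ := isLocallySurjective_of_etale_surjective p₀ hp₀e hp₀s
  suffices h : IsIso i₀.left by
    haveI : IsIso ((Over.forget S).map i₀) := h
    haveI : IsIso i₀ := isIso_of_reflects_iso i₀ (Over.forget S)
    haveI : IsIso ((yon S).map i₀) := inferInstance
    exact Lim.isIso_of_isPullback_of_isLocallySurjective sq₀
  apply IsZariskiLocalAtTarget.of_openCover (P := MorphismProperty.isomorphisms Scheme)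
    U₀.left.affineCover
  intro j
  change IsIso (pullback.snd i₀.left (U₀.left.affineCover.f j))
  let V : Over S := Over.mk (U₀.left.affineCover.f j ≫ U₀.hom)
  let ιV : V ⟶ U₀ := Over.homMk (U₀.left.affineCover.f j) rfl
  haveI : IsAffine V.left := (inferInstance : IsAffine (U₀.left.affineCover.X j))
  have hVn : ∀ t : ↥V.left, IsDomain ↥(V.left.presheaf.stalk t) ∧
      IsIntegrallyClosed ↥(V.left.presheaf.stalk t) := by
    intro t
    haveI := (hU₀n (U₀.left.affineCover.f j t)).1
    haveI := (hU₀n (U₀.left.affineCover.f j t)).2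
    let e : U₀.left.presheaf.stalk (U₀.left.affineCover.f j t) ≃+*
        (U₀.left.affineCover.X j).presheaf.stalk t :=
      (asIso ((U₀.left.affineCover.f j).stalkMap t)).commRingCatIsoToRingEquiv
    exact ⟨MulEquiv.isDomain (U₀.left.presheaf.stalk (U₀.left.affineCover.f j t))
      e.symm.toMulEquiv, IsIntegrallyClosed.of_equiv e⟩
  have hb : RepWith @Etale ((yon S).map ιV ≫ p₀) :=
    (repWith_isMultiplicative (S := S) @Etale).comp_mem _ _
      ((repWith_yon_map_iff @Etale ιV).2
        (inferInstance : Etale (U₀.left.affineCover.f j))) hp₀e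
  let W : Over S := Over.mk (pullback.fst i₀.left (U₀.left.affineCover.f j) ≫ W₀.hom)
  let pr1 : W ⟶ W₀ := Over.homMk (pullback.fst i₀.left (U₀.left.affineCover.f j)) rfl
  let pr2 : W ⟶ V := Over.homMk (pullback.snd i₀.left (U₀.left.affineCover.f j)) (by
    change pullback.snd i₀.left (U₀.left.affineCover.f j) ≫ U₀.left.affineCover.f j ≫ U₀.hom =
      pullback.fst i₀.left (U₀.left.affineCover.f j) ≫ W₀.hom
    have h2 : W₀.hom = i₀.left ≫ U₀.hom := (Over.w i₀).symm
    calc pullback.snd i₀.left (U₀.left.affineCover.f j) ≫ U₀.left.affineCover.f j ≫ U₀.hom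
        = pullback.fst i₀.left (U₀.left.affineCover.f j) ≫ i₀.left ≫ U₀.hom :=
          (pullback.condition_assoc _).symm
      _ = pullback.fst i₀.left (U₀.left.affineCover.f j) ≫ W₀.hom := congrArg _ h2.symm)
  have hcomm : pr1 ≫ i₀ = pr2 ≫ ιV := Over.OverMorphism.ext pullback.condition
  have sqW : IsPullback pr1 pr2 i₀ ιV :=
    IsPullback.of_map (Over.forget S) hcomm
      (IsPullback.of_hasPullback i₀.left (U₀.left.affineCover.f j))
  have sqWy := NAS.isPullback_yon sqW
  have sq : IsPullback ((yon S).map pr1 ≫ f₀) ((yon S).map pr2) f.hom ((yon S).map ιV ≫ p₀) :=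
    sqWy.paste_horiz sq₀
  haveI : IsIntegralHom pr2.left :=
    (inferInstance : IsIntegralHom (pullback.snd i₀.left (U₀.left.affineCover.f j)))
  exact isIso_left_of_chart f hX hY hYf hf hXr hVn _ hb pr2 _ sq

end Groth.Agent.H7.IntBirat
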