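import Mathlib
import Groth.Prelude.Def_AlgSp4
import Groth.Prelude.Def_AlgSpDec
import Groth.Agent.Lib.Helper3.Decent.Sober

set_option autoImplicit false
universe u
open CategoryTheory CategoryTheory.Limits AlgebraicGeometry Opposite Topology

namespace Groth.Agent.H7.IntCl

open _root_.AlgSp Groth.Agent.H5.AlgSp Groth.Agent.H3.Decent

theorem S10496_main {S : Scheme.{u}} (X : AlgSp.Space S)
    (hX : AlgSp.IsDecent X.obj) (T : Set (AlgSp.Points X.obj)) (hT : IsClosed T) (hTi : IsIrreducible T) :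
    ∃ (Z : AlgSp.Space S) (i : Z ⟶ X), AlgSp.RepWith @IsClosedImmersion i.hom ∧ AlgSp.IsIntegralSp Z.obj ∧
      Set.range (AlgSp.Points.map i.hom) = T := by
  obtain ⟨Z, i, hZ, hcl, hrange, hred⟩ := exists_isRedInduced X.property T hT
  have hdZ : IsDecent Z := isDecent_of_representable hcl.rep hX
  obtain ⟨V, p, hpe, hps⟩ := X.property.atlas
  have hemb : IsEmbedding (Points.map i) :=
    (isEmbedding_points_map_of_isImmersion i
      (repWith_mono Groth.Agent.H3.Decent.isClosedImmersion_le_isImmersion hcl) hpe hps).1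
  have hirrR : IrreducibleSpace (Set.range (Points.map i)) := by
    rw [hrange]
    exact Subtype.irreducibleSpace hTi
  have hirrZ : IrreducibleSpace (Points Z) :=
    (hemb.toHomeomorph.irreducibleSpace_iff).2 hirrR
  exact ⟨⟨Z, hZ⟩, ObjectProperty.homMk i, hcl, ⟨hred, hdZ, hirrZ⟩, hrange⟩

end Groth.Agent.H7.IntCl
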