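import Mathlib
import Groth.Agent.H4.NormInt

set_option autoImplicit false
universe u

namespace Groth.Agent.H7.IntClDed

section
variable (A K L : Type u) [CommRing A] [IsDomain A] [Field K] [Algebra A K] [IsFractionRing A K]
  [Field L] [Algebra K L] [FiniteDimensional K L] [Algebra A L] [IsScalarTower A K L]

include K in
/-- A finite `A`-subalgebra of `L` with fraction field `L`. -/
theorem exists_finite_subalgebra :
    ∃ A' : Subalgebra A L, Module.Finite A A' ∧ IsFractionRing A' L := by
  classical
  obtain ⟨s, b, hb⟩ := FiniteDimensional.exists_is_basis_integral A K L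
  refine ⟨Algebra.adjoin A (Set.range b), ?_, ?_⟩
  · have h := fg_adjoin_of_finite (R := A) (Set.finite_range b)
      (by rintro _ ⟨i, rfl⟩; exact hb i)
    exact Module.Finite.iff_fg.mpr h
  · refine IsFractionRing.of_field _ _ fun z => ?_
    obtain ⟨d, hdz⟩ := IsLocalization.exist_integer_multiples_of_finset (nonZeroDivisors A)
      (Finset.univ.image (b.repr z))
    have hz : ∀ i, ∃ c : A, algebraMap A K c = (d : A) • b.repr z i := fun i =>
      hdz _ (Finset.mem_image_of_mem _ (Finset.mem_univ i))
    choose c hc using hz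
    have hmem : (d : A) • z ∈ Algebra.adjoin A (Set.range b) := by
      have : (d : A) • z = ∑ i, c i • b i := by
        conv_lhs => rw [← b.sum_repr z, Finset.smul_sum]
        refine Finset.sum_congr rfl fun i _ => ?_
        rw [← smul_assoc, ← hc i, algebraMap_smul]
      rw [this]
      exact Subalgebra.sum_mem _ fun i _ =>
        Subalgebra.smul_mem _ (Algebra.subset_adjoin (Set.mem_range_self i)) _
    have hd0 : algebraMap A L (d : A) ≠ 0 := by
      have hinj : Function.Injective (algebraMap A L) := by
        rw [IsScalarTower.algebraMap_eq A K L]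
        exact (algebraMap K L).injective.comp (IsFractionRing.injective A K)
      intro h
      exact nonZeroDivisors.coe_ne_zero d (hinj (by rw [h, map_zero]))
    refine ⟨⟨_, hmem⟩, algebraMap A _ (d : A), ?_⟩
    rw [eq_div_iff]
    · change z * algebraMap A L (d : A) = (d : A) • z
      rw [Algebra.smul_def, mul_comm]
    · exact hd0

end

theorem main (A K L B : Type u) [CommRing A] [IsDomain A]
    [IsNoetherianRing A] (hdim : ringKrullDim A = 1) [Field K] [Algebra A K] [IsFractionRing A K]
    [Field L] [Algebra K L] [FiniteDimensional K L] [Algebra A L] [IsScalarTower A K L]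
    [CommRing B] [IsDomain B] [Algebra A B] [Algebra B L] [IsScalarTower A B L]
    [IsIntegralClosure B A L] :
    IsDedekindDomain B ∧ Function.Surjective (PrimeSpectrum.comap (algebraMap A B)) ∧
      (∀ p : PrimeSpectrum A, (PrimeSpectrum.comap (algebraMap A B) ⁻¹' {p}).Finite) ∧
      ∀ Q : Ideal B, Q.IsMaximal → Module.Finite (A ⧸ Q.comap (algebraMap A B)) (B ⧸ Q) := by
  haveI : Ring.KrullDimLE 1 A := Ring.krullDimLE_iff.mpr hdim.le
  obtain ⟨A', hfin, hfrac⟩ := exists_finite_subalgebra A K L
  haveI := hfin
  haveI := hfrac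
  haveI : IsNoetherianRing A' := IsNoetherianRing.of_finite A A'
  haveI : Algebra.IsIntegral A A' := Algebra.IsIntegral.of_finite A A'
  haveI : Ring.DimensionLEOne A := H4.NormInt.dimensionLEOne A
  haveI : Ring.DimensionLEOne A' := Ring.DimensionLEOne.of_isIntegral A A'
  haveI : Ring.KrullDimLE 1 A' := inferInstance
  have hint : ∀ x : L, IsIntegral A' x ↔ IsIntegral A x := fun x =>
    ⟨fun h => isIntegral_trans x h, fun h => h.tower_top⟩
  let φ : A' →ₐ[A] B := IsIntegralClosure.lift A B L
  letI : Algebra A' B := φ.toRingHom.toAlgebra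
  haveI : IsScalarTower A A' B := IsScalarTower.of_algebraMap_eq fun x => (φ.commutes x).symm
  haveI : IsScalarTower A' B L := IsScalarTower.of_algebraMap_eq fun x =>
    (IsIntegralClosure.algebraMap_lift A B L x).symm
  haveI : IsIntegralClosure B A' L :=
    ⟨IsIntegralClosure.algebraMap_injective B A L, fun {x} =>
      (hint x).trans (IsIntegralClosure.isIntegral_iff (R := A))⟩
  let e : B ≃ₐ[A'] integralClosure A' L := IsIntegralClosure.equiv A' B L (integralClosure A' L)
  haveI hC : IsDedekindDomain (integralClosure A' L) :=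
    H4.NormInt.isDedekindDomain_integralClosure A' L
  haveI hB : IsDedekindDomain B := H4.NormInt.isDedekindDomain_of_ringEquiv e.toRingEquiv
  haveI : Algebra.IsIntegral A B := IsIntegralClosure.isIntegral_algebra A L
  have hinjAL : Function.Injective (algebraMap A L) := by
    rw [IsScalarTower.algebraMap_eq A K L]
    exact (algebraMap K L).injective.comp (IsFractionRing.injective A K)
  have hinjAB : Function.Injective (algebraMap A B) := by
    intro x y h
    apply hinjAL
    rw [IsScalarTower.algebraMap_apply A B L, h, ← IsScalarTower.algebraMap_apply]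
  have hker : RingHom.ker (algebraMap A B) = ⊥ := (RingHom.injective_iff_ker_eq_bot _).mp hinjAB
  refine ⟨hB, ?_, ?_, ?_⟩
  · intro p
    obtain ⟨Q, hQ, hQp⟩ := Ideal.exists_ideal_over_prime_of_isIntegral_of_isDomain (S := B)
      p.asIdeal (by rw [hker]; exact bot_le)
    exact ⟨⟨Q, hQ⟩, PrimeSpectrum.ext hQp⟩
  · intro p
    by_cases hp : p.asIdeal = ⊥
    · refine Set.Subsingleton.finite ?_
      have key : ∀ P : PrimeSpectrum B, P ∈ PrimeSpectrum.comap (algebraMap A B) ⁻¹' {p} →
          P.asIdeal = ⊥ := by
        intro P hP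
        apply Ideal.eq_bot_of_comap_eq_bot (R := A)
        have := congrArg PrimeSpectrum.asIdeal (Set.mem_singleton_iff.mp hP)
        rw [hp] at this
        exact this
      intro P hP Q hQ
      apply PrimeSpectrum.ext
      rw [key P hP, key Q hQ]
    · obtain ⟨a, hap, ha0⟩ := Submodule.exists_mem_ne_zero_of_ne_bot hp
      have hI0 : algebraMap A B a ≠ 0 := fun h => ha0 (hinjAB (by rw [h, map_zero]))
      have hfin := Ideal.finite_minimalPrimes_of_isNoetherianRing B
        (Ideal.span {algebraMap A B a})
      refine Set.Finite.of_injOn (f := fun P : PrimeSpectrum B => P.asIdeal)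
        (t := (Ideal.span {algebraMap A B a}).minimalPrimes) ?_ ?_ hfin
      · intro P hP
        have haP : algebraMap A B a ∈ P.asIdeal := by
          have := congrArg PrimeSpectrum.asIdeal (Set.mem_singleton_iff.mp hP)
          change Ideal.comap _ P.asIdeal = p.asIdeal at this
          have h2 : a ∈ Ideal.comap (algebraMap A B) P.asIdeal := by
            rw [this]; exact hap
          exact h2
        refine ⟨⟨P.isPrime, (Ideal.span_singleton_le_iff_mem _).mpr haP⟩, ?_⟩
        rintro Q ⟨hQ, hIQ⟩ hQP
        have hQ0 : Q ≠ ⊥ := by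
          intro h
          rw [h] at hIQ
          exact hI0 (by simpa using hIQ)
        have hQmax := Ring.DimensionLEOne.maximalOfPrime hQ0 hQ
        exact (hQmax.eq_of_le P.isPrime.ne_top hQP).ge
      · intro P _ Q _ h
        exact PrimeSpectrum.ext h
  · intro Q hQ
    have hAfield : ¬ IsField A := by
      intro hA
      have h0 := ringKrullDim_eq_zero_of_isField hA
      rw [hdim] at h0
      exact one_ne_zero h0
    have hQ0 : Q ≠ ⊥ := by
      intro h
      have hBf : IsField B := by
        rw [h] at hQ
        exact Ring.isField_iff_maximal_bot.mpr hQ  -- fix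
      exact hAfield (isField_of_isIntegral_of_isField hinjAB hBf)
    have hq0 : Q.comap (algebraMap A B) ≠ ⊥ := fun h => hQ0 (Ideal.eq_bot_of_comap_eq_bot (R := A) h)
    obtain ⟨a, haq, ha0⟩ := Submodule.exists_mem_ne_zero_of_ne_bot hq0
    have ha' : algebraMap A A' a ≠ 0 := by
      intro h
      apply ha0
      apply hinjAL
      rw [IsScalarTower.algebraMap_apply A A' L, h, map_zero, map_zero]
    haveI hfq := H4.NormInt.finite_quotient A' L (algebraMap A A' a) ha'
    let g : (integralClosure A' L ⧸ Ideal.span {algebraMap A' (integralClosure A' L)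
        (algebraMap A A' a)}) →ₐ[A'] B ⧸ Q :=
      Ideal.Quotient.liftₐ _ ((Ideal.Quotient.mkₐ A' Q).comp e.symm.toAlgHom) (by
        intro x hx
        obtain ⟨y, rfl⟩ := Ideal.mem_span_singleton'.mp hx
        have : e.symm (y * algebraMap A' (integralClosure A' L) (algebraMap A A' a)) =
            e.symm y * algebraMap A B a := by
          rw [map_mul, AlgEquiv.commutes, ← IsScalarTower.algebraMap_apply]
        change Ideal.Quotient.mk Q (e.symm _) = 0
        rw [this, Ideal.Quotient.eq_zero_iff_mem]
        exact Q.mul_mem_left _ haq)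
    have hg : Function.Surjective g := by
      intro z
      obtain ⟨b, rfl⟩ := Ideal.Quotient.mk_surjective z
      exact ⟨Ideal.Quotient.mk _ (e b), by
        change Ideal.Quotient.mk Q (e.symm (e b)) = _
        rw [AlgEquiv.symm_apply_apply]⟩
    haveI : Module.Finite A' (B ⧸ Q) := Module.Finite.of_surjective g.toLinearMap hg
    haveI : Module.Finite A (B ⧸ Q) := Module.Finite.trans A' (B ⧸ Q)
    exact Module.Finite.of_restrictScalars_finite A (A ⧸ Q.comap (algebraMap A B)) (B ⧸ Q)

end Groth.Agent.H7.IntClDed
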