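import Mathlib

/-!
# Integrality of a global function from closedness of the image of a graph (scheme level core)
-/

set_option autoImplicit false

universe u

open AlgebraicGeometry CategoryTheory Limits TopologicalSpace Opposite Polynomial

namespace Groth.Agent.H7.IntGlob

lemma eq_of_toSpecΓ_comp_specMap_eq' {Y : Scheme.{u}} {A : CommRingCat.{u}} (α β : A ⟶ Γ(Y, ⊤))
    (h : Y.toSpecΓ ≫ Spec.map α = Y.toSpecΓ ≫ Spec.map β) : α = β := by
  have h2 := congrArg Scheme.Hom.appTop h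
  rw [Scheme.Hom.comp_appTop, Scheme.Hom.comp_appTop, Scheme.toSpecΓ_appTop,
    Scheme.ΓSpecIso_naturality, Scheme.ΓSpecIso_naturality] at h2
  exact (cancel_epi _).1 h2

lemma exists_hom_of_appTop' {Y T : Scheme.{u}} [IsAffine T] (ψ : Γ(T, ⊤) ⟶ Γ(Y, ⊤)) :
    ∃ m : Y ⟶ T, m.appTop = ψ := by
  refine ⟨Y.toSpecΓ ≫ Spec.map ψ ≫ T.isoSpec.inv, ?_⟩
  apply eq_of_toSpecΓ_comp_specMap_eq'
  rw [← Scheme.toSpecΓ_naturality, Category.assoc, Category.assoc, Scheme.isoSpec_inv_toSpecΓ,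
    Category.comp_id]

/-- A point of a scheme lies in `D(u)` or `D(v)` ... : if `F = b * x - 1` then `V(F) ∩ V(x) = ∅`. -/
lemma mem_basicOpen_of_notMem_basicOpen_mul_sub_one {P : Scheme.{u}} (b x : Γ(P, ⊤)) (p : P)
    (hp : p ∉ P.basicOpen (b * x - 1)) : p ∈ P.basicOpen x := by
  by_contra hx
  have h1 := (P.evaluation_eq_zero_iff_notMem_basicOpen p (U := ⊤) trivial _).2 hp
  have h2 := (P.evaluation_eq_zero_iff_notMem_basicOpen p (U := ⊤) trivial _).2 hx
  rw [map_sub, map_mul, h2, mul_zero, map_one, zero_sub, neg_eq_zero] at h1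
  exact one_ne_zero h1

variable {U V P : Scheme.{u}} [IsAffine V]

/-- the polynomial ring over the global functions of `V` as an affine scheme -/
noncomputable abbrev A1 (V : Scheme.{u}) : Scheme.{u} := Spec (CommRingCat.of (Polynomial Γ(V, ⊤)))

/-- the coordinate function -/
noncomputable abbrev coord (V : Scheme.{u}) : Γ(A1 V, ⊤) := (Scheme.ΓSpecIso _).inv (Polynomial.X)

section

variable (fU : U ⟶ V) (b : Γ(U, ⊤)) (t : A1 V ⟶ V)
  (ht : t.appTop = CommRingCat.ofHom Polynomial.C ≫ (Scheme.ΓSpecIso _).inv)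
  (fstP : P ⟶ U) (sndP : P ⟶ A1 V) (sq : IsPullback fstP sndP fU t)

include ht sq in
/-- Key vanishing: if `g` vanishes on the image of `V(b x - 1)`, then for every `y : Y ⟶ U` on which
`b` becomes invertible with inverse `c`, the function `g(c)` vanishes at every point of `Y`. -/
lemma basicOpen_eval₂_eq_bot
    (g : Polynomial Γ(V, ⊤))
    (hg : ∀ p : P, p ∉ P.basicOpen (fstP.appTop b * sndP.appTop (coord V) - 1) →
      g ∈ (show PrimeSpectrum (Polynomial Γ(V, ⊤)) from sndP p).asIdeal)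
    {Y : Scheme.{u}} (y : Y ⟶ U) (c : Γ(Y, ⊤)) (hc : y.appTop b * c = 1) :
    Y.basicOpen (Polynomial.eval₂ (y.appTop.hom.comp fU.appTop.hom) c g) = ⊥ := by
  classical
  let ψ : Polynomial Γ(V, ⊤) →+* Γ(Y, ⊤) :=
    Polynomial.eval₂RingHom (y.appTop.hom.comp fU.appTop.hom) c
  obtain ⟨τ, hτ⟩ := exists_hom_of_appTop' (Y := Y) (T := A1 V)
    ((Scheme.ΓSpecIso _).hom ≫ CommRingCat.ofHom ψ)
  have hcomm : y ≫ fU = τ ≫ t := by
    apply ext_of_isAffine
    rw [Scheme.Hom.comp_appTop, Scheme.Hom.comp_appTop, ht, hτ]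
    rw [Category.assoc, Iso.inv_hom_id_assoc]
    ext a
    simp [ψ]
  let ℓ := sq.lift y τ hcomm
  have h1 : ℓ ≫ fstP = y := sq.lift_fst _ _ _
  have h2 : ℓ ≫ sndP = τ := sq.lift_snd _ _ _
  have hτX : τ.appTop (coord V) = c := by
    rw [hτ]
    simp [ψ, coord]
  have hτg : τ.appTop ((Scheme.ΓSpecIso _).inv g) =
      Polynomial.eval₂ (y.appTop.hom.comp fU.appTop.hom) c g := by
    rw [hτ]
    simp [ψ]
  rw [eq_bot_iff]
  intro pt hpt
  have hW : ℓ pt ∉ P.basicOpen (fstP.appTop b * sndP.appTop (coord V) - 1) := by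
    intro hmem
    have hm : pt ∈ ℓ ⁻¹ᵁ P.basicOpen (fstP.appTop b * sndP.appTop (coord V) - 1) := hmem
    rw [Scheme.preimage_basicOpen_top] at hm
    have hz : ℓ.appTop (fstP.appTop b * sndP.appTop (coord V) - 1) = 0 := by
      rw [map_sub, map_mul, map_one, ← CommRingCat.comp_apply, ← Scheme.Hom.comp_appTop, h1,
        ← CommRingCat.comp_apply, ← Scheme.Hom.comp_appTop, h2, hτX, hc, sub_self]
    rw [hz, Scheme.basicOpen_zero] at hm
    exact hm
  have hgm := hg _ hW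
  have hpt2 : sndP (ℓ pt) = τ pt := by
    rw [← h2]; rfl
  rw [hpt2] at hgm
  have h3 : τ pt ∉ (A1 V).basicOpen ((Scheme.ΓSpecIso _).inv g) := by
    rw [basicOpen_eq_of_affine]
    intro h
    exact h hgm
  apply h3
  have h4 : pt ∈ τ ⁻¹ᵁ (A1 V).basicOpen ((Scheme.ΓSpecIso _).inv g) := by
    rw [Scheme.preimage_basicOpen_top, hτg]
    exact hpt
  exact h4

lemma isUnit_of_basicOpen_eq_top {Y : Scheme.{u}} (f : Γ(Y, ⊤)) (h : Y.basicOpen f = ⊤) :
    IsUnit f := by
  apply Y.toRingedSpace.isUnit_of_isUnit_germ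
  intro x hx
  have hm : x ∈ Y.basicOpen f := by rw [h]; trivial
  exact (Y.mem_basicOpen f x hx).1 hm

include ht sq in
theorem exists_monic_of_isClosed_image [CompactSpace U]
    (hcl : IsClosed (sndP '' ((P.basicOpen (fstP.appTop b * sndP.appTop (coord V) - 1) :
      Set P))ᶜ)) :
    ∃ p : Polynomial Γ(V, ⊤), p.Monic ∧ Polynomial.eval₂ fU.appTop.hom b p = 0 := by
  classical
  rcases subsingleton_or_nontrivial Γ(V, ⊤) with hsub | hnt
  · refine ⟨1, Polynomial.monic_one, ?_⟩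
    have h10 : (1 : Γ(U, ⊤)) = 0 := by
      have h10 : (1 : Γ(V, ⊤)) = 0 := Subsingleton.elim _ _
      have := congrArg fU.appTop.hom h10
      rwa [map_one, map_zero] at this
    rw [← mul_one (Polynomial.eval₂ _ _ _), h10, mul_zero]
  let C : Set (PrimeSpectrum (Polynomial Γ(V, ⊤))) :=
    sndP '' ((P.basicOpen (fstP.appTop b * sndP.appTop (coord V) - 1) : Set P))ᶜ
  have hclC : IsClosed C := hcl
  let J : Ideal (Polynomial Γ(V, ⊤)) := PrimeSpectrum.vanishingIdeal C
  have hCJ : PrimeSpectrum.zeroLocus (J : Set (Polynomial Γ(V, ⊤))) = C := by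
    rw [PrimeSpectrum.zeroLocus_vanishingIdeal_eq_closure, hclC.closure_eq]
  have hCX : ∀ q ∈ C, (Polynomial.X : Polynomial Γ(V, ⊤)) ∉ q.asIdeal := by
    rintro _ ⟨p, hp, rfl⟩
    have h1 := mem_basicOpen_of_notMem_basicOpen_mul_sub_one _ _ p hp
    rw [← Scheme.preimage_basicOpen_top] at h1
    have h2 : sndP p ∈ (A1 V).basicOpen (coord V) := h1
    rw [basicOpen_eq_of_affine] at h2
    exact h2
  have htop : J ⊔ Ideal.span {(Polynomial.X : Polynomial Γ(V, ⊤))} = ⊤ := by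
    rw [← PrimeSpectrum.zeroLocus_empty_iff_eq_top, PrimeSpectrum.zeroLocus_sup, hCJ,
      PrimeSpectrum.zeroLocus_span]
    ext q
    simp only [Set.mem_inter_iff, Set.mem_empty_iff_false, iff_false, not_and]
    intro hq hq2
    exact hCX q hq (hq2 (Set.mem_singleton _))
  obtain ⟨g, hgJ, h', hh', hgh⟩ := Submodule.mem_sup.1
    (show (1 : Polynomial Γ(V, ⊤)) ∈ J ⊔ Ideal.span {(Polynomial.X : Polynomial Γ(V, ⊤))} by
      rw [htop]; trivial)
  obtain ⟨a, rfl⟩ := Ideal.mem_span_singleton'.1 hh'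
  have hg0 : g.coeff 0 = 1 := by
    have := congrArg (fun r => Polynomial.coeff r 0) hgh
    simpa using this
  have hgvan : ∀ p : P, p ∉ P.basicOpen (fstP.appTop b * sndP.appTop (coord V) - 1) →
      g ∈ (show PrimeSpectrum (Polynomial Γ(V, ⊤)) from sndP p).asIdeal := by
    intro p hp
    exact (PrimeSpectrum.mem_vanishingIdeal C g).1 hgJ _ ⟨p, hp, rfl⟩
  -- apply the key vanishing on the basic open of `b`
  let ι := (U.basicOpen b).ι
  have hbu : IsUnit (ι.appTop b) := by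
    apply isUnit_of_basicOpen_eq_top
    rw [← Scheme.preimage_basicOpen_top]
    exact Scheme.Opens.ι_preimage_self _
  obtain ⟨c, hc⟩ := hbu.exists_right_inv
  have key := basicOpen_eval₂_eq_bot fU b t ht fstP sndP sq g hgvan ι c hc
  letI : Invertible c := ⟨ι.appTop b, hc, by rw [mul_comm]; exact hc⟩
  have hrev := Polynomial.eval₂_reverse_mul_pow (ι.appTop.hom.comp fU.appTop.hom) c g
  have hinv : ⅟c = ι.appTop b := rfl
  rw [hinv] at hrev
  rw [← hrev, Scheme.basicOpen_mul] at key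
  have hcu : IsUnit (c ^ g.natDegree) := by
    apply IsUnit.pow
    exact ⟨⟨c, ι.appTop b, by rw [mul_comm]; exact hc, hc⟩, rfl⟩
  rw [Scheme.basicOpen_of_isUnit _ hcu, inf_top_eq] at key
  let G' : Γ(U, ⊤) := Polynomial.eval₂ fU.appTop.hom b g.reverse
  have hG' : ι.appTop G' =
      Polynomial.eval₂ (ι.appTop.hom.comp fU.appTop.hom) (ι.appTop b) g.reverse :=
    Polynomial.hom_eval₂ g.reverse fU.appTop.hom ι.appTop.hom b
  rw [← hG', ← Scheme.preimage_basicOpen_top] at key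
  have hbot : U.basicOpen (b * G') = ⊥ := by
    rw [Scheme.basicOpen_mul, eq_bot_iff]
    rintro x ⟨hxb, hxG⟩
    have hx' : x ∈ Set.range ι := by
      rw [Scheme.Opens.range_ι]; exact hxb
    obtain ⟨x', rfl⟩ := hx'
    have : x' ∈ ι ⁻¹ᵁ U.basicOpen G' := hxG
    rw [key] at this
    exact this
  obtain ⟨n, hn⟩ := (Scheme.isNilpotent_iff_basicOpen_eq_bot _).2 hbot
  refine ⟨(Polynomial.X * g.reverse) ^ n, ?_, ?_⟩
  · apply Polynomial.Monic.pow
    apply Polynomial.monic_X.mul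
    rw [Polynomial.Monic, Polynomial.reverse_leadingCoeff,
      Polynomial.trailingCoeff_eq_coeff_zero (by rw [hg0]; exact one_ne_zero), hg0]
  · rw [Polynomial.eval₂_pow, Polynomial.eval₂_mul, Polynomial.eval₂_X]
    exact hn

end

end Groth.Agent.H7.IntGlob
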