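import Groth.Agent.Lib.Helper3.AlgSpProp.GlobalSections
import Groth.Agent.Lib.Helper5.AlgSp.Points
import Groth.Agent.H4.GeomRed2
import Mathlib

/-!
# Global functions on an integral algebraic space form a domain (S10494)
-/

set_option autoImplicit false
universe u

open AlgebraicGeometry CategoryTheory Limits TopologicalSpace Opposite

namespace Groth.Agent.H7.NormIntSp

open _root_.AlgSp Groth.Agent.H5.AlgSp Groth.Agent.H3.AlgSpProp

variable {S : Scheme.{u}} {X : Sp S}

/-- The component of a global function on an étale chart. -/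
noncomputable def cmp (f : ↥(gsectEt (OEt X))) (E : EtOver X) : Γ(E.obj.left.left, ⊤) :=
  ((limit.π (OEt X).obj (op E)) f).down

theorem cmp_res (f : ↥(gsectEt (OEt X))) {E' E : EtOver X} (g : E' ⟶ E) :
    g.hom.left.left.appTop.hom (cmp f E) = cmp f E' := by
  have := limit.w (OEt X).obj g.op
  have h2 := congrArg (fun m => (m.hom f).down) this
  exact h2

theorem cmp_mul (f g : ↥(gsectEt (OEt X))) (E : EtOver X) : cmp (f * g) E = cmp f E * cmp g E := by
  unfold cmp
  rw [map_mul]
  rfl

theorem cmp_zero (E : EtOver X) : cmp (0 : ↥(gsectEt (OEt X))) E = 0 := by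
  unfold cmp
  rw [map_zero]
  rfl

theorem cmp_one (E : EtOver X) : cmp (1 : ↥(gsectEt (OEt X))) E = 1 := by
  unfold cmp
  rw [map_one]
  rfl

/-- The non-vanishing locus of a global function, in the space of points. -/
def DD (f : ↥(gsectEt (OEt X))) : Set (Points X) :=
  ⋃ E : EtOver X, Points.ofPt E.obj.hom '' (E.obj.left.left.basicOpen (cmp f E) : Set _)

theorem isOpen_DD (f : ↥(gsectEt (OEt X))) : IsOpen (DD f) :=
  isOpen_iUnion fun E => isOpenMap_ofPt_of_etale E.property _ (E.obj.left.left.basicOpen _).2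

theorem mem_DD_iff (f : ↥(gsectEt (OEt X))) (E : EtOver X) (e : ↥E.obj.left.left) :
    Points.ofPt E.obj.hom e ∈ DD f ↔ e ∈ E.obj.left.left.basicOpen (cmp f E) := by
  constructor
  · intro h
    obtain ⟨E₁, e₁, he₁, hx⟩ := Set.mem_iUnion.1 h
    -- common refinement
    have sq := E.property.1.isPullback E₁.obj.hom
    obtain ⟨v, hv1, hv2⟩ := exists_point_of_isPullback sq (Points.ofScheme _ e) e₁ (by
      rw [← Points.ofPt_eq_map_ofScheme]; exact hx.symm)
    have hv3 : (E.property.1.fst' E₁.obj.hom).left v = e := by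
      apply Groth.Agent.H4.GeomRed.eq_of_ofPt_yon_map_eq
      rw [Functor.relativelyRepresentable.map_fst']
      exact hv2
    have h1 := cmp_res f (EtOver.prodFst E₁ E)
    have h2 := cmp_res f (EtOver.prodSnd E₁ E)
    have hm1 : v ∈ (EtOver.prodObj E₁ E).obj.left.left.basicOpen (cmp f (EtOver.prodObj E₁ E)) := by
      rw [← h1]
      have := Scheme.preimage_basicOpen_top (EtOver.prodFst E₁ E).hom.left.left (cmp f E₁)
      rw [← this]
      change (E.property.1.snd E₁.obj.hom).left v ∈ E₁.obj.left.left.basicOpen (cmp f E₁)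
      rw [hv1]
      exact he₁
    rw [← h2] at hm1
    have := Scheme.preimage_basicOpen_top (EtOver.prodSnd E₁ E).hom.left.left (cmp f E)
    rw [← this] at hm1
    change (E.property.1.fst' E₁.obj.hom).left v ∈ E.obj.left.left.basicOpen (cmp f E) at hm1
    rw [hv3] at hm1
    exact hm1
  · intro h
    exact Set.mem_iUnion.2 ⟨E, e, h, rfl⟩


theorem DD_disjoint_of_mul_eq_zero (f g : ↥(gsectEt (OEt X))) (h : f * g = 0) :
    DD f ∩ DD g = ∅ := by
  ext x
  simp only [Set.mem_inter_iff, Set.mem_empty_iff_false, iff_false, not_and]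
  intro hf hg
  obtain ⟨E, e, he, rfl⟩ := Set.mem_iUnion.1 hf
  have he' := (mem_DD_iff g E e).1 hg
  have : e ∈ E.obj.left.left.basicOpen (cmp (f * g) E) := by
    rw [cmp_mul, Scheme.basicOpen_mul]
    exact ⟨he, he'⟩
  rw [h, cmp_zero, Scheme.basicOpen_zero] at this
  exact this

theorem eq_zero_of_DD_eq_empty (hXr : IsReducedSp X) (f : ↥(gsectEt (OEt X))) (h : DD f = ∅) :
    f = 0 := by
  refine (isReduced_gsectEt hXr).2 f fun E => ?_
  rw [eq_bot_iff]
  intro e he
  have : Points.ofPt E.obj.hom e ∈ DD f := (mem_DD_iff f E e).2 he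
  rw [h] at this
  exact this.elim

theorem S10494_main {S : Scheme.{u}} (X : AlgSp.Space S)
    (hX : AlgSp.IsIntegralSp X.obj) : IsDomain ↥(AlgSp.gsectEt (AlgSp.OEt X.obj)) := by
  obtain ⟨hXr, hd, hirr⟩ := hX
  haveI := hirr
  haveI : Nontrivial ↥(AlgSp.gsectEt (AlgSp.OEt X.obj)) := by
    refine ⟨⟨1, 0, fun h10 => ?_⟩⟩
    obtain ⟨x⟩ := (inferInstance : Nonempty (Points X.obj))
    obtain ⟨V, p, hpe, hps⟩ := X.property.atlas
    obtain ⟨v, rfl⟩ := ofPt_surjective_of_repWith hps x
    have h1 : v ∈ (EtOver.mk p hpe).obj.left.left.basicOpen (cmp (1 : ↥(gsectEt (OEt X.obj))) (EtOver.mk p hpe)) := by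
      rw [cmp_one, Scheme.basicOpen_of_isUnit _ isUnit_one]
      trivial
    rw [h10, cmp_zero, Scheme.basicOpen_zero] at h1
    exact h1
  haveI : NoZeroDivisors ↥(AlgSp.gsectEt (AlgSp.OEt X.obj)) := by
    refine ⟨fun {f g} hfg => ?_⟩
    have hdis := DD_disjoint_of_mul_eq_zero f g hfg
    by_contra hne
    push Not at hne
    have hf : (DD f).Nonempty := by
      rw [Set.nonempty_iff_ne_empty]
      exact fun h => hne.1 (eq_zero_of_DD_eq_empty hXr f h)
    have hg : (DD g).Nonempty := by
      rw [Set.nonempty_iff_ne_empty]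
      exact fun h => hne.2 (eq_zero_of_DD_eq_empty hXr g h)
    have := nonempty_preirreducible_inter (isOpen_DD f) (isOpen_DD g) hf hg
    rw [hdis] at this
    exact Set.not_nonempty_empty this
  exact NoZeroDivisors.to_isDomain _

end Groth.Agent.H7.NormIntSp
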