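import Groth.Agent.Lib.Helper7.NormIntSp1
import Groth.Agent.Lib.Helper7.NormIntSp2
import Mathlib

set_option autoImplicit false
universe u

open AlgebraicGeometry CategoryTheory Limits TopologicalSpace Opposite

namespace Groth.Agent.H7.NormIntSp

open _root_.AlgSp Groth.Agent.H5.AlgSp Groth.Agent.H3.AlgSpProp

variable {S : Scheme.{u}} {X : Sp S}

theorem isSheaf_forget_OEt :
    Presieve.IsSheaf (etTop X) ((OEt X).obj ⋙ forget CommRingCat.{u + 1}) :=
  (isSheaf_iff_isSheaf_of_type _ _).1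
    ((Presheaf.isSheaf_iff_isSheaf_forget (etTop X) (OEt X).obj
      (forget CommRingCat.{u + 1})).1 (OEt X).property)

/-- the ring hom "component at `E`". -/
noncomputable def cmpHom (E : EtOver X) : ↥(gsectEt (OEt X)) →+* Γ(E.obj.left.left, ⊤) :=
  (ULift.ringEquiv : ULift.{u + 1} Γ(E.obj.left.left, ⊤) ≃+* _).toRingHom.comp
    (limit.π (OEt X).obj (op E)).hom

theorem cmpHom_apply (E : EtOver X) (f : ↥(gsectEt (OEt X))) : cmpHom E f = cmp f E := rfl

attribute [local instance] preservesLimitsOfShape_etOver_forget_commRingCat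

/-- A compatible family of functions on all étale charts is a global function. -/
theorem exists_gsect_of_compatible (b : ∀ E : EtOver X, Γ(E.obj.left.left, ⊤))
    (hb : ∀ {E' E : EtOver X} (h : E' ⟶ E), h.hom.left.left.appTop.hom (b E) = b E') :
    ∃ β : ↥(gsectEt (OEt X)), ∀ E, cmp β E = b E := by
  have hl := isLimitOfPreserves (forget CommRingCat.{u + 1}) (limit.isLimit (OEt X).obj)
  obtain ⟨β, hβ, -⟩ := (Types.isLimit_iff _).1 ⟨hl⟩
    (fun j => (ULift.up (b j.unop) : ULift.{u + 1} Γ(j.unop.obj.left.left, ⊤))) (by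
      intro j j' φ
      change ULift.up (φ.unop.hom.left.left.appTop.hom (b j.unop)) = _
      rw [hb φ.unop])
  refine ⟨β, fun E => ?_⟩
  have := hβ (op E)
  exact congrArg ULift.down this


/-- Divisibility by a function that is a nonzerodivisor on every étale chart is étale local. -/
theorem exists_mul_eq_chart (f g : ↥(gsectEt (OEt X)))
    (hnzd : ∀ (Y : EtOver X) (t : Γ(Y.obj.left.left, ⊤)), t * cmp g Y = 0 → t = 0)
    (E : EtOver X)
    (hloc : ∀ e : ↥E.obj.left.left, ∃ (Y : EtOver X) (h : Y ⟶ E),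
        e ∈ Set.range h.hom.left.left ∧ ∃ b, b * cmp g Y = cmp f Y) :
    ∃ b, b * cmp g E = cmp f E := by
  -- the sieve of charts over `E` on which `g ∣ f`
  let Sv : Sieve E :=
    { arrows := fun Y _ => ∃ b, b * cmp g Y = cmp f Y
      downward_closed := by
        rintro Y Z h ⟨b, hb⟩ k
        refine ⟨k.hom.left.left.appTop.hom b, ?_⟩
        rw [← cmp_res g k, ← cmp_res f k, ← map_mul, hb] }
  have hSv : Sv ∈ etTop X E := by
    choose Y h hrange hdiv using hloc
    refine (etTop X).superset_covering ?_ (ofArrows_mem_etTop Y h fun e => ⟨e, hrange e⟩)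
    rintro Z k ⟨W, a, c, ⟨e⟩, rfl⟩
    exact Sv.downward_closed (hdiv e) a
  have hsh := isSheaf_forget_OEt (X := X) Sv hSv
  -- uniqueness of quotients
  have huniq : ∀ (Y : EtOver X) (b b' : Γ(Y.obj.left.left, ⊤)),
      b * cmp g Y = cmp f Y → b' * cmp g Y = cmp f Y → b = b' := by
    intro Y b b' hb hb'
    have : (b - b') * cmp g Y = 0 := by rw [sub_mul, hb, hb', sub_self]
    exact sub_eq_zero.1 (hnzd Y _ this)
  let x : Presieve.FamilyOfElements ((OEt X).obj ⋙ forget CommRingCat.{u + 1}) Sv.arrows :=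
    fun Y k hk => (ULift.up hk.choose : ULift.{u + 1} Γ(Y.obj.left.left, ⊤))
  have hx : x.Compatible := by
    intro Y₁ Y₂ Z g₁ g₂ k₁ k₂ hk₁ hk₂ _
    change ULift.up (g₁.hom.left.left.appTop.hom hk₁.choose) =
      ULift.up (g₂.hom.left.left.appTop.hom hk₂.choose)
    congr 1
    apply huniq Z
    · rw [← cmp_res g g₁, ← cmp_res f g₁, ← map_mul, hk₁.choose_spec]
    · rw [← cmp_res g g₂, ← cmp_res f g₂, ← map_mul, hk₂.choose_spec]
  obtain ⟨β, hβ⟩ : ∃ β : ULift.{u + 1} Γ(E.obj.left.left, ⊤), x.IsAmalgamation β :=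
    ⟨hsh.amalgamate x hx, hsh.isAmalgamation hx⟩
  refine ⟨β.down, ?_⟩
  have hsep := hsh.isSeparatedFor
  have key := hsep.ext (t₁ := (ULift.up (β.down * cmp g E) : ULift.{u + 1} Γ(E.obj.left.left, ⊤)))
    (t₂ := (ULift.up (cmp f E) : ULift.{u + 1} Γ(E.obj.left.left, ⊤))) (by
    intro Y k hk
    change ULift.up (k.hom.left.left.appTop.hom (β.down * cmp g E)) =
      ULift.up (k.hom.left.left.appTop.hom (cmp f E))
    congr 1
    rw [map_mul, cmp_res, cmp_res]
    have h1 := hβ k hk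
    have h2 : k.hom.left.left.appTop.hom β.down = hk.choose := congrArg ULift.down h1
    rw [h2]
    exact hk.choose_spec)
  exact congrArg ULift.down key

theorem exists_mul_eq_of_local (f g : ↥(gsectEt (OEt X)))
    (hnzd : ∀ (Y : EtOver X) (t : Γ(Y.obj.left.left, ⊤)), t * cmp g Y = 0 → t = 0)
    (hloc : ∀ (E : EtOver X) (e : ↥E.obj.left.left), ∃ (Y : EtOver X) (h : Y ⟶ E),
        e ∈ Set.range h.hom.left.left ∧ ∃ b, b * cmp g Y = cmp f Y) :
    ∃ b : ↥(gsectEt (OEt X)), b * g = f := by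
  have hE := fun E => exists_mul_eq_chart f g hnzd E (hloc E)
  choose b hb using hE
  obtain ⟨β, hβ⟩ := exists_gsect_of_compatible b (by
    intro E' E h
    have h1 : h.hom.left.left.appTop.hom (b E) * cmp g E' = cmp f E' := by
      rw [← cmp_res g h, ← cmp_res f h, ← map_mul, hb]
    have : (h.hom.left.left.appTop.hom (b E) - b E') * cmp g E' = 0 := by
      rw [sub_mul, h1, hb, sub_self]
    exact sub_eq_zero.1 (hnzd E' _ this))
  refine ⟨β, gsectEt_ext _ _ fun E => ?_⟩
  have : cmp (β * g) E = cmp f E := by rw [cmp_mul, hβ, hb]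
  exact ULift.ext _ _ this


/-- On a reduced space with irreducible space of points a nonzero global function is a
nonzerodivisor on every étale chart. -/
theorem nzd_of_ne_zero (hXr : IsReducedSp X) [IrreducibleSpace (Points X)]
    (g : ↥(gsectEt (OEt X))) (hg : g ≠ 0) (Y : EtOver X) (t : Γ(Y.obj.left.left, ⊤))
    (ht : t * cmp g Y = 0) : t = 0 := by
  haveI : IsReduced Y.obj.left.left :=
    Groth.Agent.H3.AlgSpCov.isReduced_of_etale_of_isReducedSp hXr Y.obj.hom Y.property
  by_contra hne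
  have h1 : Y.obj.left.left.basicOpen t ≠ ⊥ := fun h => hne ((basicOpen_eq_bot_iff t).1 h)
  have h1' : ((Y.obj.left.left.basicOpen t : Set ↥Y.obj.left.left)).Nonempty := by
    rw [Set.nonempty_iff_ne_empty]
    intro h
    apply h1
    ext y
    simp only [Opens.coe_bot]
    rw [h]
  have hO : IsOpen (Points.ofPt Y.obj.hom '' (Y.obj.left.left.basicOpen t : Set _)) :=
    isOpenMap_ofPt_of_etale Y.property _ (Y.obj.left.left.basicOpen t).2
  have hD : (DD g).Nonempty := by
    rw [Set.nonempty_iff_ne_empty]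
    exact fun h => hg (eq_zero_of_DD_eq_empty hXr g h)
  obtain ⟨x, ⟨y, hy, rfl⟩, hx⟩ := nonempty_preirreducible_inter hO (isOpen_DD g) (h1'.image _) hD
  have hy' := (mem_DD_iff g Y y).1 hx
  have : y ∈ Y.obj.left.left.basicOpen (t * cmp g Y) := by
    rw [Scheme.basicOpen_mul]
    exact ⟨hy, hy'⟩
  rw [ht, Scheme.basicOpen_zero] at this
  exact this

open Polynomial in
/-- In an integrally closed domain: a root of a homogenized monic polynomial gives divisibility. -/
theorem exists_mul_eq_of_scaleRoots_eval_eq_zero {A : Type*} [CommRing A] [IsDomain A]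
    [IsIntegrallyClosed A] {q : A[X]} (hq : q.Monic) {r s : A} (hs : s ≠ 0)
    (h : (q.scaleRoots s).eval r = 0) : ∃ b, b * s = r := by
  have hsK : algebraMap A (FractionRing A) s ≠ 0 := by
    rwa [Ne, FaithfulSMul.algebraMap_eq_zero_iff]
  have h1 := scaleRoots_eval₂_mul (p := q) (algebraMap A (FractionRing A))
    (algebraMap A (FractionRing A) r / algebraMap A (FractionRing A) s) s
  rw [mul_div_cancel₀ _ hsK, eval₂_at_apply, h, map_zero] at h1
  have h2 : eval₂ (algebraMap A (FractionRing A))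
      (algebraMap A (FractionRing A) r / algebraMap A (FractionRing A) s) q = 0 := by
    rcases mul_eq_zero.1 h1.symm with h3 | h3
    · exact absurd (eq_zero_of_pow_eq_zero h3) hsK
    · exact h3
  have hint : IsIntegral A
      (algebraMap A (FractionRing A) r / algebraMap A (FractionRing A) s) := ⟨q, hq, h2⟩
  obtain ⟨b, hb⟩ := IsIntegrallyClosed.algebraMap_eq_of_integral hint
  refine ⟨b, ?_⟩
  apply FaithfulSMul.algebraMap_injective A (FractionRing A)
  rw [map_mul, hb, div_mul_cancel₀ _ hsK]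


theorem S10495_main {S : Scheme.{u}} (X : AlgSp.Space S)
    (hXi : AlgSp.IsIntegralSp X.obj)
    (hXn : AlgSp.EtaleLocally (fun U => ∀ u : ↥U, IsDomain ↥(U.presheaf.stalk u) ∧
      IsIntegrallyClosed ↥(U.presheaf.stalk u)) X.obj) :
    IsDomain ↥(AlgSp.gsectEt (AlgSp.OEt X.obj)) ∧
      IsIntegrallyClosed ↥(AlgSp.gsectEt (AlgSp.OEt X.obj)) := by
  haveI hdom := S10494_main X hXi
  refine ⟨hdom, ?_⟩
  obtain ⟨hXr, hd, hirr⟩ := id hXi
  haveI := hirr
  rw [isIntegrallyClosed_iff (FractionRing ↥(AlgSp.gsectEt (AlgSp.OEt X.obj)))]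
  intro x hx
  obtain ⟨f, g, hg, rfl⟩ := IsFractionRing.div_surjective (A := ↥(AlgSp.gsectEt (AlgSp.OEt X.obj))) x
  have hg0 : g ≠ 0 := nonZeroDivisors.ne_zero hg
  obtain ⟨p, hp, hpx⟩ := hx
  have h1 := Polynomial.scaleRoots_eval₂_eq_zero_of_eval₂_div_eq_zero
    (FaithfulSMul.algebraMap_injective _ _) hpx hg
  rw [Polynomial.eval₂_at_apply] at h1
  have h2 : (p.scaleRoots g).eval f = 0 := (FaithfulSMul.algebraMap_eq_zero_iff _ _).1 h1
  have hloc : ∀ (E : EtOver X.obj) (e : ↥E.obj.left.left), ∃ (Y : EtOver X.obj) (h : Y ⟶ E),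
      e ∈ Set.range h.hom.left.left ∧ ∃ b, b * cmp g Y = cmp f Y := by
    intro E e
    obtain ⟨U, a, hae, hUaff, hUint, hUic, u, hu⟩ :=
      S10492_main X hXi hXn (Points.ofPt E.obj.hom e)
    obtain ⟨EU, hEU⟩ : ∃ EU : EtOver X.obj, EU = EtOver.mk a hae := ⟨_, rfl⟩
    have sq := EU.property.1.isPullback E.obj.hom
    obtain ⟨v, hv1, hv2⟩ := exists_point_of_isPullback sq (Points.ofScheme _ (by rw [hEU]; exact u)) e (by
      subst hEU
      rw [← Points.ofPt_eq_map_ofScheme]; exact hu)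
    refine ⟨EtOver.prodObj E EU, EtOver.prodFst E EU, ⟨v, hv1⟩, ?_⟩
    haveI : IsDomain Γ(EU.obj.left.left, ⊤) := by
      subst hEU
      haveI : IsIntegral U.left := hUint
      change IsDomain Γ(U.left, ⊤)
      infer_instance
    haveI : IsIntegrallyClosed Γ(EU.obj.left.left, ⊤) := by
      subst hEU
      exact hUic
    have hgU : cmp g EU ≠ 0 := by
      intro h0
      have := nzd_of_ne_zero hXr g hg0 EU 1 (by rw [h0, mul_zero])
      exact one_ne_zero this
    have h3 : ((p.map (cmpHom EU)).scaleRoots (cmp g EU)).eval (cmp f EU) = 0 := by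
      rw [← cmpHom_apply, ← cmpHom_apply, ← Polynomial.map_scaleRoots, Polynomial.eval_map_apply,
        h2, map_zero]
      rw [hp.leadingCoeff, map_one]
      exact one_ne_zero
    obtain ⟨bU, hbU⟩ := exists_mul_eq_of_scaleRoots_eval_eq_zero (hp.map _) hgU h3
    refine ⟨(EtOver.prodSnd E EU).hom.left.left.appTop.hom bU, ?_⟩
    rw [← cmp_res g (EtOver.prodSnd E EU), ← cmp_res f (EtOver.prodSnd E EU), ← map_mul, hbU]
  obtain ⟨b, hb⟩ := exists_mul_eq_of_local f g (nzd_of_ne_zero hXr g hg0) hloc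
  refine ⟨b, ?_⟩
  rw [← hb, map_mul, mul_div_cancel_right₀]
  rwa [Ne, FaithfulSMul.algebraMap_eq_zero_iff]

end Groth.Agent.H7.NormIntSp
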