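import Groth.Agent.Lib.Helper7.IntGlobA
import Groth.Agent.Lib.Helper7.NormIntSp3
import Groth.Agent.Lib.Helper5.AlgSp.UnivClosed
import Groth.Agent.Lib.Helper5.AlgSp.QCompact
import Groth.Agent.Lib.Helper5.AlgSp.PointsTop
import Mathlib

/-!
# Integrality of global functions on a quasi-compact universally closed algebraic space over an
affine scheme
-/

set_option autoImplicit false

universe u

open AlgebraicGeometry CategoryTheory Limits TopologicalSpace Opposite Polynomial

namespace Groth.Agent.H7.IntGlob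

open _root_.AlgSp Groth.Agent.H5.AlgSp Groth.Agent.H3.AlgSpProp Groth.Agent.H7.NormIntSp

variable {S : Scheme.{u}} {X : Sp S} {V : Over S}

/-- the structure map of a chart to `V` -/
noncomputable def toV (f : X ⟶ (yon S).obj V) (E : EtOver X) : E.obj.left ⟶ V :=
  (yon S).preimage (E.obj.hom ≫ f)

lemma toV_res (f : X ⟶ (yon S).obj V) {E' E : EtOver X} (k : E' ⟶ E) :
    k.hom.left ≫ toV f E = toV f E' := by
  apply (yon S).map_injective
  rw [Functor.map_comp, toV, toV, Functor.map_preimage, Functor.map_preimage, ← Category.assoc,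
    EtOver.w k]

/-- A polynomial relation on a surjective chart holds on every chart. -/
theorem eval₂_eq_zero_of_chart (f : X ⟶ (yon S).obj V) (s : ↥(gsectEt (OEt X))) (E₀ : EtOver X)
    (hsurj : RepWith @Surjective E₀.obj.hom) (p : Polynomial Γ(V.left, ⊤))
    (h0 : Polynomial.eval₂ (toV f E₀).left.appTop.hom (cmp s E₀) p = 0) (E : EtOver X) :
    Polynomial.eval₂ (toV f E).left.appTop.hom (cmp s E) p = 0 := by
  have hcov : Sieve.ofArrows (fun _ : Unit => EtOver.prodObj E E₀)
      (fun _ => EtOver.prodFst E E₀) ∈ etTop X E := by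
    apply ofArrows_mem_etTop
    intro x
    have hs : Surjective (EtOver.prodFst E E₀).hom.left.left := hsurj.property_snd E.obj.hom
    obtain ⟨z, hz⟩ := hs.surj x
    exact ⟨(), z, hz⟩
  have hsh := isSheaf_forget_OEt (X := X) _ hcov
  have hsep := hsh.isSeparatedFor
  have key := hsep.ext
    (t₁ := (ULift.up (Polynomial.eval₂ (toV f E).left.appTop.hom (cmp s E) p) :
      ULift.{u + 1} Γ(E.obj.left.left, ⊤)))
    (t₂ := (ULift.up 0 : ULift.{u + 1} Γ(E.obj.left.left, ⊤))) (by
    rintro Z k ⟨W, a, c, ⟨⟨⟩⟩, rfl⟩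
    change ULift.up ((a ≫ EtOver.prodFst E E₀).hom.left.left.appTop.hom
        (Polynomial.eval₂ (toV f E).left.appTop.hom (cmp s E) p)) =
      ULift.up ((a ≫ EtOver.prodFst E E₀).hom.left.left.appTop.hom 0)
    congr 1
    rw [map_zero, Polynomial.hom_eval₂, cmp_res]
    have h1 : (a ≫ EtOver.prodFst E E₀).hom.left.left.appTop.hom.comp (toV f E).left.appTop.hom =
        (toV f Z).left.appTop.hom := by
      rw [← toV_res f (a ≫ EtOver.prodFst E E₀)]
      rfl
    rw [h1]
    have h2 := congrArg (a ≫ EtOver.prodSnd E E₀).hom.left.left.appTop.hom h0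
    rw [map_zero, Polynomial.hom_eval₂, cmp_res] at h2
    have h3 : (a ≫ EtOver.prodSnd E E₀).hom.left.left.appTop.hom.comp (toV f E₀).left.appTop.hom =
        (toV f Z).left.appTop.hom := by
      rw [← toV_res f (a ≫ EtOver.prodSnd E E₀)]
      rfl
    rw [h3] at h2
    exact h2)
  exact congrArg ULift.down key

/-- Functions pulled back along two maps to a chart that agree over `X` agree. -/
lemma appTop_cmp_eq (s : ↥(gsectEt (OEt X))) (E₀ : EtOver X) {R : Over S}
    (α β : R ⟶ E₀.obj.left) (h : (yon S).map α ≫ E₀.obj.hom = (yon S).map β ≫ E₀.obj.hom) :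
    α.left.appTop.hom (cmp s E₀) = β.left.appTop.hom (cmp s E₀) := by
  let ℓ := E₀.property.1.lift' α β h
  have h1 : ℓ ≫ E₀.property.1.fst' E₀.obj.hom = α :=
    Functor.relativelyRepresentable.lift'_fst _ _ _ _
  have h2 : ℓ ≫ E₀.property.1.snd E₀.obj.hom = β :=
    Functor.relativelyRepresentable.lift'_snd _ _ _ _
  have e1 := cmp_res s (EtOver.prodSnd E₀ E₀)
  have e2 := cmp_res s (EtOver.prodFst E₀ E₀)
  have e3 : (E₀.property.1.fst' E₀.obj.hom).left.appTop.hom (cmp s E₀) =
      (E₀.property.1.snd E₀.obj.hom).left.appTop.hom (cmp s E₀) := e1.trans e2.symm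
  have hα : α.left.appTop.hom (cmp s E₀) =
      ℓ.left.appTop.hom ((E₀.property.1.fst' E₀.obj.hom).left.appTop.hom (cmp s E₀)) := by
    rw [← h1]; rfl
  have hβ : β.left.appTop.hom (cmp s E₀) =
      ℓ.left.appTop.hom ((E₀.property.1.snd E₀.obj.hom).left.appTop.hom (cmp s E₀)) := by
    rw [← h2]; rfl
  rw [hα, hβ, e3]

theorem S10331_main {S : Scheme.{u}} (V : Over S) [IsAffine V.left] (X : AlgSp.Space S)
    (f : X ⟶ (AlgSp.ofScheme S).obj V) (hqc : IsQuasiCompactMor f.hom)
    (huc : IsUnivClosedMor f.hom) (s : ↥(gsectEt (OEt X.obj))) :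
    ∃ p : Polynomial Γ(V.left, ⊤), p.Monic ∧ ∀ E : EtOver X.obj,
      Polynomial.eval₂ ((yon S).preimage (E.obj.hom ≫ f.hom)).left.appTop.hom
        ((limit.π (OEt X.obj).obj (op E)) s).down p = 0 := by
  let f' : X.obj ⟶ (yon S).obj V := f.hom
  have hqc' : IsQuasiCompactMor f' := hqc
  have huc' : IsUnivClosedMor f' := huc
  -- quasi-compactness of `X`
  have hXqc : IsQuasiCompactSp X.obj := by
    have hV : IsQuasiCompactSp ((yon S).obj V) := (isQuasiCompactSp_yon_iff V).2 inferInstance
    haveI : IsIso (𝟙 ((yon S).obj V)) := IsIso.id _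
    haveI : IsIso (𝟙 X.obj) := IsIso.id _
    exact hqc' (IsAlgSpace.yon_obj V) hV (𝟙 _) (𝟙 _) f' (IsPullback.of_horiz_isIso ⟨by rw [Category.id_comp, Category.comp_id]⟩)
  obtain ⟨U, a, hae, has, hUc⟩ := hXqc
  haveI : CompactSpace ↥U.left := hUc
  let E₀ : EtOver X.obj := EtOver.mk a hae
  -- the affine line over `V`
  obtain ⟨t, ht⟩ := exists_hom_of_appTop' (Y := A1 V.left) (T := V.left)
    (CommRingCat.ofHom Polynomial.C ≫ (Scheme.ΓSpecIso _).inv)
  let T : Over S := Over.mk (t ≫ V.hom)
  let tO : T ⟶ V := Over.homMk t rfl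
  let fU : U ⟶ V := toV f' E₀
  have hafU : a ≫ f' = (yon S).map fU := ((yon S).map_preimage _).symm
  let fstP := pullback.fst fU tO
  let sndP := pullback.snd fU tO
  have sqP : IsPullback fstP sndP fU tO := IsPullback.of_hasPullback _ _
  have sqPs := sqP.map (Over.forget S)
  have sqPy := sqP.map (yon S)
  -- the base change of `X`
  let fstZ := pullback.fst f' ((yon S).map tO)
  let sndZ := pullback.snd f' ((yon S).map tO)
  have sqZ : IsPullback fstZ sndZ f' ((yon S).map tO) := IsPullback.of_hasPullback _ _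
  have hclosed : IsClosedMap (Points.map sndZ) := huc' (IsAlgSpace.yon_obj T) _ _ _ sqZ
  -- its chart
  let c : (yon S).obj (pullback fU tO) ⟶ pullback f' ((yon S).map tO) :=
    pullback.lift ((yon S).map fstP ≫ a) ((yon S).map sndP) (by
      rw [Category.assoc, hafU, ← Functor.map_comp, ← Functor.map_comp, pullback.condition])
  have hc1 : c ≫ fstZ = (yon S).map fstP ≫ a := pullback.lift_fst _ _ _
  have hc2 : c ≫ sndZ = (yon S).map sndP := pullback.lift_snd _ _ _
  have sqc : IsPullback c ((yon S).map fstP) fstZ a := by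
    refine IsPullback.of_right ?_ hc1 sqZ.flip
    rw [hc2, hafU]
    exact sqPy.flip
  have hce : RepWith @Etale c := MorphismProperty.of_isPullback (P := RepWith @Etale) sqc.flip hae
  have hcs : RepWith @Surjective c :=
    MorphismProperty.of_isPullback (P := RepWith @Surjective) sqc.flip has
  have hq : Topology.IsQuotientMap (Points.ofPt c) := isQuotientMap_ofPt hce hcs
  -- the closed saturated set
  let b : Γ(U.left, ⊤) := cmp s E₀
  let F : Γ((pullback fU tO).left, ⊤) :=
    fstP.left.appTop b * sndP.left.appTop (coord V.left) - 1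
  let W : Set ↥(pullback fU tO).left := ((pullback fU tO).left.basicOpen F : Set _)ᶜ
  have hWc : IsClosed W := ((pullback fU tO).left.basicOpen F).2.isClosed_compl
  -- saturation
  have hsat : Points.ofPt c ⁻¹' (Points.ofPt c '' W) = W := by
    apply subset_antisymm _ (Set.subset_preimage_image _ _)
    rintro p2 ⟨p1, hp1, h12⟩
    have sqR := hce.rep.isPullback c
    obtain ⟨r₁, hr₁⟩ := (yon S).map_surjective (hce.rep.fst c)
    rw [← hr₁] at sqR
    obtain ⟨r, hr1, hr2⟩ := (ofPt_eq_ofPt_iff sqR p1 p2).1 h12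
    -- the two pullbacks of `F` agree
    have hw : (yon S).map r₁ ≫ c = (yon S).map (hce.rep.snd c) ≫ c := sqR.w
    have hsnd : r₁ ≫ sndP = hce.rep.snd c ≫ sndP := by
      apply (yon S).map_injective
      rw [Functor.map_comp, Functor.map_comp, ← hc2, ← Category.assoc, hw, Category.assoc]
    have hfst : (yon S).map (r₁ ≫ fstP) ≫ E₀.obj.hom =
        (yon S).map (hce.rep.snd c ≫ fstP) ≫ E₀.obj.hom := by
      change (yon S).map (r₁ ≫ fstP) ≫ a = (yon S).map (hce.rep.snd c ≫ fstP) ≫ a
      rw [Functor.map_comp, Functor.map_comp, Category.assoc, Category.assoc, ← hc1,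
        ← Category.assoc, hw, Category.assoc]
    have hb := appTop_cmp_eq s E₀ (r₁ ≫ fstP) (hce.rep.snd c ≫ fstP) hfst
    have hF : r₁.left.appTop.hom F = (hce.rep.snd c).left.appTop.hom F := by
      have e1 : ∀ (ρ : hce.rep.pullback c ⟶ pullback fU tO), ρ.left.appTop.hom F =
          (ρ ≫ fstP).left.appTop.hom b * (ρ ≫ sndP).left.appTop.hom (coord V.left) - 1 := by
        intro ρ
        simp only [F, map_sub, map_mul, map_one, Over.comp_left, Scheme.Hom.comp_appTop,
          CommRingCat.hom_comp, RingHom.comp_apply]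
      rw [e1, e1, hsnd]
      change _ * _ - 1 = _ * _ - 1
      rw [hb]
    change p2 ∉ (pullback fU tO).left.basicOpen F
    intro hp2
    apply hp1
    change p1 ∈ (pullback fU tO).left.basicOpen F
    rw [← hr1]
    rw [← hr2] at hp2
    have h2' : r ∈ (hce.rep.snd c).left ⁻¹ᵁ (pullback fU tO).left.basicOpen F := hp2
    rw [Scheme.preimage_basicOpen_top] at h2'
    have h1' : r ∈ r₁.left ⁻¹ᵁ (pullback fU tO).left.basicOpen F := by
      rw [Scheme.preimage_basicOpen_top]
      have : r₁.left.appTop F = (hce.rep.snd c).left.appTop F := hF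
      rw [this]
      exact h2'
    exact h1'
  have hW' : IsClosed (Points.ofPt c '' W) := by
    rw [← hq.isClosed_preimage, hsat]
    exact hWc
  have himg : IsClosed (Points.map sndZ '' (Points.ofPt c '' W)) := hclosed _ hW'
  -- transport to the scheme `T`
  have himg2 : IsClosed (sndP.left '' W) := by
    have e : Points.map sndZ '' (Points.ofPt c '' W) =
        (Points.schemeHomeo T) '' (sndP.left '' W) := by
      rw [Set.image_image, Set.image_image]
      apply Set.image_congr
      intro p _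
      rw [Points.map_ofPt, hc2]
      apply (Points.schemeHomeo T).symm.injective
      rw [Homeomorph.symm_apply_apply]
      exact Points.toScheme_ofPt sndP p
    rw [e] at himg
    exact (Points.schemeHomeo T).isClosed_image.1 himg
  obtain ⟨p, hpm, hp0⟩ := exists_monic_of_isClosed_image (U := U.left) (V := V.left)
    (P := (pullback fU tO).left) fU.left b t ht fstP.left sndP.left sqPs himg2
  refine ⟨p, hpm, fun E => ?_⟩
  exact eval₂_eq_zero_of_chart f' s E₀ has p hp0 E

end Groth.Agent.H7.IntGlob
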