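import Mathlib
namespace Groth.Agent.H7.JInv
universe u
theorem main (k : Type u) [Field k] (h2 : (2 : k) ≠ 0) (h3 : (3 : k) ≠ 0)
    (s t : k) (hs0 : s ≠ 0) (hs1 : s ≠ 1) (ht0 : t ≠ 0) (ht1 : t ≠ 1) :
    256 * (s ^ 2 - s + 1) ^ 3 / (s ^ 2 * (s - 1) ^ 2) = 256 * (t ^ 2 - t + 1) ^ 3 / (t ^ 2 * (t - 1) ^ 2) ↔
      (t = s ∨ t = 1 - s ∨ t = 1 / s ∨ t = (s - 1) / s ∨ t = s / (s - 1) ∨ t = 1 / (1 - s)) := by
  have hs1' : s - 1 ≠ 0 := sub_ne_zero.mpr hs1
  have ht1' : t - 1 ≠ 0 := sub_ne_zero.mpr ht1
  have hs1'' : 1 - s ≠ 0 := sub_ne_zero.mpr (Ne.symm hs1)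
  have hds : s ^ 2 * (s - 1) ^ 2 ≠ 0 := mul_ne_zero (pow_ne_zero _ hs0) (pow_ne_zero _ hs1')
  have hdt : t ^ 2 * (t - 1) ^ 2 ≠ 0 := mul_ne_zero (pow_ne_zero _ ht0) (pow_ne_zero _ ht1')
  have h256 : (256 : k) ≠ 0 := by
    have : (256 : k) = 2 ^ 8 := by norm_num
    rw [this]; exact pow_ne_zero _ h2
  rw [div_eq_div_iff hds hdt]
  have key : 256 * (s ^ 2 - s + 1) ^ 3 * (t ^ 2 * (t - 1) ^ 2) -
      256 * (t ^ 2 - t + 1) ^ 3 * (s ^ 2 * (s - 1) ^ 2) =
      256 * ((t - s) * (t + s - 1) * (s * t - 1) * (s * t - s + 1) * ((s - 1) * t - s) *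
        ((1 - s) * t - 1)) := by ring
  constructor
  · intro h
    have h0 : (t - s) * (t + s - 1) * (s * t - 1) * (s * t - s + 1) * ((s - 1) * t - s) *
        ((1 - s) * t - 1) = 0 := by
      have := sub_eq_zero.mpr h
      rw [key] at this
      exact (mul_eq_zero.mp this).resolve_left h256
    rcases mul_eq_zero.mp h0 with h0 | h0
    · rcases mul_eq_zero.mp h0 with h0 | h0
      · rcases mul_eq_zero.mp h0 with h0 | h0
        · rcases mul_eq_zero.mp h0 with h0 | h0
          · rcases mul_eq_zero.mp h0 with h0 | h0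
            · left; exact sub_eq_zero.mp h0
            · right; left; linear_combination h0
          · right; right; left
            rw [eq_div_iff hs0]; linear_combination h0
        · right; right; right; left
          rw [eq_div_iff hs0]; linear_combination h0
      · right; right; right; right; left
        rw [eq_div_iff hs1']; linear_combination h0
    · right; right; right; right; right
      rw [eq_div_iff hs1'']; linear_combination h0
  · intro h
    apply sub_eq_zero.mp
    rw [key]
    rcases h with h | h | h | h | h | h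
    · rw [h]; ring
    · rw [h]; ring
    · rw [eq_div_iff hs0] at h
      have : s * t - 1 = 0 := by linear_combination h
      rw [this]; ring
    · rw [eq_div_iff hs0] at h
      have : s * t - s + 1 = 0 := by linear_combination h
      rw [this]; ring
    · rw [eq_div_iff hs1'] at h
      have : (s - 1) * t - s = 0 := by linear_combination h
      rw [this]; ring
    · rw [eq_div_iff hs1''] at h
      have : (1 - s) * t - 1 = 0 := by linear_combination h
      rw [this]; ring
end Groth.Agent.H7.JInv
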