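import Mathlib
import Groth.Agent.Lib.Helper2.ProjDim
import Groth.Agent.Lib.Helper5.FunFld.Plane8

/-! The ideal of homogeneous relations of a plane model is principal (helper7). -/

set_option autoImplicit false

namespace Groth.Agent.H7.PlaneRel

open Polynomial FunFld

variable {k K : Type*} [Field k] [Field K] [Algebra k K]

/-- evaluation of a homogeneous polynomial at a scaled point, general target -/
lemma aeval_mul_of_isHomogeneous {B : Type*} [CommRing B] [Algebra k B] {σ : Type*}
    (f : MvPolynomial σ k) {d : ℕ} (hf : f.IsHomogeneous d) (x : σ → B) (c : B) :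
    MvPolynomial.aeval (fun i => c * x i) f = c ^ d * MvPolynomial.aeval x f := by
  rw [MvPolynomial.aeval_def, MvPolynomial.aeval_def, MvPolynomial.eval₂_eq, MvPolynomial.eval₂_eq,
    Finset.mul_sum]
  refine Finset.sum_congr rfl (fun m hm => ?_)
  have hd := hf.degree_eq_sum_deg_support hm
  simp only [mul_pow]
  rw [Finset.prod_mul_distrib, Finset.prod_pow_eq_pow_sum, ← hd]
  ring

/-- the graded evaluation map -/
noncomputable def psi {σ : Type*} (v : σ → K) : MvPolynomial σ k →ₐ[k] K[X] :=
  MvPolynomial.aeval fun i => Polynomial.C (v i) * Polynomial.X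

lemma psi_of_isHomogeneous {σ : Type*} (v : σ → K) (q : MvPolynomial σ k) {d : ℕ}
    (hq : q.IsHomogeneous d) :
    psi v q = Polynomial.C (MvPolynomial.aeval v q) * Polynomial.X ^ d := by
  have h1 : (fun i => Polynomial.C (v i) * (Polynomial.X : K[X])) =
      fun i => Polynomial.X * Polynomial.C (v i) := by
    funext i; ring
  rw [psi, h1, aeval_mul_of_isHomogeneous q hq, mul_comm]
  congr 1
  exact MvPolynomial.aeval_algebraMap_apply (B := K[X]) v q

lemma coeff_psi {σ : Type*} (v : σ → K) (p : MvPolynomial σ k) (d : ℕ) :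
    (psi v p).coeff d = MvPolynomial.aeval v (MvPolynomial.homogeneousComponent d p) := by
  conv_lhs => rw [← MvPolynomial.sum_homogeneousComponent p]
  rw [map_sum, Polynomial.finsetSum_coeff]
  simp_rw [psi_of_isHomogeneous v _ (MvPolynomial.homogeneousComponent_isHomogeneous _ _),
    Polynomial.coeff_C_mul_X_pow]
  rw [Finset.sum_ite_eq]
  split_ifs with h
  · rfl
  · rw [MvPolynomial.homogeneousComponent_eq_zero _ _ (by simpa using h), map_zero]

lemma psi_homogeneousComponent_eq_zero {σ : Type*} (v : σ → K) (p : MvPolynomial σ k)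
    (hp : psi v p = 0) (d : ℕ) : psi v (MvPolynomial.homogeneousComponent d p) = 0 := by
  rw [psi_of_isHomogeneous v _ (MvPolynomial.homogeneousComponent_isHomogeneous d p),
    ← coeff_psi, hp, Polynomial.coeff_zero, Polynomial.C_0, zero_mul]

/-- a binary form vanishing at `(1, x)` with `x` transcendental is zero. -/
lemma eq_zero_of_aeval_one_transcendental {x : K} (hx : Transcendental k x)
    (q : MvPolynomial (Fin 2) k) {d : ℕ} (hq : q.IsHomogeneous d)
    (h0 : MvPolynomial.aeval ![1, x] q = 0) : q = 0 := by
  set q' : k[X] := MvPolynomial.aeval ![1, Polynomial.X] q with hq'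
  have h1 : Polynomial.aeval x q' = 0 := by
    rw [hq', ← AlgHom.comp_apply, ← h0]
    congr 1
    apply MvPolynomial.algHom_ext
    intro i
    fin_cases i <;> simp
  have h2 : q' = 0 := by
    by_contra hne
    exact hx ⟨q', hne, h1⟩
  ext m
  rw [MvPolynomial.coeff_zero]
  by_contra hm
  have hms : m ∈ q.support := MvPolynomial.mem_support_iff.2 hm
  have hcoef : q'.coeff (m 1) = MvPolynomial.coeff m q := by
    rw [hq', MvPolynomial.aeval_def, MvPolynomial.eval₂_eq', Polynomial.finsetSum_coeff]
    rw [Finset.sum_eq_single m]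
    · simp [Fin.prod_univ_two, ← Polynomial.C_eq_algebraMap, Polynomial.coeff_C_mul]
    · intro m' hm' hne
      have hd := hq.degree_eq_sum_deg_support hm'
      have hd' := hq.degree_eq_sum_deg_support hms
      have hs2 : ∀ n : Fin 2 →₀ ℕ, ∑ i ∈ n.support, n i = n 0 + n 1 := fun n =>
        (Finset.sum_subset (Finset.subset_univ _)
          (by intro i _ hi; simpa using hi)).trans (Fin.sum_univ_two _)
      rw [hs2] at hd hd'
      have : m' 1 ≠ m 1 := by
        intro h1
        apply hne
        ext i
        fin_cases i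
        · simp only [Fin.zero_eta]; omega
        · exact h1
      simp [Fin.prod_univ_two, ← Polynomial.C_eq_algebraMap, Polynomial.coeff_C_mul,
        Polynomial.coeff_X_pow, this.symm]
    · intro h; exact absurd hms h
  rw [h2, Polynomial.coeff_zero] at hcoef
  exact hm hcoef.symm

/-- `T` and `xT` are algebraically independent over `k` when `x` is transcendental. -/
lemma psi_injective_of_transcendental {x : K} (hx : Transcendental k x) :
    Function.Injective (psi (k := k) ![1, x]) := by
  rw [injective_iff_map_eq_zero]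
  intro p hp
  rw [← MvPolynomial.sum_homogeneousComponent p]
  apply Finset.sum_eq_zero
  intro d _
  apply eq_zero_of_aeval_one_transcendental hx _
    (MvPolynomial.homogeneousComponent_isHomogeneous d p)
  rw [← coeff_psi, hp, Polynomial.coeff_zero]

lemma trdeg_polynomial (h : Algebra.trdeg k K = 1) : Algebra.trdeg k K[X] = 2 := by
  have := trdeg_add_eq k K (A := K[X])
  rw [h, Polynomial.trdeg_of_isDomain] at this
  rw [← this]
  norm_num

lemma homogeneousComponent_totalDegree_ne_zero {σ : Type*} (f : MvPolynomial σ k) (hf : f ≠ 0) :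
    MvPolynomial.homogeneousComponent f.totalDegree f ≠ 0 := by
  have hne : f.support.Nonempty := by
    rw [Finset.nonempty_iff_ne_empty, Ne, MvPolynomial.support_eq_empty]
    exact hf
  obtain ⟨m, hm, hmd⟩ := Finset.exists_mem_eq_sup f.support hne (fun s => s.sum fun _ e => e)
  intro h0
  have h1 := congrArg (MvPolynomial.coeff m) h0
  rw [MvPolynomial.coeff_homogeneousComponent, MvPolynomial.coeff_zero, if_pos] at h1
  · exact (MvPolynomial.mem_support_iff.1 hm) h1
  · rw [MvPolynomial.totalDegree, hmd]
    rfl

/-- a generator of a `psi`-kernel is homogeneous. -/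
lemma isHomogeneous_of_ker_eq_span {σ : Type*} (v : σ → K) (f : MvPolynomial σ k)
    (hker : RingHom.ker (psi (k := k) v) = Ideal.span {f}) (hf : f ≠ 0) :
    f.IsHomogeneous f.totalDegree := by
  set ft := MvPolynomial.homogeneousComponent f.totalDegree f with hft
  have hfmem : f ∈ RingHom.ker (psi (k := k) v) := by
    rw [hker]; exact Ideal.mem_span_singleton_self f
  have h1 : ft ∈ RingHom.ker (psi (k := k) v) :=
    psi_homogeneousComponent_eq_zero v f hfmem _
  rw [hker, Ideal.mem_span_singleton] at h1
  obtain ⟨h, hh⟩ := h1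
  have hft0 : ft ≠ 0 := homogeneousComponent_totalDegree_ne_zero f hf
  have hfth : ft.IsHomogeneous f.totalDegree :=
    MvPolynomial.homogeneousComponent_isHomogeneous _ _
  have hh0 : h ≠ 0 := by
    rintro rfl
    rw [mul_zero] at hh
    exact hft0 hh
  have hdeg : ft.totalDegree = f.totalDegree := hfth.totalDegree hft0
  have hdeg2 := MvPolynomial.totalDegree_mul_of_isDomain hf hh0
  rw [← hh, hdeg] at hdeg2
  have hh1 : h.totalDegree = 0 := by omega
  rw [MvPolynomial.totalDegree_eq_zero_iff_eq_C] at hh1
  set c := MvPolynomial.coeff 0 h with hc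
  have hc0 : c ≠ 0 := by
    intro h0
    rw [h0, map_zero] at hh1
    exact hh0 hh1
  have hfeq : f = MvPolynomial.C c⁻¹ * ft := by
    rw [hh, hh1, mul_comm f, ← mul_assoc, ← map_mul, inv_mul_cancel₀ hc0, map_one, one_mul]
  rw [hfeq]
  have := (MvPolynomial.isHomogeneous_C σ c⁻¹).mul hfth
  rw [zero_add] at this
  rw [← hfeq]
  exact hfeq ▸ this

section main

universe u v

variable {k : Type u} {K : Type v} [Field k] [Field K] [Algebra k K]

lemma two_le_trdeg (v : Fin 3 → K) (e : Fin 2 → Fin 3)
    (hinj : Function.Injective (psi (k := k) (v ∘ e))) :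
    (2 : Cardinal.{u}) ≤
      Algebra.trdeg k (MvPolynomial (Fin 3) k ⧸ RingHom.ker (psi (k := k) v)) := by
  set P := RingHom.ker (psi (k := k) v) with hP
  have hai : AlgebraicIndependent k
      (fun i : Fin 2 => Ideal.Quotient.mk P (MvPolynomial.X (e i))) := by
    rw [algebraicIndependent_iff_injective_aeval, injective_iff_map_eq_zero]
    intro p hp
    have h1 : MvPolynomial.aeval (fun i : Fin 2 => Ideal.Quotient.mk P (MvPolynomial.X (e i))) p
        = Ideal.Quotient.mk P (MvPolynomial.rename e p) := by
      have : (MvPolynomial.aeval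
          (fun i : Fin 2 => Ideal.Quotient.mk P (MvPolynomial.X (R := k) (e i)))) =
          (Ideal.Quotient.mkₐ k P).comp (MvPolynomial.rename e) := by
        apply MvPolynomial.algHom_ext
        intro i
        simp
      rw [this]
      rfl
    rw [h1, Ideal.Quotient.eq_zero_iff_mem, hP, RingHom.mem_ker] at hp
    apply hinj
    rw [map_zero, ← hp, psi, psi, MvPolynomial.aeval_rename]
    rfl
  have := hai.lift_cardinalMk_le_trdeg
  simpa using this

theorem main (hK : IsFunctionField k K) (x y : K)
    (hxy : IntermediateField.adjoin k ({x, y} : Set K) = ⊤) :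
    ∃ f : MvPolynomial (Fin 3) k, Irreducible f ∧ f.IsHomogeneous f.totalDegree ∧
      RingHom.ker (MvPolynomial.aeval
        fun i => Polynomial.C (![(1 : K), x, y] i) * Polynomial.X) = Ideal.span {f} := by
  classical
  set v : Fin 3 → K := ![1, x, y] with hv
  change ∃ f : MvPolynomial (Fin 3) k, Irreducible f ∧ f.IsHomogeneous f.totalDegree ∧
      RingHom.ker (psi (k := k) v) = Ideal.span {f}
  set P : Ideal (MvPolynomial (Fin 3) k) := RingHom.ker (psi (k := k) v) with hP
  have hPprime : P.IsPrime := RingHom.ker_isPrime _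
  have htr2 : Algebra.trdeg k K[X] = 2 := trdeg_polynomial hK.trdeg_eq_one
  -- `P ≠ ⊥`
  have hPne : P ≠ ⊥ := by
    intro hbot
    have hinj : Function.Injective (psi (k := k) v) :=
      (RingHom.injective_iff_ker_eq_bot _).2 hbot
    have h1 := lift_trdeg_le_of_injective (psi (k := k) v) hinj
    rw [MvPolynomial.trdeg_of_isDomain, htr2] at h1
    simp only [Cardinal.mk_fintype, Fintype.card_fin, Cardinal.lift_natCast,
      Cardinal.lift_ofNat] at h1
    norm_cast at h1
  -- the lower bound on the transcendence degree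
  have hlow : (2 : Cardinal.{u}) ≤ Algebra.trdeg k (MvPolynomial (Fin 3) k ⧸ P) := by
    by_cases hx : x ∈ Set.range (algebraMap k K)
    · have hy : y ∉ Set.range (algebraMap k K) := fun hy => not_both_const hK hxy ⟨hx, hy⟩
      have hytr := hK.transcendental_of_notMem hy
      apply two_le_trdeg v ![0, 2]
      have : v ∘ ![0, 2] = ![1, y] := by
        funext i; fin_cases i <;> rfl
      rw [this]
      exact psi_injective_of_transcendental hytr
    · have hxtr := hK.transcendental_of_notMem hx
      apply two_le_trdeg v ![0, 1]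
      have : v ∘ ![0, 1] = ![1, x] := by
        funext i; fin_cases i <;> rfl
      rw [this]
      exact psi_injective_of_transcendental hxtr
  obtain ⟨f, hfP, hfprime⟩ := Ideal.IsPrime.exists_mem_prime_of_ne_bot hPprime hPne
  have hspan_le : Ideal.span {f} ≤ P := by
    rw [Ideal.span_le]
    rintro _ rfl
    exact hfP
  have hfspan : (Ideal.span {f}).IsPrime :=
    (Ideal.span_singleton_prime hfprime.ne_zero).2 hfprime
  have heq : P = Ideal.span {f} := by
    by_contra hne
    have hlt : Ideal.span {f} < P := lt_of_le_of_ne hspan_le (Ne.symm hne)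
    have h1 := Groth.Agent.H2.ProjDim.ringKrullDim_quotient_add_one_le k (Ideal.span {f}) P hlt
    have h2 := Groth.Agent.H2.DimFG.ringKrullDim_quotient_prime_mvPolynomial k 2 f hfprime
    have hdom : IsDomain (MvPolynomial (Fin 3) k ⧸ P) := Ideal.Quotient.isDomain _
    obtain ⟨s, hs1, hs2⟩ := Groth.Agent.H2.DimFG.exists_dim_eq_trdeg k (MvPolynomial (Fin 3) k ⧸ P)
    rw [hs2] at hlow
    have hs : 2 ≤ s := by exact_mod_cast hlow
    rw [hs1] at h1
    have h3 : ((s : WithBot ℕ∞) + 1) ≤ 2 := by
      refine h1.trans (le_of_eq ?_)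
      exact h2
    have h4 : s + 1 ≤ 2 := by exact_mod_cast h3
    omega
  refine ⟨f, hfprime.irreducible, ?_, heq⟩
  exact isHomogeneous_of_ker_eq_span v f heq hfprime.ne_zero

end main

end Groth.Agent.H7.PlaneRel
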