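import Mathlib
import Groth.Agent.Lib.Helper7.JacCrit
import Groth.Agent.Lib.Helper7.PlaneRel
import Groth.Agent.Lib.Helper5.FunFld.LocRing

/-! Jacobian criterion for projective maps of function fields (helper7). -/

set_option autoImplicit false

namespace Groth.Agent.H7.JacFF

open MvPolynomial Groth.Agent.H7.JacCrit Groth.Agent.H7.PlaneRel

section Alg

variable {k : Type*} [Field k]

/-- `W` for an ideal generated by a set. -/
lemma W_span_set {n : ℕ} (a : Fin n → k) (G : Set (MvPolynomial (Fin n) k))
    (hI : Ideal.span G ≤ Ma a) :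
    W (Ideal.span G) a = Submodule.span k (D a '' G) := by
  apply le_antisymm
  · rintro _ ⟨q, hq, rfl⟩
    rw [SetLike.mem_coe, Submodule.restrictScalars_mem] at hq
    induction hq using Submodule.span_induction with
    | mem x hx => exact Submodule.subset_span ⟨x, hx, rfl⟩
    | zero => simp
    | add x y _ _ hx hy => rw [map_add]; exact Submodule.add_mem _ hx hy
    | smul h x hx ih =>
      rw [smul_eq_mul, D_mul, RingHom.mem_ker.mp (hI hx), zero_smul, add_zero]
      exact Submodule.smul_mem _ _ ih
  · rw [Submodule.span_le]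
    rintro _ ⟨g, hg, rfl⟩
    exact ⟨g, Ideal.subset_span hg, rfl⟩

/-- Linear algebra: adding a coordinate vector to a span. -/
lemma finrank_span_insert_single {ι ι' : Type*} [Fintype ι] [DecidableEq ι] [Fintype ι']
    (s : ι' → ι) (j : ι) (hs : ∀ l, l ≠ j ↔ l ∈ Set.range s)
    (V : Set (ι → k)) :
    Module.finrank k (Submodule.span k (insert (Pi.single j 1) V)) =
      1 + Module.finrank k (Submodule.span k ((fun v : ι → k => v ∘ s) '' V)) := by
  set π : (ι → k) →ₗ[k] (ι' → k) := LinearMap.funLeft k k s with hπ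
  set T := Submodule.span k (insert (Pi.single j (1 : k)) V) with hT
  have hπe : π (Pi.single j 1) = 0 := by
    ext l
    have : s l ≠ j := (hs (s l)).2 ⟨l, rfl⟩
    simp [hπ, LinearMap.funLeft_apply, Pi.single_apply, this]
  have hmap : T.map π = Submodule.span k ((fun v : ι → k => v ∘ s) '' V) := by
    rw [hT, Submodule.map_span, Set.image_insert_eq, hπe, Submodule.span_insert_zero]
    rfl
  have hker : LinearMap.ker π = Submodule.span k {Pi.single j (1 : k)} := by
    ext w
    rw [LinearMap.mem_ker, Submodule.mem_span_singleton]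
    constructor
    · intro hw
      refine ⟨w j, ?_⟩
      ext l
      by_cases hl : l = j
      · subst hl; simp
      · obtain ⟨l', rfl⟩ := (hs l).1 hl
        have : π w l' = 0 := by rw [hw]; rfl
        simp only [Pi.smul_apply, smul_eq_mul, Pi.single_apply, if_neg hl, mul_zero]
        exact this.symm
    · rintro ⟨c, rfl⟩
      rw [map_smul, hπe, smul_zero]
  have hle : LinearMap.ker π ≤ T := by
    rw [hker, Submodule.span_le, Set.singleton_subset_iff]
    exact Submodule.subset_span (Set.mem_insert _ _)
  have h1 := LinearMap.finrank_range_add_finrank_ker (π.domRestrict T)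
  rw [LinearMap.range_domRestrict, hmap, LinearMap.ker_domRestrict] at h1
  have h2 : Module.finrank k (Submodule.comap T.subtype (LinearMap.ker π)) = 1 := by
    have e : Submodule.comap T.subtype (LinearMap.ker π) ≃ₗ[k] LinearMap.ker π :=
      Submodule.comapSubtypeEquivOfLe hle
    rw [e.finrank_eq, hker, finrank_span_singleton]
    intro h
    have := congrFun h j
    simp at this
  rw [h2] at h1
  omega

section Homog

variable {K : Type*} [Field K] [Algebra k K] {σ : Type*} (v : σ → K) (j : σ)

lemma aeval_eq_pow_mul (hj : v j ≠ 0) (q : MvPolynomial σ k) {d : ℕ} (hq : q.IsHomogeneous d) :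
    aeval v q = (v j) ^ d * aeval (fun l => v l / v j) q := by
  rw [← aeval_mul_of_isHomogeneous q hq]
  congr 2
  funext l
  field_simp

lemma ker_aeval_ratio (hj : v j ≠ 0) :
    RingHom.ker (aeval (R := k) fun l => v l / v j) =
      RingHom.ker (psi (k := k) v) ⊔ Ideal.span {X j - 1} := by
  classical
  have hXj : (X j - 1 : MvPolynomial σ k) ∈ RingHom.ker (aeval (R := k) fun l => v l / v j) := by
    rw [RingHom.mem_ker, map_sub, aeval_X, map_one, div_self hj, sub_self]
  apply le_antisymm
  · intro h hh
    rw [RingHom.mem_ker] at hh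
    set Dg := h.totalDegree with hDg
    set H : MvPolynomial σ k :=
      ∑ d ∈ Finset.range (Dg + 1), X j ^ (Dg - d) * homogeneousComponent d h with hH
    have hdiff : H - h ∈ Ideal.span {(X j - 1 : MvPolynomial σ k)} := by
      have : H - h = ∑ d ∈ Finset.range (Dg + 1),
          (X j ^ (Dg - d) - 1) * homogeneousComponent d h := by
        conv_lhs => rw [← sum_homogeneousComponent h]
        rw [hH, ← Finset.sum_sub_distrib]
        refine Finset.sum_congr rfl fun d _ => ?_
        ring
      rw [this]
      refine Ideal.sum_mem _ fun d _ => Ideal.mul_mem_right _ _ ?_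
      rw [Ideal.mem_span_singleton]
      simpa using sub_dvd_pow_sub_pow (X j : MvPolynomial σ k) 1 (Dg - d)
    have hHhom : H.IsHomogeneous Dg := by
      refine IsHomogeneous.sum _ _ _ fun d hd => ?_
      have hd' : d ≤ Dg := Nat.lt_succ_iff.mp (Finset.mem_range.mp hd)
      have := (isHomogeneous_X_pow (R := k) j (Dg - d)).mul
        (homogeneousComponent_isHomogeneous d h)
      rwa [Nat.sub_add_cancel hd'] at this
    have hevH : aeval (R := k) (fun l => v l / v j) H = 0 := by
      have : H = (H - h) + h := by ring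
      rw [this, map_add, hh, add_zero]
      exact RingHom.mem_ker.mp
        ((Ideal.span_le.mpr (Set.singleton_subset_iff.mpr hXj)) hdiff)
    have hpsi : H ∈ RingHom.ker (psi (k := k) v) := by
      rw [RingHom.mem_ker, psi_of_isHomogeneous v H hHhom, aeval_eq_pow_mul v j hj H hHhom, hevH,
        mul_zero, map_zero, zero_mul]
    have : h = H - (H - h) := by ring
    rw [this]
    exact Submodule.sub_mem _ (Submodule.mem_sup_left hpsi) (Submodule.mem_sup_right hdiff)
  · refine sup_le ?_ (Ideal.span_le.mpr (Set.singleton_subset_iff.mpr hXj))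
    intro h hh
    rw [RingHom.mem_ker] at hh ⊢
    rw [← sum_homogeneousComponent h, map_sum]
    refine Finset.sum_eq_zero fun d _ => ?_
    have h1 := psi_homogeneousComponent_eq_zero v h hh d
    rw [psi_of_isHomogeneous v _ (homogeneousComponent_isHomogeneous d h)] at h1
    have h2 : aeval v (homogeneousComponent d h) = 0 := by
      have := congrArg (fun p => Polynomial.coeff p d) h1
      simp only [Polynomial.coeff_C_mul, Polynomial.coeff_X_pow, if_true, mul_one,
        Polynomial.coeff_zero] at this
      exact this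
    rw [aeval_eq_pow_mul v j hj _ (homogeneousComponent_isHomogeneous d h)] at h2
    exact (mul_eq_zero.mp h2).resolve_left (pow_ne_zero _ hj)

end Homog

/-- The rank of a matrix is invariant under a bijective ring hom of fields. -/
lemma rank_map_of_bijective {κ : Type*} [Field κ] (σ : k →+* κ) (hσ : Function.Bijective σ)
    {m n : Type*} [Fintype m] [Fintype n] (A : Matrix m n k) : (A.map σ).rank = A.rank := by
  classical
  unfold Matrix.rank
  let j0 : LinearMap.range A.mulVecLin →+ LinearMap.range (A.map σ).mulVecLin :=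
    { toFun := fun u => ⟨σ ∘ u.1, by
        obtain ⟨w, hw⟩ := u.2
        refine ⟨σ ∘ w, ?_⟩
        rw [← hw]
        ext i
        simp only [Matrix.mulVecLin_apply, Function.comp_apply]
        exact (RingHom.map_mulVec σ A w i).symm⟩
      map_zero' := by
        ext i
        simp
      map_add' := fun u u' => by
        ext i
        simp }
  have hbij : Function.Bijective j0 := by
    constructor
    · intro u u' h
      ext i
      have := congrFun (congrArg Subtype.val h) i
      exact hσ.1 this
    · rintro ⟨_, w, rfl⟩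
      obtain ⟨w', hw'⟩ : ∃ w' : n → k, σ ∘ w' = w :=
        ⟨fun i => (hσ.2 (w i)).choose, funext fun i => (hσ.2 (w i)).choose_spec⟩
      refine ⟨⟨A.mulVecLin w', ⟨w', rfl⟩⟩, ?_⟩
      apply Subtype.ext
      ext i
      subst hw'
      simp only [Matrix.mulVecLin_apply]
      exact RingHom.map_mulVec σ A w' i
  have h1 := lift_rank_eq_of_equiv_equiv σ (AddEquiv.ofBijective j0 hbij) hσ (fun r u => by
    apply Subtype.ext
    ext i
    simp [j0])
  have h2 := congrArg Cardinal.toNat h1
  simp only [Cardinal.toNat_lift] at h2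
  exact h2.symm

end Alg

section LocalAlg

/-- A local domain mapping injectively and locally into a valuation ring, with the same
fraction field, is a valuation ring iff it is the whole valuation ring. -/
lemma valuationRing_iff_surj {L K Γ : Type*} [CommRing L] [IsDomain L] [Field K]
    [LinearOrderedCommGroupWithZero Γ] (v : Valuation K Γ) (ι : L →+* K)
    (hinj : Function.Injective ι) (h1 : ∀ y, v (ι y) ≤ 1) (h2 : ∀ y, v (ι y) = 1 → IsUnit y)
    (h3 : ∀ z : K, ∃ b c : L, c ≠ 0 ∧ z * ι c = ι b) :
    (∀ z, v z ≤ 1 → z ∈ Set.range ι) ↔ ValuationRing L := by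
  rw [ValuationRing.iff_dvd_total]
  constructor
  · intro hs
    have key : ∀ a b : L, v (ι a) ≤ v (ι b) → b ∣ a := by
      intro a b hab
      by_cases hb : b = 0
      · subst hb
        rw [map_zero, map_zero, le_zero_iff, map_eq_zero, map_eq_zero_iff _ hinj] at hab
        rw [hab]
      · have hb' : ι b ≠ 0 := (map_ne_zero_iff _ hinj).2 hb
        have hz : v (ι a / ι b) ≤ 1 := by
          rw [map_div₀]
          exact div_le_one_of_le₀ hab zero_le
        obtain ⟨c, hc⟩ := hs _ hz
        refine ⟨c, hinj ?_⟩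
        rw [map_mul, hc]
        field_simp
    refine ⟨fun a b => ?_⟩
    rcases le_total (v (ι a)) (v (ι b)) with h | h
    · exact Or.inr (key a b h)
    · exact Or.inl (key b a h)
  · intro ht z hz
    obtain ⟨b, c, hc, hzc⟩ := h3 z
    have hc' : ι c ≠ 0 := (map_ne_zero_iff _ hinj).2 hc
    rcases ht.total c b with ⟨d, rfl⟩ | ⟨d, rfl⟩
    · refine ⟨d, ?_⟩
      rw [map_mul] at hzc
      have : z * ι c = ι d * ι c := by rw [hzc]; ring
      exact (mul_right_cancel₀ hc' this).symm
    · -- `c = b * d`, `z = 1 / ι d`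
      have hb : ι b ≠ 0 := by
        intro hb
        apply hc'
        rw [map_mul, hb, zero_mul]
      have hd : ι d ≠ 0 := by
        intro hd
        apply hc'
        rw [map_mul, hd, mul_zero]
      have hzd : z * ι d = 1 := by
        rw [map_mul] at hzc
        have : (z * ι d) * ι b = 1 * ι b := by
          rw [one_mul]
          calc (z * ι d) * ι b = z * (ι b * ι d) := by ring
            _ = ι b := hzc
        exact mul_right_cancel₀ hb this
      have hvd : v (ι d) = 1 := by
        apply le_antisymm (h1 d)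
        have := congrArg v hzd
        rw [map_mul, map_one] at this
        by_contra hlt
        rw [not_le] at hlt
        have h4 : v z * v (ι d) < 1 := by
          calc v z * v (ι d) ≤ 1 * v (ι d) := mul_le_mul_left hz _
            _ = v (ι d) := one_mul _
            _ < 1 := hlt
        rw [this] at h4
        exact lt_irrefl _ h4
      obtain ⟨u, rfl⟩ := h2 d hvd
      refine ⟨((u⁻¹ : Lˣ) : L), ?_⟩
      have h5 : ι ((u⁻¹ : Lˣ) : L) * ι (u : L) = 1 := by
        rw [← map_mul, Units.inv_mul, map_one]
      have : z * ι (u : L) = ι ((u⁻¹ : Lˣ) : L) * ι (u : L) := by rw [hzd, h5]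
      exact (mul_right_cancel₀ hd this).symm

end LocalAlg

section Core

open FunFld IsLocalRing

variable {k K : Type*} [Field k] [Field K] [Algebra k K] {n : ℕ}
  (φ : Fin (n + 1) → K) (j : Fin (n + 1))

/-- Evaluation at the ratios `φ l / φ j`. -/
noncomputable def ev : MvPolynomial (Fin (n + 1)) k →+* K :=
  (aeval fun l => φ l / φ j : MvPolynomial (Fin (n + 1)) k →ₐ[k] K).toRingHom

lemma ev_C (c : k) : ev φ j (C c) = algebraMap k K c := by
  simp [ev]

lemma ev_X (l : Fin (n + 1)) : ev (k := k) φ j (X l) = φ l / φ j := by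
  simp [ev]

variable {φ j} {P : Place k K} {a : Fin (n + 1) → k}
  (hj : IsLeast φ P j) (ha : ∀ l, P.1 (φ l / φ j - algebraMap k K (a l)) < 1)

include hj ha

lemma v_ev_sub_lt (p : MvPolynomial (Fin (n + 1)) k) :
    P.1 (ev φ j p - algebraMap k K (eval a p)) < 1 := by
  induction p using MvPolynomial.induction_on with
  | C c => simp [ev_C]
  | add p q hp hq =>
    have : ev φ j (p + q) - algebraMap k K (eval a (p + q)) =
        (ev φ j p - algebraMap k K (eval a p)) + (ev φ j q - algebraMap k K (eval a q)) := by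
      simp only [map_add]; ring
    rw [this]
    exact Valuation.map_add_lt _ hp hq
  | mul_X p l hp =>
    have : ev φ j (p * X l) - algebraMap k K (eval a (p * X l)) =
        (ev φ j p - algebraMap k K (eval a p)) * (φ l / φ j) +
          algebraMap k K (eval a p) * (φ l / φ j - algebraMap k K (a l)) := by
      simp only [map_mul, ev_X, eval_X]; ring
    rw [this]
    refine Valuation.map_add_lt _ ?_ ?_
    · rw [map_mul]
      exact mul_lt_one_of_lt_of_le hp (hj.v_ratio_le l)
    · rw [map_mul]
      calc P.1 (algebraMap k K (eval a p)) * P.1 (φ l / φ j - algebraMap k K (a l))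
          ≤ 1 * P.1 (φ l / φ j - algebraMap k K (a l)) :=
            mul_le_mul_left (P.v_algebraMap_le _) _
        _ = P.1 (φ l / φ j - algebraMap k K (a l)) := one_mul _
        _ < 1 := ha l

lemma v_ev_le (p : MvPolynomial (Fin (n + 1)) k) : P.1 (ev φ j p) ≤ 1 := by
  have := v_ev_sub_lt hj ha p
  have h : ev φ j p = (ev φ j p - algebraMap k K (eval a p)) + algebraMap k K (eval a p) := by
    ring
  rw [h]
  exact (P.1.map_add _ _).trans (max_le this.le (P.v_algebraMap_le _))

lemma v_ev_lt_iff (p : MvPolynomial (Fin (n + 1)) k) : P.1 (ev φ j p) < 1 ↔ eval a p = 0 := by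
  constructor
  · intro h
    by_contra hne
    have h1 := v_ev_sub_lt hj ha p
    have h2 : P.1 (algebraMap k K (eval a p)) < 1 := by
      have : algebraMap k K (eval a p) =
          ev φ j p - (ev φ j p - algebraMap k K (eval a p)) := by ring
      rw [this]
      exact Valuation.map_sub_lt _ h h1
    rw [P.v_algebraMap hne] at h2
    exact lt_irrefl _ h2
  · intro h
    have := v_ev_sub_lt hj ha p
    rwa [h, map_zero, sub_zero] at this

lemma ker_ev_le : RingHom.ker (ev (k := k) φ j) ≤ Ma a := by
  intro p hp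
  exact (v_ev_lt_iff hj ha p).1 (by rw [RingHom.mem_ker.mp hp, map_zero]; exact zero_lt_one)

/-- evaluation at `a` on the affine coordinate ring -/
noncomputable def ea : (MvPolynomial (Fin (n + 1)) k ⧸ RingHom.ker (ev (k := k) φ j)) →+* k :=
  Ideal.Quotient.lift _ (eval a) (fun p hp => ker_ev_le hj ha hp)

lemma ea_surjective : Function.Surjective (ea hj ha) := fun c =>
  ⟨Ideal.Quotient.mk _ (C c), by simp [ea]⟩

/-- The maximal ideal of the image point. -/
noncomputable def mm : Ideal (MvPolynomial (Fin (n + 1)) k ⧸ RingHom.ker (ev (k := k) φ j)) :=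
  RingHom.ker (ea hj ha)

lemma mm_isMaximal : (mm hj ha).IsMaximal :=
  RingHom.ker_isMaximal_of_surjective _ (ea_surjective hj ha)

lemma comap_mm : (mm hj ha).comap (Ideal.Quotient.mk _) = Ma a := by
  rw [mm, RingHom.comap_ker]
  congr 1

lemma mk_mem_mm_iff (p : MvPolynomial (Fin (n + 1)) k) :
    Ideal.Quotient.mk _ p ∈ mm hj ha ↔ P.1 (ev φ j p) < 1 := by
  rw [v_ev_lt_iff hj ha, mm, RingHom.mem_ker]
  rfl

omit hj ha in
variable (φ j) in
/-- The injective map from the affine coordinate ring to `K`. -/
noncomputable def evb : (MvPolynomial (Fin (n + 1)) k ⧸ RingHom.ker (ev (k := k) φ j)) →+* K :=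
  RingHom.kerLift (ev φ j)

omit hj ha in
lemma evb_mk (p : MvPolynomial (Fin (n + 1)) k) :
    evb φ j (Ideal.Quotient.mk _ p) = ev φ j p := RingHom.kerLift_mk _ _

omit hj ha in
lemma evb_injective : Function.Injective (evb (k := k) φ j) := RingHom.kerLift_injective _

lemma mem_mm_iff (b : MvPolynomial (Fin (n + 1)) k ⧸ RingHom.ker (ev (k := k) φ j)) :
    b ∈ mm hj ha ↔ P.1 (evb φ j b) < 1 := by
  obtain ⟨p, rfl⟩ := Ideal.Quotient.mk_surjective b
  rw [evb_mk]
  exact mk_mem_mm_iff hj ha p

lemma v_evb_le (b : MvPolynomial (Fin (n + 1)) k ⧸ RingHom.ker (ev (k := k) φ j)) :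
    P.1 (evb φ j b) ≤ 1 := by
  obtain ⟨p, rfl⟩ := Ideal.Quotient.mk_surjective b
  rw [evb_mk]
  exact v_ev_le hj ha p

lemma v_evb_eq_one {b : MvPolynomial (Fin (n + 1)) k ⧸ RingHom.ker (ev (k := k) φ j)}
    (hb : b ∉ mm hj ha) : P.1 (evb φ j b) = 1 :=
  le_antisymm (v_evb_le hj ha b) (not_lt.mp (mt (mem_mm_iff hj ha b).2 hb))

attribute [local instance] mm_isMaximal

/-- The map from the local ring to `K`. -/
noncomputable def iota : Localization.AtPrime (mm hj ha) →+* K :=
  IsLocalization.lift (M := (mm hj ha).primeCompl) (g := evb φ j) (fun s => by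
    rw [isUnit_iff_ne_zero]
    intro h0
    have := v_evb_eq_one hj ha s.2
    rw [h0, map_zero] at this
    exact zero_ne_one this)

lemma iota_algebraMap (b : MvPolynomial (Fin (n + 1)) k ⧸ RingHom.ker (ev (k := k) φ j)) :
    iota hj ha (algebraMap _ _ b) = evb φ j b :=
  IsLocalization.lift_eq _ _

lemma iota_mk' (b : MvPolynomial (Fin (n + 1)) k ⧸ RingHom.ker (ev (k := k) φ j))
    (s : (mm hj ha).primeCompl) :
    iota hj ha (IsLocalization.mk' _ b s) *
      evb φ j (s : MvPolynomial (Fin (n + 1)) k ⧸ RingHom.ker (ev (k := k) φ j)) =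
        evb φ j b := by
  rw [← iota_algebraMap hj ha s.1, ← map_mul, IsLocalization.mk'_spec, iota_algebraMap]

lemma iota_injective : Function.Injective (iota hj ha) := by
  rw [iota, IsLocalization.lift_injective_iff]
  intro x y
  haveI : (RingHom.ker (ev (k := k) φ j)).IsPrime := RingHom.ker_isPrime _
  haveI : IsDomain (MvPolynomial (Fin (n + 1)) k ⧸ RingHom.ker (ev (k := k) φ j)) :=
    Ideal.Quotient.isDomain _
  have hinj : Function.Injective (algebraMap
      (MvPolynomial (Fin (n + 1)) k ⧸ RingHom.ker (ev (k := k) φ j))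
      (Localization.AtPrime (mm hj ha))) :=
    IsLocalization.injective (M := (mm hj ha).primeCompl) (Localization.AtPrime (mm hj ha))
      (Ideal.primeCompl_le_nonZeroDivisors _)
  rw [hinj.eq_iff, (evb_injective (k := k) (φ := φ) (j := j)).eq_iff]

lemma v_iota_le (y : Localization.AtPrime (mm hj ha)) : P.1 (iota hj ha y) ≤ 1 := by
  obtain ⟨b, s, rfl⟩ := IsLocalization.exists_mk'_eq (mm hj ha).primeCompl y
  have h1 := iota_mk' hj ha b s
  have h2 := congrArg P.1 h1
  rw [map_mul, v_evb_eq_one hj ha s.2, mul_one] at h2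
  rw [h2]
  exact v_evb_le hj ha b

lemma isUnit_of_v_iota (y : Localization.AtPrime (mm hj ha)) (hy : P.1 (iota hj ha y) = 1) :
    IsUnit y := by
  obtain ⟨b, s, rfl⟩ := IsLocalization.exists_mk'_eq (mm hj ha).primeCompl y
  have h1 := iota_mk' hj ha b s
  have h2 := congrArg P.1 h1
  rw [map_mul, v_evb_eq_one hj ha s.2, mul_one] at h2
  rw [IsLocalization.AtPrime.isUnit_mk'_iff (Localization.AtPrime (mm hj ha)) (mm hj ha)]
  intro hb
  have := (mem_mm_iff hj ha b).1 hb
  rw [← h2, hy] at this
  exact lt_irrefl _ this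

lemma mem_range_iota_iff (z : K) :
    z ∈ Set.range (iota hj ha) ↔
      ∃ p q : MvPolynomial (Fin (n + 1)) k, P.1 (ev φ j q) = 1 ∧ z * ev φ j q = ev φ j p := by
  constructor
  · rintro ⟨y, rfl⟩
    obtain ⟨b, s, rfl⟩ := IsLocalization.exists_mk'_eq (mm hj ha).primeCompl y
    obtain ⟨p, rfl⟩ := Ideal.Quotient.mk_surjective b
    obtain ⟨s, hs⟩ := s
    obtain ⟨q, rfl⟩ := Ideal.Quotient.mk_surjective s
    refine ⟨p, q, ?_, ?_⟩
    · rw [← evb_mk]
      exact v_evb_eq_one hj ha hs
    · have := iota_mk' hj ha (Ideal.Quotient.mk _ p) ⟨Ideal.Quotient.mk _ q, hs⟩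
      rwa [evb_mk, evb_mk] at this
  · rintro ⟨p, q, hq, hzq⟩
    have hs : Ideal.Quotient.mk (RingHom.ker (ev (k := k) φ j)) q ∈ (mm hj ha).primeCompl := by
      intro hmem
      have := (mk_mem_mm_iff hj ha q).1 hmem
      rw [hq] at this
      exact lt_irrefl _ this
    refine ⟨IsLocalization.mk' _ (Ideal.Quotient.mk _ p) ⟨Ideal.Quotient.mk _ q, hs⟩, ?_⟩
    have h1 := iota_mk' hj ha (Ideal.Quotient.mk _ p) ⟨Ideal.Quotient.mk _ q, hs⟩
    rw [evb_mk, evb_mk, ← hzq] at h1
    have hq0 : ev φ j q ≠ 0 := by
      intro h0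
      rw [h0, map_zero] at hq
      exact zero_ne_one hq
    exact mul_right_cancel₀ hq0 h1

lemma inLocRing_iff_mem_range (z : K) : InLocRing φ P z ↔ z ∈ Set.range (iota hj ha) := by
  rw [mem_range_iota_iff]
  have hadj : ∀ u : K, u ∈ affRing k φ j ↔ ∃ p : MvPolynomial (Fin (n + 1)) k, ev φ j p = u := by
    intro u
    rw [affRing, Algebra.adjoin_range_eq_range_aeval]
    rfl
  constructor
  · intro h
    obtain ⟨u, hu, w, hw, hw1, hzw⟩ := h.exists_of_isLeast hj
    obtain ⟨p, rfl⟩ := (hadj u).1 hu
    obtain ⟨q, rfl⟩ := (hadj w).1 hw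
    exact ⟨p, q, hw1, hzw⟩
  · rintro ⟨p, q, hq, hzq⟩
    exact (inLocRing_iff φ P z).2
      ⟨j, hj, ev φ j p, (hadj _).2 ⟨p, rfl⟩, ev φ j q, (hadj _).2 ⟨q, rfl⟩, hq, hzq⟩

theorem core (hbir : IntermediateField.adjoin k (Set.range fun i => φ i / φ j) = ⊤)
    (G : Set (MvPolynomial (Fin (n + 1)) k))
    (hG : Ideal.span G = RingHom.ker (psi (k := k) φ)) :
    IsNonsingularAt φ P ↔
      Module.finrank k (Submodule.span k (insert (Pi.single j 1) (D a '' G))) = n := by
  classical
  haveI hprime : (RingHom.ker (ev (k := k) φ j)).IsPrime := RingHom.ker_isPrime _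
  haveI : IsDomain (MvPolynomial (Fin (n + 1)) k ⧸ RingHom.ker (ev (k := k) φ j)) :=
    Ideal.Quotient.isDomain _
  haveI : IsDomain (Localization.AtPrime (mm hj ha)) :=
    IsLocalization.isDomain_localization (Ideal.primeCompl_le_nonZeroDivisors _)
  haveI : IsNoetherianRing (Localization.AtPrime (mm hj ha)) :=
    IsLocalization.isNoetherianRing (mm hj ha).primeCompl _ inferInstance
  -- `K` is the fraction field of the local ring
  have hFF : ∀ z : K, ∃ b c : Localization.AtPrime (mm hj ha),
      c ≠ 0 ∧ z * iota hj ha c = iota hj ha b := by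
    intro z
    have hz : z ∈ IntermediateField.adjoin k (Set.range fun i => φ i / φ j) := by
      rw [hbir]; trivial
    obtain ⟨r, s, hrs⟩ := (IntermediateField.mem_adjoin_range_iff k _ z).1 hz
    by_cases hs : aeval (fun i => φ i / φ j) s = 0
    · refine ⟨0, 1, one_ne_zero, ?_⟩
      rw [hrs, hs, _root_.div_zero, zero_mul, map_zero]
    · refine ⟨algebraMap _ _ (Ideal.Quotient.mk (RingHom.ker (ev (k := k) φ j)) r),
        algebraMap _ _ (Ideal.Quotient.mk (RingHom.ker (ev (k := k) φ j)) s), ?_, ?_⟩
      · intro h0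
        apply hs
        have := congrArg (iota hj ha) h0
        rw [iota_algebraMap, evb_mk, map_zero] at this
        exact this
      · rw [iota_algebraMap, iota_algebraMap, evb_mk, evb_mk, hrs]
        exact div_mul_cancel₀ _ hs
  -- the local ring is not a field
  have hnf : ¬ IsField (Localization.AtPrime (mm hj ha)) := by
    intro hf
    obtain ⟨t, ht⟩ := P.exists_uniformizer
    obtain ⟨b, c, hc, hbc⟩ := hFF t
    have ht0 : t ≠ 0 := by
      rintro rfl
      rw [map_zero] at ht
      exact WithZero.exp_ne_zero.symm ht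
    have hunit : ∀ y : Localization.AtPrime (mm hj ha), y ≠ 0 → P.1 (iota hj ha y) = 1 := by
      intro y hy
      obtain ⟨y', hy'⟩ := hf.mul_inv_cancel hy
      have h1 := congrArg (fun w => P.1 (iota hj ha w)) hy'
      simp only [map_mul, map_one] at h1
      apply le_antisymm (v_iota_le hj ha y)
      by_contra hlt
      rw [not_le] at hlt
      have h2 : P.1 (iota hj ha y) * P.1 (iota hj ha y') < 1 :=
        mul_lt_one_of_lt_of_le hlt (v_iota_le hj ha y')
      rw [h1] at h2
      exact lt_irrefl _ h2
    have hb : b ≠ 0 := by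
      rintro rfl
      rw [map_zero] at hbc
      rcases mul_eq_zero.mp hbc with h | h
      · exact ht0 h
      · exact hc ((map_eq_zero_iff _ (iota_injective hj ha)).1 h)
    have h3 := congrArg P.1 hbc
    rw [map_mul, hunit c hc, hunit b hb, mul_one, ht] at h3
    have : (-1 : ℤ) = 0 := by
      have := WithZero.exp_injective (h3.trans WithZero.exp_zero.symm)
      exact this
    omega
  have h1 : IsNonsingularAt φ P ↔ ∀ z, P.1 z ≤ 1 → z ∈ Set.range (iota hj ha) := by
    unfold IsNonsingularAt
    simp only [inLocRing_iff_mem_range hj ha]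
  have h2 := valuationRing_iff_surj (L := Localization.AtPrime (mm hj ha)) P.1 (iota hj ha)
    (iota_injective hj ha) (v_iota_le hj ha) (isUnit_of_v_iota hj ha)
    (fun z => by obtain ⟨b, c, hc, h⟩ := hFF z; exact ⟨b, c, hc, h⟩)
  refine h1.trans (h2.trans ?_)
  rw [((IsDiscreteValuationRing.TFAE _ hnf).out 1 5 : ValuationRing _ ↔ _)]
  have hmain := main_I (RingHom.ker (ev (k := k) φ j)) a (mm hj ha) (comap_mm hj ha)
  have hI : RingHom.ker (ev (k := k) φ j) = Ideal.span (G ∪ {X j - 1}) := by
    rw [Ideal.span_union, hG]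
    exact ker_aeval_ratio φ j hj.1
  have hDX : D a (X j - 1 : MvPolynomial (Fin (n + 1)) k) = Pi.single j 1 := by
    ext l
    simp [Pi.single_apply, eq_comm]
  have hW : W (RingHom.ker (ev (k := k) φ j)) a =
      Submodule.span k (insert (Pi.single j 1) (D a '' G)) := by
    have hle : Ideal.span (G ∪ {X j - 1}) ≤ Ma a := hI ▸ ker_ev_le hj ha
    rw [hI, W_span_set a _ hle, Set.image_union, Set.image_singleton, Set.union_singleton, hDX]
  rw [hW] at hmain
  omega

end Core

section Final

open FunFld IsLocalRing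

variable {k K : Type*} [Field k] [IsAlgClosed k] [Field K] [Algebra k K]

lemma algebraMap_residue_bijective (hK : IsFunctionField k K) (P : Place k K) :
    Function.Bijective (algebraMap k (ResidueField P.O)) := by
  have hdeg := Place.deg_eq_one_of_isAlgClosed hK P
  refine ⟨(algebraMap k (ResidueField P.O)).injective, fun r => ?_⟩
  obtain ⟨y, rfl⟩ := IsLocalRing.residue_surjective r
  obtain ⟨c, hc⟩ := P.exists_const_sub_lt hdeg (P.mem_O_iff.1 y.2)
  refine ⟨c, ?_⟩
  have h0 : IsLocalRing.residue P.O (y - algebraMap k P.O c) = 0 := by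
    rw [P.residue_eq_zero_iff]
    exact hc
  rw [map_sub, sub_eq_zero] at h0
  exact h0.symm

theorem jacobian_rank (hK : IsFunctionField k K) {n : ℕ} (hn : 1 ≤ n)
    (φ : Fin (n + 1) → K) (hφ : LinearIndependent k φ)
    (hbir : IntermediateField.adjoin k (Set.range fun i => φ i / φ 0) = ⊤)
    (P : Place k K) (hP : ∀ i, P.1 (φ i) ≤ P.1 (φ 0)) {r : ℕ}
    (f : Fin r → MvPolynomial (Fin (n + 1)) k)
    (hgen : Ideal.span (Set.range f) =
      RingHom.ker (MvPolynomial.aeval fun i => Polynomial.C (φ i) * Polynomial.X))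
    (M : Matrix (Fin r) (Fin n) P.O)
    (hM : ∀ i j, ((M i j : P.O) : K) =
      MvPolynomial.aeval (fun l => φ l / φ 0) (MvPolynomial.pderiv j.succ (f i))) :
    IsNonsingularAt φ P ↔ (M.map (IsLocalRing.residue P.O)).rank = n - 1 := by
  classical
  have hj : IsLeast φ P 0 := ⟨hφ.ne_zero 0, hP⟩
  have hdeg := Place.deg_eq_one_of_isAlgClosed hK P
  choose a ha using fun l => P.exists_const_sub_lt hdeg (hj.v_ratio_le l)
  rw [core hj ha hbir (Set.range f) hgen,
    finrank_span_insert_single Fin.succ 0 (fun l => by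
      rw [Fin.range_succ]; rfl)]
  set Mk : Matrix (Fin r) (Fin n) k :=
    Matrix.of fun i l => eval a (pderiv l.succ (f i)) with hMk
  have h1 : (fun v : Fin (n + 1) → k => v ∘ Fin.succ) '' (D a '' Set.range f) =
      Set.range Mk.row := by
    rw [Set.image_image, ← Set.range_comp]
    congr 1
  have h2 : M.map (IsLocalRing.residue P.O) = Mk.map (algebraMap k (ResidueField P.O)) := by
    ext i l
    simp only [Matrix.map_apply, hMk, Matrix.of_apply]
    have h3 := v_ev_sub_lt hj ha (pderiv l.succ (f i))
    have h4 : IsLocalRing.residue P.O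
        (M i l - algebraMap k P.O (eval a (pderiv l.succ (f i)))) = 0 := by
      rw [P.residue_eq_zero_iff]
      have : ((M i l - algebraMap k P.O (eval a (pderiv l.succ (f i))) : P.O) : K) =
          ev φ 0 (pderiv l.succ (f i)) - algebraMap k K (eval a (pderiv l.succ (f i))) := by
        rw [ev]
        simp only [AlgHom.toRingHom_eq_coe, RingHom.coe_coe]
        rw [← hM]
        rfl
      rw [this]
      exact h3
    rw [map_sub, sub_eq_zero] at h4
    exact h4
  rw [h1, ← Matrix.rank_eq_finrank_span_row, h2,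
    rank_map_of_bijective _ (algebraMap_residue_bijective hK P)]
  omega

omit [IsAlgClosed k] in
lemma psi_eq_zero_iff {σ : Type*} (v : σ → K) (h : MvPolynomial σ k) :
    psi v h = 0 ↔ ∀ d, aeval v (homogeneousComponent d h) = 0 := by
  rw [Polynomial.ext_iff]
  simp only [coeff_psi, Polynomial.coeff_zero]

omit [IsAlgClosed k] in
lemma ker_psi_ratio {σ : Type*} (v : σ → K) (j : σ) (hj : v j ≠ 0) :
    RingHom.ker (psi (k := k) fun l => v l / v j) = RingHom.ker (psi (k := k) v) := by
  ext h
  rw [RingHom.mem_ker, RingHom.mem_ker, psi_eq_zero_iff, psi_eq_zero_iff]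
  refine forall_congr' fun d => ?_
  rw [aeval_eq_pow_mul v j hj _ (homogeneousComponent_isHomogeneous d h), mul_eq_zero]
  constructor
  · exact fun h => Or.inr h
  · rintro (h | h)
    · exact absurd h (pow_ne_zero _ hj)
    · exact h

theorem plane_singular (hK : IsFunctionField k K) (φ : Fin 3 → K)
    (hφ : LinearIndependent k φ)
    (hbir : IntermediateField.adjoin k (Set.range fun i => φ i / φ 0) = ⊤)
    (f : MvPolynomial (Fin 3) k) (hf : Irreducible f) (hhom : f.IsHomogeneous f.totalDegree)
    (hfφ : MvPolynomial.aeval φ f = 0) (P : Place k K) (j : Fin 3)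
    (hj : ∀ i, P.1 (φ i) ≤ P.1 (φ j)) (a : Fin 3 → P.O)
    (ha : ∀ i, ((a i : P.O) : K) = φ i / φ j) :
    ¬ IsNonsingularAt φ P ↔
      ∀ l : Fin 3, MvPolynomial.aeval (fun i => IsLocalRing.residue P.O (a i))
        (MvPolynomial.pderiv l f) = 0 := by
  classical
  have hjl : IsLeast φ P j := ⟨hφ.ne_zero j, hj⟩
  have h0 : φ 0 ≠ 0 := hφ.ne_zero 0
  have hdeg := Place.deg_eq_one_of_isAlgClosed hK P
  choose a' ha' using fun l => P.exists_const_sub_lt hdeg (hjl.v_ratio_le l)
  -- birationality with respect to the index `j`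
  have hbir' : IntermediateField.adjoin k (Set.range fun i => φ i / φ j) = ⊤ := by
    rw [eq_top_iff, ← hbir, IntermediateField.adjoin_le_iff]
    rintro _ ⟨i, rfl⟩
    have h1 : φ i / φ j ∈ IntermediateField.adjoin k (Set.range fun i => φ i / φ j) :=
      IntermediateField.subset_adjoin _ _ ⟨i, rfl⟩
    have h2 : φ 0 / φ j ∈ IntermediateField.adjoin k (Set.range fun i => φ i / φ j) :=
      IntermediateField.subset_adjoin _ _ ⟨0, rfl⟩
    have : φ i / φ 0 = (φ i / φ j) / (φ 0 / φ j) := by
      have := hjl.1
      field_simp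
    show φ i / φ 0 ∈ _
    rw [this]
    exact div_mem h1 h2
  -- the ideal of relations is generated by `f`
  have hker : Ideal.span {f} = RingHom.ker (psi (k := k) φ) := by
    have hxy : IntermediateField.adjoin k ({φ 1 / φ 0, φ 2 / φ 0} : Set K) = ⊤ := by
      rw [eq_top_iff, ← hbir, IntermediateField.adjoin_le_iff]
      rintro _ ⟨i, rfl⟩
      fin_cases i
      · simp only [Fin.zero_eta, SetLike.mem_coe, div_self h0]
        exact one_mem _
      · exact IntermediateField.subset_adjoin _ _ (by simp)
      · exact IntermediateField.subset_adjoin _ _ (by simp)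
    obtain ⟨f₀, hf₀, -, hker₀⟩ := PlaneRel.main hK (φ 1 / φ 0) (φ 2 / φ 0) hxy
    have hv : (fun l => φ l / φ 0) = ![1, φ 1 / φ 0, φ 2 / φ 0] := by
      funext l
      fin_cases l <;> simp [div_self h0]
    have h3 : RingHom.ker (psi (k := k) φ) = Ideal.span {f₀} := by
      rw [← ker_psi_ratio φ 0 h0, hv]
      exact hker₀
    have hfmem : f ∈ RingHom.ker (psi (k := k) φ) := by
      rw [RingHom.mem_ker, psi_of_isHomogeneous φ f hhom, hfφ, map_zero, zero_mul]
    rw [h3, Ideal.mem_span_singleton] at hfmem
    rw [h3]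
    exact Ideal.span_singleton_eq_span_singleton.2 (hf₀.associated_of_dvd hf hfmem).symm
  -- residues
  have hres : ∀ i, IsLocalRing.residue P.O (a i) = algebraMap k (ResidueField P.O) (a' i) := by
    intro i
    have h4 : IsLocalRing.residue P.O (a i - algebraMap k P.O (a' i)) = 0 := by
      rw [P.residue_eq_zero_iff]
      have : ((a i - algebraMap k P.O (a' i) : P.O) : K) =
          φ i / φ j - algebraMap k K (a' i) := by
        rw [← ha]
        rfl
      rw [this]
      exact ha' i
    rw [map_sub, sub_eq_zero] at h4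
    exact h4
  have hinj := (algebraMap_residue_bijective hK P).1
  have hrhs : ∀ q : MvPolynomial (Fin 3) k,
      MvPolynomial.aeval (fun i => IsLocalRing.residue P.O (a i)) q = 0 ↔ eval a' q = 0 := by
    intro q
    have : (fun i => IsLocalRing.residue P.O (a i)) =
        algebraMap k (ResidueField P.O) ∘ a' := funext hres
    have h8 : MvPolynomial.aeval (algebraMap k (ResidueField P.O) ∘ a') q =
        algebraMap k (ResidueField P.O) (eval a' q) := by
      rw [MvPolynomial.aeval_def, eval, coe_eval₂Hom, MvPolynomial.eval₂_comp_left,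
        RingHom.comp_id]
    rw [this, h8, map_eq_zero_iff _ hinj]
  simp only [hrhs]
  -- `f(a') = 0` and `a'_j = 1`
  have hfa : eval a' f = 0 := by
    have h5 : f ∈ RingHom.ker (ev (k := k) φ j) := by
      rw [RingHom.mem_ker]
      have h6 := aeval_eq_pow_mul φ j hjl.1 f hhom
      rw [hfφ] at h6
      exact (mul_eq_zero.mp h6.symm).resolve_left (pow_ne_zero _ hjl.1)
    exact ker_ev_le hjl ha' h5
  have haj : a' j = 1 := by
    by_contra hne
    have h7 := ha' j
    rw [div_self hjl.1, ← map_one (algebraMap k K), ← map_sub,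
      P.v_algebraMap (sub_ne_zero.mpr (Ne.symm hne))] at h7
    exact lt_irrefl _ h7
  -- Euler
  have heuler : ∑ i, a' i * eval a' (pderiv i f) = 0 := by
    have := congrArg (eval a') hhom.sum_X_mul_pderiv
    simpa [map_sum, hfa] using this
  rw [Fin.sum_univ_succAbove _ j, haj, one_mul] at heuler
  -- the criterion
  rw [core hjl ha' hbir' {f} hker,
    finrank_span_insert_single j.succAbove j (fun l => by
      rw [Fin.range_succAbove]; rfl),
    Set.image_singleton, Set.image_singleton]
  constructor
  · intro hns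
    have hw : D a' f ∘ j.succAbove = 0 := by
      by_contra hw
      apply hns
      rw [finrank_span_singleton hw]
    have hw' : ∀ l', eval a' (pderiv (j.succAbove l') f) = 0 := by
      intro l'
      have := congrFun hw l'
      simpa using this
    intro l
    by_cases hl : l = j
    · subst hl
      rw [Finset.sum_eq_zero (fun i _ => by rw [hw' i, mul_zero]), add_zero] at heuler
      exact heuler
    · obtain ⟨l', rfl⟩ := Fin.exists_succAbove_eq hl
      exact hw' l'
  · intro hall hns
    have hw : D a' f ∘ j.succAbove = 0 := by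
      funext l'
      simp [hall]
    rw [hw, Submodule.span_zero_singleton, finrank_bot] at hns
    omega

end Final

end Groth.Agent.H7.JacFF
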