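import Groth.Agent.Lib.Helper5.FunFld.Exists
import Mathlib

/-! Ramification groups at a place: reduction to the action on a uniformizer (helper7). -/

set_option autoImplicit false

namespace Groth.Agent.H7.Ram

open FunFld WithZero Polynomial

section Newton
variable {k O : Type*} [Field k] [CommRing O] [IsLocalRing O] [Algebra k O]

/-- uniqueness of approximate simple roots -/
lemma sub_mem_of_aeval_mem (g : k[X]) (a b : O) (I : Ideal O)
    (hab : b - a ∈ IsLocalRing.maximalIdeal O) (ha : aeval a g ∈ I) (hb : aeval b g ∈ I)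
    (hu : IsUnit (aeval a (derivative g))) : b - a ∈ I := by
  obtain ⟨c, hc⟩ := Polynomial.binomExpansion (g.map (algebraMap k O)) a (b - a)
  rw [add_sub_cancel, eval_map_algebraMap, eval_map_algebraMap, derivative_map,
    eval_map_algebraMap] at hc
  have hunit : IsUnit (aeval a (derivative g) + c * (b - a)) := by
    rw [← IsLocalRing.notMem_maximalIdeal]
    intro hmem
    have : aeval a (derivative g) ∈ IsLocalRing.maximalIdeal O := by
      have h2 : c * (b - a) ∈ IsLocalRing.maximalIdeal O := Ideal.mul_mem_left _ _ hab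
      have := Ideal.sub_mem _ hmem h2
      simpa using this
    exact (IsLocalRing.notMem_maximalIdeal.2 hu) this
  obtain ⟨u, hu'⟩ := hunit
  have h3 : (b - a) * (u : O) = aeval b g - aeval a g := by
    rw [hu', hc]; ring
  have h4 : b - a = (aeval b g - aeval a g) * ((u⁻¹ : Oˣ) : O) := by
    rw [← h3, mul_assoc, Units.mul_inv, mul_one]
  rw [h4]
  exact Ideal.mul_mem_right _ _ (Ideal.sub_mem _ hb ha)

/-- Newton iteration (no completeness needed for approximate roots). -/
lemma exists_newton (g : k[X]) (a t : O) (ht : t ∈ IsLocalRing.maximalIdeal O)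
    (h0 : aeval a g ∈ Ideal.span {t})
    (hu : IsUnit (aeval a (derivative g))) (N : ℕ) :
    ∃ a', a' - a ∈ Ideal.span {t} ∧ aeval a' g ∈ Ideal.span {t ^ (N + 1)} := by
  induction N with
  | zero => exact ⟨a, by simp, by simpa using h0⟩
  | succ N ih =>
    obtain ⟨a', h1, h2⟩ := ih
    have hle : Ideal.span {t} ≤ IsLocalRing.maximalIdeal O := by
      rw [Ideal.span_le]; simpa using ht
    have hu' : IsUnit (aeval a' (derivative g)) := by
      rw [← IsLocalRing.notMem_maximalIdeal]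
      intro hmem
      have hd : a' - a ∣ aeval a' (derivative g) - aeval a (derivative g) := by
        rw [← eval_map_algebraMap, ← eval_map_algebraMap]
        exact Polynomial.sub_dvd_eval_sub _ _ _
      obtain ⟨d, hd⟩ := hd
      have : aeval a (derivative g) ∈ IsLocalRing.maximalIdeal O := by
        have h3 : aeval a' (derivative g) - aeval a (derivative g) ∈ IsLocalRing.maximalIdeal O := by
          rw [hd]; exact Ideal.mul_mem_right _ _ (hle h1)
        have := Ideal.sub_mem _ hmem h3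
        simpa using this
      exact (IsLocalRing.notMem_maximalIdeal.2 hu) this
    obtain ⟨u, hu''⟩ := hu'
    set y : O := -(((u⁻¹ : Oˣ) : O) * aeval a' g) with hy
    obtain ⟨c, hc⟩ := Polynomial.binomExpansion (g.map (algebraMap k O)) a' y
    rw [eval_map_algebraMap, eval_map_algebraMap, derivative_map,
      eval_map_algebraMap] at hc
    have hy1 : y ∈ Ideal.span {t ^ (N + 1)} := by
      rw [hy]; exact neg_mem (Ideal.mul_mem_left _ _ h2)
    refine ⟨a' + y, ?_, ?_⟩
    · have : a' + y - a = (a' - a) + y := by ring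
      rw [this]
      refine Ideal.add_mem _ h1 ?_
      obtain ⟨z, hz⟩ := Ideal.mem_span_singleton.1 hy1
      rw [hz, pow_succ', mul_assoc]
      exact Ideal.mul_mem_right _ _ (Ideal.mem_span_singleton_self t)
    · rw [hc, ← hu'']
      have h5 : aeval a' g + (u : O) * y = 0 := by
        rw [hy, mul_neg, ← mul_assoc, Units.mul_inv, one_mul, add_neg_cancel]
      rw [h5, zero_add]
      obtain ⟨z, hz⟩ := Ideal.mem_span_singleton.1 hy1
      rw [Ideal.mem_span_singleton]
      refine ⟨c * z ^ 2 * t ^ N, ?_⟩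
      rw [hz]; ring

end Newton

section Main

variable {k K : Type*} [Field k] [Field K] [Algebra k K] (Q : Place k K)

lemma exp_neg_mul_exp_neg (a b : ℕ) :
    (exp (-(a : ℤ)) : WithZero (Multiplicative ℤ)) * exp (-(b : ℤ)) = exp (-((a + b : ℕ) : ℤ)) := by
  rw [← exp_add]; congr 1; push_cast; ring

lemma exp_neg_pow (a : ℕ) :
    (exp (-(1 : ℤ)) : WithZero (Multiplicative ℤ)) ^ a = exp (-(a : ℤ)) := by
  rw [← exp_nsmul]; congr 1; simp

/-- writing an element of valuation `≤ exp (-n)` as `t^n z`. -/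
lemma exists_eq_pow_mul {t : K} (ht : Q.1 t = exp (-1)) (n : ℕ) {x : K}
    (hx : Q.1 x ≤ exp (-(n : ℤ))) : ∃ z, Q.1 z ≤ 1 ∧ x = t ^ n * z := by
  have ht0 : t ≠ 0 := by
    rintro rfl; rw [map_zero] at ht; exact exp_ne_zero ht.symm
  refine ⟨x / t ^ n, ?_, by field_simp⟩
  rw [map_div₀, map_pow, ht, exp_neg_pow]
  exact div_le_one_of_le₀ hx zero_le

lemma lt_one_iff_le_exp (y : K) : Q.1 y < 1 ↔ Q.1 y ≤ exp (-1) := by
  rcases eq_or_ne y 0 with rfl | hy
  · simp
  · rw [Q.v_eq_exp_neg_ord hy, ← exp_zero, exp_lt_exp, exp_le_exp]; omega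

lemma exp_neg_le_one (n : ℕ) : (exp (-(n : ℤ)) : WithZero (Multiplicative ℤ)) ≤ 1 := by
  rw [← exp_zero, exp_le_exp]; omega

lemma mem_span_pow_iff {t : K} (ht : Q.1 t = exp (-1)) (ht1 : Q.1 t ≤ 1) (n : ℕ) (b : Q.O) :
    b ∈ Ideal.span {(⟨t, Q.mem_O_iff.2 ht1⟩ : Q.O) ^ n} ↔ Q.1 (b : K) ≤ exp (-(n : ℤ)) := by
  rw [Ideal.mem_span_singleton]
  constructor
  · rintro ⟨z, rfl⟩
    push_cast
    rw [map_mul, map_pow, ht, exp_neg_pow]
    calc exp (-(n : ℤ)) * Q.1 (z : K) ≤ exp (-(n : ℤ)) * 1 :=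
          mul_le_mul' le_rfl (Q.mem_O_iff.1 z.2)
      _ = _ := mul_one _
  · intro h
    obtain ⟨z, hz1, hz2⟩ := exists_eq_pow_mul Q ht n h
    exact ⟨⟨z, Q.mem_O_iff.2 hz1⟩, Subtype.ext (by push_cast; exact hz2)⟩

section sigma

variable (σ : K →ₐ[k] K) (hσ : ∀ x, Q.1 x ≤ 1 → Q.1 (σ x - x) ≤ exp (-1))

include hσ in
lemma map_le_one {x : K} (hx : Q.1 x ≤ 1) : Q.1 (σ x) ≤ 1 := by
  have h2 : σ x = (σ x - x) + x := by ring
  rw [h2]
  exact (Q.1.map_add _ _).trans (max_le ((hσ x hx).trans (by simpa using exp_neg_le_one 1)) hx)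

include hσ in
lemma map_le_exp {t : K} (ht : Q.1 t = exp (-1)) (n : ℕ) {x : K}
    (hx : Q.1 x ≤ exp (-(n : ℤ))) : Q.1 (σ x) ≤ exp (-(n : ℤ)) := by
  obtain ⟨z, hz1, rfl⟩ := exists_eq_pow_mul Q ht n hx
  have ht1 : Q.1 t ≤ 1 := by rw [ht]; simpa using exp_neg_le_one 1
  have h2 : σ t = (σ t - t) + t := by ring
  have h3 : Q.1 (σ t) ≤ exp (-1) := by
    rw [h2]
    exact (Q.1.map_add _ _).trans (max_le (hσ t ht1) ht.le)
  rw [map_mul, map_pow, map_mul, map_pow]
  calc Q.1 (σ t) ^ n * Q.1 (σ z) ≤ exp (-1) ^ n * 1 :=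
        mul_le_mul' (pow_le_pow_left' h3 n) (map_le_one Q σ hσ hz1)
    _ = _ := by rw [mul_one, exp_neg_pow]

/-- membership in the "ring of `j`-invariants". -/
def InS (j : ℕ) (x : K) : Prop := Q.1 x ≤ 1 ∧ Q.1 (σ x - x) ≤ exp (-(j : ℤ))

lemma InS.add {j : ℕ} {x y : K} (hx : InS Q σ j x) (hy : InS Q σ j y) : InS Q σ j (x + y) := by
  refine ⟨(Q.1.map_add _ _).trans (max_le hx.1 hy.1), ?_⟩
  have : σ (x + y) - (x + y) = (σ x - x) + (σ y - y) := by rw [map_add]; ring
  rw [this]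
  exact (Q.1.map_add _ _).trans (max_le hx.2 hy.2)

include hσ in
lemma InS.mul {j : ℕ} {x y : K} (hx : InS Q σ j x) (hy : InS Q σ j y) : InS Q σ j (x * y) := by
  refine ⟨by rw [map_mul]; exact mul_le_one' hx.1 hy.1, ?_⟩
  have : σ (x * y) - (x * y) = σ x * (σ y - y) + (σ x - x) * y := by rw [map_mul]; ring
  rw [this]
  refine (Q.1.map_add _ _).trans (max_le ?_ ?_)
  · rw [map_mul]
    calc Q.1 (σ x) * Q.1 (σ y - y) ≤ 1 * exp (-(j : ℤ)) :=
          mul_le_mul' (map_le_one Q σ hσ hx.1) hy.2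
      _ = _ := one_mul _
  · rw [map_mul]
    calc Q.1 (σ x - x) * Q.1 y ≤ exp (-(j : ℤ)) * 1 := mul_le_mul' hx.2 hy.1
      _ = _ := mul_one _

include hσ in
lemma InS.pow {j : ℕ} {x : K} (hx : InS Q σ j x) (n : ℕ) : InS Q σ j (x ^ n) := by
  induction n with
  | zero => exact ⟨by simp, by simp⟩
  | succ n ih => rw [pow_succ]; exact ih.mul Q σ hσ hx

include hσ in
lemma InS.of_small {t : K} (ht : Q.1 t = exp (-1)) {j : ℕ} {x : K}
    (hx : Q.1 x ≤ exp (-(j : ℤ))) : InS Q σ j x := by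
  refine ⟨hx.trans (exp_neg_le_one j), ?_⟩
  exact (Q.1.map_sub _ _).trans (max_le (map_le_exp Q σ hσ ht j hx) hx)

variable [Algebra.IsSeparable k (IsLocalRing.ResidueField Q.O)]

include hσ in
/-- Every residue class contains an element of `S`. -/
lemma exists_inS_residue {t : K} (ht : Q.1 t = exp (-1)) (j : ℕ) (hj : 1 ≤ j) {x : K}
    (hx : Q.1 x ≤ 1) : ∃ s, InS Q σ j s ∧ Q.1 (x - s) < 1 := by
  have ht1 : Q.1 t ≤ 1 := by rw [ht]; simpa using exp_neg_le_one 1
  set tO : Q.O := ⟨t, Q.mem_O_iff.2 ht1⟩ with htO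
  have htm : tO ∈ IsLocalRing.maximalIdeal Q.O := by
    rw [Q.mem_maximalIdeal_iff, lt_one_iff_le_exp]; exact ht.le
  set a : Q.O := ⟨x, Q.mem_O_iff.2 hx⟩ with ha
  set abar := IsLocalRing.residue Q.O a with habar
  set g := minpoly k abar with hg
  have hsep : g.Separable := Algebra.IsSeparable.isSeparable k abar
  have hg0 : aeval abar g = 0 := minpoly.aeval k abar
  have hg1 : aeval abar (derivative g) ≠ 0 := hsep.aeval_derivative_ne_zero hg0
  -- general facts for any lift of abar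
  have key : ∀ c : Q.O, IsLocalRing.residue Q.O c = abar →
      aeval c g ∈ Ideal.span {tO} ∧ IsUnit (aeval c (derivative g)) := by
    intro c hc
    have e1 : ∀ p : k[X], IsLocalRing.residue Q.O (aeval c p) = aeval abar p := by
      intro p
      rw [← hc]
      exact (Polynomial.aeval_algebraMap_apply (IsLocalRing.ResidueField Q.O) c p).symm
    constructor
    · have : aeval c g ∈ IsLocalRing.maximalIdeal Q.O := by
        rw [← IsLocalRing.residue_eq_zero_iff, e1, hg0]
      rw [Q.mem_maximalIdeal_iff, lt_one_iff_le_exp] at this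
      have h2 := (mem_span_pow_iff Q ht ht1 1 (aeval c g)).2 (by simpa using this)
      simpa using h2
    · rw [← IsLocalRing.notMem_maximalIdeal, ← IsLocalRing.residue_eq_zero_iff, e1]
      exact hg1
  obtain ⟨N, rfl⟩ : ∃ N, j = N + 1 := ⟨j - 1, by omega⟩
  obtain ⟨a', h1, h2⟩ := exists_newton g a tO htm (key a rfl).1 (key a rfl).2 N
  have hle : Ideal.span {tO} ≤ IsLocalRing.maximalIdeal Q.O := by
    rw [Ideal.span_le]; simpa using htm
  have hres : IsLocalRing.residue Q.O a' = abar := by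
    rw [habar, ← sub_eq_zero, ← map_sub, IsLocalRing.residue_eq_zero_iff]
    exact hle h1
  have hcoe : ∀ (c : Q.O) (p : k[X]), ((aeval c p : Q.O) : K) = aeval (c : K) p := by
    intro c p
    exact (Polynomial.aeval_algebraMap_apply K c p).symm
  set s : K := (a' : K) with hs
  have hs1 : Q.1 s ≤ 1 := Q.mem_O_iff.1 a'.2
  set b : Q.O := ⟨σ s, Q.mem_O_iff.2 (map_le_one Q σ hσ hs1)⟩ with hb
  have hbg : aeval b g ∈ Ideal.span {tO ^ (N + 1)} := by
    rw [htO, mem_span_pow_iff Q ht ht1, hcoe]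
    have : aeval (b : K) g = σ (aeval s g) := by
      rw [hb]; exact Polynomial.aeval_algHom_apply σ s g
    rw [this]
    apply map_le_exp Q σ hσ ht
    rw [hs, ← hcoe, ← mem_span_pow_iff Q ht ht1]
    exact h2
  have hba : b - a' ∈ IsLocalRing.maximalIdeal Q.O := by
    rw [Q.mem_maximalIdeal_iff, lt_one_iff_le_exp]
    push_cast
    exact hσ s hs1
  have h3 := sub_mem_of_aeval_mem g a' b _ hba h2 hbg (key a' hres).2
  refine ⟨s, ⟨hs1, ?_⟩, ?_⟩
  · rw [htO, mem_span_pow_iff Q ht ht1] at h3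
    push_cast at h3
    exact h3
  · have h4 : a - a' ∈ IsLocalRing.maximalIdeal Q.O := by
      have := hle h1
      rw [← neg_sub]; exact neg_mem this
    rw [Q.mem_maximalIdeal_iff] at h4
    push_cast at h4
    exact h4

include hσ in
/-- Main theorem: an inertia automorphism moving a uniformizer by `m^j` moves every integer
by `m^j`. -/
theorem forall_sub_le_of_uniformizer {t : K} (ht : Q.1 t = exp (-1)) (j : ℕ) (hj : 1 ≤ j)
    (htj : Q.1 (σ t - t) ≤ exp (-(j : ℤ))) {x : K} (hx : Q.1 x ≤ 1) :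
    Q.1 (σ x - x) ≤ exp (-(j : ℤ)) := by
  have ht1 : Q.1 t ≤ 1 := by rw [ht]; simpa using exp_neg_le_one 1
  have htS : InS Q σ j t := ⟨ht1, htj⟩
  have step : ∀ i : ℕ, ∀ x : K, Q.1 x ≤ 1 → ∃ s, InS Q σ j s ∧ Q.1 (x - s) ≤ exp (-(i : ℤ)) := by
    intro i
    induction i with
    | zero =>
      intro x hx
      exact ⟨0, ⟨by simp, by simp⟩, by simpa using hx⟩
    | succ i ih =>
      intro x hx
      obtain ⟨s, hs, hxs⟩ := ih x hx
      obtain ⟨z, hz1, hz2⟩ := exists_eq_pow_mul Q ht i hxs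
      obtain ⟨s', hs', hzs⟩ := exists_inS_residue Q σ hσ ht j hj hz1
      refine ⟨s + t ^ i * s', hs.add Q σ ((htS.pow Q σ hσ i).mul Q σ hσ hs'), ?_⟩
      have : x - (s + t ^ i * s') = t ^ i * (z - s') := by
        rw [mul_sub, ← hz2]; ring
      rw [this, map_mul, map_pow, ht, exp_neg_pow]
      rw [lt_one_iff_le_exp] at hzs
      calc exp (-(i : ℤ)) * Q.1 (z - s') ≤ exp (-(i : ℤ)) * exp (-1) := mul_le_mul' le_rfl hzs
        _ = _ := by rw [← exp_add]; congr 1; push_cast; ring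
  obtain ⟨s, hs, hxs⟩ := step j x hx
  have h1 := (InS.of_small Q σ hσ ht hxs).add Q σ hs
  rw [sub_add_cancel] at h1
  exact h1.2

end sigma

end Main

end Groth.Agent.H7.Ram
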