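import Groth.Agent.Lib.Helper7.IC5
import Groth.Agent.Lib.Helper7.Ram1

/-! Kummer–Dedekind, unramified case: `O_P[y]` with `f̄` squarefree (helper7). -/

set_option autoImplicit false

namespace Groth.Agent.H7.KD

open FunFld WithZero Polynomial Groth.Agent.H7.IC

variable {k K K' : Type*} [Field k] [Field K] [Field K'] [Algebra k K] [Algebra K K'] [Algebra k K']
  [IsScalarTower k K K'] [FiniteDimensional K K'] (P : Place k K) [Algebra P.O K']
  [IsScalarTower P.O K K']

/-- the subalgebra `O_P[y]`. -/
noncomputable def Aof (y : K') : Subalgebra P.O K' := (aeval y : P.O[X] →ₐ[P.O] K').range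

variable {P}

lemma aeval_mem_Aof (y : K') (g : P.O[X]) : aeval y g ∈ Aof P y := ⟨g, rfl⟩

lemma dvd_of_mem_maximalIdeal {t : K} (ht : P.1 t = exp (-1)) (ht1 : P.1 t ≤ 1) (a : P.O)
    (ha : a ∈ IsLocalRing.maximalIdeal P.O) : (⟨t, P.mem_O_iff.2 ht1⟩ : P.O) ∣ a := by
  rw [P.mem_maximalIdeal_iff, Groth.Agent.H7.Ram.lt_one_iff_le_exp] at ha
  have := (Groth.Agent.H7.Ram.mem_span_pow_iff P ht ht1 1 a).2 (by simpa using ha)
  rw [pow_one] at this
  exact Ideal.mem_span_singleton.1 this

theorem redData {n : ℕ} (f : P.O[X]) (hmonic : f.Monic) (hdeg : f.natDegree = n) (y : K')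
    (hroot : aeval y f = 0) (hli : LinearIndependent K (fun i : Fin n => y ^ (i : ℕ)))
    (hsq : Squarefree (f.map (IsLocalRing.residue P.O))) {t : K} (ht : P.1 t = exp (-1)) :
    RedData P (Aof P y) t (fun i : Fin n => y ^ (i : ℕ)) := by
  have ht1 : P.1 t ≤ 1 := by rw [ht, ← exp_zero, exp_le_exp]; norm_num
  set tO : P.O := ⟨t, P.mem_O_iff.2 ht1⟩ with htO
  have hyint : IsIntegral P.O y := ⟨f, hmonic, hroot⟩
  -- reduction modulo f
  have hmod : ∀ g : P.O[X], aeval y g = aeval y (g %ₘ f) := by
    intro g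
    conv_lhs => rw [← Polynomial.modByMonic_add_div g f]
    rw [map_add, map_mul, hroot, zero_mul, add_zero]
  have hsum : ∀ g : P.O[X], g.natDegree < n ∨ g = 0 →
      aeval y g = ∑ i : Fin n, ((g.coeff i : P.O) : K) • y ^ (i : ℕ) := by
    intro g hg
    have hlt : g.natDegree < n ∨ n = 0 ∧ g = 0 := by
      rcases hg with h | h
      · exact Or.inl h
      · rcases Nat.eq_zero_or_pos n with h0 | h0
        · exact Or.inr ⟨h0, h⟩
        · left; rw [h]; simpa using h0
    rcases hlt with hlt | ⟨h0, hg0⟩
    · rw [Polynomial.aeval_eq_sum_range' hlt, ← Fin.sum_univ_eq_sum_range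
        (fun i => g.coeff i • y ^ i) n]
      refine Finset.sum_congr rfl (fun i _ => ?_)
      exact O_smul_eq (K' := K') P _ _
    · subst h0; rw [hg0]; simp
  have hdegmod : ∀ g : P.O[X], (g %ₘ f).natDegree < n ∨ g %ₘ f = 0 := by
    intro g
    by_cases h0 : g %ₘ f = 0
    · exact Or.inr h0
    · left
      have := Polynomial.degree_modByMonic_lt g hmonic
      rw [← hdeg]
      exact Polynomial.natDegree_lt_natDegree h0 this
  refine ⟨ht, hli, fun i => ?_, ?_, ?_, ?_⟩
  · have : y ^ (i : ℕ) = aeval y (X ^ (i : ℕ) : P.O[X]) := by simp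
    rw [this]; exact aeval_mem_Aof y _
  · rintro _ ⟨g, rfl⟩
    apply inB_of_isIntegral P
    exact IsIntegral.of_mem_of_fg _ hyint.fg_adjoin_singleton _
      (by rw [Algebra.adjoin_singleton_eq_range_aeval]; exact ⟨g, rfl⟩)
  · rintro _ ⟨g, rfl⟩
    refine ⟨fun i => (((g %ₘ f).coeff i : P.O) : K), fun i => P.mem_O_iff.1 (Subtype.mem _), ?_⟩
    change aeval y g = _
    rw [hmod g, hsum _ (hdegmod g)]
  · rintro _ ⟨g, rfl⟩ s ⟨_, ⟨w, rfl⟩, hw⟩
    change aeval y g ^ s = _ at hw
    change ∃ w' ∈ Aof P y, aeval y g = _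
    set h := g ^ s - C tO * w with hh
    have h0 : aeval y h = 0 := by
      rw [hh, map_sub, map_pow, map_mul, aeval_C, hw, algebraMap_O_apply (K' := K') P tO]
      exact sub_self _
    have hdvd : f ∣ h := by
      rw [← Polynomial.modByMonic_eq_zero_iff_dvd hmonic]
      have h1 := hmod h
      rw [h0, hsum _ (hdegmod h)] at h1
      have h2 := Fintype.linearIndependent_iff.1 hli _ h1.symm
      by_contra hne
      rcases hdegmod h with hlt | h0'
      · apply hne
        apply Polynomial.ext
        intro i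
        rw [coeff_zero]
        by_cases hi : i < n
        · have := h2 ⟨i, hi⟩
          simp only at this
          exact Subtype.ext this
        · exact Polynomial.coeff_eq_zero_of_natDegree_lt (by omega)
      · exact hne h0'
    -- reduce mod the maximal ideal
    set res := IsLocalRing.residue P.O with hres
    have hC : (C tO : P.O[X]).map res = 0 := by
      rw [Polynomial.map_C]
      have : res tO = 0 := by
        rw [hres, P.residue_eq_zero_iff, ht, ← exp_zero, exp_lt_exp]; norm_num
      rw [this, map_zero]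
    have hdvd' : f.map res ∣ (g.map res) ^ s := by
      have := Polynomial.map_dvd res hdvd
      rwa [hh, Polynomial.map_sub, Polynomial.map_pow, Polynomial.map_mul, hC, zero_mul,
        sub_zero] at this
    have hs0 : s ≠ 0 := by
      rintro rfl
      rw [pow_zero] at hdvd'
      have h1 := Polynomial.natDegree_eq_zero_of_isUnit (isUnit_of_dvd_one hdvd')
      rw [hmonic.natDegree_map res] at h1
      have hf1 : f = 1 := hmonic.natDegree_eq_zero.1 h1
      rw [hf1, map_one] at hroot
      exact one_ne_zero hroot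
    have hdvd'' : f.map res ∣ g.map res :=
      (hsq.dvd_pow_iff_dvd hs0).1 hdvd'
    obtain ⟨ubar, hubar⟩ := hdvd''
    obtain ⟨u, rfl⟩ := Polynomial.map_surjective res IsLocalRing.residue_surjective ubar
    set d := g - f * u with hd
    have hd0 : d.map res = 0 := by
      rw [hd, Polynomial.map_sub, Polynomial.map_mul, hubar, sub_self]
    have hCd : C tO ∣ d := by
      rw [Polynomial.C_dvd_iff_dvd_coeff]
      intro i
      apply dvd_of_mem_maximalIdeal ht ht1
      rw [← IsLocalRing.residue_eq_zero_iff]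
      have := congrArg (fun p => p.coeff i) hd0
      simp only [Polynomial.coeff_map, Polynomial.coeff_zero] at this
      exact this
    obtain ⟨g', hg'⟩ := hCd
    refine ⟨aeval y g', aeval_mem_Aof y g', ?_⟩
    have hg : g = f * u + C tO * g' := by rw [← hg', hd]; ring
    rw [hg, map_add, map_mul, hroot, zero_mul, zero_add, map_mul, aeval_C,
      algebraMap_O_apply (K' := K') P tO]

end Groth.Agent.H7.KD
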