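import Groth.Agent.Lib.Helper7.KD1
import Groth.Agent.Lib.Helper5.FunFld.Div

/-! In a finite separable extension almost all places are unramified (helper7). -/

set_option autoImplicit false

namespace Groth.Agent.H7.KD

open FunFld WithZero Polynomial Groth.Agent.H7.IC

variable {k K K' : Type*} [Field k] [Field K] [Field K'] [Algebra k K] [Algebra K K'] [Algebra k K']
  [IsScalarTower k K K'] [FiniteDimensional K K']

/-- finitely many places where some element of a finite set has a pole -/
lemma finite_bad (hK : IsFunctionField k K) (S : Finset K) :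
    {P : Place k K | ∃ x ∈ S, 1 < P.1 x}.Finite := by
  classical
  have : {P : Place k K | ∃ x ∈ S, 1 < P.1 x} ⊆
      ⋃ x ∈ S, Function.support fun P : Place k K => P.ord x := by
    rintro P ⟨x, hxS, hx⟩
    simp only [Set.mem_iUnion]
    refine ⟨x, hxS, ?_⟩
    have hx0 : x ≠ 0 := by rintro rfl; simp at hx
    rw [Function.mem_support]
    intro h0
    have := (P.v_eq_one_iff hx0).2 h0
    rw [this] at hx
    exact lt_irrefl _ hx
  exact (S.finite_toSet.biUnion (fun x _ => finite_support_ord hK x)).subset this

lemma lifts_of_coeffs_le (P : Place k K) (p : K[X]) (h : ∀ x ∈ p.coeffs, P.1 x ≤ 1) :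
    p ∈ Polynomial.lifts (algebraMap P.O K) := by
  rw [Polynomial.lifts_iff_coeff_lifts]
  intro n
  by_cases h0 : p.coeff n = 0
  · exact ⟨0, by rw [map_zero, h0]⟩
  · exact ⟨⟨p.coeff n, P.mem_O_iff.2 (h _ (Polynomial.coeff_mem_coeffs h0))⟩, rfl⟩

/-- at a good place everything over it is unramified -/
theorem isOverWith_one_of_good (hK : IsFunctionField k K) (P : Place k K) (y : K')
    (hy : IntermediateField.adjoin K ({y} : Set K') = ⊤) (a b : K[X])
    (hab : a * minpoly K y + b * derivative (minpoly K y) = 1)
    (hgood : ∀ x, (x ∈ (minpoly K y).coeffs ∨ x ∈ a.coeffs ∨ x ∈ b.coeffs) → P.1 x ≤ 1)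
    {Q : Place k K'} (hQ : IsOver Q P) : IsOverWith Q P 1 := by
  classical
  let _ : Algebra P.O K' := ((algebraMap K K').comp (algebraMap P.O K)).toAlgebra
  have : IsScalarTower P.O K K' := IsScalarTower.of_algebraMap_eq (fun _ => rfl)
  have hint : IsIntegral K y := Algebra.IsIntegral.isIntegral y
  set f := minpoly K y with hf
  have hfm : f.Monic := minpoly.monic hint
  have hdegf : f.natDegree = Module.finrank K K' := by
    rw [hf, ← IntermediateField.adjoin.finrank hint, hy, IntermediateField.finrank_top']
  have hf_l := lifts_of_coeffs_le P f (fun x hx => hgood x (Or.inl hx))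
  have ha_l := lifts_of_coeffs_le P a (fun x hx => hgood x (Or.inr (Or.inl hx)))
  have hb_l := lifts_of_coeffs_le P b (fun x hx => hgood x (Or.inr (Or.inr hx)))
  obtain ⟨fO, hfO1, hfO2, hfO3⟩ := Polynomial.lifts_and_natDegree_eq_and_monic hf_l hfm
  obtain ⟨aO, haO⟩ := (Polynomial.mem_lifts _).1 ha_l
  obtain ⟨bO, hbO⟩ := (Polynomial.mem_lifts _).1 hb_l
  have hinj : Function.Injective (algebraMap P.O K) := Subtype.val_injective
  have hid : aO * fO + bO * derivative fO = 1 := by
    apply Polynomial.map_injective _ hinj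
    rw [Polynomial.map_add, Polynomial.map_mul, Polynomial.map_mul, ← Polynomial.derivative_map,
      haO, hbO, hfO1, hab, Polynomial.map_one]
  set res := IsLocalRing.residue P.O with hres
  have hsep : (fO.map res).Separable := by
    refine ⟨aO.map res, bO.map res, ?_⟩
    rw [Polynomial.derivative_map, ← Polynomial.map_mul, ← Polynomial.map_mul,
      ← Polynomial.map_add, hid, Polynomial.map_one]
  have hroot : aeval y fO = 0 := by
    have : aeval y fO = aeval y (fO.map (algebraMap P.O K)) :=
      (Polynomial.aeval_map_algebraMap K y fO).symm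
    rw [this, hfO1, hf, minpoly.aeval]
  have hli : LinearIndependent K (fun i : Fin fO.natDegree => y ^ (i : ℕ)) := by
    have := linearIndependent_pow (K := K) y
    rw [hfO2, hf]
    exact this
  obtain ⟨t, ht⟩ := P.exists_uniformizer
  have D := redData fO hfO3 rfl y hroot hli hsep.squarefree ht
  exact D.isOverWith_one hK (by rw [hfO2, hdegf]) hQ

theorem finite_ramified (hK : IsFunctionField k K) [Algebra.IsSeparable K K'] :
    {Q : Place k K' | ¬ Function.Surjective (Q.1.comap (algebraMap K K'))}.Finite := by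
  classical
  obtain ⟨y, hy⟩ := Field.exists_primitive_element K K'
  have hsep : (minpoly K y).Separable := Algebra.IsSeparable.isSeparable K y
  obtain ⟨a, b, hab⟩ := hsep
  set S := (minpoly K y).coeffs ∪ a.coeffs ∪ b.coeffs with hS
  have hbad := finite_bad hK S
  have hsub : {Q : Place k K' | ¬ Function.Surjective (Q.1.comap (algebraMap K K'))} ⊆
      ⋃ P ∈ {P : Place k K | ∃ x ∈ S, 1 < P.1 x}, {Q : Place k K' | IsOver Q P} := by
    intro Q hQ
    obtain ⟨P, e, he⟩ := exists_isOverWith hK.isFF1 Q
    simp only [Set.mem_iUnion, Set.mem_setOf_eq]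
    refine ⟨P, ?_, ⟨e, he⟩⟩
    by_contra hgood
    push Not at hgood
    have hgood' : ∀ x, (x ∈ (minpoly K y).coeffs ∨ x ∈ a.coeffs ∨ x ∈ b.coeffs) → P.1 x ≤ 1 := by
      intro x hx
      apply hgood x
      rw [hS]
      simp only [Finset.mem_union]
      tauto
    have h1 := isOverWith_one_of_good hK P y hy a b hab hgood' ⟨e, he⟩
    apply hQ
    intro γ
    obtain ⟨x, hx⟩ := P.surj γ
    refine ⟨x, ?_⟩
    rw [Valuation.comap_apply, h1 x, pow_one, hx]
  exact (hbad.biUnion (fun P _ => finite_isOver hK.isFF1 P)).subset hsub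

end Groth.Agent.H7.KD
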