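import Mathlib

/-! Kähler differentials of a separably generated field extension (helper7). -/

set_option autoImplicit false

universe u

namespace Groth.Agent.H7.KO

open MvPolynomial TensorProduct

theorem finrank_kaehler (K L : Type u) [Field K] [Field L] [Algebra K L]
    (n : ℕ) (a : Fin n → L) (ha : AlgebraicIndependent K a)
    (hsep : Algebra.IsSeparable ↥(IntermediateField.adjoin K (Set.range a)) L) :
    Module.finrank L (Ω[L⁄K]) = n := by
  classical
  let P := MvPolynomial (Fin n) K
  let E := IntermediateField.adjoin K (Set.range a)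
  let Fr := FractionRing P
  -- algebra structures
  letI algPL : Algebra P L := (aeval a : P →ₐ[K] L).toAlgebra
  haveI towerKPL : IsScalarTower K P L := IsScalarTower.of_algebraMap_eq (fun c => by
    rw [RingHom.algebraMap_toAlgebra]
    exact ((aeval a : P →ₐ[K] L).commutes c).symm)
  let f : P →ₐ[K] E := (ha.aevalEquivField.toAlgHom).comp (IsScalarTower.toAlgHom K P Fr)
  letI algPE : Algebra P E := f.toAlgebra
  haveI towerPEL : IsScalarTower P E L := IsScalarTower.of_algebraMap_eq (fun p => by
    rw [RingHom.algebraMap_toAlgebra, RingHom.algebraMap_toAlgebra]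
    change aeval a p = ((ha.aevalEquivField (algebraMap P Fr p) : E) : L)
    rw [ha.aevalEquivField_algebraMap_apply_coe])
  -- `E` is formally étale over `P`
  let e : Fr ≃ₐ[P] E := AlgEquiv.ofRingEquiv (f := ha.aevalEquivField.toRingEquiv) (fun p => by
    rw [RingHom.algebraMap_toAlgebra]
    rfl)
  haveI : Algebra.FormallyEtale P Fr :=
    Algebra.FormallyEtale.of_isLocalization (nonZeroDivisors P)
  haveI : Algebra.FormallyEtale P E := Algebra.FormallyEtale.of_equiv e
  haveI : Algebra.FormallyEtale E L := Algebra.FormallyEtale.of_isSeparable E L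
  haveI : Algebra.FormallyEtale P L := Algebra.FormallyEtale.comp P E L
  have e2 := KaehlerDifferential.tensorKaehlerEquivOfFormallyEtale K P L
  rw [← LinearEquiv.finrank_eq e2, Module.finrank_baseChange,
    Module.finrank_eq_card_basis (KaehlerDifferential.mvPolynomialBasis K (Fin n)), Fintype.card_fin]

end Groth.Agent.H7.KO
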