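import Mathlib
open scoped TensorProduct
universe u

namespace Groth.Agent.H7.KaehlerAlg

open IntermediateField.algebraAdjoinAdjoin in
theorem main {k K : Type u} [Field k] [CharZero k] [Field K] [Algebra k K] :
    Subsingleton (Ω[K⁄k]) ↔ Algebra.IsAlgebraic k K := by
  constructor
  · intro hsub
    obtain ⟨s, hs⟩ := exists_isTranscendenceBasis k K
    rw [← hs.isEmpty_iff_isAlgebraic]
    by_contra hne
    rw [not_isEmpty_iff] at hne
    obtain ⟨x₀⟩ := hne
    have hv : AlgebraicIndependent k ((↑) : s → K) := hs.1
    let A := Algebra.adjoin k (Set.range ((↑) : s → K))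
    let F := IntermediateField.adjoin k (Set.range ((↑) : s → K))
    haveI : Algebra.IsAlgebraic F K := hs.isAlgebraic_field
    haveI : CharZero F := charZero_of_injective_algebraMap (algebraMap k F).injective
    haveI : Algebra.IsSeparable F K := inferInstance
    haveI : Algebra.FormallyEtale F K := Algebra.FormallyEtale.of_isSeparable F K
    haveI : Algebra.FormallyEtale A F := .of_isLocalization (nonZeroDivisors A)
    haveI : Algebra.FormallyEtale A K := .comp A F K
    let e : MvPolynomial s k ≃ₐ[k] A := hv.aevalEquiv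
    -- the derivation
    let L : A →ₗ[k] K := (Algebra.linearMap A K).restrictScalars k ∘ₗ e.toLinearMap ∘ₗ
      (MvPolynomial.pderiv x₀ : Derivation k (MvPolynomial s k) (MvPolynomial s k)).toLinearMap ∘ₗ
      e.symm.toLinearMap
    have hL : ∀ a : A, L a = algebraMap A K (e (MvPolynomial.pderiv x₀ (e.symm a))) := fun a => rfl
    let D' : Derivation k A K := Derivation.mk' L (by
      intro a b
      rw [hL, hL, hL, map_mul, Derivation.leibniz, smul_eq_mul, smul_eq_mul, map_add, map_mul, map_mul,
        e.apply_symm_apply, e.apply_symm_apply, map_add, map_mul, map_mul, Algebra.smul_def,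
        Algebra.smul_def])
    let ℓ : K ⊗[A] Ω[A⁄k] →ₗ[K] K := LinearMap.liftBaseChange K D'.liftKaehlerDifferential
    let x₀' : A := ⟨x₀, Algebra.subset_adjoin ⟨x₀, rfl⟩⟩
    have hx₀ : e.symm x₀' = MvPolynomial.X x₀ := by
      rw [AlgEquiv.symm_apply_eq]
      apply Subtype.ext
      show (x₀ : K) = algebraMap A K (hv.aevalEquiv (MvPolynomial.X x₀))
      rw [hv.algebraMap_aevalEquiv, MvPolynomial.aeval_X]
    have h1 : ℓ (1 ⊗ₜ KaehlerDifferential.D k A x₀') = 1 := by
      rw [LinearMap.liftBaseChange_tmul, one_smul, Derivation.liftKaehlerDifferential_comp_D]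
      show L x₀' = 1
      rw [hL, hx₀, MvPolynomial.pderiv_X_self, map_one, map_one]
    haveI : Subsingleton (K ⊗[A] Ω[A⁄k]) :=
      (KaehlerDifferential.tensorKaehlerEquivOfFormallyEtale k A K).toEquiv.subsingleton
    have h0 : ℓ (1 ⊗ₜ KaehlerDifferential.D k A x₀') = 0 := by
      rw [Subsingleton.elim (1 ⊗ₜ KaehlerDifferential.D k A x₀') 0, map_zero]
    rw [h1] at h0
    exact one_ne_zero h0
  · intro halg
    haveI : Algebra.IsSeparable k K := inferInstance
    haveI : Algebra.FormallyUnramified k K := Algebra.FormallyUnramified.of_isSeparable k K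
    infer_instance

end Groth.Agent.H7.KaehlerAlg
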