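import Mathlib
open scoped TensorProduct
universe u

namespace Groth.Agent.H7.KaehlerSym

variable (A : Type u) [CommRing A] (M : Type u) [AddCommGroup M] [Module A M]

local notation "C" => SymmetricAlgebra A M
local notation "N" => (SymmetricAlgebra A M) ⊗[A] M

/-- the algebra map to the trivial square zero extension -/
noncomputable def toExt : C →ₐ[A] TrivSqZeroExt C N :=
  SymmetricAlgebra.lift
    (((TrivSqZeroExt.inlAlgHom A C N).toLinearMap ∘ₗ SymmetricAlgebra.ι A M) +
      ((TrivSqZeroExt.inrHom C N).restrictScalars A ∘ₗ (TensorProduct.mk A C M 1)))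

lemma toExt_ι (m : M) : toExt A M (SymmetricAlgebra.ι A M m) =
    TrivSqZeroExt.inl (SymmetricAlgebra.ι A M m) + TrivSqZeroExt.inr ((1 : C) ⊗ₜ[A] m) := by
  unfold toExt
  rw [SymmetricAlgebra.lift_ι_apply]
  rfl

lemma fst_toExt (c : C) : (toExt A M c).fst = c := by
  have : (TrivSqZeroExt.fstHom A C N).comp (toExt A M) = AlgHom.id A C := by
    apply SymmetricAlgebra.algHom_ext
    ext m
    simp [toExt_ι]
  exact congrArg (fun f => f c) this

/-- the derivation -/
noncomputable def δ : Derivation A C N :=
  Derivation.mk' ((TrivSqZeroExt.sndHom C N).restrictScalars A ∘ₗ (toExt A M).toLinearMap) (by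
    intro a b
    show (toExt A M (a * b)).snd = a • (toExt A M b).snd + b • (toExt A M a).snd
    rw [map_mul, TrivSqZeroExt.snd_mul, fst_toExt, fst_toExt, op_smul_eq_smul])

lemma δ_ι (m : M) : δ A M (SymmetricAlgebra.ι A M m) = (1 : C) ⊗ₜ[A] m := by
  show (toExt A M (SymmetricAlgebra.ι A M m)).snd = _
  rw [toExt_ι]
  simp

theorem main :
    Function.Bijective (LinearMap.liftBaseChange (SymmetricAlgebra A M)
      ((KaehlerDifferential.D A (SymmetricAlgebra A M)).toLinearMap.restrictScalars A ∘ₗ SymmetricAlgebra.ι A M)) := by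
  set Φ := LinearMap.liftBaseChange (SymmetricAlgebra A M)
      ((KaehlerDifferential.D A (SymmetricAlgebra A M)).toLinearMap.restrictScalars A ∘ₗ SymmetricAlgebra.ι A M) with hΦ
  have hΦ1 : ∀ (c : C) (m : M), Φ (c ⊗ₜ m) = c • KaehlerDifferential.D A C (SymmetricAlgebra.ι A M m) := by
    intro c m
    rw [hΦ, LinearMap.liftBaseChange_tmul]
    rfl
  constructor
  · -- left inverse
    have hleft : (δ A M).liftKaehlerDifferential ∘ₗ Φ = LinearMap.id := by
      apply TensorProduct.AlgebraTensorModule.curry_injective
      ext m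
      simp only [TensorProduct.AlgebraTensorModule.curry_apply, LinearMap.restrictScalars_comp,
        TensorProduct.curry_apply, LinearMap.coe_comp, LinearMap.coe_restrictScalars,
        Function.comp_apply, LinearMap.id_coe, id_eq]
      rw [hΦ1, one_smul, Derivation.liftKaehlerDifferential_comp_D, δ_ι]
    intro x y hxy
    have := congrArg (δ A M).liftKaehlerDifferential hxy
    have h2 : ∀ z, (δ A M).liftKaehlerDifferential (Φ z) = z := fun z =>
      congrArg (fun f => f z) hleft
    rwa [h2, h2] at this
  · rw [← LinearMap.range_eq_top, eq_top_iff, ← KaehlerDifferential.span_range_derivation,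
      Submodule.span_le]
    rintro _ ⟨c, rfl⟩
    induction c using SymmetricAlgebra.induction with
    | algebraMap r =>
      rw [Derivation.map_algebraMap]
      exact zero_mem _
    | ι m => exact ⟨1 ⊗ₜ m, by rw [hΦ1, one_smul]⟩
    | mul a b ha hb =>
      rw [Derivation.leibniz]
      exact add_mem (Submodule.smul_mem _ _ hb) (Submodule.smul_mem _ _ ha)
    | add a b ha hb =>
      rw [map_add]
      exact add_mem ha hb

end Groth.Agent.H7.KaehlerSym
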