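import Mathlib
import Groth.Prelude.Def_W4c2quivmodsheafKron
universe u v w

namespace Groth.Agent.H7.Kron

open KronMod Module

section
variable {K : Type u} [Field K] {V : Type v} {W : Type w}
  [AddCommGroup V] [Module K V] [AddCommGroup W] [Module K W] {n : ℕ}

/-- the sum map `Vⁿ → W`. -/
def Φ (f : Fin n → (V →ₗ[K] W)) : (Fin n → V) →ₗ[K] W :=
  ∑ j, (f j).comp (LinearMap.proj j)

@[simp] theorem Φ_apply (f : Fin n → (V →ₗ[K] W)) (v : Fin n → V) :
    Φ f v = ∑ j, f j (v j) := by
  simp [Φ]

theorem Φ_single (f : Fin n → (V →ₗ[K] W)) (j : Fin n) (v : V) :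
    Φ f (Pi.single j v) = f j v := by
  rw [Φ_apply, Finset.sum_eq_single j]
  · rw [Pi.single_eq_same]
  · intro i _ hij
    rw [Pi.single_eq_of_ne hij, map_zero]
  · intro h; exact absurd (Finset.mem_univ j) h

/-- the product map `V → Wⁿ`. -/
def Ψ (f : Fin n → (V →ₗ[K] W)) : V →ₗ[K] (Fin n → W) := LinearMap.pi f

@[simp] theorem Ψ_apply (f : Fin n → (V →ₗ[K] W)) (v : V) (j : Fin n) :
    Ψ f v j = f j v := rfl

theorem isSubrep_top_range (f : Fin n → (V →ₗ[K] W)) :
    IsSubrep f ⊤ (LinearMap.range (Φ f)) := by
  intro j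
  rintro _ ⟨v, -, rfl⟩
  exact ⟨Pi.single j v, Φ_single f j v⟩

theorem isSubrep_ker_bot (f : Fin n → (V →ₗ[K] W)) :
    IsSubrep f (LinearMap.ker (Ψ f)) ⊥ := by
  intro j
  rintro _ ⟨v, hv, rfl⟩
  rw [Submodule.mem_bot]
  have := congrFun (LinearMap.mem_ker.mp hv) j
  simpa using this

variable [FiniteDimensional K V] [FiniteDimensional K W]

theorem finrank_fun (V' : Type*) [AddCommGroup V'] [Module K V'] [FiniteDimensional K V'] :
    finrank K (Fin n → V') = n * finrank K V' := by
  rw [Module.finrank_pi_fintype, Finset.sum_const, Finset.card_univ, Fintype.card_fin,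
    smul_eq_mul]

omit [FiniteDimensional K W] in
theorem finrank_range_Φ_le (f : Fin n → (V →ₗ[K] W)) :
    finrank K (LinearMap.range (Φ f)) ≤ n * finrank K V := by
  rw [← finrank_fun (K := K) (n := n) V]
  exact LinearMap.finrank_range_le _

/-- if `Φ` is injective then subrepresentations satisfy `n dim V' ≤ dim W'`. -/
theorem mul_finrank_le_of_injective_Φ (f : Fin n → (V →ₗ[K] W))
    (hΦ : Function.Injective (Φ f)) (V' : Submodule K V) (W' : Submodule K W)
    (h : IsSubrep f V' W') : n * finrank K V' ≤ finrank K W' := by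
  let g : (Fin n → V') →ₗ[K] W' :=
    LinearMap.codRestrict W' ((Φ f).comp (LinearMap.pi fun j => V'.subtype.comp (LinearMap.proj j)))
      (by
        intro v
        simp only [LinearMap.comp_apply, Φ_apply, LinearMap.pi_apply, LinearMap.proj_apply,
          Submodule.subtype_apply]
        apply Submodule.sum_mem
        intro j _
        exact h j ⟨v j, (v j).2, rfl⟩)
  have hg : Function.Injective g := by
    intro x y hxy
    have h1 : Φ f (fun j => (x j : V)) = Φ f (fun j => (y j : V)) := congrArg Subtype.val hxy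
    have h2 := hΦ h1
    funext j
    exact Subtype.ext (congrFun h2 j)
  have := LinearMap.finrank_le_finrank_of_injective hg
  rwa [finrank_fun] at this

omit [FiniteDimensional K V] in
/-- if `Ψ` is injective then subrepresentations satisfy `dim V' ≤ n dim W'`. -/
theorem finrank_le_mul_of_injective_Ψ (f : Fin n → (V →ₗ[K] W))
    (hΨ : Function.Injective (Ψ f)) (V' : Submodule K V) (W' : Submodule K W)
    (h : IsSubrep f V' W') : finrank K V' ≤ n * finrank K W' := by
  let g : V' →ₗ[K] (Fin n → W') :=
    LinearMap.pi fun j => LinearMap.codRestrict W' ((f j).comp V'.subtype)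
      (fun v => h j ⟨v, v.2, rfl⟩)
  have hg : Function.Injective g := by
    intro x y hxy
    apply Subtype.ext
    apply hΨ
    funext j
    have := congrArg Subtype.val (congrFun hxy j)
    exact this
  have := LinearMap.finrank_le_finrank_of_injective hg
  rwa [finrank_fun] at this

theorem S15560 (f : Fin n → (V →ₗ[K] W))
    (hV : 0 < Module.finrank K V) (hW : 0 < Module.finrank K W)
    (h : n * Module.finrank K V < Module.finrank K W ∨ n * Module.finrank K W < Module.finrank K V) :
    ¬ KronMod.IsSemistable f := by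
  rintro ⟨-, hss⟩
  rcases h with h | h
  · have hle := finrank_range_Φ_le f
    have hne : LinearMap.range (Φ f) ≠ ⊤ := by
      intro htop
      rw [htop, finrank_top] at hle
      omega
    have := hss ⊤ (LinearMap.range (Φ f)) (isSubrep_top_range f)
      (fun ⟨h1, _⟩ => by
        have : finrank K (⊤ : Submodule K V) = 0 := by rw [h1, finrank_bot]
        rw [finrank_top] at this
        omega)
      (fun ⟨_, h2⟩ => hne h2)
    rw [finrank_top] at this
    have h3 : finrank K W ≤ finrank K (LinearMap.range (Φ f)) := by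
      rw [mul_comm] at this
      exact Nat.le_of_mul_le_mul_left this hV
    omega
  · have hker : finrank K V ≤ finrank K (LinearMap.ker (Ψ f)) + n * finrank K W := by
      have h1 := LinearMap.finrank_range_add_finrank_ker (Ψ f)
      have h2 : finrank K (LinearMap.range (Ψ f)) ≤ n * finrank K W := by
        rw [← finrank_fun (K := K) (n := n) W]
        exact Submodule.finrank_le _
      omega
    have hne : LinearMap.ker (Ψ f) ≠ ⊥ := by
      intro hbot
      rw [hbot, finrank_bot] at hker
      omega
    have := hss (LinearMap.ker (Ψ f)) ⊥ (isSubrep_ker_bot f)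
      (fun ⟨h1, _⟩ => hne h1)
      (fun ⟨_, h2⟩ => by
        have : finrank K (⊤ : Submodule K W) = 0 := by rw [← h2, finrank_bot]
        rw [finrank_top] at this
        omega)
    rw [finrank_bot, mul_zero] at this
    have h3 : finrank K (LinearMap.ker (Ψ f)) = 0 := by
      rcases Nat.eq_zero_or_pos (finrank K (LinearMap.ker (Ψ f))) with h0 | h0
      · exact h0
      · have := Nat.mul_pos hW h0
        omega
    omega

omit [FiniteDimensional K V] in
/-- a map sending `V'` into `W'` injectively gives `dim V' ≤ dim W'`. -/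
theorem finrank_le_of_injective_mapsTo (g : V →ₗ[K] W) (hg : Function.Injective g)
    (V' : Submodule K V) (W' : Submodule K W) (h : ∀ v ∈ V', g v ∈ W') :
    finrank K V' ≤ finrank K W' := by
  let g' : V' →ₗ[K] W' := LinearMap.codRestrict W' (g.comp V'.subtype) (fun v => h v v.2)
  have hg' : Function.Injective g' := by
    intro x y hxy
    apply Subtype.ext
    apply hg
    exact congrArg Subtype.val hxy
  exact LinearMap.finrank_le_finrank_of_injective hg'

omit [FiniteDimensional K V] in
theorem S15571 (f : Fin n → (V →ₗ[K] W)) (k : ℕ) (hk : 1 ≤ k)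
    (hV : Module.finrank K V = k) (hW : Module.finrank K W = k)
    (z : Fin n → K) (hz : Function.Bijective ((∑ j, z j • f j : V →ₗ[K] W) : V → W)) :
    KronMod.IsSemistable f := by
  refine ⟨by omega, ?_⟩
  intro V' W' hsub _ _
  rw [hV, hW]
  apply Nat.mul_le_mul_left
  apply finrank_le_of_injective_mapsTo _ hz.1
  intro v hv
  rw [LinearMap.sum_apply]
  apply Submodule.sum_mem
  intro j _
  rw [LinearMap.smul_apply]
  exact Submodule.smul_mem _ _ (hsub j ⟨v, hv, rfl⟩)

omit [FiniteDimensional K V] [FiniteDimensional K W] in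
theorem eq_bot_or_eq_top_of_finrank_eq_one {U : Type*} [AddCommGroup U] [Module K U]
    [FiniteDimensional K U]
    (hU : finrank K U = 1) (U' : Submodule K U) : U' = ⊥ ∨ U' = ⊤ := by
  have hle := Submodule.finrank_le U'
  rw [hU] at hle
  rcases Nat.le_one_iff_eq_zero_or_eq_one.mp hle with h0 | h1
  · left; exact Submodule.finrank_eq_zero.mp h0
  · right
    apply Submodule.eq_top_of_finrank_eq
    rw [h1, hU]

theorem S15564 (f : Fin n → (V →ₗ[K] W))
    (hV : Module.finrank K V = 1) (hW : Module.finrank K W = 1) :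
    (KronMod.IsSemistable f ↔ f ≠ 0) ∧ (KronMod.IsStable f ↔ f ≠ 0) := by
  have hzero : f = 0 → ¬ KronMod.IsSemistable f := by
    rintro rfl ⟨-, hss⟩
    have := hss ⊤ ⊥ (by
        intro j
        rintro _ ⟨v, -, rfl⟩
        simp)
      (fun ⟨h1, _⟩ => by
        have : finrank K (⊤ : Submodule K V) = 0 := by rw [h1, finrank_bot]
        rw [finrank_top] at this
        omega)
      (fun ⟨_, h2⟩ => by
        have : finrank K (⊤ : Submodule K W) = 0 := by rw [← h2, finrank_bot]
        rw [finrank_top] at this
        omega)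
    rw [finrank_top, finrank_bot, hV, hW] at this
    omega
  have hstable : f ≠ 0 → KronMod.IsStable f := by
    intro hf
    refine ⟨by omega, ?_⟩
    intro V' W' hsub hbot htop
    rw [hV, hW, one_mul, one_mul]
    rcases eq_bot_or_eq_top_of_finrank_eq_one hV V' with hV' | hV'
    · rcases eq_bot_or_eq_top_of_finrank_eq_one hW W' with hW' | hW'
      · exact absurd ⟨hV', hW'⟩ hbot
      · rw [hV', hW', finrank_bot, finrank_top, hW]
        omega
    · rcases eq_bot_or_eq_top_of_finrank_eq_one hW W' with hW' | hW'
      · exfalso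
        apply hf
        funext j
        ext v
        have := hsub j ⟨v, by rw [hV']; trivial, rfl⟩
        rw [hW', Submodule.mem_bot] at this
        simpa using this
      · exact absurd ⟨hV', hW'⟩ htop
  have hst_ss : KronMod.IsStable f → KronMod.IsSemistable f := by
    rintro ⟨h0, hs⟩
    exact ⟨h0, fun V' W' h1 h2 h3 => (hs V' W' h1 h2 h3).le⟩
  refine ⟨⟨fun h hf => hzero hf h, fun h => hst_ss (hstable h)⟩,
    ⟨fun h hf => hzero hf (hst_ss h), hstable⟩⟩

omit [FiniteDimensional K V] [FiniteDimensional K W] in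
theorem coe_Φ (f : Fin n → (V →ₗ[K] W)) :
    (fun v : Fin n → V => ∑ j, f j (v j)) = ⇑(Φ f) := by
  funext v; rw [Φ_apply]

omit [FiniteDimensional K V] [FiniteDimensional K W] in
theorem coe_Ψ (f : Fin n → (V →ₗ[K] W)) :
    (fun v : V => fun j : Fin n => f j v) = ⇑(Ψ f) := rfl

theorem top_ne_bot_of_pos {U : Type*} [AddCommGroup U] [Module K U] (hU : 0 < finrank K U) :
    (⊤ : Submodule K U) ≠ ⊥ := by
  intro h
  have : finrank K (⊤ : Submodule K U) = 0 := by rw [h, finrank_bot]
  rw [finrank_top] at this
  omega

theorem semistable_iff_Φ (f : Fin n → (V →ₗ[K] W))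
    (hV : 0 < Module.finrank K V) (hW : Module.finrank K W = n * Module.finrank K V) :
    KronMod.IsSemistable f ↔ Function.Bijective (Φ f) := by
  have hdim : finrank K (Fin n → V) = finrank K W := by rw [finrank_fun, hW]
  constructor
  · rintro ⟨-, hss⟩
    have hsurj : Function.Surjective (Φ f) := by
      rw [← LinearMap.range_eq_top]
      by_contra hne
      have := hss ⊤ (LinearMap.range (Φ f)) (isSubrep_top_range f)
        (fun ⟨h1, _⟩ => top_ne_bot_of_pos hV h1) (fun ⟨_, h2⟩ => hne h2)
      rw [finrank_top, mul_comm] at this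
      have h3 : finrank K W ≤ finrank K (LinearMap.range (Φ f)) :=
        Nat.le_of_mul_le_mul_left this hV
      exact hne (Submodule.eq_top_of_finrank_eq (le_antisymm (Submodule.finrank_le _) h3))
    exact ⟨(LinearMap.injective_iff_surjective_of_finrank_eq_finrank hdim).mpr hsurj, hsurj⟩
  · rintro ⟨hinj, -⟩
    refine ⟨by omega, ?_⟩
    intro V' W' hsub _ _
    have := mul_finrank_le_of_injective_Φ f hinj V' W' hsub
    rw [hW]
    calc n * finrank K V * finrank K V' = finrank K V * (n * finrank K V') := by ring
      _ ≤ finrank K V * finrank K W' := Nat.mul_le_mul_left _ this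

theorem S15561 (f : Fin n → (V →ₗ[K] W))
    (hV : 0 < Module.finrank K V) (hW : Module.finrank K W = n * Module.finrank K V) :
    KronMod.IsSemistable f ↔ Function.Bijective (fun v : Fin n → V => ∑ j, f j (v j)) := by
  rw [coe_Φ]
  exact semistable_iff_Φ f hV hW

theorem semistable_iff_Ψ (f : Fin n → (V →ₗ[K] W))
    (hW : 0 < Module.finrank K W) (hV : Module.finrank K V = n * Module.finrank K W) :
    KronMod.IsSemistable f ↔ Function.Bijective (Ψ f) := by
  have hdim : finrank K V = finrank K (Fin n → W) := by rw [finrank_fun, hV]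
  constructor
  · rintro ⟨-, hss⟩
    have hinj : Function.Injective (Ψ f) := by
      rw [← LinearMap.ker_eq_bot]
      by_contra hne
      have := hss (LinearMap.ker (Ψ f)) ⊥ (isSubrep_ker_bot f)
        (fun ⟨h1, _⟩ => hne h1) (fun ⟨_, h2⟩ => top_ne_bot_of_pos hW h2.symm)
      rw [finrank_bot, mul_zero] at this
      have h3 : finrank K (LinearMap.ker (Ψ f)) = 0 := by
        rcases Nat.eq_zero_or_pos (finrank K (LinearMap.ker (Ψ f))) with h0 | h0
        · exact h0
        · have := Nat.mul_pos hW h0
          omega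
      exact hne (Submodule.finrank_eq_zero.mp h3)
    exact ⟨hinj, (LinearMap.injective_iff_surjective_of_finrank_eq_finrank hdim).mp hinj⟩
  · rintro ⟨hinj, -⟩
    refine ⟨by omega, ?_⟩
    intro V' W' hsub _ _
    have := finrank_le_mul_of_injective_Ψ f hinj V' W' hsub
    rw [hV]
    calc finrank K W * finrank K V' ≤ finrank K W * (n * finrank K W') :=
          Nat.mul_le_mul_left _ this
      _ = n * finrank K W * finrank K W' := by ring

theorem S15572 (f : Fin n → (V →ₗ[K] W))
    (hW : 0 < Module.finrank K W) (hV : Module.finrank K V = n * Module.finrank K W) :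
    KronMod.IsSemistable f ↔ Function.Bijective (fun v : V => fun j : Fin n => f j v) := by
  rw [coe_Ψ]
  exact semistable_iff_Ψ f hW hV

theorem S15562 (n : ℕ) (hV : 0 < Module.finrank K V)
    (hW : Module.finrank K W = n * Module.finrank K V) :
    (∃ f : Fin n → (V →ₗ[K] W), KronMod.IsSemistable f) ∧
    ∀ f f' : Fin n → (V →ₗ[K] W), KronMod.IsSemistable f → KronMod.IsSemistable f' →
      KronMod.AreIso f f' := by
  constructor
  · have hdim : finrank K (Fin n → V) = finrank K W := by rw [finrank_fun, hW]
    let e : (Fin n → V) ≃ₗ[K] W := LinearEquiv.ofFinrankEq _ _ hdim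
    refine ⟨fun j => e.toLinearMap.comp (LinearMap.single K (fun _ => V) j), ?_⟩
    rw [semistable_iff_Φ _ hV hW]
    have : ⇑(Φ fun j => e.toLinearMap.comp (LinearMap.single K (fun _ => V) j)) = ⇑e := by
      funext v
      rw [Φ_apply]
      simp only [LinearMap.comp_apply, LinearEquiv.coe_coe, LinearMap.single_apply]
      rw [← map_sum, Finset.univ_sum_single]
    rw [this]
    exact e.bijective
  · intro f f' hf hf'
    rw [semistable_iff_Φ _ hV hW] at hf hf'
    let e₁ := LinearEquiv.ofBijective (Φ f) hf
    let e₂ := LinearEquiv.ofBijective (Φ f') hf'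
    refine ⟨LinearEquiv.refl K V, e₁.symm.trans e₂, ?_⟩
    intro j
    ext v
    simp only [LinearMap.comp_apply, LinearEquiv.coe_coe, LinearEquiv.trans_apply,
      LinearEquiv.refl_apply]
    have h1 : e₁.symm (f j v) = Pi.single j v := by
      rw [LinearEquiv.symm_apply_eq]
      exact (Φ_single f j v).symm
    rw [h1]
    exact Φ_single f' j v

theorem S15569 (n : ℕ) (hW : 0 < Module.finrank K W)
    (hV : Module.finrank K V = n * Module.finrank K W) :
    (∃ f : Fin n → (V →ₗ[K] W), KronMod.IsSemistable f) ∧
    ∀ f f' : Fin n → (V →ₗ[K] W), KronMod.IsSemistable f → KronMod.IsSemistable f' →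
      KronMod.AreIso f f' := by
  constructor
  · have hdim : finrank K V = finrank K (Fin n → W) := by rw [finrank_fun, hV]
    let e : V ≃ₗ[K] (Fin n → W) := LinearEquiv.ofFinrankEq _ _ hdim
    refine ⟨fun j => (LinearMap.proj j).comp e.toLinearMap, ?_⟩
    rw [semistable_iff_Ψ _ hW hV]
    have : ⇑(Ψ fun j => (LinearMap.proj j).comp e.toLinearMap) = ⇑e := by
      funext v
      funext j
      rfl
    rw [this]
    exact e.bijective
  · intro f f' hf hf'
    rw [semistable_iff_Ψ _ hW hV] at hf hf'
    let e₁ := LinearEquiv.ofBijective (Ψ f) hf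
    let e₂ := LinearEquiv.ofBijective (Ψ f') hf'
    refine ⟨e₁.trans e₂.symm, LinearEquiv.refl K W, ?_⟩
    intro j
    ext v
    simp only [LinearMap.comp_apply, LinearEquiv.coe_coe, LinearEquiv.trans_apply,
      LinearEquiv.refl_apply]
    have h1 : Ψ f' (e₂.symm (e₁ v)) = e₁ v := e₂.apply_symm_apply (e₁ v)
    have h2 := congrFun h1 j
    rw [Ψ_apply] at h2
    rw [h2]
    rfl

omit [FiniteDimensional K V] [FiniteDimensional K W] in
theorem semistable_of_stable (f : Fin n → (V →ₗ[K] W)) (h : KronMod.IsStable f) :
    KronMod.IsSemistable f :=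
  ⟨h.1, fun V' W' h1 h2 h3 => (h.2 V' W' h1 h2 h3).le⟩

theorem S15563 (f : Fin n → (V →ₗ[K] W))
    (hV : 0 < Module.finrank K V) (hW : Module.finrank K W = n * Module.finrank K V) :
    KronMod.IsStable f ↔ (KronMod.IsSemistable f ∧ Module.finrank K V = 1) := by
  constructor
  · intro hst
    refine ⟨semistable_of_stable f hst, ?_⟩
    by_contra hne
    have hV2 : 2 ≤ finrank K V := by omega
    obtain ⟨v, hv⟩ : ∃ v : V, v ≠ 0 := by
      have : Nontrivial V := Module.nontrivial_of_finrank_pos hV
      exact exists_ne 0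
    have hL : finrank K (Submodule.span K {v}) = 1 := finrank_span_singleton hv
    set W' := Submodule.span K (Set.range fun j => f j v) with hW'
    have hW'le : finrank K W' ≤ n := by
      have := finrank_range_le_card (R := K) (fun j => f j v)
      rw [Fintype.card_fin] at this
      exact this
    have hsub : IsSubrep f (Submodule.span K {v}) W' := by
      intro j
      rintro _ ⟨x, hx, rfl⟩
      obtain ⟨c, rfl⟩ := Submodule.mem_span_singleton.mp hx
      rw [map_smul]
      exact Submodule.smul_mem _ _ (Submodule.subset_span ⟨j, rfl⟩)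
    have := hst.2 _ _ hsub
      (fun ⟨h1, _⟩ => by rw [h1, finrank_bot] at hL; omega)
      (fun ⟨h1, _⟩ => by rw [h1, finrank_top] at hL; omega)
    rw [hL, mul_one, hW] at this
    have h2 : finrank K V * finrank K W' ≤ finrank K V * n := Nat.mul_le_mul_left _ hW'le
    rw [mul_comm (finrank K V) n] at h2
    omega
  · rintro ⟨hss, hV1⟩
    have hbij := (semistable_iff_Φ f hV hW).mp hss
    refine ⟨hss.1, ?_⟩
    intro V' W' hsub hbot htop
    rcases eq_bot_or_eq_top_of_finrank_eq_one hV1 V' with hV' | hV'
    · have hW'ne : W' ≠ ⊥ := fun h => hbot ⟨hV', h⟩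
      have : 0 < finrank K W' := by
        rw [Nat.pos_iff_ne_zero]
        intro h0
        exact hW'ne (Submodule.finrank_eq_zero.mp h0)
      rw [hV', finrank_bot, mul_zero, hV1, one_mul]
      exact this
    · exfalso
      apply htop
      refine ⟨hV', ?_⟩
      rw [eq_top_iff]
      intro w _
      obtain ⟨x, rfl⟩ := hbij.2 w
      rw [Φ_apply]
      apply Submodule.sum_mem
      intro j _
      exact hsub j ⟨x j, by rw [hV']; trivial, rfl⟩

theorem S15570 (f : Fin n → (V →ₗ[K] W))
    (hW : 0 < Module.finrank K W) (hV : Module.finrank K V = n * Module.finrank K W) :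
    KronMod.IsStable f ↔ (KronMod.IsSemistable f ∧ Module.finrank K W = 1) := by
  constructor
  · intro hst
    refine ⟨semistable_of_stable f hst, ?_⟩
    by_contra hne
    have hW2 : 2 ≤ finrank K W := by omega
    obtain ⟨w, hw⟩ : ∃ w : W, w ≠ 0 := by
      have : Nontrivial W := Module.nontrivial_of_finrank_pos hW
      exact exists_ne 0
    set L := Submodule.span K {w} with hLdef
    have hL : finrank K L = 1 := finrank_span_singleton hw
    have hQ : finrank K (W ⧸ L) + 1 = finrank K W := by
      rw [← hL]; exact Submodule.finrank_quotient_add_finrank L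
    let χ : V →ₗ[K] (Fin n → W ⧸ L) := LinearMap.pi fun j => L.mkQ.comp (f j)
    have hker : finrank K V ≤ finrank K (LinearMap.ker χ) + n * finrank K (W ⧸ L) := by
      have h1 := LinearMap.finrank_range_add_finrank_ker χ
      have h2 : finrank K (LinearMap.range χ) ≤ n * finrank K (W ⧸ L) := by
        rw [← finrank_fun (K := K) (n := n) (W ⧸ L)]
        exact Submodule.finrank_le _
      omega
    have hsub : IsSubrep f (LinearMap.ker χ) L := by
      intro j
      rintro _ ⟨x, hx, rfl⟩
      have h1 := congrFun (LinearMap.mem_ker.mp hx) j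
      have h2 : L.mkQ (f j x) = 0 := h1
      rwa [Submodule.mkQ_apply, Submodule.Quotient.mk_eq_zero] at h2
    have := hst.2 _ _ hsub
      (fun ⟨_, h1⟩ => by rw [h1, finrank_bot] at hL; omega)
      (fun ⟨_, h1⟩ => by rw [h1, finrank_top] at hL; omega)
    rw [hL, mul_one, hV] at this
    -- finrank W * finrank ker < n * finrank W, so finrank ker < n
    have h3 : finrank K (LinearMap.ker χ) < n := by
      by_contra hge
      push Not at hge
      have := Nat.mul_le_mul_left (finrank K W) hge
      rw [mul_comm (finrank K W) n] at this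
      omega
    have h4 : n * finrank K W = n * finrank K (W ⧸ L) + n := by rw [← hQ]; ring
    omega
  · rintro ⟨hss, hW1⟩
    have hbij := (semistable_iff_Ψ f hW hV).mp hss
    refine ⟨hss.1, ?_⟩
    intro V' W' hsub hbot htop
    rcases eq_bot_or_eq_top_of_finrank_eq_one hW1 W' with hW' | hW'
    · exfalso
      apply hbot
      refine ⟨?_, hW'⟩
      rw [eq_bot_iff]
      intro x hx
      rw [Submodule.mem_bot]
      apply hbij.1
      funext j
      have := hsub j ⟨x, hx, rfl⟩
      rw [hW', Submodule.mem_bot] at this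
      rw [Ψ_apply, this, map_zero]
      rfl
    · have hV'ne : V' ≠ ⊤ := fun h => htop ⟨h, hW'⟩
      have hlt : finrank K V' < finrank K V := Submodule.finrank_lt hV'ne
      rw [hW', finrank_top, hW1, one_mul, mul_one]
      exact hlt

end

end Groth.Agent.H7.Kron
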