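import Mathlib
import Groth.Prelude.Def_W4c2quivmodsheafKron
import Groth.Agent.Lib.Helper7.Kron
universe u v w

namespace Groth.Agent.H7.Kron

open KronMod Module

section
variable {K : Type u} [Field K] {V : Type v} {W : Type w}
  [AddCommGroup V] [Module K V] [AddCommGroup W] [Module K W] {n : ℕ}
  [FiniteDimensional K V] [FiniteDimensional K W]

omit [FiniteDimensional K V] [FiniteDimensional K W] in
theorem finrank_span_singleton_le_one (w : W) : finrank K (Submodule.span K {w}) ≤ 1 := by
  by_cases hw : w = 0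
  · rw [hw, Submodule.span_zero_singleton, finrank_bot]; omega
  · rw [finrank_span_singleton hw]

omit [FiniteDimensional K V] [FiniteDimensional K W] in
/-- a vector `v ≠ 0` all of whose images lie on a common line destabilises. -/
theorem not_stable_of_common_line (f : Fin n → (V →ₗ[K] W)) (k : ℕ) (hk : 2 ≤ k)
    (hV : Module.finrank K V = k) (hW : Module.finrank K W = k)
    (v : V) (hv : v ≠ 0) (w : W) (h : ∀ j, f j v ∈ Submodule.span K {w}) :
    ¬ KronMod.IsStable f := by
  intro hst
  have hL : finrank K (Submodule.span K {v}) = 1 := finrank_span_singleton hv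
  have hsub : IsSubrep f (Submodule.span K {v}) (Submodule.span K {w}) := by
    intro j
    rintro _ ⟨x, hx, rfl⟩
    obtain ⟨c, rfl⟩ := Submodule.mem_span_singleton.mp hx
    rw [map_smul]
    exact Submodule.smul_mem _ _ (h j)
  have := hst.2 _ _ hsub
    (fun ⟨h1, _⟩ => by rw [h1, finrank_bot] at hL; omega)
    (fun ⟨h1, _⟩ => by rw [h1, finrank_top] at hL; omega)
  rw [hL, hV, hW, mul_one] at this
  have h2 := Nat.mul_le_mul_left k (finrank_span_singleton_le_one (K := K) w)
  omega

theorem S15565 [IsAlgClosed K] (f : Fin 2 → (V →ₗ[K] W)) (k : ℕ) (hk : 2 ≤ k)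
    (hV : Module.finrank K V = k) (hW : Module.finrank K W = k) :
    ¬ KronMod.IsStable f := by
  by_cases hinj : Function.Injective (f 1)
  · have hdim : finrank K V = finrank K W := by rw [hV, hW]
    have hsurj := (LinearMap.injective_iff_surjective_of_finrank_eq_finrank hdim).mp hinj
    let e : V ≃ₗ[K] W := LinearEquiv.ofBijective (f 1) ⟨hinj, hsurj⟩
    have : Nontrivial V := Module.nontrivial_of_finrank_pos (R := K) (by omega)
    obtain ⟨μ, hμ⟩ := Module.End.exists_eigenvalue (e.symm.toLinearMap.comp (f 0))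
    obtain ⟨v, hv⟩ := hμ.exists_hasEigenvector
    have h0 : f 0 v = μ • f 1 v := by
      have h1 := hv.apply_eq_smul
      simp only [LinearMap.comp_apply, LinearEquiv.coe_coe] at h1
      rw [LinearEquiv.symm_apply_eq] at h1
      rw [h1, map_smul]
      rfl
    apply not_stable_of_common_line f k hk hV hW v hv.2 (f 1 v)
    intro j
    fin_cases j
    · simp only [Fin.zero_eta]
      rw [h0]
      exact Submodule.smul_mem _ _ (Submodule.mem_span_singleton_self _)
    · exact Submodule.mem_span_singleton_self _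
  · have hker : LinearMap.ker (f 1) ≠ ⊥ := by
      rwa [Ne, LinearMap.ker_eq_bot]
    obtain ⟨v, hvmem, hv⟩ := Submodule.exists_mem_ne_zero_of_ne_bot hker
    apply not_stable_of_common_line f k hk hV hW v hv (f 0 v)
    intro j
    fin_cases j
    · exact Submodule.mem_span_singleton_self _
    · simp only [Fin.mk_one]
      rw [LinearMap.mem_ker.mp hvmem]
      exact Submodule.zero_mem _

/-- from a subrepresentation of the dual to one of `f`. -/
theorem exists_subrep_of_dual (f : Fin n → (V →ₗ[K] W))
    (A' : Submodule K (Module.Dual K W)) (B' : Submodule K (Module.Dual K V))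
    (h : IsSubrep (fun j => (f j).dualMap) A' B') :
    ∃ (V' : Submodule K V) (W' : Submodule K W), IsSubrep f V' W' ∧
      finrank K B' + finrank K V' = finrank K V ∧ finrank K A' + finrank K W' = finrank K W := by
  refine ⟨B'.dualCoannihilator, A'.dualCoannihilator, ?_,
    Subspace.finrank_add_finrank_dualCoannihilator_eq B',
    Subspace.finrank_add_finrank_dualCoannihilator_eq A'⟩
  intro j
  rintro _ ⟨v, hv, rfl⟩
  rw [SetLike.mem_coe, Submodule.mem_dualCoannihilator] at hv
  rw [Submodule.mem_dualCoannihilator]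
  intro φ hφ
  have := hv ((f j).dualMap φ) (h j ⟨φ, hφ, rfl⟩)
  rwa [LinearMap.dualMap_apply] at this

/-- from a subrepresentation of `f` to one of the dual. -/
theorem exists_subrep_dual (f : Fin n → (V →ₗ[K] W))
    (V' : Submodule K V) (W' : Submodule K W) (h : IsSubrep f V' W') :
    ∃ (A' : Submodule K (Module.Dual K W)) (B' : Submodule K (Module.Dual K V)),
      IsSubrep (fun j => (f j).dualMap) A' B' ∧
      finrank K V' + finrank K B' = finrank K V ∧ finrank K W' + finrank K A' = finrank K W := by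
  refine ⟨W'.dualAnnihilator, V'.dualAnnihilator, ?_,
    Subspace.finrank_add_finrank_dualAnnihilator_eq V',
    Subspace.finrank_add_finrank_dualAnnihilator_eq W'⟩
  intro j
  rintro _ ⟨φ, hφ, rfl⟩
  rw [SetLike.mem_coe, Submodule.mem_dualAnnihilator] at hφ
  rw [Submodule.mem_dualAnnihilator]
  intro v hv
  rw [LinearMap.dualMap_apply]
  exact hφ _ (h j ⟨v, hv, rfl⟩)

omit [FiniteDimensional K V] [FiniteDimensional K W] in
theorem finrank_eq_zero_of_eq_bot {U : Type*} [AddCommGroup U] [Module K U] {U' : Submodule K U}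
    (h : U' = ⊥) : finrank K U' = 0 := by rw [h, finrank_bot]

/-- general transfer principle between two modules whose subrepresentations correspond with
complementary dimensions. -/
theorem transfer {V₁ W₁ V₂ W₂ : Type*} [AddCommGroup V₁] [Module K V₁] [AddCommGroup W₁]
    [Module K W₁] [AddCommGroup V₂] [Module K V₂] [AddCommGroup W₂] [Module K W₂]
    [FiniteDimensional K V₁] [FiniteDimensional K W₁] [FiniteDimensional K V₂]
    [FiniteDimensional K W₂]
    (f₁ : Fin n → (V₁ →ₗ[K] W₁)) (f₂ : Fin n → (V₂ →ₗ[K] W₂))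
    (hVW : finrank K V₂ = finrank K W₁) (hWV : finrank K W₂ = finrank K V₁)
    (hcorr : ∀ (A' : Submodule K V₂) (B' : Submodule K W₂), IsSubrep f₂ A' B' →
      ∃ (V' : Submodule K V₁) (W' : Submodule K W₁), IsSubrep f₁ V' W' ∧
        finrank K B' + finrank K V' = finrank K V₁ ∧ finrank K A' + finrank K W' = finrank K W₁) :
    (IsSemistable f₁ → IsSemistable f₂) ∧ (IsStable f₁ → IsStable f₂) := by
  have key : ∀ (A' : Submodule K V₂) (B' : Submodule K W₂), IsSubrep f₂ A' B' →
      ¬ (A' = ⊥ ∧ B' = ⊥) → ¬ (A' = ⊤ ∧ B' = ⊤) →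
      ∃ (V' : Submodule K V₁) (W' : Submodule K W₁), IsSubrep f₁ V' W' ∧
        ¬ (V' = ⊥ ∧ W' = ⊥) ∧ ¬ (V' = ⊤ ∧ W' = ⊤) ∧
        finrank K B' + finrank K V' = finrank K V₁ ∧
        finrank K A' + finrank K W' = finrank K W₁ := by
    intro A' B' hsub hbot htop
    obtain ⟨V', W', hs, h1, h2⟩ := hcorr A' B' hsub
    refine ⟨V', W', hs, ?_, ?_, h1, h2⟩
    · rintro ⟨hV', hW'⟩
      apply htop
      rw [hV', finrank_bot, add_zero] at h1
      rw [hW', finrank_bot, add_zero] at h2
      exact ⟨Submodule.eq_top_of_finrank_eq (by rw [h2, hVW]),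
        Submodule.eq_top_of_finrank_eq (by rw [h1, hWV])⟩
    · rintro ⟨hV', hW'⟩
      apply hbot
      rw [hV', finrank_top] at h1
      rw [hW', finrank_top] at h2
      exact ⟨Submodule.finrank_eq_zero.mp (by omega), Submodule.finrank_eq_zero.mp (by omega)⟩
  constructor
  · rintro ⟨h0, hss⟩
    refine ⟨by omega, ?_⟩
    intro A' B' hsub hbot htop
    obtain ⟨V', W', hs, hb, ht, h1, h2⟩ := key A' B' hsub hbot htop
    have := hss V' W' hs hb ht
    rw [hVW, hWV]
    zify at this h1 h2 ⊢
    nlinarith
  · rintro ⟨h0, hss⟩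
    refine ⟨by omega, ?_⟩
    intro A' B' hsub hbot htop
    obtain ⟨V', W', hs, hb, ht, h1, h2⟩ := key A' B' hsub hbot htop
    have := hss V' W' hs hb ht
    rw [hVW, hWV]
    zify at this h1 h2 ⊢
    nlinarith

theorem S15567 (f : Fin n → (V →ₗ[K] W)) :
    (KronMod.IsSemistable f ↔ KronMod.IsSemistable (fun j => (f j).dualMap)) ∧
    (KronMod.IsStable f ↔ KronMod.IsStable (fun j => (f j).dualMap)) := by
  have h1 := transfer f (fun j => (f j).dualMap) Subspace.dual_finrank_eq
    Subspace.dual_finrank_eq (fun A' B' h => exists_subrep_of_dual f A' B' h)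
  have h2 := transfer (fun j => (f j).dualMap) f Subspace.dual_finrank_eq.symm
    Subspace.dual_finrank_eq.symm (fun V' W' h => by
      obtain ⟨A', B', hs, e1, e2⟩ := exists_subrep_dual f V' W' h
      exact ⟨A', B', hs, by rw [Subspace.dual_finrank_eq]; omega,
        by rw [Subspace.dual_finrank_eq]; omega⟩)
  exact ⟨⟨h1.1, h2.1⟩, ⟨h1.2, h2.2⟩⟩

end

end Groth.Agent.H7.Kron
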