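import Mathlib
import Groth.Prelude.Def_W4c2quivmodsheafKron
import Groth.Agent.Lib.Helper7.Kron2
universe u v w

namespace Groth.Agent.H7.Kron

open KronMod Module

section
variable {K : Type u} [Field K]

/-- comap along a quotient map raises the dimension by at least one when the kernel is nonzero. -/
theorem finrank_comap_mkQ_ge {V : Type v} [AddCommGroup V] [Module K V] [FiniteDimensional K V]
    (L : Submodule K V) (v₀ : V) (hv₀ : v₀ ≠ 0) (hv₀L : v₀ ∈ L) (V' : Submodule K (V ⧸ L)) :
    finrank K V' + 1 ≤ finrank K (V'.comap L.mkQ) := by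
  let q : (V'.comap L.mkQ) →ₗ[K] V' := L.mkQ.restrict (fun x hx => hx)
  have hq : Function.Surjective q := by
    rintro ⟨y, hy⟩
    obtain ⟨x, rfl⟩ := L.mkQ_surjective y
    exact ⟨⟨x, hy⟩, rfl⟩
  have h1 := LinearMap.finrank_range_add_finrank_ker q
  rw [LinearMap.range_eq_top.mpr hq, finrank_top] at h1
  have h2 : 1 ≤ finrank K (LinearMap.ker q) := by
    rw [Submodule.one_le_finrank_iff]
    intro hbot
    have hmem : (⟨v₀, by
        rw [Submodule.mem_comap, Submodule.mkQ_apply, (Submodule.Quotient.mk_eq_zero L).mpr hv₀L]
        exact zero_mem _⟩ : V'.comap L.mkQ) ∈ LinearMap.ker q := by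
      rw [LinearMap.mem_ker]
      apply Subtype.ext
      exact (Submodule.Quotient.mk_eq_zero L).mpr hv₀L
    rw [hbot, Submodule.mem_bot] at hmem
    exact hv₀ (congrArg Subtype.val hmem)
  omega

/-- comap along the quotient by a line raises the dimension by at most one. -/
theorem finrank_comap_mkQ_le {W : Type w} [AddCommGroup W] [Module K W] [FiniteDimensional K W]
    (L : Submodule K W) (hL : finrank K L ≤ 1) (W' : Submodule K (W ⧸ L)) :
    finrank K (W'.comap L.mkQ) ≤ finrank K W' + 1 := by
  let q : (W'.comap L.mkQ) →ₗ[K] W' := L.mkQ.restrict (fun x hx => hx)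
  have h1 := LinearMap.finrank_range_add_finrank_ker q
  have h2 : finrank K (LinearMap.range q) ≤ finrank K W' := Submodule.finrank_le _
  have h3 : finrank K (LinearMap.ker q) ≤ 1 := by
    let ι : LinearMap.ker q →ₗ[K] L :=
      LinearMap.codRestrict L ((W'.comap L.mkQ).subtype.comp (LinearMap.ker q).subtype) (by
        rintro ⟨⟨x, hx⟩, hxk⟩
        have h4 : q ⟨x, hx⟩ = 0 := hxk
        have h5 : L.mkQ x = 0 := congrArg Subtype.val h4
        rwa [Submodule.mkQ_apply, Submodule.Quotient.mk_eq_zero] at h5)
    have hι : Function.Injective ι := by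
      intro x y hxy
      apply Subtype.ext
      apply Subtype.ext
      have h6 := congrArg Subtype.val hxy
      exact h6
    have := LinearMap.finrank_le_finrank_of_injective hι
    exact this.trans hL
  omega

theorem pencil_claim [IsAlgClosed K] (k : ℕ) :
    ∀ (V : Type v) (W : Type w) [AddCommGroup V] [Module K V] [AddCommGroup W] [Module K W]
      [FiniteDimensional K V] [FiniteDimensional K W],
      finrank K V = k → finrank K W = k →
      ∀ (a b : V →ₗ[K] W) (S : Finset K), (∀ t, t ∉ S → ¬ Function.Injective (a + t • b)) →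
      ∃ (V' : Submodule K V) (W' : Submodule K W), V'.map a ≤ W' ∧ V'.map b ≤ W' ∧
        finrank K W' < finrank K V' := by
  classical
  induction k with
  | zero =>
    intro V W _ _ _ _ _ _ hV hW a b S hS
    exfalso
    obtain ⟨t, ht⟩ := Infinite.exists_notMem_finset S
    apply hS t ht
    have : Subsingleton V := Module.finrank_zero_iff.mp hV
    intro x y _
    exact Subsingleton.elim _ _
  | succ k ih =>
    intro V W _ _ _ _ _ _ hV hW a b S hS
    obtain ⟨t₀, ht₀⟩ := Infinite.exists_notMem_finset S
    have hg := hS t₀ ht₀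
    have hker : LinearMap.ker (a + t₀ • b) ≠ ⊥ := by rwa [Ne, LinearMap.ker_eq_bot]
    obtain ⟨v₀, hv₀mem, hv₀⟩ := Submodule.exists_mem_ne_zero_of_ne_bot hker
    have hav₀ : a v₀ = -(t₀ • b v₀) := by
      have := LinearMap.mem_ker.mp hv₀mem
      simp only [LinearMap.add_apply, LinearMap.smul_apply] at this
      exact eq_neg_of_add_eq_zero_left this
    by_cases hw₁ : b v₀ = 0
    · refine ⟨Submodule.span K {v₀}, ⊥, ?_, ?_, ?_⟩
      · rw [Submodule.map_span, Set.image_singleton, hav₀, hw₁, smul_zero, neg_zero]
        simp
      · rw [Submodule.map_span, Set.image_singleton, hw₁]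
        simp
      · rw [finrank_bot, finrank_span_singleton hv₀]
        omega
    · have haL : Submodule.span K {v₀} ≤ (Submodule.span K {b v₀}).comap a := by
        rw [Submodule.span_le, Set.singleton_subset_iff]
        change a v₀ ∈ Submodule.span K {b v₀}
        rw [hav₀]
        exact Submodule.neg_mem _ (Submodule.smul_mem _ _ (Submodule.mem_span_singleton_self _))
      have hbL : Submodule.span K {v₀} ≤ (Submodule.span K {b v₀}).comap b := by
        rw [Submodule.span_le, Set.singleton_subset_iff]
        exact Submodule.mem_span_singleton_self _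
      have hVq : finrank K (V ⧸ Submodule.span K {v₀}) = k := by
        have := Submodule.finrank_quotient_add_finrank (Submodule.span K {v₀})
        rw [finrank_span_singleton hv₀, hV] at this
        omega
      have hWq : finrank K (W ⧸ Submodule.span K {b v₀}) = k := by
        have := Submodule.finrank_quotient_add_finrank (Submodule.span K {b v₀})
        rw [finrank_span_singleton hw₁, hW] at this
        omega
      have hS' : ∀ t, t ∉ insert t₀ S → ¬ Function.Injective
          ((Submodule.span K {v₀}).mapQ (Submodule.span K {b v₀}) a haL +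
            t • (Submodule.span K {v₀}).mapQ (Submodule.span K {b v₀}) b hbL) := by
        intro t ht hinj
        rw [Finset.mem_insert, not_or] at ht
        apply hS t ht.2
        rw [injective_iff_map_eq_zero]
        intro x hx
        have hx' : a x + t • b x = 0 := hx
        have h1 : ((Submodule.span K {v₀}).mapQ (Submodule.span K {b v₀}) a haL +
            t • (Submodule.span K {v₀}).mapQ (Submodule.span K {b v₀}) b hbL)
              ((Submodule.span K {v₀}).mkQ x) = 0 := by
          simp only [LinearMap.add_apply, LinearMap.smul_apply, Submodule.mkQ_apply,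
            Submodule.mapQ_apply]
          rw [← Submodule.Quotient.mk_smul, ← Submodule.Quotient.mk_add, hx']
          rfl
        have h2 := (injective_iff_map_eq_zero _).mp hinj _ h1
        rw [Submodule.mkQ_apply, Submodule.Quotient.mk_eq_zero] at h2
        obtain ⟨c, rfl⟩ := Submodule.mem_span_singleton.mp h2
        have h3 : (c * (t - t₀)) • b v₀ = 0 := by
          rw [map_smul, map_smul, hav₀] at hx'
          rw [← hx']
          module
        rcases smul_eq_zero.mp h3 with h4 | h4
        · rcases mul_eq_zero.mp h4 with h5 | h5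
          · rw [h5, zero_smul]
          · exact absurd (sub_eq_zero.mp h5) ht.1
        · exact absurd h4 hw₁
      obtain ⟨V₁, W₁, hA, hB, hlt⟩ := ih (V ⧸ Submodule.span K {v₀})
        (W ⧸ Submodule.span K {b v₀}) hVq hWq _ _ (insert t₀ S) hS'
      refine ⟨V₁.comap (Submodule.span K {v₀}).mkQ, W₁.comap (Submodule.span K {b v₀}).mkQ,
        ?_, ?_, ?_⟩
      · rintro _ ⟨x, hx, rfl⟩
        exact hA ⟨_, hx, rfl⟩
      · rintro _ ⟨x, hx, rfl⟩
        exact hB ⟨_, hx, rfl⟩
      · have h1 := finrank_comap_mkQ_ge (Submodule.span K {v₀}) v₀ hv₀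
          (Submodule.mem_span_singleton_self _) V₁
        have h2 := finrank_comap_mkQ_le (Submodule.span K {b v₀})
          (finrank_span_singleton_le_one _) W₁
        omega

theorem S19551 [IsAlgClosed K] (V : Type v) (W : Type w)
    [AddCommGroup V] [Module K V] [FiniteDimensional K V]
    [AddCommGroup W] [Module K W] [FiniteDimensional K W]
    (f : Fin 2 → (V →ₗ[K] W)) (k : ℕ)
    (hV : Module.finrank K V = k) (hW : Module.finrank K W = k)
    (hf : KronMod.IsSemistable f) :
    ∃ z : Fin 2 → K, Function.Bijective ((∑ j, z j • f j : V →ₗ[K] W) : V → W) := by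
  by_contra hno
  push Not at hno
  have hdim : finrank K V = finrank K W := by rw [hV, hW]
  have hsing : ∀ t, t ∉ (∅ : Finset K) → ¬ Function.Injective (f 0 + t • f 1) := by
    intro t _ hinj
    apply hno ![1, t]
    have : (∑ j, (![1, t] : Fin 2 → K) j • f j : V →ₗ[K] W) = f 0 + t • f 1 := by
      rw [Fin.sum_univ_two]
      simp
    rw [this]
    exact ⟨hinj, (LinearMap.injective_iff_surjective_of_finrank_eq_finrank hdim).mp hinj⟩
  obtain ⟨V', W', h0, h1, hlt⟩ := pencil_claim k V W hV hW (f 0) (f 1) ∅ hsing
  have hsub : IsSubrep f V' W' := by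
    intro j
    fin_cases j
    · exact h0
    · exact h1
  have hk : 0 < k := by
    have := Submodule.finrank_le V'
    omega
  have := hf.2 V' W' hsub
    (fun ⟨hV', _⟩ => by rw [hV', finrank_bot] at hlt; omega)
    (fun ⟨hV', hW'⟩ => by rw [hV', hW', finrank_top, finrank_top] at hlt; omega)
  rw [hV, hW] at this
  have := Nat.le_of_mul_le_mul_left this hk
  omega

end

end Groth.Agent.H7.Kron
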