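import Mathlib
import Groth.Prelude.Def_W4c2quivmodsheafKron
import Groth.Agent.Lib.Helper7.Kron2
universe u v w

namespace Groth.Agent.H7.Kron

open KronMod Module

section
variable {K : Type u} [Field K] {V : Type v} {W : Type w}
  [AddCommGroup V] [Module K V] [AddCommGroup W] [Module K W] {n : ℕ}

/-- linear combination of the arrows -/
def comb (f : Fin n → (V →ₗ[K] W)) (z : Fin n → K) : V →ₗ[K] W := ∑ j, z j • f j

theorem comb_add (f : Fin n → (V →ₗ[K] W)) (z z' : Fin n → K) :
    comb f (z + z') = comb f z + comb f z' := by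
  simp only [comb, Pi.add_apply, add_smul, Finset.sum_add_distrib]

theorem comb_single (f : Fin n → (V →ₗ[K] W)) (j : Fin n) :
    comb f (Pi.single j 1) = f j := by
  classical
  rw [comb, Finset.sum_eq_single j]
  · rw [Pi.single_eq_same, one_smul]
  · intro i _ hij
    rw [Pi.single_eq_of_ne hij, zero_smul]
  · intro h; exact absurd (Finset.mem_univ j) h

theorem le_span_of_finrank_le_one {U : Type*} [AddCommGroup U] [Module K U]
    (U' : Submodule K U) [FiniteDimensional K U'] (h : finrank K U' ≤ 1) (y : U) (hy : y ∈ U')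
    (hy0 : y ≠ 0) : U' ≤ Submodule.span K {y} := by
  have hle : Submodule.span K {y} ≤ U' := by
    rw [Submodule.span_le, Set.singleton_subset_iff]; exact hy
  have := Submodule.eq_of_le_of_finrank_le hle (by rw [finrank_span_singleton hy0]; exact h)
  rw [this]

theorem S15566 [FiniteDimensional K V] [FiniteDimensional K W]
    (f : Fin n → (V →ₗ[K] W))
    (hV : Module.finrank K V = 2) (hW : Module.finrank K W = 2)
    (hf : KronMod.IsSemistable f) :
    ∃ z : Fin n → K, Function.Bijective ((∑ j, z j • f j : V →ₗ[K] W) : V → W) := by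
  classical
  by_contra hno
  push Not at hno
  have hdim : finrank K V = finrank K W := by rw [hV, hW]
  have hsing : ∀ z, ¬ Function.Injective (comb f z) := fun z hinj =>
    hno z ⟨hinj, (LinearMap.injective_iff_surjective_of_finrank_eq_finrank hdim).mp hinj⟩
  have hVpos : 0 < finrank K V := by omega
  have hWpos : 0 < finrank K W := by omega
  by_cases hall : ∀ j, f j = 0
  · have := hf.2 ⊤ ⊥ (by
        intro j
        rintro _ ⟨x, -, rfl⟩
        rw [hall j]; simp)
      (fun ⟨h1, _⟩ => top_ne_bot_of_pos hVpos h1)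
      (fun ⟨_, h2⟩ => top_ne_bot_of_pos hWpos h2.symm)
    rw [finrank_top, finrank_bot, hV, hW] at this
    omega
  push Not at hall
  obtain ⟨j₀, hA⟩ := hall
  have hAsing : ¬ Function.Injective (f j₀) := by
    rw [← comb_single f j₀]; exact hsing _
  have hN : LinearMap.ker (f j₀) ≠ ⊥ := by rwa [Ne, LinearMap.ker_eq_bot]
  obtain ⟨v, hvN, hv⟩ := Submodule.exists_mem_ne_zero_of_ne_bot hN
  have hrn := LinearMap.finrank_range_add_finrank_ker (f j₀)
  have hN1 : 1 ≤ finrank K (LinearMap.ker (f j₀)) := Submodule.one_le_finrank_iff.mpr hN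
  have hN2 : finrank K (LinearMap.ker (f j₀)) < 2 := by
    rw [← hV]
    apply Submodule.finrank_lt
    intro htop
    apply hA
    exact LinearMap.ker_eq_top.mp htop
  have hNle : LinearMap.ker (f j₀) ≤ Submodule.span K {v} :=
    le_span_of_finrank_le_one _ (by omega) v hvN hv
  have hL1 : finrank K (LinearMap.range (f j₀)) = 1 := by omega
  -- rank of singular maps
  have hrank : ∀ z, finrank K (LinearMap.range (comb f z)) ≤ 1 := by
    intro z
    have h1 := LinearMap.finrank_range_add_finrank_ker (comb f z)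
    have h2 : LinearMap.ker (comb f z) ≠ ⊥ := by
      rw [Ne, LinearMap.ker_eq_bot]; exact hsing z
    have h3 := Submodule.one_le_finrank_iff.mpr h2
    omega
  -- Step 1
  have step1 : ∀ z, comb f z v ∈ LinearMap.range (f j₀) := by
    intro z
    by_contra hBv
    have hBv0 : comb f z v ≠ 0 := fun h0 => hBv (h0 ▸ zero_mem _)
    have hC := hsing (Pi.single j₀ 1 + z)
    rw [comb_add, comb_single] at hC
    have hCker : LinearMap.ker (f j₀ + comb f z) ≠ ⊥ := by rwa [Ne, LinearMap.ker_eq_bot]
    obtain ⟨x, hxker, hx⟩ := Submodule.exists_mem_ne_zero_of_ne_bot hCker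
    have hx' : f j₀ x + comb f z x = 0 := LinearMap.mem_ker.mp hxker
    by_cases hAx : f j₀ x = 0
    · have hxN : x ∈ LinearMap.ker (f j₀) := LinearMap.mem_ker.mpr hAx
      obtain ⟨c, rfl⟩ := Submodule.mem_span_singleton.mp (hNle hxN)
      rw [hAx, zero_add, map_smul] at hx'
      rcases smul_eq_zero.mp hx' with hc | hc
      · exact hx (by rw [hc, zero_smul])
      · exact hBv0 hc
    · have hy1 : f j₀ x ∈ LinearMap.range (comb f z) :=
        ⟨-x, by rw [map_neg]; exact (eq_neg_of_add_eq_zero_left hx').symm⟩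
      have h1 := le_span_of_finrank_le_one _ (hrank z) (f j₀ x) hy1 hAx
      have h2 : Submodule.span K {f j₀ x} ≤ LinearMap.range (f j₀) := by
        rw [Submodule.span_le, Set.singleton_subset_iff]; exact ⟨x, rfl⟩
      exact hBv (h2 (h1 ⟨v, rfl⟩))
  -- Step 2
  have step2 : ∀ z, comb f z v = 0 ∨ LinearMap.range (comb f z) ≤ LinearMap.range (f j₀) := by
    intro z
    by_cases h0 : comb f z v = 0
    · left; exact h0
    · right
      have h1 := le_span_of_finrank_le_one _ (hrank z) (comb f z v) ⟨v, rfl⟩ h0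
      refine h1.trans ?_
      rw [Submodule.span_le, Set.singleton_subset_iff]
      exact step1 z
  -- Step 3
  have step3 : (∀ j, f j v = 0) ∨ (∀ j, LinearMap.range (f j) ≤ LinearMap.range (f j₀)) := by
    by_contra hcon
    rw [not_or] at hcon
    push Not at hcon
    obtain ⟨⟨j₁, hj₁⟩, ⟨j₂, hj₂⟩⟩ := hcon
    have h1 : LinearMap.range (f j₁) ≤ LinearMap.range (f j₀) := by
      have := step2 (Pi.single j₁ 1)
      rw [comb_single] at this
      exact this.resolve_left hj₁
    have h2 : f j₂ v = 0 := by
      have := step2 (Pi.single j₂ 1)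
      rw [comb_single] at this
      exact this.resolve_right hj₂
    have h3 := step2 (Pi.single j₁ 1 + Pi.single j₂ 1)
    rw [comb_add, comb_single, comb_single] at h3
    rcases h3 with h3 | h3
    · rw [LinearMap.add_apply, h2, add_zero] at h3
      exact hj₁ h3
    · apply hj₂
      rintro _ ⟨x, rfl⟩
      have h4 : (f j₁ + f j₂) x ∈ LinearMap.range (f j₀) := h3 ⟨x, rfl⟩
      have h5 : f j₁ x ∈ LinearMap.range (f j₀) := h1 ⟨x, rfl⟩
      have h6 : f j₂ x = (f j₁ + f j₂) x - f j₁ x := by
        rw [LinearMap.add_apply]; abel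
      rw [h6]
      exact Submodule.sub_mem _ h4 h5
  -- Step 4
  rcases step3 with h | h
  · have hL : finrank K (Submodule.span K {v}) = 1 := finrank_span_singleton hv
    have := hf.2 (Submodule.span K {v}) ⊥ (by
        intro j
        rintro _ ⟨x, hx, rfl⟩
        obtain ⟨c, rfl⟩ := Submodule.mem_span_singleton.mp hx
        rw [map_smul, h j, smul_zero]
        exact zero_mem _)
      (fun ⟨h1, _⟩ => by rw [h1, finrank_bot] at hL; omega)
      (fun ⟨_, h2⟩ => top_ne_bot_of_pos hWpos h2.symm)
    rw [hL, finrank_bot, hV, hW] at this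
    omega
  · have := hf.2 ⊤ (LinearMap.range (f j₀)) (by
        intro j
        rintro _ ⟨x, -, rfl⟩
        exact h j ⟨x, rfl⟩)
      (fun ⟨h1, _⟩ => top_ne_bot_of_pos hVpos h1)
      (fun ⟨_, h2⟩ => by rw [h2, finrank_top] at hL1; omega)
    rw [finrank_top, hL1, hV, hW] at this
    omega

end

end Groth.Agent.H7.Kron
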