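import Mathlib

set_option autoImplicit false
universe u v w

namespace Groth.Agent.H7.KumCl

open Polynomial nonZeroDivisors IsDedekindDomain

section FI
variable {A : Type u} {K : Type v} [CommRing A] [IsDedekindDomain A]
  [Field K] [Algebra A K] [IsFractionRing A K]

theorem fractionalIdeal_pow_injective {X Y : FractionalIdeal A⁰ K} (hX : X ≠ 0) (hY : Y ≠ 0)
    {n : ℕ} (hn : 0 < n) (h : X ^ n = Y ^ n) : X = Y := by
  rw [← FractionalIdeal.finprod_heightOneSpectrum_factorization' K hX,
    ← FractionalIdeal.finprod_heightOneSpectrum_factorization' K hY]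
  apply finprod_congr
  intro v
  congr 1
  have := congrArg (FractionalIdeal.count K v) h
  rw [FractionalIdeal.count_pow, FractionalIdeal.count_pow] at this
  have hn' : (n : ℤ) ≠ 0 := by exact_mod_cast hn.ne'
  exact mul_left_cancel₀ hn' this

end FI

section Main
variable {A : Type u} {K : Type v} {L : Type w} [CommRing A] [IsDedekindDomain A]
  [Field K] [Algebra A K] [IsFractionRing A K] [Field L] [Algebra K L]

theorem main (n : ℕ) (hn : IsUnit (n : A)) (ζ : K) (hζ : IsPrimitiveRoot ζ n) (f : K) (hf : f ≠ 0)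
    (I : (FractionalIdeal A⁰ K)ˣ)
    (hI : FractionalIdeal.spanSingleton A⁰ f = (I : FractionalIdeal A⁰ K) ^ n)
    (hord : orderOf (ClassGroup.mk K I) = n)
    (α : L) (hα : α ^ n = algebraMap K L f) (hgen : IntermediateField.adjoin K {α} = ⊤) :
    IsGalois K L ∧ IsCyclic (L ≃ₐ[K] L) ∧ Module.finrank K L = n := by
  have hn0 : n ≠ 0 := by
    rintro rfl
    simp at hn
  have hnpos : 0 < n := Nat.pos_of_ne_zero hn0
  haveI : NeZero n := ⟨hn0⟩
  have hnK : (n : K) ≠ 0 := by
    have := hn.map (algebraMap A K)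
    simpa using this.ne_zero
  have hαint : IsIntegral K α :=
    ⟨X ^ n - C f, monic_X_pow_sub_C f hn0, by simp [hα]⟩
  haveI : FiniteDimensional K L := by
    have := IntermediateField.adjoin.finiteDimensional hαint
    rw [hgen] at this
    exact Module.Finite.equiv (IntermediateField.topEquiv (F := K) (E := L)).toLinearEquiv
  have hζL : IsPrimitiveRoot (algebraMap K L ζ) n :=
    hζ.map_of_injective (algebraMap K L).injective
  haveI hsf : Polynomial.IsSplittingField K L (X ^ n - C f) := by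
    constructor
    · rw [Polynomial.map_sub, Polynomial.map_pow, Polynomial.map_C, Polynomial.map_X]
      exact X_pow_sub_C_splits_of_isPrimitiveRoot hζL hα
    · rw [eq_top_iff, ← IntermediateField.top_toSubalgebra, ← hgen,
        IntermediateField.adjoin_simple_toSubalgebra_of_isAlgebraic hαint.isAlgebraic]
      apply Algebra.adjoin_mono
      rw [Set.singleton_subset_iff, mem_rootSet_of_ne (X_pow_sub_C_ne_zero hnpos f), aeval_def,
        eval₂_sub, eval₂_X_pow, eval₂_C, hα, sub_self]
  haveI : IsGalois K L :=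
    IsGalois.of_separable_splitting_field (Polynomial.separable_X_pow_sub_C f hnK hf)
  have hα0 : α ≠ 0 := by
    rintro rfl
    rw [zero_pow hn0] at hα
    exact hf ((map_eq_zero _).mp hα.symm)
  have hσ : ∀ σ : L ≃ₐ[K] L, ∃ c : K, c ≠ 0 ∧ σ α = algebraMap K L c * α := by
    intro σ
    have h1 : (σ α / α) ^ n = 1 := by
      rw [div_pow, ← map_pow, hα, σ.commutes, div_self]
      rw [← hα]
      exact pow_ne_zero _ hα0
    obtain ⟨i, -, hi⟩ := hζL.eq_pow_of_pow_eq_one h1
    refine ⟨ζ ^ i, pow_ne_zero _ (hζ.ne_zero hn0), ?_⟩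
    rw [map_pow, hi, div_mul_cancel₀ _ hα0]
  choose c hc0 hc using hσ
  set m := Module.finrank K L with hm
  have hmpos : 0 < m := Module.finrank_pos
  have hcard : Fintype.card (L ≃ₐ[K] L) = m := by
    rw [← Nat.card_eq_fintype_card]
    exact IsGalois.card_aut_eq_finrank K L
  have hnorm : algebraMap K L (Algebra.norm K α) =
      algebraMap K L (∏ σ : L ≃ₐ[K] L, c σ) * α ^ m := by
    rw [Algebra.norm_eq_prod_automorphisms, map_prod]
    simp_rw [hc]
    rw [Finset.prod_mul_distrib, Finset.prod_const, Finset.card_univ, hcard]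
  have hprod0 : (∏ σ : L ≃ₐ[K] L, c σ) ≠ 0 := Finset.prod_ne_zero_iff.mpr (fun σ _ => hc0 σ)
  set b : K := Algebra.norm K α / (∏ σ : L ≃ₐ[K] L, c σ) with hb
  have hbα : algebraMap K L b = α ^ m := by
    rw [hb, map_div₀, hnorm, mul_div_cancel_left₀]
    exact (_root_.map_ne_zero _).mpr hprod0
  have hfb : f ^ m = b ^ n := by
    apply (algebraMap K L).injective
    rw [map_pow, map_pow, ← hα, hbα, ← pow_mul, ← pow_mul, mul_comm]
  have hb0 : b ≠ 0 := by
    intro h0
    rw [h0, zero_pow hn0] at hfb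
    exact hf (pow_eq_zero_iff hmpos.ne' |>.mp hfb)
  -- fractional ideals
  have hI0 : (I : FractionalIdeal A⁰ K) ≠ 0 := Units.ne_zero I
  have hIm : (I : FractionalIdeal A⁰ K) ^ m = FractionalIdeal.spanSingleton A⁰ b := by
    apply fractionalIdeal_pow_injective (pow_ne_zero _ hI0)
      (by rw [Ne, FractionalIdeal.spanSingleton_eq_zero_iff]; exact hb0) hnpos
    rw [← pow_mul, mul_comm, pow_mul, ← hI, FractionalIdeal.spanSingleton_pow,
      FractionalIdeal.spanSingleton_pow, hfb]
  have hdvd : n ∣ m := by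
    rw [← hord, orderOf_dvd_iff_pow_eq_one, ← map_pow, ClassGroup.mk_eq_one_iff]
    refine ⟨⟨b, ?_⟩⟩
    rw [Units.val_pow_eq_pow_val, hIm, FractionalIdeal.coe_spanSingleton]
  have hle : m ≤ n := by
    have h1 : Module.finrank K (IntermediateField.adjoin K {α}) = (minpoly K α).natDegree :=
      IntermediateField.adjoin.finrank hαint
    rw [hgen, IntermediateField.finrank_top'] at h1
    rw [hm, h1]
    have h2 : minpoly K α ∣ X ^ n - C f := minpoly.dvd K α (by simp [hα])
    have h3 := Polynomial.natDegree_le_of_dvd h2 (X_pow_sub_C_ne_zero hnpos f)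
    rwa [natDegree_X_pow_sub_C] at h3
  have hmn : m = n := Nat.le_antisymm hle (Nat.le_of_dvd hmpos hdvd)
  have hK : (primitiveRoots (Module.finrank K L) K).Nonempty :=
    ⟨ζ, (mem_primitiveRoots hmpos).mpr (by rw [hmn]; exact hζ)⟩
  have h20 : (∃ (α : L), α ^ (Module.finrank K L) ∈ Set.range (algebraMap K L) ∧
      IntermediateField.adjoin K {α} = ⊤) → IsGalois K L ∧ IsCyclic (L ≃ₐ[K] L) :=
    ((isCyclic_tfae K L hK).out 2 0).mp
  have h21 := h20 ⟨α, ⟨f, by rw [← hm, hmn]; exact hα.symm⟩, hgen⟩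
  exact ⟨h21.1, h21.2, hmn⟩

end Main

end Groth.Agent.H7.KumCl
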