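import Mathlib

/-! `λ^{p^n} ∣ x^{p^n} - 1 ↔ λ ∣ x - 1` in normal domains over a DVR (helper7). -/

set_option autoImplicit false

universe u

namespace Groth.Agent.H7.KummerDiv

open Polynomial

lemma nat_ineq (p n d : ℕ) (hp : 2 ≤ p) (hn : 1 ≤ n) (hd : d ≤ n) :
    p ^ n ≤ p ^ (n - 1) * (p - 1) * d + p ^ (n - d) := by
  obtain ⟨m, rfl⟩ : ∃ m, n = m + 1 := ⟨n - 1, by omega⟩
  obtain ⟨q, rfl⟩ : ∃ q, p = q + 2 := ⟨p - 2, by omega⟩
  simp only [Nat.add_sub_cancel]
  rcases d with _ | _ | d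
  · simp
  · have : (q + 2) ^ (m + 1) = (q + 2) ^ m * (q + 2) := pow_succ _ _
    simp only [zero_add, Nat.add_sub_cancel, mul_one]
    rw [this]
    have : q + 2 - 1 = q + 1 := by omega
    rw [this]
    ring_nf
    omega
  · have h1 : (q + 2) ^ (m + 1) = (q + 2) ^ m * (q + 2) := pow_succ _ _
    have h2 : q + 2 - 1 = q + 1 := by omega
    rw [h1, h2]
    have : (q + 2) ^ m * (q + 2) ≤ (q + 2) ^ m * (q + 1) * (d + 1 + 1) := by
      rw [mul_assoc]
      apply Nat.mul_le_mul_left
      nlinarith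
    omega

lemma key_nat (p n i : ℕ) (hp : p.Prime) (hn : 1 ≤ n) (hi1 : 1 ≤ i) (hiN : i ≤ p ^ n) :
    ∃ d : ℕ, p ^ d ∣ (p ^ n).choose i ∧ p ^ n ≤ p ^ (n - 1) * (p - 1) * d + i := by
  have hi0 : i ≠ 0 := by omega
  have h1 := hp.emultiplicity_choose_prime_pow hiN hi0
  set a := multiplicity p i with ha
  have ha_dvd : p ^ a ∣ i := pow_multiplicity_dvd p i
  have hai : p ^ a ≤ i := Nat.le_of_dvd (by omega) ha_dvd
  have han : a ≤ n := by
    by_contra h
    rw [not_le] at h
    have : p ^ n < p ^ a := Nat.pow_lt_pow_right hp.one_lt h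
    omega
  refine ⟨n - a, ?_, ?_⟩
  · exact pow_dvd_of_le_emultiplicity (le_of_eq h1.symm)
  · have := nat_ineq p n (n - a) hp.two_le hn (by omega)
    have h2 : n - (n - a) = a := by omega
    rw [h2] at this
    omega

lemma key_ring {R : Type*} [CommRing R] (p n : ℕ) (hp : p.Prime) (hn : 1 ≤ n) (lam : R)
    (hstar : lam ^ (p ^ (n - 1) * (p - 1)) ∣ (p : R)) (i : ℕ) (hi1 : 1 ≤ i) (hiN : i ≤ p ^ n) :
    lam ^ (p ^ n - i) ∣ (((p ^ n).choose i : ℕ) : R) := by
  obtain ⟨d, hd, hineq⟩ := key_nat p n i hp hn hi1 hiN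
  obtain ⟨m, hm⟩ := hd
  rw [hm]
  push_cast
  obtain ⟨w, hw⟩ := hstar
  rw [hw, mul_pow, ← pow_mul]
  exact Dvd.dvd.mul_right (Dvd.dvd.mul_right (pow_dvd_pow _ (by omega)) _) _

lemma expand {B : Type*} [CommRing B] (N : ℕ) (u : B) :
    (u + 1) ^ N - 1 = ∑ m ∈ Finset.range N, u ^ (m + 1) * ((N.choose (m + 1) : ℕ) : B) := by
  rw [add_pow, Finset.sum_range_succ']
  simp

theorem dvd_iff {A : Type*} [CommRing A] [IsDomain A] [IsIntegrallyClosed A] (N : ℕ) (hN : 1 ≤ N)
    (l : A) (hl : l ≠ 0)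
    (hkey : ∀ i, 1 ≤ i → i ≤ N → l ^ (N - i) ∣ ((N.choose i : ℕ) : A)) (x : A) :
    l ^ N ∣ x ^ N - 1 ↔ l ∣ x - 1 := by
  have hex : ∀ i, ∃ c : A, 1 ≤ i → i ≤ N → ((N.choose i : ℕ) : A) = l ^ (N - i) * c := by
    intro i
    by_cases h : 1 ≤ i ∧ i ≤ N
    · obtain ⟨c, hc⟩ := hkey i h.1 h.2
      exact ⟨c, fun _ _ => hc⟩
    · exact ⟨0, fun h1 h2 => absurd ⟨h1, h2⟩ h⟩
  choose c hc using hex
  have hcN : c N = 1 := by
    have := hc N hN le_rfl
    simpa using this.symm
  constructor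
  · rintro ⟨cc, hcc⟩
    set K := FractionRing A
    have hinj : Function.Injective (algebraMap A K) := IsFractionRing.injective A K
    have hlK : algebraMap A K l ≠ 0 := by rwa [Ne, map_eq_zero_iff _ hinj]
    set y : K := (algebraMap A K x - 1) / algebraMap A K l with hy
    have hxy : algebraMap A K x = algebraMap A K l * y + 1 := by
      rw [hy, mul_div_cancel₀ _ hlK]; ring
    -- the relation satisfied by `y`
    have hrel : ∑ m ∈ Finset.range N, y ^ (m + 1) * algebraMap A K (c (m + 1)) =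
        algebraMap A K cc := by
      have h1 := congrArg (algebraMap A K) hcc
      rw [map_sub, map_pow, map_one, hxy, expand, map_mul, map_pow] at h1
      have h2 : ∑ m ∈ Finset.range N, (algebraMap A K l * y) ^ (m + 1) *
          ((N.choose (m + 1) : ℕ) : K) =
          algebraMap A K l ^ N *
            ∑ m ∈ Finset.range N, y ^ (m + 1) * algebraMap A K (c (m + 1)) := by
        rw [Finset.mul_sum]
        refine Finset.sum_congr rfl fun m hm => ?_
        have hm' : m + 1 ≤ N := by have := Finset.mem_range.mp hm; omega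
        have h3 := congrArg (algebraMap A K) (hc (m + 1) (by omega) hm')
        rw [map_natCast, map_mul, map_pow] at h3
        rw [h3, mul_pow]
        have : algebraMap A K l ^ N =
            algebraMap A K l ^ (m + 1) * algebraMap A K l ^ (N - (m + 1)) := by
          rw [← pow_add]; congr 1; omega
        rw [this]; ring
      rw [h2] at h1
      exact mul_left_cancel₀ (pow_ne_zero N hlK) h1
    -- `y` is integral over `A`
    have hint : IsIntegral A y := by
      obtain ⟨N', rfl⟩ : ∃ N', N = N' + 1 := ⟨N - 1, by omega⟩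
      set b : ℕ → A := fun i => if i = 0 then -cc else c i with hb
      refine ⟨X ^ (N' + 1) + ∑ i : Fin (N' + 1), C (b i) * X ^ (i : ℕ),
        Polynomial.monic_X_pow_add (Polynomial.degree_sum_fin_lt _), ?_⟩
      rw [eval₂_add, eval₂_pow, eval₂_X, eval₂_finsetSum,
        Fin.sum_univ_eq_sum_range (fun i => eval₂ (algebraMap A K) y (C (b i) * X ^ i)) (N' + 1),
        Finset.sum_range_succ']
      simp only [eval₂_mul, eval₂_C, eval₂_pow, eval₂_X, pow_zero, mul_one]
      rw [Finset.sum_range_succ, hcN, map_one, mul_one] at hrel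
      have h4 : ∀ m ∈ Finset.range N', algebraMap A K (b (m + 1)) * y ^ (m + 1) =
          y ^ (m + 1) * algebraMap A K (c (m + 1)) := by
        intro m _
        simp only [hb, Nat.add_one_ne_zero, if_false]
        ring
      rw [Finset.sum_congr rfl h4]
      simp only [hb, if_true, map_neg]
      rw [← hrel]
      ring
    obtain ⟨y', hy'⟩ := IsIntegrallyClosed.isIntegral_iff.1 hint
    refine ⟨y', hinj ?_⟩
    rw [map_sub, map_one, map_mul, hy', hxy]
    ring
  · rintro ⟨y, hy⟩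
    have hx : x = l * y + 1 := by rw [← hy]; ring
    rw [hx, expand]
    refine Finset.dvd_sum fun m hm => ?_
    have hm' : m + 1 ≤ N := by have := Finset.mem_range.mp hm; omega
    rw [hc (m + 1) (by omega) hm', mul_pow]
    have : l ^ N = l ^ (m + 1) * l ^ (N - (m + 1)) := by
      rw [← pow_add]; congr 1; omega
    rw [this]
    exact ⟨y ^ (m + 1) * c (m + 1), by ring⟩

end Groth.Agent.H7.KummerDiv
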