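import Mathlib

/-! Kummer normalization: divisibility of the exponent (helper7, for S13155). -/

set_option autoImplicit false

namespace Groth.Agent.H7.KummerNorm

open Polynomial in
theorem kummer_core {A S : Type*} [CommRing A] [CommRing S] [IsDomain S] [Algebra A S]
    (π : A) (hπS : IsUnit (algebraMap A S π)) (u : Aˣ) (m e : ℕ) (hm : 0 < m) (z : S)
    (hz : z ^ m = algebraMap A S ((u : A) * π ^ e))
    (hsp : (Ideal.span {algebraMap A (integralClosure A S) π}).IsPrime) : m ∣ e := by
  classical
  obtain ⟨πinv, hπinv⟩ := hπS.exists_right_inv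
  set πS := algebraMap A S π with hπSdef
  set q := e / m with hq
  set r := e % m with hr
  have hqr : m * q + r = e := Nat.div_add_mod e m
  have hrm : r < m := Nat.mod_lt e hm
  rw [Nat.dvd_iff_mod_eq_zero]
  by_contra hr0
  change r ≠ 0 at hr0
  let w : S := z * πinv ^ q
  have hinvpow : ∀ k : ℕ, πS ^ k * πinv ^ k = 1 := fun k => by rw [← mul_pow, hπinv, one_pow]
  have hw : w ^ m = algebraMap A S ((u : A) * π ^ r) := by
    have h1 : w ^ m = z ^ m * (πinv ^ (m * q)) := by
      simp only [w]; rw [mul_pow, ← pow_mul, mul_comm q m]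
    rw [h1, hz, ← hqr, map_mul, map_mul, map_pow, map_pow, ← hπSdef, pow_add]
    have := hinvpow (m * q)
    linear_combination (algebraMap A S (u : A) * πS ^ r) * this
  have hwint : IsIntegral A w := by
    refine ⟨X ^ m - C ((u : A) * π ^ r), monic_X_pow_sub_C _ hm.ne', ?_⟩
    rw [eval₂_sub, eval₂_pow, eval₂_X, eval₂_C, hw, sub_self]
  let wB : integralClosure A S := ⟨w, hwint⟩
  set πB := algebraMap A (integralClosure A S) π with hπB
  have hπBcoe : (πB : S) = πS := rfl
  have hwB : wB ^ m = πB * algebraMap A (integralClosure A S) ((u : A) * π ^ (r - 1)) := by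
    apply Subtype.ext
    have : ((wB ^ m : integralClosure A S) : S) = w ^ m := rfl
    rw [this, hw]
    have h2 : ((πB * algebraMap A (integralClosure A S) ((u : A) * π ^ (r - 1)) :
        integralClosure A S) : S) = πS * algebraMap A S ((u : A) * π ^ (r - 1)) := rfl
    rw [h2, hπSdef, ← map_mul]
    congr 1
    have : π ^ r = π * π ^ (r - 1) := by
      rw [← pow_succ']; congr 1; omega
    rw [this]; ring
  have hmem : wB ^ m ∈ Ideal.span {πB} := by
    rw [Ideal.mem_span_singleton]
    exact ⟨_, hwB⟩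
  have hmem1 : wB ∈ Ideal.span {πB} := hsp.mem_of_pow_mem m hmem
  rw [Ideal.mem_span_singleton] at hmem1
  obtain ⟨w', hw'⟩ := hmem1
  -- in S
  have hw'S : w = πS * (w' : S) := by
    have := congrArg (fun x : integralClosure A S => (x : S)) hw'
    exact this
  have h3 : πS ^ (m - r) * (w' : S) ^ m = algebraMap A S (u : A) := by
    have h4 : πS ^ m * (w' : S) ^ m = algebraMap A S (u : A) * πS ^ r := by
      rw [← mul_pow, ← hw'S, hw, map_mul, map_pow]
    have h5 : πS ^ m = πS ^ (m - r) * πS ^ r := by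
      rw [← pow_add]; congr 1; omega
    rw [h5] at h4
    have := hinvpow r
    linear_combination (πinv ^ r) * h4 + (algebraMap A S (u : A) - πS ^ (m - r) * (w' : S) ^ m) * this
  -- π_B is a unit in B
  have hunit : IsUnit πB := by
    refine IsUnit.of_mul_eq_one (πB ^ (m - r - 1) * w' ^ m * algebraMap A (integralClosure A S) ((u⁻¹ : Aˣ) : A)) ?_
    apply Subtype.ext
    change πS * (πS ^ (m - r - 1) * (w' : S) ^ m * algebraMap A S ((u⁻¹ : Aˣ) : A)) = 1
    have h6 : πS * πS ^ (m - r - 1) = πS ^ (m - r) := by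
      rw [← pow_succ']; congr 1; omega
    have h7 : algebraMap A S (u : A) * algebraMap A S ((u⁻¹ : Aˣ) : A) = 1 := by
      rw [← map_mul, Units.mul_inv, map_one]
    linear_combination (algebraMap A S ((u⁻¹ : Aˣ) : A)) * h3 + h7 +
      ((w' : S) ^ m * algebraMap A S ((u⁻¹ : Aˣ) : A)) * h6
  exact hsp.ne_top (Ideal.span_singleton_eq_top.mpr hunit)

end Groth.Agent.H7.KummerNorm
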