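import Mathlib
import Groth.Agent.Lib.Helper7.LU1

/-! The cosimplicial group of units of Laurent polynomial rings: combinatorics (helper7). -/

namespace Groth.Agent.H7.LCoc

universe u

abbrev G1 := Fin 1 → ℤ
abbrev G2 := Fin 2 → ℤ
abbrev G3 := Fin 3 → ℤ

def d0 : G2 →+ G3 :=
  (Matrix.mulVecLin (!![0, 0; 1, 0; 0, 1] : Matrix (Fin 3) (Fin 2) ℤ)).toAddMonoidHom
def d1 : G2 →+ G3 :=
  (Matrix.mulVecLin (!![1, 0; 1, 0; 0, 1] : Matrix (Fin 3) (Fin 2) ℤ)).toAddMonoidHom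
def d2 : G2 →+ G3 :=
  (Matrix.mulVecLin (!![1, 0; 0, 1; 0, 1] : Matrix (Fin 3) (Fin 2) ℤ)).toAddMonoidHom
def d3 : G2 →+ G3 :=
  (Matrix.mulVecLin (!![1, 0; 0, 1; 0, 0] : Matrix (Fin 3) (Fin 2) ℤ)).toAddMonoidHom
def e0 : G1 →+ G2 :=
  (Matrix.mulVecLin (!![0; 1] : Matrix (Fin 2) (Fin 1) ℤ)).toAddMonoidHom
def e1 : G1 →+ G2 :=
  (Matrix.mulVecLin (!![1; 1] : Matrix (Fin 2) (Fin 1) ℤ)).toAddMonoidHom
def e2 : G1 →+ G2 :=
  (Matrix.mulVecLin (!![1; 0] : Matrix (Fin 2) (Fin 1) ℤ)).toAddMonoidHom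

theorem d0_apply (g : G2) : d0 g = ![0, g 0, g 1] := by
  ext i; fin_cases i <;> simp [d0, Matrix.mulVec, dotProduct, Fin.sum_univ_two]
theorem d1_apply (g : G2) : d1 g = ![g 0, g 0, g 1] := by
  ext i; fin_cases i <;> simp [d1, Matrix.mulVec, dotProduct, Fin.sum_univ_two]
theorem d2_apply (g : G2) : d2 g = ![g 0, g 1, g 1] := by
  ext i; fin_cases i <;> simp [d2, Matrix.mulVec, dotProduct, Fin.sum_univ_two]
theorem d3_apply (g : G2) : d3 g = ![g 0, g 1, 0] := by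
  ext i; fin_cases i <;> simp [d3, Matrix.mulVec, dotProduct, Fin.sum_univ_two]
theorem e0_apply (g : G1) : e0 g = ![0, g 0] := by
  ext i; fin_cases i <;> simp [e0, Matrix.mulVec, dotProduct]
theorem e1_apply (g : G1) : e1 g = ![g 0, g 0] := by
  ext i; fin_cases i <;> simp [e1, Matrix.mulVec, dotProduct]
theorem e2_apply (g : G1) : e2 g = ![g 0, 0] := by
  ext i; fin_cases i <;> simp [e2, Matrix.mulVec, dotProduct]

theorem vec3_eq_iff (a b c a' b' c' : ℤ) : (![a, b, c] : G3) = ![a', b', c'] ↔ a = a' ∧ b = b' ∧ c = c' := by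
  constructor
  · intro h
    exact ⟨congrFun h 0, congrFun h 1, congrFun h 2⟩
  · rintro ⟨rfl, rfl, rfl⟩; rfl

theorem vec2_eq_iff (a b a' b' : ℤ) : (![a, b] : G2) = ![a', b'] ↔ a = a' ∧ b = b' := by
  constructor
  · intro h
    exact ⟨congrFun h 0, congrFun h 1⟩
  · rintro ⟨rfl, rfl⟩; rfl

theorem g2_eta (g : G2) : g = ![g 0, g 1] := by
  ext i; fin_cases i <;> rfl

theorem g1_eta (g : G1) : g = ![g 0] := by
  ext i; fin_cases i; rfl

/-- cosimplicial identities -/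
theorem d0e0 : d0.comp e0 = d1.comp e0 := by
  ext g i; fin_cases i <;> simp [d0_apply, d1_apply, e0_apply]
theorem d0e1 : d0.comp e1 = d2.comp e0 := by
  ext g i; fin_cases i <;> simp [d0_apply, d2_apply, e0_apply, e1_apply]
theorem d0e2 : d0.comp e2 = d3.comp e0 := by
  ext g i; fin_cases i <;> simp [d0_apply, d3_apply, e0_apply, e2_apply]
theorem d1e1 : d1.comp e1 = d2.comp e1 := by
  ext g i; fin_cases i <;> simp [d1_apply, d2_apply, e1_apply]
theorem d1e2 : d1.comp e2 = d3.comp e1 := by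
  ext g i; fin_cases i <;> simp [d1_apply, d3_apply, e1_apply, e2_apply]
theorem d2e2 : d2.comp e2 = d3.comp e2 := by
  ext g i; fin_cases i <;> simp [d2_apply, d3_apply, e2_apply]

theorem eq_zero_of_d (g : G2) (h : d0 g + d2 g = d1 g + d3 g) : g = 0 := by
  rw [d0_apply, d1_apply, d2_apply, d3_apply] at h
  have h0 := congrFun h 0
  have h2 := congrFun h 2
  simp at h0 h2
  ext i; fin_cases i
  · simpa using h0
  · simpa using h2

end Groth.Agent.H7.LCoc
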