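import Mathlib
import Groth.Agent.Lib.Helper7.LCoc1

/-! The cosimplicial group of units of Laurent polynomial rings: cocycles and coboundaries
(helper7). -/

namespace Groth.Agent.H7.LCoc

universe u

open AddMonoidAlgebra

section defs

variable (A : Type u) [CommRing A]

/-- the map on units induced by an additive map of exponent groups -/
noncomputable def F {G H : Type} [AddCommGroup G] [AddCommGroup H] (f : G →+ H) :
    (AddMonoidAlgebra A G)ˣ →* (AddMonoidAlgebra A H)ˣ :=
  Units.map (AddMonoidAlgebra.mapDomainRingHom A f).toMonoidHom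

theorem F_comp {G H K : Type} [AddCommGroup G] [AddCommGroup H] [AddCommGroup K]
    (f : H →+ K) (g : G →+ H) (x : (AddMonoidAlgebra A G)ˣ) :
    F A f (F A g x) = F A (f.comp g) x := by
  apply Units.ext
  simp only [F, Units.coe_map, RingHom.toMonoidHom_eq_coe, MonoidHom.coe_coe]
  rw [AddMonoidAlgebra.mapDomainRingHom_comp]
  rfl

/-- the differential `C² → C³` -/
noncomputable def coc : (AddMonoidAlgebra A G2)ˣ →* (AddMonoidAlgebra A G3)ˣ :=
  F A d0 * (F A d1)⁻¹ * F A d2 * (F A d3)⁻¹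

/-- the differential `C¹ → C²` -/
noncomputable def bdry : (AddMonoidAlgebra A G1)ˣ →* (AddMonoidAlgebra A G2)ˣ :=
  F A e0 * (F A e1)⁻¹ * F A e2

theorem coc_apply (ξ : (AddMonoidAlgebra A G2)ˣ) :
    coc A ξ = F A d0 ξ * (F A d1 ξ)⁻¹ * F A d2 ξ * (F A d3 ξ)⁻¹ := rfl

theorem bdry_apply (η : (AddMonoidAlgebra A G1)ˣ) :
    bdry A η = F A e0 η * (F A e1 η)⁻¹ * F A e2 η := rfl

theorem comm_group_aux {G : Type*} [CommGroup G] (a b c d e f : G) :
    (a * b⁻¹ * c) * (a * d⁻¹ * e)⁻¹ * (b * d⁻¹ * f) * (c * e⁻¹ * f)⁻¹ = 1 := by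
  have h : ∀ (a b c d e f : Additive G),
      (a + -b + c) + -(a + -d + e) + (b + -d + f) + -(c + -e + f) = 0 := by
    intros; abel
  exact h (Additive.ofMul a) (Additive.ofMul b) (Additive.ofMul c) (Additive.ofMul d)
    (Additive.ofMul e) (Additive.ofMul f)

theorem coc_bdry (η : (AddMonoidAlgebra A G1)ˣ) : coc A (bdry A η) = 1 := by
  rw [coc_apply, bdry_apply]
  simp only [map_mul, map_inv, F_comp]
  rw [d0e0, d0e1, d0e2, d1e1, d1e2, d2e2]
  exact comm_group_aux _ _ _ _ _ _

end defs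

section nat

variable {A B : Type u} [CommRing A] [CommRing B] (q : A →+* B)

/-- change of coefficients on units -/
noncomputable def Q (G : Type) [AddCommGroup G] :
    (AddMonoidAlgebra A G)ˣ →* (AddMonoidAlgebra B G)ˣ :=
  Units.map (AddMonoidAlgebra.mapRingHom G q).toMonoidHom

theorem Q_F {G H : Type} [AddCommGroup G] [AddCommGroup H] (f : G →+ H)
    (x : (AddMonoidAlgebra A G)ˣ) : Q q H (F A f x) = F B f (Q q G x) := by
  apply Units.ext
  simp only [F, Q, Units.coe_map, RingHom.toMonoidHom_eq_coe, MonoidHom.coe_coe]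
  exact congrArg (fun h => h (x : AddMonoidAlgebra A G))
    (AddMonoidAlgebra.mapRingHom_comp_mapDomainRingHom q f)

theorem Q_coc (ξ : (AddMonoidAlgebra A G2)ˣ) : Q q G3 (coc A ξ) = coc B (Q q G2 ξ) := by
  simp only [coc_apply, map_mul, map_inv, Q_F]

theorem Q_bdry (η : (AddMonoidAlgebra A G1)ˣ) : Q q G2 (bdry A η) = bdry B (Q q G1 η) := by
  simp only [bdry_apply, map_mul, map_inv, Q_F]

end nat

section dom

variable {D : Type u} [CommRing D] [IsDomain D]

/-- Over a domain, a cocycle is constant. -/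
theorem coeff_eq_zero_of_coc (ξ : (AddMonoidAlgebra D G2)ˣ) (h : coc D ξ = 1) (g : G2)
    (hg : g ≠ 0) : (ξ : AddMonoidAlgebra D G2).coeff g = 0 := by
  classical
  have hc := LU.support_card_le_one_of_mul_eq_one (ξ : AddMonoidAlgebra D G2)
    ((ξ⁻¹ : (AddMonoidAlgebra D G2)ˣ) : AddMonoidAlgebra D G2) (Units.mul_inv ξ)
  have hne : (ξ : AddMonoidAlgebra D G2).coeff ≠ 0 := by
    intro h0
    have : (ξ : AddMonoidAlgebra D G2) = 0 := AddMonoidAlgebra.coeff_eq_zero.mp h0
    exact ξ.ne_zero this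
  obtain ⟨g0, hg0⟩ := Finsupp.support_nonempty_iff.mpr hne
  have hsupp : (ξ : AddMonoidAlgebra D G2).coeff.support = {g0} := by
    apply Finset.eq_singleton_iff_unique_mem.mpr
    refine ⟨hg0, fun x hx => ?_⟩
    exact Finset.card_le_one.mp hc x hx g0 hg0
  have hξ : (ξ : AddMonoidAlgebra D G2) = single g0 ((ξ : AddMonoidAlgebra D G2).coeff g0) := by
    apply AddMonoidAlgebra.ext
    ext x
    rw [AddMonoidAlgebra.coeff_single, Finsupp.single_apply]
    split_ifs with hx
    · rw [hx]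
    · by_contra hx0
      have : x ∈ (ξ : AddMonoidAlgebra D G2).coeff.support := Finsupp.mem_support_iff.mpr hx0
      rw [hsupp, Finset.mem_singleton] at this
      exact hx this.symm
  set a := (ξ : AddMonoidAlgebra D G2).coeff g0 with ha
  have ha0 : a ≠ 0 := Finsupp.mem_support_iff.mp hg0
  -- the cocycle identity without inverses
  have h1 : F D d0 ξ * F D d2 ξ = F D d1 ξ * F D d3 ξ := by
    rw [coc_apply] at h
    have h2 : F D d0 ξ * F D d2 ξ * ((F D d1 ξ)⁻¹ * (F D d3 ξ)⁻¹) = 1 := by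
      rw [← h]; ac_rfl
    rw [← mul_inv, mul_inv_eq_one] at h2
    exact h2
  have h3 := congrArg Units.val h1
  simp only [F, Units.val_mul, Units.coe_map, RingHom.toMonoidHom_eq_coe, MonoidHom.coe_coe,
    AddMonoidAlgebra.mapDomainRingHom_apply] at h3
  rw [hξ] at h3
  simp only [AddMonoidAlgebra.mapDomain_single, AddMonoidAlgebra.single_mul_single] at h3
  have h4 := congrArg AddMonoidAlgebra.coeff h3
  rw [AddMonoidAlgebra.coeff_single, AddMonoidAlgebra.coeff_single,
    Finsupp.single_eq_single_iff] at h4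
  rcases h4 with ⟨h4, _⟩ | ⟨h4, _⟩
  · have hg00 : g0 = 0 := eq_zero_of_d g0 h4
    rw [hξ, AddMonoidAlgebra.coeff_single, Finsupp.single_apply, if_neg]
    rw [hg00]
    exact Ne.symm hg
  · exact absurd h4 (mul_ne_zero ha0 ha0)

end dom

section nil

variable {A : Type u} [CommRing A]

/-- Over any ring, the non-constant coefficients of a cocycle are nilpotent. -/
theorem isNilpotent_coeff_of_coc (ξ : (AddMonoidAlgebra A G2)ˣ) (h : coc A ξ = 1) (g : G2)
    (hg : g ≠ 0) : IsNilpotent ((ξ : AddMonoidAlgebra A G2).coeff g) := by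
  rw [nilpotent_iff_mem_prime]
  intro p hp
  have : IsDomain (A ⧸ p) := Ideal.Quotient.isDomain p
  have h1 : coc (A ⧸ p) (Q (Ideal.Quotient.mk p) G2 ξ) = 1 := by
    rw [← Q_coc, h, map_one]
  have h2 := coeff_eq_zero_of_coc _ h1 g hg
  simp only [Q, Units.coe_map, RingHom.toMonoidHom_eq_coe, MonoidHom.coe_coe,
    AddMonoidAlgebra.coeff_mapRingHom] at h2
  exact Ideal.Quotient.eq_zero_iff_mem.mp h2

end nil

end Groth.Agent.H7.LCoc
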