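import Mathlib
import Groth.Agent.Lib.Helper7.LCoc2

/-! The additive contracting homotopy in degree two (helper7). -/

namespace Groth.Agent.H7.LCoc

universe u

open AddMonoidAlgebra

variable (A : Type u) [CommRing A]

theorem d0_injective : Function.Injective d0 := by
  intro g g' h
  rw [d0_apply, d0_apply, vec3_eq_iff] at h
  rw [g2_eta g, g2_eta g', h.2.1, h.2.2]

theorem e0_injective : Function.Injective e0 := by
  intro g g' h
  rw [e0_apply, e0_apply, vec2_eq_iff] at h
  rw [g1_eta g, g1_eta g', h.2]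

/-- coefficient extraction along `d0` -/
noncomputable def hh : AddMonoidAlgebra A G3 →+ AddMonoidAlgebra A G2 :=
  (AddMonoidAlgebra.coeffAddEquiv.symm.toAddMonoidHom.comp
    (Finsupp.comapDomain.addMonoidHom d0_injective)).comp
    AddMonoidAlgebra.coeffAddEquiv.toAddMonoidHom

/-- coefficient extraction along `e0` -/
noncomputable def pp : AddMonoidAlgebra A G2 →+ AddMonoidAlgebra A G1 :=
  (AddMonoidAlgebra.coeffAddEquiv.symm.toAddMonoidHom.comp
    (Finsupp.comapDomain.addMonoidHom e0_injective)).comp
    AddMonoidAlgebra.coeffAddEquiv.toAddMonoidHom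

theorem hh_coeff (z : AddMonoidAlgebra A G3) (g : G2) : (hh A z).coeff g = z.coeff (d0 g) := rfl

theorem pp_coeff (x : AddMonoidAlgebra A G2) (b : G1) : (pp A x).coeff b = x.coeff (e0 b) := rfl

/-- the additive differentials -/
noncomputable def Dadd : AddMonoidAlgebra A G2 →+ AddMonoidAlgebra A G3 :=
  (AddMonoidAlgebra.mapDomainRingHom A d0).toAddMonoidHom -
    (AddMonoidAlgebra.mapDomainRingHom A d1).toAddMonoidHom +
    (AddMonoidAlgebra.mapDomainRingHom A d2).toAddMonoidHom -
    (AddMonoidAlgebra.mapDomainRingHom A d3).toAddMonoidHom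

noncomputable def Eadd : AddMonoidAlgebra A G1 →+ AddMonoidAlgebra A G2 :=
  (AddMonoidAlgebra.mapDomainRingHom A e0).toAddMonoidHom -
    (AddMonoidAlgebra.mapDomainRingHom A e1).toAddMonoidHom +
    (AddMonoidAlgebra.mapDomainRingHom A e2).toAddMonoidHom

theorem Dadd_apply (x : AddMonoidAlgebra A G2) :
    Dadd A x = mapDomain d0 x - mapDomain d1 x + mapDomain d2 x - mapDomain d3 x := rfl

theorem Eadd_apply (y : AddMonoidAlgebra A G1) :
    Eadd A y = mapDomain e0 y - mapDomain e1 y + mapDomain e2 y := rfl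

theorem pp_single (g : G2) (r : A) :
    pp A (single g r) = if g 0 = 0 then single (![g 1] : G1) r else 0 := by
  apply AddMonoidAlgebra.ext
  ext b
  rw [pp_coeff, AddMonoidAlgebra.coeff_single, Finsupp.single_apply, e0_apply]
  split_ifs with h1 h2 h2
  · rw [AddMonoidAlgebra.coeff_single, Finsupp.single_apply, if_pos]
    rw [h1]
    ext i; fin_cases i; simp
  · exfalso; apply h2; rw [h1]; simp
  · rw [AddMonoidAlgebra.coeff_single, Finsupp.single_apply, if_neg]
    intro h3
    apply h1
    rw [g2_eta g, h2, ← h3]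
    simp
  · simp

theorem homotopy (x : AddMonoidAlgebra A G2) : x = hh A (Dadd A x) + Eadd A (pp A x) := by
  have : AddMonoidHom.id (AddMonoidAlgebra A G2) =
      (hh A).comp (Dadd A) + (Eadd A).comp (pp A) := by
    apply AddMonoidAlgebra.addMonoidHom_ext
    intro g r
    obtain ⟨a, b, rfl⟩ : ∃ a b : ℤ, g = ![a, b] := ⟨g 0, g 1, g2_eta g⟩
    simp only [AddMonoidHom.id_apply, AddMonoidHom.add_apply, AddMonoidHom.comp_apply,
      Dadd_apply, pp_single, AddMonoidAlgebra.mapDomain_single]
    apply AddMonoidAlgebra.ext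
    ext g'
    obtain ⟨a', b', rfl⟩ : ∃ a' b' : ℤ, g' = ![a', b'] := ⟨g' 0, g' 1, g2_eta g'⟩
    rw [AddMonoidAlgebra.coeff_add, Finsupp.add_apply, hh_coeff]
    by_cases ha : a = 0
    · subst ha
      simp only [Matrix.cons_val_zero, if_true, Eadd_apply]
      simp only [AddMonoidAlgebra.mapDomain_single, AddMonoidAlgebra.coeff_add,
        AddMonoidAlgebra.coeff_sub, Finsupp.add_apply, Finsupp.sub_apply,
        AddMonoidAlgebra.coeff_single, Finsupp.single_apply, d0_apply, d1_apply, d2_apply,
        d3_apply, e0_apply, e1_apply, e2_apply, vec3_eq_iff, vec2_eq_iff,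
        Matrix.cons_val_zero, Matrix.cons_val_one]
      simp only [true_and]
      ring
    · simp only [Matrix.cons_val_zero, if_neg ha, map_zero, AddMonoidAlgebra.coeff_zero,
        Finsupp.zero_apply, add_zero]
      simp only [AddMonoidAlgebra.coeff_add,
        AddMonoidAlgebra.coeff_sub, Finsupp.add_apply, Finsupp.sub_apply,
        AddMonoidAlgebra.coeff_single, Finsupp.single_apply, d0_apply, d1_apply, d2_apply,
        d3_apply, vec3_eq_iff, vec2_eq_iff, Matrix.cons_val_zero, Matrix.cons_val_one]
      simp only [ha, false_and, if_false, true_and]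
      ring
  exact congrArg (fun f => f x) this

end Groth.Agent.H7.LCoc
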