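import Mathlib
import Groth.Agent.Lib.Helper7.LCoc3

/-! Square-zero deformation step and the vanishing of `H²` (helper7). -/

namespace Groth.Agent.H7.LCoc

universe u

open AddMonoidAlgebra

section sq

variable {A : Type u} [CommRing A] (J : Ideal A)

/-- elements all of whose coefficients lie in `J` -/
noncomputable def JJ (G : Type) [AddCommGroup G] : Ideal (AddMonoidAlgebra A G) :=
  RingHom.ker (AddMonoidAlgebra.mapRingHom G (Ideal.Quotient.mk J))

theorem mem_JJ_iff {G : Type} [AddCommGroup G] (z : AddMonoidAlgebra A G) :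
    z ∈ JJ J G ↔ ∀ g, z.coeff g ∈ J := by
  rw [JJ, RingHom.mem_ker]
  constructor
  · intro h g
    have := congrArg (fun w => AddMonoidAlgebra.coeff w g) h
    simp only [AddMonoidAlgebra.coeff_mapRingHom, AddMonoidAlgebra.coeff_zero,
      Finsupp.zero_apply] at this
    exact Ideal.Quotient.eq_zero_iff_mem.mp this
  · intro h
    apply AddMonoidAlgebra.ext
    ext g
    rw [AddMonoidAlgebra.coeff_mapRingHom, AddMonoidAlgebra.coeff_zero, Finsupp.zero_apply]
    exact Ideal.Quotient.eq_zero_iff_mem.mpr (h g)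

theorem mapDomain_mem_JJ {G H : Type} [AddCommGroup G] [AddCommGroup H] (f : G →+ H)
    (z : AddMonoidAlgebra A G) (hz : z ∈ JJ J G) : mapDomain f z ∈ JJ J H := by
  rw [JJ, RingHom.mem_ker] at hz ⊢
  have := congrArg (fun h => h z)
    (AddMonoidAlgebra.mapRingHom_comp_mapDomainRingHom (Ideal.Quotient.mk J) f)
  simp only [RingHom.comp_apply, AddMonoidAlgebra.mapDomainRingHom_apply] at this
  rw [this, hz, AddMonoidAlgebra.mapDomain_zero]

variable (hJ : ∀ a ∈ J, ∀ b ∈ J, a * b = 0)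

include hJ in
theorem mul_eq_zero_of_mem_JJ {G : Type} [AddCommGroup G] (z w : AddMonoidAlgebra A G)
    (hz : z ∈ JJ J G) (hw : w ∈ JJ J G) : z * w = 0 := by
  classical
  rw [mem_JJ_iff] at hz hw
  apply AddMonoidAlgebra.ext
  ext g
  rw [AddMonoidAlgebra.coeff_mul, AddMonoidAlgebra.coeff_zero, Finsupp.zero_apply, Finsupp.sum]
  refine Finset.sum_eq_zero fun a _ => ?_
  rw [Finsupp.sum]
  refine Finset.sum_eq_zero fun b _ => ?_
  split_ifs
  · exact hJ _ (hz a) _ (hw b)
  · rfl

/-- `1 + z` as a unit -/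
noncomputable def oneAdd {G : Type} [AddCommGroup G] (z : AddMonoidAlgebra A G)
    (hz : z ∈ JJ J G) : (AddMonoidAlgebra A G)ˣ :=
  ⟨1 + z, 1 - z, by
    have := mul_eq_zero_of_mem_JJ J hJ z z hz hz
    linear_combination -this, by
    have := mul_eq_zero_of_mem_JJ J hJ z z hz hz
    linear_combination -this⟩

theorem oneAdd_mul {G : Type} [AddCommGroup G] (z w : AddMonoidAlgebra A G)
    (hz : z ∈ JJ J G) (hw : w ∈ JJ J G) :
    oneAdd J hJ z hz * oneAdd J hJ w hw = oneAdd J hJ (z + w) ((JJ J G).add_mem hz hw) := by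
  apply Units.ext
  show (1 + z) * (1 + w) = 1 + (z + w)
  have := mul_eq_zero_of_mem_JJ J hJ z w hz hw
  linear_combination this

theorem oneAdd_inv {G : Type} [AddCommGroup G] (z : AddMonoidAlgebra A G)
    (hz : z ∈ JJ J G) :
    (oneAdd J hJ z hz)⁻¹ = oneAdd J hJ (-z) ((JJ J G).neg_mem hz) := by
  apply Units.ext
  show 1 - z = 1 + -z
  ring

theorem F_oneAdd {G H : Type} [AddCommGroup G] [AddCommGroup H] (f : G →+ H)
    (z : AddMonoidAlgebra A G) (hz : z ∈ JJ J G) :
    F A f (oneAdd J hJ z hz) = oneAdd J hJ (mapDomain f z) (mapDomain_mem_JJ J f z hz) := by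
  apply Units.ext
  show AddMonoidAlgebra.mapDomainRingHom A f (1 + z) = 1 + mapDomain f z
  rw [map_add, map_one]
  rfl

theorem oneAdd_congr {G : Type} [AddCommGroup G] (z w : AddMonoidAlgebra A G)
    (hz : z ∈ JJ J G) (h : z = w) :
    oneAdd J hJ z hz = oneAdd J hJ w (h ▸ hz) := by
  subst h; rfl

include hJ in
/-- the square-zero step -/
theorem exists_bdry_of_sqZero (ξ : (AddMonoidAlgebra A G2)ˣ) (hcoc : coc A ξ = 1)
    (hξ : (ξ : AddMonoidAlgebra A G2) - 1 ∈ JJ J G2) :
    ∃ η : (AddMonoidAlgebra A G1)ˣ, ξ = bdry A η := by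
  set x : AddMonoidAlgebra A G2 := (ξ : AddMonoidAlgebra A G2) - 1 with hx
  have hξx : ξ = oneAdd J hJ x hξ := by
    apply Units.ext
    show (ξ : AddMonoidAlgebra A G2) = 1 + x
    rw [hx]; ring
  -- the additive cocycle condition
  have hD : Dadd A x = 0 := by
    have h1 : coc A (oneAdd J hJ x hξ) = oneAdd J hJ (Dadd A x) (by
        rw [Dadd_apply]
        exact (JJ J G3).sub_mem ((JJ J G3).add_mem ((JJ J G3).sub_mem
          (mapDomain_mem_JJ J d0 x hξ) (mapDomain_mem_JJ J d1 x hξ))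
          (mapDomain_mem_JJ J d2 x hξ)) (mapDomain_mem_JJ J d3 x hξ)) := by
      rw [coc_apply, F_oneAdd, F_oneAdd, F_oneAdd, F_oneAdd, oneAdd_inv, oneAdd_inv, oneAdd_mul,
        oneAdd_mul, oneAdd_mul]
      apply oneAdd_congr
      rw [Dadd_apply]
      abel
    rw [← hξx, hcoc] at h1
    have h2 := congrArg Units.val h1
    change (1 : AddMonoidAlgebra A G3) = 1 + Dadd A x at h2
    exact (by linear_combination -h2 : Dadd A x = 0)
  have hy : pp A x ∈ JJ J G1 := by
    rw [mem_JJ_iff] at hξ ⊢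
    intro b
    rw [pp_coeff]
    exact hξ _
  have hxE : x = Eadd A (pp A x) := by
    have := homotopy A x
    rw [hD, map_zero, zero_add] at this
    exact this
  refine ⟨oneAdd J hJ (pp A x) hy, ?_⟩
  rw [hξx, bdry_apply, F_oneAdd, F_oneAdd, F_oneAdd, oneAdd_inv, oneAdd_mul, oneAdd_mul]
  apply oneAdd_congr
  calc x = Eadd A (pp A x) := hxE
    _ = _ := by rw [Eadd_apply]; abel

include hJ in
/-- units lift along square-zero quotients -/
theorem exists_lift_unit {G : Type} [AddCommGroup G]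
    (η' : (AddMonoidAlgebra (A ⧸ J) G)ˣ) :
    ∃ η : (AddMonoidAlgebra A G)ˣ, Q (Ideal.Quotient.mk J) G η = η' := by
  have hsurj : Function.Surjective (AddMonoidAlgebra.mapRingHom G (Ideal.Quotient.mk J)) := by
    intro w
    obtain ⟨c, hc⟩ := Finsupp.mapRange_surjective (Ideal.Quotient.mk J) (map_zero _)
      Ideal.Quotient.mk_surjective w.coeff
    refine ⟨AddMonoidAlgebra.ofCoeff c, ?_⟩
    apply AddMonoidAlgebra.ext
    ext g
    rw [AddMonoidAlgebra.coeff_mapRingHom, ← hc]
    rfl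
  obtain ⟨a, ha⟩ := hsurj (η' : AddMonoidAlgebra (A ⧸ J) G)
  obtain ⟨b, hb⟩ := hsurj ((η'⁻¹ : (AddMonoidAlgebra (A ⧸ J) G)ˣ) : AddMonoidAlgebra (A ⧸ J) G)
  have hj : a * b - 1 ∈ JJ J G := by
    rw [JJ, RingHom.mem_ker, map_sub, map_mul, ha, hb, Units.mul_inv, map_one, sub_self]
  have h1 : a * (b * (1 - (a * b - 1))) = 1 := by
    have := mul_eq_zero_of_mem_JJ J hJ _ _ hj hj
    linear_combination -this
  refine ⟨⟨a, b * (1 - (a * b - 1)), h1, by rw [mul_comm]; exact h1⟩, ?_⟩
  apply Units.ext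
  exact ha

end sq

section main

/-- the constant units -/
noncomputable def cst (A : Type u) [CommRing A] (G : Type) [AddCommGroup G] :
    Aˣ →* (AddMonoidAlgebra A G)ˣ :=
  Units.map (AddMonoidAlgebra.singleZeroRingHom : A →+* AddMonoidAlgebra A G).toMonoidHom

theorem F_cst (A : Type u) [CommRing A] {G H : Type} [AddCommGroup G] [AddCommGroup H]
    (f : G →+ H) (a : Aˣ) : F A f (cst A G a) = cst A H a := by
  apply Units.ext
  show AddMonoidAlgebra.mapDomainRingHom A f (single 0 (a : A)) = single 0 (a : A)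
  rw [AddMonoidAlgebra.mapDomainRingHom_apply, AddMonoidAlgebra.mapDomain_single, map_zero]

theorem bdry_cst (A : Type u) [CommRing A] (a : Aˣ) : bdry A (cst A G1 a) = cst A G2 a := by
  rw [bdry_apply, F_cst, F_cst, F_cst, mul_inv_cancel, one_mul]

theorem T : ∀ (k : ℕ) (A : Type u) [CommRing A] (I : Ideal A), I ^ k = ⊥ →
    ∀ ξ : (AddMonoidAlgebra A G2)ˣ, coc A ξ = 1 →
      (∀ g, g ≠ 0 → (ξ : AddMonoidAlgebra A G2).coeff g ∈ I) →
      ∃ η : (AddMonoidAlgebra A G1)ˣ, ξ = bdry A η := by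
  intro k
  induction k with
  | zero =>
    intro A _ I hI ξ _ _
    rw [pow_zero, Ideal.one_eq_top] at hI
    have : Subsingleton A := by
      have h1 : (1 : A) ∈ (⊥ : Ideal A) := hI ▸ Submodule.mem_top
      rw [Ideal.mem_bot] at h1
      exact subsingleton_of_zero_eq_one h1.symm
    exact ⟨1, Units.ext (Subsingleton.elim _ _)⟩
  | succ k ih =>
    intro A _ I hI ξ hcoc hξ
    rcases Nat.eq_zero_or_pos k with rfl | hk
    · -- I = ⊥ : ξ is constant
      rw [zero_add, pow_one] at hI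
      have h0 : ∀ g, g ≠ 0 → (ξ : AddMonoidAlgebra A G2).coeff g = 0 := by
        intro g hg
        have := hξ g hg
        rwa [hI, Ideal.mem_bot] at this
      set a := (ξ : AddMonoidAlgebra A G2).coeff 0 with ha
      have hξa : (ξ : AddMonoidAlgebra A G2) = single 0 a := by
        apply AddMonoidAlgebra.ext
        ext g
        rw [AddMonoidAlgebra.coeff_single, Finsupp.single_apply]
        split_ifs with hg
        · rw [← hg]
        · exact h0 g (Ne.symm hg)
      have hau : a * ((ξ⁻¹ : (AddMonoidAlgebra A G2)ˣ) : AddMonoidAlgebra A G2).coeff 0 = 1 := by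
        have := congrArg (fun w => AddMonoidAlgebra.coeff w 0) (Units.mul_inv ξ)
        rw [hξa, AddMonoidAlgebra.coeff_single_zero_mul] at this
        rw [this]
        simp [AddMonoidAlgebra.one_def]
      let aU : Aˣ := ⟨a, _, hau, by rw [mul_comm]; exact hau⟩
      refine ⟨cst A G1 aU, ?_⟩
      rw [bdry_cst]
      apply Units.ext
      exact hξa
    · -- square-zero step with J = I^k
      set J : Ideal A := I ^ k with hJdef
      have hJ : ∀ a ∈ J, ∀ b ∈ J, a * b = 0 := by
        intro a ha b hb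
        have h1 : a * b ∈ J * J := Ideal.mul_mem_mul ha hb
        have h2 : J * J ≤ I ^ (k + 1) := by
          rw [hJdef, ← pow_add]
          exact Ideal.pow_le_pow_right (by omega)
        have := h2 h1
        rwa [hI, Ideal.mem_bot] at this
      let q := Ideal.Quotient.mk J
      have hIq : (I.map q) ^ k = ⊥ := by
        rw [← Ideal.map_pow, ← hJdef]
        exact Ideal.map_quotient_self J
      have hcoc' : coc (A ⧸ J) (Q q G2 ξ) = 1 := by
        rw [← Q_coc, hcoc, map_one]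
      have hξ' : ∀ g, g ≠ 0 →
          ((Q q G2 ξ : (AddMonoidAlgebra (A ⧸ J) G2)ˣ) : AddMonoidAlgebra (A ⧸ J) G2).coeff g ∈
            I.map q := by
        intro g hg
        simp only [Q, Units.coe_map, RingHom.toMonoidHom_eq_coe, MonoidHom.coe_coe,
          AddMonoidAlgebra.coeff_mapRingHom]
        exact Ideal.mem_map_of_mem q (hξ g hg)
      obtain ⟨η', hη'⟩ := ih (A ⧸ J) (I.map q) hIq (Q q G2 ξ) hcoc' hξ'
      obtain ⟨η, hη⟩ := exists_lift_unit J hJ η'
      set ξ' := ξ * (bdry A η)⁻¹ with hξ'def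
      have hQ : Q q G2 ξ' = 1 := by
        rw [hξ'def, map_mul, map_inv, Q_bdry, hη, ← hη', mul_inv_cancel]
      have hmem : (ξ' : AddMonoidAlgebra A G2) - 1 ∈ JJ J G2 := by
        rw [JJ, RingHom.mem_ker, map_sub, map_one, sub_eq_zero]
        have := congrArg Units.val hQ
        exact this
      have hcoc'' : coc A ξ' = 1 := by
        rw [hξ'def, map_mul, map_inv, hcoc, coc_bdry, inv_one, mul_one]
      obtain ⟨η₂, hη₂⟩ := exists_bdry_of_sqZero J hJ ξ' hcoc'' hmem
      refine ⟨η₂ * η, ?_⟩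
      rw [map_mul, ← hη₂, hξ'def, inv_mul_cancel_right]

/-- every 2-cocycle is a coboundary. -/
theorem main (A : Type u) [CommRing A] (ξ : (AddMonoidAlgebra A G2)ˣ) (hcoc : coc A ξ = 1) :
    ∃ η : (AddMonoidAlgebra A G1)ˣ, ξ = bdry A η := by
  classical
  let S : Finset A := ((ξ : AddMonoidAlgebra A G2).coeff.support.erase 0).image
    (fun g => (ξ : AddMonoidAlgebra A G2).coeff g)
  let I : Ideal A := Ideal.span (S : Set A)
  have hfg : I.FG := ⟨S, rfl⟩
  have hle : I ≤ nilradical A := by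
    rw [Ideal.span_le]
    intro a ha
    obtain ⟨g, hg, rfl⟩ := Finset.mem_image.mp (Finset.mem_coe.mp ha)
    exact isNilpotent_coeff_of_coc ξ hcoc g (Finset.ne_of_mem_erase hg)
  obtain ⟨k, hk⟩ := hfg.isNilpotent_iff_le_nilradical.mpr hle
  refine T k A I hk ξ hcoc ?_
  intro g hg
  by_cases h0 : (ξ : AddMonoidAlgebra A G2).coeff g = 0
  · rw [h0]; exact I.zero_mem
  · apply Ideal.subset_span
    apply Finset.mem_coe.mpr
    exact Finset.mem_image.mpr ⟨g, Finset.mem_erase.mpr ⟨hg, Finsupp.mem_support_iff.mpr h0⟩, rfl⟩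

end main

end Groth.Agent.H7.LCoc
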