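import Mathlib

/-!
# Colimit criteria for presheaves along cofiltered systems are local for finite covers (helper7)
-/

set_option autoImplicit false
universe u w v₁ u₁

open CategoryTheory CategoryTheory.Limits Opposite

namespace Groth.Agent.H7.LPLoc

variable {C : Type u₁} [Category.{v₁} C] {K : Type u} [SmallCategory K]

/-- a finite family of arrows into `k` has a common refinement. -/
lemma exists_common [IsCofiltered K] {M : Type*} [Finite M] (k : K) (km : M → K)
    (fm : ∀ m, km m ⟶ k) :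
    ∃ (k' : K) (f : k' ⟶ k), ∀ m, ∃ g : k' ⟶ km m, g ≫ fm m = f := by
  classical
  haveI := Fintype.ofFinite M
  have key : ∀ s : Finset M, ∃ (k' : K) (f : k' ⟶ k), ∀ m ∈ s, ∃ g : k' ⟶ km m, g ≫ fm m = f := by
    intro s
    induction s using Finset.induction_on with
    | empty => exact ⟨k, 𝟙 k, fun m hm => absurd hm (Finset.notMem_empty m)⟩
    | insert m₀ s hm₀ ih =>
      obtain ⟨k', f, hf⟩ := ih
      obtain ⟨c, p, q, hpq⟩ := IsCofiltered.cospan f (fm m₀)
      refine ⟨c, p ≫ f, fun m hm => ?_⟩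
      rcases Finset.mem_insert.1 hm with rfl | hm
      · exact ⟨q, hpq.symm⟩
      · obtain ⟨g, hg⟩ := hf m hm
        exact ⟨p ≫ g, by rw [Category.assoc, hg]⟩
  obtain ⟨k', f, hf⟩ := key Finset.univ
  exact ⟨k', f, fun m => hf m (Finset.mem_univ m)⟩

variable (F : Cᵒᵖ ⥤ Type w)

/-- every section over the vertex comes from a stage. -/
def Surj (E : K ⥤ C) (e : Cone E) : Prop :=
  ∀ x : F.obj (op e.pt), ∃ (k : K) (xk : F.obj (op (E.obj k))), F.map (e.π.app k).op xk = x

/-- sections of a stage which agree over the vertex agree at a further stage. -/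
def Inj (E : K ⥤ C) (e : Cone E) : Prop :=
  ∀ (k : K) (x x' : F.obj (op (E.obj k))), F.map (e.π.app k).op x = F.map (e.π.app k).op x' →
    ∃ (k' : K) (φ : k' ⟶ k), F.map (E.map φ).op x = F.map (E.map φ).op x'

lemma map_w (E : K ⥤ C) (e : Cone E) {k k' : K} (φ : k' ⟶ k) (x : F.obj (op (E.obj k))) :
    F.map (e.π.app k').op (F.map (E.map φ).op x) = F.map (e.π.app k).op x := by
  rw [← Functor.map_comp_apply, ← op_comp, e.w]

variable [IsCofiltered K] {M : Type*} [Finite M]
  (E : K ⥤ C) (e : Cone E) (Em : M → (K ⥤ C)) (em : ∀ m, Cone (Em m))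
  (πm : ∀ m, Em m ⟶ E) (πpt : ∀ m, (em m).pt ⟶ e.pt)
  (hπ : ∀ m k, (em m).π.app k ≫ (πm m).app k = πpt m ≫ e.π.app k)
  (Emm : M → M → (K ⥤ C)) (emm : ∀ m m', Cone (Emm m m'))
  (p1 : ∀ m m', Emm m m' ⟶ Em m) (p2 : ∀ m m', Emm m m' ⟶ Em m')
  (p1pt : ∀ m m', (emm m m').pt ⟶ (em m).pt) (p2pt : ∀ m m', (emm m m').pt ⟶ (em m').pt)
  (hp1 : ∀ m m' k, (emm m m').π.app k ≫ (p1 m m').app k = p1pt m m' ≫ (em m).π.app k)
  (hp2 : ∀ m m' k, (emm m m').π.app k ≫ (p2 m m').app k = p2pt m m' ≫ (em m').π.app k)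
  (hpt : ∀ m m', p1pt m m' ≫ πpt m = p2pt m m' ≫ πpt m')
  (sep_k : ∀ (k : K) (x y : F.obj (op (E.obj k))),
    (∀ m, F.map ((πm m).app k).op x = F.map ((πm m).app k).op y) → x = y)
  (sep_pt : ∀ (x y : F.obj (op e.pt)), (∀ m, F.map (πpt m).op x = F.map (πpt m).op y) → x = y)
  (glue_k : ∀ (k : K) (x : ∀ m, F.obj (op ((Em m).obj k))),
    (∀ m m', F.map ((p1 m m').app k).op (x m) = F.map ((p2 m m').app k).op (x m')) →
      ∃ y : F.obj (op (E.obj k)), ∀ m, F.map ((πm m).app k).op y = x m)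
  (hS : ∀ m, Surj F (Em m) (em m)) (hI : ∀ m, Inj F (Em m) (em m))
  (hII : ∀ m m', Inj F (Emm m m') (emm m m'))

include hπ sep_k hI in
theorem inj_of_local : Inj F E e := by
  intro k x x' hxx'
  have h1 : ∀ m, ∃ (k' : K) (φ : k' ⟶ k),
      F.map ((Em m).map φ).op (F.map ((πm m).app k).op x) =
        F.map ((Em m).map φ).op (F.map ((πm m).app k).op x') := by
    intro m
    apply hI m k
    rw [← Functor.map_comp_apply, ← Functor.map_comp_apply, ← op_comp, hπ, op_comp,
      Functor.map_comp_apply, Functor.map_comp_apply, hxx']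
  choose km fm hfm using h1
  obtain ⟨k', f, hf⟩ := exists_common k km fm
  refine ⟨k', f, ?_⟩
  apply sep_k
  intro m
  obtain ⟨g, hg⟩ := hf m
  have h2 := congrArg (F.map ((Em m).map g).op) (hfm m)
  have key : (πm m).app k' ≫ E.map f = (Em m).map g ≫ (Em m).map (fm m) ≫ (πm m).app k := by
    rw [← (πm m).naturality, ← hg, Functor.map_comp, Category.assoc]
  have e1 : ∀ z : F.obj (op (E.obj k)), F.map ((πm m).app k').op (F.map (E.map f).op z) =
      F.map ((Em m).map g).op (F.map ((Em m).map (fm m)).op (F.map ((πm m).app k).op z)) := by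
    intro z
    rw [← Functor.map_comp_apply, ← op_comp, key, op_comp, op_comp, Functor.map_comp_apply,
      Functor.map_comp_apply]
  rw [e1, e1, h2]

include hπ hp1 hp2 hpt sep_pt glue_k hS hII in
theorem surj_of_local : Surj F E e := by
  intro x
  -- lift each restriction
  have h1 : ∀ m, ∃ (k : K) (y : F.obj (op ((Em m).obj k))),
      F.map ((em m).π.app k).op y = F.map (πpt m).op x := fun m => hS m _
  choose km ym hym using h1
  obtain ⟨k₀⟩ := IsCofiltered.nonempty (C := K)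
  -- common stage
  obtain ⟨k₁, f₁, hk₁⟩ := exists_common (M := M) k₀ (fun m => IsCofiltered.min (km m) k₀)
    (fun m => IsCofiltered.minToRight (km m) k₀)
  choose g₁ hg₁ using hk₁
  let h₁ : ∀ m, k₁ ⟶ km m := fun m => g₁ m ≫ IsCofiltered.minToLeft (km m) k₀
  obtain ⟨y1, hy1def⟩ : ∃ y1 : ∀ m, F.obj (op ((Em m).obj k₁)),
      ∀ m, y1 m = F.map ((Em m).map (h₁ m)).op (ym m) := ⟨_, fun _ => rfl⟩
  have hy1 : ∀ m, F.map ((em m).π.app k₁).op (y1 m) = F.map (πpt m).op x := fun m => by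
    rw [hy1def, map_w, hym]
  -- agreement on overlaps at a further stage
  have h2 : ∀ mm : M × M, ∃ (k' : K) (φ : k' ⟶ k₁),
      F.map ((Emm mm.1 mm.2).map φ).op (F.map ((p1 mm.1 mm.2).app k₁).op (y1 mm.1)) =
        F.map ((Emm mm.1 mm.2).map φ).op (F.map ((p2 mm.1 mm.2).app k₁).op (y1 mm.2)) := by
    rintro ⟨m, m'⟩
    apply hII m m' k₁
    have a1 : F.map ((emm m m').π.app k₁).op (F.map ((p1 m m').app k₁).op (y1 m)) =
        F.map (p1pt m m' ≫ πpt m).op x := by
      rw [← Functor.map_comp_apply, ← op_comp, hp1, op_comp, Functor.map_comp_apply, hy1,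
        ← Functor.map_comp_apply, ← op_comp]
    have a2 : F.map ((emm m m').π.app k₁).op (F.map ((p2 m m').app k₁).op (y1 m')) =
        F.map (p2pt m m' ≫ πpt m').op x := by
      rw [← Functor.map_comp_apply, ← op_comp, hp2, op_comp, Functor.map_comp_apply, hy1,
        ← Functor.map_comp_apply, ← op_comp]
    rw [a1, a2, hpt]
  choose kmm φmm hφmm using h2
  obtain ⟨k₂, f₂, hk₂⟩ := exists_common k₁ kmm φmm
  obtain ⟨y2, hy2def⟩ : ∃ y2 : ∀ m, F.obj (op ((Em m).obj k₂)),
      ∀ m, y2 m = F.map ((Em m).map f₂).op (y1 m) := ⟨_, fun _ => rfl⟩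
  have hy2 : ∀ m m', F.map ((p1 m m').app k₂).op (y2 m) = F.map ((p2 m m').app k₂).op (y2 m') := by
    intro m m'
    obtain ⟨g, hg⟩ := hk₂ (m, m')
    have e1 : F.map ((p1 m m').app k₂).op (y2 m) =
        F.map ((Emm m m').map g).op (F.map ((Emm m m').map (φmm (m, m'))).op
          (F.map ((p1 m m').app k₁).op (y1 m))) := by
      rw [hy2def, ← Functor.map_comp_apply, ← op_comp, ← (p1 m m').naturality, ← hg, Functor.map_comp,
        Category.assoc, op_comp, op_comp, Functor.map_comp_apply, Functor.map_comp_apply]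
    have e2 : F.map ((p2 m m').app k₂).op (y2 m') =
        F.map ((Emm m m').map g).op (F.map ((Emm m m').map (φmm (m, m'))).op
          (F.map ((p2 m m').app k₁).op (y1 m'))) := by
      rw [hy2def, ← Functor.map_comp_apply, ← op_comp, ← (p2 m m').naturality, ← hg, Functor.map_comp,
        Category.assoc, op_comp, op_comp, Functor.map_comp_apply, Functor.map_comp_apply]
    rw [e1, e2, hφmm (m, m')]
  obtain ⟨y, hy⟩ := glue_k k₂ y2 hy2
  refine ⟨k₂, y, ?_⟩
  apply sep_pt
  intro m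
  rw [← Functor.map_comp_apply, ← op_comp, ← hπ, op_comp, Functor.map_comp_apply, hy]
  rw [hy2def, map_w, hy1]

end Groth.Agent.H7.LPLoc
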