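import Groth.Agent.Lib.Helper7.LPLoc1
import Groth.Agent.Lib.Helper5.AlgSp.RelLP
import Groth.Agent.Lib.Helper5.AlgSp.Cover
import Groth.Agent.Lib.Lead.FF.LimPres
import Mathlib

/-!
# Limit preservation is fppf local on the base (helper7)
-/

set_option autoImplicit false
universe u

open CategoryTheory CategoryTheory.Limits AlgebraicGeometry Opposite

namespace Groth.Agent.H7.LPLoc

open _root_.AlgSp Groth.Agent.H5.AlgSp Groth.Agent.H5.RelLP Groth.Agent.LD.FF

variable {S : Scheme.{u}}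

section Sheaf

variable {F : PSp S} (hF : Presheaf.IsSheaf (J S) F)

lemma mem_J_of_family {T : Over S} {M : Type*} (A : M → Over S) (a : ∀ m, A m ⟶ T)
    (hfl : ∀ m, Flat (a m).left) (hlfp : ∀ m, LocallyOfFinitePresentation (a m).left)
    (hsurj : ∀ t : ↥T.left, ∃ m, t ∈ Set.range (a m).left) :
    Sieve.generate (Presieve.ofArrows A a) ∈ J S T := by
  rw [mem_J_iff]
  refine ⟨Presieve.ofArrows A a, ?_, Sieve.le_generate _⟩
  rw [Presieve.map_ofArrows]
  exact (Scheme.ofArrows_mem_precoverage_iff (P := @Flat ⊓ @LocallyOfFinitePresentation)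
    (X := fun m => (A m).left) (f := fun m => (a m).left)).2
    ⟨hsurj, fun m => ⟨hfl m, hlfp m⟩⟩

include hF in
lemma eq_of_family {Z : Over S} {M : Type*} (A : M → Over S) (a : ∀ m, A m ⟶ Z)
    (hcov : Sieve.generate (Presieve.ofArrows A a) ∈ J S Z) (x y : F.obj (op Z))
    (h : ∀ m, F.map (a m).op x = F.map (a m).op y) : x = y := by
  have hF' : Presieve.IsSheaf (J S) F := (isSheaf_iff_isSheaf_of_type _ _).1 hF
  apply (hF' _ hcov).isSeparatedFor.ext
  rintro Y f ⟨Y', g, _, ⟨m⟩, rfl⟩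
  rw [op_comp, Functor.map_comp_apply, Functor.map_comp_apply, h]

include hF in
lemma exists_of_family {Z : Over S} {M : Type*} (A : M → Over S) (a : ∀ m, A m ⟶ Z)
    (hcov : Sieve.generate (Presieve.ofArrows A a) ∈ J S Z) (x : ∀ m, F.obj (op (A m)))
    (hcompat : ∀ (m m' : M) (Q : Over S) (g : Q ⟶ A m) (g' : Q ⟶ A m'), g ≫ a m = g' ≫ a m' →
      F.map g.op (x m) = F.map g'.op (x m')) :
    ∃ y : F.obj (op Z), ∀ m, F.map (a m).op y = x m := by
  have hF' : Presieve.IsSheaf (J S) F := (isSheaf_iff_isSheaf_of_type _ _).1 hF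
  have hsh : Presieve.IsSheafFor F (Presieve.ofArrows A a) :=
    (Presieve.isSheafFor_iff_generate _).2 (hF' _ hcov)
  rw [Presieve.isSheafFor_arrows_iff] at hsh
  obtain ⟨y, hy, -⟩ := hsh x (fun m m' Q g g' hgg' => hcompat m m' Q g g' hgg')
  exact ⟨y, hy⟩

end Sheaf


section Chart

variable {ι : Type u} (U : ι → Over S) (T₀ : Over S)

/-- An affine scheme over `T₀` and over a member of the family, compatibly over `S`. -/
structure Chart where
  W : Scheme.{u}
  aff : IsAffine W
  a : W ⟶ T₀.left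
  j : ι
  b : W ⟶ (U j).left
  hab : a ≫ T₀.hom = b ≫ (U j).hom

variable {U T₀}

attribute [instance] Chart.aff

/-- The base change of the chart to `Z` over `T₀`, as a scheme over the member `U j`. -/
noncomputable abbrev Chart.PU (Ch : Chart U T₀) {Z : Over S} (τ : Z ⟶ T₀) : Over (U Ch.j).left :=
  Over.mk (pullback.fst Ch.a τ.left ≫ Ch.b)

/-- The base change of the chart to `Z` over `T₀`, as a scheme over `S`. -/
noncomputable abbrev Chart.P (Ch : Chart U T₀) {Z : Over S} (τ : Z ⟶ T₀) : Over S :=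
  (Over.map (U Ch.j).hom).obj (Ch.PU τ)

lemma Chart.P_hom (Ch : Chart U T₀) {Z : Over S} (τ : Z ⟶ T₀) :
    (Ch.P τ).hom = pullback.snd Ch.a τ.left ≫ Z.hom := by
  change (pullback.fst Ch.a τ.left ≫ Ch.b) ≫ (U Ch.j).hom = _
  rw [Category.assoc, ← Ch.hab, ← Category.assoc, pullback.condition, Category.assoc, Over.w τ]

/-- The projection to `Z`. -/
noncomputable def Chart.π (Ch : Chart U T₀) {Z : Over S} (τ : Z ⟶ T₀) : Ch.P τ ⟶ Z :=
  Over.homMk (pullback.snd Ch.a τ.left) (Ch.P_hom τ).symm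

@[simp] lemma Chart.π_left (Ch : Chart U T₀) {Z : Over S} (τ : Z ⟶ T₀) :
    (Ch.π τ).left = pullback.snd Ch.a τ.left := rfl

/-- Functoriality in `Z`, over the member `U j`. -/
noncomputable def Chart.mapU (Ch : Chart U T₀) {Z Z' : Over S} (τ : Z ⟶ T₀) (τ' : Z' ⟶ T₀)
    (g : Z' ⟶ Z) (hg : g ≫ τ = τ') : Ch.PU τ' ⟶ Ch.PU τ :=
  Over.homMk (pullback.map Ch.a τ'.left Ch.a τ.left (𝟙 _) g.left (𝟙 _) (by simp)
    (by rw [Category.comp_id, ← hg, Over.comp_left])) (by
      change _ ≫ pullback.fst Ch.a τ.left ≫ Ch.b = pullback.fst Ch.a τ'.left ≫ Ch.b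
      unfold pullback.map
      rw [← Category.assoc, pullback.lift_fst, Category.comp_id])

@[simp] lemma Chart.mapU_left_fst (Ch : Chart U T₀) {Z Z' : Over S} (τ : Z ⟶ T₀) (τ' : Z' ⟶ T₀)
    (g : Z' ⟶ Z) (hg : g ≫ τ = τ') :
    (Ch.mapU τ τ' g hg).left ≫ pullback.fst Ch.a τ.left = pullback.fst Ch.a τ'.left := by
  exact (pullback.lift_fst _ _ _).trans (Category.comp_id _)

@[simp] lemma Chart.mapU_left_snd (Ch : Chart U T₀) {Z Z' : Over S} (τ : Z ⟶ T₀) (τ' : Z' ⟶ T₀)
    (g : Z' ⟶ Z) (hg : g ≫ τ = τ') :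
    (Ch.mapU τ τ' g hg).left ≫ pullback.snd Ch.a τ.left = pullback.snd Ch.a τ'.left ≫ g.left := by
  exact pullback.lift_snd _ _ _

lemma Chart.PU_hom_ext (Ch : Chart U T₀) {Z : Over S} (τ : Z ⟶ T₀) {Y : Over (U Ch.j).left}
    (f g : Y ⟶ Ch.PU τ) (h1 : f.left ≫ pullback.fst Ch.a τ.left = g.left ≫ pullback.fst Ch.a τ.left)
    (h2 : f.left ≫ pullback.snd Ch.a τ.left = g.left ≫ pullback.snd Ch.a τ.left) : f = g :=
  Over.OverMorphism.ext (pullback.hom_ext h1 h2)

end Chart

section Diagram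

variable {ι : Type u} {U : ι → Over S} {I : Type u} [SmallCategory I] (D : I ⥤ Over S)
  (c : Cone D) (i₀ : I) (Ch : Chart U (D.obj i₀))

/-- The base change of the system to the chart, over the member `U j`. -/
noncomputable def bcD : Over i₀ ⥤ Over (U Ch.j).left where
  obj k := Ch.PU (D.map k.hom)
  map {k k'} g := Ch.mapU (D.map k'.hom) (D.map k.hom) (D.map g.left)
    (by rw [← D.map_comp, Over.w g])
  map_id k := by
    apply Ch.PU_hom_ext
    · rw [Chart.mapU_left_fst]; exact (Category.id_comp _).symm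
    · rw [Chart.mapU_left_snd]
      change _ ≫ (D.map (𝟙 k.left)).left = 𝟙 _ ≫ _
      rw [D.map_id, Over.id_left, Category.comp_id, Category.id_comp]
  map_comp {k k' k''} g h := by
    apply Ch.PU_hom_ext
    · rw [Chart.mapU_left_fst, Over.comp_left, Category.assoc, Chart.mapU_left_fst,
        Chart.mapU_left_fst]
    · have e : D.map (g ≫ h).left = D.map g.left ≫ D.map h.left := by
        rw [Over.comp_left, D.map_comp]
      rw [Chart.mapU_left_snd, e, Over.comp_left, Over.comp_left, Category.assoc,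
        Chart.mapU_left_snd, ← Category.assoc (Ch.mapU _ _ _ _).left, Chart.mapU_left_snd,
        Category.assoc]

/-- The base change of the cone to the chart. -/
noncomputable def bcC : Cone (bcD D i₀ Ch) where
  pt := Ch.PU (c.π.app i₀)
  π :=
    { app := fun k => Ch.mapU (D.map k.hom) (c.π.app i₀) (c.π.app k.left) (c.w k.hom)
      naturality := fun k k' g => by
        refine (Category.id_comp _).trans ?_
        change Ch.mapU (D.map k'.hom) (c.π.app i₀) (c.π.app k'.left) (c.w k'.hom) =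
          Ch.mapU (D.map k.hom) (c.π.app i₀) (c.π.app k.left) (c.w k.hom) ≫
            Ch.mapU (D.map k'.hom) (D.map k.hom) (D.map g.left)
              (by rw [← D.map_comp, Over.w g])
        apply Ch.PU_hom_ext
        · rw [Over.comp_left, Category.assoc, Chart.mapU_left_fst, Chart.mapU_left_fst,
            Chart.mapU_left_fst]
        · rw [Over.comp_left, Category.assoc, Chart.mapU_left_snd, Chart.mapU_left_snd,
            ← Category.assoc, Chart.mapU_left_snd, Category.assoc, ← Over.comp_left, c.w] }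

variable [IsCofiltered I]

noncomputable def isLimitBcC (hc : IsLimit ((Over.forget S).mapCone c)) :
    IsLimit ((Over.forget (U Ch.j).left).mapCone (bcC D c i₀ Ch)) :=
  isLimitBcCone Ch.a (sliceDiagram D i₀) (sliceCone D c i₀) (isLimitSliceCone D c i₀ hc)

/-- The base-changed system over `S`. -/
noncomputable abbrev EmD : Over i₀ ⥤ Over S := bcD D i₀ Ch ⋙ Over.map (U Ch.j).hom

/-- The base-changed cone over `S`. -/
noncomputable abbrev emC : Cone (EmD D i₀ Ch) := (Over.map (U Ch.j).hom).mapCone (bcC D c i₀ Ch)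

lemma chart_surj_inj (F : PSp S)
    (hloc : IsLimitPreserving (S := (U Ch.j).left) ((Over.map (U Ch.j).hom).op ⋙ F))
    (hc : IsLimit ((Over.forget S).mapCone c)) (hD : ∀ i, IsAffine (D.obj i).left)
    (hT : IsAffine c.pt.left) :
    Surj F (EmD D i₀ Ch) (emC D c i₀ Ch) ∧ Inj F (EmD D i₀ Ch) (emC D c i₀ Ch) := by
  have hD' : ∀ k : Over i₀, IsAffine ((bcD D i₀ Ch).obj k).left := fun k => by
    haveI := hD k.left
    haveI := hD i₀
    change IsAffine (pullback Ch.a (D.map k.hom).left)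
    infer_instance
  have hT' : IsAffine (bcC D c i₀ Ch).pt.left := by
    haveI : IsAffine (((Functor.const I).obj c.pt).obj i₀).left := hT
    haveI := hD i₀
    change IsAffine (pullback Ch.a (c.π.app i₀).left)
    infer_instance
  have h := hloc (bcD D i₀ Ch) (bcC D c i₀ Ch) (isLimitBcC D c i₀ Ch hc) hD' hT'
  rw [nonempty_isColimit_mapCocone_iff] at h
  exact ⟨fun x => h.1 x, fun k x x' hxx' => h.2 k x x' hxx'⟩

end Diagram

end Groth.Agent.H7.LPLoc
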