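import Groth.Agent.Lib.Helper7.LPLoc2
import Mathlib

/-!
# Limit preservation is fppf local on the base, part 2 (helper7)
-/

set_option autoImplicit false
universe u

open CategoryTheory CategoryTheory.Limits AlgebraicGeometry Opposite

namespace Groth.Agent.H7.LPLoc

open _root_.AlgSp Groth.Agent.H5.AlgSp Groth.Agent.H5.RelLP Groth.Agent.LD.FF

variable {S : Scheme.{u}} {ι : Type u} {U : ι → Over S} {T₀ : Over S}

section ChartMap

variable {Ch Ch' : Chart U T₀} (θ : Ch'.W ⟶ Ch.W) (hθ : θ ≫ Ch.a = Ch'.a)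

/-- The map of base changes induced by a map of charts. -/
noncomputable def chartMapP {Z : Over S} (τ : Z ⟶ T₀) : Ch'.P τ ⟶ Ch.P τ :=
  Over.homMk (pullback.map Ch'.a τ.left Ch.a τ.left θ (𝟙 _) (𝟙 _)
    (by rw [Category.comp_id, hθ]) (by rw [Category.comp_id, Category.id_comp])) (by
      rw [Ch.P_hom, Ch'.P_hom, ← Category.assoc]
      congr 1
      exact (pullback.lift_snd _ _ _).trans (Category.comp_id _))

lemma chartMapP_left_fst {Z : Over S} (τ : Z ⟶ T₀) :
    (chartMapP θ hθ τ).left ≫ pullback.fst Ch.a τ.left = pullback.fst Ch'.a τ.left ≫ θ :=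
  pullback.lift_fst _ _ _

lemma chartMapP_left_snd {Z : Over S} (τ : Z ⟶ T₀) :
    (chartMapP θ hθ τ).left ≫ pullback.snd Ch.a τ.left = pullback.snd Ch'.a τ.left :=
  (pullback.lift_snd _ _ _).trans (Category.comp_id _)

end ChartMap

lemma P_hom_ext (Ch : Chart U T₀) {Z : Over S} (τ : Z ⟶ T₀) {Y : Over S}
    (f g : Y ⟶ Ch.P τ) (h1 : f.left ≫ pullback.fst Ch.a τ.left = g.left ≫ pullback.fst Ch.a τ.left)
    (h2 : f.left ≫ pullback.snd Ch.a τ.left = g.left ≫ pullback.snd Ch.a τ.left) : f = g :=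
  Over.OverMorphism.ext (pullback.hom_ext h1 h2)

/-- The overlap of two charts. -/
noncomputable abbrev Chart.inter [IsAffine T₀.left] (Ch Ch' : Chart U T₀) : Chart U T₀ where
  W := pullback Ch.a Ch'.a
  aff := inferInstance
  a := pullback.fst Ch.a Ch'.a ≫ Ch.a
  j := Ch.j
  b := pullback.fst Ch.a Ch'.a ≫ Ch.b
  hab := by rw [Category.assoc, Ch.hab, Category.assoc]


section Cover

variable {M : Type*} (Ch : M → Chart U T₀) (hfl : ∀ m, Flat (Ch m).a)
  (hlfp : ∀ m, LocallyOfFinitePresentation (Ch m).a)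
  (hsurj : ∀ t : T₀.left, ∃ m, t ∈ Set.range (Ch m).a)

include hfl hlfp hsurj in
lemma cover_mem {Z : Over S} (τ : Z ⟶ T₀) :
    Sieve.generate (Presieve.ofArrows (fun m => (Ch m).P τ) (fun m => (Ch m).π τ)) ∈ J S Z := by
  apply mem_J_of_family
  · intro m
    haveI := hfl m
    change Flat (pullback.snd (Ch m).a τ.left)
    infer_instance
  · intro m
    haveI := hlfp m
    change LocallyOfFinitePresentation (pullback.snd (Ch m).a τ.left)
    infer_instance
  · intro z
    obtain ⟨m, w, hw⟩ := hsurj (τ.left z)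
    obtain ⟨p, -, hp⟩ := Scheme.Pullback.exists_preimage_pullback (f := (Ch m).a) (g := τ.left)
      w z hw
    exact ⟨m, p, hp⟩

variable {F : PSp S} (hF : Presheaf.IsSheaf (J S) F)

include hF hfl hlfp hsurj in
lemma sep_chart {Z : Over S} (τ : Z ⟶ T₀) (x y : F.obj (op Z))
    (h : ∀ m, F.map ((Ch m).π τ).op x = F.map ((Ch m).π τ).op y) : x = y :=
  eq_of_family hF _ _ (cover_mem Ch hfl hlfp hsurj τ) x y h

variable [IsAffine T₀.left]

include hF hfl hlfp hsurj in
lemma glue_chart {Z : Over S} (τ : Z ⟶ T₀) (x : ∀ m, F.obj (op ((Ch m).P τ)))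
    (hx : ∀ m m', F.map (chartMapP (Ch := Ch m) (Ch' := (Ch m).inter (Ch m'))
        (pullback.fst _ _) rfl τ).op (x m) =
      F.map (chartMapP (Ch := Ch m') (Ch' := (Ch m).inter (Ch m'))
        (pullback.snd _ _) pullback.condition.symm τ).op (x m')) :
    ∃ y : F.obj (op Z), ∀ m, F.map ((Ch m).π τ).op y = x m := by
  apply exists_of_family hF _ _ (cover_mem Ch hfl hlfp hsurj τ) x
  intro m m' Q g g' hgg'
  have hl : g.left ≫ pullback.snd (Ch m).a τ.left = g'.left ≫ pullback.snd (Ch m').a τ.left :=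
    congrArg (fun k => k.left) hgg'
  have h1 : (g.left ≫ pullback.fst (Ch m).a τ.left) ≫ (Ch m).a =
      (g'.left ≫ pullback.fst (Ch m').a τ.left) ≫ (Ch m').a := by
    rw [Category.assoc, Category.assoc, pullback.condition, pullback.condition,
      ← Category.assoc, ← Category.assoc, hl]
  have h2 : pullback.lift (g.left ≫ pullback.fst (Ch m).a τ.left)
      (g'.left ≫ pullback.fst (Ch m').a τ.left) h1 ≫ ((Ch m).inter (Ch m')).a =
      (g.left ≫ pullback.snd (Ch m).a τ.left) ≫ τ.left := by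
    change _ ≫ pullback.fst _ _ ≫ (Ch m).a = _
    rw [← Category.assoc, pullback.lift_fst, Category.assoc, Category.assoc, pullback.condition]
  have hw : pullback.lift (pullback.lift (g.left ≫ pullback.fst (Ch m).a τ.left)
      (g'.left ≫ pullback.fst (Ch m').a τ.left) h1) (g.left ≫ pullback.snd (Ch m).a τ.left) h2 ≫
      (((Ch m).inter (Ch m')).P τ).hom = Q.hom := by
    rw [Chart.P_hom, ← Category.assoc, pullback.lift_snd, Category.assoc, ← (Ch m).P_hom τ,
      Over.w g]
  let l : Q ⟶ ((Ch m).inter (Ch m')).P τ := Over.homMk _ hw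
  have e1 : l ≫ chartMapP (Ch := Ch m) (Ch' := (Ch m).inter (Ch m')) (pullback.fst _ _) rfl τ =
      g := by
    apply P_hom_ext
    · rw [Over.comp_left, Category.assoc, chartMapP_left_fst, ← Category.assoc]
      change (pullback.lift _ _ _ ≫ _) ≫ _ = _
      rw [pullback.lift_fst, pullback.lift_fst]
    · rw [Over.comp_left, Category.assoc, chartMapP_left_snd]
      exact pullback.lift_snd _ _ _
  have e2 : l ≫ chartMapP (Ch := Ch m') (Ch' := (Ch m).inter (Ch m')) (pullback.snd _ _)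
      pullback.condition.symm τ = g' := by
    apply P_hom_ext
    · rw [Over.comp_left, Category.assoc, chartMapP_left_fst, ← Category.assoc]
      change (pullback.lift _ _ _ ≫ _) ≫ _ = _
      rw [pullback.lift_fst, pullback.lift_snd]
    · rw [Over.comp_left, Category.assoc, chartMapP_left_snd]
      exact (pullback.lift_snd _ _ _).trans hl
  rw [← e1, ← e2, op_comp, op_comp, Functor.map_comp_apply, Functor.map_comp_apply, hx]

end Cover

section Assembly

variable {I : Type u} [SmallCategory I] [IsCofiltered I] (D : I ⥤ Over S) (c : Cone D) (i₀ : I)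

/-- The system restricted to the stages over `i₀`. -/
abbrev ED : Over i₀ ⥤ Over S := Over.forget i₀ ⋙ D

/-- The cone restricted to the stages over `i₀`. -/
abbrev eC : Cone (ED D i₀) := c.whisker (Over.forget i₀)

/-- The projections of the base-changed system. -/
noncomputable def πNat (Ch : Chart U (D.obj i₀)) : EmD D i₀ Ch ⟶ ED D i₀ where
  app k := Ch.π (D.map k.hom)
  naturality k k' g := by
    have hh : D.map g.left ≫ D.map k'.hom = D.map k.hom := by rw [← D.map_comp, Over.w g]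
    apply Over.OverMorphism.ext
    exact Ch.mapU_left_snd (D.map k'.hom) (D.map k.hom) (D.map g.left) hh

lemma hπ_chart (Ch : Chart U (D.obj i₀)) (k : Over i₀) :
    (emC D c i₀ Ch).π.app k ≫ (πNat D i₀ Ch).app k = Ch.π (c.π.app i₀) ≫ (eC D c i₀).π.app k := by
  apply Over.OverMorphism.ext
  exact Ch.mapU_left_snd (D.map k.hom) (c.π.app i₀) (c.π.app k.left) (c.w k.hom)

variable {Ch Ch' : Chart U (D.obj i₀)} (θ : Ch'.W ⟶ Ch.W) (hθ : θ ≫ Ch.a = Ch'.a)

lemma chartMap_mapU {Z Z' : Over S} (τ : Z ⟶ D.obj i₀) (τ' : Z' ⟶ D.obj i₀) (g : Z' ⟶ Z)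
    (hg : g ≫ τ = τ') :
    (Ch'.mapU τ τ' g hg).left ≫ (chartMapP θ hθ τ).left =
      (chartMapP θ hθ τ').left ≫ (Ch.mapU τ τ' g hg).left := by
  apply pullback.hom_ext
  · rw [Category.assoc, Category.assoc, chartMapP_left_fst, Chart.mapU_left_fst,
      ← Category.assoc, Chart.mapU_left_fst, chartMapP_left_fst]
  · rw [Category.assoc, Category.assoc, chartMapP_left_snd, Chart.mapU_left_snd,
      Chart.mapU_left_snd, ← Category.assoc, chartMapP_left_snd]

/-- The map of base-changed systems induced by a map of charts. -/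
noncomputable def chartNat : EmD D i₀ Ch' ⟶ EmD D i₀ Ch where
  app k := chartMapP θ hθ (D.map k.hom)
  naturality k k' g := by
    have hh : D.map g.left ≫ D.map k'.hom = D.map k.hom := by rw [← D.map_comp, Over.w g]
    apply Over.OverMorphism.ext
    exact chartMap_mapU D i₀ θ hθ (D.map k'.hom) (D.map k.hom) (D.map g.left) hh

lemma hp_chart (k : Over i₀) :
    (emC D c i₀ Ch').π.app k ≫ (chartNat D i₀ θ hθ).app k =
      chartMapP θ hθ (c.π.app i₀) ≫ (emC D c i₀ Ch).π.app k := by
  apply Over.OverMorphism.ext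
  exact chartMap_mapU D i₀ θ hθ (D.map k.hom) (c.π.app i₀) (c.π.app k.left) (c.w k.hom)

end Assembly

section Main

variable {I : Type u} [SmallCategory I] [IsCofiltered I] (D : I ⥤ Over S) (c : Cone D) (i₀ : I)
  {F : PSp S} (hF : Presheaf.IsSheaf (J S) F)
  (hloc : ∀ j, IsLimitPreserving (S := (U j).left) ((Over.map (U j).hom).op ⋙ F))
  (hc : IsLimit ((Over.forget S).mapCone c)) (hD : ∀ i, IsAffine (D.obj i).left)
  (hT : IsAffine c.pt.left)
  {M : Type u} [Finite M] (Ch : M → Chart U (D.obj i₀)) (hfl : ∀ m, Flat (Ch m).a)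
  (hlfp : ∀ m, LocallyOfFinitePresentation (Ch m).a)
  (hsurj : ∀ t : (D.obj i₀).left, ∃ m, t ∈ Set.range (Ch m).a)

include hF hloc hc hD hT hfl hlfp hsurj in
theorem surj_inj_of_charts : Surj F (ED D i₀) (eC D c i₀) ∧ Inj F (ED D i₀) (eC D c i₀) := by
  haveI : IsAffine (D.obj i₀).left := hD i₀
  have hpt : ∀ m m', chartMapP (Ch := Ch m) (Ch' := (Ch m).inter (Ch m')) (pullback.fst _ _) rfl
      (c.π.app i₀) ≫ (Ch m).π (c.π.app i₀) =
      chartMapP (Ch := Ch m') (Ch' := (Ch m).inter (Ch m')) (pullback.snd _ _)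
        pullback.condition.symm (c.π.app i₀) ≫ (Ch m').π (c.π.app i₀) := by
    intro m m'
    apply Over.OverMorphism.ext
    rw [Over.comp_left, Over.comp_left, Chart.π_left, Chart.π_left, chartMapP_left_snd,
      chartMapP_left_snd]
  refine ⟨?_, ?_⟩
  · exact surj_of_local F (ED D i₀) (eC D c i₀) (fun m => EmD D i₀ (Ch m))
      (fun m => emC D c i₀ (Ch m)) (fun m => πNat D i₀ (Ch m))
      (fun m => (Ch m).π (c.π.app i₀)) (fun m k => hπ_chart D c i₀ (Ch m) k)
      (fun m m' => EmD D i₀ ((Ch m).inter (Ch m')))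
      (fun m m' => emC D c i₀ ((Ch m).inter (Ch m')))
      (fun m m' => chartNat D i₀ (Ch := Ch m) (Ch' := (Ch m).inter (Ch m')) (pullback.fst _ _) rfl)
      (fun m m' => chartNat D i₀ (Ch := Ch m') (Ch' := (Ch m).inter (Ch m')) (pullback.snd _ _)
        pullback.condition.symm)
      (fun m m' => chartMapP (Ch := Ch m) (Ch' := (Ch m).inter (Ch m')) (pullback.fst _ _) rfl
        (c.π.app i₀))
      (fun m m' => chartMapP (Ch := Ch m') (Ch' := (Ch m).inter (Ch m')) (pullback.snd _ _)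
        pullback.condition.symm (c.π.app i₀))
      (fun m m' k => hp_chart D c i₀ _ _ k) (fun m m' k => hp_chart D c i₀ _ _ k) hpt
      (fun x y h => sep_chart Ch hfl hlfp hsurj hF (c.π.app i₀) x y h)
      (fun k x hx => glue_chart Ch hfl hlfp hsurj hF (D.map k.hom) x hx)
      (fun m => (chart_surj_inj D c i₀ (Ch m) F (hloc _) hc hD hT).1)
      (fun m m' => (chart_surj_inj D c i₀ ((Ch m).inter (Ch m')) F (hloc _) hc hD hT).2)
  · exact inj_of_local F (ED D i₀) (eC D c i₀) (fun m => EmD D i₀ (Ch m))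
      (fun m => emC D c i₀ (Ch m)) (fun m => πNat D i₀ (Ch m))
      (fun m => (Ch m).π (c.π.app i₀)) (fun m k => hπ_chart D c i₀ (Ch m) k)
      (fun k x y h => sep_chart Ch hfl hlfp hsurj hF (D.map k.hom) x y h)
      (fun m => (chart_surj_inj D c i₀ (Ch m) F (hloc _) hc hD hT).2)

include hF hloc hc hD hT hfl hlfp hsurj in
theorem nonempty_isColimit_of_charts : Nonempty (IsColimit (F.mapCocone c.op)) := by
  obtain ⟨hS, hI⟩ := surj_inj_of_charts D c i₀ hF hloc hc hD hT Ch hfl hlfp hsurj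
  rw [nonempty_isColimit_mapCocone_iff]
  refine ⟨fun x => ?_, fun i x x' hxx' => ?_⟩
  · obtain ⟨k, xk, hxk⟩ := hS x
    exact ⟨k.left, xk, hxk⟩
  · let k : Over i₀ := Over.mk (IsCofiltered.minToRight i i₀)
    obtain ⟨k', φ, hφ⟩ := hI k (F.map (D.map (IsCofiltered.minToLeft i i₀)).op x)
      (F.map (D.map (IsCofiltered.minToLeft i i₀)).op x') (by
        change F.map (c.π.app (IsCofiltered.min i i₀)).op _ = F.map (c.π.app (IsCofiltered.min i i₀)).op _
        rw [map_w, map_w, hxx'])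
    refine ⟨k'.left, φ.left ≫ IsCofiltered.minToLeft i i₀, ?_⟩
    rw [D.map_comp, op_comp, Functor.map_comp_apply, Functor.map_comp_apply]
    exact hφ

end Main

end Groth.Agent.H7.LPLoc
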