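import Groth.Agent.Lib.Helper7.LPLoc3
import Mathlib

set_option autoImplicit false
universe u

open CategoryTheory CategoryTheory.Limits AlgebraicGeometry Opposite

namespace Groth.Agent.H7.LPLoc

open _root_.AlgSp Groth.Agent.H5.AlgSp Groth.Agent.H5.RelLP Groth.Agent.LD.FF

variable {S : Scheme.{u}} {ι : Type u} (U : ι → Over S)

/-- Around every point of `T₀` there is a chart. -/
lemma exists_chart (hfl : ∀ j, Flat (U j).hom) (hfp : ∀ j, LocallyOfFinitePresentation (U j).hom)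
    (hsurj : ∀ s : ↥S, ∃ (j : ι) (x : ↥(U j).left), (U j).hom.base x = s)
    (T₀ : Over S) (t : T₀.left) :
    ∃ Ch : Chart U T₀, Flat Ch.a ∧ LocallyOfFinitePresentation Ch.a ∧ t ∈ Set.range Ch.a := by
  obtain ⟨j, x, hx⟩ := hsurj (T₀.hom.base t)
  obtain ⟨p, hp1, hp2⟩ := Scheme.Pullback.exists_preimage_pullback (f := T₀.hom) (g := (U j).hom)
    t x hx.symm
  obtain ⟨W, hW, hpW, -⟩ := exists_isAffineOpen_mem_and_subset (x := p)
    (U := (⊤ : (pullback T₀.hom (U j).hom).Opens)) trivial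
  haveI := hfl j
  haveI := hfp j
  refine ⟨⟨↑W, hW, W.ι ≫ pullback.fst _ _, j, W.ι ≫ pullback.snd _ _, ?_⟩, ?_, ?_, ?_⟩
  · rw [Category.assoc, pullback.condition, Category.assoc]
  · change Flat (W.ι ≫ pullback.fst _ _)
    infer_instance
  · change LocallyOfFinitePresentation (W.ι ≫ pullback.fst _ _)
    infer_instance
  · refine ⟨⟨p, hpW⟩, ?_⟩
    change (W.ι ≫ pullback.fst _ _) ⟨p, hpW⟩ = t
    rw [Scheme.Hom.comp_apply]
    exact hp1

theorem S10030_main (S : Scheme.{u}) (F : AlgSp.PSp S)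
    (hF : Presheaf.IsSheaf (AlgSp.J S) F) {ι : Type u} (U : ι → Over S)
    (hfl : ∀ j, Flat (U j).hom) (hfp : ∀ j, LocallyOfFinitePresentation (U j).hom)
    (hsurj : ∀ s : ↥S, ∃ (j : ι) (x : ↥(U j).left), (U j).hom.base x = s)
    (hloc : ∀ j, AlgSp.IsLimitPreserving (S := (U j).left) ((Over.map (U j).hom).op ⋙ F)) :
    AlgSp.IsLimitPreserving F := by
  intro I _ _ D c hc hD hT
  obtain ⟨i₀⟩ := IsCofiltered.nonempty (C := I)
  haveI := hD i₀
  choose Ch hCh1 hCh2 hCh3 using exists_chart U hfl hfp hsurj (D.obj i₀)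
  have hopen : ∀ t, IsOpen (Set.range (Ch t).a) := fun t => by
    haveI := hCh1 t
    haveI := hCh2 t
    exact (Ch t).a.isOpenMap.isOpen_range
  obtain ⟨s, hs⟩ := isCompact_univ.elim_finite_subcover (fun t => Set.range (Ch t).a) hopen
    (fun t _ => Set.mem_iUnion.2 ⟨t, hCh3 t⟩)
  refine nonempty_isColimit_of_charts D c i₀ hF hloc hc hD hT (M := ↥s) (fun m => Ch m.1)
    (fun m => hCh1 m.1) (fun m => hCh2 m.1) ?_
  intro t
  obtain ⟨t', ht', htt'⟩ := Set.mem_iUnion₂.1 (hs (Set.mem_univ t))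
  exact ⟨⟨t', ht'⟩, htt'⟩

end Groth.Agent.H7.LPLoc
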