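import Groth.Agent.Lib.Helper5.AlgSp.RelLP
import Mathlib
set_option autoImplicit false
universe u
open CategoryTheory CategoryTheory.Limits AlgebraicGeometry Opposite

namespace Groth.Agent.H7.LPres
open _root_.AlgSp

variable {S : Scheme.{u}}

/-- **Surjectivity part of "limit preserving" for a representable morphism locally of finite
presentation.**  A `T`-point of `F` lying over a `T_i`-point of `G` comes from a later stage. -/
theorem exists_stage_lift_of_repWith {F G : Sp S} (g : F ⟶ G)
    (hg : RepWith @LocallyOfFinitePresentation g)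
    {I : Type u} [SmallCategory I] [IsCofiltered I] (D : I ⥤ Over S) (c : Cone D)
    (hc : IsLimit ((Over.forget S).mapCone c)) (hD : ∀ i, IsAffine (D.obj i).left)
    (x : (yon S).obj c.pt ⟶ F) (i : I) (y : (yon S).obj (D.obj i) ⟶ G)
    (hxy : x ≫ g = (yon S).map (c.π.app i) ≫ y) :
    ∃ (i' : I) (φ : i' ⟶ i) (x' : (yon S).obj (D.obj i') ⟶ F),
      (yon S).map (c.π.app i') ≫ x' = x ∧ x' ≫ g = (yon S).map (D.map φ) ≫ y := by
  obtain ⟨W, w, fst, sq⟩ := hg.1 y
  haveI hw : LocallyOfFinitePresentation w.left := hg.2 y fst w sq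
  obtain ⟨s, hs⟩ := (yon S).map_surjective (sq.lift x ((yon S).map (c.π.app i)) hxy)
  have hsw : s ≫ w = c.π.app i := (yon S).map_injective (by
    rw [Functor.map_comp, hs, sq.lift_snd])
  let D' : Over i ⥤ Scheme.{u} := Over.forget i ⋙ D ⋙ Over.forget S
  let c' : Cone D' := ((Over.forget S).mapCone c).whisker (Over.forget i)
  have hc' : IsLimit c' :=
    (Functor.Initial.isLimitWhiskerEquiv (Over.forget i) ((Over.forget S).mapCone c)).symm hc
  let t' : D' ⟶ (Functor.const (Over i)).obj (D.obj i).left :=
    { app := fun k => (D.map k.hom).left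
      naturality := fun k k' φ => by
        simp only [Functor.const_obj_obj, Functor.const_obj_map, Category.comp_id]
        change (D.map φ.left).left ≫ (D.map k'.hom).left = (D.map k.hom).left
        rw [← Over.comp_left, ← D.map_comp, Over.w φ] }
  haveI : ∀ k, IsAffine (D'.obj k) := fun k => hD k.left
  haveI : ∀ {k k' : Over i} (φ : k ⟶ k'), IsAffineHom (D'.map φ) := fun φ => inferInstance
  haveI : ∀ k, CompactSpace ↥(D'.obj k) := fun k => inferInstance
  haveI : ∀ k, QuasiSeparatedSpace ↥(D'.obj k) := fun k => inferInstance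
  obtain ⟨k, g', hg'1, hg'2⟩ := Scheme.exists_π_app_comp_eq_of_locallyOfFinitePresentation
    D' t' w.left c' hc' s.left (by
      ext k : 2
      change (c.π.app k.left).left ≫ (D.map k.hom).left = s.left ≫ w.left
      rw [← Over.comp_left, ← Over.comp_left, hsw, c.w])
  let g'' : (D.obj k.left).left ⟶ W.left := g'
  have hg''2 : g'' ≫ w.left = (D.map k.hom).left := hg'2
  have hg''1 : (c.π.app k.left).left ≫ g'' = s.left := hg'1
  let u' : D.obj k.left ⟶ W := Over.homMk g'' (by
    rw [← Over.w w, ← Category.assoc, hg''2]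
    exact Over.w (D.map k.hom))
  have hu'w : u' ≫ w = D.map k.hom := by
    apply Over.OverMorphism.ext
    exact hg''2
  have hu's : c.π.app k.left ≫ u' = s := by
    apply Over.OverMorphism.ext
    exact hg''1
  refine ⟨k.left, k.hom, (yon S).map u' ≫ fst, ?_, ?_⟩
  · rw [← Category.assoc, ← Functor.map_comp, hu's, hs, sq.lift_fst]
  · rw [Category.assoc, sq.w, ← Category.assoc, ← Functor.map_comp, hu'w]

end Groth.Agent.H7.LPres
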