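import Groth.Agent.Lib.Helper5.Lim.FPConverse
import Mathlib
set_option autoImplicit false
universe u
open CategoryTheory CategoryTheory.Limits Opposite

namespace Groth.Agent.H7.LPres
open Groth.Agent.H5.FPConv

variable {A B : CommRingCat.{u}}

/-- every map from `B` to a directed colimit of `A`-algebras factors through a stage. -/
def FactorsThroughStage (f : A ⟶ B) : Prop :=
  ∀ (J : Type u) [Preorder J] [IsDirected J (· ≤ ·)] [Nonempty J] (F : J ⥤ Under A)
    (c : Cocone F), IsColimit c → ∀ g : Under.mk f ⟶ c.pt,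
      ∃ (j : J) (s : Under.mk f ⟶ F.obj j), s ≫ c.ι.app j = g

theorem finiteType_of_factors (f : A ⟶ B) (h : FactorsThroughStage f) : f.hom.FiniteType := by
  letI := f.hom.toAlgebra
  have hc : IsColimit (fgCocone f) := by
    apply isColimitUnderOfForget
    · intro x
      change B at x
      refine ⟨⟨Algebra.adjoin A {x}, ⟨{x}, by rw [Finset.coe_singleton]⟩⟩,
        ⟨x, Algebra.subset_adjoin (Set.mem_singleton x)⟩, rfl⟩
    · intro S x y hxy
      exact ⟨S, 𝟙 S, by rw [(fgDiagram f).map_id]; exact congrArg _ (Subtype.ext hxy)⟩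
  obtain ⟨S, s, hs⟩ := h (FGSub f) (fgDiagram f) (fgCocone f) hc (𝟙 _)
  have hsurj : Function.Surjective S.1.val := by
    intro b
    refine ⟨s.right.hom b, ?_⟩
    have := congrArg (fun t : Under.mk f ⟶ Under.mk f => t.right.hom b) hs
    exact this
  have htop : S.1 = ⊤ := by
    rw [eq_top_iff]
    intro b _
    obtain ⟨x, rfl⟩ := hsurj b
    exact x.2
  show Algebra.FiniteType A B
  exact ⟨htop ▸ S.2⟩

theorem fg_ker_of_factors (f : A ⟶ B) {n : ℕ} (π : MvPolynomial (Fin n) A →+* B)
    (hπ : π.comp MvPolynomial.C = f.hom) (hsurj : Function.Surjective π)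
    (h : FactorsThroughStage f) : (RingHom.ker π).FG := by
  classical
  have hc : IsColimit (fpCocone f π hπ) := isColimitFpCocone f π hπ hsurj
  obtain ⟨K, s, hs⟩ := h (FGIdeal π) (fpDiagram π) (fpCocone f π hπ) hc (𝟙 _)
  -- the section
  let σ : B →+* MvPolynomial (Fin n) A ⧸ K.1 := s.right.hom
  have hσ : ∀ b : B, Ideal.Quotient.lift K.1 π (fun a ha => K.2.2 ha) (σ b) = b := fun b =>
    congrArg (fun t : Under.mk f ⟶ Under.mk f => t.right.hom b) hs
  have hσf : ∀ a : A, σ (f.hom a) = Ideal.Quotient.mk K.1 (MvPolynomial.C a) := fun a =>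
    congrArg (fun t : A ⟶ CommRingCat.of (MvPolynomial (Fin n) A ⧸ K.1) => t.hom a) (Under.w s)
  choose p hp using fun i : Fin n => Ideal.Quotient.mk_surjective (σ (π (MvPolynomial.X i)))
  let L : Ideal (MvPolynomial (Fin n) A) :=
    K.1 ⊔ Ideal.span (Set.range fun i : Fin n => MvPolynomial.X i - p i)
  have hKL : K.1 ≤ L := le_sup_left
  have hXL : ∀ i, MvPolynomial.X i - p i ∈ L := fun i =>
    Ideal.mem_sup_right (Ideal.subset_span ⟨i, rfl⟩)
  have hLfg : L.FG := Submodule.FG.sup K.2.1 (Submodule.fg_span (Set.finite_range _))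
  have hπp : ∀ i, π (p i) = π (MvPolynomial.X i) := by
    intro i
    have := hσ (π (MvPolynomial.X i))
    rw [← hp i] at this
    exact this
  suffices RingHom.ker π = L by rw [this]; exact hLfg
  apply le_antisymm
  · intro x hx
    have heq : (Ideal.Quotient.mk L : MvPolynomial (Fin n) A →+* _) =
        ((Ideal.Quotient.factor hKL).comp σ).comp π := by
      apply MvPolynomial.ringHom_ext
      · intro a
        simp only [RingHom.comp_apply]
        rw [← RingHom.comp_apply π, hπ, hσf]
        rfl
      · intro i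
        simp only [RingHom.comp_apply]
        rw [← hp i]
        show Ideal.Quotient.mk L (MvPolynomial.X i) = Ideal.Quotient.mk L (p i)
        rw [Ideal.Quotient.eq]
        exact hXL i
    have h1 := RingHom.congr_fun heq x
    simp only [RingHom.comp_apply] at h1
    rw [(RingHom.mem_ker).1 hx, map_zero, map_zero] at h1
    exact Ideal.Quotient.eq_zero_iff_mem.1 h1
  · refine sup_le K.2.2 (Ideal.span_le.2 ?_)
    rintro _ ⟨i, rfl⟩
    show _ ∈ RingHom.ker π
    rw [RingHom.mem_ker, map_sub, hπp, sub_self]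

theorem finitePresentation_of_factors (f : A ⟶ B) (h : FactorsThroughStage f) :
    f.hom.FinitePresentation := by
  have hft := finiteType_of_factors f h
  letI := f.hom.toAlgebra
  obtain ⟨n, π, hπsurj⟩ := Algebra.FiniteType.iff_quotient_mvPolynomial''.1
    (show Algebra.FiniteType A B from hft)
  have hπ : π.toRingHom.comp MvPolynomial.C = f.hom := by
    ext a
    exact π.commutes a
  exact ⟨n, π, hπsurj, fg_ker_of_factors f π.toRingHom hπ hπsurj h⟩

end Groth.Agent.H7.LPres
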