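import Groth.Agent.Lib.Helper5.Lim.FPConverseScheme
import Groth.Agent.Lib.Helper7.LPresB
import Mathlib
set_option autoImplicit false
universe u
open CategoryTheory CategoryTheory.Limits Opposite AlgebraicGeometry

namespace Groth.Agent.H7.LPres
open Groth.Agent.H5.FPConv Groth.Agent.H5

attribute [local instance] IsFiltered.isConnected IsCofiltered.isConnected

variable {X S : Scheme.{u}} (f : X ⟶ S) {U : S.Opens} (hU : IsAffineOpen U)
  {V : X.Opens} (hV : IsAffineOpen V) (e : V ≤ f ⁻¹ᵁ U)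

include hV in
/-- If every `S`-morphism from the spectrum of a directed colimit of `Γ(S, U)`-algebras to `X`
factors through a stage, so does every algebra map out of `Γ(X, V)`. -/
theorem factorsThroughStage_appLE
    (h : ∀ (J : Type u) [Preorder J] [IsDirected J (· ≤ ·)] [Nonempty J]
      (F : J ⥤ Under Γ(S, U)) (c : Cocone F), IsColimit c →
      ∀ g : specOver hU c.pt ⟶ Over.mk f,
        ∃ (j : J) (gj : specOver hU (F.obj j) ⟶ Over.mk f),
          specOverMap hU (c.ι.app j) ≫ gj = g) :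
    FactorsThroughStage (f.appLE U V e) := by
  intro J _ _ _ F c hc ψ
  obtain ⟨j, gj, hgj''⟩ := h J F c hc (toOverHom f hU hV e ψ)
  change (specDiagram hU F ⋙ Over.map U.ι).obj (op j) ⟶ Over.mk f at gj
  have hgj' : (specCone hU F c).π.app (op j) ≫ gj = toOverHom f hU hV e ψ := hgj''
  -- the locus where `gj` lands in `V`
  let W : (((specDiagram hU F ⋙ Over.map U.ι) ⋙ Over.forget S).obj (op j)).Opens :=
    gj.left ⁻¹ᵁ V
  have hempty : (((Over.forget S).mapCone (specCone hU F c)).π.app (op j)) ⁻¹'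
      (((⊤ : (((specDiagram hU F ⋙ Over.map U.ι) ⋙ Over.forget S).obj (op j)).Opens) : Set _) \
        (W : Set _)) = ∅ := by
    rw [Set.eq_empty_iff_forall_notMem]
    rintro s ⟨-, hs⟩
    apply hs
    show gj.left (((specCone hU F c).π.app (op j)).left s) ∈ V
    rw [← Scheme.Hom.comp_apply, ← Over.comp_left, hgj']
    show (Spec.map ψ.right ≫ hV.fromSpec) s ∈ V
    rw [Scheme.Hom.comp_apply, ← SetLike.mem_coe, ← hV.range_fromSpec]
    exact ⟨_, rfl⟩
  haveI : CompactSpace ↥(((specDiagram hU F ⋙ Over.map U.ι) ⋙ Over.forget S).obj (op j)) :=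
    inferInstanceAs (CompactSpace ↥(Spec _))
  obtain ⟨k, hk⟩ := Lim.exists_preimage_sdiff_eq_empty
    ((specDiagram hU F ⋙ Over.map U.ι) ⋙ Over.forget S) _
    (isLimitForgetSpecCone hU F c hc) (op j) ⊤ W isCompact_univ hempty
  let gk : (specDiagram hU F ⋙ Over.map U.ι).obj k.left ⟶ Over.mk f :=
    (specDiagram hU F ⋙ Over.map U.ι).map k.hom ≫ gj
  have hgk : Set.range gk.left ⊆ (V : Set X) := by
    rintro _ ⟨s, rfl⟩
    by_contra hs
    have : s ∈ (((specDiagram hU F ⋙ Over.map U.ι) ⋙ Over.forget S).map k.hom) ⁻¹'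
        (((⊤ : (((specDiagram hU F ⋙ Over.map U.ι) ⋙ Over.forget S).obj (op j)).Opens) :
          Set _) \ (W : Set _)) := by
      refine ⟨trivial, fun hs' => hs ?_⟩
      exact hs'
    rw [hk] at this
    exact this
  obtain ⟨ψk, hψk⟩ := exists_toOverHom_eq f hU hV e gk hgk
  refine ⟨k.left.unop, ψk, ?_⟩
  apply toOverHom_injective f hU hV e
  show toOverHom f hU hV e (ψk ≫ c.ι.app k.left.unop) = toOverHom f hU hV e ψ
  refine Eq.trans (specOverMap_toOverHom f hU hV e ψk (c.ι.app k.left.unop)).symm ?_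
  rw [hψk, ← hgj']
  show (specCone hU F c).π.app k.left ≫ (specDiagram hU F ⋙ Over.map U.ι).map k.hom ≫ gj =
    (specCone hU F c).π.app (op j) ≫ gj
  rw [← Category.assoc, (specCone hU F c).w]

end Groth.Agent.H7.LPres
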