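import Groth.Agent.Lib.Helper7.LPresA
import Groth.Agent.Lib.Helper7.LPresC
import Groth.Agent.Lib.Helper5.AlgSp.LocPBasic
import Mathlib
set_option autoImplicit false
universe u
open CategoryTheory CategoryTheory.Limits Opposite AlgebraicGeometry

namespace Groth.Agent.H7.LPres
open _root_.AlgSp Groth.Agent.H5.FPConv Groth.Agent.H5 Groth.Agent.H5.AlgSp

variable {S : Scheme.{u}}

/-- The surjectivity half of "limit preserving" for a morphism of sheaves. -/
def StageSurj {F G : Sp S} (f : F ⟶ G) : Prop :=
  ∀ ⦃I : Type u⦄ [SmallCategory I] [IsCofiltered I] (D : I ⥤ Over S) (c : Cone D),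
    IsLimit ((Over.forget S).mapCone c) → (∀ i, IsAffine (D.obj i).left) → IsAffine c.pt.left →
    ∀ (x : (yon S).obj c.pt ⟶ F) (i : I) (y : (yon S).obj (D.obj i) ⟶ G),
      x ≫ f = (yon S).map (c.π.app i) ≫ y →
      ∃ (i' : I) (φ : i' ⟶ i) (x' : (yon S).obj (D.obj i') ⟶ F),
        (yon S).map (c.π.app i') ≫ x' = x ∧ x' ≫ f = (yon S).map (D.map φ) ≫ y

theorem etale_le_lfp : (@Etale : MorphismProperty Scheme.{u}) ≤ @LocallyOfFinitePresentation :=
  fun _ _ _ h => by
    haveI := h
    infer_instance

theorem locP_lfp_of_stageSurj {F G : Sp S} (f : F ⟶ G) (h : StageSurj f) :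
    LocP @LocallyOfFinitePresentation f := by
  intro U V a b hh ha hb comm
  rw [HasRingHomProperty.iff_appLE (P := @LocallyOfFinitePresentation)]
  intro V₀ U₀ e
  apply finitePresentation_of_factors
  apply factorsThroughStage_appLE hh.left V₀.2 U₀.2 e
  intro J _ _ _ Fd c hc g
  -- the system over `S`
  let D₀ : Jᵒᵖ ⥤ Over V.left := specDiagram V₀.2 Fd ⋙ Over.map V₀.1.ι
  let D : Jᵒᵖ ⥤ Over S := D₀ ⋙ Over.map V.hom
  let c₀ : Cone D₀ := specCone V₀.2 Fd c
  let cS : Cone D := (Over.map V.hom).mapCone c₀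
  have hcS : IsLimit ((Over.forget S).mapCone cS) := isLimitForgetSpecCone V₀.2 Fd c hc
  have hDa : ∀ i, IsAffine (D.obj i).left := fun i =>
    inferInstanceAs (IsAffine (Spec _))
  have hTa : IsAffine cS.pt.left := inferInstanceAs (IsAffine (Spec _))
  -- structure maps to `V`
  have hov : ∀ i, cS.π.app i ≫ overHom V (D₀.obj i) = overHom V c₀.pt := fun i =>
    map_comp_overHom V (c₀.π.app i)
  have hovm : ∀ {i i' : Jᵒᵖ} (φ : i' ⟶ i), D.map φ ≫ overHom V (D₀.obj i) = overHom V (D₀.obj i') :=
    fun φ => map_comp_overHom V (D₀.map φ)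
  -- the `T`-point of `U`
  let tS : cS.pt ⟶ U := Over.homMk g.left (by
    rw [← Over.w hh, ← Category.assoc]
    exact congrArg (fun z => z ≫ V.hom) (Over.w g))
  have htS : tS ≫ hh = overHom V c₀.pt := by
    apply Over.OverMorphism.ext
    exact Over.w g
  obtain ⟨j₀⟩ := (inferInstance : Nonempty J)
  obtain ⟨i', φ, x', hx'1, hx'2⟩ := h D cS hcS hDa hTa ((yon S).map tS ≫ a) (op j₀)
    ((yon S).map (overHom V (D₀.obj (op j₀))) ≫ b) (by
      rw [Category.assoc, comm, ← Category.assoc, ← Category.assoc, ← Functor.map_comp,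
        ← Functor.map_comp, htS, hov])
  have hx'2' : x' ≫ f = (yon S).map (overHom V (D₀.obj i')) ≫ b := by
    rw [hx'2, ← Category.assoc, ← Functor.map_comp, hovm]
  -- the fibre product and the chart
  let q : (yon S).obj U ⟶ pullback f b := pullback.lift a ((yon S).map hh) comm
  have hq : RepWith @LocallyOfFinitePresentation q := by
    apply repWith_mono etale_le_lfp
    apply repWith_etale_of_comp (b := pullback.fst f b)
    · rw [pullback.lift_fst]; exact ha
    · exact (RepWith @Etale).of_isPullback (IsPullback.of_hasPullback f b).flip hb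
  obtain ⟨i'', φ', x'', hx''1, hx''2⟩ := exists_stage_lift_of_repWith q hq D cS hcS hDa
    ((yon S).map tS) i' (pullback.lift x' ((yon S).map (overHom V (D₀.obj i'))) hx'2') (by
      apply pullback.hom_ext
      · rw [Category.assoc, pullback.lift_fst, Category.assoc, pullback.lift_fst, hx'1]
      · rw [Category.assoc, pullback.lift_snd, Category.assoc, pullback.lift_snd,
          ← Functor.map_comp, ← Functor.map_comp, htS, hov])
  obtain ⟨u'', hu''⟩ := (yon S).map_surjective x''
  have hu''1 : cS.π.app i'' ≫ u'' = tS := (yon S).map_injective (by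
    rw [Functor.map_comp, hu'', hx''1])
  have hu''2 : u'' ≫ hh = overHom V (D₀.obj i'') := (yon S).map_injective (by
    have hq2 : q ≫ pullback.snd f b = (yon S).map hh := pullback.lift_snd _ _ _
    have := congrArg (fun z => z ≫ pullback.snd f b) hx''2
    simp only [Category.assoc, pullback.lift_snd, hq2] at this
    rw [Functor.map_comp, hu'', this, ← Functor.map_comp, hovm])
  let gj : specOver V₀.2 (Fd.obj i''.unop) ⟶ Over.mk hh.left := Over.homMk u''.left (by
    have := congrArg (fun z => z.left) hu''2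
    exact this)
  refine ⟨i''.unop, gj, ?_⟩
  apply Over.OverMorphism.ext
  have := congrArg (fun z => z.left) hu''1
  exact this

end Groth.Agent.H7.LPres
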