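import Groth.Agent.Lib.Helper5.Lim.FGSub
import Groth.Agent.Lib.Helper5.Lim.DescendSurjective
import Mathlib
set_option autoImplicit false
universe u
open CategoryTheory CategoryTheory.Limits AlgebraicGeometry MorphismProperty Opposite

namespace Groth.Agent.H7.LPres
open Groth.Agent.H5.Lim

/-- An étale surjective morphism to a quasi-compact scheme is refined by an affine scheme. -/
theorem exists_affine_etale_refinement {T P : Scheme.{u}} [CompactSpace T] (π : P ⟶ T)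
    [Etale π] [Surjective π] :
    ∃ (W : Scheme.{u}) (q : W ⟶ P), IsAffine W ∧ Etale (q ≫ π) ∧ Surjective (q ≫ π) := by
  classical
  let 𝒰 := P.affineCover
  have hopen : ∀ α, IsOpen (Set.range (𝒰.f α ≫ π)) := fun α =>
    (𝒰.f α ≫ π).isOpenMap.isOpen_range
  have hcov : (Set.univ : Set T) ⊆ ⋃ α, Set.range (𝒰.f α ≫ π) := by
    intro t _
    obtain ⟨p, rfl⟩ := π.surjective t
    obtain ⟨α, y, rfl⟩ := 𝒰.exists_eq p
    exact Set.mem_iUnion.2 ⟨α, y, by rw [Scheme.Hom.comp_apply]⟩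
  obtain ⟨s, hs⟩ := isCompact_univ.elim_finite_subcover _ hopen hcov
  let W : Scheme.{u} := ∐ (fun α : s => 𝒰.X α.1)
  let q : W ⟶ P := Sigma.desc (fun α : s => 𝒰.f α.1)
  haveI : Etale q := IsZariskiLocalAtSource.sigmaDesc (P := @Etale) (fun i => inferInstance)
  refine ⟨W, q, inferInstance, inferInstance, ⟨fun t => ?_⟩⟩
  obtain ⟨α, hα, y, hy⟩ : ∃ α ∈ s, t ∈ Set.range (𝒰.f α ≫ π) := by
    simpa using hs (Set.mem_univ t)
  refine ⟨Sigma.ι (fun α : s => 𝒰.X α.1) ⟨α, hα⟩ y, ?_⟩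
  rw [← Scheme.Hom.comp_apply, ← Category.assoc, Sigma.ι_desc]
  exact hy

variable {I : Type u} [SmallCategory I] [IsCofiltered I] (D : I ⥤ Scheme.{u}) (c : Cone D)
  (hc : IsLimit c) [∀ (i j : I) (f : i ⟶ j), IsAffineHom (D.map f)]

include hc in
/-- An étale surjective affine morphism to a limit of quasi-compact quasi-separated schemes with
affine transition maps has a model over some stage with the same properties. -/
theorem exists_etale_surjective_affine_model [∀ i, QuasiSeparatedSpace (D.obj i)]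
    [∀ i, CompactSpace (D.obj i)] {W : Scheme.{u}} (ψ : W ⟶ c.pt)
    [Etale ψ] [Surjective ψ] [IsAffineHom ψ] :
    ∃ (j : I) (M : Model D c ψ j), Etale M.p ∧ Surjective M.p ∧ IsAffineHom M.p := by
  obtain ⟨j, ⟨M⟩⟩ := exists_model D c hc ψ
  obtain ⟨k₁, φ₁, h₁⟩ := M.exists_property hc affineSystemDescent_etale
    ⟨M.lfp, M.qc, M.qs⟩ (inferInstance : Etale ψ)
  obtain ⟨k₂, φ₂, h₂⟩ := (M.bc φ₁).exists_property hc affineSystemDescent_surjective
    ⟨(M.bc φ₁).lfp, (M.bc φ₁).qc, (M.bc φ₁).qs⟩ (inferInstance : Surjective ψ)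
  obtain ⟨k₃, φ₃, h₃⟩ := ((M.bc φ₁).bc φ₂).exists_property hc affineSystemDescent_isAffineHom
    ⟨((M.bc φ₁).bc φ₂).qc, ((M.bc φ₁).bc φ₂).qs⟩ (inferInstance : IsAffineHom ψ)
  have h₁' : Etale ((M.bc φ₁).bc φ₂).p := MorphismProperty.pullback_snd (P := @Etale) _ _ h₁
  have h₁'' : Etale (((M.bc φ₁).bc φ₂).bc φ₃).p :=
    MorphismProperty.pullback_snd (P := @Etale) _ _ h₁'
  have h₂' : Surjective (((M.bc φ₁).bc φ₂).bc φ₃).p :=
    MorphismProperty.pullback_snd (P := @Surjective) _ _ h₂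
  exact ⟨k₃, ((M.bc φ₁).bc φ₂).bc φ₃, h₁'', h₂', h₃⟩

end Groth.Agent.H7.LPres
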