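import Groth.Agent.Lib.Helper7.LPresA
import Groth.Agent.Lib.Helper7.LPresD
import Groth.Agent.Lib.Helper5.AlgSp.Limits.DescDiag
import Groth.Agent.Lib.Helper5.AlgSp.FppfLocal
import Mathlib
set_option autoImplicit false
universe u
open CategoryTheory CategoryTheory.Limits AlgebraicGeometry Opposite

namespace Groth.Agent.H7.LPres
open _root_.AlgSp Groth.Agent.H5.AlgSp Groth.Agent.H5.AlgSp.Lim

variable {S : Scheme.{u}}

theorem lfp_le_lft :
    (@LocallyOfFinitePresentation : MorphismProperty Scheme.{u}) ≤ @LocallyOfFiniteType :=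
  fun _ _ _ h => by
    haveI := h
    infer_instance

/-- The diagonal of a morphism of algebraic spaces which is locally of finite type is
representable and locally of finite presentation. -/
theorem repWith_lfp_diagonal {X Y : Sp S} (hX : IsAlgSpace X) (hY : IsAlgSpace Y) (f : X ⟶ Y)
    (hf : LocP @LocallyOfFiniteType f) :
    RepWith @LocallyOfFinitePresentation (pullback.diagonal f) := by
  have hFF : IsAlgSpace (pullback f f) :=
    isAlgSpace_pullback hY.diag hX hX (IsPullback.of_hasPullback f f)
  exact repWith_of_locP hFF (repWith_relDiag_of_isAlgSpace hX f).1 (locP_lfp_diagonal hX hY hf)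

/-- **Injectivity half of "limit preserving"** for a morphism of algebraic spaces locally of finite
type. -/
theorem exists_stage_eq_of_locP {X Y : Sp S} (hX : IsAlgSpace X) (hY : IsAlgSpace Y) (f : X ⟶ Y)
    (hf : LocP @LocallyOfFiniteType f)
    {I : Type u} [SmallCategory I] [IsCofiltered I] (D : I ⥤ Over S) (c : Cone D)
    (hc : IsLimit ((Over.forget S).mapCone c)) (hD : ∀ i, IsAffine (D.obj i).left)
    (i : I) (x x' : (yon S).obj (D.obj i) ⟶ X)
    (h1 : (yon S).map (c.π.app i) ≫ x = (yon S).map (c.π.app i) ≫ x')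
    (h2 : x ≫ f = x' ≫ f) :
    ∃ (j : I) (φ : j ⟶ i), (yon S).map (D.map φ) ≫ x = (yon S).map (D.map φ) ≫ x' := by
  have hΔ := repWith_lfp_diagonal hX hY f hf
  obtain ⟨j, φ, x'', -, hx''⟩ := exists_stage_lift_of_repWith (pullback.diagonal f) hΔ D c hc hD
    ((yon S).map (c.π.app i) ≫ x) i (pullback.lift x x' h2) (by
      apply pullback.hom_ext
      · rw [Category.assoc, pullback.diagonal_fst, Category.comp_id, Category.assoc,
          pullback.lift_fst]
      · rw [Category.assoc, pullback.diagonal_snd, Category.comp_id, Category.assoc,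
          pullback.lift_snd, h1])
  refine ⟨j, φ, ?_⟩
  have e1 := congrArg (fun z => z ≫ pullback.fst f f) hx''
  have e2 := congrArg (fun z => z ≫ pullback.snd f f) hx''
  simp only [Category.assoc, pullback.diagonal_fst, pullback.diagonal_snd, Category.comp_id,
    pullback.lift_fst, pullback.lift_snd] at e1 e2
  rw [← e1, ← e2]

end Groth.Agent.H7.LPres
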