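import Groth.Agent.Lib.Helper5.AlgSp.Limits.DescIso
import Groth.Agent.Lib.Helper5.AlgSp.Presentation
import Mathlib
set_option autoImplicit false
universe u
open CategoryTheory CategoryTheory.Limits AlgebraicGeometry

namespace Groth.Agent.H7.LimAff
open _root_.AlgSp Groth.Agent.H5.AlgSp Groth.Agent.H5.Lim Groth.Agent.H5.AlgSp.Lim
  Groth.Agent.H5.EtSrc

variable {S : Scheme.{u}}

/-- Descent of a morphism along a locally surjective morphism of sheaves. -/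
theorem exists_desc_of_isLocallySurjective {F G H : Sp S} (p : G ⟶ F)
    [Sheaf.IsLocallySurjective p] (h : G ⟶ H)
    (hh : pullback.fst p p ≫ h = pullback.snd p p ≫ h) : ∃ d : F ⟶ H, p ≫ d = h := by
  obtain ⟨hc⟩ := nonempty_isColimit_cofork_of_isLocallySurjective p (IsPullback.of_hasPullback p p)
  exact ⟨Cofork.IsColimit.desc hc h hh, Cofork.IsColimit.π_desc hc⟩

variable {I : Type u} [SmallCategory I] [IsCofiltered I]

/-- **Descent of a morphism from a chart of the limit to a finite stage.** -/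
theorem exists_stage_desc [QuasiSeparatedSpace ↥S] (D : I ⥤ Sp S)
    (hDa : ∀ (i j : I) (φ : i ⟶ j), IsAffineMor (D.map φ)) (c : Cone D) (hc : IsLimit c)
    (P₀ : Over S) (t : D ⟶ (Functor.const I).obj ((yon S).obj P₀))
    (i₀ : I) (hqs : IsQuasiSeparatedSp (D.obj i₀))
    {U₀ : Over S} [CompactSpace ↥U₀.left] (u₀ : (yon S).obj U₀ ⟶ D.obj i₀)
    (hue : RepWith @Etale u₀) (hus : RepWith @Surjective u₀)
    {T' : Over S} (p' : T' ⟶ P₀) [LocallyOfFiniteType p'.left]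
    (τ₀ : U₀ ⟶ T') (hτ : (yon S).map (τ₀ ≫ p') = u₀ ≫ t.app i₀)
    (ρ : c.pt ⟶ (yon S).obj T')
    {G : Sp S} {fstG : G ⟶ c.pt} {sndG : G ⟶ (yon S).obj U₀}
    (sqG : IsPullback fstG sndG (c.π.app i₀) u₀)
    (hρ : fstG ≫ ρ = sndG ≫ (yon S).map τ₀) :
    ∃ (j : Over i₀) (tj : D.obj j.left ⟶ (yon S).obj T'), c.π.app j.left ≫ tj = ρ ∧
      ∀ {Gj : Sp S} {g₁ : Gj ⟶ D.obj j.left} {g₂ : Gj ⟶ (yon S).obj U₀},
        IsPullback g₁ g₂ (D.map j.hom) u₀ → g₁ ≫ tj = g₂ ≫ (yon S).map τ₀ := by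
  have : IsConnected (Over i₀) := IsFiltered.isConnected (Over i₀)
  -- the kernel pair of the chart
  have sqR := hue.rep.isPullback' u₀
  set R₀ := hue.rep.pullback u₀ with hR₀
  set s₀ : R₀ ⟶ U₀ := hue.rep.fst' u₀ with hs₀
  set t₀ : R₀ ⟶ U₀ := hue.rep.snd u₀ with ht₀
  have hR₀c : CompactSpace ↥R₀.left := by
    rw [← isQuasiCompactSp_yon_iff]
    exact isQuasiCompactMor_of_isQuasiCompactSp ((isQuasiCompactSp_yon_iff U₀).2 inferInstance)
      hqs u₀ (IsAlgSpace.yon_obj U₀) ((isQuasiCompactSp_yon_iff U₀).2 inferInstance) u₀ _ _ sqR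
  -- the structure map of the chart
  obtain ⟨pU, hpU⟩ := (yon S).map_surjective (u₀ ≫ t.app i₀)
  have hτ' : τ₀ ≫ p' = pU := (yon S).map_injective (by rw [hτ, hpU])
  have hst : s₀ ≫ pU = t₀ ≫ pU := by
    apply (yon S).map_injective
    rw [Functor.map_comp, Functor.map_comp, hpU, ← Category.assoc, ← Category.assoc, sqR.w]
  -- the chart system of the kernel pair
  obtain ⟨gR, hgR⟩ : ∃ g : (yon S).obj R₀ ⟶ D.obj i₀, g = (yon S).map s₀ ≫ u₀ := ⟨_, rfl⟩
  obtain ⟨CS⟩ := ChartSystem.exists_of_isAffineMor D hDa c hc i₀ gR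
  haveI hm : ∀ {j k : Over i₀} (φ : j ⟶ k), IsAffineHom (CS.F.map φ) :=
    fun φ => CS.isAffineHom_map hDa φ
  haveI hcpt : ∀ j, CompactSpace ↥(CS.F.obj j) := fun j =>
    compactSpace_of_isAffineHom (CS.P.q j).left (CS.isAffineHom_q hDa j)
  let tR : CS.F ⟶ (Functor.const (Over i₀)).obj P₀.left :=
    { app := fun j => (CS.P.q j ≫ s₀ ≫ pU).left
      naturality := fun j k φ => by
        simp only [Functor.const_obj_obj, Functor.const_obj_map, Category.comp_id]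
        change (CS.P.E.map φ).left ≫ (CS.P.q k ≫ s₀ ≫ pU).left = _
        rw [← Over.comp_left, ← Category.assoc, CS.P.q_nat] }
  let j₁ : Over i₀ := Over.mk (𝟙 i₀)
  -- the two maps agree on the limit
  have hw1 : CS.fst ≫ c.π.app i₀ = (yon S).map (CS.snd ≫ s₀) ≫ u₀ := by
    rw [Functor.map_comp, Category.assoc, ← hgR]; exact CS.sq.w
  have hw2 : CS.fst ≫ c.π.app i₀ = (yon S).map (CS.snd ≫ t₀) ≫ u₀ := by
    rw [hw1, Functor.map_comp, Functor.map_comp, Category.assoc, Category.assoc, sqR.w]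
  have hlim : CS.snd ≫ s₀ ≫ τ₀ = CS.snd ≫ t₀ ≫ τ₀ := by
    apply (yon S).map_injective
    have e1 : (yon S).map (CS.snd ≫ s₀ ≫ τ₀) = CS.fst ≫ ρ := by
      rw [← Category.assoc, Functor.map_comp, ← sqG.lift_snd _ _ hw1, Category.assoc, ← hρ,
        ← Category.assoc, sqG.lift_fst]
    have e2 : (yon S).map (CS.snd ≫ t₀ ≫ τ₀) = CS.fst ≫ ρ := by
      rw [← Category.assoc, Functor.map_comp, ← sqG.lift_snd _ _ hw2, Category.assoc, ← hρ,
        ← Category.assoc, sqG.lift_fst]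
    rw [e1, e2]
  obtain ⟨k, hik, hk⟩ := Scheme.exists_hom_comp_eq_comp_of_locallyOfFiniteType CS.F tR p'.left
    CS.cF CS.hcF (i := j₁) (CS.P.q j₁ ≫ s₀ ≫ τ₀).left (CS.P.q j₁ ≫ t₀ ≫ τ₀).left
    (by
      change (CS.P.q j₁ ≫ s₀ ≫ pU).left = (CS.P.q j₁ ≫ s₀ ≫ τ₀).left ≫ p'.left
      rw [← Over.comp_left, Category.assoc, Category.assoc, hτ'])
    (by
      change (CS.P.q j₁ ≫ s₀ ≫ pU).left = (CS.P.q j₁ ≫ t₀ ≫ τ₀).left ≫ p'.left
      rw [← Over.comp_left, Category.assoc, Category.assoc, hτ', hst])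
    (by
      have e0 : ∀ x : R₀ ⟶ T', (CS.cE.π.app j₁).left ≫ (CS.P.q j₁ ≫ x).left =
          (CS.snd ≫ x).left := by
        intro x
        rw [← Over.comp_left, ← Category.assoc, CS.π_q]
      change (CS.cE.π.app j₁).left ≫ _ = (CS.cE.π.app j₁).left ≫ _
      rw [e0, e0, hlim])
  have hk' : CS.P.q k ≫ s₀ ≫ τ₀ = CS.P.q k ≫ t₀ ≫ τ₀ := by
    apply Over.OverMorphism.ext
    have e : ∀ x : R₀ ⟶ T', (CS.P.q k ≫ x).left = CS.F.map hik ≫ (CS.P.q j₁ ≫ x).left := by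
      intro x
      change _ = (CS.P.E.map hik).left ≫ _
      rw [← Over.comp_left, ← Category.assoc, CS.P.q_nat]
    rw [e, e]
    exact hk
  -- descent at the stage `k`
  have sqk := IsPullback.of_hasPullback (D.map k.hom) u₀
  have hg₁e : RepWith @Etale (pullback.fst (D.map k.hom) u₀) :=
    (RepWith @Etale).of_isPullback sqk.flip hue
  have hg₁s : RepWith @Surjective (pullback.fst (D.map k.hom) u₀) :=
    (RepWith @Surjective).of_isPullback sqk.flip hus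
  haveI : Sheaf.IsLocallySurjective (pullback.fst (D.map k.hom) u₀) :=
    isLocallySurjective_of_etale_surjective _ hg₁e hg₁s
  set g₁ := pullback.fst (D.map k.hom) u₀ with hg₁
  set g₂ := pullback.snd (D.map k.hom) u₀ with hg₂
  have hcoeq : pullback.fst g₁ g₁ ≫ g₂ ≫ (yon S).map τ₀ =
      pullback.snd g₁ g₁ ≫ g₂ ≫ (yon S).map τ₀ := by
    set κ₁ := pullback.fst g₁ g₁
    set κ₂ := pullback.snd g₁ g₁
    have hκ : κ₁ ≫ g₁ = κ₂ ≫ g₁ := pullback.condition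
    have hr : (κ₁ ≫ g₂) ≫ u₀ = (κ₂ ≫ g₂) ≫ u₀ := by
      rw [Category.assoc, Category.assoc, ← sqk.w, ← Category.assoc, hκ, Category.assoc, sqk.w]
    obtain ⟨r, hr1, hr2⟩ : ∃ r : pullback g₁ g₁ ⟶ (yon S).obj R₀,
        r ≫ (yon S).map s₀ = κ₁ ≫ g₂ ∧ r ≫ (yon S).map t₀ = κ₂ ≫ g₂ :=
      ⟨sqR.lift _ _ hr, sqR.lift_fst _ _ hr, sqR.lift_snd _ _ hr⟩
    have hl : (κ₁ ≫ g₁) ≫ D.map k.hom = r ≫ gR := by
      rw [hgR, ← Category.assoc r, hr1, Category.assoc, Category.assoc, sqk.w]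
    obtain ⟨L, hL⟩ : ∃ L : pullback g₁ g₁ ⟶ (yon S).obj (CS.P.E.obj k),
        L ≫ (yon S).map (CS.P.q k) = r :=
      ⟨(CS.sq' k).lift _ _ hl, (CS.sq' k).lift_snd _ _ hl⟩
    have h1 : κ₁ ≫ g₂ = L ≫ (yon S).map (CS.P.q k ≫ s₀) := by
      rw [Functor.map_comp, ← Category.assoc, hL, hr1]
    have h2 : κ₂ ≫ g₂ = L ≫ (yon S).map (CS.P.q k ≫ t₀) := by
      rw [Functor.map_comp, ← Category.assoc, hL, hr2]
    rw [← Category.assoc, h1, ← Category.assoc κ₂, h2, Category.assoc, Category.assoc,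
      ← Functor.map_comp, ← Functor.map_comp, Category.assoc, Category.assoc, hk']
  obtain ⟨tk, htk⟩ := exists_desc_of_isLocallySurjective g₁ (g₂ ≫ (yon S).map τ₀) hcoeq
  refine ⟨k, tk, ?_, ?_⟩
  · -- compatibility with the limit
    have hfe : RepWith @Etale fstG := (RepWith @Etale).of_isPullback sqG.flip hue
    have hfs : RepWith @Surjective fstG := (RepWith @Surjective).of_isPullback sqG.flip hus
    haveI : Sheaf.IsLocallySurjective fstG := isLocallySurjective_of_etale_surjective _ hfe hfs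
    haveI : Epi fstG := inferInstance
    rw [← cancel_epi fstG]
    have hw : (fstG ≫ c.π.app k.left) ≫ D.map k.hom = sndG ≫ u₀ := by
      rw [Category.assoc, c.w, sqG.w]
    rw [hρ, ← Category.assoc, ← sqk.lift_fst _ _ hw, Category.assoc, htk, ← Category.assoc,
      sqk.lift_snd]
  · intro Gj h₁ h₂ sqj
    rw [← sqk.lift_fst _ _ sqj.w, Category.assoc, htk, ← Category.assoc, sqk.lift_snd]

/-- `h_U` is quasi-separated over `S` for `U` affine. -/
lemma isQuasiSeparatedSp_yon_of_isAffine (U : Over S) [IsAffine U.left] :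
    IsQuasiSeparatedSp ((yon S).obj U) := by
  change RepWith @QuasiCompact (Limits.diag ((yon S).obj U))
  rw [repWith_diag_yon_iff]
  have : QuasiSeparated U.hom := inferInstance
  exact QuasiSeparated.quasiCompact_diagonal

/-- **Descent of a cartesian square from the limit to a finite stage.** -/
theorem exists_stage_isPullback [QuasiSeparatedSpace ↥S] (D : I ⥤ Sp S)
    (hD : ∀ i, IsAlgSpace (D.obj i))
    (hDa : ∀ (i j : I) (φ : i ⟶ j), IsAffineMor (D.map φ)) (c : Cone D) (hc : IsLimit c)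
    (i₀ : I) (hqc : IsQuasiCompactSp (D.obj i₀)) (hqs : IsQuasiSeparatedSp (D.obj i₀))
    {U₀ : Over S} [IsAffine U₀.left] (u₀ : (yon S).obj U₀ ⟶ D.obj i₀)
    (hue : RepWith @Etale u₀)
    {T' Q' : Over S} (ε : Q' ⟶ T') [Etale ε.left] [IsAffineHom ε.left]
    (t₀ : D.obj i₀ ⟶ (yon S).obj T') (σ₀ : U₀ ⟶ Q')
    (hσ : u₀ ≫ t₀ = (yon S).map (σ₀ ≫ ε))
    {G : Sp S} {fstG : G ⟶ c.pt} {sndG : G ⟶ (yon S).obj U₀}
    (sqG : IsPullback fstG sndG (c.π.app i₀) u₀)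
    (sqlim : IsPullback (sndG ≫ (yon S).map σ₀) fstG ((yon S).map ε) (c.π.app i₀ ≫ t₀)) :
    ∃ j : Over i₀, ∀ (k : Over i₀) (_ : k ⟶ j) {Gk : Sp S} {g₁ : Gk ⟶ D.obj k.left}
      {g₂ : Gk ⟶ (yon S).obj U₀}, IsPullback g₁ g₂ (D.map k.hom) u₀ →
        IsPullback (g₂ ≫ (yon S).map σ₀) g₁ ((yon S).map ε) (D.map k.hom ≫ t₀) := by
  -- the fibre product `N = D_{i₀} ×_{T'} Q'`
  have sqN := IsPullback.of_hasPullback t₀ ((yon S).map ε)
  set n₁ := pullback.fst t₀ ((yon S).map ε) with hn₁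
  set n₂ := pullback.snd t₀ ((yon S).map ε) with hn₂
  have hεe : RepWith @Etale ((yon S).map ε) := (repWith_yon_map_iff @Etale ε).2 inferInstance
  have hεa : RepWith @IsAffineHom ((yon S).map ε) :=
    (repWith_yon_map_iff @IsAffineHom ε).2 inferInstance
  have hn₁e : RepWith @Etale n₁ := (RepWith @Etale).of_isPullback sqN.flip hεe
  have hn₁a : RepWith @IsAffineHom n₁ := (RepWith @IsAffineHom).of_isPullback sqN.flip hεa
  have hw : u₀ ≫ t₀ = (yon S).map σ₀ ≫ (yon S).map ε := by rw [hσ, Functor.map_comp]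
  obtain ⟨ν, hν1, hν2⟩ : ∃ ν : (yon S).obj U₀ ⟶ pullback t₀ ((yon S).map ε),
      ν ≫ n₁ = u₀ ∧ ν ≫ n₂ = (yon S).map σ₀ :=
    ⟨sqN.lift _ _ hw, sqN.lift_fst _ _ hw, sqN.lift_snd _ _ hw⟩
  have hN : IsAlgSpace (pullback t₀ ((yon S).map ε)) :=
    isAlgSpace_of_representable (hD i₀) n₁ hn₁e.rep
  have hNqc : IsQuasiCompactSp (pullback t₀ ((yon S).map ε)) :=
    isQuasiCompactSp_of_isPullback_repWith
      (repWith_mono (fun _ _ g hg => by
        have : IsAffineHom g := hg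
        exact (inferInstance : QuasiCompact g)) hεa) hqc sqN.flip
  have hNqs : IsQuasiSeparatedSp (pullback t₀ ((yon S).map ε)) := by
    refine isQuasiSeparatedSp_of_isQuasiSeparatedMor (f := n₁) ?_ hqs
    exact repWith_mono (fun _ _ g hg => by
      have : IsClosedImmersion g := hg
      exact (inferInstance : QuasiCompact g))
      (isSeparatedMor_of_isAffineMor (isAffineMor_of_repWith hn₁a))
  have hνlfp : LocP @LocallyOfFinitePresentation ν := by
    refine locP_of_comp (Pc := @LocallyOfFiniteType) (g := n₁) etale_le_lfp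
      (fun u v huv hv => locallyOfFinitePresentation_of_comp u v huv hv) (hD i₀) ?_ ?_
    · rw [hν1]
      exact locP_of_repWith etale_le_lfp (repWith_mono etale_le_lfp hue)
    · exact locP_of_repWith etale_le_lft (repWith_mono etale_le_lft hn₁e)
  -- the comparison maps
  have key : ∀ {Z : Sp S} (z : Z ⟶ D.obj i₀) {Gz : Sp S} {g₁ : Gz ⟶ Z}
      {g₂ : Gz ⟶ (yon S).obj U₀} (sqz : IsPullback g₁ g₂ z u₀),
      ∃ νz : Gz ⟶ pullback n₁ z, IsPullback g₂ νz ν (pullback.fst n₁ z) ∧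
        νz ≫ pullback.snd n₁ z = g₁ ∧
        (IsIso νz → IsPullback (g₂ ≫ (yon S).map σ₀) g₁ ((yon S).map ε) (z ≫ t₀)) ∧
        (IsPullback (g₂ ≫ (yon S).map σ₀) g₁ ((yon S).map ε) (z ≫ t₀) → IsIso νz) := by
    intro Z z Gz g₁ g₂ sqz
    have sqY := IsPullback.of_hasPullback n₁ z
    have hwz : (g₂ ≫ ν) ≫ n₁ = g₁ ≫ z := by rw [Category.assoc, hν1, sqz.w]
    obtain ⟨νz, hz1, hz2⟩ : ∃ νz : Gz ⟶ pullback n₁ z,
        νz ≫ pullback.fst n₁ z = g₂ ≫ ν ∧ νz ≫ pullback.snd n₁ z = g₁ :=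
      ⟨sqY.lift _ _ hwz, sqY.lift_fst _ _ hwz, sqY.lift_snd _ _ hwz⟩
    have sqbig : IsPullback (pullback.fst n₁ z ≫ n₂) (pullback.snd n₁ z) ((yon S).map ε)
        (z ≫ t₀) := sqY.paste_horiz sqN.flip
    have hcomp : νz ≫ pullback.fst n₁ z ≫ n₂ = g₂ ≫ (yon S).map σ₀ := by
      rw [← Category.assoc, hz1, Category.assoc, hν2]
    refine ⟨νz, ?_, hz2, ?_, ?_⟩
    · refine (IsPullback.of_right ?_ hz1 sqY.flip).flip
      rw [hz2, hν1]
      exact sqz
    · intro hiso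
      exact IsPullback.of_iso sqbig (asIso νz).symm (Iso.refl _) (Iso.refl _) (Iso.refl _)
        (by simp [hcomp]) (by simp [hz2]) (by simp) (by simp)
    · intro sq'
      have : νz = (sq'.isoIsPullback _ _ sqbig).hom := by
        apply sqbig.hom_ext
        · rw [IsPullback.isoIsPullback_hom_fst, hcomp]
        · rw [IsPullback.isoIsPullback_hom_snd, hz2]
      rw [this]
      infer_instance
  obtain ⟨νG, sqνG, hνG2, -, hνGiso⟩ := key (c.π.app i₀) sqG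
  haveI : IsIso νG := hνGiso sqlim
  obtain ⟨j, hj⟩ := descend_isIso_limit' (f₀ := ν) (b₀ := n₁) (i₀ := i₀) hDa hc
    (IsAlgSpace.yon_obj U₀) hN ((isQuasiCompactSp_yon_iff U₀).2 inferInstance)
    (isQuasiSeparatedSp_yon_of_isAffine U₀) hNqc hNqs
    (IsPullback.of_hasPullback n₁ (c.π.app i₀)) sqνG hνlfp
  refine ⟨j, fun k ψ Gk g₁ g₂ sqk => ?_⟩
  obtain ⟨νk, sqνk, -, hk1, -⟩ := key (D.map k.hom) sqk
  exact hk1 (hj k ψ _ _ νk _ _ (IsPullback.of_hasPullback n₁ (D.map k.hom)) _ sqνk)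

end Groth.Agent.H7.LimAff
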