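import Groth.Agent.Lib.Helper7.LPresE
import Groth.Agent.Lib.Helper7.LPresF
import Groth.Agent.Lib.Helper7.LimAffB
import Groth.Agent.Lib.Helper5.AlgSp.Limits.PBSystem
import Mathlib
set_option autoImplicit false
universe u
open CategoryTheory CategoryTheory.Limits AlgebraicGeometry Opposite

namespace Groth.Agent.H7.LPres
open _root_.AlgSp Groth.Agent.H5.AlgSp Groth.Agent.H5.AlgSp.Lim Groth.Agent.H5.Lim
  Groth.Agent.H7.LimAff

variable {S : Scheme.{u}}

/-- **Surjectivity half of "limit preserving"** for a morphism of algebraic spaces locally of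
finite presentation. -/
theorem stageSurj_of_locP {X Y : Sp S} (hX : IsAlgSpace X) (hY : IsAlgSpace Y) (f : X ⟶ Y)
    (hf : LocP @LocallyOfFinitePresentation f) : StageSurj f := by
  intro I _ _ D c hc hD hT x i y hxy
  haveI : IsConnected I := IsCofiltered.isConnected I
  -- Step 0: the atlas
  obtain ⟨U, p, hpe, hps⟩ := hX.atlas
  have hg : RepWith @LocallyOfFinitePresentation (p ≫ f) := by
    apply repWith_of_locP hY (hY.representable_from_yon (p ≫ f))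
    intro U' V' a b h ha hb comm
    exact hf (a ≫ p) b h ((RepWith @Etale).comp_mem _ _ ha hpe) hb
      (by rw [Category.assoc, comm])
  -- Step 1: pull back the atlas to `T`
  obtain ⟨P, π, fstP, sqP⟩ := hpe.1 x
  haveI : Etale π.left := hpe.2 x fstP π sqP
  haveI : Surjective π.left := hps.2 x fstP π sqP
  haveI : CompactSpace ↥c.pt.left := inferInstance
  -- Step 2: affine refinement
  obtain ⟨W₀, q₀, hW₀, hq₀e, hq₀s⟩ := exists_affine_etale_refinement π.left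
  let W : Over S := Over.mk (q₀ ≫ P.hom)
  let q : W ⟶ P := Over.homMk q₀ rfl
  let ψ : W ⟶ c.pt := q ≫ π
  let w : (yon S).obj W ⟶ (yon S).obj U := (yon S).map q ≫ fstP
  have hw : w ≫ p = (yon S).map ψ ≫ x := by
    rw [Category.assoc, sqP.w, ← Category.assoc, ← Functor.map_comp]
  -- Step 3: a model of `ψ`
  let D₀ : I ⥤ Scheme.{u} := D ⋙ Over.forget S
  let c₀ : Cone D₀ := (Over.forget S).mapCone c
  haveI hD₀ : ∀ i, IsAffine (D₀.obj i) := hD
  haveI : ∀ (i j : I) (φ : i ⟶ j), IsAffineHom (D₀.map φ) := fun _ _ _ => inferInstance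
  haveI : ∀ i, CompactSpace ↥(D₀.obj i) := fun i => inferInstance
  haveI : ∀ i, QuasiSeparatedSpace ↥(D₀.obj i) := fun i => inferInstance
  let ψ₀ : W₀ ⟶ c₀.pt := q₀ ≫ π.left
  haveI : Etale ψ₀ := hq₀e
  haveI : Surjective ψ₀ := hq₀s
  haveI : IsAffine c₀.pt := hT
  haveI : IsAffineHom ψ₀ := inferInstance
  obtain ⟨j', M', hM'e, hM's, hM'a⟩ := exists_etale_surjective_affine_model D₀ c₀ hc ψ₀
  let j : I := IsCofiltered.min j' i
  let φji : j ⟶ i := IsCofiltered.minToRight j' i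
  let M : Model D₀ c₀ ψ₀ j := M'.bc (IsCofiltered.minToLeft j' i)
  haveI hMe : Etale M.p := MorphismProperty.pullback_snd (P := @Etale) _ _ hM'e
  haveI hMs : Surjective M.p := MorphismProperty.pullback_snd (P := @Surjective) _ _ hM's
  haveI hMa : IsAffineHom M.p := MorphismProperty.pullback_snd (P := @IsAffineHom) _ _ hM'a
  -- Step 4: the chart system of the model
  let Wj : Over S := Over.mk (M.p ≫ (D.obj j).hom)
  let gj : Wj ⟶ D.obj j := Over.homMk M.p rfl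
  let Dy : I ⥤ Sp S := D ⋙ yon S
  let cy : Cone Dy := (yon S).mapCone c
  have hcO : IsLimit c := isLimitOfReflects (Over.forget S) hc
  have hcy : IsLimit cy := isLimitOfPreserves (yon S) hcO
  have hDa : ∀ (i j : I) (φ : i ⟶ j), IsAffineMor (Dy.map φ) := fun i j φ =>
    isAffineMor_of_repWith ((repWith_yon_map_iff @IsAffineHom (D.map φ)).2
      (by haveI := hD i; haveI := hD j; infer_instance))
  obtain ⟨CS⟩ := ChartSystem.exists_of_isAffineMor Dy hDa cy hcy j ((yon S).map gj)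
  have hWjaff : IsAffine Wj.left := by
    haveI := hD₀ j
    exact isAffine_of_isAffineHom M.p
  have hEaff : ∀ k, IsAffine (CS.P.E.obj k).left := fun k => by
    have : IsAffineHom (CS.P.q k).left := CS.isAffineHom_q hDa k
    exact isAffine_of_isAffineHom (CS.P.q k).left
  have hgje : RepWith @Etale ((yon S).map gj) := (repWith_yon_map_iff @Etale gj).2 hMe
  have hgjs : RepWith @Surjective ((yon S).map gj) := (repWith_yon_map_iff @Surjective gj).2 hMs
  have hfe : ∀ k, RepWith @Etale (CS.P.f k) := fun k =>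
    (RepWith @Etale).of_isPullback (CS.sq' k).flip hgje
  have hfs : ∀ k, RepWith @Surjective (CS.P.f k) := fun k =>
    (RepWith @Surjective).of_isPullback (CS.sq' k).flip hgjs
  have hfste : RepWith @Etale CS.fst := (RepWith @Etale).of_isPullback CS.sq.flip hgje
  have hfsts : RepWith @Surjective CS.fst := (RepWith @Surjective).of_isPullback CS.sq.flip hgjs
  -- the comparison with `W`
  obtain ⟨fstS, hfstS⟩ := (yon S).map_surjective CS.fst
  have hcomm : CS.snd ≫ gj = fstS ≫ c.π.app j := (yon S).map_injective (by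
    rw [Functor.map_comp, Functor.map_comp, hfstS]
    exact CS.sq.w.symm)
  let e₀ : CS.cE.pt.left ⟶ W₀ := M.pb.lift CS.snd.left fstS.left (congrArg Over.Hom.left hcomm)
  have he₀ : e₀ ≫ ψ₀ = fstS.left := M.pb.lift_snd _ _ _
  let e : CS.cE.pt ⟶ W := Over.homMk e₀ (by
    have h1 : q₀ ≫ P.hom = ψ₀ ≫ c.pt.hom := by
      change q₀ ≫ P.hom = (q₀ ≫ π.left) ≫ c.pt.hom
      rw [Category.assoc, Over.w π]
    change e₀ ≫ q₀ ≫ P.hom = CS.cE.pt.hom
    rw [h1, ← Category.assoc, he₀]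
    exact Over.w fstS)
  have heψ : e ≫ ψ = fstS := by
    apply Over.OverMorphism.ext
    exact he₀
  let w'' : (yon S).obj CS.cE.pt ⟶ (yon S).obj U := (yon S).map e ≫ w
  have hw'' : w'' ≫ p = CS.fst ≫ x := by
    rw [Category.assoc, hw, ← Category.assoc, ← Functor.map_comp, heψ, hfstS]
  -- Step 5: descend the lift to `U`
  let ek : ∀ k : Over j, CS.P.E.obj k ⟶ D.obj k.left := fun k => (yon S).preimage (CS.P.f k)
  have hek : ∀ k : Over j, (yon S).map (ek k) = CS.P.f k := fun k => (yon S).map_preimage _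
  have hfstπ : ∀ k : Over j, fstS ≫ c.π.app k.left = CS.cE.π.app k ≫ ek k := fun k =>
    (yon S).map_injective (by
      rw [Functor.map_comp, Functor.map_comp, hfstS, hek]
      exact CS.fst_π k)
  have heknat : ∀ {k k' : Over j} (φ : k ⟶ k'), CS.P.E.map φ ≫ ek k' = ek k ≫ D.map φ.left :=
    fun {k k'} φ => (yon S).map_injective (by
      rw [Functor.map_comp, Functor.map_comp, hek, hek]
      exact CS.P.f_nat φ)
  let k₀ : Over j := Over.mk (𝟙 j)
  let y₀ : (yon S).obj (CS.P.E.obj k₀) ⟶ Y := (yon S).map (ek k₀ ≫ D.map φji) ≫ y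
  have h5 : w'' ≫ p ≫ f = (yon S).map (CS.cE.π.app k₀) ≫ y₀ := by
    have e1 : w'' ≫ p ≫ f = (yon S).map (fstS ≫ c.π.app i) ≫ y := by
      rw [← Category.assoc, hw'', Category.assoc, hxy, ← Category.assoc, ← hfstS,
        ← Functor.map_comp]
    have e2 : CS.cE.π.app k₀ ≫ ek k₀ ≫ D.map φji = fstS ≫ c.π.app i := by
      rw [← Category.assoc, ← hfstπ k₀, Category.assoc]
      congr 1
      exact c.w φji
    rw [e1, ← e2]
    change _ = (yon S).map (CS.cE.π.app k₀) ≫ (yon S).map (ek k₀ ≫ D.map φji) ≫ y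
    rw [Functor.map_comp, Category.assoc]
  obtain ⟨k₁, φ₁, w₁, hw₁1, hw₁2⟩ := exists_stage_lift_of_repWith (p ≫ f) hg CS.P.E CS.cE CS.hcF
    hEaff w'' k₀ y₀ h5
  -- Step 6: the kernel pair at stage `k₁`
  have hφ₁ : φ₁.left = k₁.hom := by
    have := Over.w φ₁
    simpa [k₀] using this
  obtain ⟨xt₁, hxt₁⟩ : ∃ z : (yon S).obj (CS.P.E.obj k₁) ⟶ X, z = w₁ ≫ p := ⟨_, rfl⟩
  have hxt₁f : xt₁ ≫ f = (yon S).map (ek k₁ ≫ D.map (k₁.hom ≫ φji)) ≫ y := by
    rw [hxt₁, Category.assoc, hw₁2]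
    change (yon S).map (CS.P.E.map φ₁) ≫ (yon S).map (ek k₀ ≫ D.map φji) ≫ y = _
    rw [← Category.assoc, ← Functor.map_comp, ← Category.assoc, heknat φ₁, hφ₁, Category.assoc,
      ← D.map_comp]
  have hπxt₁ : (yon S).map (CS.cE.π.app k₁) ≫ xt₁ = (yon S).map fstS ≫ x := by
    rw [hxt₁, ← Category.assoc, hw₁1, hw'', hfstS]
  have key : ∀ {Z : Over S} (z : Z ⟶ CS.P.E.obj k₁), (yon S).map z ≫ xt₁ ≫ f =
      (yon S).map (z ≫ ek k₁ ≫ D.map (k₁.hom ≫ φji)) ≫ y := by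
    intro Z z
    rw [hxt₁f, ← Category.assoc, ← Functor.map_comp]
  have hpbπ : ∀ k : Over j, IsPullback ((yon S).map (CS.cE.π.app k)) ((yon S).map fstS)
      ((yon S).map (ek k)) ((yon S).map (c.π.app k.left)) := fun k => by
    rw [hek, hfstS]
    exact CS.isPullback_π k
  let R₁ : Over S := pullback (ek k₁) (ek k₁)
  let pr₁ : R₁ ⟶ CS.P.E.obj k₁ := pullback.fst _ _
  let pr₂ : R₁ ⟶ CS.P.E.obj k₁ := pullback.snd _ _
  have hpr : pr₁ ≫ ek k₁ = pr₂ ≫ ek k₁ := pullback.condition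
  obtain ⟨r₁, hr₁⟩ : ∃ z : R₁ ⟶ D.obj k₁.left, z = pr₁ ≫ ek k₁ := ⟨_, rfl⟩
  have sqR : IsPullback pr₁.left pr₂.left (ek k₁).left (ek k₁).left :=
    (IsPullback.of_hasPullback (ek k₁) (ek k₁)).map (Over.forget S)
  have hR₁aff : IsAffine R₁.left := by
    haveI := hEaff k₁
    haveI := hD k₁.left
    haveI : IsAffineHom (ek k₁).left := inferInstance
    haveI : IsAffineHom pr₂.left :=
      MorphismProperty.of_isPullback (P := @IsAffineHom) sqR ‹_›
    exact isAffine_of_isAffineHom pr₂.left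
  obtain ⟨CS₂⟩ := ChartSystem.exists_of_isAffineMor Dy hDa cy hcy k₁.left ((yon S).map r₁)
  have hE₂aff : ∀ m, IsAffine (CS₂.P.E.obj m).left := fun m => by
    have : IsAffineHom (CS₂.P.q m).left := CS₂.isAffineHom_q hDa m
    exact isAffine_of_isAffineHom (CS₂.P.q m).left
  let ek₂ : ∀ m : Over k₁.left, CS₂.P.E.obj m ⟶ D.obj m.left := fun m =>
    (yon S).preimage (CS₂.P.f m)
  have hek₂ : ∀ m : Over k₁.left, (yon S).map (ek₂ m) = CS₂.P.f m := fun m =>
    (yon S).map_preimage _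
  obtain ⟨fstS₂, hfstS₂⟩ := (yon S).map_surjective CS₂.fst
  have hsq₂ : fstS₂ ≫ c.π.app k₁.left = CS₂.snd ≫ r₁ := (yon S).map_injective (by
    rw [Functor.map_comp, Functor.map_comp, hfstS₂]
    exact CS₂.sq.w)
  have hsq₂' : ∀ m : Over k₁.left, IsPullback ((yon S).map (ek₂ m)) ((yon S).map (CS₂.P.q m))
      ((yon S).map (D.map m.hom)) ((yon S).map r₁) := fun m => by
    rw [hek₂]
    exact CS₂.sq' m
  obtain ⟨a, ha⟩ : ∃ z : (yon S).obj R₁ ⟶ X, z = (yon S).map pr₁ ≫ xt₁ := ⟨_, rfl⟩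
  obtain ⟨b, hb⟩ : ∃ z : (yon S).obj R₁ ⟶ X, z = (yon S).map pr₂ ≫ xt₁ := ⟨_, rfl⟩
  have habf : a ≫ f = b ≫ f := by
    rw [ha, hb, Category.assoc, Category.assoc, key, key]
    congr 2
    rw [← Category.assoc, hpr, Category.assoc]
  have hρ : ∀ (pr : R₁ ⟶ CS.P.E.obj k₁), pr ≫ ek k₁ = r₁ →
      (yon S).map (CS₂.snd ≫ pr) ≫ xt₁ = (yon S).map fstS₂ ≫ x := by
    intro pr hpr'
    have hcompat : (yon S).map (CS₂.snd ≫ pr) ≫ (yon S).map (ek k₁) =
        (yon S).map fstS₂ ≫ (yon S).map (c.π.app k₁.left) := by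
      rw [← Functor.map_comp, ← Functor.map_comp, Category.assoc, hpr', hsq₂]
    obtain ⟨ρ, hρ1, hρ2⟩ : ∃ ρ : (yon S).obj CS₂.cE.pt ⟶ (yon S).obj CS.cE.pt,
        ρ ≫ (yon S).map (CS.cE.π.app k₁) = (yon S).map (CS₂.snd ≫ pr) ∧
        ρ ≫ (yon S).map fstS = (yon S).map fstS₂ :=
      ⟨(hpbπ k₁).lift _ _ hcompat, (hpbπ k₁).lift_fst _ _ _, (hpbπ k₁).lift_snd _ _ _⟩
    rw [← hρ1, Category.assoc, hπxt₁, ← Category.assoc, hρ2]
  let m₀ : Over k₁.left := Over.mk (𝟙 k₁.left)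
  have hB1 : (yon S).map (CS₂.cE.π.app m₀) ≫ (yon S).map (CS₂.P.q m₀) ≫ a =
      (yon S).map (CS₂.cE.π.app m₀) ≫ (yon S).map (CS₂.P.q m₀) ≫ b := by
    rw [← Category.assoc, ← Category.assoc, ← Functor.map_comp, CS₂.π_q, ha, hb,
      ← Category.assoc, ← Category.assoc, ← Functor.map_comp, ← Functor.map_comp,
      hρ pr₁ hr₁.symm, hρ pr₂ (hpr.symm.trans hr₁.symm)]
  have hB2 : ((yon S).map (CS₂.P.q m₀) ≫ a) ≫ f = ((yon S).map (CS₂.P.q m₀) ≫ b) ≫ f := by
    rw [Category.assoc, Category.assoc, habf]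
  obtain ⟨m₂, φ₂, hab⟩ := exists_stage_eq_of_locP hX hY f (locP_mono lfp_le_lft hf) CS₂.P.E
    CS₂.cE CS₂.hcF hE₂aff m₀ ((yon S).map (CS₂.P.q m₀) ≫ a) ((yon S).map (CS₂.P.q m₀) ≫ b)
    hB1 hB2
  have hab' : (yon S).map (CS₂.P.q m₂) ≫ a = (yon S).map (CS₂.P.q m₂) ≫ b := by
    rw [← CS₂.P.q_nat φ₂, Functor.map_comp, Category.assoc, Category.assoc]
    exact hab
  -- Step 7: descend along the chart at stage `k₂`
  let k₂ : Over j := Over.mk (m₂.hom ≫ k₁.hom)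
  let φ₂₁ : k₂ ⟶ k₁ := Over.homMk m₂.hom rfl
  have hφ₂₁ : φ₂₁.left = m₂.hom := rfl
  obtain ⟨xt₂, hxt₂⟩ : ∃ z : (yon S).obj (CS.P.E.obj k₂) ⟶ X,
      z = (yon S).map (CS.P.E.map φ₂₁) ≫ xt₁ := ⟨_, rfl⟩
  have hfk₂e : RepWith @Etale ((yon S).map (ek k₂)) := by rw [hek]; exact hfe k₂
  have hfk₂s : RepWith @Surjective ((yon S).map (ek k₂)) := by rw [hek]; exact hfs k₂
  haveI : Sheaf.IsLocallySurjective ((yon S).map (ek k₂)) :=
    isLocallySurjective_of_etale_surjective _ hfk₂e hfk₂s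
  have hdesc : pullback.fst ((yon S).map (ek k₂)) ((yon S).map (ek k₂)) ≫ xt₂ =
      pullback.snd ((yon S).map (ek k₂)) ((yon S).map (ek k₂)) ≫ xt₂ := by
    apply hom_ext_yon
    intro Z z
    obtain ⟨ζ₁, hζ₁⟩ := (yon S).map_surjective
      (z ≫ pullback.fst ((yon S).map (ek k₂)) ((yon S).map (ek k₂)))
    obtain ⟨ζ₂, hζ₂⟩ := (yon S).map_surjective
      (z ≫ pullback.snd ((yon S).map (ek k₂)) ((yon S).map (ek k₂)))
    have hζ : ζ₁ ≫ ek k₂ = ζ₂ ≫ ek k₂ := (yon S).map_injective (by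
      rw [Functor.map_comp, Functor.map_comp, hζ₁, hζ₂, Category.assoc, Category.assoc,
        pullback.condition])
    have hζ' : (ζ₁ ≫ CS.P.E.map φ₂₁) ≫ ek k₁ = (ζ₂ ≫ CS.P.E.map φ₂₁) ≫ ek k₁ := by
      rw [Category.assoc, Category.assoc, heknat φ₂₁, ← Category.assoc, ← Category.assoc, hζ]
    let ζR : Z ⟶ R₁ := pullback.lift (ζ₁ ≫ CS.P.E.map φ₂₁) (ζ₂ ≫ CS.P.E.map φ₂₁) hζ'
    have hζR1 : ζR ≫ pr₁ = ζ₁ ≫ CS.P.E.map φ₂₁ := pullback.lift_fst _ _ _
    have hζR2 : ζR ≫ pr₂ = ζ₂ ≫ CS.P.E.map φ₂₁ := pullback.lift_snd _ _ _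
    have hcompat : (yon S).map (ζ₁ ≫ ek k₂) ≫ (yon S).map (D.map m₂.hom) =
        (yon S).map ζR ≫ (yon S).map r₁ := by
      rw [← Functor.map_comp, ← Functor.map_comp, hr₁, ← Category.assoc ζR, hζR1, Category.assoc,
        Category.assoc, heknat φ₂₁, hφ₂₁]
    obtain ⟨ζ₂₂, hζ₂₂⟩ : ∃ ζ₂₂ : (yon S).obj Z ⟶ (yon S).obj (CS₂.P.E.obj m₂),
        ζ₂₂ ≫ (yon S).map (CS₂.P.q m₂) = (yon S).map ζR :=
      ⟨(hsq₂' m₂).lift _ _ hcompat, (hsq₂' m₂).lift_snd _ _ _⟩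
    have e1 : (z ≫ pullback.fst ((yon S).map (ek k₂)) ((yon S).map (ek k₂))) ≫ xt₂ =
        (yon S).map ζR ≫ a := by
      rw [← hζ₁, hxt₂, ha, ← Category.assoc, ← Category.assoc, ← Functor.map_comp,
        ← Functor.map_comp, hζR1]
    have e2 : (z ≫ pullback.snd ((yon S).map (ek k₂)) ((yon S).map (ek k₂))) ≫ xt₂ =
        (yon S).map ζR ≫ b := by
      rw [← hζ₂, hxt₂, hb, ← Category.assoc, ← Category.assoc, ← Functor.map_comp,
        ← Functor.map_comp, hζR2]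
    rw [← Category.assoc, ← Category.assoc, e1, e2, ← hζ₂₂, Category.assoc, Category.assoc, hab']
  -- Step 8: the descended point
  obtain ⟨x₂, hx₂⟩ := exists_desc_of_isLocallySurjective ((yon S).map (ek k₂)) xt₂ hdesc
  refine ⟨k₂.left, k₂.hom ≫ φji, x₂, ?_, ?_⟩
  · have hfstSe : RepWith @Etale ((yon S).map fstS) := by rw [hfstS]; exact hfste
    have hfstSs : RepWith @Surjective ((yon S).map fstS) := by rw [hfstS]; exact hfsts
    haveI : Sheaf.IsLocallySurjective ((yon S).map fstS) :=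
      isLocallySurjective_of_etale_surjective _ hfstSe hfstSs
    haveI : Epi ((yon S).map fstS) := inferInstance
    rw [← cancel_epi ((yon S).map fstS), ← hπxt₁, ← Category.assoc, ← Functor.map_comp,
      hfstπ k₂, Functor.map_comp, Category.assoc, hx₂, hxt₂, ← Category.assoc,
      ← Functor.map_comp, CS.cE.w]
  · haveI : Epi ((yon S).map (ek k₂)) := inferInstance
    have e3 : CS.P.E.map φ₂₁ ≫ ek k₁ ≫ D.map (k₁.hom ≫ φji) = ek k₂ ≫ D.map (k₂.hom ≫ φji) := by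
      rw [← Category.assoc, heknat φ₂₁, Category.assoc, ← D.map_comp, hφ₂₁]
      change ek k₂ ≫ D.map (m₂.hom ≫ k₁.hom ≫ φji) = ek k₂ ≫ D.map ((m₂.hom ≫ k₁.hom) ≫ φji)
      rw [Category.assoc]
    rw [← cancel_epi ((yon S).map (ek k₂)), ← Category.assoc, hx₂, hxt₂, Category.assoc, key,
      e3, Functor.map_comp, Category.assoc]

end Groth.Agent.H7.LPres
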