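import Groth.Agent.Lib.Helper7.LPresG
import Groth.Agent.Lib.Helper5.AlgSp.RelLP
import Groth.Agent.Lib.Helper5.AlgSp.Basic
import Mathlib
set_option autoImplicit false
universe u
open CategoryTheory CategoryTheory.Limits AlgebraicGeometry Opposite

namespace Groth.Agent.H7.LPres
open _root_.AlgSp Groth.Agent.H5.AlgSp Groth.Agent.H5.RelLP

variable {S : Scheme.{u}} {I : Type u} [SmallCategory I] [IsCofiltered I]

lemma yEquiv_map {F : Sp S} {T T' : Over S} (x : (yon S).obj T ⟶ F) (g : T' ⟶ T) :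
    F.obj.map g.op (yEquiv F T x) = yEquiv F T' ((yon S).map g ≫ x) :=
  (J S).uliftYonedaEquiv_naturality x g

/-- From the morphism-level form of the comparison to the section-level form. -/
theorem cartAt_of_hom {F G : Sp S} (a : F ⟶ G) (D : I ⥤ Over S) (c : Cone D)
    (h1 : ∀ (x : (yon S).obj c.pt ⟶ F) (i : I) (y : (yon S).obj (D.obj i) ⟶ G),
      x ≫ a = (yon S).map (c.π.app i) ≫ y →
      ∃ (i' : I) (φ : i' ⟶ i) (x' : (yon S).obj (D.obj i') ⟶ F),
        (yon S).map (c.π.app i') ≫ x' = x ∧ x' ≫ a = (yon S).map (D.map φ) ≫ y)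
    (h2 : ∀ (i : I) (x x' : (yon S).obj (D.obj i) ⟶ F),
      (yon S).map (c.π.app i) ≫ x = (yon S).map (c.π.app i) ≫ x' → x ≫ a = x' ≫ a →
      ∃ (j : I) (φ : j ⟶ i), (yon S).map (D.map φ) ≫ x = (yon S).map (D.map φ) ≫ x') :
    CartAt a.hom D c := by
  refine ⟨fun xs i ys hxy => ?_, fun i xs xs' hxx' haxx' => ?_⟩
  · obtain ⟨i', φ, x', hx'1, hx'2⟩ := h1 ((yEquiv F c.pt).symm xs) i
      ((yEquiv G (D.obj i)).symm ys) (by
        apply (yEquiv G c.pt).injective
        rw [yEquiv_comp, ← yEquiv_map, Equiv.apply_symm_apply, Equiv.apply_symm_apply]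
        exact hxy)
    refine ⟨i', φ, yEquiv F (D.obj i') x', ?_, ?_⟩
    · rw [yEquiv_map, hx'1, Equiv.apply_symm_apply]
    · rw [← yEquiv_comp, hx'2, ← yEquiv_map, Equiv.apply_symm_apply]
  · obtain ⟨j, φ, hφ⟩ := h2 i ((yEquiv F (D.obj i)).symm xs) ((yEquiv F (D.obj i)).symm xs') (by
        apply (yEquiv F c.pt).injective
        rw [← yEquiv_map, ← yEquiv_map, Equiv.apply_symm_apply, Equiv.apply_symm_apply]
        exact hxx') (by
        apply (yEquiv G (D.obj i)).injective
        rw [yEquiv_comp, yEquiv_comp, Equiv.apply_symm_apply, Equiv.apply_symm_apply]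
        exact haxx')
    refine ⟨j, φ, ?_⟩
    have := congrArg (yEquiv F (D.obj j)) hφ
    rw [← yEquiv_map, ← yEquiv_map, Equiv.apply_symm_apply, Equiv.apply_symm_apply] at this
    exact this

/-- From the section-level form of the comparison to the morphism-level form (surjectivity). -/
theorem hom_surj_of_cartAt {F G : Sp S} (a : F ⟶ G) (D : I ⥤ Over S) (c : Cone D)
    (h : CartAt a.hom D c) (x : (yon S).obj c.pt ⟶ F) (i : I)
    (y : (yon S).obj (D.obj i) ⟶ G) (hxy : x ≫ a = (yon S).map (c.π.app i) ≫ y) :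
    ∃ (i' : I) (φ : i' ⟶ i) (x' : (yon S).obj (D.obj i') ⟶ F),
      (yon S).map (c.π.app i') ≫ x' = x ∧ x' ≫ a = (yon S).map (D.map φ) ≫ y := by
  obtain ⟨j, φ, xj, hxj1, hxj2⟩ := h.1 (yEquiv F c.pt x) i (yEquiv G (D.obj i) y) (by
    rw [← yEquiv_comp, hxy, yEquiv_map])
  refine ⟨j, φ, (yEquiv F (D.obj j)).symm xj, ?_, ?_⟩
  · apply (yEquiv F c.pt).injective
    rw [← yEquiv_map, Equiv.apply_symm_apply]
    exact hxj1
  · apply (yEquiv G (D.obj j)).injective
    rw [yEquiv_comp, Equiv.apply_symm_apply, ← yEquiv_map]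
    exact hxj2

/-- **Locally of finite presentation ⟺ limit preserving** for morphisms of algebraic spaces. -/
theorem locP_lfp_iff_isRelLimitPreserving {X Y : Sp S} (hX : IsAlgSpace X) (hY : IsAlgSpace Y)
    (f : X ⟶ Y) :
    LocP @LocallyOfFinitePresentation f ↔ IsRelLimitPreserving f.hom := by
  constructor
  · intro hf
    apply isRelLimitPreserving_of_cartAt
    intro I _ _ D c hc hD hT
    apply cartAt_of_hom
    · intro x i y hxy
      exact stageSurj_of_locP hX hY f hf D c hc hD hT x i y hxy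
    · intro i x x' h1 h2
      exact exists_stage_eq_of_locP hX hY f (locP_mono lfp_le_lft hf) D c hc hD i x x' h1 h2
  · intro h
    apply locP_lfp_of_stageSurj
    intro I _ _ D c hc hD hT x i y hxy
    exact hom_surj_of_cartAt f D c (cartAt_of_isRelLimitPreserving f.hom h D c hc hD hT) x i y hxy

end Groth.Agent.H7.LPres
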