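import Mathlib
import Groth.Agent.H4.LDS3
import Groth.Agent.Lib.Helper6.KInjDS
import Groth.Agent.Lib.Lead.DAdj.MapHC

/-!
# The derived adjunction `LF ⊣ RG` for an adjoint pair of additive functors

`F ⊣ G` additive functors between abelian categories, `F` left derivable through an admissible
class of complexes with resolutions (helper4's `LDS3`), `G` right derivable through K-injective
resolutions (helper6's `KInjDS`).  Then the total derived functors are adjoint.
-/

set_option autoImplicit false

namespace Groth.Agent.Helper7.LR1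

open CategoryTheory Limits Category Pretriangulated ObjectProperty
open Groth.Agent.H4 Groth.Agent.H4.LDS3 Groth.Agent.H6

section Recog

variable {A : Type*} [Category A] [Abelian A]
  {Pc : CochainComplex A ℤ → Prop} (h : Adm Pc) (hres : HasResCx Pc)
  {H : Type*} [Category H] (G : HomotopyCategory A (ComplexShape.up ℤ) ⥤ H)
  (hG : ∀ ⦃X Y : HomotopyCategory A (ComplexShape.up ℤ)⦄ (f : X ⟶ Y), hoP Pc X → hoP Pc Y →
    (HomotopyCategory.subcategoryAcyclic A).trW f → IsIso (G.map f))
  {D : Type*} [Category D] (L : HomotopyCategory A (ComplexShape.up ℤ) ⥤ D)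
  [L.IsLocalization (HomotopyCategory.quasiIso A (ComplexShape.up ℤ))]
  (LG : D ⥤ H) (α : L ⋙ LG ⟶ G)

include h hres hG in
/-- recognition of left derived functors: a counit which is an isomorphism on the adapted
complexes exhibits a left derived functor. -/
theorem isLeftDerivedFunctor_of_isIso
    (hα : ∀ E : CochainComplex A ℤ, Pc E →
      IsIso (α.app ((HomotopyCategory.quotient A (ComplexShape.up ℤ)).obj E))) :
    LG.IsLeftDerivedFunctor α (HomotopyCategory.quasiIso A (ComplexShape.up ℤ)) := by
  haveI := isTriangulated h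
  have hpw : G.HasPointwiseLeftDerivedFunctor
      (HomotopyCategory.quasiIso A (ComplexShape.up ℤ)) := by
    rw [HomotopyCategory.quasiIso_eq_trW_subcategoryAcyclic]
    exact LDS2.hasPointwiseLeftDerivedFunctor (hasRes hres) G hG
  haveI : G.HasLeftDerivedFunctor (HomotopyCategory.quasiIso A (ComplexShape.up ℤ)) :=
    inferInstance
  rw [Functor.isLeftDerivedFunctor_iff_isIso_leftDerivedLift
    (G.totalLeftDerived L (HomotopyCategory.quasiIso A (ComplexShape.up ℤ)))
    (G.totalLeftDerivedCounit L (HomotopyCategory.quasiIso A (ComplexShape.up ℤ)))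
    (HomotopyCategory.quasiIso A (ComplexShape.up ℤ)) LG α]
  have key : ∀ E : CochainComplex A ℤ, Pc E →
      IsIso (((G.totalLeftDerived L (HomotopyCategory.quasiIso A (ComplexShape.up ℤ))).leftDerivedLift
        (G.totalLeftDerivedCounit L (HomotopyCategory.quasiIso A (ComplexShape.up ℤ)))
        (HomotopyCategory.quasiIso A (ComplexShape.up ℤ)) LG α).app
          (L.obj ((HomotopyCategory.quotient A (ComplexShape.up ℤ)).obj E))) := by
    intro E hE
    have h1 : IsIso ((G.totalLeftDerivedCounit L
        (HomotopyCategory.quasiIso A (ComplexShape.up ℤ))).app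
          ((HomotopyCategory.quotient A (ComplexShape.up ℤ)).obj E)) := by
      haveI : L.IsLocalization (HomotopyCategory.subcategoryAcyclic A).trW := by
        rw [← HomotopyCategory.quasiIso_eq_trW_subcategoryAcyclic]; infer_instance
      haveI : (G.totalLeftDerived L
          (HomotopyCategory.quasiIso A (ComplexShape.up ℤ))).IsLeftDerivedFunctor
          (G.totalLeftDerivedCounit L (HomotopyCategory.quasiIso A (ComplexShape.up ℤ)))
          (HomotopyCategory.subcategoryAcyclic A).trW := by
        constructor
        exact Functor.IsLeftDerivedFunctor.isRightKanExtension _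
          (G.totalLeftDerivedCounit L (HomotopyCategory.quasiIso A (ComplexShape.up ℤ)))
          (HomotopyCategory.quasiIso A (ComplexShape.up ℤ))
      exact LDS2.isIso_counit_app (hasRes hres) G hG L _
        (G.totalLeftDerivedCounit L (HomotopyCategory.quasiIso A (ComplexShape.up ℤ))) _
        (hoP_quotient Pc hE)
    have h2 := hα E hE
    have h3 := (G.totalLeftDerived L
      (HomotopyCategory.quasiIso A (ComplexShape.up ℤ))).leftDerived_fac_app
      (G.totalLeftDerivedCounit L (HomotopyCategory.quasiIso A (ComplexShape.up ℤ)))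
      (HomotopyCategory.quasiIso A (ComplexShape.up ℤ)) LG α
      ((HomotopyCategory.quotient A (ComplexShape.up ℤ)).obj E)
    rw [← h3] at h2
    exact IsIso.of_isIso_comp_right _ ((G.totalLeftDerivedCounit L
      (HomotopyCategory.quasiIso A (ComplexShape.up ℤ))).app _)
  rw [NatTrans.isIso_iff_isIso_app]
  intro Y
  haveI := Localization.essSurj L (HomotopyCategory.quasiIso A (ComplexShape.up ℤ))
  obtain ⟨X', hX'⟩ := HomotopyCategory.quotient_obj_surjective (L.objPreimage Y)
  obtain ⟨E, s, hE, hs⟩ := hres X'
  haveI : IsIso (L.map ((HomotopyCategory.quotient A (ComplexShape.up ℤ)).map s)) :=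
    Localization.inverts L (HomotopyCategory.quasiIso A (ComplexShape.up ℤ)) _
      ((HomotopyCategory.quotient_map_mem_quasiIso_iff s).2 hs)
  let e : L.obj ((HomotopyCategory.quotient A (ComplexShape.up ℤ)).obj E) ≅ Y :=
    asIso (L.map ((HomotopyCategory.quotient A (ComplexShape.up ℤ)).map s)) ≪≫
      L.mapIso (eqToIso hX') ≪≫ L.objObjPreimageIso Y
  exact (NatTrans.isIso_app_iff_of_iso _ e).1 (key E hE)

end Recog

section Comp

variable {A B : Type*} [Category A] [Category B] [Abelian A] [Abelian B]
  [HasDerivedCategory A] [HasDerivedCategory B]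
  {Pc : CochainComplex A ℤ → Prop} (h : Adm Pc) (hres : HasResCx Pc)
  (Φ : A ⥤ B) [Φ.Additive]
  (hΦ : ∀ E : CochainComplex A ℤ, Pc E → E.Acyclic →
      ((Φ.mapHomologicalComplex (ComplexShape.up ℤ)).obj E).Acyclic)
  {D : Type*} [Category D] (L : HomotopyCategory A (ComplexShape.up ℤ) ⥤ D)
  [L.IsLocalization (HomotopyCategory.quasiIso A (ComplexShape.up ℤ))]
  (LG : D ⥤ DerivedCategory B) (α : L ⋙ LG ⟶ Gh Φ)
  [LG.IsLeftDerivedFunctor α (HomotopyCategory.quasiIso A (ComplexShape.up ℤ))]
  {H' : Type*} [Category H'] (T : DerivedCategory B ⥤ H')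

include h hres hΦ in
/-- the left derived functor computed by adapted resolutions is absolute. -/
theorem isLeftDerivedFunctor_comp :
    (LG ⋙ T).IsLeftDerivedFunctor
      ((Functor.associator _ _ _).inv ≫ Functor.whiskerRight α T)
      (HomotopyCategory.quasiIso A (ComplexShape.up ℤ)) := by
  refine isLeftDerivedFunctor_of_isIso h hres (Gh Φ ⋙ T) ?_ L (LG ⋙ T) _ ?_
  · intro X Y f hX hY hf
    haveI : IsIso ((Gh Φ).map f) := isIso_map_of_acyclic (Gh Φ) h
      (fun E hE hE' => isZero_Gh_obj Φ E (hΦ E hE hE')) f hX hY hf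
    change IsIso (T.map ((Gh Φ).map f))
    infer_instance
  · intro E hE
    haveI := LDS3.isIso_counit_app Φ h hres hΦ L LG α E hE
    simp only [NatTrans.comp_app, Functor.associator_inv_app, Functor.whiskerRight_app,
      Category.id_comp]
    infer_instance

end Comp

section AdjH

variable {A B : Type*} [Category A] [Category B] [Abelian A] [Abelian B]
  {F : A ⥤ B} {G : B ⥤ A} (adj : F ⊣ G) [F.Additive] [G.Additive]

/-- the adjunction induced on homotopy categories of cochain complexes. -/
noncomputable def adjH : F.mapHomotopyCategory (ComplexShape.up ℤ) ⊣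
    G.mapHomotopyCategory (ComplexShape.up ℤ) :=
  letI : CatCommSq (F.mapHomologicalComplex (ComplexShape.up ℤ))
      (HomotopyCategory.quotient A (ComplexShape.up ℤ))
      (HomotopyCategory.quotient B (ComplexShape.up ℤ))
      (F.mapHomotopyCategory (ComplexShape.up ℤ)) :=
    ⟨(F.mapHomotopyCategoryFactors (ComplexShape.up ℤ)).symm⟩
  letI : CatCommSq (G.mapHomologicalComplex (ComplexShape.up ℤ))
      (HomotopyCategory.quotient B (ComplexShape.up ℤ))
      (HomotopyCategory.quotient A (ComplexShape.up ℤ))
      (G.mapHomotopyCategory (ComplexShape.up ℤ)) :=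
    ⟨(G.mapHomotopyCategoryFactors (ComplexShape.up ℤ)).symm⟩
  (Groth.Agent.LD.DAdj.mapHCAdj adj (ComplexShape.up ℤ)).localization
    (HomotopyCategory.quotient A (ComplexShape.up ℤ))
    (HomologicalComplex.homotopyEquivalences A (ComplexShape.up ℤ))
    (HomotopyCategory.quotient B (ComplexShape.up ℤ))
    (HomologicalComplex.homotopyEquivalences B (ComplexShape.up ℤ)) _ _

end AdjH

section Der

variable {A B : Type*} [Category A] [Category B] [Abelian A] [Abelian B]
  [HasDerivedCategory A] [HasDerivedCategory B]
  {F : A ⥤ B} {G : B ⥤ A} (adj : F ⊣ G) [F.Additive] [G.Additive]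
  {Pc : CochainComplex A ℤ → Prop} (h : Adm Pc) (hres : HasResCx Pc)
  (hF : ∀ E : CochainComplex A ℤ, Pc E → E.Acyclic →
      ((F.mapHomologicalComplex (ComplexShape.up ℤ)).obj E).Acyclic)
  [KInjDS.HasKInjRes B]
  (LF : DerivedCategory A ⥤ DerivedCategory B) (α : DerivedCategory.Qh ⋙ LF ⟶ Gh F)
  [LF.IsLeftDerivedFunctor α (HomotopyCategory.quasiIso A (ComplexShape.up ℤ))]
  (RG : DerivedCategory B ⥤ DerivedCategory A) (β : Gh G ⟶ DerivedCategory.Qh ⋙ RG)
  [RG.IsRightDerivedFunctor β (HomotopyCategory.quasiIso B (ComplexShape.up ℤ))]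

include h hres hF in
/-- the right derived functor computed by K-injective resolutions is absolute. -/
theorem isRightDerivedFunctor_comp {H' : Type*} [Category H'] (T : DerivedCategory A ⥤ H') :
    (RG ⋙ T).IsRightDerivedFunctor
      (Functor.whiskerRight β T ≫ (Functor.associator _ _ _).hom)
      (HomotopyCategory.quasiIso B (ComplexShape.up ℤ)) := by
  refine KInjDS.isRightDerivedFunctor_of_isIso (Gh G ⋙ T) DerivedCategory.Qh _ (fun I hI => ?_)
  haveI := hI
  haveI := KInjDS.isIso_app_of_isKInjective (Gh G) DerivedCategory.Qh β I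
  simp only [NatTrans.comp_app, Functor.associator_hom_app, Functor.whiskerRight_app,
    Category.comp_id]
  infer_instance

/-- the derived adjunction `LF ⊣ RG`. -/
noncomputable def derivedAdj : LF ⊣ RG :=
  haveI := isLeftDerivedFunctor_comp h hres F hF DerivedCategory.Qh LF α RG
  haveI := isRightDerivedFunctor_comp (G := G) h hres hF RG β LF
  (adjH adj).derived (HomotopyCategory.quasiIso A (ComplexShape.up ℤ))
    (HomotopyCategory.quasiIso B (ComplexShape.up ℤ)) α β

end Der

end Groth.Agent.Helper7.LR1
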