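import Groth.Agent.Lib.Helper7.LR6
import Groth.Agent.Lib.Helper6.DerAdj1
import Groth.Agent.Lib.Helper6.DProdG

/-!
# Detecting zero objects and isomorphisms of `D(O_X)` on an open cover; the unit of
`j^* ⊣ Rj_*` on `RΓ_Z̄`
-/

set_option autoImplicit false
universe u

open CategoryTheory CategoryTheory.Limits AlgebraicGeometry Pretriangulated
attribute [local instance] HasDerivedCategory.standard

namespace Groth.Agent.Helper7.LR12

open Groth.Agent.H4 Groth.Agent.H6 DerivedCategory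

variable {X : Scheme.{u}}

/-- vanishing of the restriction along an arbitrary open immersion -/
theorem isZero_restrictD_iff {U : Scheme.{u}} (j : U ⟶ X) [IsOpenImmersion j] (E : DCoh.D X) :
    IsZero ((DCoh.restrictD j).obj E) ↔
      ∀ i : ℤ, Disjoint (CohB1.support (DCoh.HD E i)) (Set.range j.base) := by
  constructor
  · intro h i
    rw [Set.disjoint_left]
    rintro _ hx ⟨y, rfl⟩
    apply hx
    have h1 : IsZero ((DerivedCategory.homologyFunctor _ i).obj ((DCoh.restrictD j).obj E)) :=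
      Functor.map_isZero _ h
    have h2 : IsZero ((Scheme.Modules.restrictFunctor j).obj (DCoh.HD E i)) :=
      IsZero.of_iso h1 (Groth.Agent.H7.DRec.homologyMapDerivedIso
        (Scheme.Modules.restrictFunctor j) E i).symm
    have h3 := (Groth.Agent.LD.QC.isZero_iff_subsingleton_stalks _).1 h2 y
    exact (Groth.Agent.LD.QC.subsingleton_stalk_restrict_iff j (DCoh.HD E i) y).1 h3
  · intro h
    apply Groth.Agent.H7.DRec.isZero_of_forall_isZero_homology
    intro n
    refine IsZero.of_iso ?_ (Groth.Agent.H7.DRec.homologyMapDerivedIso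
        (Scheme.Modules.restrictFunctor j) E n)
    rw [Groth.Agent.LD.QC.isZero_iff_subsingleton_stalks]
    intro y
    refine (Groth.Agent.LD.QC.subsingleton_stalk_restrict_iff j (DCoh.HD E n) y).2 ?_
    by_contra hne
    exact Set.disjoint_left.1 (h n) hne ⟨y, rfl⟩

/-- an object vanishing on both members of an open cover vanishes -/
theorem isZero_of_cover {U₁ U₂ : Scheme.{u}} (j₁ : U₁ ⟶ X) (j₂ : U₂ ⟶ X) [IsOpenImmersion j₁]
    [IsOpenImmersion j₂] (hcov : Set.range j₁.base ∪ Set.range j₂.base = Set.univ)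
    (E : DCoh.D X) (h1 : IsZero ((DCoh.restrictD j₁).obj E))
    (h2 : IsZero ((DCoh.restrictD j₂).obj E)) : IsZero E := by
  apply Groth.Agent.H7.DRec.isZero_of_forall_isZero_homology
  intro n
  apply Groth.Agent.LD.QC.isZero_of_support_eq_empty
  rw [Set.eq_empty_iff_forall_notMem]
  intro x hx
  have hx' : x ∈ Set.range j₁.base ∪ Set.range j₂.base := by rw [hcov]; trivial
  rcases hx' with hx' | hx'
  · exact Set.disjoint_left.1 ((isZero_restrictD_iff j₁ E).1 h1 n) hx hx'
  · exact Set.disjoint_left.1 ((isZero_restrictD_iff j₂ E).1 h2 n) hx hx'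

/-- a morphism which is an isomorphism on both members of an open cover is an isomorphism -/
theorem isIso_of_cover {U₁ U₂ : Scheme.{u}} (j₁ : U₁ ⟶ X) (j₂ : U₂ ⟶ X) [IsOpenImmersion j₁]
    [IsOpenImmersion j₂] (hcov : Set.range j₁.base ∪ Set.range j₂.base = Set.univ)
    {E E' : DCoh.D X} (ψ : E ⟶ E') (h1 : IsIso ((DCoh.restrictD j₁).map ψ))
    (h2 : IsIso ((DCoh.restrictD j₂).map ψ)) : IsIso ψ := by
  obtain ⟨C, g, h, hT⟩ := distinguished_cocone_triangle ψ
  have key : ∀ {U : Scheme.{u}} (j : U ⟶ X) [IsOpenImmersion j],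
      IsIso ((DCoh.restrictD j).map ψ) → IsZero ((DCoh.restrictD j).obj C) := by
    intro U j _ hj
    have hT' := (DCoh.restrictD j).map_distinguished _ hT
    exact (Triangle.isZero₃_iff_isIso₁ _ hT').2 hj
  have hC := isZero_of_cover j₁ j₂ hcov C (key j₁ h1) (key j₂ h2)
  exact (Triangle.isZero₃_iff_isIso₁ _ hT).1 hC


lemma isZero_Q_obj_of_forall_isZero (E : CochainComplex X.Modules ℤ) (h : ∀ i, IsZero (E.X i)) :
    IsZero (Q.obj E) := by
  apply Q.map_isZero
  rw [IsZero.iff_id_eq_zero]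
  apply HomologicalComplex.hom_ext
  intro i
  exact (h i).eq_of_src _ _

/-- `Γ_Z(M)|_W = 0` -/
lemma isZero_restrict_gammaZ (W : X.Opens) (M : X.Modules) :
    IsZero ((Scheme.Modules.restrictFunctor W.ι).obj ((DCoh.gammaZ W.ι).obj M)) := by
  haveI hiso : IsIso ((Scheme.Modules.restrictFunctor W.ι).map
      ((Scheme.Modules.restrictAdjunction W.ι).unit.app M)) := by
    have h := (Scheme.Modules.restrictAdjunction W.ι).left_triangle_components M
    haveI : IsIso ((Scheme.Modules.restrictAdjunction W.ι).counit.app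
        ((Scheme.Modules.restrictFunctor W.ι).obj M)) := inferInstance
    exact IsIso.of_isIso_fac_right h
  exact IsZero.of_iso (isZero_kernel_of_mono _)
    (PreservesKernel.iso (Scheme.Modules.restrictFunctor W.ι)
      ((Scheme.Modules.restrictAdjunction W.ι).unit.app M))

/-- `RΓ_Z(G)` vanishes on the open complement of `Z` -/
theorem isZero_restrictD_rgammaZ (W : X.Opens) [CxOX.HasRgammaZ W.ι] (G : DCoh.D X) :
    IsZero ((DCoh.restrictD W.ι).obj ((CxOX.RgammaZ W.ι).obj G)) := by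
  haveI : IsGrothendieckAbelian.{u} X.Modules :=
    Groth.Agent.LD.QCGroth.isGrothendieckAbelian_modules X
  obtain ⟨I, hI, -, ⟨e⟩⟩ := DProdG.exists_kInjective_iso G
  haveI := hI
  haveI := KInjDS.isIso_app_of_isKInjective (CxOX.gammaZKh W.ι) Qh
    ((CxOX.gammaZKh W.ι).totalRightDerivedUnit Qh
      (HomotopyCategory.quasiIso X.Modules (ComplexShape.up ℤ))) I
  have e1 : (CxOX.RgammaZ W.ι).obj G ≅
      Q.obj (((DCoh.gammaZ W.ι).mapHomologicalComplex (ComplexShape.up ℤ)).obj I) :=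
    (CxOX.RgammaZ W.ι).mapIso (e.symm ≪≫ ((quotientCompQhIso X.Modules).app I).symm) ≪≫
      (asIso (((CxOX.gammaZKh W.ι).totalRightDerivedUnit Qh
        (HomotopyCategory.quasiIso X.Modules (ComplexShape.up ℤ))).app
          ((HomotopyCategory.quotient X.Modules (ComplexShape.up ℤ)).obj I))).symm ≪≫
      Qh.mapIso (((DCoh.gammaZ W.ι).mapHomotopyCategoryFactors (ComplexShape.up ℤ)).app I) ≪≫
      (quotientCompQhIso X.Modules).app _
  have e2 : (DCoh.restrictD W.ι).obj ((CxOX.RgammaZ W.ι).obj G) ≅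
      Q.obj (((Scheme.Modules.restrictFunctor W.ι).mapHomologicalComplex (ComplexShape.up ℤ)).obj
        (((DCoh.gammaZ W.ι).mapHomologicalComplex (ComplexShape.up ℤ)).obj I)) :=
    (DCoh.restrictD W.ι).mapIso e1 ≪≫
      (Scheme.Modules.restrictFunctor W.ι).mapDerivedCategoryFactors.app _
  exact IsZero.of_iso (isZero_Q_obj_of_forall_isZero _
    (fun i => isZero_restrict_gammaZ W (I.X i))) e2

/-- **S14368** -/
theorem isIso_unit_rgammaZ {Xbar : Scheme.{u}} (j : X ⟶ Xbar) [IsOpenImmersion j]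
    (W : Xbar.Opens) (hW : (W : Set Xbar)ᶜ ⊆ Set.range j.base) [DCoh.HasRpush j]
    [CxOX.HasRgammaZ W.ι] (adj : DCoh.restrictD j ⊣ DCoh.Rpush j) (G : DCoh.D Xbar) :
    IsIso (adj.unit.app ((CxOX.RgammaZ W.ι).obj G)) := by
  have hff := DerAdj.main_of_isIso_counit (Scheme.Modules.restrictAdjunction j)
    (fun M => inferInstance)
  haveI : (DCoh.Rpush j).Full := hff.2.1
  haveI : (DCoh.Rpush j).Faithful := hff.2.2.1
  have h1 : IsIso ((DCoh.restrictD j).map (adj.unit.app ((CxOX.RgammaZ W.ι).obj G))) := by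
    have h := adj.left_triangle_components ((CxOX.RgammaZ W.ι).obj G)
    haveI : IsIso (adj.counit.app ((DCoh.restrictD j).obj ((CxOX.RgammaZ W.ι).obj G))) :=
      inferInstance
    rw [IsIso.eq_inv_of_inv_hom_id h]
    infer_instance
  have hs := isZero_restrictD_rgammaZ W G
  haveI : DCoh.HasRpush (j ∣_ W) := LR4.hasRpush _
  obtain ⟨e3⟩ := RpRes.main j W
  have hF : IsZero ((DCoh.restrictD (j ⁻¹ᵁ W).ι).obj
      ((DCoh.restrictD j).obj ((CxOX.RgammaZ W.ι).obj G))) := by
    rw [LR6.isZero_restrictD_iff]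
    intro i
    rw [Set.disjoint_left]
    intro y hy hyW
    rw [Groth.Agent.LD.QC.support_eq_of_iso (Groth.Agent.H7.DRec.homologyMapDerivedIso
      (Scheme.Modules.restrictFunctor j) ((CxOX.RgammaZ W.ι).obj G) i)] at hy
    have hy' := (Groth.Agent.LD.QC.mem_support_restrict_iff j _ y).1 hy
    exact Set.disjoint_left.1 ((isZero_restrictD_iff W.ι _).1 hs i) hy' ⟨⟨j.base y, hyW⟩, rfl⟩
  have ht : IsZero ((DCoh.restrictD W.ι).obj
      ((DCoh.Rpush j).obj ((DCoh.restrictD j).obj ((CxOX.RgammaZ W.ι).obj G)))) :=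
    IsZero.of_iso (LR6.isZero_rpush (j ∣_ W) _ hF) (e3.app _)
  have h2 : IsIso ((DCoh.restrictD W.ι).map (adj.unit.app ((CxOX.RgammaZ W.ι).obj G))) :=
    ⟨⟨0, hs.eq_of_src _ _, ht.eq_of_src _ _⟩⟩
  refine isIso_of_cover j W.ι ?_ _ h1 h2
  ext x
  simp only [Set.mem_union, Set.mem_univ, iff_true]
  by_cases hx : x ∈ W
  · exact Or.inr ⟨⟨x, hx⟩, rfl⟩
  · exact Or.inl (hW hx)

end Groth.Agent.Helper7.LR12
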