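import Groth.Agent.Lib.Helper7.LR12
import Groth.Agent.Lib.Helper6.RFTri1
import Groth.Agent.Lib.Lead.QCQS.Flasque
import Groth.Agent.Lib.Lead.QC.SubExtRestrict
import Groth.Agent.Lib.Helper7.KInj

/-!
# `RΓ_Z`, restriction and `Rj_*`: objects killed by `RΓ_Z` and by restriction vanish
-/

set_option autoImplicit false
universe u

open CategoryTheory CategoryTheory.Limits AlgebraicGeometry Pretriangulated
attribute [local instance] HasDerivedCategory.standard

namespace Groth.Agent.Helper7.LR13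

open Groth.Agent.H4 Groth.Agent.H6 DerivedCategory Groth.Agent.H6.MVTri Groth.Agent.H6.KI
  Groth.Agent.H6.RFTri

section Generic

variable {B : Type*} [Category B] [Abelian B] [HasDerivedCategory B] [KInjDS.HasKInjRes B]
  {𝒞 : Type*} [Category 𝒞] [Abelian 𝒞] [HasDerivedCategory 𝒞]
  (F : B ⥤ 𝒞) [F.Additive]
  [(F.mapHomotopyCategory (ComplexShape.up ℤ) ⋙ Qh).HasRightDerivedFunctor
    (HomotopyCategory.quasiIso B (ComplexShape.up ℤ))]

/-- a total right derived functor killing two vertices of a distinguished triangle kills the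
third. -/
theorem isZero_RF_obj₃ (T : Triangle (DerivedCategory B)) (hT : T ∈ distTriang _)
    (h₁ : IsZero ((RF F).obj T.obj₁)) (h₂ : IsZero ((RF F).obj T.obj₂)) :
    IsZero ((RF F).obj T.obj₃) := by
  obtain ⟨I, hI, ⟨e₁⟩⟩ := exists_kinj T.obj₁
  obtain ⟨J, hJ, ⟨e₂⟩⟩ := exists_kinj T.obj₂
  obtain ⟨g, hg⟩ := exists_Q_map_eq_of_isKInjective I J (e₁.inv ≫ T.mor₁ ≫ e₂.hom)
  let T' := Q.mapTriangle.obj (CochainComplex.mappingCone.triangle g)
  have hT' : T' ∈ distTriang _ := by
    rw [mem_distTriang_iff]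
    exact ⟨_, _, g, ⟨Iso.refl _⟩⟩
  have e := isoTriangleOfIso₁₂ T T' hT hT' e₁ e₂ (by
    change T.mor₁ ≫ e₂.hom = e₁.hom ≫ Q.map g
    rw [hg, Iso.hom_inv_id_assoc])
  have e₃ : T.obj₃ ≅ Q.obj (CochainComplex.mappingCone g) := Triangle.π₃.mapIso e
  haveI : (CochainComplex.mappingCone g).IsKInjective := RlimDer.isKInjective_mappingCone g
  obtain ⟨i₁⟩ := nonempty_iso_RF F I
  obtain ⟨i₂⟩ := nonempty_iso_RF F J
  obtain ⟨i₃⟩ := nonempty_iso_RF F (CochainComplex.mappingCone g)
  have z₁ : IsZero (Q.obj ((F.mapHomologicalComplex (ComplexShape.up ℤ)).obj I)) :=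
    (h₁.of_iso ((RF F).mapIso e₁.symm)).of_iso i₁
  have z₂ : IsZero (Q.obj ((F.mapHomologicalComplex (ComplexShape.up ℤ)).obj J)) :=
    (h₂.of_iso ((RF F).mapIso e₂.symm)).of_iso i₂
  let Fg := (F.mapHomologicalComplex (ComplexShape.up ℤ)).map g
  let T'' := Q.mapTriangle.obj (CochainComplex.mappingCone.triangle Fg)
  have hT'' : T'' ∈ distTriang _ := by
    rw [mem_distTriang_iff]
    exact ⟨_, _, Fg, ⟨Iso.refl _⟩⟩
  have z₃ : IsZero (Q.obj (CochainComplex.mappingCone Fg)) :=
    Triangle.isZero₃_of_isZero₁₂ T'' hT'' z₁ z₂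
  have z₃' : IsZero (Q.obj ((F.mapHomologicalComplex (ComplexShape.up ℤ)).obj
      (CochainComplex.mappingCone g))) :=
    z₃.of_iso (Q.mapIso (CochainComplex.mappingCone.mapHomologicalComplexIso g F))
  exact (z₃'.of_iso i₃.symm).of_iso ((RF F).mapIso e₃)

end Generic

variable {X : Scheme.{u}}

/-- a complex `K` with `Q K = 0` is acyclic -/
lemma acyclic_of_isZero_Q {A : Type*} [Category A] [Abelian A] [HasDerivedCategory A]
    (K : CochainComplex A ℤ) (h : IsZero (Q.obj K)) : K.Acyclic := by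
  intro n
  rw [HomologicalComplex.exactAt_iff_isZero_homology]
  exact ((homologyFunctor A n).map_isZero h).of_iso ((homologyFunctorFactors A n).app K).symm

/-- an additive functor sends a K-injective acyclic complex to a complex which vanishes in the
derived category -/
lemma isZero_Q_map_of_acyclic_kInjective {A A' : Type*} [Category A] [Abelian A]
    [HasDerivedCategory A] [Category A'] [Abelian A'] [HasDerivedCategory A']
    (G : A ⥤ A') [G.Additive] (K : CochainComplex A ℤ) [K.IsKInjective] (hK : K.Acyclic) :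
    IsZero (Q.obj ((G.mapHomologicalComplex (ComplexShape.up ℤ)).obj K)) := by
  have H : Homotopy (𝟙 K) 0 := CochainComplex.IsKInjective.homotopyZero (𝟙 K) hK
  have H' := G.mapHomotopy H
  rw [IsZero.iff_id_eq_zero]
  have h1 : Q.map ((G.mapHomologicalComplex (ComplexShape.up ℤ)).map (𝟙 K)) =
      Q.map ((G.mapHomologicalComplex (ComplexShape.up ℤ)).map 0) :=
    DerivedCategory.Q_map_eq_of_homotopy A' H'
  rw [CategoryTheory.Functor.map_id, CategoryTheory.Functor.map_id, Functor.map_zero,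
    Functor.map_zero] at h1
  exact h1

/-- **(2a)** an object killed by `RΓ_Z` and by restriction to the open complement vanishes -/
theorem isZero_of_rgammaZ_of_restrict (U : X.Opens) [CxOX.HasRgammaZ U.ι] (E : DCoh.D X)
    (h1 : IsZero ((CxOX.RgammaZ U.ι).obj E)) (h2 : IsZero ((DCoh.restrictD U.ι).obj E)) :
    IsZero E := by
  obtain ⟨I, hI, hinj, ⟨e⟩⟩ := MVTri.hres X E
  haveI := hI
  let S : ShortComplex (CochainComplex X.Modules ℤ) :=
    ShortComplex.mk
      ((NatTrans.mapHomologicalComplex (CxOX.gammaZι U.ι) (ComplexShape.up ℤ)).app I)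
      ((NatTrans.mapHomologicalComplex (Scheme.Modules.restrictAdjunction U.ι).unit
        (ComplexShape.up ℤ)).app I)
      (by
        apply HomologicalComplex.hom_ext
        intro i
        exact kernel.condition ((Scheme.Modules.restrictAdjunction U.ι).unit.app (I.X i)))
  have hS : S.ShortExact := by
    refine HomologicalComplex.shortExact_of_degreewise_shortExact S (fun i => ?_)
    haveI := hinj i
    obtain ⟨k, hk⟩ := Groth.Agent.LD.QCQS.exists_retraction U (I.X i)
    refine ShortComplex.ShortExact.mk' ?_ ?_ ?_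
    · exact ShortComplex.exact_of_f_is_kernel _
        (kernelIsKernel ((Scheme.Modules.restrictAdjunction U.ι).unit.app (I.X i)))
    · change Mono (kernel.ι ((Scheme.Modules.restrictAdjunction U.ι).unit.app (I.X i)))
      infer_instance
    · change Epi ((Scheme.Modules.restrictAdjunction U.ι).unit.app (I.X i))
      exact epi_of_epi_fac hk
  have hT := DerivedCategory.triangleOfSES_distinguished hS
  obtain ⟨i₁⟩ := nonempty_iso_RF (DCoh.gammaZ U.ι) I
  have z₁ : IsZero (DerivedCategory.triangleOfSES hS).obj₁ :=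
    (h1.of_iso ((CxOX.RgammaZ U.ι).mapIso e.symm)).of_iso i₁
  have hres : IsZero (Q.obj (((Scheme.Modules.restrictFunctor U.ι).mapHomologicalComplex
      (ComplexShape.up ℤ)).obj I)) :=
    (h2.of_iso ((DCoh.restrictD U.ι).mapIso e.symm)).of_iso
      ((Scheme.Modules.restrictFunctor U.ι).mapDerivedCategoryFactors.app I).symm
  haveI := RpRes.isKInjective_restrict U.ι I
  have z₃' := isZero_Q_map_of_acyclic_kInjective (Scheme.Modules.pushforward U.ι) _
    (acyclic_of_isZero_Q _ hres)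
  have z₃ : IsZero (DerivedCategory.triangleOfSES hS).obj₃ :=
    z₃'.of_iso (Q.mapIso ((Functor.mapHomologicalComplexCompIso
      (Iso.refl (Scheme.Modules.restrictFunctor U.ι ⋙ Scheme.Modules.pushforward U.ι))
      (ComplexShape.up ℤ)).app I).symm)
  have z₂ : IsZero (DerivedCategory.triangleOfSES hS).obj₂ :=
    Triangle.isZero₂_of_isZero₁₃ _ hT z₁ z₃
  exact (z₂.of_iso (Q.mapIso ((Functor.mapHomologicalComplexIdIso X.Modules
    (ComplexShape.up ℤ)).app I)).symm).of_iso e

variable {Xbar : Scheme.{u}}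

/-- the unit `j_*M ⟶ t_*t^*j_*M` is a monomorphism when `j` factors through the open `T` -/
lemma mono_unit_push (j : X ⟶ Xbar) [IsOpenImmersion j] (T : Xbar.Opens)
    (hjT : Set.range j.base ⊆ (T : Set Xbar)) (M : X.Modules) :
    Mono ((Scheme.Modules.restrictAdjunction T.ι).unit.app
      ((Scheme.Modules.pushforward j).obj M)) := by
  let jT : X ⟶ T.toScheme := IsOpenImmersion.lift T.ι j (by
    rw [Scheme.Opens.range_ι]; exact hjT)
  have hfac : jT ≫ T.ι = j := IsOpenImmersion.lift_fac _ _ _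
  let N := (Scheme.Modules.pushforward jT).obj M
  let e : (Scheme.Modules.pushforward j).obj M ≅ (Scheme.Modules.pushforward T.ι).obj N :=
    ((Scheme.Modules.pushforwardCongr hfac).symm.app M) ≪≫
      ((Scheme.Modules.pushforwardComp jT T.ι).symm.app M)
  haveI : Mono ((Scheme.Modules.restrictAdjunction T.ι).unit.app
      ((Scheme.Modules.pushforward T.ι).obj N)) :=
    mono_of_mono_fac ((Scheme.Modules.restrictAdjunction T.ι).right_triangle_components N)
  have nat := (Scheme.Modules.restrictAdjunction T.ι).unit.naturality e.hom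
  haveI : Mono ((Scheme.Modules.restrictAdjunction T.ι).unit.app
      ((Scheme.Modules.pushforward j).obj M) ≫
      (Scheme.Modules.restrictFunctor T.ι ⋙ Scheme.Modules.pushforward T.ι).map e.hom) := by
    rw [← nat]
    exact mono_comp _ _
  exact mono_of_mono _
    ((Scheme.Modules.restrictFunctor T.ι ⋙ Scheme.Modules.pushforward T.ι).map e.hom)

/-- **(2b)** `Γ_{T^c}(j_*M) = 0` when `j` factors through `T` -/
lemma isZero_gammaZ_push (j : X ⟶ Xbar) [IsOpenImmersion j] (T : Xbar.Opens)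
    (hjT : Set.range j.base ⊆ (T : Set Xbar)) (M : X.Modules) :
    IsZero ((DCoh.gammaZ T.ι).obj ((Scheme.Modules.pushforward j).obj M)) := by
  haveI := mono_unit_push j T hjT M
  exact isZero_kernel_of_mono ((Scheme.Modules.restrictAdjunction T.ι).unit.app
      ((Scheme.Modules.pushforward j).obj M))

/-- **(2c)** `RΓ_{T^c}(Rj_*F) = 0` when `j` factors through `T` -/
theorem isZero_rgammaZ_rpush (j : X ⟶ Xbar) [IsOpenImmersion j] (T : Xbar.Opens)
    (hjT : Set.range j.base ⊆ (T : Set Xbar)) [DCoh.HasRpush j] [CxOX.HasRgammaZ T.ι]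
    (F : DCoh.D X) : IsZero ((CxOX.RgammaZ T.ι).obj ((DCoh.Rpush j).obj F)) := by
  obtain ⟨I, hI, ⟨e⟩⟩ := exists_kinj F
  haveI := hI
  obtain ⟨i₁⟩ := nonempty_iso_RF (Scheme.Modules.pushforward j) I
  haveI : CochainComplex.IsKInjective
      (((Scheme.Modules.pushforward j).mapHomologicalComplex (ComplexShape.up ℤ)).obj I) :=
    Groth.Agent.H7.KInj.isKInjective_map (Scheme.Modules.restrictAdjunction j) I
  obtain ⟨i₂⟩ := nonempty_iso_RF (DCoh.gammaZ T.ι)
    (((Scheme.Modules.pushforward j).mapHomologicalComplex (ComplexShape.up ℤ)).obj I)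
  have z : IsZero (Q.obj (((DCoh.gammaZ T.ι).mapHomologicalComplex (ComplexShape.up ℤ)).obj
      (((Scheme.Modules.pushforward j).mapHomologicalComplex (ComplexShape.up ℤ)).obj I))) :=
    LR12.isZero_Q_obj_of_forall_isZero _ (fun i => isZero_gammaZ_push j T hjT (I.X i))
  exact (z.of_iso i₂.symm).of_iso
    ((CxOX.RgammaZ T.ι).mapIso ((DCoh.Rpush j).mapIso e ≪≫ i₁.symm))

/-- support condition in terms of the vanishing of the restriction -/
lemma isSuppD_iff {U : Scheme.{u}} (j : U ⟶ X) [IsOpenImmersion j] (K : DCoh.D X) :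
    CxOX.IsSuppD j K ↔ IsZero ((DCoh.restrictD j).obj K) := by
  rw [LR12.isZero_restrictD_iff]
  exact forall_congr' (fun i => Set.subset_compl_iff_disjoint_right)

/-- **(A1)** -/
theorem isSuppD_rpush (j : X ⟶ Xbar) [IsOpenImmersion j] [DCoh.HasRpush j]
    (U : X.Opens) (U' : Xbar.Opens) (hU'U : ((j ⁻¹ᵁ U' : X.Opens) : Set X) ⊆ U)
    (F : DCoh.D X) (hF : CxOX.IsSuppD U.ι F) : CxOX.IsSuppD U'.ι ((DCoh.Rpush j).obj F) := by
  rw [isSuppD_iff]
  haveI : DCoh.HasRpush (j ∣_ U') := LR4.hasRpush _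
  obtain ⟨e⟩ := RpRes.main j U'
  have hz : IsZero ((DCoh.restrictD (j ⁻¹ᵁ U').ι).obj F) := by
    rw [LR6.isZero_restrictD_iff]
    intro n
    rw [Set.disjoint_left]
    intro x hx hxV
    apply hF n hx
    rw [Scheme.Opens.range_ι]
    exact hU'U hxV
  exact IsZero.of_iso (LR6.isZero_rpush (j ∣_ U') _ hz) (e.app F)

/-- **(C1)** -/
theorem isIso_unit_of_supp (j : X ⟶ Xbar) [IsOpenImmersion j]
    (U : X.Opens) (U' T : Xbar.Opens)
    (hU'U : ((j ⁻¹ᵁ U' : X.Opens) : Set X) ⊆ U)
    (hT : (T : Set Xbar) = (U' : Set Xbar) ∪ Set.range j.base)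
    [DCoh.HasRpush j] [CxOX.HasRgammaZ T.ι] (adj : DCoh.restrictD j ⊣ DCoh.Rpush j)
    (G : DCoh.D Xbar) (hG : CxOX.IsSuppD U'.ι G) (hRG : IsZero ((CxOX.RgammaZ T.ι).obj G))
    (hS : CxOX.IsSuppD U.ι ((DCoh.restrictD j).obj G)) :
    IsIso (adj.unit.app G) := by
  have hff := DerAdj.main_of_isIso_counit (Scheme.Modules.restrictAdjunction j)
    (fun M => inferInstance)
  haveI : (DCoh.Rpush j).Full := hff.2.1
  haveI : (DCoh.Rpush j).Faithful := hff.2.2.1
  obtain ⟨C, g, h, hT'⟩ := distinguished_cocone_triangle (adj.unit.app G)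
  have h1 : IsIso ((DCoh.restrictD j).map (adj.unit.app G)) := by
    have h := adj.left_triangle_components G
    haveI : IsIso (adj.counit.app ((DCoh.restrictD j).obj G)) := inferInstance
    rw [IsIso.eq_inv_of_inv_hom_id h]
    infer_instance
  have c1 : IsZero ((DCoh.restrictD j).obj C) :=
    (Triangle.isZero₃_iff_isIso₁ _ ((DCoh.restrictD j).map_distinguished _ hT')).2 h1
  have c2 : IsZero ((DCoh.restrictD U'.ι).obj C) :=
    Triangle.isZero₃_of_isZero₁₂ _ ((DCoh.restrictD U'.ι).map_distinguished _ hT')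
      ((isSuppD_iff U'.ι G).1 hG)
      ((isSuppD_iff U'.ι _).1 (isSuppD_rpush j U U' hU'U _ hS))
  have c3 : IsZero ((DCoh.restrictD T.ι).obj C) := by
    rw [LR6.isZero_restrictD_iff]
    intro i
    rw [hT, Set.disjoint_union_right]
    refine ⟨?_, (LR12.isZero_restrictD_iff j C).1 c1 i⟩
    have := (LR12.isZero_restrictD_iff U'.ι C).1 c2 i
    rwa [Scheme.Opens.range_ι] at this
  have c4 : IsZero ((CxOX.RgammaZ T.ι).obj C) :=
    isZero_RF_obj₃ (DCoh.gammaZ T.ι) _ hT' hRG
      (isZero_rgammaZ_rpush j T (by rw [hT]; exact Set.subset_union_right) _)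
  exact (Triangle.isZero₃_iff_isIso₁ _ hT').1 (isZero_of_rgammaZ_of_restrict T C c4 c3)

/-- **S14366** -/
theorem s14366 (j : X ⟶ Xbar) [IsOpenImmersion j] (U : X.Opens) (U' T : Xbar.Opens)
    (hU' : (U' : Set Xbar) = (closure (j.base '' ((U : Set X)ᶜ)))ᶜ)
    (hT : (T : Set Xbar) = (U' : Set Xbar) ∪ Set.range j.base)
    [DCoh.HasRpush j] [CxOX.HasRgammaZ T.ι]
    (adj : DCoh.restrictD j ⊣ DCoh.Rpush j) :
    (∀ F : DCoh.D X, DCoh.IsQCohD F → CxOX.IsSuppD U.ι F →
        CxOX.IsSuppD U'.ι ((DCoh.Rpush j).obj F) ∧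
          IsZero ((CxOX.RgammaZ T.ι).obj ((DCoh.Rpush j).obj F))) ∧
    (∀ F : DCoh.D X, IsIso (adj.counit.app F)) ∧
    (∀ G : DCoh.D Xbar, DCoh.IsQCohD G → CxOX.IsSuppD U'.ι G →
        IsZero ((CxOX.RgammaZ T.ι).obj G) →
        IsIso (adj.unit.app G) ∧ DCoh.IsQCohD ((DCoh.restrictD j).obj G) ∧
          CxOX.IsSuppD U.ι ((DCoh.restrictD j).obj G)) := by
  have hU'U : ((j ⁻¹ᵁ U' : X.Opens) : Set X) ⊆ U := by
    intro x hx
    by_contra hxU
    have hx' : j.base x ∈ (U' : Set Xbar) := hx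
    rw [hU'] at hx'
    exact hx' (subset_closure ⟨x, hxU, rfl⟩)
  have hcl : ∀ x : X, x ∈ (U : Set X) → j.base x ∉ closure (j.base '' ((U : Set X)ᶜ)) := by
    intro x hxU hcl
    have hopen : IsOpen (j.base '' (U : Set X)) := j.isOpenEmbedding.isOpenMap _ U.2
    obtain ⟨y, hy1, hy2⟩ := mem_closure_iff.1 hcl _ hopen ⟨x, hxU, rfl⟩
    obtain ⟨a, ha, rfl⟩ := hy1
    obtain ⟨b, hb, hab⟩ := hy2
    have hba : b = a := j.isOpenEmbedding.injective hab
    exact hb (hba ▸ ha)
  have hjT : Set.range j.base ⊆ (T : Set Xbar) := by rw [hT]; exact Set.subset_union_right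
  refine ⟨fun F _ hF => ⟨isSuppD_rpush j U U' hU'U F hF, isZero_rgammaZ_rpush j T hjT F⟩, ?_, ?_⟩
  · have hff := DerAdj.main_of_isIso_counit (Scheme.Modules.restrictAdjunction j)
      (fun M => inferInstance)
    haveI : (DCoh.Rpush j).Full := hff.2.1
    haveI : (DCoh.Rpush j).Faithful := hff.2.2.1
    intro F
    infer_instance
  · intro G hGq hG hRG
    have hS : CxOX.IsSuppD U.ι ((DCoh.restrictD j).obj G) := by
      intro i x hx hxU
      rw [Scheme.Opens.range_ι] at hxU
      rw [Groth.Agent.LD.QC.support_eq_of_iso (Groth.Agent.H7.DRec.homologyMapDerivedIso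
        (Scheme.Modules.restrictFunctor j) G i)] at hx
      have hx' := (Groth.Agent.LD.QC.mem_support_restrict_iff j _ x).1 hx
      have hx'' := hG i hx'
      rw [Scheme.Opens.range_ι, hU', compl_compl] at hx''
      exact hcl x hxU hx''
    refine ⟨isIso_unit_of_supp j U U' T hU'U hT adj G hG hRG hS, ?_, hS⟩
    intro i
    haveI : (DCoh.HD G i).IsQuasicoherent := hGq i
    exact Groth.Agent.LD.QC.qc_of_iso (Groth.Agent.H7.DRec.homologyMapDerivedIso
      (Scheme.Modules.restrictFunctor j) G i).symm (Groth.Agent.LD.QC.qc_restrict j (DCoh.HD G i))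

end Groth.Agent.Helper7.LR13
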