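import Groth.Agent.Lib.Helper7.LR13

/-!
# `Rf_* RΓ_{f⁻¹Z} ≅ RΓ_Z Rf_*`
-/

set_option autoImplicit false
universe u

open CategoryTheory CategoryTheory.Limits AlgebraicGeometry Pretriangulated
attribute [local instance] HasDerivedCategory.standard

namespace Groth.Agent.Helper7.LR14

open Groth.Agent.H4 Groth.Agent.H6 DerivedCategory Groth.Agent.H6.MVTri Groth.Agent.H6.KI
  Groth.Agent.H6.RFTri

variable {X : Scheme.{u}}

lemma gammaZKhι_app (W : X.Opens) (I : CochainComplex X.Modules ℤ) :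
    (CxOX.gammaZKhι W.ι).app ((HomotopyCategory.quotient _ _).obj I) =
      Qh.map (((DCoh.gammaZ W.ι).mapHomotopyCategoryFactors (ComplexShape.up ℤ)).hom.app I) ≫
        Qh.map ((HomotopyCategory.quotient _ _).map
          ((NatTrans.mapHomologicalComplex (CxOX.gammaZι W.ι) (ComplexShape.up ℤ)).app I)) ≫
        Qh.map ((HomotopyCategory.quotient _ _).map
          ((Functor.mapHomologicalComplexIdIso X.Modules (ComplexShape.up ℤ)).hom.app I)) := by
  refine (Quotient.natTransLift_app _ _ _ _ _).trans ?_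
  simp only [NatTrans.comp_app, Functor.associator_inv_app, Functor.associator_hom_app,
    Functor.whiskerRight_app, Functor.leftUnitor_hom_app, Functor.comp_map, Category.id_comp,
    Functor.map_comp]
  erw [Category.id_comp]

/-- the defining property of `RΓ_Z ⟶ 𝟭` -/
lemma unit_comp_ι (W : X.Opens) [CxOX.HasRgammaZ W.ι] (I : CochainComplex X.Modules ℤ) :
    ((CxOX.gammaZKh W.ι).totalRightDerivedUnit Qh
      (HomotopyCategory.quasiIso X.Modules (ComplexShape.up ℤ))).app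
        ((HomotopyCategory.quotient _ _).obj I) ≫
      (CxOX.RgammaZToId W.ι).app (Qh.obj ((HomotopyCategory.quotient _ _).obj I)) =
    (CxOX.gammaZKhι W.ι).app ((HomotopyCategory.quotient _ _).obj I) := by
  have h := Functor.rightDerived_fac_app (CxOX.RgammaZ W.ι)
    ((CxOX.gammaZKh W.ι).totalRightDerivedUnit Qh
      (HomotopyCategory.quasiIso X.Modules (ComplexShape.up ℤ)))
    (HomotopyCategory.quasiIso X.Modules (ComplexShape.up ℤ)) (𝟭 (DCoh.D X))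
    (CxOX.gammaZKhι W.ι ≫ (Functor.rightUnitor _).inv) ((HomotopyCategory.quotient _ _).obj I)
  rw [NatTrans.comp_app, Functor.rightUnitor_inv_app, Category.comp_id] at h
  exact h

/-- the triangle `Q(Γ_Z I) ⟶ Q(I) ⟶ Q(j_*j^*I) ⟶` for a complex of injectives -/
lemma exists_triangle_ses (W : X.Opens) (I : CochainComplex X.Modules ℤ)
    (hinj : ∀ n, Injective (I.X n)) :
    ∃ δ : Q.obj (((Scheme.Modules.restrictFunctor W.ι ⋙
        Scheme.Modules.pushforward W.ι).mapHomologicalComplex (ComplexShape.up ℤ)).obj I) ⟶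
        (Q.obj (((DCoh.gammaZ W.ι).mapHomologicalComplex (ComplexShape.up ℤ)).obj I))⟦(1 : ℤ)⟧,
      Triangle.mk
        (Q.map ((NatTrans.mapHomologicalComplex (CxOX.gammaZι W.ι) (ComplexShape.up ℤ)).app I))
        (Q.map ((NatTrans.mapHomologicalComplex (Scheme.Modules.restrictAdjunction W.ι).unit
          (ComplexShape.up ℤ)).app I)) δ ∈ distTriang (DCoh.D X) := by
  let S : ShortComplex (CochainComplex X.Modules ℤ) :=
    ShortComplex.mk
      ((NatTrans.mapHomologicalComplex (CxOX.gammaZι W.ι) (ComplexShape.up ℤ)).app I)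
      ((NatTrans.mapHomologicalComplex (Scheme.Modules.restrictAdjunction W.ι).unit
        (ComplexShape.up ℤ)).app I)
      (by
        apply HomologicalComplex.hom_ext
        intro i
        exact kernel.condition ((Scheme.Modules.restrictAdjunction W.ι).unit.app (I.X i)))
  have hS : S.ShortExact := by
    refine HomologicalComplex.shortExact_of_degreewise_shortExact S (fun i => ?_)
    haveI := hinj i
    obtain ⟨k, hk⟩ := Groth.Agent.LD.QCQS.exists_retraction W (I.X i)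
    refine ShortComplex.ShortExact.mk' ?_ ?_ ?_
    · exact ShortComplex.exact_of_f_is_kernel _
        (kernelIsKernel ((Scheme.Modules.restrictAdjunction W.ι).unit.app (I.X i)))
    · change Mono (kernel.ι ((Scheme.Modules.restrictAdjunction W.ι).unit.app (I.X i)))
      infer_instance
    · change Epi ((Scheme.Modules.restrictAdjunction W.ι).unit.app (I.X i))
      exact epi_of_epi_fac hk
  exact ⟨DerivedCategory.triangleOfSESδ hS, DerivedCategory.triangleOfSES_distinguished hS⟩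

/-- the cone of `RΓ_Z M ⟶ M` is of the form `Rj_* N` -/
theorem exists_iso_rpush_of_cone (W : X.Opens) [CxOX.HasRgammaZ W.ι] [DCoh.HasRpush W.ι]
    (M C : DCoh.D X) (g : M ⟶ C) (h : C ⟶ ((CxOX.RgammaZ W.ι).obj M)⟦(1 : ℤ)⟧)
    (hT : Triangle.mk ((CxOX.RgammaZToId W.ι).app M) g h ∈ distTriang (DCoh.D X)) :
    ∃ N : DCoh.D W.toScheme, Nonempty (C ≅ (DCoh.Rpush W.ι).obj N) := by
  obtain ⟨I, hI, hinj, ⟨e⟩⟩ := MVTri.hres X M
  haveI := hI
  obtain ⟨δ, hS⟩ := exists_triangle_ses W I hinj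
  haveI := KInjDS.isIso_app_of_isKInjective (CxOX.gammaZKh W.ι) Qh
    ((CxOX.gammaZKh W.ι).totalRightDerivedUnit Qh
      (HomotopyCategory.quasiIso X.Modules (ComplexShape.up ℤ))) I
  let a : M ⟶ Qh.obj ((HomotopyCategory.quotient X.Modules (ComplexShape.up ℤ)).obj I) :=
    e.hom ≫ (quotientCompQhIso X.Modules).inv.app I
  haveI : IsIso a := by dsimp only [a]; infer_instance
  let un := ((CxOX.gammaZKh W.ι).totalRightDerivedUnit Qh
        (HomotopyCategory.quasiIso X.Modules (ComplexShape.up ℤ))).app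
          ((HomotopyCategory.quotient X.Modules (ComplexShape.up ℤ)).obj I)
  let φ₁ : (CxOX.RgammaZ W.ι).obj M ≅
      Q.obj (((DCoh.gammaZ W.ι).mapHomologicalComplex (ComplexShape.up ℤ)).obj I) :=
    (CxOX.RgammaZ W.ι).mapIso (asIso a) ≪≫ (asIso un).symm ≪≫
      Qh.mapIso (((DCoh.gammaZ W.ι).mapHomotopyCategoryFactors (ComplexShape.up ℤ)).app I) ≪≫
      (quotientCompQhIso X.Modules).app _
  let φ₂ : M ≅ Q.obj (((𝟭 X.Modules).mapHomologicalComplex (ComplexShape.up ℤ)).obj I) :=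
    e ≪≫ Q.mapIso ((Functor.mapHomologicalComplexIdIso X.Modules (ComplexShape.up ℤ)).app I).symm
  have comm : (CxOX.RgammaZToId W.ι).app M ≫ φ₂.hom = φ₁.hom ≫
      Q.map ((NatTrans.mapHomologicalComplex (CxOX.gammaZι W.ι) (ComplexShape.up ℤ)).app I) := by
    have n1 := (CxOX.RgammaZToId W.ι).naturality a
    have n2 := unit_comp_ι W I
    have n3 := gammaZKhι_app W I
    have n4 := (quotientCompQhIso X.Modules).hom.naturality
      ((NatTrans.mapHomologicalComplex (CxOX.gammaZι W.ι) (ComplexShape.up ℤ)).app I)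
    have n5 := (quotientCompQhIso X.Modules).hom.naturality
      ((Functor.mapHomologicalComplexIdIso X.Modules (ComplexShape.up ℤ)).hom.app I)
    dsimp only [Functor.comp_map, Functor.id_map, Functor.id_obj, Functor.comp_obj] at n1 n4 n5
    have e1 : e.hom = a ≫ (quotientCompQhIso X.Modules).hom.app I := by
      dsimp only [a]
      rw [Category.assoc, Iso.inv_hom_id_app]
      exact (Category.comp_id _).symm
    have n2' : (CxOX.RgammaZToId W.ι).app
        (Qh.obj ((HomotopyCategory.quotient X.Modules (ComplexShape.up ℤ)).obj I)) =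
        inv un ≫ (CxOX.gammaZKhι W.ι).app ((HomotopyCategory.quotient _ _).obj I) := by
      rw [IsIso.eq_inv_comp]
      exact n2
    dsimp only [φ₁, φ₂, Iso.trans_hom, Functor.mapIso_hom, asIso_hom, Iso.symm_hom, asIso_inv,
      Iso.app_hom, Functor.mapIso_inv, Iso.app_inv]
    rw [e1, Category.assoc, ← Category.assoc ((CxOX.RgammaZToId W.ι).app M), ← n1, n2', n3]
    simp only [Category.assoc]
    rw [reassoc_of% n5, reassoc_of% n4]
    rw [← Functor.map_comp, Iso.hom_inv_id_app]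
    simp only [CategoryTheory.Functor.map_id, Category.comp_id]
  have eT := isoTriangleOfIso₁₂ _ _ hT hS φ₁ φ₂ comm
  obtain ⟨i₃⟩ := nonempty_iso_RF_comp (Scheme.Modules.pushforward W.ι)
    (Scheme.Modules.restrictFunctor W.ι) I (RpRes.isKInjective_restrict W.ι I)
  exact ⟨(DCoh.restrictD W.ι).obj (Q.obj I), ⟨Triangle.π₃.mapIso eT ≪≫ i₃⟩⟩

/-- morphisms from an object vanishing on `W` to `Rj_* N` vanish -/
lemma eq_zero_of_restrict_zero (W : X.Opens) [DCoh.HasRpush W.ι] (A : DCoh.D X)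
    (hA : IsZero ((DCoh.restrictD W.ι).obj A)) (C : DCoh.D X) (N : DCoh.D W.toScheme)
    (i : C ≅ (DCoh.Rpush W.ι).obj N) (φ : A ⟶ C) : φ = 0 := by
  obtain ⟨adj⟩ := (DerAdj.main_of_isIso_counit (Scheme.Modules.restrictAdjunction W.ι)
    (fun M => inferInstance)).1
  have h : φ ≫ i.hom = 0 := (adj.homEquiv _ _).symm.injective (hA.eq_of_src _ _)
  rw [← cancel_mono i.hom, h, zero_comp]

/-- **(a)** for `A` vanishing on `W`, `Hom(A, RΓ_Z M) ≃ Hom(A, M)` -/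
theorem comp_ι_bijective (W : X.Opens) [CxOX.HasRgammaZ W.ι] (M A : DCoh.D X)
    (hA : IsZero ((DCoh.restrictD W.ι).obj A)) :
    Function.Bijective
      (fun ψ : A ⟶ (CxOX.RgammaZ W.ι).obj M => ψ ≫ (CxOX.RgammaZToId W.ι).app M) := by
  haveI : DCoh.HasRpush W.ι := LR4.hasRpush _
  obtain ⟨C, g, h, hT⟩ := distinguished_cocone_triangle ((CxOX.RgammaZToId W.ι).app M)
  obtain ⟨N, ⟨i⟩⟩ := exists_iso_rpush_of_cone W M C g h hT
  constructor
  · intro ψ₁ ψ₂ hψ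
    have h0 : (ψ₁ - ψ₂) ≫ (CxOX.RgammaZToId W.ι).app M = 0 := by
      rw [Preadditive.sub_comp]
      exact sub_eq_zero.2 hψ
    obtain ⟨k, hk⟩ := Triangle.coyoneda_exact₁ _ hT ((ψ₁ - ψ₂)⟦(1 : ℤ)⟧') (by
      change (ψ₁ - ψ₂)⟦(1 : ℤ)⟧' ≫ ((CxOX.RgammaZToId W.ι).app M)⟦(1 : ℤ)⟧' = 0
      rw [← Functor.map_comp, h0, Functor.map_zero])
    have hA1 : IsZero ((DCoh.restrictD W.ι).obj (A⟦(1 : ℤ)⟧)) :=
      IsZero.of_iso (Functor.map_isZero (shiftFunctor _ (1 : ℤ)) hA)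
        (((DCoh.restrictD W.ι).commShiftIso (1 : ℤ)).app A)
    have hk0 : k = 0 := eq_zero_of_restrict_zero W _ hA1 C N i k
    rw [hk0, zero_comp] at hk
    have h1 : ψ₁ - ψ₂ = 0 :=
      (shiftFunctor (DCoh.D X) (1 : ℤ)).map_injective (hk.trans (Functor.map_zero _ _ _).symm)
    exact sub_eq_zero.1 h1
  · intro φ
    have h0 : φ ≫ g = 0 := eq_zero_of_restrict_zero W A hA C N i _
    obtain ⟨ψ, hψ⟩ := Triangle.coyoneda_exact₂ _ hT φ h0
    exact ⟨ψ, hψ.symm⟩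

lemma rpush_congr {X Y : Scheme.{u}} {f g : X ⟶ Y} (h : f = g) [DCoh.HasRpush f]
    [DCoh.HasRpush g] : Nonempty (DCoh.Rpush f ≅ DCoh.Rpush g) := by
  subst h
  exact ⟨Iso.refl _⟩

variable {Y : Scheme.{u}}

/-- `B|_U = 0 ⇒ (Lf^*B)|_{f⁻¹U} = 0` -/
theorem isZero_restrict_lpull (f : X ⟶ Y) (U : Y.Opens) [DCoh.HasRpush f] [DCoh.HasLpull f]
    (B : DCoh.D Y) (hB : IsZero ((DCoh.restrictD U.ι).obj B)) :
    IsZero ((DCoh.restrictD (f ⁻¹ᵁ U).ι).obj ((DCoh.Lpull f).obj B)) := by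
  haveI : DCoh.HasRpush (f ⁻¹ᵁ U).ι := LR4.hasRpush _
  haveI : DCoh.HasRpush U.ι := LR4.hasRpush _
  haveI : DCoh.HasRpush (f ∣_ U) := LR4.hasRpush _
  haveI : DCoh.HasRpush ((f ⁻¹ᵁ U).ι ≫ f) := LR4.hasRpush _
  haveI : DCoh.HasRpush ((f ∣_ U) ≫ U.ι) := LR4.hasRpush _
  obtain ⟨adjV⟩ := (DerAdj.main_of_isIso_counit
    (Scheme.Modules.restrictAdjunction (f ⁻¹ᵁ U).ι) (fun M => inferInstance)).1
  obtain ⟨adjU⟩ := (DerAdj.main_of_isIso_counit
    (Scheme.Modules.restrictAdjunction U.ι) (fun M => inferInstance)).1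
  obtain ⟨c1⟩ := LR2.rpush_comp (f ⁻¹ᵁ U).ι f
  obtain ⟨c2⟩ := LR2.rpush_comp (f ∣_ U) U.ι
  obtain ⟨c3⟩ : Nonempty (DCoh.Rpush ((f ⁻¹ᵁ U).ι ≫ f) ≅ DCoh.Rpush ((f ∣_ U) ≫ U.ι)) :=
    rpush_congr (morphismRestrict_ι f U).symm
  let P := (DCoh.restrictD (f ⁻¹ᵁ U).ι).obj ((DCoh.Lpull f).obj B)
  let E : (P ⟶ P) ≃ ((DCoh.restrictD U.ι).obj B ⟶ (DCoh.Rpush (f ∣_ U)).obj P) :=
    (adjV.homEquiv _ _).trans <| ((LR2.lpullRpushAdj f).homEquiv _ _).trans <|
      ((Iso.refl B).homCongr (c1.app P ≪≫ c3.app P ≪≫ (c2.app P).symm)).trans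
        (adjU.homEquiv _ _).symm
  rw [IsZero.iff_id_eq_zero]
  exact E.injective (hB.eq_of_src _ _)

/-- **S14364** -/
theorem s14364 (f : X ⟶ Y) (U : Y.Opens)
    [CxOX.HasRgammaZ U.ι] [CxOX.HasRgammaZ (f ⁻¹ᵁ U).ι] [DCoh.HasRpush f] (K : DCoh.D X) :
    (∃ α : (DCoh.Rpush f).obj ((CxOX.RgammaZ (f ⁻¹ᵁ U).ι).obj K) ⟶
        (CxOX.RgammaZ U.ι).obj ((DCoh.Rpush f).obj K),
        α ≫ (CxOX.RgammaZToId U.ι).app ((DCoh.Rpush f).obj K) =
          (DCoh.Rpush f).map ((CxOX.RgammaZToId (f ⁻¹ᵁ U).ι).app K)) ∧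
    ∀ α : (DCoh.Rpush f).obj ((CxOX.RgammaZ (f ⁻¹ᵁ U).ι).obj K) ⟶
        (CxOX.RgammaZ U.ι).obj ((DCoh.Rpush f).obj K),
        α ≫ (CxOX.RgammaZToId U.ι).app ((DCoh.Rpush f).obj K) =
          (DCoh.Rpush f).map ((CxOX.RgammaZToId (f ⁻¹ᵁ U).ι).app K) → IsIso α := by
  haveI : DCoh.HasRpush (f ∣_ U) := LR4.hasRpush _
  haveI := LDS14.hasLpull f
  obtain ⟨e⟩ := RpRes.main f U
  have hA : IsZero ((DCoh.restrictD U.ι).obj
      ((DCoh.Rpush f).obj ((CxOX.RgammaZ (f ⁻¹ᵁ U).ι).obj K))) :=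
    IsZero.of_iso (LR6.isZero_rpush (f ∣_ U) _ (LR12.isZero_restrictD_rgammaZ (f ⁻¹ᵁ U) K))
      (e.app _)
  have hG : IsZero ((DCoh.restrictD U.ι).obj ((CxOX.RgammaZ U.ι).obj ((DCoh.Rpush f).obj K))) :=
    LR12.isZero_restrictD_rgammaZ U _
  refine ⟨(comp_ι_bijective U ((DCoh.Rpush f).obj K) _ hA).2 _, ?_⟩
  intro α hα
  have claim : ∀ B : DCoh.D Y, IsZero ((DCoh.restrictD U.ι).obj B) →
      Function.Bijective (fun φ : B ⟶ (DCoh.Rpush f).obj ((CxOX.RgammaZ (f ⁻¹ᵁ U).ι).obj K) =>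
        φ ≫ α) := by
    intro B hB
    have b1 := comp_ι_bijective U ((DCoh.Rpush f).obj K) B hB
    have b0 := comp_ι_bijective (f ⁻¹ᵁ U) K ((DCoh.Lpull f).obj B)
      (isZero_restrict_lpull f U B hB)
    have b2 : Function.Bijective
        (fun φ : B ⟶ (DCoh.Rpush f).obj ((CxOX.RgammaZ (f ⁻¹ᵁ U).ι).obj K) =>
          φ ≫ (DCoh.Rpush f).map ((CxOX.RgammaZToId (f ⁻¹ᵁ U).ι).app K)) := by
      constructor
      · intro φ₁ φ₂ h12
        have h3 := congrArg ((LR2.lpullRpushAdj f).homEquiv _ _).symm h12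
        rw [Adjunction.homEquiv_naturality_right_symm,
          Adjunction.homEquiv_naturality_right_symm] at h3
        exact ((LR2.lpullRpushAdj f).homEquiv _ _).symm.injective (b0.1 h3)
      · intro θ
        obtain ⟨ψ, hψ⟩ := b0.2 (((LR2.lpullRpushAdj f).homEquiv _ _).symm θ)
        refine ⟨(LR2.lpullRpushAdj f).homEquiv _ _ ψ, ?_⟩
        change (LR2.lpullRpushAdj f).homEquiv _ _ ψ ≫ _ = θ
        rw [← Adjunction.homEquiv_naturality_right]
        change (LR2.lpullRpushAdj f).homEquiv _ _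
          (ψ ≫ (CxOX.RgammaZToId (f ⁻¹ᵁ U).ι).app K) = θ at *
        rw [show ψ ≫ (CxOX.RgammaZToId (f ⁻¹ᵁ U).ι).app K = _ from hψ, Equiv.apply_symm_apply]
    have hcomp : (fun φ : B ⟶ (DCoh.Rpush f).obj ((CxOX.RgammaZ (f ⁻¹ᵁ U).ι).obj K) =>
          φ ≫ (DCoh.Rpush f).map ((CxOX.RgammaZToId (f ⁻¹ᵁ U).ι).app K)) =
        (fun ψ : B ⟶ (CxOX.RgammaZ U.ι).obj ((DCoh.Rpush f).obj K) =>
          ψ ≫ (CxOX.RgammaZToId U.ι).app ((DCoh.Rpush f).obj K)) ∘ (fun φ => φ ≫ α) := by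
      funext φ
      change _ = (φ ≫ α) ≫ _
      rw [Category.assoc, hα]
    rw [hcomp] at b2
    exact (Function.Bijective.of_comp_iff' b1 _).1 b2
  obtain ⟨β, hβ⟩ := (claim _ hG).2 (𝟙 _)
  have hβ' : β ≫ α = 𝟙 _ := hβ
  have hαβ : α ≫ β = 𝟙 _ := by
    apply (claim _ hA).1
    change (α ≫ β) ≫ α = 𝟙 _ ≫ α
    rw [Category.assoc, hβ', Category.comp_id, Category.id_comp]
  exact ⟨⟨β, hαβ, hβ'⟩⟩

end Groth.Agent.Helper7.LR14
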