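import Groth.Agent.Lib.Helper7.LR6
import Groth.Agent.Lib.Lead.MV.ApproxExt
import Groth.Agent.Lib.Lead.Inj.ExtZeroGen
import Groth.Agent.S6510

/-!
# `E ≅ Rj_*(E|_U)` and `j_! F ≅ Rj_* F` for objects with cohomology supported in a closed subset
contained in the open `U`
-/

set_option autoImplicit false
universe u

open CategoryTheory CategoryTheory.Limits AlgebraicGeometry
attribute [local instance] HasDerivedCategory.standard

namespace Groth.Agent.Helper7.LR7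

open Groth.Agent.H4 Groth.Agent.H6 DerivedCategory Groth.Agent.LD.DAdj

section Adj

universe w w' v v' u₁ u'

variable {A : Type u₁} [Category.{v} A] [Abelian A] {B : Type u'} [Category.{v'} B] [Abelian B]
  [HasDerivedCategory.{w} A] [HasDerivedCategory.{w'} B]
  {L : B ⥤ A} {R : A ⥤ B} (adj : L ⊣ R) [L.Additive] [R.Additive]
  [PreservesFiniteLimits L] [PreservesFiniteColimits L]
  [PreservesFiniteLimits R] [PreservesFiniteColimits R]

theorem isIso_unit_derived (h : ∀ M, IsIso (adj.unit.app M)) (K : DerivedCategory B) :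
    IsIso ((mapDerivedCategoryAdj adj).unit.app K) := by
  have e := DerivedCategory.Q.objObjPreimageIso K
  rw [← NatTrans.isIso_app_iff_of_iso (mapDerivedCategoryAdj adj).unit e]
  unfold mapDerivedCategoryAdj
  rw [Adjunction.localization_unit_app]
  haveI : IsIso ((mapHCAdj adj (ComplexShape.up ℤ)).unit.app (DerivedCategory.Q.objPreimage K)) := by
    haveI : ∀ n, IsIso (((mapHCAdj adj (ComplexShape.up ℤ)).unit.app
        (DerivedCategory.Q.objPreimage K)).f n) := fun n =>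
      (inferInstanceAs (IsIso (adj.unit.app ((DerivedCategory.Q.objPreimage K).X n))))
    exact HomologicalComplex.Hom.isIso_of_components _
  infer_instance

end Adj

variable {X : Scheme.{u}}

/-- the Mayer–Vietoris statement (S6510) for the pair of opens `U`, `V`. -/
def MVStatement (U V : X.Opens) [DCoh.HasRpush U.ι] [DCoh.HasRpush V.ι]
    [DCoh.HasRpush (U ⊓ V).ι] : Prop :=
  ∀ E : DCoh.D X, ∃ (a : E ⟶ ((DCoh.Rpush U.ι).obj ((DCoh.restrictD U.ι).obj E) ⊞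
        (DCoh.Rpush V.ι).obj ((DCoh.restrictD V.ι).obj E)))
      (b : ((DCoh.Rpush U.ι).obj ((DCoh.restrictD U.ι).obj E) ⊞
        (DCoh.Rpush V.ι).obj ((DCoh.restrictD V.ι).obj E)) ⟶
        (DCoh.Rpush (U ⊓ V).ι).obj ((DCoh.restrictD (U ⊓ V).ι).obj E))
      (c : (DCoh.Rpush (U ⊓ V).ι).obj ((DCoh.restrictD (U ⊓ V).ι).obj E) ⟶ (E)⟦(1 : ℤ)⟧),
      Pretriangulated.Triangle.mk a b c ∈ Pretriangulated.distinguishedTriangles

theorem part1 (U : X.Opens) [DCoh.HasRpush U.ι] (T : Set X) (hT : IsClosed T)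
    (hTU : T ⊆ (U : Set X))
    (hMV : ∀ (V : X.Opens) [DCoh.HasRpush V.ι] [DCoh.HasRpush (U ⊓ V).ι], U ⊔ V = ⊤ →
      MVStatement U V)
    (E : DCoh.D X) (hE : ∀ i : ℤ, CohB1.support (DCoh.HD E i) ⊆ T) :
    Nonempty (E ≅ (DCoh.Rpush U.ι).obj ((DCoh.restrictD U.ι).obj E)) := by
  let V : X.Opens := ⟨Tᶜ, hT.isOpen_compl⟩
  have hUV : U ⊔ V = ⊤ := by
    ext x
    simp only [TopologicalSpace.Opens.coe_sup, TopologicalSpace.Opens.coe_top, Set.mem_union,
      Set.mem_univ, iff_true]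
    by_cases hx : x ∈ T
    · exact Or.inl (hTU hx)
    · exact Or.inr hx
  haveI : DCoh.HasRpush V.ι := LR4.hasRpush _
  haveI : DCoh.HasRpush (U ⊓ V).ι := LR4.hasRpush _
  obtain ⟨a, b, c, hd⟩ := hMV V hUV E
  have hV : IsZero ((DCoh.restrictD V.ι).obj E) := by
    rw [LR6.isZero_restrictD_iff]
    intro i
    rw [Set.disjoint_left]
    intro x hx hxV
    exact hxV (hE i hx)
  have hW : IsZero ((DCoh.restrictD (U ⊓ V).ι).obj E) := by
    rw [LR6.isZero_restrictD_iff]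
    intro i
    rw [Set.disjoint_left]
    intro x hx hxV
    exact hxV.2 (hE i hx)
  have hB := LR6.isZero_rpush V.ι _ hV
  have hC := LR6.isZero_rpush (U ⊓ V).ι _ hW
  haveI : IsIso a := (Pretriangulated.Triangle.isZero₃_iff_isIso₁ _ hd).1 hC
  exact ⟨asIso a ≪≫ (isoBiprodZero hB).symm⟩

theorem part2 (U : X.Opens) [DCoh.HasRpush U.ι] [PreservesFiniteLimits (CxOX.extZero U.ι)]
    (T : Set X) (hT : IsClosed T) (hTU : T ⊆ (U : Set X))
    (hMV : ∀ (V : X.Opens) [DCoh.HasRpush V.ι] [DCoh.HasRpush (U ⊓ V).ι], U ⊔ V = ⊤ →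
      MVStatement U V)
    (F : DCoh.D (U : Scheme.{u}))
    (hF : ∀ i : ℤ, (fun x : (U : Scheme.{u}) => U.ι.base x) '' CohB1.support (DCoh.HD F i) ⊆ T) :
    Nonempty ((CxOX.extZeroD U.ι).obj F ≅ (DCoh.Rpush U.ι).obj F) := by
  have hE : ∀ i : ℤ, CohB1.support (DCoh.HD ((CxOX.extZeroD U.ι).obj F) i) ⊆ T := by
    intro i
    rw [Groth.Agent.LD.QC.support_eq_of_iso
      (Groth.Agent.H7.DRec.homologyMapDerivedIso (CxOX.extZero U.ι) F i)]
    apply Groth.Agent.LD.MV.support_extZero_subset U (DCoh.HD F i) T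
    intro v hv
    exact hF i ⟨v, hv, rfl⟩
  obtain ⟨e⟩ := part1 U T hT hTU hMV _ hE
  haveI : IsIso ((mapDerivedCategoryAdj (CxOX.extZeroAdj U.ι)).unit.app F) :=
    isIso_unit_derived (CxOX.extZeroAdj U.ι)
      (fun M => Groth.Agent.LD.MV.isIso_unit_app U M) F
  exact ⟨e ≪≫ (DCoh.Rpush U.ι).mapIso
    (asIso ((mapDerivedCategoryAdj (CxOX.extZeroAdj U.ι)).unit.app F)).symm⟩


/-- **S6528** -/
theorem s6528 (U : X.Opens) [DCoh.HasRpush U.ι]
    [PreservesFiniteLimits (CxOX.extZero U.ι)] (T : Set X) (hT : IsClosed T)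
    (hTU : T ⊆ (U : Set X)) :
    (∀ E : DCoh.D X, (∀ i : ℤ, CohB1.support (DCoh.HD E i) ⊆ T) →
      Nonempty (E ≅ (DCoh.Rpush U.ι).obj ((DCoh.restrictD U.ι).obj E))) ∧
    (∀ F : DCoh.D (U : Scheme.{u}),
      (∀ i : ℤ, (fun x : (U : Scheme.{u}) => U.ι.base x) '' CohB1.support (DCoh.HD F i) ⊆ T) →
      Nonempty ((CxOX.extZeroD U.ι).obj F ≅ (DCoh.Rpush U.ι).obj F)) := by
  have hMV : ∀ (V : X.Opens) [DCoh.HasRpush V.ι] [DCoh.HasRpush (U ⊓ V).ι], U ⊔ V = ⊤ →
      MVStatement U V := by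
    intro V _ _ hUV E
    exact Groth.Agent.S6510.result U V hUV E
  exact ⟨fun E hE => part1 U T hT hTU hMV E hE, fun F hF => part2 U T hT hTU hMV F hF⟩

end Groth.Agent.Helper7.LR7
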