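import Groth.Agent.Lib.Helper7.LR14
import Groth.Agent.Lib.Helper7.LR7
import Groth.Prelude.Def_Dual3

/-!
# `Rf_* ⊣ RΓ_{Z'} f^!` on supported objects (S17639)
-/

set_option autoImplicit false
universe u

open CategoryTheory CategoryTheory.Limits AlgebraicGeometry Pretriangulated
attribute [local instance] HasDerivedCategory.standard

namespace Groth.Agent.Helper7.LR15

open Groth.Agent.H4 Groth.Agent.H6 DerivedCategory

variable {X Xbar : Scheme.{u}}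

/-- if the cone of `u : M ⟶ R` is of the form `R(W.ι)_* N`, then `Hom(A, M) → Hom(A, R)` is
injective for `A` vanishing on `W` -/
lemma comp_injective_of_cone (W : X.Opens) [DCoh.HasRpush W.ι] {A M R C : DCoh.D X}
    (u : M ⟶ R) (g : R ⟶ C) (h : C ⟶ M⟦(1 : ℤ)⟧)
    (hT : Triangle.mk u g h ∈ distTriang (DCoh.D X)) (N : DCoh.D W.toScheme)
    (i : C ≅ (DCoh.Rpush W.ι).obj N) (hA : IsZero ((DCoh.restrictD W.ι).obj A)) :
    Function.Injective (fun ξ : A ⟶ M => ξ ≫ u) := by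
  intro ψ₁ ψ₂ hψ
  have h0 : (ψ₁ - ψ₂) ≫ u = 0 := by
    rw [Preadditive.sub_comp]
    exact sub_eq_zero.2 hψ
  obtain ⟨k, hk⟩ := Triangle.coyoneda_exact₁ _ hT ((ψ₁ - ψ₂)⟦(1 : ℤ)⟧') (by
    change (ψ₁ - ψ₂)⟦(1 : ℤ)⟧' ≫ u⟦(1 : ℤ)⟧' = 0
    rw [← Functor.map_comp, h0, Functor.map_zero])
  have hA1 : IsZero ((DCoh.restrictD W.ι).obj (A⟦(1 : ℤ)⟧)) :=
    IsZero.of_iso (Functor.map_isZero (shiftFunctor _ (1 : ℤ)) hA)
      (((DCoh.restrictD W.ι).commShiftIso (1 : ℤ)).app A)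
  have hk0 : k = 0 := LR14.eq_zero_of_restrict_zero W _ hA1 C N i k
  rw [hk0, zero_comp] at hk
  have h1 : ψ₁ - ψ₂ = 0 :=
    (shiftFunctor (DCoh.D X) (1 : ℤ)).map_injective (hk.trans (Functor.map_zero _ _ _).symm)
  exact sub_eq_zero.1 h1

/-- the crux: for `A` vanishing on `W ⊇ X̄ ∖ j(X)`, `Hom(A, M) → Hom(A, Rj_*j^*M)` is injective -/
theorem comp_unit_injective (j : X ⟶ Xbar) [IsOpenImmersion j] (W : Xbar.Opens)
    (hW : (W : Set Xbar)ᶜ ⊆ Set.range j.base) [DCoh.HasRpush j]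
    (adjj : DCoh.restrictD j ⊣ DCoh.Rpush j) (M A : DCoh.D Xbar)
    (hA : IsZero ((DCoh.restrictD W.ι).obj A)) :
    Function.Injective (fun ξ : A ⟶ M => ξ ≫ adjj.unit.app M) := by
  have hff := DerAdj.main_of_isIso_counit (Scheme.Modules.restrictAdjunction j)
    (fun M => inferInstance)
  haveI : (DCoh.Rpush j).Full := hff.2.1
  haveI : (DCoh.Rpush j).Faithful := hff.2.2.1
  haveI : DCoh.HasRpush W.ι := LR4.hasRpush _
  haveI : PreservesFiniteLimits (CxOX.extZero W.ι) :=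
    Groth.Agent.LD.ExtZeroGen.preservesFiniteLimits_extZero W.ι
  obtain ⟨C, g, h, hT⟩ := distinguished_cocone_triangle (adjj.unit.app M)
  have h1 : IsIso ((DCoh.restrictD j).map (adjj.unit.app M)) := by
    have h := adjj.left_triangle_components M
    haveI : IsIso (adjj.counit.app ((DCoh.restrictD j).obj M)) := inferInstance
    rw [IsIso.eq_inv_of_inv_hom_id h]
    infer_instance
  have c1 : IsZero ((DCoh.restrictD j).obj C) :=
    (Triangle.isZero₃_iff_isIso₁ _ ((DCoh.restrictD j).map_distinguished _ hT)).2 h1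
  have hsupp : ∀ i : ℤ, CohB1.support (DCoh.HD C i) ⊆ (Set.range j.base)ᶜ := fun i =>
    Set.subset_compl_iff_disjoint_right.2 ((LR12.isZero_restrictD_iff j C).1 c1 i)
  have hcl : IsClosed ((Set.range j.base)ᶜ) :=
    (j.isOpenEmbedding.isOpen_range).isClosed_compl
  have hTW : (Set.range j.base)ᶜ ⊆ (W : Set Xbar) := by
    intro x hx
    by_contra hxW
    exact hx (hW hxW)
  obtain ⟨i⟩ := (LR7.s6528 W _ hcl hTW).1 C hsupp
  exact comp_injective_of_cone W (adjj.unit.app M) g h hT _ i hA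

/-- the map `T₁` is bijective -/
theorem T1_bijective (j : X ⟶ Xbar) [IsOpenImmersion j] (W : Xbar.Opens)
    (hW : (W : Set Xbar)ᶜ ⊆ Set.range j.base) [DCoh.HasRpush j]
    [CxOX.HasRgammaZ W.ι] [CxOX.HasRgammaZ (j ⁻¹ᵁ W).ι]
    (adjj : DCoh.restrictD j ⊣ DCoh.Rpush j) (M : DCoh.D Xbar)
    (θ : (CxOX.RgammaZ (j ⁻¹ᵁ W).ι).obj ((DCoh.restrictD j).obj M) ⟶
      (DCoh.restrictD j).obj ((CxOX.RgammaZ W.ι).obj M))
    (hθ : θ ≫ (DCoh.restrictD j).map ((CxOX.RgammaZToId W.ι).app M) =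
      (CxOX.RgammaZToId (j ⁻¹ᵁ W).ι).app ((DCoh.restrictD j).obj M))
    [IsIso (adjj.unit.app ((CxOX.RgammaZ W.ι).obj M))]
    (F : DCoh.D X) (hFZ : CxOX.IsSuppD (j ⁻¹ᵁ W).ι F) :
    Function.Bijective
      (fun φ : F ⟶ (CxOX.RgammaZ (j ⁻¹ᵁ W).ι).obj ((DCoh.restrictD j).obj M) =>
        (DCoh.Rpush j).map (φ ≫ θ) ≫ inv (adjj.unit.app ((CxOX.RgammaZ W.ι).obj M)) ≫
          (CxOX.RgammaZToId W.ι).app M) := by
  have hff := DerAdj.main_of_isIso_counit (Scheme.Modules.restrictAdjunction j)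
    (fun M => inferInstance)
  haveI : (DCoh.Rpush j).Full := hff.2.1
  haveI : (DCoh.Rpush j).Faithful := hff.2.2.1
  have hA : IsZero ((DCoh.restrictD W.ι).obj ((DCoh.Rpush j).obj F)) :=
    (LR13.isSuppD_iff W.ι _).1 (LR13.isSuppD_rpush j (j ⁻¹ᵁ W) W (subset_refl _) F hFZ)
  have crux := comp_unit_injective j W hW adjj M _ hA
  have α₁ := LR14.comp_ι_bijective (j ⁻¹ᵁ W) ((DCoh.restrictD j).obj M) F
    ((LR13.isSuppD_iff _ F).1 hFZ)
  have comp : ∀ φ : F ⟶ (CxOX.RgammaZ (j ⁻¹ᵁ W).ι).obj ((DCoh.restrictD j).obj M),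
      ((DCoh.Rpush j).map (φ ≫ θ) ≫ inv (adjj.unit.app ((CxOX.RgammaZ W.ι).obj M)) ≫
          (CxOX.RgammaZToId W.ι).app M) ≫ adjj.unit.app M =
        (DCoh.Rpush j).map (φ ≫ (CxOX.RgammaZToId (j ⁻¹ᵁ W).ι).app ((DCoh.restrictD j).obj M)) := by
    intro φ
    have nat := adjj.unit.naturality ((CxOX.RgammaZToId W.ι).app M)
    dsimp only [Functor.id_map, Functor.comp_map, Functor.id_obj, Functor.comp_obj] at nat
    rw [Category.assoc, Category.assoc, nat, IsIso.inv_hom_id_assoc, ← Functor.map_comp,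
      Category.assoc, hθ]
  constructor
  · intro φ₁ φ₂ h12
    have h3 := congrArg (fun ξ => ξ ≫ adjj.unit.app M) h12
    dsimp only at h3
    rw [comp, comp] at h3
    exact α₁.1 ((DCoh.Rpush j).map_injective h3)
  · intro ξ
    obtain ⟨ψ, hψ⟩ := (DCoh.Rpush j).map_surjective (ξ ≫ adjj.unit.app M)
    obtain ⟨φ, hφ⟩ := α₁.2 ψ
    refine ⟨φ, crux ?_⟩
    change _ ≫ adjj.unit.app M = ξ ≫ adjj.unit.app M
    rw [comp]
    change (DCoh.Rpush j).map (φ ≫ _) = _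
    rw [show φ ≫ (CxOX.RgammaZToId (j ⁻¹ᵁ W).ι).app ((DCoh.restrictD j).obj M) = ψ from hφ, hψ]

variable {Y : Scheme.{u}}

/-- the adjunction bijection `Hom(A, aG) ≃ Hom(Rf_* A, G)` on `D_QCoh` written with underlying
morphisms -/
theorem Psi_bijective (fbar : Xbar ⟶ Y) [DCoh.HasRpush fbar]
    (hfbar : DCoh.RpushPreservesQCoh fbar)
    (a : DCoh.DQCoh Y ⥤ DCoh.DQCoh Xbar) (adj : DCoh.RpushQ fbar hfbar ⊣ a)
    (G : DCoh.DQCoh Y) (A : DCoh.D Xbar) (hAq : DCoh.IsQCohD A) :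
    Function.Bijective (fun ξ : A ⟶ (a.obj G).obj =>
      (DCoh.Rpush fbar).map ξ ≫ (adj.counit.app G).hom) := by
  let Aq : DCoh.DQCoh Xbar := ⟨A, hAq⟩
  have key : ∀ κ : Aq ⟶ a.obj G, ((adj.homEquiv Aq G).symm κ).hom =
      (DCoh.Rpush fbar).map κ.hom ≫ (adj.counit.app G).hom := by
    intro κ
    rw [Adjunction.homEquiv_counit]
    rfl
  constructor
  · intro ξ₁ ξ₂ h12
    have h1 : (adj.homEquiv Aq G).symm (ObjectProperty.homMk ξ₁) =
        (adj.homEquiv Aq G).symm (ObjectProperty.homMk ξ₂) := by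
      apply ObjectProperty.hom_ext
      rw [key, key]
      exact h12
    exact congrArg (fun κ : Aq ⟶ a.obj G => κ.hom) ((adj.homEquiv Aq G).symm.injective h1)
  · intro ζ
    refine ⟨(adj.homEquiv Aq G (ObjectProperty.homMk ζ)).hom, ?_⟩
    change (DCoh.Rpush fbar).map (adj.homEquiv Aq G (ObjectProperty.homMk ζ)).hom ≫ _ = ζ
    rw [← key, Equiv.symm_apply_apply]
    rfl

end Groth.Agent.Helper7.LR15
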