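import Groth.Agent.Lib.Helper7.LR14
import Groth.Agent.Lib.Lead.QC.BiprodSec

/-!
# Isomorphisms of `D(O_Y)` are detected by `RΓ(U, -)` on affine opens (S11114)
-/

set_option autoImplicit false
universe u

open CategoryTheory CategoryTheory.Limits AlgebraicGeometry Pretriangulated
attribute [local instance] HasDerivedCategory.standard

namespace Groth.Agent.Helper7.LR16

open Groth.Agent.H4 Groth.Agent.H6 DerivedCategory Groth.Agent.H6.MVTri Groth.Agent.H6.KI
  Groth.Agent.H6.RFTri

section Generic

variable {B : Type*} [Category B] [Abelian B] [HasDerivedCategory B] [KInjDS.HasKInjRes B]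
  {𝒞 : Type*} [Category 𝒞] [Abelian 𝒞] [HasDerivedCategory 𝒞]
  (F : B ⥤ 𝒞) [F.Additive]
  [(F.mapHomotopyCategory (ComplexShape.up ℤ) ⋙ Qh).HasRightDerivedFunctor
    (HomotopyCategory.quasiIso B (ComplexShape.up ℤ))]

/-- if `RF(Q g)` is an isomorphism for a morphism `g` of K-injective complexes, then `F` applied
termwise to the cone of `g` is acyclic -/
lemma isZero_Q_map_cone_of_isIso_RF_map {I J : CochainComplex B ℤ} [I.IsKInjective]
    [J.IsKInjective] (g : I ⟶ J) (h : IsIso ((RF F).map (Q.map g))) :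
    IsZero (Q.obj ((F.mapHomologicalComplex (ComplexShape.up ℤ)).obj
      (CochainComplex.mappingCone g))) := by
  have hI := KInjDS.isIso_app_of_isKInjective
    (F.mapHomotopyCategory (ComplexShape.up ℤ) ⋙ Qh) Qh
    ((F.mapHomotopyCategory (ComplexShape.up ℤ) ⋙ Qh).totalRightDerivedUnit Qh
      (HomotopyCategory.quasiIso B (ComplexShape.up ℤ))) I
  have hJ := KInjDS.isIso_app_of_isKInjective
    (F.mapHomotopyCategory (ComplexShape.up ℤ) ⋙ Qh) Qh
    ((F.mapHomotopyCategory (ComplexShape.up ℤ) ⋙ Qh).totalRightDerivedUnit Qh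
      (HomotopyCategory.quasiIso B (ComplexShape.up ℤ))) J
  haveI := hI
  haveI := hJ
  have n1 := ((F.mapHomotopyCategory (ComplexShape.up ℤ) ⋙ Qh).totalRightDerivedUnit Qh
      (HomotopyCategory.quasiIso B (ComplexShape.up ℤ))).naturality
        ((HomotopyCategory.quotient B (ComplexShape.up ℤ)).map g)
  haveI : IsIso ((Qh ⋙ (F.mapHomotopyCategory (ComplexShape.up ℤ) ⋙ Qh).totalRightDerived Qh
      (HomotopyCategory.quasiIso B (ComplexShape.up ℤ))).map
        ((HomotopyCategory.quotient B (ComplexShape.up ℤ)).map g)) := h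
  have hm : IsIso ((F.mapHomotopyCategory (ComplexShape.up ℤ) ⋙ Qh).map
        ((HomotopyCategory.quotient B (ComplexShape.up ℤ)).map g)) := by
    have h2 : (F.mapHomotopyCategory (ComplexShape.up ℤ) ⋙ Qh).map
        ((HomotopyCategory.quotient B (ComplexShape.up ℤ)).map g) =
        ((F.mapHomotopyCategory (ComplexShape.up ℤ) ⋙ Qh).totalRightDerivedUnit Qh
          (HomotopyCategory.quasiIso B (ComplexShape.up ℤ))).app
            ((HomotopyCategory.quotient B (ComplexShape.up ℤ)).obj I) ≫
        (Qh ⋙ (F.mapHomotopyCategory (ComplexShape.up ℤ) ⋙ Qh).totalRightDerived Qh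
          (HomotopyCategory.quasiIso B (ComplexShape.up ℤ))).map
            ((HomotopyCategory.quotient B (ComplexShape.up ℤ)).map g) ≫
        inv (((F.mapHomotopyCategory (ComplexShape.up ℤ) ⋙ Qh).totalRightDerivedUnit Qh
          (HomotopyCategory.quasiIso B (ComplexShape.up ℤ))).app
            ((HomotopyCategory.quotient B (ComplexShape.up ℤ)).obj J)) := by
      rw [← Category.assoc, ← n1, Category.assoc, IsIso.hom_inv_id, Category.comp_id]
    rw [h2]
    infer_instance
  haveI : IsIso (Q.map ((F.mapHomologicalComplex (ComplexShape.up ℤ)).map g)) := hm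
  have hT := mappingCone_triangle_distinguished
    ((F.mapHomologicalComplex (ComplexShape.up ℤ)).map g)
  have z : IsZero (Q.obj (CochainComplex.mappingCone
      ((F.mapHomologicalComplex (ComplexShape.up ℤ)).map g))) :=
    (Triangle.isZero₃_iff_isIso₁ _ hT).2
      (inferInstanceAs (IsIso (Q.map ((F.mapHomologicalComplex (ComplexShape.up ℤ)).map g))))
  exact z.of_iso (Q.mapIso (CochainComplex.mappingCone.mapHomologicalComplexIso g F))

end Generic

variable {Y : Scheme.{u}}

/-- sections of a complex whose complex of global sections is acyclic -/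
lemma exists_section_of_acyclic_gamma (X : Scheme.{u}) (K : CochainComplex X.Modules ℤ)
    (h : (((DCoh.gammaAb X).mapHomologicalComplex (ComplexShape.up ℤ)).obj K).Acyclic)
    (i j k : ℤ) (hij : i + 1 = j) (hjk : j + 1 = k)
    (t : Γ(K.X j, ⊤)) (ht : (K.d j k).app ⊤ t = 0) :
    ∃ s : Γ(K.X i, ⊤), (K.d i j).app ⊤ s = t := by
  have h1 := (HomologicalComplex.exactAt_iff' _ i j k (by simp; omega) (by simp; omega)).1 (h j)
  rw [ShortComplex.ab_exact_iff] at h1
  exact h1 t ht

/-- a complex of modules all of whose restrictions to affine opens have acyclic complexes of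
global sections is acyclic -/
theorem acyclic_of_forall_affine (C : CochainComplex Y.Modules ℤ)
    (h : ∀ U : Y.Opens, IsAffineOpen U →
      (((DCoh.gammaAb (U : Scheme.{u})).mapHomologicalComplex (ComplexShape.up ℤ)).obj
        (((Scheme.Modules.restrictFunctor U.ι).mapHomologicalComplex (ComplexShape.up ℤ)).obj
          C)).Acyclic) : C.Acyclic := by
  intro n
  rw [HomologicalComplex.exactAt_iff' C (n - 1) n (n + 1) (by simp) (by simp)]
  apply Groth.Agent.LD.QC.exact_of_local
  intro V (t : Γ(C.X n, V)) (ht : (C.d n (n + 1)).app V t = 0) x hx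
  obtain ⟨(U₀ : Y.Opens), hU₀, hxU₀, hU₀V⟩ := TopologicalSpace.Opens.isBasis_iff_nbhd.mp Y.isBasis_affineOpens hx
  have hW : U₀.ι ''ᵁ ⊤ ≤ V := by
    rw [Scheme.Opens.ι_image_top]
    exact hU₀V
  refine ⟨U₀.ι ''ᵁ ⊤, hW, by rw [Scheme.Opens.ι_image_top]; exact hxU₀, ?_⟩
  have ht' : (C.d n (n + 1)).app (U₀.ι ''ᵁ ⊤) ((C.X n).presheaf.map (homOfLE hW).op t) = 0 := by
    have := Groth.Agent.LD.QC.app_res (C.d n (n + 1)) hW t
    rw [this, ht, map_zero]
  exact exists_section_of_acyclic_gamma (U₀ : Scheme.{u})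
    (((Scheme.Modules.restrictFunctor U₀.ι).mapHomologicalComplex (ComplexShape.up ℤ)).obj C)
    (h U₀ hU₀) (n - 1) n (n + 1) (by omega) rfl _ ht'

/-- **S11114** -/
theorem s11114 [hR : ∀ U : Y.Opens, DCoh.HasRΓ (U : Scheme.{u})] {G₁ G₂ : DCoh.D Y}
    (φ : G₁ ⟶ G₂) :
    IsIso φ ↔ ∀ U : Y.Opens, IsAffineOpen U →
      IsIso ((DCoh.RΓ (U : Scheme.{u})).map ((DCoh.restrictD U.ι).map φ)) := by
  constructor
  · intro h U _
    infer_instance
  · intro h
    obtain ⟨I₁, hI₁, ⟨e₁⟩⟩ := exists_kinj G₁
    obtain ⟨I₂, hI₂, ⟨e₂⟩⟩ := exists_kinj G₂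
    obtain ⟨g, hg⟩ := exists_Q_map_eq_of_isKInjective I₁ I₂ (e₁.inv ≫ φ ≫ e₂.hom)
    have hφ : φ = e₁.hom ≫ Q.map g ≫ e₂.inv := by
      rw [hg]
      simp
    suffices hq : IsIso (Q.map g) by
      rw [hφ]
      infer_instance
    have hac : (CochainComplex.mappingCone g).Acyclic := by
      apply acyclic_of_forall_affine
      intro U hU
      apply LR13.acyclic_of_isZero_Q
      haveI := RpRes.isKInjective_restrict U.ι I₁
      haveI := RpRes.isKInjective_restrict U.ι I₂
      have hU' := h U hU
      rw [hφ] at hU'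
      have h3 : IsIso ((DCoh.RΓ (U : Scheme.{u})).map ((DCoh.restrictD U.ι).map (Q.map g))) := by
        have h4 : (DCoh.RΓ (U : Scheme.{u})).map ((DCoh.restrictD U.ι).map (Q.map g)) =
            (DCoh.RΓ (U : Scheme.{u})).map ((DCoh.restrictD U.ι).map e₁.inv) ≫
            (DCoh.RΓ (U : Scheme.{u})).map ((DCoh.restrictD U.ι).map
              (e₁.hom ≫ Q.map g ≫ e₂.inv)) ≫
            (DCoh.RΓ (U : Scheme.{u})).map ((DCoh.restrictD U.ι).map e₂.hom) := by
          rw [← Functor.map_comp, ← Functor.map_comp, ← Functor.map_comp, ← Functor.map_comp]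
          simp
        rw [h4]
        infer_instance
      have nat := (Scheme.Modules.restrictFunctor U.ι).mapDerivedCategoryFactors.hom.naturality g
      dsimp only [Functor.comp_map] at nat
      have h5 : IsIso ((DCoh.RΓ (U : Scheme.{u})).map (Q.map
          (((Scheme.Modules.restrictFunctor U.ι).mapHomologicalComplex (ComplexShape.up ℤ)).map
            g))) := by
        have h6 : Q.map (((Scheme.Modules.restrictFunctor U.ι).mapHomologicalComplex
            (ComplexShape.up ℤ)).map g) =
            (Scheme.Modules.restrictFunctor U.ι).mapDerivedCategoryFactors.inv.app I₁ ≫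
              (DCoh.restrictD U.ι).map (Q.map g) ≫
              (Scheme.Modules.restrictFunctor U.ι).mapDerivedCategoryFactors.hom.app I₂ := by
          rw [nat, Iso.inv_hom_id_app_assoc]
        rw [h6, Functor.map_comp, Functor.map_comp]
        infer_instance
      have z := isZero_Q_map_cone_of_isIso_RF_map (DCoh.gammaAb (U : Scheme.{u}))
        (((Scheme.Modules.restrictFunctor U.ι).mapHomologicalComplex (ComplexShape.up ℤ)).map g)
        h5
      exact z.of_iso (Q.mapIso (((DCoh.gammaAb (U : Scheme.{u})).mapHomologicalComplex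
        (ComplexShape.up ℤ)).mapIso (CochainComplex.mappingCone.mapHomologicalComplexIso g
          (Scheme.Modules.restrictFunctor U.ι))))
    have hT := mappingCone_triangle_distinguished g
    exact (Triangle.isZero₃_iff_isIso₁ _ hT).1 (LDS3.isZero_Q_obj_of_acyclic _ hac)

end Groth.Agent.Helper7.LR16
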