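import Mathlib
import Groth.Prelude.Def_DCoh4
import Groth.Agent.H4.RT2
import Groth.Agent.H4.LDS20
import Groth.Agent.H4.TC14
import Groth.Agent.Lib.Lead.CI.Adj
import Groth.Agent.Lib.Lead.CI.Colim
import Groth.Agent.Lib.Lead.CI.Proj

set_option autoImplicit false
universe u
open CategoryTheory CategoryTheory.Limits AlgebraicGeometry
attribute [local instance] HasDerivedCategory.standard

namespace Groth.Agent.Helper7.LR17

open Groth.Agent.LD.QC Groth.Agent.LD.CI

section A
variable {X : Scheme.{u}}

theorem ltensor_iso (P : CochainComplex X.Modules ℤ) (hP : DCoh.IsKFlat P) [DCoh.HasLTensorCx P]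
    (K : CochainComplex X.Modules ℤ) :
    Nonempty ((DCoh.LTensorCx P).obj (DerivedCategory.Q.obj K) ≅
      DerivedCategory.Q.obj ((DCoh.tensorCx.obj K).obj P)) := by
  have h := Functor.isIso_of_isLeftDerivedFunctor_of_inverts (L := DerivedCategory.Q)
    (DCoh.LTensorCx P)
    ((DCoh.tensorCxQ P).totalLeftDerivedCounit DerivedCategory.Q
      (HomologicalComplex.quasiIso X.Modules (ComplexShape.up ℤ)))
    (Groth.Agent.H4.RT2.isInvertedBy_tensorCxQ P hP)
  exact ⟨(asIso ((DCoh.tensorCxQ P).totalLeftDerivedCounit DerivedCategory.Q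
      (HomologicalComplex.quasiIso X.Modules (ComplexShape.up ℤ)))).app K⟩

end A

section B
variable {X Y : Scheme.{u}} (f : X ⟶ Y) [IsClosedImmersion f]

theorem isInvertedBy_pushKh :
    (HomotopyCategory.quasiIso X.Modules (ComplexShape.up ℤ)).IsInvertedBy (DCoh.pushKh f) := by
  intro A B φ hφ
  obtain ⟨A⟩ := A
  obtain ⟨B⟩ := B
  obtain ⟨g, rfl⟩ := (HomotopyCategory.quotient _ _).map_surjective φ
  haveI : QuasiIso g := (HomotopyCategory.quotient_map_mem_quasiIso_iff g).1 hφ
  haveI : (Scheme.Modules.pushforward f).PreservesHomology :=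
    Functor.preservesHomologyOfExact _
  change IsIso (DerivedCategory.Q.map
    (((Scheme.Modules.pushforward f).mapHomologicalComplex (ComplexShape.up ℤ)).map g))
  infer_instance

theorem rpush_iso [DCoh.HasRpush f] (K : CochainComplex X.Modules ℤ) :
    Nonempty ((DCoh.Rpush f).obj (DerivedCategory.Q.obj K) ≅
      DerivedCategory.Q.obj
        (((Scheme.Modules.pushforward f).mapHomologicalComplex (ComplexShape.up ℤ)).obj K)) := by
  have h := Functor.isIso_of_isRightDerivedFunctor_of_inverts (L := DerivedCategory.Qh)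
    (DCoh.Rpush f)
    ((DCoh.pushKh f).totalRightDerivedUnit DerivedCategory.Qh
      (HomotopyCategory.quasiIso X.Modules (ComplexShape.up ℤ)))
    (isInvertedBy_pushKh f)
  exact ⟨((asIso ((DCoh.pushKh f).totalRightDerivedUnit DerivedCategory.Qh
      (HomotopyCategory.quasiIso X.Modules (ComplexShape.up ℤ)))).app
        ((HomotopyCategory.quotient _ _).obj K)).symm⟩

end B

section C
variable {X Y : Scheme.{u}} (f : X ⟶ Y)

theorem projHom_nat {F F' : X.Modules} (φ : F ⟶ F') {L L' : Y.Modules} (ψ : L ⟶ L') :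
    KoszTw.tensorMap ((Scheme.Modules.pushforward f).map φ) ψ ≫ projHom f F' L' =
      projHom f F L ≫ (Scheme.Modules.pushforward f).map
        (KoszTw.tensorMap φ ((Scheme.Modules.pullback f).map ψ)) := by
  apply hom_ext_tmul
  intro V s l
  rw [Scheme.Modules.Hom.comp_app, Scheme.Modules.Hom.comp_app, ConcreteCategory.comp_apply,
    ConcreteCategory.comp_apply, KoszTw.tensorMap_tmul, projHom_app_tmul, projHom_app_tmul]
  change _ = (KoszTw.tensorMap φ ((Scheme.Modules.pullback f).map ψ)).app (f ⁻¹ᵁ V)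
    (SecTwist.tmul F _ (f ⁻¹ᵁ V) _ _)
  rw [KoszTw.tensorMap_tmul, unitSec_naturality]
  rfl

theorem isIso_projHom_ci [IsClosedImmersion f] (F : X.Modules) (L : Y.Modules) :
    IsIso (projHom f F L) := by
  haveI := isIso_projHomL_ci f F L
  have h2 : projHom f F L = (tensorCommAll L ((Scheme.Modules.pushforward f).obj F)).inv ≫
      projHomL f F L ≫ (Scheme.Modules.pushforward f).map
        (tensorCommAll F ((Scheme.Modules.pullback f).obj L)).inv := by
    unfold projHomL
    rw [Category.assoc, Category.assoc, ← Functor.map_comp, Iso.hom_inv_id,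
      CategoryTheory.Functor.map_id, Category.comp_id, Iso.inv_hom_id_assoc]
  rw [h2]
  infer_instance

/-- the bifunctor `(A, B) ↦ A ⊗ f^* B` -/
noncomputable def F₁ : X.Modules ⥤ Y.Modules ⥤ X.Modules :=
  DCoh.tensorBi (X := X) ⋙ (Functor.whiskeringLeft _ _ _).obj (Scheme.Modules.pullback f)

instance additive_F₁ : (F₁ f).Additive := ⟨by
  intro A A' a b
  apply NatTrans.ext
  funext B
  change ((DCoh.tensorBi (X := X)).map (a + b)).app ((Scheme.Modules.pullback f).obj B) =
    ((DCoh.tensorBi (X := X)).map a).app _ + ((DCoh.tensorBi (X := X)).map b).app _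
  rw [Functor.map_add]
  rfl⟩

instance additive_F₁_obj (A : X.Modules) : ((F₁ f).obj A).Additive :=
  inferInstanceAs (Scheme.Modules.pullback f ⋙ (DCoh.tensorBi (X := X)).obj A).Additive

set_option backward.isDefEq.respectTransparency false in
/-- `f_* A ⊗ B ≅ f_* (A ⊗ f^* B)`, typed through the bifunctors -/
noncomputable def pIso [IsClosedImmersion f] (A : X.Modules) (B : Y.Modules) :
    ((DCoh.tensorBi (X := Y)).obj ((Scheme.Modules.pushforward f).obj A)).obj B ≅
      (Scheme.Modules.pushforward f).obj (((F₁ f).obj A).obj B) :=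
  @asIso _ _ _ _ (projHom f A B) (isIso_projHom_ci f A B)

set_option backward.isDefEq.respectTransparency false in
lemma pIso_natural_right [IsClosedImmersion f] (A : X.Modules) {B B' : Y.Modules} (g : B ⟶ B') :
    ((DCoh.tensorBi (X := Y)).obj ((Scheme.Modules.pushforward f).obj A)).map g ≫
        (pIso f A B').hom =
      (pIso f A B).hom ≫ (Scheme.Modules.pushforward f).map (((F₁ f).obj A).map g) := by
  change _ = _ ≫ (Scheme.Modules.pushforward f).map
    (((DCoh.tensorBi (X := X)).obj A).map ((Scheme.Modules.pullback f).map g))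
  rw [KoszTw.tensorBi_obj_map, KoszTw.tensorBi_obj_map]
  have h := projHom_nat f (𝟙 A) g
  rw [CategoryTheory.Functor.map_id] at h
  exact h

set_option backward.isDefEq.respectTransparency false in
lemma pIso_natural_left [IsClosedImmersion f] {A A' : X.Modules} (a : A ⟶ A') (B : Y.Modules) :
    ((DCoh.tensorBi (X := Y)).map ((Scheme.Modules.pushforward f).map a)).app B ≫
        (pIso f A' B).hom =
      (pIso f A B).hom ≫ (Scheme.Modules.pushforward f).map (((F₁ f).map a).app B) := by
  change _ = _ ≫ (Scheme.Modules.pushforward f).map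
    (((DCoh.tensorBi (X := X)).map a).app ((Scheme.Modules.pullback f).obj B))
  rw [KoszTw.tensorBi_map_app, KoszTw.tensorBi_map_app]
  have h := projHom_nat f a (𝟙 B)
  rw [CategoryTheory.Functor.map_id] at h
  exact h

/-- the projection formula for a closed immersion as an isomorphism of bifunctors -/
noncomputable def e₁ [IsClosedImmersion f] :
    F₁ f ⋙ (Functor.whiskeringRight _ _ _).obj (Scheme.Modules.pushforward f) ≅
      Scheme.Modules.pushforward f ⋙ DCoh.tensorBi (X := Y) ⋙
        (Functor.whiskeringLeft _ _ _).obj (𝟭 Y.Modules) :=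
  (NatIso.ofComponents
    (fun A => NatIso.ofComponents (fun B => pIso f A B)
      (fun g => pIso_natural_right f A g))
    (fun a => by
      apply NatTrans.ext
      funext B
      exact pIso_natural_left f a B)).symm

/-- the tautological isomorphism of bifunctors -/
noncomputable def e₂ :
    F₁ f ⋙ (Functor.whiskeringRight _ _ _).obj (𝟭 X.Modules) ≅
      𝟭 X.Modules ⋙ DCoh.tensorBi (X := X) ⋙
        (Functor.whiskeringLeft _ _ _).obj (Scheme.Modules.pullback f) :=
  NatIso.ofComponents
    (fun A => NatIso.ofComponents (fun B => Iso.refl _)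
      (fun g => by
        change ((DCoh.tensorBi (X := X)).obj A).map ((Scheme.Modules.pullback f).map g) ≫ 𝟙 _ =
          𝟙 _ ≫ ((DCoh.tensorBi (X := X)).obj A).map ((Scheme.Modules.pullback f).map g)
        rw [Category.comp_id, Category.id_comp]))
    (fun a => by
      apply NatTrans.ext
      funext B
      change ((DCoh.tensorBi (X := X)).map a).app ((Scheme.Modules.pullback f).obj B) ≫ 𝟙 _ =
          𝟙 _ ≫ ((DCoh.tensorBi (X := X)).map a).app ((Scheme.Modules.pullback f).obj B)
      rw [Category.comp_id, Category.id_comp])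

/-- step 2 -/
noncomputable def cxIso₁ [IsClosedImmersion f] (K : CochainComplex X.Modules ℤ)
    (P : CochainComplex Y.Modules ℤ) :
    CochainComplex.mapBifunctor
        (((Scheme.Modules.pushforward f).mapHomologicalComplex (ComplexShape.up ℤ)).obj K)
        (((𝟭 Y.Modules).mapHomologicalComplex (ComplexShape.up ℤ)).obj P)
        (DCoh.tensorBi (X := Y)) ≅
      ((Scheme.Modules.pushforward f).mapHomologicalComplex (ComplexShape.up ℤ)).obj
        (CochainComplex.mapBifunctor K P (F₁ f)) :=
  haveI : ∀ J : Type, PreservesColimitsOfShape (Discrete J) (Scheme.Modules.pushforward f) :=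
    fun J => by
      haveI : PreservesColimitsOfSize.{0, 0} (Scheme.Modules.pushforward f) :=
        (flatAdj f).leftAdjoint_preservesColimits
      infer_instance
  Groth.Agent.H4.TC14.mapBifunctorMapIso (e₁ f) K P

/-- step 1 -/
noncomputable def cxIso₂ (K : CochainComplex X.Modules ℤ)
    (P : CochainComplex Y.Modules ℤ) :
    CochainComplex.mapBifunctor
        (((𝟭 X.Modules).mapHomologicalComplex (ComplexShape.up ℤ)).obj K)
        (((Scheme.Modules.pullback f).mapHomologicalComplex (ComplexShape.up ℤ)).obj P)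
        (DCoh.tensorBi (X := X)) ≅
      ((𝟭 X.Modules).mapHomologicalComplex (ComplexShape.up ℤ)).obj
        (CochainComplex.mapBifunctor K P (F₁ f)) :=
  Groth.Agent.H4.TC14.mapBifunctorMapIso (e₂ f) K P

noncomputable def cxIso₂' (K : CochainComplex X.Modules ℤ)
    (P : CochainComplex Y.Modules ℤ) :
    (DCoh.tensorCx.obj K).obj
        (((Scheme.Modules.pullback f).mapHomologicalComplex (ComplexShape.up ℤ)).obj P) ≅
        CochainComplex.mapBifunctor K P (F₁ f) :=
  cxIso₂ f K P

noncomputable def cxIso₁' [IsClosedImmersion f] (K : CochainComplex X.Modules ℤ)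
    (P : CochainComplex Y.Modules ℤ) :
    (DCoh.tensorCx.obj
        (((Scheme.Modules.pushforward f).mapHomologicalComplex (ComplexShape.up ℤ)).obj K)).obj P ≅
      ((Scheme.Modules.pushforward f).mapHomologicalComplex (ComplexShape.up ℤ)).obj
        (CochainComplex.mapBifunctor K P (F₁ f)) :=
  cxIso₁ f K P

end C

theorem s0966 {X Y : Scheme.{u}} (f : X ⟶ Y) [IsClosedImmersion f] [DCoh.HasRpush f]
    (P : CochainComplex Y.Modules ℤ) (hP : DCoh.IsKFlat P)
    [DCoh.HasLTensorCx P] [DCoh.HasLTensorCx (((Scheme.Modules.pullback f).mapHomologicalComplex (ComplexShape.up ℤ)).obj P)] (E : DCoh.D X) :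
    Nonempty ((DCoh.LTensorCx P).obj ((DCoh.Rpush f).obj E) ≅
      (DCoh.Rpush f).obj ((DCoh.LTensorCx (((Scheme.Modules.pullback f).mapHomologicalComplex (ComplexShape.up ℤ)).obj P)).obj E)) := by
  let K : CochainComplex X.Modules ℤ := DerivedCategory.Q.objPreimage E
  let eK : DerivedCategory.Q.obj K ≅ E := DerivedCategory.Q.objObjPreimageIso E
  obtain ⟨i1⟩ := rpush_iso f K
  obtain ⟨i2⟩ := ltensor_iso P hP
    (((Scheme.Modules.pushforward f).mapHomologicalComplex (ComplexShape.up ℤ)).obj K)
  obtain ⟨i3⟩ := ltensor_iso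
    (((Scheme.Modules.pullback f).mapHomologicalComplex (ComplexShape.up ℤ)).obj P)
    (Groth.Agent.H4.LDS20.S0952 f P hP) K
  obtain ⟨i4⟩ := rpush_iso f ((DCoh.tensorCx.obj K).obj
    (((Scheme.Modules.pullback f).mapHomologicalComplex (ComplexShape.up ℤ)).obj P))
  exact ⟨(DCoh.LTensorCx P).mapIso ((DCoh.Rpush f).mapIso eK.symm ≪≫ i1) ≪≫ i2 ≪≫
    DerivedCategory.Q.mapIso (cxIso₁' f K P ≪≫
      ((Scheme.Modules.pushforward f).mapHomologicalComplex (ComplexShape.up ℤ)).mapIso
        (cxIso₂' f K P).symm) ≪≫ i4.symm ≪≫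
    (DCoh.Rpush f).mapIso (i3.symm ≪≫ (DCoh.LTensorCx _).mapIso eK)⟩

end Groth.Agent.Helper7.LR17
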