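import Mathlib
import Groth.Agent.H4.SPt5
import Groth.Agent.H4.SPt8
import Groth.Agent.H4.FlatPull1
import Groth.Agent.Lib.Lead.QC.PullbackUnit
import Groth.Agent.Lib.Lead.QC.PullInv
import Groth.Agent.Lib.Lead.QC.TensorDescAll
import Groth.Agent.Lib.Lead.QC.FreeData
import Groth.Agent.Lib.Lead.CI.Proj

set_option autoImplicit false
universe u
open CategoryTheory CategoryTheory.Limits AlgebraicGeometry TopologicalSpace Opposite TensorProduct
open ChangeOfRings

namespace Groth.Agent.Helper7.LR18

open Groth.Agent.H4.SPt4 Groth.Agent.H4.SPt5 Groth.Agent.H4.SPt7 Groth.Agent.H4.SPt8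
  Groth.Agent.LD.QC Groth.Agent.LD.CI

section PbT
variable {X Y : Scheme.{u}} (f : X ⟶ Y) (M N : Y.Modules)

/-- the bilinear maps `(m, n) ↦ f^* m ⊗ f^* n`, for arbitrary modules. -/
noncomputable def pbB (V : Y.Opens) :
    Γ(M, V) →ₗ[Γ(Y, V)] Γ(N, V) →ₗ[Γ(Y, V)]
      Γ((Scheme.Modules.pushforward f).obj (CohB1.tensorMod ((Scheme.Modules.pullback f).obj M)
        ((Scheme.Modules.pullback f).obj N)), V) :=
  LinearMap.mk₂ Γ(Y, V)
    (fun m n => (show Γ((Scheme.Modules.pushforward f).obj
        (CohB1.tensorMod ((Scheme.Modules.pullback f).obj M)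
        ((Scheme.Modules.pullback f).obj N)), V) from
      SecTwist.tmul ((Scheme.Modules.pullback f).obj M) ((Scheme.Modules.pullback f).obj N)
        (f ⁻¹ᵁ V) (unitSec f M V m) (unitSec f N V n)))
    (fun m m' n => by
      change SecTwist.tmul _ _ _ (unitSec f M V (m + m')) _ = SecTwist.tmul _ _ _ _ _ +
        SecTwist.tmul _ _ _ _ _
      rw [unitSec_add, tmul_add_left]
      rfl)
    (fun c m n => by
      change SecTwist.tmul _ _ _ (unitSec f M V (c • m)) _ = (f.app V c) • SecTwist.tmul _ _ _ _ _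
      rw [unitSec_smul, tmul_smul_left])
    (fun m n n' => by
      change SecTwist.tmul _ _ _ _ (unitSec f N V (n + n')) = SecTwist.tmul _ _ _ _ _ +
        SecTwist.tmul _ _ _ _ _
      rw [unitSec_add, tmul_add_right]
      rfl)
    (fun c m n => by
      change SecTwist.tmul _ _ _ _ (unitSec f N V (c • n)) = (f.app V c) • SecTwist.tmul _ _ _ _ _
      rw [unitSec_smul, tmul_smul_right])

/-- the comparison `M ⊗ N ⟶ f_* (f^* M ⊗ f^* N)`. -/
noncomputable def pbAdj :
    CohB1.tensorMod M N ⟶ (Scheme.Modules.pushforward f).obj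
      (CohB1.tensorMod ((Scheme.Modules.pullback f).obj M) ((Scheme.Modules.pullback f).obj N)) :=
  tensorDescAll M N _ (fun V => pbB f M N V) (by
    intro U V h m n
    change (CohB1.tensorMod ((Scheme.Modules.pullback f).obj M)
      ((Scheme.Modules.pullback f).obj N)).presheaf.map
        (homOfLE (show f ⁻¹ᵁ V ≤ f ⁻¹ᵁ U from fun _ hx => h hx)).op
        (SecTwist.tmul _ _ _ (unitSec f M U m) (unitSec f N U n)) =
      SecTwist.tmul _ _ _ (unitSec f M V _) (unitSec f N V _)
    rw [tmul_res, unitSec_res, unitSec_res])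

/-- the comparison `f^* (M ⊗ N) ⟶ f^* M ⊗ f^* N`, for arbitrary modules. -/
noncomputable def pbT :
    (Scheme.Modules.pullback f).obj (CohB1.tensorMod M N) ⟶
      CohB1.tensorMod ((Scheme.Modules.pullback f).obj M) ((Scheme.Modules.pullback f).obj N) :=
  ((Scheme.Modules.pullbackPushforwardAdjunction f).homEquiv _ _).symm (pbAdj f M N)

lemma pbT_unitSec (V : Y.Opens) (m : Γ(M, V)) (n : Γ(N, V)) :
    (pbT f M N).app (f ⁻¹ᵁ V) (unitSec f _ V (SecTwist.tmul M N V m n)) =
      SecTwist.tmul _ _ (f ⁻¹ᵁ V) (unitSec f M V m) (unitSec f N V n) := by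
  rw [pbT, homEquiv_symm_unitSec, pbAdj, tensorDescAll_app_tmul]
  rfl

variable {M N} in
/-- naturality of `pbT` in both variables -/
theorem pbT_natural {M' N' : Y.Modules} (a : M ⟶ M') (b : N ⟶ N') :
    (Scheme.Modules.pullback f).map (KoszTw.tensorMap a b) ≫ pbT f M' N' =
      pbT f M N ≫ KoszTw.tensorMap ((Scheme.Modules.pullback f).map a)
        ((Scheme.Modules.pullback f).map b) := by
  apply ((Scheme.Modules.pullbackPushforwardAdjunction f).homEquiv _ _).injective
  apply hom_ext_tmul
  intro V m n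
  rw [Adjunction.homEquiv_unit, Adjunction.homEquiv_unit]
  rw [Scheme.Modules.Hom.comp_app, Scheme.Modules.Hom.comp_app, ConcreteCategory.comp_apply,
    ConcreteCategory.comp_apply]
  change ((Scheme.Modules.pullback f).map (KoszTw.tensorMap a b) ≫ pbT f M' N').app (f ⁻¹ᵁ V)
      (unitSec f _ V (SecTwist.tmul M N V m n)) =
    (pbT f M N ≫ KoszTw.tensorMap ((Scheme.Modules.pullback f).map a)
        ((Scheme.Modules.pullback f).map b)).app (f ⁻¹ᵁ V)
      (unitSec f _ V (SecTwist.tmul M N V m n))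
  rw [Scheme.Modules.Hom.comp_app, Scheme.Modules.Hom.comp_app, ConcreteCategory.comp_apply,
    ConcreteCategory.comp_apply, unitSec_naturality, KoszTw.tensorMap_tmul, pbT_unitSec,
    pbT_unitSec, KoszTw.tensorMap_tmul, unitSec_naturality, unitSec_naturality]

end PbT

section Alg

variable {R S : Type u} [CommRing R] [CommRing S] (φ : R →+* S)
  (M₁ M₂ : ModuleCat.{u} R) (M₁' M₂' : ModuleCat.{u} S)
  (α₁ : M₁' ≅ (ModuleCat.extendScalars.{u, u, u} φ).obj M₁)
  (α₂ : M₂' ≅ (ModuleCat.extendScalars.{u, u, u} φ).obj M₂)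

/-- the unit `w ↦ 1 ⊗ w`, typed into the extended module -/
noncomputable def η' (Q : ModuleCat.{u} R) (w : Q) : (ModuleCat.extendScalars.{u, u, u} φ).obj Q :=
  ((ModuleCat.extendRestrictScalarsAdj.{u, u, u} φ).unit.app Q).hom w

lemma tmul_eq_smul_η' (Q : ModuleCat.{u} R) (s : S) (w : Q) :
    (s ⊗ₜ[R, φ] w : (ModuleCat.extendScalars.{u, u, u} φ).obj Q) = s • η' φ Q w := by
  unfold η'
  rw [ModuleCat.extendRestrictScalarsAdj_unit_app_apply]
  exact ((ModuleCat.ExtendScalars.smul_tmul φ s 1 w).trans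
    (congrArg (fun t : S => (t ⊗ₜ[R, φ] w : (ModuleCat.extendScalars.{u, u, u} φ).obj Q))
      (mul_one s))).symm

open MonoidalCategory in
/-- the algebraic identity `S ⊗_R (M₁ ⊗_R M₂) ≅ (S ⊗_R M₁) ⊗_S (S ⊗_R M₂)`. -/
theorem exists_K2 : ∃ K : ((ModuleCat.extendScalars.{u, u, u} φ).obj (M₁ ⊗ M₂) : Type u) ≃+
      (M₁' ⊗[S] M₂'), ∀ (s : S) (m₁ : M₁) (m₂ : M₂),
    K ((s ⊗ₜ[R] (m₁ ⊗ₜ[R] m₂) : (ModuleCat.restrictScalars.{u} φ).obj (ModuleCat.of S S) ⊗[R]
        (M₁ ⊗[R] M₂))) =
      (s • α₁.inv.hom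
        (((ModuleCat.extendRestrictScalarsAdj.{u, u, u} φ).unit.app M₁).hom m₁)) ⊗ₜ
      α₂.inv.hom (((ModuleCat.extendRestrictScalarsAdj.{u, u, u} φ).unit.app M₂).hom m₂) := by
  letI := φ.toAlgebra
  let α₁' : M₁' ≃ₗ[S] S ⊗[R] M₁ := α₁.toLinearEquiv
  let α₂' : M₂' ≃ₗ[S] S ⊗[R] M₂ := α₂.toLinearEquiv
  refine ⟨((TensorProduct.AlgebraTensorModule.distribBaseChange R S M₁ M₂).trans
    (TensorProduct.congr α₁'.symm α₂'.symm)).toAddEquiv, fun s m₁ m₂ => ?_⟩
  change (TensorProduct.congr α₁'.symm α₂'.symm)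
    ((TensorProduct.AlgebraTensorModule.distribBaseChange R S M₁ M₂) (s ⊗ₜ[R] (m₁ ⊗ₜ[R] m₂))) = _
  rw [TensorProduct.AlgebraTensorModule.distribBaseChange_tmul, TensorProduct.congr_tmul]
  have e1 : (s ⊗ₜ[R] m₁ : S ⊗[R] M₁) = s • ((1 : S) ⊗ₜ[R] m₁) := by
    rw [TensorProduct.smul_tmul', smul_eq_mul, mul_one]
  rw [e1, map_smul]
  rfl

end Alg

section Main
variable {X Y : Scheme.{u}} (f : X ⟶ Y) (M N : Y.Modules)

theorem isIso_stalk_pbT (x : X) : IsIso ((DerSch.stalkFunctor X x).map (pbT f M N)) := by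
  obtain ⟨K, hK⟩ := exists_K2 (f.stalkMap x).hom
    ((DerSch.stalkFunctor Y (f.base x)).obj M) ((DerSch.stalkFunctor Y (f.base x)).obj N)
    ((DerSch.stalkFunctor X x).obj ((Scheme.Modules.pullback f).obj M))
    ((DerSch.stalkFunctor X x).obj ((Scheme.Modules.pullback f).obj N))
    ((stalkPullbackIso f x).app M) ((stalkPullbackIso f x).app N)
  let a := (stalkPullbackIso f x).app (CohB1.tensorMod M N)
  let b := stalkTensorObjIso (f.base x) M N
  let c := stalkTensorObjIso x ((Scheme.Modules.pullback f).obj M)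
    ((Scheme.Modules.pullback f).obj N)
  let T := CohB1.tensorMod ((Scheme.Modules.pullback f).obj M) ((Scheme.Modules.pullback f).obj N)
  let g : ((ModuleCat.extendScalars.{u, u, u} (f.stalkMap x).hom).obj (B (f.base x) M N) : Type u) →+
      (B x ((Scheme.Modules.pullback f).obj M) ((Scheme.Modules.pullback f).obj N) : Type u) :=
    (c.hom.hom.toAddMonoidHom).comp
      (((DerSch.stalkFunctor X x).map (pbT f M N)).hom.toAddMonoidHom.comp
        (a.inv.hom.toAddMonoidHom.comp
          ((ModuleCat.extendScalars.{u, u, u} (f.stalkMap x).hom).map b.inv).hom.toAddMonoidHom))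
  have hfg : K.toAddMonoidHom = g := by
    apply AddMonoidHom.ext
    intro z
    induction z using TensorProduct.induction_on with
    | zero => exact (map_zero K.toAddMonoidHom).trans (map_zero g).symm
    | add z z' hz hz' =>
      exact (map_add K.toAddMonoidHom z z').trans
        ((congrArg₂ (· + ·) hz hz').trans (map_add g z z').symm)
    | tmul s t =>
      induction t using TensorProduct.induction_on with
      | zero =>
        rw [TensorProduct.tmul_zero]
        exact (map_zero K.toAddMonoidHom).trans (map_zero g).symm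
      | add t t' ht ht' =>
        rw [TensorProduct.tmul_add]
        exact (map_add K.toAddMonoidHom _ _).trans
          ((congrArg₂ (· + ·) ht ht').trans (map_add g _ _).symm)
      | tmul p q =>
        obtain ⟨U, hx, m, n, rfl, rfl⟩ :=
          BilFam.exists_common (x := f.base x) (M := M) (N := N) p q
        have hu : ∀ (P : Y.Modules) (w : Γ(P, U)),
            ((stalkPullbackIso f x).app P).inv.hom
              (((ModuleCat.extendRestrictScalarsAdj.{u, u, u} (f.stalkMap x).hom).unit.app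
                ((DerSch.stalkFunctor Y (f.base x)).obj P)).hom (gm (f.base x) P U hx w)) =
            gm x ((Scheme.Modules.pullback f).obj P) (f ⁻¹ᵁ U) hx (unitSec f P U w) := by
          intro P w
          exact (congrArg ((stalkPullbackIso f x).app P).inv.hom
            (stalkPullbackIso_germ_unit f x P U hx w).symm).trans
            (LinearMap.congr_fun (congrArg ModuleCat.Hom.hom
              ((stalkPullbackIso f x).app P).hom_inv_id) _)
        let s' : X.presheaf.stalk x := s
        have key : ∀ (Q : ModuleCat.{u} (Y.presheaf.stalk (f.base x))) (w : Q),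
            (s' ⊗ₜ[Y.presheaf.stalk (f.base x), (f.stalkMap x).hom] w :
              (ModuleCat.extendScalars.{u, u, u} (f.stalkMap x).hom).obj Q) =
            s' • η' (f.stalkMap x).hom Q w := fun Q w => tmul_eq_smul_η' _ Q s' w
        have hu' : ∀ (P : Y.Modules) (w : Γ(P, U)),
            ((stalkPullbackIso f x).app P).inv.hom
              (η' (f.stalkMap x).hom _ (gm (f.base x) P U hx w)) =
            gm x ((Scheme.Modules.pullback f).obj P) (f ⁻¹ᵁ U) hx (unitSec f P U w) := hu
        have e1 : K.toAddMonoidHom (s ⊗ₜ (M.presheaf.germ U (f.base x) hx m ⊗ₜ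
            N.presheaf.germ U (f.base x) hx n)) =
            (s' • gm x ((Scheme.Modules.pullback f).obj M) (f ⁻¹ᵁ U) hx
              (unitSec f M U m)) ⊗ₜ
              gm x ((Scheme.Modules.pullback f).obj N) (f ⁻¹ᵁ U) hx (unitSec f N U n) := by
          refine (hK s _ _).trans ?_
          exact congrArg₂ (fun p q => (s' • p) ⊗ₜ[X.presheaf.stalk x] q)
            (hu M m) (hu N n)
        refine e1.trans (Eq.symm ?_)
        change c.hom.hom (((DerSch.stalkFunctor X x).map (pbT f M N)).hom (a.inv.hom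
          (s' ⊗ₜ[Y.presheaf.stalk (f.base x), (f.stalkMap x).hom]
            (b.inv.hom (gm (f.base x) M U hx m ⊗ₜ gm (f.base x) N U hx n))))) = _
        rw [tau_inv_gm_tmul, key, map_smul, hu', map_smul]
        have e2 : ((DerSch.stalkFunctor X x).map (pbT f M N)).hom
            (gm x ((Scheme.Modules.pullback f).obj (CohB1.tensorMod M N)) (f ⁻¹ᵁ U) hx
              (unitSec f (CohB1.tensorMod M N) U (SecTwist.tmul M N U m n))) =
            gm x T (f ⁻¹ᵁ U) hx ((pbT f M N).app (f ⁻¹ᵁ U)
              (unitSec f (CohB1.tensorMod M N) U (SecTwist.tmul M N U m n))) :=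
          DerSch.stalkFunctor_map_germ x _ (f ⁻¹ᵁ U) hx _
        rw [e2, pbT_unitSec]
        exact (map_smul c.hom.hom s' _).trans
          ((congrArg (s' • ·) (tau_germ_tmul x _ _ (f ⁻¹ᵁ U) hx _ _)).trans
            (TensorProduct.smul_tmul' _ _ _))
  have hg : Function.Bijective g := by
    rw [← hfg]
    exact K.bijective
  have hc : Function.Bijective c.hom.hom :=
    (ConcreteCategory.isIso_iff_bijective c.hom).1 inferInstance
  have ha : Function.Bijective a.inv.hom :=
    (ConcreteCategory.isIso_iff_bijective a.inv).1 inferInstance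
  have hb : Function.Bijective
      ((ModuleCat.extendScalars.{u, u, u} (f.stalkMap x).hom).map b.inv).hom :=
    (ConcreteCategory.isIso_iff_bijective
      ((ModuleCat.extendScalars.{u, u, u} (f.stalkMap x).hom).map b.inv)).1 inferInstance
  rw [ConcreteCategory.isIso_iff_bijective]
  have h1 : Function.Bijective (fun z => ((DerSch.stalkFunctor X x).map (pbT f M N)).hom
      (a.inv.hom (((ModuleCat.extendScalars.{u, u, u} (f.stalkMap x).hom).map b.inv).hom z))) :=
    (Function.Bijective.of_comp_iff' hc _).1 hg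
  have h2 : Function.Bijective (fun z => ((DerSch.stalkFunctor X x).map (pbT f M N)).hom
      (a.inv.hom z)) :=
    (Function.Bijective.of_comp_iff _ hb).1 h1
  exact (Function.Bijective.of_comp_iff _ ha).1 h2

/-- **pullback commutes with the tensor product of arbitrary modules** -/
theorem isIso_pbT : IsIso (pbT f M N) := by
  rw [Groth.Agent.H4.FlatPull1.isIso_iff_stalk]
  intro x
  exact isIso_stalk_pbT f M N x

end Main

end Groth.Agent.Helper7.LR18
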