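import Mathlib
import Groth.Prelude.Def_DCoh4
import Groth.Agent.H4.RT2
import Groth.Agent.H4.LDS20
import Groth.Agent.H4.LDS16
import Groth.Agent.H4.LDS19
import Groth.Agent.H4.TC14
import Groth.Agent.Lib.Helper7.LR17
import Groth.Agent.Lib.Helper7.LR18

set_option autoImplicit false
universe u
open CategoryTheory CategoryTheory.Limits AlgebraicGeometry MonoidalCategory
attribute [local instance] HasDerivedCategory.standard

namespace Groth.Agent.Helper7.LR19

open Groth.Agent.LD.QC Groth.Agent.H4.TC3 Groth.Agent.H4.TC4 Groth.Agent.H4.LDS14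
  Groth.Agent.H4.LDS15 Groth.Agent.H4.LDS16 Groth.Agent.H4.LDS19 Groth.Agent.Helper7.LR18

section Ring
variable {R : Type u} [CommRing R]

/-- the tensor product of two K-flat complexes is K-flat -/
lemma kflat_tensor (A B : Cx R) (hA : KFlat A) (hB : KFlat B) : KFlat (A ⊗ B) :=
  fun L hL => Acyc.of_iso (α_ L A B) (hB (L ⊗ A) (hA L hL))

end Ring

section Sch
variable {X Y : Scheme.{u}}

/-- the tensor product of two stalkwise K-flat complexes is stalkwise K-flat -/
lemma skf_tensor (L F : CochainComplex Y.Modules ℤ) (hL : SKF L) (hF : SKF F) :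
    SKF ((DCoh.tensorCx.obj L).obj F) := fun y =>
  KFlat.of_iso (stalkTensorCxIso y L F).symm (kflat_tensor _ _ (hL y) (hF y))

variable (f : X ⟶ Y)

set_option backward.isDefEq.respectTransparency false in
/-- `f^* (M ⊗ N) ≅ f^* M ⊗ f^* N`, typed through the bifunctors -/
noncomputable def tIso (M N : Y.Modules) :
    (Scheme.Modules.pullback f).obj (((DCoh.tensorBi (X := Y)).obj M).obj N) ≅
      ((DCoh.tensorBi (X := X)).obj ((Scheme.Modules.pullback f).obj M)).obj
        ((Scheme.Modules.pullback f).obj N) :=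
  @asIso _ _ _ _ (pbT f M N) (isIso_pbT f M N)

set_option backward.isDefEq.respectTransparency false in
lemma tIso_natural_right (M : Y.Modules) {N N' : Y.Modules} (g : N ⟶ N') :
    (Scheme.Modules.pullback f).map (((DCoh.tensorBi (X := Y)).obj M).map g) ≫ (tIso f M N').hom =
      (tIso f M N).hom ≫ ((DCoh.tensorBi (X := X)).obj ((Scheme.Modules.pullback f).obj M)).map
        ((Scheme.Modules.pullback f).map g) := by
  rw [KoszTw.tensorBi_obj_map, KoszTw.tensorBi_obj_map]
  have h := pbT_natural f (𝟙 M) g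
  rw [CategoryTheory.Functor.map_id] at h
  exact h

set_option backward.isDefEq.respectTransparency false in
lemma tIso_natural_left {M M' : Y.Modules} (a : M ⟶ M') (N : Y.Modules) :
    (Scheme.Modules.pullback f).map (((DCoh.tensorBi (X := Y)).map a).app N) ≫ (tIso f M' N).hom =
      (tIso f M N).hom ≫ ((DCoh.tensorBi (X := X)).map ((Scheme.Modules.pullback f).map a)).app
        ((Scheme.Modules.pullback f).obj N) := by
  rw [KoszTw.tensorBi_map_app, KoszTw.tensorBi_map_app]
  have h := pbT_natural f a (𝟙 N)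
  rw [CategoryTheory.Functor.map_id] at h
  exact h

/-- pullback commutes with the tensor product, as an isomorphism of bifunctors -/
noncomputable def e₃ :
    DCoh.tensorBi (X := Y) ⋙ (Functor.whiskeringRight _ _ _).obj (Scheme.Modules.pullback f) ≅
      Scheme.Modules.pullback f ⋙ DCoh.tensorBi (X := X) ⋙
        (Functor.whiskeringLeft _ _ _).obj (Scheme.Modules.pullback f) :=
  NatIso.ofComponents
    (fun M => NatIso.ofComponents (fun N => tIso f M N)
      (fun g => tIso_natural_right f M g))
    (fun a => by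
      apply NatTrans.ext
      funext N
      exact tIso_natural_left f a N)

/-- pullback commutes with the tensor product of complexes -/
noncomputable def cxIso₃ (A B : CochainComplex Y.Modules ℤ) :
    (DCoh.tensorCx.obj ((pullCx f).obj A)).obj ((pullCx f).obj B) ≅
      (pullCx f).obj ((DCoh.tensorCx.obj A).obj B) :=
  haveI : ∀ J : Type, PreservesColimitsOfShape (Discrete J) (Scheme.Modules.pullback f) :=
    fun J => by
      haveI : PreservesColimitsOfSize.{0, 0} (Scheme.Modules.pullback f) :=
        (Scheme.Modules.pullbackPushforwardAdjunction f).leftAdjoint_preservesColimits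
      infer_instance
  Groth.Agent.H4.TC14.mapBifunctorMapIso (e₃ f) A B

theorem s0960 [DCoh.HasLpull f] (L : CochainComplex Y.Modules ℤ)
    (hL : DCoh.IsKFlat L) [DCoh.HasLTensorCx L] [DCoh.HasLTensorCx (((Scheme.Modules.pullback f).mapHomologicalComplex (ComplexShape.up ℤ)).obj L)] (K : DCoh.D Y) :
    Nonempty ((DCoh.Lpull f).obj ((DCoh.LTensorCx L).obj K) ≅
      (DCoh.LTensorCx (((Scheme.Modules.pullback f).mapHomologicalComplex (ComplexShape.up ℤ)).obj L)).obj ((DCoh.Lpull f).obj K)) := by
  let K' : CochainComplex Y.Modules ℤ := DerivedCategory.Q.objPreimage K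
  let eK' : DerivedCategory.Q.obj K' ≅ K := DerivedCategory.Q.objObjPreimageIso K
  obtain ⟨F, c, hc, hF, -⟩ := exists_skf_resolution K'
  haveI : QuasiIso c := hc
  let eK : DerivedCategory.Q.obj F ≅ K := asIso (DerivedCategory.Q.map c) ≪≫ eK'
  have hLs : SKF L := skf_of_isKFlat L hL
  obtain ⟨i1⟩ := Groth.Agent.Helper7.LR17.ltensor_iso L hL F
  obtain ⟨i2⟩ := Groth.Agent.Helper7.LR17.ltensor_iso ((pullCx f).obj L)
    (Groth.Agent.H4.LDS20.S0952 f L hL) ((pullCx f).obj F)
  let i3 := lpullObjIso f ((DCoh.tensorCx.obj F).obj L) (skf_tensor F L hF hLs)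
  let i4 := lpullObjIso f F hF
  exact ⟨(DCoh.Lpull f).mapIso ((DCoh.LTensorCx L).mapIso eK.symm ≪≫ i1) ≪≫ i3 ≪≫
    DerivedCategory.Q.mapIso (cxIso₃ f F L).symm ≪≫ i2.symm ≪≫
    (DCoh.LTensorCx _).mapIso (i4.symm ≪≫ (DCoh.Lpull f).mapIso eK)⟩

end Sch

end Groth.Agent.Helper7.LR19
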