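import Groth.Agent.Lib.Helper7.LR2
import Groth.Agent.Lib.Helper6.RlimDer1

/-!
# `Rf_*` commutes with derived limits (schemes), `Lf^*` commutes with coproducts
-/

set_option autoImplicit false

open CategoryTheory CategoryTheory.Limits AlgebraicGeometry

namespace Groth.Agent.Helper7.LR3

open Groth.Agent.H4 Groth.Agent.H6 Groth.Agent.H6.RlimDer DerivedCategory CochainComplex
  Pretriangulated

universe w w' v v' u u'

section Main

variable {A : Type u} [Category.{v} A] [Abelian A] [IsGrothendieckAbelian.{v} A]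
  [HasDerivedCategory.{w} A] [HasLimitsOfShape (Discrete ℕ) A]
  {B : Type u'} [Category.{v'} B] [Abelian B] [HasDerivedCategory.{w'} B]
  [HasLimitsOfShape (Discrete ℕ) B]
  (F : A ⥤ B) [F.Additive] [PreservesLimitsOfShape (Discrete ℕ) F]
  (RF : DerivedCategory A ⥤ DerivedCategory B)
  (α : F.mapHomologicalComplex (ComplexShape.up ℤ) ⋙ Q ⟶ Q ⋙ RF)
  [RF.IsRightDerivedFunctor α (HomologicalComplex.quasiIso A (ComplexShape.up ℤ))]
  [PreservesLimitsOfShape (Discrete ℕ) RF]

include α in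
/-- a right derived functor which preserves countable products commutes with derived limits
(variant of helper6's `RlimDer.main_cx` without exactness of products in the target). -/
theorem main_cx' (K : ℕ → DerivedCategory A) (t : ∀ n, K (n + 1) ⟶ K n) [HasProduct K]
    [HasProduct fun n => RF.obj (K n)]
    (L : DerivedCategory A) (hL : DCoh.IsRlim K t L) :
    DCoh.IsRlim (fun n => RF.obj (K n)) (fun n => RF.map (t n)) (RF.obj L) := by
  have h : ∀ n, ∃ (I : CochainComplex A ℤ), I.IsKInjective ∧ Nonempty (Q.obj I ≅ K n) := by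
    intro n
    obtain ⟨I, hI, -, e⟩ := DProdG.exists_kInjective_iso (K n)
    exact ⟨I, hI, e⟩
  choose I hI e using h
  replace e := fun n => (e n).some
  have hτ : ∀ n, ∃ τ : I (n + 1) ⟶ I n, Q.map τ = (e (n + 1)).hom ≫ t n ≫ (e n).inv :=
    fun n => H2.DProd.exists_Q_map_eq _
  choose τ hτ using hτ
  obtain ⟨i1⟩ := exists_iso_cocone I τ K t L hL e hτ
  let Fc := F.mapHomologicalComplex (ComplexShape.up ℤ)
  have hα : ∀ (M : CochainComplex A ℤ) [M.IsKInjective], IsIso (α.app M) :=
    fun M _ => DerAdj.isIso_unit_app RF α M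
  haveI := fun n => hα (I n)
  haveI := hα (mappingCocone (φ I τ))
  haveI := hα (∏ᶜ I)
  have h1 : IsLimit (Fan.mk (RF.obj (Q.obj (∏ᶜ I))) (fun n => RF.map (Q.map (Pi.π I n)))) :=
    isLimitFanMkObjOfIsLimit RF _ _ (H2.DProd.isLimitFan I)
  have nat : ∀ n, α.app (∏ᶜ I) ≫ RF.map (Q.map (Pi.π I n)) =
      Q.map (Fc.map (Pi.π I n)) ≫ α.app (I n) := fun n => (α.naturality (Pi.π I n)).symm
  have hQ : IsLimit (Fan.mk (Q.obj (Fc.obj (∏ᶜ I))) (fun n => Q.map (Fc.map (Pi.π I n)))) :=
    Fan.IsLimit.mk _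
      (fun t => Fan.IsLimit.lift h1 (fun n => t.proj n ≫ α.app (I n)) ≫ inv (α.app (∏ᶜ I)))
      (fun t n => by
        have h2 : inv (α.app (∏ᶜ I)) ≫ Q.map (Fc.map (Pi.π I n)) =
            RF.map (Q.map (Pi.π I n)) ≫ inv (α.app (I n)) := by
          rw [IsIso.inv_comp_eq, ← Category.assoc, IsIso.eq_comp_inv]
          exact (nat n).symm
        change (_ ≫ _) ≫ Q.map (Fc.map (Pi.π I n)) = _
        rw [Category.assoc, h2, ← Category.assoc]
        have h3 := Fan.IsLimit.fac h1 (fun n => t.proj n ≫ α.app (I n)) n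
        change _ ≫ RF.map (Q.map (Pi.π I n)) = _ at h3
        rw [h3, Category.assoc, IsIso.hom_inv_id, Category.comp_id])
      (fun t m hm => by
        rw [IsIso.eq_comp_inv]
        apply Fan.IsLimit.hom_ext h1
        intro n
        have h3 := Fan.IsLimit.fac h1 (fun n => t.proj n ≫ α.app (I n)) n
        change _ ≫ RF.map (Q.map (Pi.π I n)) = _ at h3
        change (m ≫ α.app (∏ᶜ I)) ≫ RF.map (Q.map (Pi.π I n)) =
          _ ≫ RF.map (Q.map (Pi.π I n))
        rw [h3, Category.assoc, nat n, ← Category.assoc]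
        congr 1
        exact hm n)
  let ρ : ∀ n, RF.obj (K n) ≅ Q.obj (Fc.obj (I n)) := fun n =>
    RF.mapIso (e n).symm ≪≫ (asIso (α.app (I n))).symm
  let wB : Discrete.functor (fun n => RF.obj (K n)) ≅
      Discrete.functor (fun n => Q.obj (Fc.obj (I n))) :=
    Discrete.natIso (fun j => ρ j.as)
  let EB : (∏ᶜ fun n => RF.obj (K n)) ≅ Q.obj (Fc.obj (∏ᶜ I)) :=
    IsLimit.conePointsIsoOfNatIso (limit.isLimit _) hQ wB
  have hEB : ∀ n, EB.hom ≫ Q.map (Fc.map (Pi.π I n)) =
      Pi.π (fun n => RF.obj (K n)) n ≫ (ρ n).hom := fun n =>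
    IsLimit.conePointsIsoOfNatIso_hom_comp (limit.isLimit _) hQ wB ⟨n⟩
  have hρ : ∀ n, (ρ (n + 1)).hom ≫ Q.map (Fc.map (τ n)) = RF.map (t n) ≫ (ρ n).hom := by
    intro n
    have nat := α.naturality (τ n)
    dsimp at nat
    have key : inv (α.app (I (n + 1))) ≫ Q.map (Fc.map (τ n)) =
        RF.map (Q.map (τ n)) ≫ inv (α.app (I n)) := by
      rw [IsIso.inv_comp_eq, ← Category.assoc, IsIso.eq_comp_inv]
      exact nat
    dsimp [ρ]
    rw [Category.assoc, key, hτ]
    simp only [Functor.map_comp, Category.assoc, Iso.map_inv_hom_id_assoc]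
  refine isRlim_of_iso _ _ _ (Q.mapTriangle.obj (mappingCocone.triangle (Fc.map (φ I τ))))
    (mappingCocone_triangle_distinguished _)
    (RF.mapIso i1 ≪≫ (asIso (α.app (mappingCocone (φ I τ)))).symm ≪≫
      Q.mapIso (coconeIso F (φ I τ))) EB EB ?_
  apply Fan.IsLimit.hom_ext hQ
  intro n
  change (_ ≫ EB.hom) ≫ Q.map (Fc.map (Pi.π I n)) =
    (EB.hom ≫ Q.map (Fc.map (φ I τ))) ≫ Q.map (Fc.map (Pi.π I n))
  rw [Category.assoc, Category.assoc, hEB, ← Q.map_comp, ← Fc.map_comp, φ_π, Functor.map_sub,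
    Functor.map_sub, Functor.map_comp, Functor.map_comp, Preadditive.comp_sub, hEB,
    reassoc_of% (hEB (n + 1)), hρ, Limits.Pi.lift_π_assoc, Preadditive.sub_comp, Category.assoc]

/-- homotopy-level version for the total right derived functor. -/
theorem main' {A : Type u} [Category.{v} A] [Abelian A] [IsGrothendieckAbelian.{v} A]
    [HasDerivedCategory.{w} A] {B : Type u'} [Category.{v'} B] [Abelian B]
    [HasDerivedCategory.{w'} B] [HasProductsOfShape ℕ B]
    (F : A ⥤ B) [F.Additive] [PreservesLimitsOfShape (Discrete ℕ) F]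
    [(F.mapHomotopyCategory (ComplexShape.up ℤ) ⋙ DerivedCategory.Qh).HasRightDerivedFunctor
      (HomotopyCategory.quasiIso A (ComplexShape.up ℤ))]
    [PreservesLimitsOfShape (Discrete ℕ) ((F.mapHomotopyCategory (ComplexShape.up ℤ) ⋙
      DerivedCategory.Qh).totalRightDerived
      DerivedCategory.Qh (HomotopyCategory.quasiIso A (ComplexShape.up ℤ)))]
    (K : ℕ → DerivedCategory A) (t : ∀ n, K (n + 1) ⟶ K n) (L : DerivedCategory A) [HasProduct K]
    [HasProduct fun n => ((F.mapHomotopyCategory (ComplexShape.up ℤ) ⋙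
      DerivedCategory.Qh).totalRightDerived
      DerivedCategory.Qh (HomotopyCategory.quasiIso A (ComplexShape.up ℤ))).obj (K n)]
    (hL : DCoh.IsRlim K t L) :
    DCoh.IsRlim
      (fun n => ((F.mapHomotopyCategory (ComplexShape.up ℤ) ⋙
        DerivedCategory.Qh).totalRightDerived
        DerivedCategory.Qh (HomotopyCategory.quasiIso A (ComplexShape.up ℤ))).obj (K n))
      (fun n => ((F.mapHomotopyCategory (ComplexShape.up ℤ) ⋙
        DerivedCategory.Qh).totalRightDerived
        DerivedCategory.Qh (HomotopyCategory.quasiIso A (ComplexShape.up ℤ))).map (t n))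
      (((F.mapHomotopyCategory (ComplexShape.up ℤ) ⋙ DerivedCategory.Qh).totalRightDerived
        DerivedCategory.Qh (HomotopyCategory.quasiIso A (ComplexShape.up ℤ))).obj L) := by
  haveI : HasLimitsOfShape (Discrete ℕ) A := inferInstance
  haveI := DerAdj.isRightDerivedFunctor_cx_of_h (DerAdj.Gh F)
    ((DerAdj.Gh F).totalRightDerived Qh (HomotopyCategory.quasiIso A (ComplexShape.up ℤ))) _
    (DerAdj.eG F)
    ((DerAdj.Gh F).totalRightDerivedUnit Qh (HomotopyCategory.quasiIso A (ComplexShape.up ℤ)))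
  exact main_cx' F _ ((DerAdj.eG F).hom ≫ DerAdj.unitCx (DerAdj.Gh F) _
    ((DerAdj.Gh F).totalRightDerivedUnit Qh (HomotopyCategory.quasiIso A (ComplexShape.up ℤ))))
    K t L hL

end Main

end Groth.Agent.Helper7.LR3
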