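import Groth.Agent.Lib.Helper7.LR1

/-!
# Morphisms from adapted objects to `G(I)`, `I` K-injective, are computed in the homotopy category
-/

set_option autoImplicit false

namespace Groth.Agent.Helper7.LR8

open CategoryTheory Limits Category Pretriangulated ObjectProperty
open Groth.Agent.H4 Groth.Agent.H4.LDS3 Groth.Agent.H6 Groth.Agent.Helper7.LR1

variable {A B : Type*} [Category A] [Category B] [Abelian A] [Abelian B]
  [HasDerivedCategory A] [HasDerivedCategory B]
  {F : A ⥤ B} {G : B ⥤ A} (adj : F ⊣ G) [F.Additive] [G.Additive]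
  {Pc : CochainComplex A ℤ → Prop} (h : Adm Pc) (hres : HasResCx Pc)
  (hF : ∀ E : CochainComplex A ℤ, Pc E → E.Acyclic →
      ((F.mapHomologicalComplex (ComplexShape.up ℤ)).obj E).Acyclic)
  [KInjDS.HasKInjRes B]
  (LF : DerivedCategory A ⥤ DerivedCategory B) (α : DerivedCategory.Qh ⋙ LF ⟶ Gh F)
  [LF.IsLeftDerivedFunctor α (HomotopyCategory.quasiIso A (ComplexShape.up ℤ))]
  (RG : DerivedCategory B ⥤ DerivedCategory A) (β : Gh G ⟶ DerivedCategory.Qh ⋙ RG)
  [RG.IsRightDerivedFunctor β (HomotopyCategory.quasiIso B (ComplexShape.up ℤ))]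

lemma counit_fac (X₂ : HomotopyCategory B (ComplexShape.up ℤ)) :
    LF.map (β.app X₂) ≫ (derivedAdj adj h hres hF LF α RG β).counit.app (DerivedCategory.Qh.obj X₂) =
      α.app ((G.mapHomotopyCategory (ComplexShape.up ℤ)).obj X₂) ≫
        DerivedCategory.Qh.map ((adjH adj).counit.app X₂) := by
  haveI := isLeftDerivedFunctor_comp h hres F hF DerivedCategory.Qh LF α RG
  haveI := isRightDerivedFunctor_comp (G := G) h hres hF RG β LF
  exact Adjunction.derivedε_fac_app (adjH adj) (HomotopyCategory.quasiIso B (ComplexShape.up ℤ))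
    α β X₂

lemma key (T : HomotopyCategory A (ComplexShape.up ℤ))
    (X₂ : HomotopyCategory B (ComplexShape.up ℤ))
    (u : T ⟶ (G.mapHomotopyCategory (ComplexShape.up ℤ)).obj X₂) :
    ((derivedAdj adj h hres hF LF α RG β).homEquiv _ _).symm
        (DerivedCategory.Qh.map u ≫ β.app X₂) =
      α.app T ≫ DerivedCategory.Qh.map (((adjH adj).homEquiv _ _).symm u) := by
  rw [Adjunction.homEquiv_counit, Adjunction.homEquiv_counit, Functor.map_comp, Category.assoc,
    counit_fac adj h hres hF LF α RG β X₂, Functor.map_comp]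
  have hn := α.naturality u
  simp only [Functor.comp_map] at hn
  rw [← Category.assoc, hn, Category.assoc]

include adj h hres hF RG β in
/-- for `T` adapted (the counit `α` is an isomorphism at `T`) and `I` K-injective, the
localization functor induces a bijection `Hom_K(T, G I) ≃ Hom_D(T, G I)`. -/
theorem qh_map_bijective (T : HomotopyCategory A (ComplexShape.up ℤ)) [IsIso (α.app T)]
    (I : CochainComplex B ℤ) [I.IsKInjective] :
    Function.Bijective (DerivedCategory.Qh.map :
      (T ⟶ (G.mapHomotopyCategory (ComplexShape.up ℤ)).obj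
        ((HomotopyCategory.quotient B (ComplexShape.up ℤ)).obj I)) → _) := by
  set I' := (HomotopyCategory.quotient B (ComplexShape.up ℤ)).obj I with hI'
  haveI : IsIso (β.app I') := KInjDS.isIso_app_of_isKInjective (Gh G) DerivedCategory.Qh β I
  let adj' := derivedAdj adj h hres hF LF α RG β
  let e₂ : (DerivedCategory.Qh.obj T ⟶
      DerivedCategory.Qh.obj ((G.mapHomotopyCategory (ComplexShape.up ℤ)).obj I')) ≃
      (LF.obj (DerivedCategory.Qh.obj T) ⟶ DerivedCategory.Qh.obj I') :=
    (Iso.homCongr (Iso.refl _) (asIso (β.app I'))).trans (adj'.homEquiv _ _).symm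
  rw [← Function.Bijective.of_comp_iff' e₂.bijective]
  have hcomp : (e₂ ∘ (DerivedCategory.Qh.map :
      (T ⟶ (G.mapHomotopyCategory (ComplexShape.up ℤ)).obj I') → _)) =
      (fun v => α.app T ≫ v) ∘ (DerivedCategory.Qh.map :
        ((F.mapHomotopyCategory (ComplexShape.up ℤ)).obj T ⟶ I') → _) ∘
        ((adjH adj).homEquiv T I').symm := by
    funext u
    simp only [Function.comp_apply, e₂, Equiv.trans_apply, Iso.homCongr_apply, Iso.refl_inv,
      Category.id_comp, asIso_hom]
    exact key adj h hres hF LF α RG β T I' u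
  rw [hcomp]
  refine Function.Bijective.comp ?_ (Function.Bijective.comp ?_ (Equiv.bijective _))
  · constructor
    · intro v w hvw
      exact (cancel_epi (α.app T)).1 hvw
    · intro v
      exact ⟨inv (α.app T) ≫ v, by simp⟩
  · exact CochainComplex.IsKInjective.Qh_map_bijective _ I

end Groth.Agent.Helper7.LR8
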