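import Groth.Agent.Lib.Helper7.LR8
import Groth.Agent.Lib.Helper7.LR2
import Groth.Agent.Lib.Helper7.LR4
import Groth.Agent.Lib.Lead.FQ.FlatQuot
import Groth.Agent.Lib.Helper6.RpRes1

/-!
# `Hom_K(O_Y[-n], f_* I) = Hom_D(O_Y[-n], f_* I)` for `I` K-injective
-/

set_option autoImplicit false
universe u

open CategoryTheory CategoryTheory.Limits AlgebraicGeometry
attribute [local instance] HasDerivedCategory.standard

namespace Groth.Agent.Helper7.LR9

open Groth.Agent.H4 Groth.Agent.H6 DerivedCategory

variable {X Y : Scheme.{u}}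

/-- the module `j_! O` for the identity open immersion of `⊤`: it corepresents global sections -/
noncomputable abbrev TT (Y : Scheme.{u}) : Y.Modules := CxOX.extZeroUnit (⊤ : Y.Opens).ι

/-- the complex with `TT Y` in degree `n` -/
noncomputable abbrev EE (Y : Scheme.{u}) (n : ℤ) : CochainComplex Y.Modules ℤ :=
  (HomologicalComplex.single Y.Modules (ComplexShape.up ℤ) n).obj (TT Y)

lemma skf_EE (Y : Scheme.{u}) (n : ℤ) : LDS14.SKF (EE Y n) := by
  intro y
  have hfl : ∀ i, ModSite.IsFlat (O := Y.sheaf) ((EE Y n).X i) := by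
    intro i
    by_cases hi : i = n
    · subst hi
      exact Groth.Agent.LD.FQ.isFlat_of_iso
        (HomologicalComplex.singleObjXSelf (ComplexShape.up ℤ) i (TT Y)).symm
        (Groth.Agent.LD.FQ.isFlat_extZeroUnit (⊤ : Y.Opens))
    · exact Groth.Agent.H4.GKS5.isFlat_of_isZero Y.sheaf _
        (HomologicalComplex.isZero_single_obj_X (ComplexShape.up ℤ) n (TT Y) i hi)
  refine Groth.Agent.H4.TC6.kflat_of_boundedAbove (P := (Groth.Agent.H4.SPt6.stalkCx y).obj (EE Y n)) n
    (fun i hi => ?_) (fun i => ?_)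
  · exact (DerSch.stalkFunctor Y y).map_isZero
      (HomologicalComplex.isZero_single_obj_X (ComplexShape.up ℤ) n (TT Y) i (by omega))
  · exact (Groth.Agent.H4.SFlat6.isFlat_iff_stalkwise ((EE Y n).X i)).1 (hfl i) y

/-- the key bijection -/
theorem qh_map_bijective (f : X ⟶ Y) (n : ℤ) (I : CochainComplex X.Modules ℤ) [I.IsKInjective] :
    Function.Bijective (DerivedCategory.Qh.map :
      ((HomotopyCategory.quotient Y.Modules (ComplexShape.up ℤ)).obj (EE Y n) ⟶
        ((Scheme.Modules.pushforward f).mapHomotopyCategory (ComplexShape.up ℤ)).obj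
          ((HomotopyCategory.quotient X.Modules (ComplexShape.up ℤ)).obj I)) → _) := by
  haveI := LDS14.hasLpull f
  haveI := LR4.hasRpush f
  haveI : IsIso (((DCoh.pullKh f).totalLeftDerivedCounit DerivedCategory.Qh
      (HomotopyCategory.quasiIso Y.Modules (ComplexShape.up ℤ))).app
      ((HomotopyCategory.quotient Y.Modules (ComplexShape.up ℤ)).obj (EE Y n))) :=
    LDS3.isIso_counit_app (Scheme.Modules.pullback f) LDS14.adm_skf LDS14.hasResCx_skf
      (fun E hE hac => LDS14.acyclic_pullback f E hE hac) DerivedCategory.Qh (DCoh.Lpull f) _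
      (EE Y n) (skf_EE Y n)
  exact LR8.qh_map_bijective (Scheme.Modules.pullbackPushforwardAdjunction f) LDS14.adm_skf
    LDS14.hasResCx_skf (fun E hE hac => LDS14.acyclic_pullback f E hE hac)
    (DCoh.Lpull f)
    ((DCoh.pullKh f).totalLeftDerivedCounit DerivedCategory.Qh
      (HomotopyCategory.quasiIso Y.Modules (ComplexShape.up ℤ)))
    (DCoh.Rpush f)
    ((DCoh.pushKh f).totalRightDerivedUnit DerivedCategory.Qh
      (HomotopyCategory.quasiIso X.Modules (ComplexShape.up ℤ)))
    _ I

end Groth.Agent.Helper7.LR9
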