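import Mathlib
import Groth.Prelude.Def_LiftSq

/-!
# Helper7: LiftSq — lifting squares compose (formal 2-categorical)
-/

set_option autoImplicit false

open CategoryTheory

namespace Groth.Agent.H7.LSq

universe v₆ u₆ v₅ u₅ v₄ u₄ v₃ u₃ v₂ u₂ v u

variable {C : Type u} [Category.{v} C]
  {𝒜 : BasedCategory.{v₂, u₂} C} {ℬ : BasedCategory.{v₃, u₃} C}
  {𝒳 : BasedCategory.{v₄, u₄} C} {𝒴 : BasedCategory.{v₅, u₅} C} {𝒵 : BasedCategory.{v₆, u₆} C}

theorem whiskerLeft_whiskerRight (j : 𝒜 ⥤ᵇ ℬ) {G H : ℬ ⥤ᵇ 𝒳} (α : G ⟶ H) (f : 𝒳 ⥤ᵇ 𝒴) :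
    BasedCategory.whiskerLeft j (BasedCategory.whiskerRight α f) =
      BasedCategory.whiskerRight (BasedCategory.whiskerLeft j α) f := by
  apply BasedNatTrans.homCategory.ext; ext; rfl

theorem whiskerRight_comp_fun {G H : ℬ ⥤ᵇ 𝒳} (α : G ⟶ H) (f : 𝒳 ⥤ᵇ 𝒴) (g : 𝒴 ⥤ᵇ 𝒵) :
    BasedCategory.whiskerRight α (BasedFunctor.comp f g) =
      BasedCategory.whiskerRight (BasedCategory.whiskerRight α f) g := by
  apply BasedNatTrans.homCategory.ext; ext; rfl

/-- right whiskering of a 2-isomorphism -/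
def wrIso {F G : 𝒜 ⥤ᵇ ℬ} (α : F ≅ G) (H : ℬ ⥤ᵇ 𝒳) :
    BasedFunctor.comp F H ≅ BasedFunctor.comp G H where
  hom := BasedCategory.whiskerRight α.hom H
  inv := BasedCategory.whiskerRight α.inv H
  hom_inv_id := by rw [← LiftSq.whiskerRight_comp', α.hom_inv_id, LiftSq.whiskerRight_id']
  inv_hom_id := by rw [← LiftSq.whiskerRight_comp', α.inv_hom_id, LiftSq.whiskerRight_id']

/-- left whiskering of a 2-isomorphism -/
def wlIso (F : 𝒜 ⥤ᵇ ℬ) {G H : ℬ ⥤ᵇ 𝒳} (α : G ≅ H) :
    BasedFunctor.comp F G ≅ BasedFunctor.comp F H where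
  hom := BasedCategory.whiskerLeft F α.hom
  inv := BasedCategory.whiskerLeft F α.inv
  hom_inv_id := by rw [← LiftSq.whiskerLeft_comp', α.hom_inv_id, LiftSq.whiskerLeft_id']
  inv_hom_id := by rw [← LiftSq.whiskerLeft_comp', α.inv_hom_id, LiftSq.whiskerLeft_id']

variable {j : 𝒜 ⥤ᵇ ℬ} {f : 𝒳 ⥤ᵇ 𝒴} {g : 𝒴 ⥤ᵇ 𝒵}

/-- In a square with the uniqueness property every morphism of dotted arrows is invertible. -/
theorem exists_iso_of_uniq {sq : LiftSq.Sq j f} (h : sq.UniqLift) {d d' : sq.Lift} (φ : d ⟶ d') :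
    ∃ e : d.fn ≅ d'.fn, e.hom = φ.hom := by
  obtain ⟨u⟩ := h d' d
  obtain ⟨u1⟩ := h d d
  obtain ⟨u2⟩ := h d' d'
  let ψ : d' ⟶ d := u.default
  have h1 : φ ≫ ψ = 𝟙 d := (u1.uniq _).trans (u1.uniq _).symm
  have h2 : ψ ≫ φ = 𝟙 d' := (u2.uniq _).trans (u2.uniq _).symm
  exact ⟨⟨φ.hom, ψ.hom, congrArg LiftSq.Sq.Lift.Hom.hom h1, congrArg LiftSq.Sq.Lift.Hom.hom h2⟩, rfl⟩

/-- the `(j, g)`-square induced by a `(j, f ⋙ g)`-square -/
abbrev sqG (sq : LiftSq.Sq j (BasedFunctor.comp f g)) : LiftSq.Sq j g where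
  top := BasedFunctor.comp sq.top f
  bot := sq.bot
  iso := sq.iso

/-- the `(j, f)`-square induced by a dotted arrow of `sqG sq` -/
abbrev sqF (sq : LiftSq.Sq j (BasedFunctor.comp f g)) (d : (sqG sq).Lift) : LiftSq.Sq j f where
  top := sq.top
  bot := d.fn
  iso := d.isoTop

/-- composite dotted arrow -/
def compLift (sq : LiftSq.Sq j (BasedFunctor.comp f g)) (d : (sqG sq).Lift)
    (e : (sqF sq d).Lift) : sq.Lift where
  fn := e.fn
  isoTop := e.isoTop
  isoBot := d.isoBot ≪≫ wrIso e.isoBot g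
  w := by
    apply BasedNatTrans.homCategory.ext; ext x
    have h1 := congrArg (fun t => t.toNatTrans.app x) d.w
    have h2 := congrArg (fun t => t.toNatTrans.app x) e.w
    simp only [wrIso, Iso.trans_hom, BasedNatTrans.homCategory_comp, BasedNatTrans.comp_toNatTrans,
      NatTrans.vcomp_app, BasedCategory.whiskerLeft_toNatTrans, BasedCategory.whiskerRight_toNatTrans,
      Functor.whiskerLeft_app, Functor.whiskerRight_app] at h1 h2 ⊢
    rw [← h1, ← h2, Functor.map_comp]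
    exact Category.assoc _ _ _

/-- a dotted arrow of a `(j, f ⋙ g)`-square gives one of the `(j, g)`-square -/
def liftG {sq : LiftSq.Sq j (BasedFunctor.comp f g)} (d : sq.Lift) : (sqG sq).Lift where
  fn := BasedFunctor.comp d.fn f
  isoTop := wrIso d.isoTop f
  isoBot := d.isoBot
  w := by
    have := d.w
    rwa [whiskerRight_comp_fun] at this

/-- a morphism of dotted arrows of a `(j, f ⋙ g)`-square gives one of the `(j, g)`-square -/
def mapG {sq : LiftSq.Sq j (BasedFunctor.comp f g)} {d d' : sq.Lift} (θ : d ⟶ d') :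
    liftG d ⟶ liftG d' where
  hom := BasedCategory.whiskerRight θ.hom f
  w_top := by
    have h := θ.w_top
    apply BasedNatTrans.homCategory.ext; ext x
    have h1 := congrArg (fun t => t.toNatTrans.app x) h
    simp only [liftG, wrIso, BasedNatTrans.homCategory_comp, BasedNatTrans.comp_toNatTrans,
      NatTrans.vcomp_app, BasedCategory.whiskerLeft_toNatTrans, BasedCategory.whiskerRight_toNatTrans,
      Functor.whiskerLeft_app, Functor.whiskerRight_app] at h1 ⊢
    rw [← h1, Functor.map_comp]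
    rfl
  w_bot := by
    have h := θ.w_bot
    rwa [whiskerRight_comp_fun] at h

/-- the auxiliary `(j, f)`-square used for uniqueness -/
abbrev sqF' {sq : LiftSq.Sq j (BasedFunctor.comp f g)} (d : sq.Lift) : LiftSq.Sq j f where
  top := sq.top
  bot := BasedFunctor.comp d.fn f
  iso := wrIso d.isoTop f

/-- `d` as a dotted arrow of `sqF' d` -/
def lift1 {sq : LiftSq.Sq j (BasedFunctor.comp f g)} (d : sq.Lift) : (sqF' d).Lift where
  fn := d.fn
  isoTop := d.isoTop
  isoBot := Iso.refl _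
  w := by
    apply BasedNatTrans.homCategory.ext; ext x
    simp only [wrIso, Iso.refl_hom, BasedNatTrans.homCategory_comp, BasedNatTrans.comp_toNatTrans,
      NatTrans.vcomp_app, BasedCategory.whiskerLeft_toNatTrans, BasedCategory.whiskerRight_toNatTrans,
      Functor.whiskerLeft_app, Functor.whiskerRight_app, BasedNatTrans.homCategory_id,
      BasedNatTrans.id_toNatTrans]
    exact Category.id_comp _

/-- `d'` as a dotted arrow of `sqF' d`, given a suitable isomorphism `d.fn ⋙ f ≅ d'.fn ⋙ f` -/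
def lift2 {sq : LiftSq.Sq j (BasedFunctor.comp f g)} (d d' : sq.Lift)
    (φ : BasedFunctor.comp d.fn f ≅ BasedFunctor.comp d'.fn f)
    (hφ : BasedCategory.whiskerLeft j φ.hom ≫ BasedCategory.whiskerRight d'.isoTop.hom f =
      BasedCategory.whiskerRight d.isoTop.hom f) : (sqF' d).Lift where
  fn := d'.fn
  isoTop := d'.isoTop
  isoBot := φ
  w := hφ

/-- from a morphism `lift1 d ⟶ lift2 d d' φ` to a morphism `d ⟶ d'` -/
def homOf {sq : LiftSq.Sq j (BasedFunctor.comp f g)} (d d' : sq.Lift)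
    (φ : BasedFunctor.comp d.fn f ≅ BasedFunctor.comp d'.fn f)
    (hφ : BasedCategory.whiskerLeft j φ.hom ≫ BasedCategory.whiskerRight d'.isoTop.hom f =
      BasedCategory.whiskerRight d.isoTop.hom f)
    (hb : d.isoBot.hom ≫ BasedCategory.whiskerRight φ.hom g = d'.isoBot.hom)
    (θ : lift1 d ⟶ lift2 d d' φ hφ) : d ⟶ d' where
  hom := θ.hom
  w_top := θ.w_top
  w_bot := by
    have h1 := θ.w_bot
    apply BasedNatTrans.homCategory.ext; ext x
    have h1' := congrArg (fun t => t.toNatTrans.app x) h1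
    have h2' := congrArg (fun t => t.toNatTrans.app x) hb
    simp only [lift1, lift2, Iso.refl_hom, BasedNatTrans.homCategory_comp,
      BasedNatTrans.comp_toNatTrans,
      NatTrans.vcomp_app, BasedCategory.whiskerRight_toNatTrans,
      Functor.whiskerRight_app, BasedNatTrans.homCategory_id,
      BasedNatTrans.id_toNatTrans] at h1' h2' ⊢
    rw [← h2', ← h1']
    exact congrArg (fun t => d.isoBot.hom.app x ≫ g.map t) (Category.id_comp (f.map (θ.hom.app x))).symm

/-- from a morphism `d ⟶ d'` to a morphism `lift1 d ⟶ lift2 d d' φ` when `θ ▷ f = φ` -/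
def toF {sq : LiftSq.Sq j (BasedFunctor.comp f g)} {d d' : sq.Lift}
    (φ : BasedFunctor.comp d.fn f ≅ BasedFunctor.comp d'.fn f)
    (hφ : BasedCategory.whiskerLeft j φ.hom ≫ BasedCategory.whiskerRight d'.isoTop.hom f =
      BasedCategory.whiskerRight d.isoTop.hom f)
    (θ : d ⟶ d') (h : BasedCategory.whiskerRight θ.hom f = φ.hom) :
    lift1 d ⟶ lift2 d d' φ hφ where
  hom := θ.hom
  w_top := θ.w_top
  w_bot := (Category.id_comp _).trans h

theorem liftsUnique_comp (hf : LiftSq.LiftsUnique j f) (hg : LiftSq.LiftsUnique j g) :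
    LiftSq.LiftsUnique j (BasedFunctor.comp f g) := by
  intro sq d d'
  obtain ⟨ug⟩ := hg (sqG sq) (liftG d) (liftG d')
  let φ0 : liftG d ⟶ liftG d' := ug.default
  obtain ⟨e, he⟩ := exists_iso_of_uniq (hg (sqG sq)) φ0
  let φ : BasedFunctor.comp d.fn f ≅ BasedFunctor.comp d'.fn f := e
  have hφ : BasedCategory.whiskerLeft j φ.hom ≫ BasedCategory.whiskerRight d'.isoTop.hom f =
      BasedCategory.whiskerRight d.isoTop.hom f := by
    have := φ0.w_top
    rw [← he] at this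
    exact this
  have hb : d.isoBot.hom ≫ BasedCategory.whiskerRight φ.hom g = d'.isoBot.hom := by
    have := φ0.w_bot
    rw [← he] at this
    exact this
  obtain ⟨uf⟩ := hf (sqF' d) (lift1 d) (lift2 d d' φ hφ)
  let θ : lift1 d ⟶ lift2 d d' φ hφ := uf.default
  refine ⟨⟨⟨homOf d d' φ hφ hb θ⟩, fun θ' => ?_⟩⟩
  have e1 : mapG θ' = φ0 := ug.uniq _
  have e1' : BasedCategory.whiskerRight θ'.hom f = φ.hom :=
    (congrArg (fun t => LiftSq.Sq.Lift.Hom.hom t) e1).trans he.symm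
  have e2 : toF φ hφ θ' e1' = θ := uf.uniq _
  have e3 : θ'.hom = θ.hom := congrArg (fun t => LiftSq.Sq.Lift.Hom.hom t) e2
  exact LiftSq.Sq.Lift.hom_ext e3

theorem lifts_comp (hf : LiftSq.Lifts j f) (hg : LiftSq.Lifts j g) :
    LiftSq.Lifts j (BasedFunctor.comp f g) := by
  intro sq
  obtain ⟨d⟩ := hg (sqG sq)
  obtain ⟨e⟩ := hf (sqF sq d)
  exact ⟨compLift sq d e⟩

theorem liftsUniquely_comp (hf : LiftSq.LiftsUniquely j f) (hg : LiftSq.LiftsUniquely j g) :
    LiftSq.LiftsUniquely j (BasedFunctor.comp f g) := fun sq =>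
  ⟨lifts_comp (fun s => (hf s).1) (fun s => (hg s).1) sq,
    liftsUnique_comp (fun s => (hf s).2) (fun s => (hg s).2) sq⟩

end Groth.Agent.H7.LSq
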