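import Mathlib
import Groth.Prelude.Def_LiftSq
import Groth.Prelude.Def_FibCat2
import Groth.Agent.Lib.Helper7.LSq1

set_option autoImplicit false

open CategoryTheory CategoryTheory.Limits

namespace Groth.Agent.H7.LSq

universe v₉ u₉ v₈ u₈ v₇ u₇ v₆ u₆ v₅ u₅ v₄ u₄ v₃ u₃ v₂ u₂ v u

variable {C : Type u} [Category.{v} C]
  {𝒲 : BasedCategory.{v₂, u₂} C}
  {𝒳 : BasedCategory.{v₄, u₄} C} {𝒴 : BasedCategory.{v₅, u₅} C} {𝒮 : BasedCategory.{v₆, u₆} C}
  (F : 𝒳 ⥤ᵇ 𝒮) (G : 𝒴 ⥤ᵇ 𝒮)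

theorem fpLift_fst (a : 𝒲 ⥤ᵇ 𝒳) (b : 𝒲 ⥤ᵇ 𝒴)
    (e : BasedFunctor.comp a F ≅ BasedFunctor.comp b G) :
    BasedFunctor.comp (FibCat.fpLift a b e) (FibCat.fpFst F G) = a := rfl

theorem fpLift_snd (a : 𝒲 ⥤ᵇ 𝒳) (b : 𝒲 ⥤ᵇ 𝒴)
    (e : BasedFunctor.comp a F ≅ BasedFunctor.comp b G) :
    BasedFunctor.comp (FibCat.fpLift a b e) (FibCat.fpSnd F G) = b := rfl

variable {F G}

/-- 2-morphisms into the 2-fibre product are determined by their two projections -/
theorem fp_hom_ext {a b : 𝒲 ⥤ᵇ FibCat.fp F G} (α β : a ⟶ b)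
    (h1 : ∀ w, (α.toNatTrans.app w).hom.fst = (β.toNatTrans.app w).hom.fst)
    (h2 : ∀ w, (α.toNatTrans.app w).hom.snd = (β.toNatTrans.app w).hom.snd) : α = β := by
  apply BasedNatTrans.homCategory.ext; ext w
  · exact h1 w
  · exact h2 w

/-- construct a 2-morphism into the 2-fibre product from its projections -/
def fpHomMk {a b : 𝒲 ⥤ᵇ FibCat.fp F G}
    (α₁ : BasedFunctor.comp a (FibCat.fpFst F G) ⟶ BasedFunctor.comp b (FibCat.fpFst F G))
    (α₂ : BasedFunctor.comp a (FibCat.fpSnd F G) ⟶ BasedFunctor.comp b (FibCat.fpSnd F G))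
    (h : ∀ w, F.map (α₁.toNatTrans.app w) ≫ (b.obj w).obj.iso.hom =
      (a.obj w).obj.iso.hom ≫ G.map (α₂.toNatTrans.app w)) : a ⟶ b where
  toNatTrans :=
    { app := fun w => ObjectProperty.homMk ⟨α₁.toNatTrans.app w, α₂.toNatTrans.app w, h w⟩
      naturality := fun w w' g => by
        apply ObjectProperty.hom_ext
        apply CategoricalPullback.hom_ext
        · exact α₁.toNatTrans.naturality g
        · exact α₂.toNatTrans.naturality g }
  isHomLift' := fun w => by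
    have := α₁.isHomLift' w
    exact (BasedFunctor.isHomLift_iff (FibCat.fpFst F G) _ _).mp this


@[simp] theorem fpHomMk_fst {a b : 𝒲 ⥤ᵇ FibCat.fp F G}
    (α₁ : BasedFunctor.comp a (FibCat.fpFst F G) ⟶ BasedFunctor.comp b (FibCat.fpFst F G))
    (α₂ : BasedFunctor.comp a (FibCat.fpSnd F G) ⟶ BasedFunctor.comp b (FibCat.fpSnd F G))
    (h : ∀ w, F.map (α₁.toNatTrans.app w) ≫ (b.obj w).obj.iso.hom =
      (a.obj w).obj.iso.hom ≫ G.map (α₂.toNatTrans.app w)) (w : 𝒲.obj) :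
    ((fpHomMk α₁ α₂ h).toNatTrans.app w).hom.fst = α₁.toNatTrans.app w := rfl

@[simp] theorem fpHomMk_snd {a b : 𝒲 ⥤ᵇ FibCat.fp F G}
    (α₁ : BasedFunctor.comp a (FibCat.fpFst F G) ⟶ BasedFunctor.comp b (FibCat.fpFst F G))
    (α₂ : BasedFunctor.comp a (FibCat.fpSnd F G) ⟶ BasedFunctor.comp b (FibCat.fpSnd F G))
    (h : ∀ w, F.map (α₁.toNatTrans.app w) ≫ (b.obj w).obj.iso.hom =
      (a.obj w).obj.iso.hom ≫ G.map (α₂.toNatTrans.app w)) (w : 𝒲.obj) :
    ((fpHomMk α₁ α₂ h).toNatTrans.app w).hom.snd = α₂.toNatTrans.app w := rfl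

theorem iso_hom_inv_app {𝒳' : BasedCategory.{v₃, u₃} C} {A B : 𝒲 ⥤ᵇ 𝒳'} (e : A ≅ B) (w : 𝒲.obj) :
    e.hom.toNatTrans.app w ≫ e.inv.toNatTrans.app w = 𝟙 _ :=
  congrArg (fun t => t.toNatTrans.app w) e.hom_inv_id

theorem iso_inv_hom_app {𝒳' : BasedCategory.{v₃, u₃} C} {A B : 𝒲 ⥤ᵇ 𝒳'} (e : A ≅ B) (w : 𝒲.obj) :
    e.inv.toNatTrans.app w ≫ e.hom.toNatTrans.app w = 𝟙 _ :=
  congrArg (fun t => t.toNatTrans.app w) e.inv_hom_id

theorem inv_sq_aux {D : Type*} [Category D] {A A' B B' : D} (u : A ⟶ A') (u' : A' ⟶ A)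
    (v : B ⟶ B') (v' : B' ⟶ B) (p : A ⟶ B) (q : A' ⟶ B') (h1 : u' ≫ u = 𝟙 _) (h2 : v ≫ v' = 𝟙 _)
    (h : u ≫ q = p ≫ v) : u' ≫ p = q ≫ v' := by
  calc u' ≫ p = u' ≫ (p ≫ v) ≫ v' := by rw [Category.assoc, h2, Category.comp_id]
    _ = q ≫ v' := by rw [← h, Category.assoc, ← Category.assoc, h1, Category.id_comp]

/-- construct a 2-isomorphism into the 2-fibre product from its projections -/
def fpIsoMk {a b : 𝒲 ⥤ᵇ FibCat.fp F G}
    (α₁ : BasedFunctor.comp a (FibCat.fpFst F G) ≅ BasedFunctor.comp b (FibCat.fpFst F G))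
    (α₂ : BasedFunctor.comp a (FibCat.fpSnd F G) ≅ BasedFunctor.comp b (FibCat.fpSnd F G))
    (h : ∀ w, F.map (α₁.hom.toNatTrans.app w) ≫ (b.obj w).obj.iso.hom =
      (a.obj w).obj.iso.hom ≫ G.map (α₂.hom.toNatTrans.app w)) : a ≅ b where
  hom := fpHomMk α₁.hom α₂.hom h
  inv := fpHomMk α₁.inv α₂.inv (fun w => by
    have h1 : F.map (α₁.inv.toNatTrans.app w) ≫ F.map (α₁.hom.toNatTrans.app w) = 𝟙 _ := by
      rw [← Functor.map_comp, iso_inv_hom_app, CategoryTheory.Functor.map_id]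
    have h2 : G.map (α₂.hom.toNatTrans.app w) ≫ G.map (α₂.inv.toNatTrans.app w) = 𝟙 _ := by
      rw [← Functor.map_comp, iso_hom_inv_app, CategoryTheory.Functor.map_id]
    exact inv_sq_aux _ _ _ _ _ _ h1 h2 (h w))
  hom_inv_id := fp_hom_ext _ _ (fun w => iso_hom_inv_app α₁ w) (fun w => iso_hom_inv_app α₂ w)
  inv_hom_id := fp_hom_ext _ _ (fun w => iso_inv_hom_app α₁ w) (fun w => iso_inv_hom_app α₂ w)


section BC

variable {𝒜 : BasedCategory.{v₇, u₇} C} {ℬ : BasedCategory.{v₈, u₈} C} {𝒵 : BasedCategory.{v₉, u₉} C}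
  {j : 𝒜 ⥤ᵇ ℬ} {y : 𝒵 ⥤ᵇ 𝒮} {f : 𝒳 ⥤ᵇ 𝒮}

/-- the `(j, f)`-square induced by a `(j, fpFst y f)`-square -/
abbrev sqB (sq : LiftSq.Sq j (FibCat.fpFst y f)) : LiftSq.Sq j f where
  top := BasedFunctor.comp sq.top (FibCat.fpSnd y f)
  bot := BasedFunctor.comp sq.bot y
  iso := wrIso sq.iso y ≪≫ wlIso sq.top (FibCat.fpIso y f)

theorem sqB_iso_hom_app (sq : LiftSq.Sq j (FibCat.fpFst y f)) (x : 𝒜.obj) :
    (sqB sq).iso.hom.toNatTrans.app x =
      y.map (sq.iso.hom.toNatTrans.app x) ≫ (sq.top.obj x).obj.iso.hom := rfl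

/-- dotted arrow of the base-changed square from one of the original -/
def bcLift (sq : LiftSq.Sq j (FibCat.fpFst y f)) (e : (sqB sq).Lift) : sq.Lift where
  fn := FibCat.fpLift sq.bot e.fn e.isoBot
  isoTop := fpIsoMk (a := BasedFunctor.comp j (FibCat.fpLift sq.bot e.fn e.isoBot)) (b := sq.top)
    sq.iso e.isoTop (fun x => by
      have := congrArg (fun t => t.toNatTrans.app x) e.w
      exact this.symm)
  isoBot := Iso.refl _
  w := by
    apply BasedNatTrans.homCategory.ext; ext x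
    exact Category.id_comp _

theorem lifts_bc (hf : LiftSq.Lifts j f) : LiftSq.Lifts j (FibCat.fpFst y f) := by
  intro sq
  obtain ⟨e⟩ := hf (sqB sq)
  exact ⟨bcLift sq e⟩

theorem sq_aux1 {D : Type*} [Category D] {A B B' T T' : D} (a : A ⟶ B) (b : B ⟶ B') (c : B' ⟶ T')
    (a' : B ⟶ T) (t : T ⟶ T') (s : A ⟶ T) (h1 : a ≫ a' = s) (h2 : a' ≫ t = b ≫ c) :
    (a ≫ b) ≫ c = s ≫ t := by
  rw [Category.assoc, ← h2, ← Category.assoc, h1]

theorem sq_aux2 {D : Type*} [Category D] {A B B' T T' : D} (a : A ⟶ B) (a' : B ⟶ A) (b : B ⟶ B')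
    (c : B' ⟶ T') (s : A ⟶ T) (t : T ⟶ T') (h0 : a' ≫ a = 𝟙 _) (h : (a ≫ b) ≫ c = s ≫ t) :
    (a' ≫ s) ≫ t = b ≫ c := by
  rw [Category.assoc, ← h, Category.assoc, ← Category.assoc, h0, Category.id_comp]

theorem sq_aux3 {D : Type*} [Category D] {A B T T' : D} (a : A ⟶ B) (a' : B ⟶ A) (a'' : A ⟶ T')
    (p : B ⟶ T) (p' : T' ⟶ T) (s : A ⟶ T) (h0 : a' ≫ a = 𝟙 _) (h1 : a ≫ p = s) (h2 : a'' ≫ p' = s) :
    (a' ≫ a'') ≫ p' = p := by
  rw [Category.assoc, h2, ← h1, ← Category.assoc, h0, Category.id_comp]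

/-- dotted arrow of the `(j, f)`-square from one of the base-changed square -/
def liftB {sq : LiftSq.Sq j (FibCat.fpFst y f)} (d : sq.Lift) : (sqB sq).Lift where
  fn := BasedFunctor.comp d.fn (FibCat.fpSnd y f)
  isoTop := wrIso d.isoTop (FibCat.fpSnd y f)
  isoBot := wrIso d.isoBot y ≪≫ wlIso d.fn (FibCat.fpIso y f)
  w := by
    apply BasedNatTrans.homCategory.ext; ext x
    have h1 := congrArg (fun t => t.toNatTrans.app x) d.w
    have h2 := (d.isoTop.hom.toNatTrans.app x).hom.w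
    have h1' : y.map (d.isoBot.hom.toNatTrans.app (j.obj x)) ≫
        y.map ((d.isoTop.hom.toNatTrans.app x).hom.fst) = y.map (sq.iso.hom.toNatTrans.app x) :=
      (y.map_comp _ _).symm.trans (congrArg y.map h1)
    exact sq_aux1 _ _ _ _ _ _ h1' h2

/-- a morphism of dotted arrows of the base-changed square gives one of the `(j, f)`-square -/
def mapB {sq : LiftSq.Sq j (FibCat.fpFst y f)} {d d' : sq.Lift} (θ : d ⟶ d') :
    liftB d ⟶ liftB d' where
  hom := BasedCategory.whiskerRight θ.hom (FibCat.fpSnd y f)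
  w_top := by
    apply BasedNatTrans.homCategory.ext; ext x
    exact congrArg (fun t => (t.toNatTrans.app x).hom.snd) θ.w_top
  w_bot := by
    apply BasedNatTrans.homCategory.ext; ext w
    have h1 := congrArg (fun t => t.toNatTrans.app w) θ.w_bot
    have h2 := (θ.hom.toNatTrans.app w).hom.w
    have h1' : y.map (d.isoBot.hom.toNatTrans.app w) ≫
        y.map ((θ.hom.toNatTrans.app w).hom.fst) = y.map (d'.isoBot.hom.toNatTrans.app w) :=
      (y.map_comp _ _).symm.trans (congrArg y.map h1)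
    exact sq_aux1 _ _ _ _ _ _ h1' h2

/-- from a morphism `liftB d ⟶ liftB d'` to a morphism `d ⟶ d'` -/
def homB {sq : LiftSq.Sq j (FibCat.fpFst y f)} (d d' : sq.Lift) (θ₂ : liftB d ⟶ liftB d') :
    d ⟶ d' where
  hom := fpHomMk (d.isoBot.inv ≫ d'.isoBot.hom) θ₂.hom (fun w => by
    have h := congrArg (fun t => t.toNatTrans.app w) θ₂.w_bot
    have h0 : y.map (d.isoBot.inv.toNatTrans.app w) ≫ y.map (d.isoBot.hom.toNatTrans.app w) = 𝟙 _ :=
      (y.map_comp _ _).symm.trans ((congrArg y.map (iso_inv_hom_app d.isoBot w)).trans (y.map_id _))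
    have := sq_aux2 _ _ _ _ _ _ h0 h
    refine Eq.trans ?_ this
    exact congrArg (fun t => t ≫ (d'.fn.obj w).obj.iso.hom) (y.map_comp _ _))
  w_top := fp_hom_ext _ _
    (fun x => by
      have h1 := congrArg (fun t => t.toNatTrans.app x) d.w
      have h2 := congrArg (fun t => t.toNatTrans.app x) d'.w
      exact sq_aux3 _ _ _ _ _ _ (iso_inv_hom_app d.isoBot (j.obj x)) h1 h2)
    (fun x => congrArg (fun t => t.toNatTrans.app x) θ₂.w_top)
  w_bot := by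
    apply BasedNatTrans.homCategory.ext; ext w
    have := iso_hom_inv_app d.isoBot w
    exact (Category.assoc _ _ _).symm.trans
      ((congrArg (fun t => t ≫ d'.isoBot.hom.toNatTrans.app w) this).trans (Category.id_comp _))

theorem liftsUnique_bc (hf : LiftSq.LiftsUnique j f) : LiftSq.LiftsUnique j (FibCat.fpFst y f) := by
  intro sq d d'
  obtain ⟨u⟩ := hf (sqB sq) (liftB d) (liftB d')
  refine ⟨⟨⟨homB d d' u.default⟩, fun θ' => ?_⟩⟩
  have e1 : mapB θ' = u.default := u.uniq _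
  apply LiftSq.Sq.Lift.hom_ext
  apply fp_hom_ext
  · intro w
    have h1 := congrArg (fun t => t.toNatTrans.app w) θ'.w_bot
    have h0 := iso_inv_hom_app d.isoBot w
    change (θ'.hom.toNatTrans.app w).hom.fst =
      d.isoBot.inv.toNatTrans.app w ≫ d'.isoBot.hom.toNatTrans.app w
    rw [← h1]
    exact ((Category.assoc _ _ _).symm.trans
      ((congrArg (fun t => t ≫ (θ'.hom.toNatTrans.app w).hom.fst) h0).trans
        (Category.id_comp _))).symm
  · intro w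
    exact congrArg (fun t => (LiftSq.Sq.Lift.Hom.hom t).toNatTrans.app w) e1

theorem liftsUniquely_bc (hf : LiftSq.LiftsUniquely j f) :
    LiftSq.LiftsUniquely j (FibCat.fpFst y f) := fun sq =>
  ⟨lifts_bc (fun s => (hf s).1) sq, liftsUnique_bc (fun s => (hf s).2) sq⟩

end BC

end Groth.Agent.H7.LSq
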