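import Mathlib
import Groth.Prelude.Def_KFlatSite
import Groth.Agent.H4.LTC2
import Groth.Agent.H4.GKS6
import Groth.Agent.H4.TEx2

set_option autoImplicit false
universe u
open CategoryTheory CategoryTheory.Limits HomologicalComplex
attribute [local instance] HasDerivedCategory.standard

namespace Groth.Agent.Helper7.LTS1

open Groth.Agent.H4.GK1 Groth.Agent.H4.GK9 Groth.Agent.H4.TC2 Groth.Agent.LD.MS Groth.Agent.H4.GKS6
  Groth.Agent.H4.TEx1 Groth.Agent.H4.TEx2

section Abs

variable {A : Type*} [Category A] [Abelian A]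
  (F : A ⥤ A ⥤ A) [F.Additive] [∀ X, (F.obj X).Additive]
  [∀ K L : CochainComplex A ℤ, CochainComplex.HasMapBifunctor K L F]
  (e : F ≅ F.flip)

include e in
/-- tensoring a K-flat complex (on the left) with a quasi-isomorphism gives a quasi-isomorphism -/
theorem quasiIso_map₂_of_kflat_left {P Q : CochainComplex A ℤ} (α : P ⟶ Q) (hα : QuasiIso α)
    (L : CochainComplex A ℤ) (hL : KFlat F L) :
    QuasiIso (mapBifunctorMap (𝟙 L) α F (.up ℤ)) := by
  rw [← acyc_cone_iff]
  exact Acyc.of_iso (coneIso₂ F L α)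
    (Acyc.of_iso (braid F e _ L) (hL _ ((acyc_cone_iff α).2 hα)))

end Abs

variable {C : Type u} [SmallCategory C] {J : GrothendieckTopology C} (O : Sheaf J CommRingCat.{u})

/-- `- ⊗ E` preserves quasi-isomorphisms for K-flat `E` -/
theorem quasiIso_flip_map (E : CochainComplex (ModSite.Mod O) ℤ) (hE : ModSite.IsKFlat E)
    {F F' : CochainComplex (ModSite.Mod O) ℤ} (f : F ⟶ F') (hf : QuasiIso f) :
    QuasiIso (((ModSite.tensorCx O).flip.obj E).map f) :=
  quasiIso_map₁_of_kflat (F := ModSite.tensorBi O) hE f hf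

/-- `F ⊗ -` preserves quasi-isomorphisms for K-flat `F` -/
theorem quasiIso_obj_map (F : CochainComplex (ModSite.Mod O) ℤ) (hF : ModSite.IsKFlat F)
    {E E' : CochainComplex (ModSite.Mod O) ℤ} (q : E ⟶ E') (hq : QuasiIso q) :
    QuasiIso (((ModSite.tensorCx O).obj F).map q) :=
  quasiIso_map₂_of_kflat_left (ModSite.tensorBi O) (braidBi O) q hq F hF

/-- `- ⊗ E` preserves quasi-isomorphisms between K-flat complexes, for any `E` -/
theorem quasiIso_flip_map_of_kflat (E : CochainComplex (ModSite.Mod O) ℤ)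
    {F F' : CochainComplex (ModSite.Mod O) ℤ} (f : F ⟶ F') (hF : ModSite.IsKFlat F)
    (hF' : ModSite.IsKFlat F') (hf : QuasiIso f) :
    QuasiIso (((ModSite.tensorCx O).flip.obj E).map f) :=
  Groth.Agent.H4.LTC2.quasiIso_map₁_of_kflat_kflat (ModSite.tensorBi O) (braidBi O) (hres O)
    f hF hF' hf E

lemma inverts_of_kflat (E : CochainComplex (ModSite.Mod O) ℤ) (hE : ModSite.IsKFlat E) :
    (HomologicalComplex.quasiIso (ModSite.Mod O) (ComplexShape.up ℤ)).IsInvertedBy
      (ModSite.tensorCxQ E) := by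
  intro F F' f hf
  haveI := quasiIso_flip_map O E hE f hf
  change IsIso (DerivedCategory.Q.map (((ModSite.tensorCx O).flip.obj E).map f))
  infer_instance

/-- the derived tensor product with a K-flat complex exists -/
theorem hasLTensorCx_of_kflat (E : CochainComplex (ModSite.Mod O) ℤ) (hE : ModSite.IsKFlat E) :
    ModSite.HasLTensorCx E := by
  haveI := Functor.hasPointwiseLeftDerivedFunctor_of_inverts (ModSite.tensorCxQ E)
    (inverts_of_kflat O E hE)
  infer_instance

/-- the counit of `- ⊗^L E` -/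
noncomputable abbrev counit (E : CochainComplex (ModSite.Mod O) ℤ) [ModSite.HasLTensorCx E] :
    DerivedCategory.Q ⋙ ModSite.LTensorCx E ⟶ ModSite.tensorCxQ E :=
  (ModSite.tensorCxQ E).totalLeftDerivedCounit DerivedCategory.Q
    (HomologicalComplex.quasiIso (ModSite.Mod O) (ComplexShape.up ℤ))

/-- the counit is an isomorphism when the fixed complex is K-flat -/
theorem isIso_counit_of_kflat (E : CochainComplex (ModSite.Mod O) ℤ) (hE : ModSite.IsKFlat E)
    [ModSite.HasLTensorCx E] : IsIso (counit O E) :=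
  Functor.isIso_of_isLeftDerivedFunctor_of_inverts _ _ (inverts_of_kflat O E hE)

lemma htpyInv_tensorCxQ (E : CochainComplex (ModSite.Mod O) ℤ) :
    Groth.Agent.H4.LK2.HtpyInv (ModSite.tensorCxQ E) :=
  Groth.Agent.H4.LK2.htpyInv_comp_Q ((ModSite.tensorCx O).flip.obj E)
    (fun _ _ f g h => ⟨HomologicalComplex.mapBifunctorMapHomotopy₁ h (𝟙 E)
      (ModSite.tensorBi O) (.up ℤ)⟩)

/-- the counit is an isomorphism at K-flat complexes (any fixed complex) -/
theorem isIso_counit_app (E : CochainComplex (ModSite.Mod O) ℤ) [ModSite.HasLTensorCx E]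
    (F : CochainComplex (ModSite.Mod O) ℤ) (hF : ModSite.IsKFlat F) :
    IsIso ((counit O E).app F) := by
  refine Groth.Agent.H4.LTC1.isIso_counit_app_cx (ModSite.tensorCxQ E) (htpyInv_tensorCxQ O E)
    (Groth.Agent.H4.LDS4.adm_kflat (ModSite.tensorBi O))
    (fun L => by obtain ⟨K, q, hK, hq⟩ := hres O L; exact ⟨K, q, hK, hq⟩)
    (fun F F' g hF hF' hg => ?_) (ModSite.LTensorCx E) (counit O E) F hF
  haveI := quasiIso_flip_map_of_kflat O E g hF hF' hg
  change IsIso (DerivedCategory.Q.map (((ModSite.tensorCx O).flip.obj E).map g))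
  infer_instance

/-- the natural transformation `- ⊗ E' ⟶ - ⊗ E` induced by `q : E' ⟶ E` -/
noncomputable abbrev tauQ {E' E : CochainComplex (ModSite.Mod O) ℤ} (q : E' ⟶ E) :
    ModSite.tensorCxQ E' ⟶ ModSite.tensorCxQ E :=
  Functor.whiskerRight ((ModSite.tensorCx O).flip.map q) DerivedCategory.Q

/-- the map `- ⊗^L E' ⟶ - ⊗^L E` induced by `q : E' ⟶ E` -/
noncomputable def LTensorCxMap {E' E : CochainComplex (ModSite.Mod O) ℤ} (q : E' ⟶ E)
    [ModSite.HasLTensorCx E'] [ModSite.HasLTensorCx E] :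
    ModSite.LTensorCx E' ⟶ ModSite.LTensorCx E :=
  Functor.leftDerivedNatTrans (ModSite.LTensorCx E') (ModSite.LTensorCx E) (counit O E') (counit O E)
    (HomologicalComplex.quasiIso (ModSite.Mod O) (ComplexShape.up ℤ)) (tauQ O q)

lemma LTensorCxMap_app {E' E : CochainComplex (ModSite.Mod O) ℤ} (q : E' ⟶ E)
    [ModSite.HasLTensorCx E'] [ModSite.HasLTensorCx E] (F : CochainComplex (ModSite.Mod O) ℤ) :
    (LTensorCxMap O q).app (DerivedCategory.Q.obj F) ≫ (counit O E).app F =
      (counit O E').app F ≫ (tauQ O q).app F :=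
  Functor.leftDerivedNatTrans_app _ _ _ _ _ _ _

/-- **`- ⊗^L E` only depends on `E` up to quasi-isomorphism** -/
theorem isIso_LTensorCxMap {E' E : CochainComplex (ModSite.Mod O) ℤ} (q : E' ⟶ E)
    (hq : QuasiIso q) [ModSite.HasLTensorCx E'] [ModSite.HasLTensorCx E] :
    IsIso (LTensorCxMap O q) := by
  rw [NatTrans.isIso_iff_isIso_app]
  intro X
  obtain ⟨K, s, hK, hs⟩ := hres O (DerivedCategory.Q.objPreimage X)
  haveI : IsIso (DerivedCategory.Q.map s) := by
    rw [DerivedCategory.isIso_Q_map_iff_quasiIso]; exact hs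
  let eX : DerivedCategory.Q.obj K ≅ X :=
    asIso (DerivedCategory.Q.map s) ≪≫ DerivedCategory.Q.objObjPreimageIso X
  rw [← NatTrans.isIso_app_iff_of_iso _ eX]
  haveI := isIso_counit_app O E K hK
  haveI := isIso_counit_app O E' K hK
  haveI : IsIso ((tauQ O q).app K) := by
    haveI := quasiIso_obj_map O K hK q hq
    change IsIso (DerivedCategory.Q.map (((ModSite.tensorCx O).obj K).map q))
    infer_instance
  have h := LTensorCxMap_app O q K
  have h2 : (LTensorCxMap O q).app (DerivedCategory.Q.obj K) =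
      ((counit O E').app K ≫ (tauQ O q).app K) ≫ inv ((counit O E).app K) := by
    rw [← h, Category.assoc, IsIso.hom_inv_id, Category.comp_id]
  rw [h2]
  infer_instance

/-- the functor `M ↦ H^k(M ⊗^L E)` on modules -/
noncomputable abbrev TS (E : CochainComplex (ModSite.Mod O) ℤ) [ModSite.HasLTensorCx E] (k : ℤ) :
    ModSite.Mod O ⥤ ModSite.Mod O :=
  DerivedCategory.singleFunctor (ModSite.Mod O) 0 ⋙ ModSite.LTensorCx E ⋙
    DerivedCategory.homologyFunctor (ModSite.Mod O) k

/-- termwise tensor product `M ↦ (M ⊗ E^n)_n` -/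
noncomputable abbrev PsiS (E : CochainComplex (ModSite.Mod O) ℤ) :
    ModSite.Mod O ⥤ CochainComplex (ModSite.Mod O) ℤ :=
  Psi (ModSite.tensorBi O) E

/-- **`M ↦ H^k(M ⊗^L E)` is computed termwise when `E` is K-flat** -/
noncomputable def TSIso₀ (E : CochainComplex (ModSite.Mod O) ℤ) (hE : ModSite.IsKFlat E)
    [ModSite.HasLTensorCx E] (k : ℤ) : TS O E k ≅ HΦ (PsiS O E) k :=
  haveI := isIso_counit_of_kflat O E hE
  Functor.isoWhiskerRight (DerivedCategory.singleFunctorIsoCompQ (ModSite.Mod O) 0) _ ≪≫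
  Functor.associator _ _ _ ≪≫
  Functor.isoWhiskerLeft _ ((Functor.associator _ _ _).symm ≪≫
    Functor.isoWhiskerRight (asIso (counit O E)) _ ≪≫ Functor.associator _ _ _ ≪≫
    Functor.isoWhiskerLeft _ (DerivedCategory.homologyFunctorFactors (ModSite.Mod O) k)) ≪≫
  (Functor.associator _ _ _).symm ≪≫
  Functor.isoWhiskerRight (singleTensorNatIso (ModSite.tensorBi O) E) _

/-- **`M ↦ H^k(M ⊗^L E)` is computed termwise on a K-flat resolution of `E`** -/
noncomputable def TSIso {E E' : CochainComplex (ModSite.Mod O) ℤ} (q : E' ⟶ E) (hq : QuasiIso q)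
    (hE' : ModSite.IsKFlat E') [ModSite.HasLTensorCx E] (k : ℤ) :
    TS O E k ≅ HΦ (PsiS O E') k :=
  haveI : ModSite.HasLTensorCx E' := hasLTensorCx_of_kflat O E' hE'
  haveI := isIso_LTensorCxMap O q hq
  Functor.isoWhiskerLeft _ (Functor.isoWhiskerRight (asIso (LTensorCxMap O q)).symm _) ≪≫
    TSIso₀ O E' hE' k

end Groth.Agent.Helper7.LTS1
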