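import Mathlib
import Groth.Prelude.Def_KFlatSite
import Groth.Agent.Lib.Helper7.LTS1
import Groth.Agent.Lib.Lead.MS.Assoc
import Groth.Agent.Lib.Lead.MS.Flat3

set_option autoImplicit false
universe u
open CategoryTheory CategoryTheory.Limits HomologicalComplex
attribute [local instance] HasDerivedCategory.standard

namespace Groth.Agent.Helper7.LTS2

open Groth.Agent.H4.GK1 Groth.Agent.H4.GK4 Groth.Agent.H4.GK9 Groth.Agent.H4.TC2 Groth.Agent.LD.MS
  Groth.Agent.H4.GKS6 Groth.Agent.H4.TEx1 Groth.Agent.H4.TEx2 Groth.Agent.Helper7.LTS1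

variable {C : Type u} [SmallCategory C] {J : GrothendieckTopology C} (O : Sheaf J CommRingCat.{u})

lemma exactCx_PsiS (E : CochainComplex (ModSite.Mod O) ℤ) (hE : ∀ i, ModSite.IsFlat (E.X i)) :
    ExactCx (PsiS O E) := by
  intro S hS
  apply HomologicalComplex.shortExact_of_degreewise_shortExact
  intro n
  haveI := (hE n).1
  haveI := (hE n).2
  exact hS.map_of_exact ((ModSite.tensorBi O).flip.obj (E.X n))

/-- **`M ↦ H^k(M ⊗ E)` is right exact iff `M ↦ H^{k+1}(M ⊗ E)` is left exact** -/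
theorem pfc_iff_pfl_succ_PsiS (E : CochainComplex (ModSite.Mod O) ℤ)
    (hE : ∀ i, ModSite.IsFlat (E.X i)) (k : ℤ) :
    PreservesFiniteColimits (HΦ (PsiS O E) k) ↔ PreservesFiniteLimits (HΦ (PsiS O E) (k + 1)) :=
  pfc_iff_pfl_succ (exactCx_PsiS O E hE) k

/-- **`M ↦ H^k(M ⊗ E)` is left exact iff `coker (E^{k-1} → E^k)` is flat** -/
theorem pfl_iff_flat_opcycles (E : CochainComplex (ModSite.Mod O) ℤ)
    (hE : ∀ i, ModSite.IsFlat (E.X i)) (k : ℤ) :
    PreservesFiniteLimits (HΦ (PsiS O E) k) ↔ ModSite.IsFlat (E.opcycles k) := by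
  rw [pfl_iff_preservesMono (exactCx_PsiS O E hE), isFlat_iff_preservesMono]
  constructor
  · intro h
    constructor
    intro X Y f hf
    have h1 : Mono (HomologicalComplex.homologyMap ((PsiS O E).map f) k) := h f hf
    have h2 : Mono (((ModSite.tensorBi O).map f).app (E.X (k + 1))) := by
      have := preservesMono_flip_of_isFlat (hE (k + 1))
      exact ((ModSite.tensorBi O).flip.obj (E.X (k + 1))).map_mono f
    exact mono_app_opcycles_of_mono_homologyMap (ModSite.tensorBi O) E k f h1 h2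
  · intro h X Y f hf
    refine mono_homologyMap_of_mono_app_opcycles (ModSite.tensorBi O) E k f ?_
    exact ((ModSite.tensorBi O).flip.obj (E.opcycles k)).map_mono f

/-- **left exactness of `M ↦ H^k(M ⊗^L E)`** in terms of a K-flat resolution by flat modules -/
theorem pfl_TS_iff {E E' : CochainComplex (ModSite.Mod O) ℤ} (q : E' ⟶ E) (hq : QuasiIso q)
    (hE' : ModSite.IsKFlat E') (hE'f : ∀ i, ModSite.IsFlat (E'.X i)) [ModSite.HasLTensorCx E]
    (k : ℤ) : PreservesFiniteLimits (TS O E k) ↔ ModSite.IsFlat (E'.opcycles k) := by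
  rw [← pfl_iff_flat_opcycles O E' hE'f k]
  exact ⟨fun h => preservesFiniteLimits_of_natIso (TSIso O q hq hE' k),
    fun h => preservesFiniteLimits_of_natIso (TSIso O q hq hE' k).symm⟩

/-- **right exactness of `M ↦ H^k(M ⊗^L E)`** in terms of a K-flat resolution by flat modules -/
theorem pfc_TS_iff {E E' : CochainComplex (ModSite.Mod O) ℤ} (q : E' ⟶ E) (hq : QuasiIso q)
    (hE' : ModSite.IsKFlat E') (hE'f : ∀ i, ModSite.IsFlat (E'.X i)) [ModSite.HasLTensorCx E]
    (k : ℤ) : PreservesFiniteColimits (TS O E k) ↔ ModSite.IsFlat (E'.opcycles (k + 1)) := by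
  rw [← pfl_iff_flat_opcycles O E' hE'f (k + 1), ← pfc_iff_pfl_succ_PsiS O E' hE'f k]
  exact ⟨fun h => preservesFiniteColimits_of_natIso (TSIso O q hq hE' k),
    fun h => preservesFiniteColimits_of_natIso (TSIso O q hq hE' k).symm⟩

/-- **S6249** -/
theorem pfc_TS_iff_pfl_succ (E : CochainComplex (ModSite.Mod O) ℤ) [ModSite.HasLTensorCx E]
    (k : ℤ) : PreservesFiniteColimits (TS O E k) ↔ PreservesFiniteLimits (TS O E (k + 1)) := by
  obtain ⟨E', q, hK, hfl, hq, -⟩ := Groth.Agent.H4.GKS5.S9060 O E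
  rw [pfc_TS_iff O q hq hK hfl k, pfl_TS_iff O q hq hK hfl (k + 1)]

/-- `opcycles` as a cokernel -/
noncomputable def opcyclesIsoCokernel (E : CochainComplex (ModSite.Mod O) ℤ) (p : ℤ) :
    E.opcycles (p + 1) ≅ cokernel (E.d p (p + 1)) :=
  IsColimit.coconePointUniqueUpToIso (E.opcyclesIsCokernel p (p + 1) (by simp))
    (colimit.isColimit (parallelPair (E.d p (p + 1)) 0))

/-- **S6254** -/
theorem pfc_TS_iff_isFlat_cokernel (E : CochainComplex (ModSite.Mod O) ℤ) (e : ℤ)
    (hEb : ∀ i : ℤ, e < i → IsZero (E.X i)) (hEf : ∀ i : ℤ, ModSite.IsFlat (E.X i)) (p : ℤ)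
    [ModSite.HasLTensorCx E] :
    PreservesFiniteColimits (TS O E p) ↔ ModSite.IsFlat (cokernel (E.d p (p + 1))) := by
  have hK : ModSite.IsKFlat E := Groth.Agent.H4.GKS3.S9058 O E e
    ((CochainComplex.isStrictlyLE_iff E e).2 (fun i hi => hEb i hi)) hEf
  haveI : QuasiIso (𝟙 E) := inferInstance
  rw [pfc_TS_iff O (𝟙 E) inferInstance hK hEf p]
  exact ⟨fun h => FlatObj.of_iso (F := ModSite.tensorBi O) (opcyclesIsoCokernel O E p) h,
    fun h => FlatObj.of_iso (F := ModSite.tensorBi O) (opcyclesIsoCokernel O E p).symm h⟩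

section Tot

theorem isFlat_cofan' {ι : Type} (F : ι → ModSite.Mod O) (hF : ∀ i, ModSite.IsFlat (F i))
    (c : Cofan F) (hc : IsColimit c) : ModSite.IsFlat c.pt := by
  let F' : ULift.{u} ι → ModSite.Mod O := fun i => F i.down
  let c' : Cofan F' := Cofan.mk c.pt (fun i => c.inj i.down)
  have hc' : IsColimit c' := Cofan.IsColimit.mk c'
    (fun s => Cofan.IsColimit.desc hc (fun i => s.inj ⟨i⟩))
    (fun s i => Cofan.IsColimit.fac hc _ i.down)
    (fun s m hm => Cofan.IsColimit.hom_ext hc _ _ (fun i => by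
      rw [Cofan.IsColimit.fac]
      exact hm ⟨i⟩))
  exact isFlat_cofan F' (fun i => hF i.down) c' hc'

lemma isZero_of_cofan {A : Type*} [Category A] [HasZeroMorphisms A] {ι : Type*} (F : ι → A)
    (c : Cofan F) (hc : IsColimit c) (h : ∀ i, IsZero (F i)) : IsZero c.pt := by
  rw [IsZero.iff_id_eq_zero]
  exact Cofan.IsColimit.hom_ext hc _ _ (fun i => (h i).eq_of_src _ _)

/-- the graded object underlying the double complex `P^p ⊗ F^q` -/
noncomputable abbrev gr (P F : CochainComplex (ModSite.Mod O) ℤ) :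
    GradedObject (ℤ × ℤ) (ModSite.Mod O) :=
  ((((ModSite.tensorBi O).mapBifunctorHomologicalComplex (ComplexShape.up ℤ)
    (ComplexShape.up ℤ)).obj P).obj F).toGradedObject

/-- the terms of the tensor product of complexes of flat modules are flat -/
theorem isFlat_tot_X (P F : CochainComplex (ModSite.Mod O) ℤ)
    (hP : ∀ i, ModSite.IsFlat (P.X i)) (hF : ∀ i, ModSite.IsFlat (F.X i)) (i : ℤ) :
    ModSite.IsFlat ((((ModSite.tensorCx O).obj P).obj F).X i) := by
  haveI : (gr O P F).HasMap (ComplexShape.π (ComplexShape.up ℤ) (ComplexShape.up ℤ)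
      (ComplexShape.up ℤ)) := ModSite.hasMapBifunctor O P F
  exact isFlat_cofan' O ((gr O P F).mapObjFun (ComplexShape.π (ComplexShape.up ℤ) (ComplexShape.up ℤ)
      (ComplexShape.up ℤ)) i)
    (fun ⟨⟨p, q⟩, _⟩ => isFlat_tensor _ _ (hP p) (hF q))
    ((gr O P F).cofanMapObj _ i) ((gr O P F).isColimitCofanMapObj _ i)

/-- boundedness of the tensor product of bounded complexes -/
theorem isZero_tot_X (P F : CochainComplex (ModSite.Mod O) ℤ) (m n m' n' : ℤ)
    (hPb : ∀ i : ℤ, i < m ∨ n < i → IsZero (P.X i))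
    (hFb : ∀ i : ℤ, i < m' ∨ n' < i → IsZero (F.X i)) (i : ℤ) (hi : i < m + m' ∨ n + n' < i) :
    IsZero ((((ModSite.tensorCx O).obj P).obj F).X i) := by
  haveI : (gr O P F).HasMap (ComplexShape.π (ComplexShape.up ℤ) (ComplexShape.up ℤ)
      (ComplexShape.up ℤ)) := ModSite.hasMapBifunctor O P F
  refine isZero_of_cofan ((gr O P F).mapObjFun (ComplexShape.π (ComplexShape.up ℤ)
      (ComplexShape.up ℤ) (ComplexShape.up ℤ)) i)
    ((gr O P F).cofanMapObj _ i) ((gr O P F).isColimitCofanMapObj _ i) ?_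
  rintro ⟨⟨p, q⟩, h⟩
  have hpq : p + q = i := h
  change IsZero (((ModSite.tensorBi O).obj (P.X p)).obj (F.X q))
  by_cases h1 : p < m ∨ n < p
  · exact isZero_obj_obj_of_isZero (ModSite.tensorBi O) (hPb p h1) _
  · have h2 : q < m' ∨ n' < q := by omega
    exact ((ModSite.tensorBi O).obj (P.X p)).map_isZero (hFb q h2)

/-- **S6247** -/
theorem exists_flatModel_ltensor (E P : CochainComplex (ModSite.Mod O) ℤ)
    (m n : ℤ) (hP : ∀ i : ℤ, ModSite.IsFlat (P.X i)) (hPb : ∀ i : ℤ, i < m ∨ n < i → IsZero (P.X i))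
    (eP : DerivedCategory.Q.obj P ≅ DerivedCategory.Q.obj E) (F : CochainComplex (ModSite.Mod O) ℤ)
    (m' n' : ℤ) (hF : ∀ i : ℤ, ModSite.IsFlat (F.X i))
    (hFb : ∀ i : ℤ, i < m' ∨ n' < i → IsZero (F.X i))
    [ModSite.HasLTensorCx F] :
    ∃ G : CochainComplex (ModSite.Mod O) ℤ, (∀ i : ℤ, ModSite.IsFlat (G.X i)) ∧
      (∀ i : ℤ, i < m + m' ∨ n + n' < i → IsZero (G.X i)) ∧
      Nonempty (DerivedCategory.Q.obj G ≅ (ModSite.LTensorCx F).obj (DerivedCategory.Q.obj E)) := by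
  have hK : ModSite.IsKFlat F := Groth.Agent.H4.GKS3.S9058 O F n'
    ((CochainComplex.isStrictlyLE_iff F n').2 (fun i hi => hFb i (Or.inr hi))) hF
  haveI := isIso_counit_of_kflat O F hK
  refine ⟨((ModSite.tensorCx O).obj P).obj F, isFlat_tot_X O P F hP hF,
    isZero_tot_X O P F m n m' n' hPb hFb, ⟨?_⟩⟩
  exact ((asIso (counit O F)).app P).symm ≪≫ (ModSite.LTensorCx F).mapIso eP

end Tot

end Groth.Agent.Helper7.LTS2
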