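import Mathlib.Algebra.Homology.BifunctorAssociator

set_option autoImplicit false
universe u
open CategoryTheory Category Limits

namespace Groth.Agent.Helper7.LTS3

section generic
open HomologicalComplex

variable {C₁ C₂ C₁₂ C₂₃ C₃ C₄ : Type*}
  [Category C₁] [Category C₂] [Category C₃] [Category C₄] [Category C₁₂] [Category C₂₃]
  [HasZeroMorphisms C₁] [HasZeroMorphisms C₂] [HasZeroMorphisms C₃]
  [Preadditive C₁₂] [Preadditive C₂₃] [Preadditive C₄]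
  {F₁₂ : C₁ ⥤ C₂ ⥤ C₁₂} {G : C₁₂ ⥤ C₃ ⥤ C₄}
  {F : C₁ ⥤ C₂₃ ⥤ C₄} {G₂₃ : C₂ ⥤ C₃ ⥤ C₂₃}
  [F₁₂.PreservesZeroMorphisms] [∀ (X₁ : C₁), (F₁₂.obj X₁).PreservesZeroMorphisms]
  [G.Additive] [∀ (X₁₂ : C₁₂), (G.obj X₁₂).PreservesZeroMorphisms]
  [G₂₃.PreservesZeroMorphisms] [∀ (X₂ : C₂), (G₂₃.obj X₂).PreservesZeroMorphisms]
  [F.PreservesZeroMorphisms] [∀ (X₁ : C₁), (F.obj X₁).Additive]
  (associator : bifunctorComp₁₂ F₁₂ G ≅ bifunctorComp₂₃ F G₂₃)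
  {ι₁ ι₂ ι₃ ι₁₂ ι₂₃ ι₄ : Type*} [DecidableEq ι₄]
  {c₁ : ComplexShape ι₁} {c₂ : ComplexShape ι₂} {c₃ : ComplexShape ι₃}
  {K₁ K₁' : HomologicalComplex C₁ c₁} (f : K₁ ⟶ K₁') (K₂ : HomologicalComplex C₂ c₂)
  (K₃ : HomologicalComplex C₃ c₃)
  (c₁₂ : ComplexShape ι₁₂) (c₂₃ : ComplexShape ι₂₃) (c₄ : ComplexShape ι₄)
  [TotalComplexShape c₁ c₂ c₁₂] [TotalComplexShape c₁₂ c₃ c₄]
  [TotalComplexShape c₂ c₃ c₂₃] [TotalComplexShape c₁ c₂₃ c₄]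
  [HasMapBifunctor K₁ K₂ F₁₂ c₁₂] [HasMapBifunctor K₁' K₂ F₁₂ c₁₂]
  [HasMapBifunctor K₂ K₃ G₂₃ c₂₃]
  [ComplexShape.Associative c₁ c₂ c₃ c₁₂ c₂₃ c₄]
  [DecidableEq ι₁₂] [DecidableEq ι₂₃]
  [HasMapBifunctor (mapBifunctor K₁ K₂ F₁₂ c₁₂) K₃ G c₄]
  [HasMapBifunctor K₁ (mapBifunctor K₂ K₃ G₂₃ c₂₃) F c₄]
  [HasMapBifunctor (mapBifunctor K₁' K₂ F₁₂ c₁₂) K₃ G c₄]
  [HasMapBifunctor K₁' (mapBifunctor K₂ K₃ G₂₃ c₂₃) F c₄]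
  [HasGoodTrifunctor₁₂Obj F₁₂ G K₁ K₂ K₃ c₁₂ c₄]
  [HasGoodTrifunctor₂₃Obj F G₂₃ K₁ K₂ K₃ c₁₂ c₂₃ c₄]
  [HasGoodTrifunctor₁₂Obj F₁₂ G K₁' K₂ K₃ c₁₂ c₄]
  [HasGoodTrifunctor₂₃Obj F G₂₃ K₁' K₂ K₃ c₁₂ c₂₃ c₄]

set_option backward.isDefEq.respectTransparency false in
/-- naturality of the associator of total complexes in the first variable, degreewise. -/
lemma assocX_naturality₁ (j : ι₄) :
    (mapBifunctorMap (mapBifunctorMap f (𝟙 K₂) F₁₂ c₁₂) (𝟙 K₃) G c₄).f j ≫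
      (mapBifunctorAssociatorX associator K₁' K₂ K₃ c₁₂ c₂₃ c₄ j).hom =
    (mapBifunctorAssociatorX associator K₁ K₂ K₃ c₁₂ c₂₃ c₄ j).hom ≫
      (mapBifunctorMap f (𝟙 (mapBifunctor K₂ K₃ G₂₃ c₂₃)) F c₄).f j := by
  ext i₁ i₂ i₃ h
  rw [ι_mapBifunctorAssociatorX_hom_assoc]
  have h' : ComplexShape.π c₁ c₂₃ c₄ (i₁, ComplexShape.π c₂ c₃ c₂₃ (i₂, i₃)) = j := by
    rw [← h, ← ComplexShape.assoc c₁ c₂ c₃ c₁₂ c₂₃ c₄]; rfl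
  have e1 := mapBifunctor₁₂.ι_eq F₁₂ G K₁' K₂ K₃ c₁₂ c₄ i₁ i₂ i₃ _ j rfl h
  have e2 := mapBifunctor₂₃.ι_eq F G₂₃ K₁' K₂ K₃ c₁₂ c₂₃ c₄ i₁ i₂ i₃ _ j rfl h'
  rw [mapBifunctor₁₂.ι_eq F₁₂ G K₁ K₂ K₃ c₁₂ c₄ i₁ i₂ i₃ _ j rfl h]
  rw [mapBifunctor₂₃.ι_eq F G₂₃ K₁ K₂ K₃ c₁₂ c₂₃ c₄ i₁ i₂ i₃ _ j rfl h']
  simp only [assoc]
  rw [ι_mapBifunctorMap, ι_mapBifunctorMap_assoc]
  simp only [HomologicalComplex.id_f, CategoryTheory.Functor.map_id, id_comp,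
    CategoryTheory.NatTrans.id_app]
  rw [← NatTrans.comp_app_assoc, ← CategoryTheory.Functor.map_comp, ι_mapBifunctorMap]
  simp only [HomologicalComplex.id_f, CategoryTheory.Functor.map_id, id_comp,
    CategoryTheory.Functor.map_comp, NatTrans.comp_app, assoc]
  rw [← reassoc_of% e1, ι_mapBifunctorAssociatorX_hom, e2]
  have nat : (G.map ((F₁₂.map (f.f i₁)).app (K₂.X i₂))).app (K₃.X i₃) ≫
      ((associator.hom.app (K₁'.X i₁)).app (K₂.X i₂)).app (K₃.X i₃) =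
      ((associator.hom.app (K₁.X i₁)).app (K₂.X i₂)).app (K₃.X i₃) ≫
        (F.map (f.f i₁)).app ((G₂₃.obj (K₂.X i₂)).obj (K₃.X i₃)) :=
    NatTrans.naturality_app_app associator.hom (f.f i₁) (K₂.X i₂) (K₃.X i₃)
  rw [reassoc_of% nat]
  rw [NatTrans.naturality_assoc]

/-- naturality of the associator of total complexes in the first variable. -/
lemma assoc_naturality₁ :
    mapBifunctorMap (mapBifunctorMap f (𝟙 K₂) F₁₂ c₁₂) (𝟙 K₃) G c₄ ≫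
      (mapBifunctorAssociator associator K₁' K₂ K₃ c₁₂ c₂₃ c₄).hom =
    (mapBifunctorAssociator associator K₁ K₂ K₃ c₁₂ c₂₃ c₄).hom ≫
      mapBifunctorMap f (𝟙 (mapBifunctor K₂ K₃ G₂₃ c₂₃)) F c₄ := by
  refine HomologicalComplex.hom_ext _ _ (fun j => ?_)
  exact assocX_naturality₁ associator f K₂ K₃ c₁₂ c₂₃ c₄ j

end generic

end Groth.Agent.Helper7.LTS3
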