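import Mathlib
import Groth.Agent.Lib.Helper7.LTS2
import Groth.Agent.Lib.Helper7.LTS3
import Groth.Agent.Lib.Lead.MS.Assoc3

set_option autoImplicit false
universe u
open CategoryTheory Category Limits
attribute [local instance] HasDerivedCategory.standard

namespace Groth.Agent.Helper7.LTS4

open Groth.Agent.Helper7.LTS1 Groth.Agent.Helper7.LTS3 Groth.Agent.LD.MS

variable {C : Type u} [SmallCategory C] {J : GrothendieckTopology C} (O : Sheaf J CommRingCat.{u})

/-- `(- ⊗ K) ⊗ L ≅ - ⊗ (K ⊗ L)`, naturally in the variable complex. -/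
noncomputable def flipAssoc (K L : CochainComplex (ModSite.Mod O) ℤ) :
    (ModSite.tensorCx O).flip.obj K ⋙ (ModSite.tensorCx O).flip.obj L ≅
      (ModSite.tensorCx O).flip.obj (((ModSite.tensorCx O).obj K).obj L) :=
  NatIso.ofComponents (fun F => tensorCxAssoc F K L) (fun {F F'} f =>
    assoc_naturality₁ (assoc3 O) f K L (ComplexShape.up ℤ) (ComplexShape.up ℤ) (ComplexShape.up ℤ))

end Groth.Agent.Helper7.LTS4
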