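import Mathlib
import Groth.Agent.Lib.Helper7.LTS2
import Groth.Agent.Lib.Helper7.LTS4
import Groth.Agent.Lib.Lead.MS.Assoc3

set_option autoImplicit false
universe u
open CategoryTheory Category Limits
attribute [local instance] HasDerivedCategory.standard

namespace Groth.Agent.Helper7.LTS5

open Groth.Agent.Helper7.LTS1 Groth.Agent.Helper7.LTS3 Groth.Agent.Helper7.LTS4 Groth.Agent.LD.MS

variable {C : Type u} [SmallCategory C] {J : GrothendieckTopology C} (O : Sheaf J CommRingCat.{u})

variable (K L : CochainComplex (ModSite.Mod O) ℤ) [ModSite.HasLTensorCx K] [ModSite.HasLTensorCx L]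
  [ModSite.HasLTensorCx (((ModSite.tensorCx O).obj K).obj L)]

/-- the comparison datum `Q ⋙ (- ⊗^L K) ⊗^L L ⟶ Q(- ⊗ (K ⊗ L))`. -/
noncomputable def beta :
    DerivedCategory.Q ⋙ (ModSite.LTensorCx K ⋙ ModSite.LTensorCx L) ⟶
      ModSite.tensorCxQ (((ModSite.tensorCx O).obj K).obj L) :=
  (Functor.associator _ _ _).inv ≫ Functor.whiskerRight (counit O K) (ModSite.LTensorCx L) ≫
    (Functor.associator _ _ _).hom ≫
    Functor.whiskerLeft ((ModSite.tensorCx O).flip.obj K) (counit O L) ≫
    (Functor.associator _ _ _).inv ≫ Functor.whiskerRight (flipAssoc O K L).hom DerivedCategory.Q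

lemma beta_app (F : CochainComplex (ModSite.Mod O) ℤ) :
    (beta O K L).app F = (ModSite.LTensorCx L).map ((counit O K).app F) ≫
      (counit O L).app (((ModSite.tensorCx O).flip.obj K).obj F) ≫
      DerivedCategory.Q.map ((flipAssoc O K L).hom.app F) := by
  simp [beta]

/-- the comparison `(- ⊗^L K) ⊗^L L ⟶ - ⊗^L (K ⊗ L)`. -/
noncomputable def nu :
    ModSite.LTensorCx K ⋙ ModSite.LTensorCx L ⟶
      ModSite.LTensorCx (((ModSite.tensorCx O).obj K).obj L) :=
  Functor.leftDerivedLift (ModSite.LTensorCx (((ModSite.tensorCx O).obj K).obj L))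
    (counit O (((ModSite.tensorCx O).obj K).obj L))
    (HomologicalComplex.quasiIso (ModSite.Mod O) (ComplexShape.up ℤ))
    (ModSite.LTensorCx K ⋙ ModSite.LTensorCx L) (beta O K L)

lemma nu_app (F : CochainComplex (ModSite.Mod O) ℤ) :
    (nu O K L).app (DerivedCategory.Q.obj F) ≫
      (counit O (((ModSite.tensorCx O).obj K).obj L)).app F = (beta O K L).app F :=
  Functor.leftDerived_fac_app _ _ _ _ _ _

end Groth.Agent.Helper7.LTS5
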