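import Mathlib
import Groth.Agent.Lib.Helper7.LTS2
import Groth.Agent.Lib.Helper7.LTS5
import Groth.Agent.Lib.Lead.MS.Assoc3

set_option autoImplicit false
universe u
open CategoryTheory Category Limits
attribute [local instance] HasDerivedCategory.standard

namespace Groth.Agent.Helper7.LTS6

open Groth.Agent.Helper7.LTS1 Groth.Agent.Helper7.LTS3 Groth.Agent.Helper7.LTS4 Groth.Agent.Helper7.LTS5 Groth.Agent.LD.MS

variable {C : Type u} [SmallCategory C] {J : GrothendieckTopology C} (O : Sheaf J CommRingCat.{u})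

variable (K L : CochainComplex (ModSite.Mod O) ℤ) [ModSite.HasLTensorCx K] [ModSite.HasLTensorCx L]
  [ModSite.HasLTensorCx (((ModSite.tensorCx O).obj K).obj L)]

theorem isIso_nu (hL : ModSite.IsKFlat L) : IsIso (nu O K L) := by
  rw [NatTrans.isIso_iff_isIso_app]
  intro X
  obtain ⟨P, s, hP, hs⟩ := Groth.Agent.H4.GKS6.hres O (DerivedCategory.Q.objPreimage X)
  haveI : IsIso (DerivedCategory.Q.map s) := by
    rw [DerivedCategory.isIso_Q_map_iff_quasiIso]; exact hs
  let eX : DerivedCategory.Q.obj P ≅ X :=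
    asIso (DerivedCategory.Q.map s) ≪≫ DerivedCategory.Q.objObjPreimageIso X
  rw [← NatTrans.isIso_app_iff_of_iso _ eX]
  haveI := isIso_counit_app O K P hP
  haveI := isIso_counit_app O (((ModSite.tensorCx O).obj K).obj L) P hP
  haveI := isIso_counit_of_kflat O L hL
  haveI : IsIso ((beta O K L).app P) := by
    rw [beta_app]; infer_instance
  have h := nu_app O K L P
  have h2 : (nu O K L).app (DerivedCategory.Q.obj P) = (beta O K L).app P ≫
      inv ((counit O (((ModSite.tensorCx O).obj K).obj L)).app P) := by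
    rw [← h, Category.assoc, IsIso.hom_inv_id, Category.comp_id]
  rw [h2]
  infer_instance

/-- `(- ⊗^L K) ⊗^L L ≅ - ⊗^L (K ⊗ L)` for `L` K-flat. -/
noncomputable def nuIso (hL : ModSite.IsKFlat L) :
    ModSite.LTensorCx K ⋙ ModSite.LTensorCx L ≅
      ModSite.LTensorCx (((ModSite.tensorCx O).obj K).obj L) :=
  haveI := isIso_nu O K L hL
  asIso (nu O K L)

/-- transfer to right adjoints. -/
theorem rhom_tensor (hL : ModSite.IsKFlat L) {RK RL RKL : DCoh.DMod (ModSite.ringSh O) ⥤ DCoh.DMod (ModSite.ringSh O)}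
    (adjK : ModSite.LTensorCx K ⊣ RK) (adjL : ModSite.LTensorCx L ⊣ RL)
    (adjKL : ModSite.LTensorCx (((ModSite.tensorCx O).obj K).obj L) ⊣ RKL) :
    Nonempty (RL ⋙ RK ≅ RKL) :=
  ⟨((adjK.comp adjL).ofNatIsoLeft (nuIso O K L hL)).rightAdjointUniq adjKL⟩

end Groth.Agent.Helper7.LTS6
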