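import Mathlib
import Groth.Agent.Lib.Helper7.IndLan

open CategoryTheory CategoryTheory.Limits Opposite

universe u

namespace Groth.Agent.H7.LanSlice

open Groth.Agent.H7.IndLan

variable {C : Type u} [SmallCategory C] {C' : Type u} [SmallCategory C'] (u : C ⥤ C')

section val
variable [u.Faithful] (H : Cᵒᵖ ⥤ Type u) {X : C}

open Classical in
/-- the invariant -/
noncomputable def val {Y : C} (k : u.obj X ⟶ u.obj Y) (h : H.obj (op Y)) : Option (H.obj (op X)) :=
  if hq : ∃ t : X ⟶ Y, u.map t = k then some (H.map hq.choose.op h) else none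

lemma val_of {Y : C} (k : u.obj X ⟶ u.obj Y) (h : H.obj (op Y)) (t : X ⟶ Y) (ht : u.map t = k) :
    val u H k h = some (H.map t.op h) := by
  have hq : ∃ t : X ⟶ Y, u.map t = k := ⟨t, ht⟩
  have : hq.choose = t := u.map_injective (hq.choose_spec.trans ht.symm)
  simp [val, hq, this]

lemma val_none {Y : C} (k : u.obj X ⟶ u.obj Y) (h : H.obj (op Y))
    (hq : ¬ ∃ t : X ⟶ Y, u.map t = k) : val u H k h = none := by
  simp [val, hq]

lemma val_eq_some {Y : C} (k : u.obj X ⟶ u.obj Y) (h : H.obj (op Y)) (x : H.obj (op X))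
    (hv : val u H k h = some x) : ∃ t : X ⟶ Y, u.map t = k ∧ H.map t.op h = x := by
  by_cases hq : ∃ t : X ⟶ Y, u.map t = k
  · obtain ⟨t, ht⟩ := hq
    rw [val_of u H k h t ht] at hv
    exact ⟨t, ht, Option.some.inj hv⟩
  · rw [val_none u H k h hq] at hv
    cases hv

lemma val_comp (hu : ∀ X : C, (Over.post (X := X) u).Full)
    {Y₁ Y₂ : C} (f : Y₂ ⟶ Y₁) (k₂ : u.obj X ⟶ u.obj Y₂) (h : H.obj (op Y₁)) :
    val u H (k₂ ≫ u.map f) h = val u H k₂ (H.map f.op h) := by
  by_cases hq : ∃ t : X ⟶ Y₂, u.map t = k₂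
  · obtain ⟨t, ht⟩ := hq
    rw [val_of u H k₂ _ t ht, val_of u H (k₂ ≫ u.map f) h (t ≫ f) (by rw [u.map_comp, ht])]
    rw [op_comp, Functor.map_comp_apply]
  · rw [val_none u H k₂ _ hq, val_none]
    rintro ⟨t₁, ht₁⟩
    apply hq
    haveI := hu Y₁
    let a : Over Y₁ := Over.mk t₁
    let b : Over Y₁ := Over.mk f
    let m : (Over.post u).obj a ⟶ (Over.post u).obj b := Over.homMk k₂ ht₁.symm
    obtain ⟨m', hm'⟩ := (Over.post (X := Y₁) u).map_surjective m
    refine ⟨m'.left, ?_⟩
    have := congrArg (fun t => t.left) hm'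
    exact this

end val


section main
variable [u.Faithful] (hu : ∀ X : C, (Over.post (X := X) u).Full) (H : Cᵒᵖ ⥤ Type u)

/-- the pointwise colimit cocone of `lan H` at `op X'` -/
noncomputable abbrev cc (X' : C') : Cocone (CostructuredArrow.proj u.op (op X') ⋙ H) :=
  (Functor.LeftExtension.mk _ (u.op.leftKanExtensionUnit H)).coconeAt (op X')

/-- it is a colimit -/
noncomputable def hcc (X' : C') : IsColimit (cc u H X') :=
  Functor.isPointwiseLeftKanExtensionLeftKanExtensionUnit u.op H (op X')

/-- invariant cocone -/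
noncomputable def invCocone (X : C) :
    Cocone (CostructuredArrow.proj u.op (op (u.obj X)) ⋙ H) where
  pt := Option (H.obj (op X))
  ι :=
    { app := fun g => ↾(fun h => val u H (Y := g.left.unop) g.hom.unop h)
      naturality := by
        intro g₁ g₂ φ
        ext h
        have hw : g₁.hom.unop = g₂.hom.unop ≫ u.map φ.left.unop := by
          have := CostructuredArrow.w φ
          have := congrArg Quiver.Hom.unop this
          simpa using this.symm
        change val u H (Y := g₂.left.unop) g₂.hom.unop (H.map φ.left h) =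
          val u H (Y := g₁.left.unop) g₁.hom.unop h
        rw [hw, val_comp u H hu]
        rfl }

/-- the invariant map -/
noncomputable def descX (X : C) : ((L u).obj H).obj (op (u.obj X)) ⟶ Option (H.obj (op X)) :=
  (hcc u H (u.obj X)).desc (invCocone u hu H X)

lemma descX_leg (X : C) (g : CostructuredArrow u.op (op (u.obj X))) (h : H.obj g.left) :
    descX u hu H X ((cc u H (u.obj X)).ι.app g h) = val u H (Y := g.left.unop) g.hom.unop h := by
  have := (hcc u H (u.obj X)).fac (invCocone u hu H X) g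
  exact ConcreteCategory.congr_hom this h

lemma unit_eq_leg (X : C) (h : H.obj (op X)) :
    (cc u H (u.obj X)).ι.app (CostructuredArrow.mk (𝟙 (u.op.obj (op X)))) h =
      ((adj u).unit.app H).app (op X) h := by
  have e1 : (adj u).unit = u.op.lanUnit := Functor.lanAdjunction_unit _ _
  have e2 : ((adj u).unit.app H).app (op X) h = (u.op.leftKanExtensionUnit H).app (op X) h := by
    rw [e1]; rfl
  rw [e2]
  change (u.op.leftKanExtension H).map (𝟙 _) ((u.op.leftKanExtensionUnit H).app (op X) h) = _
  simp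

lemma descX_unit (X : C) (h : H.obj (op X)) :
    descX u hu H X (((adj u).unit.app H).app (op X) h) = some h := by
  rw [← unit_eq_leg]
  have := descX_leg u hu H X (CostructuredArrow.mk (𝟙 (u.op.obj (op X)))) h
  refine this.trans ?_
  have hv := val_of u H (X := X) (Y := X) (𝟙 (u.obj X)) h (𝟙 X) (by simp)
  refine hv.trans ?_
  simp

include hu in
lemma unit_injective (X : C) : Function.Injective (((adj u).unit.app H).app (op X)) := by
  intro a b hab
  have := congrArg (descX u hu H X) hab
  rw [descX_unit, descX_unit] at this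
  exact Option.some.inj this

lemma leg_map {K : Cᵒᵖ ⥤ Type u} (α : H ⟶ K) (X' : C') (g : CostructuredArrow u.op (op X'))
    (h : H.obj g.left) :
    ((L u).map α).app (op X') ((cc u H X').ι.app g h) = (cc u K X').ι.app g (α.app g.left h) := by
  have n2 : α ≫ u.op.lanUnit.app K =
      u.op.lanUnit.app H ≫ Functor.whiskerLeft u.op ((L u).map α) := u.op.lanUnit.naturality α
  have n3 := congrArg (fun t => t.app g.left) n2
  show ((L u).map α).app (op X') (((L u).obj H).map g.hom ((u.op.lanUnit.app H).app g.left h)) =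
    ((L u).obj K).map g.hom ((u.op.lanUnit.app K).app g.left (α.app g.left h))
  have a := NatTrans.naturality_apply ((L u).map α) g.hom ((u.op.lanUnit.app H).app g.left h)
  refine a.trans ?_
  congr 1
  exact (ConcreteCategory.congr_hom n3 h).symm

include hu in
theorem isPullback_unit {K : Cᵒᵖ ⥤ Type u} (α : H ⟶ K) :
    IsPullback ((adj u).unit.app H) α
      (((Functor.whiskeringLeft Cᵒᵖ C'ᵒᵖ (Type u)).obj u.op).map ((L u).map α))
      ((adj u).unit.app K) := by
  apply IsPullback.of_forall_isPullback_app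
  rintro ⟨X⟩
  rw [Types.isPullback_iff]
  refine ⟨?_, ?_, ?_⟩
  · have := (adj u).unit.naturality α
    exact (congrArg (fun t => t.app (op X)) this).symm
  · rintro x₁ y₁ ⟨h1, -⟩
    exact unit_injective u hu H X h1
  · intro z k hzk
    change ((L u).obj H).obj (op (u.obj X)) at z
    change K.obj (op X) at k
    change ((L u).map α).app (op (u.obj X)) z = ((adj u).unit.app K).app (op X) k at hzk
    obtain ⟨g, h₀, rfl⟩ := Types.jointly_surjective_of_isColimit (hcc u H (u.obj X)) z
    rw [leg_map] at hzk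
    have h1 := congrArg (descX u hu K X) hzk
    rw [descX_leg, descX_unit] at h1
    obtain ⟨t, ht, htk⟩ := val_eq_some u K _ _ _ h1
    refine ⟨H.map t.op h₀, ?_, ?_⟩
    · change ((adj u).unit.app H).app (op X) (H.map t.op h₀) = _
      rw [← unit_eq_leg]
      let φ : g ⟶ CostructuredArrow.mk (𝟙 (u.op.obj (op X))) :=
        CostructuredArrow.homMk t.op (by
          apply Quiver.Hom.unop_inj
          simpa using ht)
      have := (cc u H (u.obj X)).w φ
      exact ConcreteCategory.congr_hom this h₀
    · change α.app (op X) (H.map t.op h₀) = k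
      rw [← htk]
      exact NatTrans.naturality_apply α t.op h₀

end main

theorem S6129_main [u.Faithful]
    (hu : ∀ X : C, (Over.post (X := X) u).Full ∧ (Over.post (X := X) u).Faithful) :
    (u.op.lan : (Cᵒᵖ ⥤ Type u) ⥤ (C'ᵒᵖ ⥤ Type u)).Faithful ∧
    (∀ H : Cᵒᵖ ⥤ Type u, Mono ((u.op.lanAdjunction (Type u)).unit.app H)) ∧
    ∀ (H K : Cᵒᵖ ⥤ Type u) (α : H ⟶ K),
      IsPullback ((u.op.lanAdjunction (Type u)).unit.app H) α
        (((Functor.whiskeringLeft Cᵒᵖ C'ᵒᵖ (Type u)).obj u.op).map (u.op.lan.map α))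
        ((u.op.lanAdjunction (Type u)).unit.app K) := by
  have hu' : ∀ X : C, (Over.post (X := X) u).Full := fun X => (hu X).1
  have hmono : ∀ H : Cᵒᵖ ⥤ Type u, Mono ((u.op.lanAdjunction (Type u)).unit.app H) := by
    intro H
    haveI : ∀ Y : Cᵒᵖ, Mono (((adj u).unit.app H).app Y) := by
      rintro ⟨X⟩
      exact (mono_iff_injective _).mpr (unit_injective u hu' H X)
    exact NatTrans.mono_of_mono_app _
  refine ⟨⟨fun {F G} φ ψ h => ?_⟩, hmono, fun H K α => isPullback_unit u hu' H α⟩
  have h1 := comp_unit_eq u φ ψ h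
  haveI := hmono G
  exact (cancel_mono _).mp h1

end Groth.Agent.H7.LanSlice
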