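import Mathlib

/-! Linear maps on lattices containing O^n are matrices (helper7, for S15010). -/

set_option autoImplicit false
universe u

namespace Groth.Agent.H7.LatMat

/-- An `O`-linear map from a lattice containing `O^n` into `K^n` is given by a matrix. -/
theorem linear_eq_mulVec (O : Type u) [CommRing O] [IsDomain O] (K : Type u) [Field K] [Algebra O K]
    [IsFractionRing O K] (n : ℕ) (M : Submodule O (Fin n → K))
    (he : ∀ j : Fin n, (Pi.single j (1 : K) : Fin n → K) ∈ M)
    (ψ : ↥M →ₗ[O] (Fin n → K)) (x : ↥M) :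
    ψ x = (Matrix.of fun i j => ψ ⟨Pi.single j 1, he j⟩ i).mulVec (x : Fin n → K) := by
  classical
  obtain ⟨s, hs⟩ := IsLocalization.exist_integer_multiples (nonZeroDivisors O) (Finset.univ : Finset (Fin n))
    (fun i => (x : Fin n → K) i)
  choose c hc using fun i => hs i (Finset.mem_univ i)
  have hs0 : algebraMap O K (s : O) ≠ 0 := by
    intro h0
    exact nonZeroDivisors.ne_zero s.2 ((IsFractionRing.injective O K) (by rw [h0, map_zero]))
  -- s • x = Σ c_j • e_j in M
  have hsx : (s : O) • x = ∑ j, c j • (⟨Pi.single j 1, he j⟩ : ↥M) := by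
    apply Subtype.ext
    funext i
    simp only [Submodule.coe_smul, Submodule.coe_sum, Pi.smul_apply, Finset.sum_apply]
    rw [Finset.sum_eq_single i]
    · simp only [Pi.single_eq_same]
      rw [← hc i, Algebra.smul_def, mul_one]
    · intro j _ hji
      simp [Pi.single_eq_of_ne (Ne.symm hji)]
    · intro h; exact absurd (Finset.mem_univ i) h
  have h1 : (s : O) • ψ x = ∑ j, c j • ψ ⟨Pi.single j 1, he j⟩ := by
    rw [← map_smul, hsx, map_sum]
    simp only [map_smul]
  have h2 : (s : O) • ((Matrix.of fun i j => ψ ⟨Pi.single j 1, he j⟩ i).mulVec (x : Fin n → K)) =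
      ∑ j, c j • ψ ⟨Pi.single j 1, he j⟩ := by
    funext i
    simp only [Pi.smul_apply, Matrix.mulVec, dotProduct, Matrix.of_apply, Finset.sum_apply]
    rw [Algebra.smul_def, Finset.mul_sum]
    apply Finset.sum_congr rfl
    intro j _
    rw [Algebra.smul_def, hc j, Algebra.smul_def]
    ring
  have h3 : (s : O) • ψ x = (s : O) • ((Matrix.of fun i j => ψ ⟨Pi.single j 1, he j⟩ i).mulVec (x : Fin n → K)) := by
    rw [h1, h2]
  funext i
  have := congrFun h3 i
  simp only [Pi.smul_apply, Algebra.smul_def] at this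
  exact mul_left_cancel₀ hs0 this

end Groth.Agent.H7.LatMat
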