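import Groth.Agent.Lib.Helper5.Lim.FGSub2
import Groth.Agent.Lib.Helper5.Lim.DescendSurjective
import Mathlib
set_option autoImplicit false
universe u
open CategoryTheory CategoryTheory.Limits AlgebraicGeometry MorphismProperty Opposite

namespace Groth.Agent.H7.LimAff
open Groth.Agent.H5.Lim

/-- Persistence of a base-change-stable property of the structure map of a model. -/
lemma Model_bc_comp {I : Type u} [SmallCategory I] {D : I ⥤ Scheme.{u}} {c : Cone D}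
    {P : MorphismProperty Scheme.{u}} [P.IsStableUnderBaseChange]
    {T : Scheme.{u}} {h : T ⟶ c.pt} {i : I} (M : Model D c h i) {j k : I} (φ : j ⟶ i) (ψ : k ⟶ j)
    (hP : P (M.bc φ).p) : P (M.bc (ψ ≫ φ)).p := by
  change P (pullback.snd M.p (D.map (ψ ≫ φ)))
  rw [bc_congr (P := P) M.p (D.map_comp ψ φ)]
  exact bc_of_comp M.p _ _ hP

/-- **Noetherian approximation** of an étale surjective affine morphism to an affine scheme. -/
theorem exists_fgz_model (A : Type u) [CommRing A] {X : Scheme.{u}}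
    (f : X ⟶ Spec (CommRingCat.of A)) [Etale f] [Surjective f] [IsAffineHom f] :
    ∃ A₀ : Subalgebra ℤ A, A₀.FG ∧
      ∃ (X₀ : Scheme.{u}) (f₀ : X₀ ⟶ Spec (CommRingCat.of ↥A₀)) (g : X ⟶ X₀),
        Etale f₀ ∧ Surjective f₀ ∧ IsAffineHom f₀ ∧
          IsPullback g f f₀ (Spec.map (CommRingCat.ofHom (algebraMap (↥A₀) A))) := by
  let f' : X ⟶ (fgzCone A).pt := f
  haveI : LocallyOfFinitePresentation f' := inferInstanceAs (LocallyOfFinitePresentation f)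
  haveI : QuasiCompact f' := inferInstanceAs (QuasiCompact f)
  haveI : QuasiSeparated f' := inferInstanceAs (QuasiSeparated f)
  obtain ⟨j, ⟨M⟩⟩ := exists_model (fgzDiagram A) (fgzCone A) (isLimitFgzCone A) f'
  obtain ⟨k₁, φ₁, h₁⟩ := M.exists_property (isLimitFgzCone A) affineSystemDescent_etale
    ⟨M.lfp, M.qc, M.qs⟩ (inferInstanceAs (Etale f))
  obtain ⟨k₂, φ₂, h₂⟩ := M.exists_property (isLimitFgzCone A) affineSystemDescent_surjective
    ⟨M.lfp, M.qc, M.qs⟩ (inferInstanceAs (Surjective f))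
  obtain ⟨k₃, φ₃, h₃⟩ := M.exists_property (isLimitFgzCone A) affineSystemDescent_isAffineHom
    ⟨M.qc, M.qs⟩ (inferInstanceAs (IsAffineHom f))
  -- common refinement
  let k₁₂ := IsCofiltered.min k₁ k₂
  obtain ⟨k₁₂', α, hα⟩ : ∃ (k' : (FGZ A)ᵒᵖ) (α : k' ⟶ k₁₂),
      α ≫ IsCofiltered.minToLeft k₁ k₂ ≫ φ₁ = α ≫ IsCofiltered.minToRight k₁ k₂ ≫ φ₂ :=
    ⟨_, IsCofiltered.eqHom _ _, IsCofiltered.eq_condition _ _⟩
  let k := IsCofiltered.min k₁₂' k₃
  obtain ⟨k', β, hβ⟩ : ∃ (k' : (FGZ A)ᵒᵖ) (β : k' ⟶ k),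
      β ≫ IsCofiltered.minToLeft k₁₂' k₃ ≫ α ≫ IsCofiltered.minToLeft k₁ k₂ ≫ φ₁ =
        β ≫ IsCofiltered.minToRight k₁₂' k₃ ≫ φ₃ :=
    ⟨_, IsCofiltered.eqHom _ _, IsCofiltered.eq_condition _ _⟩
  let ψ₁ : k' ⟶ k₁ := β ≫ IsCofiltered.minToLeft k₁₂' k₃ ≫ α ≫ IsCofiltered.minToLeft k₁ k₂
  let ψ₂ : k' ⟶ k₂ := β ≫ IsCofiltered.minToLeft k₁₂' k₃ ≫ α ≫ IsCofiltered.minToRight k₁ k₂
  let ψ₃ : k' ⟶ k₃ := β ≫ IsCofiltered.minToRight k₁₂' k₃
  have e₂ : ψ₂ ≫ φ₂ = ψ₁ ≫ φ₁ := by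
    simp only [ψ₁, ψ₂, Category.assoc]
    rw [hα]
  have e₃ : ψ₃ ≫ φ₃ = ψ₁ ≫ φ₁ := by
    simp only [ψ₁, ψ₃, Category.assoc]
    rw [← hβ]
  have H₁ : Etale (M.bc (ψ₁ ≫ φ₁)).p := Model_bc_comp (P := @Etale) M φ₁ ψ₁ h₁
  have H₂ : Surjective (M.bc (ψ₁ ≫ φ₁)).p := by
    rw [← e₂]; exact Model_bc_comp (P := @Surjective) M φ₂ ψ₂ h₂
  have H₃ : IsAffineHom (M.bc (ψ₁ ≫ φ₁)).p := by
    rw [← e₃]; exact Model_bc_comp (P := @IsAffineHom) M φ₃ ψ₃ h₃
  exact ⟨k'.unop.1, k'.unop.2, (M.bc (ψ₁ ≫ φ₁)).Y, (M.bc (ψ₁ ≫ φ₁)).p, (M.bc (ψ₁ ≫ φ₁)).g,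
    H₁, H₂, H₃, (M.bc (ψ₁ ≫ φ₁)).pb⟩

/-- The structure map `ℤ → A₀` in universe `u`. -/
noncomputable abbrev zHom (B : Type u) [CommRing B] : ULift.{u} ℤ →+* B :=
  (Int.castRingHom B).comp (ULift.ringEquiv : ULift.{u} ℤ ≃+* ℤ).toRingHom

/-- Finitely generated `ℤ`-algebras are finitely presented: the structure map is locally of finite
presentation. -/
lemma lfp_Spec_map_of_fg {A : Type u} [CommRing A] (A₀ : Subalgebra ℤ A) (h : A₀.FG) :
    LocallyOfFinitePresentation (Spec.map (CommRingCat.ofHom (zHom ↥A₀))) := by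
  rw [HasRingHomProperty.Spec_iff (P := @LocallyOfFinitePresentation)]
  have h1 : Algebra.FiniteType ℤ (↥A₀) := (Subalgebra.fg_iff_finiteType A₀).1 h
  have h2 : Algebra.FinitePresentation ℤ (↥A₀) :=
    (Algebra.FinitePresentation.of_finiteType).1 h1
  have h3 : (Int.castRingHom ↥A₀).FinitePresentation := by
    have : algebraMap ℤ ↥A₀ = Int.castRingHom ↥A₀ := rfl
    rw [← this]
    exact (RingHom.finitePresentation_algebraMap).2 h2
  have h4 : ((ULift.ringEquiv : ULift.{u} ℤ ≃+* ℤ).toRingHom).FinitePresentation :=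
    RingHom.FinitePresentation.of_surjective _ (ULift.ringEquiv : ULift.{u} ℤ ≃+* ℤ).surjective
      (by
        have : RingHom.ker ((ULift.ringEquiv : ULift.{u} ℤ ≃+* ℤ).toRingHom) = ⊥ :=
          (RingHom.injective_iff_ker_eq_bot _).1 (ULift.ringEquiv : ULift.{u} ℤ ≃+* ℤ).injective
        rw [this]
        exact Submodule.fg_bot)
  exact h3.comp h4

/-- **Model over a base**: an étale surjective affine morphism `ψ : U ⟶ T` to an affine scheme `T`
over `P` is the base change of an étale surjective affine morphism `e : Q' ⟶ T'` with `T'` affine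
and of finite presentation over `P`. -/
theorem exists_model_prod {T U P : Scheme.{u}} [IsAffine T] (ψ : U ⟶ T) [Etale ψ] [Surjective ψ]
    [IsAffineHom ψ] (π : T ⟶ P) :
    ∃ (T' Q' : Scheme.{u}) (p' : T' ⟶ P) (e : Q' ⟶ T') (a : T ⟶ T') (b : U ⟶ Q'),
      IsAffineHom p' ∧ LocallyOfFinitePresentation p' ∧ Etale e ∧ Surjective e ∧ IsAffineHom e ∧
      a ≫ p' = π ∧ IsPullback b ψ e a := by
  let A : Type u := Γ(T, ⊤)
  let f : U ⟶ Spec (CommRingCat.of A) := ψ ≫ T.isoSpec.hom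
  haveI : Etale f := inferInstanceAs (Etale (ψ ≫ T.isoSpec.hom))
  haveI : Surjective f := inferInstanceAs (Surjective (ψ ≫ T.isoSpec.hom))
  haveI : IsAffineHom f := inferInstanceAs (IsAffineHom (ψ ≫ T.isoSpec.hom))
  obtain ⟨A₀, hA₀, X₀, f₀, g, hf₀e, hf₀s, hf₀a, sq⟩ := exists_fgz_model A f
  let z₀ : Spec (CommRingCat.of ↥A₀) ⟶ Spec (CommRingCat.of (ULift.{u} ℤ)) :=
    Spec.map (CommRingCat.ofHom (zHom ↥A₀))
  haveI : LocallyOfFinitePresentation z₀ := lfp_Spec_map_of_fg A₀ hA₀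
  let zP : P ⟶ Spec (CommRingCat.of (ULift.{u} ℤ)) := specULiftZIsTerminal.from P
  let a₀ : T ⟶ Spec (CommRingCat.of ↥A₀) :=
    T.isoSpec.hom ≫ Spec.map (CommRingCat.ofHom (algebraMap (↥A₀) A))
  have sq' : IsPullback g ψ f₀ a₀ := by
    have := sq
    exact IsPullback.of_iso this (Iso.refl _) (Iso.refl _) T.isoSpec.symm (Iso.refl _)
      (by simp) (by simp [f]) (by simp) (by simp [a₀])
  -- the product with `P`
  let a : T ⟶ pullback z₀ zP := pullback.lift a₀ π (specULiftZIsTerminal.hom_ext _ _)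
  let b : U ⟶ pullback f₀ (pullback.fst z₀ zP) :=
    pullback.lift g (ψ ≫ a) (by rw [Category.assoc, pullback.lift_fst]; exact sq'.w)
  have hz₀ : IsAffineHom z₀ := inferInstanceAs (IsAffineHom (Spec.map _))
  have hA1 : IsAffineHom (pullback.snd z₀ zP) :=
    MorphismProperty.pullback_snd (P := @IsAffineHom) _ _ hz₀
  have hA2 : IsAffineHom (pullback.snd f₀ (pullback.fst z₀ zP)) :=
    MorphismProperty.pullback_snd (P := @IsAffineHom) _ _ hf₀a
  refine ⟨pullback z₀ zP, pullback f₀ (pullback.fst z₀ zP), pullback.snd z₀ zP,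
    pullback.snd f₀ (pullback.fst z₀ zP), a, b, hA1, inferInstance, inferInstance,
    inferInstance, hA2, pullback.lift_snd _ _ _, ?_⟩
  refine IsPullback.of_right ?_ (pullback.lift_snd _ _ _) (IsPullback.of_hasPullback f₀ _)
  rw [pullback.lift_fst, pullback.lift_fst]
  exact sq'

end Groth.Agent.H7.LimAff
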