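import Groth.Agent.Lib.Helper7.LimAffA
import Groth.Agent.Lib.Helper7.LimAffB
import Mathlib
set_option autoImplicit false
universe u
open CategoryTheory CategoryTheory.Limits AlgebraicGeometry

namespace Groth.Agent.H7.LimAff
open _root_.AlgSp Groth.Agent.H5.AlgSp Groth.Agent.H5.Lim Groth.Agent.H5.AlgSp.Lim
  Groth.Agent.H5.EtSrc

variable {S : Scheme.{u}} {I : Type u} [SmallCategory I] [IsCofiltered I]

/-- **Stage models.** Let `(D_i)` be a cofiltered system of quasi-compact quasi-separated algebraic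
spaces over a scheme `P₀`, with affine transition maps, whose limit is an affine scheme. Then there
are an affine morphism `T' ⟶ P₀`, an étale surjective affine `ε : Q' ⟶ T'` and, for all large `i`,
a morphism `τ : D_i ⟶ T'` over `P₀` whose base change along `ε` is (represented by) an affine
scheme `U_i`. -/
theorem exists_stage_model [QuasiSeparatedSpace ↥S] (D : I ⥤ Sp S)
    (hD : ∀ i, IsAlgSpace (D.obj i))
    (hDa : ∀ (i j : I) (φ : i ⟶ j), IsAffineMor (D.map φ))
    (hqc : ∀ i, IsQuasiCompactSp (D.obj i)) (hqs : ∀ i, IsQuasiSeparatedSp (D.obj i))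
    (P₀ : Over S) (t : D ⟶ (Functor.const I).obj ((yon S).obj P₀))
    (c : Cone D) (hc : IsLimit c) (T : Over S) [IsAffine T.left] (e : (yon S).obj T ≅ c.pt) :
    ∃ (i₀ : I) (T' Q' : Over S) (p' : T' ⟶ P₀) (ε : Q' ⟶ T'),
      IsAffineHom p'.left ∧ Etale ε.left ∧ Surjective ε.left ∧ IsAffineHom ε.left ∧
      ∀ (i : I) (_ : i ⟶ i₀), ∃ (τ : D.obj i ⟶ (yon S).obj T') (Ui : Over S)
        (ui : (yon S).obj Ui ⟶ D.obj i) (σ : Ui ⟶ Q'),
        IsAffine Ui.left ∧ τ ≫ (yon S).map p' = t.app i ∧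
        IsPullback ui ((yon S).map σ) τ ((yon S).map ε) := by
  obtain ⟨i₁⟩ := IsCofiltered.nonempty (C := I)
  have : IsConnected (Over i₁) := IsFiltered.isConnected (Over i₁)
  obtain ⟨U₁, u₁, hU₁, hu₁e, hu₁s⟩ := exists_affine_chart_of_isQuasiCompactSp (hqc i₁)
  obtain ⟨CS⟩ := ChartSystem.exists_of_isAffineMor D hDa c hc i₁ u₁
  haveI hm : ∀ {j k : Over i₁} (φ : j ⟶ k), IsAffineHom (CS.F.map φ) :=
    fun φ => CS.isAffineHom_map hDa φ
  have hA : ∀ j, IsAffine (CS.P.E.obj j).left := fun j => by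
    have : IsAffineHom (CS.P.q j).left := CS.isAffineHom_q hDa j
    exact isAffine_of_isAffineHom (CS.P.q j).left
  haveI hA' : ∀ j, IsAffine (CS.F.obj j) := hA
  haveI hUaff : IsAffine CS.cE.pt.left := Scheme.isAffine_of_isLimit CS.cF CS.hcF
  have hfe : RepWith @Etale CS.fst := (RepWith @Etale).of_isPullback CS.sq.flip hu₁e
  have hfs : RepWith @Surjective CS.fst := (RepWith @Surjective).of_isPullback CS.sq.flip hu₁s
  haveI : Sheaf.IsLocallySurjective CS.fst := isLocallySurjective_of_etale_surjective _ hfe hfs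
  -- charts of the stages
  have hfje : ∀ j, RepWith @Etale (CS.P.f j) := fun j =>
    (RepWith @Etale).of_isPullback (CS.sq' j).flip hu₁e
  have hfjs : ∀ j, RepWith @Surjective (CS.P.f j) := fun j =>
    (RepWith @Surjective).of_isPullback (CS.sq' j).flip hu₁s
  -- the limit chart as a morphism of schemes
  obtain ⟨ψ, hψ⟩ := (yon S).map_surjective (CS.fst ≫ e.inv)
  haveI hψe : Etale ψ.left := (repWith_yon_map_iff @Etale ψ).1 (by
    rw [hψ]; exact (RepWith @Etale).comp_mem _ _ hfe (repWith_of_isIso _ _))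
  haveI hψs : Surjective ψ.left := (repWith_yon_map_iff @Surjective ψ).1 (by
    rw [hψ]; exact (RepWith @Surjective).comp_mem _ _ hfs (repWith_of_isIso _ _))
  haveI hψa : IsAffineHom ψ.left := inferInstance
  obtain ⟨πT, hπT⟩ := (yon S).map_surjective (e.hom ≫ c.π.app i₁ ≫ t.app i₁)
  obtain ⟨pU, hpU⟩ := (yon S).map_surjective (u₁ ≫ t.app i₁)
  have hstruct : ∀ j : Over i₁, (yon S).map (CS.P.q j ≫ pU) = CS.P.f j ≫ t.app j.left := by
    intro j
    have h2 := t.naturality j.hom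
    simp only [Functor.const_obj_obj, Functor.const_obj_map, Category.comp_id] at h2
    rw [Functor.map_comp, hpU, ← Category.assoc, ← (CS.sq' j).w, Category.assoc]
    exact congrArg (fun x => CS.P.f j ≫ x) h2
  have hsndpU : CS.snd ≫ pU = ψ ≫ πT := by
    apply (yon S).map_injective
    rw [Functor.map_comp, Functor.map_comp, hpU, hψ, hπT, ← Category.assoc, ← CS.sq.w]
    simp
  -- the model
  obtain ⟨T's, Q's, p's, es, as, bs, hp'a, hp'lfp, hee, hes, hea, hap, sqm⟩ :=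
    exists_model_prod ψ.left πT.left
  let T' : Over S := Over.mk (p's ≫ P₀.hom)
  let Q' : Over S := Over.mk (es ≫ p's ≫ P₀.hom)
  let p' : T' ⟶ P₀ := Over.homMk p's rfl
  let ε : Q' ⟶ T' := Over.homMk es rfl
  let a : T ⟶ T' := Over.homMk as (by
    change as ≫ p's ≫ P₀.hom = T.hom
    rw [← Category.assoc, hap, Over.w πT])
  let b : CS.cE.pt ⟶ Q' := Over.homMk bs (by
    change bs ≫ es ≫ p's ≫ P₀.hom = CS.cE.pt.hom
    rw [← Category.assoc, sqm.w, Category.assoc, ← Category.assoc as, hap, Over.w πT, Over.w ψ])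
  have hbε : b ≫ ε = ψ ≫ a := by
    apply Over.OverMorphism.ext
    exact sqm.w
  have hap' : a ≫ p' = πT := by
    apply Over.OverMorphism.ext
    exact hap
  have sqm' : IsPullback b ψ ε a := IsPullback.of_map (Over.forget S) hbε sqm
  -- (B1) descend the map to `Q'` to a stage of the chart system
  let tU : CS.F ⟶ (Functor.const (Over i₁)).obj P₀.left :=
    { app := fun j => (CS.P.q j ≫ pU).left
      naturality := fun j k φ => by
        simp only [Functor.const_obj_obj, Functor.const_obj_map, Category.comp_id]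
        change (CS.P.E.map φ).left ≫ (CS.P.q k ≫ pU).left = _
        rw [← Over.comp_left, ← Category.assoc, CS.P.q_nat] }
  haveI : LocallyOfFinitePresentation (es ≫ p's) := inferInstance
  haveI hcpt : ∀ j, CompactSpace ↥(CS.F.obj j) := fun j => inferInstance
  haveI hqsp : ∀ j, QuasiSeparatedSpace ↥(CS.F.obj j) := fun j => inferInstance
  obtain ⟨k₂, σs, hσ1, hσ2⟩ := Scheme.exists_π_app_comp_eq_of_locallyOfFinitePresentation
    CS.F tU (es ≫ p's) CS.cF CS.hcF bs (by
      ext j : 2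
      change (CS.cE.π.app j).left ≫ (CS.P.q j ≫ pU).left = bs ≫ es ≫ p's
      rw [← Over.comp_left, ← Category.assoc, CS.π_q, hsndpU, ← hap', ← Category.assoc, ← hbε]
      rfl)
  let σ₂ : CS.P.E.obj k₂ ⟶ Q' := Over.homMk σs (by
    change σs ≫ es ≫ p's ≫ P₀.hom = (CS.P.E.obj k₂).hom
    rw [← Category.assoc es, ← Category.assoc σs, hσ2]
    exact Over.w (CS.P.q k₂ ≫ pU))
  have hσ₂b : CS.cE.π.app k₂ ≫ σ₂ = b := by
    apply Over.OverMorphism.ext
    exact hσ1
  have hσ₂p : (σ₂ ≫ ε) ≫ p' = CS.P.q k₂ ≫ pU := by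
    apply Over.OverMorphism.ext
    change (σs ≫ es) ≫ p's = _
    rw [Category.assoc]
    exact hσ2
  -- (B2) descend the map to `T'` to a stage of the system
  haveI : LocallyOfFiniteType p'.left := by
    change LocallyOfFiniteType p's
    infer_instance
  haveI : CompactSpace ↥(CS.P.E.obj k₂).left := by
    have := hA k₂
    infer_instance
  obtain ⟨j₃, t₃, ht₃, hdesc⟩ := exists_stage_desc D hDa c hc P₀ t k₂.left (hqs _)
    (CS.P.f k₂) (hfje k₂) (hfjs k₂) p' (σ₂ ≫ ε) (by rw [hσ₂p]; exact hstruct k₂)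
    (e.inv ≫ (yon S).map a)
    (CS.isPullback_π k₂).flip (by
      have h0 : CS.cE.π.app k₂ ≫ σ₂ ≫ ε = ψ ≫ a := by rw [← Category.assoc, hσ₂b, hbε]
      rw [← Functor.map_comp, h0, Functor.map_comp, hψ, Category.assoc])
  let k₃ : Over i₁ := Over.mk (j₃.hom ≫ k₂.hom)
  let φ₃₂ : k₃ ⟶ k₂ := Over.homMk j₃.hom rfl
  let σ₃ : CS.P.E.obj k₃ ⟶ Q' := CS.P.E.map φ₃₂ ≫ σ₂
  let u₃ : (yon S).obj (CS.P.E.obj k₃) ⟶ D.obj j₃.left := CS.P.f k₃
  have hσ₃ : u₃ ≫ t₃ = (yon S).map (σ₃ ≫ ε) :=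
    (hdesc (CS.isPullback_map φ₃₂).flip).trans (by rw [← Functor.map_comp, Category.assoc])
  have hσ₃b : CS.cE.π.app k₃ ≫ σ₃ = b := by
    rw [← hσ₂b, ← Category.assoc]
    congr 1
    exact CS.cE.w φ₃₂
  -- (B3) the square is cartesian at a later stage
  haveI := hA k₃
  haveI : Etale ε.left := hee
  haveI : IsAffineHom ε.left := hea
  obtain ⟨j₄, hj₄⟩ := exists_stage_isPullback D hD hDa c hc j₃.left (hqc _) (hqs _)
    u₃ (hfje k₃) ε t₃ σ₃ hσ₃ (CS.isPullback_π k₃).flip (by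
      rw [← Functor.map_comp, hσ₃b, ht₃]
      exact IsPullback.of_iso (sqm'.map (yon S)) (Iso.refl _) (Iso.refl _) e (Iso.refl _)
        (by simp) (by simp [hψ]) (by simp) (by simp))
  have ht₃p : t₃ ≫ (yon S).map p' = t.app j₃.left := by
    haveI : Sheaf.IsLocallySurjective u₃ :=
      isLocallySurjective_of_etale_surjective _ (hfje k₃) (hfjs k₃)
    haveI : Epi u₃ := inferInstance
    rw [← cancel_epi u₃, ← Category.assoc, hσ₃, ← Functor.map_comp]
    have : (σ₃ ≫ ε) ≫ p' = CS.P.q k₃ ≫ pU := by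
      change ((CS.P.E.map φ₃₂ ≫ σ₂) ≫ ε) ≫ p' = _
      rw [Category.assoc, Category.assoc, ← Category.assoc σ₂, hσ₂p, ← Category.assoc,
        CS.P.q_nat]
    rw [this]
    exact hstruct k₃
  refine ⟨j₄.left, T', Q', p', ε, hp'a, hee, hes, hea, fun i φ => ?_⟩
  let k : Over j₃.left := Over.mk (φ ≫ j₄.hom)
  let ψk : k ⟶ j₄ := Over.homMk φ rfl
  let k' : Over i₁ := Over.mk ((φ ≫ j₄.hom) ≫ k₃.hom)
  let φ' : k' ⟶ k₃ := Over.homMk (φ ≫ j₄.hom) rfl
  refine ⟨D.map (φ ≫ j₄.hom) ≫ t₃, CS.P.E.obj k', CS.P.f k', CS.P.E.map φ' ≫ σ₃, hA k', ?_, ?_⟩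
  · rw [Category.assoc, ht₃p]
    have h2 := t.naturality (φ ≫ j₄.hom)
    simp only [Functor.const_obj_obj, Functor.const_obj_map, Category.comp_id] at h2
    exact h2
  · have := hj₄ k ψk (CS.isPullback_map φ').flip
    rw [Functor.map_comp]
    exact this.flip

end Groth.Agent.H7.LimAff
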