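import Groth.Agent.Lib.Helper7.LimAffC
import Groth.Agent.Lib.Helper5.Descent.AffineMorDescent
import Groth.Agent.Lib.Helper8.AlgSp.MorCalc
import Mathlib
set_option autoImplicit false
universe u
open CategoryTheory CategoryTheory.Limits AlgebraicGeometry

namespace Groth.Agent.H7.LimAff

section PL

universe v₁ u₁ v₂ u₂
variable {C : Type u₁} [Category.{v₁} C] [HasPullbacks C] {J : Type u₂} [Category.{v₂} J]
  {F : J ⥤ C} {B W : C} (g : W ⟶ B) (s : F ⟶ (Functor.const J).obj B)

lemma s_nat {j k : J} (φ : j ⟶ k) : F.map φ ≫ s.app k = s.app j := by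
  have := s.naturality φ
  simpa using this

/-- The base change of a diagram over `B` along `g : W ⟶ B`. -/
noncomputable abbrev pbFunctor : J ⥤ C where
  obj j := pullback g (s.app j)
  map {j k} φ := pullback.lift (pullback.fst g (s.app j)) (pullback.snd g (s.app j) ≫ F.map φ)
    (by rw [Category.assoc, s_nat, pullback.condition])
  map_id j := by
    apply pullback.hom_ext
    · rw [pullback.lift_fst, Category.id_comp]
    · rw [pullback.lift_snd, F.map_id, Category.comp_id, Category.id_comp]
  map_comp φ ψ := by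
    apply pullback.hom_ext
    · rw [pullback.lift_fst, Category.assoc, pullback.lift_fst, pullback.lift_fst]
    · rw [pullback.lift_snd, Category.assoc, pullback.lift_snd, pullback.lift_snd_assoc,
        F.map_comp, Category.assoc]

@[reassoc (attr := simp)]
lemma pbFunctor_map_fst {j k : J} (φ : j ⟶ k) :
    (pbFunctor g s).map φ ≫ pullback.fst g (s.app k) = pullback.fst g (s.app j) :=
  pullback.lift_fst _ _ _

@[reassoc (attr := simp)]
lemma pbFunctor_map_snd {j k : J} (φ : j ⟶ k) :
    (pbFunctor g s).map φ ≫ pullback.snd g (s.app k) = pullback.snd g (s.app j) ≫ F.map φ :=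
  pullback.lift_snd _ _ _

/-- The transition squares of the base change are cartesian. -/
lemma isPullback_pbFunctor_map {j k : J} (φ : j ⟶ k) :
    IsPullback ((pbFunctor g s).map φ) (pullback.snd g (s.app j)) (pullback.snd g (s.app k))
      (F.map φ) := by
  refine IsPullback.of_right ?_ (pbFunctor_map_snd g s φ) (IsPullback.of_hasPullback g (s.app k))
  rw [pbFunctor_map_fst, s_nat]
  exact IsPullback.of_hasPullback g (s.app j)

variable (c : Cone F) (σ : c.pt ⟶ B) (hσ : ∀ j, c.π.app j ≫ s.app j = σ)

/-- The projections of the base change cone. -/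
noncomputable def pbConeπ (j : J) : pullback g σ ⟶ pullback g (s.app j) :=
  pullback.lift (pullback.fst g σ) (pullback.snd g σ ≫ c.π.app j)
    (by rw [Category.assoc, hσ, pullback.condition])

@[reassoc (attr := simp)]
lemma pbConeπ_fst (j : J) :
    pbConeπ g s c σ hσ j ≫ pullback.fst g (s.app j) = pullback.fst g σ :=
  pullback.lift_fst _ _ _

@[reassoc (attr := simp)]
lemma pbConeπ_snd (j : J) :
    pbConeπ g s c σ hσ j ≫ pullback.snd g (s.app j) = pullback.snd g σ ≫ c.π.app j :=
  pullback.lift_snd _ _ _

/-- The base change of a cone. -/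
noncomputable abbrev pbCone : Cone (pbFunctor g s) where
  pt := pullback g σ
  π :=
    { app := fun j => pbConeπ g s c σ hσ j
      naturality := fun j k φ => by
        simp only [Functor.const_obj_obj, Functor.const_obj_map, Category.id_comp]
        apply pullback.hom_ext
        · rw [pbConeπ_fst, Category.assoc, pbFunctor_map_fst, pbConeπ_fst]
        · rw [pbConeπ_snd, Category.assoc, pbFunctor_map_snd, pbConeπ_snd_assoc, c.w] }

@[reassoc (attr := simp)]
lemma pbCone_π_fst (j : J) :
    (pbCone g s c σ hσ).π.app j ≫ pullback.fst g (s.app j) = pullback.fst g σ :=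
  pbConeπ_fst g s c σ hσ j

@[reassoc (attr := simp)]
lemma pbCone_π_snd (j : J) :
    (pbCone g s c σ hσ).π.app j ≫ pullback.snd g (s.app j) = pullback.snd g σ ≫ c.π.app j :=
  pbConeπ_snd g s c σ hσ j

/-- The projection squares of the base change cone are cartesian. -/
lemma isPullback_pbCone_π (j : J) :
    IsPullback ((pbCone g s c σ hσ).π.app j) (pullback.snd g σ) (pullback.snd g (s.app j))
      (c.π.app j) := by
  refine IsPullback.of_right ?_ (pbCone_π_snd g s c σ hσ j)
    (IsPullback.of_hasPullback g (s.app j))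
  rw [pbCone_π_fst, hσ]
  exact IsPullback.of_hasPullback g σ

/-- **The base change of a limit cone over `B` is a limit cone** (connected index category). -/
noncomputable def isLimitPbCone [IsConnected J] (hc : IsLimit c) :
    IsLimit (pbCone g s c σ hσ) := by
  have j₀ : J := Classical.arbitrary J
  have hconst : ∀ (s' : Cone (pbFunctor g s)) (j k : J),
      s'.π.app j ≫ pullback.fst g (s.app j) = s'.π.app k ≫ pullback.fst g (s.app k) := by
    intro s' j k
    refine constant_of_preserves_morphisms (fun j => s'.π.app j ≫ pullback.fst g (s.app j))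
      (fun a b φ => ?_) j k
    change s'.π.app a ≫ _ = s'.π.app b ≫ _
    rw [← s'.w φ, Category.assoc, pbFunctor_map_fst]
  let cF : ∀ s' : Cone (pbFunctor g s), Cone F := fun s' =>
    { pt := s'.pt
      π :=
        { app := fun j => s'.π.app j ≫ pullback.snd g (s.app j)
          naturality := fun j k φ => by
            simp only [Functor.const_obj_obj, Functor.const_obj_map, Category.id_comp]
            rw [← s'.w φ, Category.assoc, pbFunctor_map_snd, Category.assoc] } }
  have hl : ∀ s' : Cone (pbFunctor g s),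
      (s'.π.app j₀ ≫ pullback.fst g (s.app j₀)) ≫ g = hc.lift (cF s') ≫ σ := by
    intro s'
    rw [← hσ j₀, ← Category.assoc (hc.lift (cF s')), hc.fac, Category.assoc, pullback.condition,
      Category.assoc]
  refine
    { lift := fun s' => pullback.lift (s'.π.app j₀ ≫ pullback.fst g (s.app j₀))
        (hc.lift (cF s')) (hl s')
      fac := fun s' j => ?_
      uniq := fun s' m hm => ?_ }
  · apply pullback.hom_ext
    · rw [Category.assoc, pbCone_π_fst, pullback.lift_fst, hconst s' j₀ j]
    · rw [Category.assoc, pbCone_π_snd, pullback.lift_snd_assoc, hc.fac]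
  · apply pullback.hom_ext
    · rw [pullback.lift_fst, ← hm j₀, Category.assoc, pbCone_π_fst]
    · rw [pullback.lift_snd]
      apply hc.hom_ext
      intro j
      rw [hc.fac, Category.assoc, ← pbCone_π_snd g s c σ hσ j, ← Category.assoc, hm j]

end PL

open _root_.AlgSp Groth.Agent.H5.AlgSp Groth.Agent.H5.Lim Groth.Agent.H5.AlgSp.Lim
  Groth.Agent.H5.EtSrc Groth.Agent.H5.Descent

variable {S : Scheme.{u}}

/-- A morphism from (a sheaf isomorphic to) an affine scheme to an affine scheme is affine. -/
theorem isAffineMor_of_iso_yon {F : Sp S} {Z V : Over S} [IsAffine Z.left] [IsAffine V.left]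
    (e : (yon S).obj Z ≅ F) (f : F ⟶ (yon S).obj V) : IsAffineMor f := by
  obtain ⟨h, hh⟩ := (yon S).map_surjective (e.hom ≫ f)
  have h1 : IsAffineMor ((yon S).map h) :=
    isAffineMor_of_repWith ((repWith_yon_map_iff @IsAffineHom h).2 inferInstance)
  have h2 : f = e.inv ≫ (yon S).map h := by rw [hh, Iso.inv_hom_id_assoc]
  rw [h2]
  exact isAffineMor_comp (Groth.Agent.H8.AlgSp.isAffineMor_of_isIso e.inv) h1

/-- The source of an affine morphism to an affine scheme is an affine scheme. -/
theorem exists_iso_yon_of_isAffineMor {F : Sp S} {V : Over S} [IsAffine V.left]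
    {f : F ⟶ (yon S).obj V} (hf : IsAffineMor f) :
    ∃ Z : Over S, IsAffine Z.left ∧ Nonempty ((yon S).obj Z ≅ F) := by
  obtain ⟨W, i, fst, sq, hW⟩ := hf (inferInstance : IsAffine V.left) (𝟙 _)
  haveI : IsIso fst := sq.isIso_fst_of_isIso
  exact ⟨W, hW, ⟨asIso fst⟩⟩

variable {I : Type u} [SmallCategory I] [IsCofiltered I]

/-- **Affine limit over an affine base.** If the limit of a cofiltered system of quasi-compact
quasi-separated algebraic spaces over an affine scheme, with affine transition maps, is an affine
scheme, then so are the stages, eventually. -/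
theorem exists_affine_stage_of_affine_base [QuasiSeparatedSpace ↥S] (D : I ⥤ Sp S)
    (hD : ∀ i, IsAlgSpace (D.obj i))
    (hDa : ∀ (i j : I) (φ : i ⟶ j), IsAffineMor (D.map φ))
    (hqc : ∀ i, IsQuasiCompactSp (D.obj i)) (hqs : ∀ i, IsQuasiSeparatedSp (D.obj i))
    (P₀ : Over S) [IsAffine P₀.left] (t : D ⟶ (Functor.const I).obj ((yon S).obj P₀))
    (c : Cone D) (hc : IsLimit c) (T : Over S) [IsAffine T.left] (e : (yon S).obj T ≅ c.pt) :
    ∃ i₀ : I, ∀ (i : I) (_ : i ⟶ i₀), ∃ Z : Over S, IsAffine Z.left ∧
      Nonempty ((yon S).obj Z ≅ D.obj i) := by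
  obtain ⟨i₀, T', Q', p', ε, hp'a, hεe, hεs, hεa, H⟩ :=
    exists_stage_model D hD hDa hqc hqs P₀ t c hc T e
  haveI : IsAffine T'.left := isAffine_of_isAffineHom p'.left
  haveI : IsAffine Q'.left := isAffine_of_isAffineHom ε.left
  refine ⟨i₀, fun i φ => ?_⟩
  obtain ⟨τ, Ui, ui, σ, hUi, -, sq⟩ := H i φ
  have h1 : IsAffineMor ((yon S).map σ) :=
    isAffineMor_of_repWith ((repWith_yon_map_iff @IsAffineHom σ).2 inferInstance)
  have h2 : IsAffineMor τ :=
    isAffineMor_of_baseChange_etale ((repWith_yon_map_iff @Etale ε).2 hεe)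
      ((repWith_yon_map_iff @Surjective ε).2 hεs) sq h1
  exact exists_iso_yon_of_isAffineMor h2

end Groth.Agent.H7.LimAff
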