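import Groth.Agent.Lib.Helper7.LimAffD
import Mathlib
set_option autoImplicit false
universe u
open CategoryTheory CategoryTheory.Limits AlgebraicGeometry

namespace Groth.Agent.H7.LimAff
open _root_.AlgSp Groth.Agent.H5.AlgSp Groth.Agent.H5.Lim Groth.Agent.H5.AlgSp.Lim
  Groth.Agent.H5.EtSrc Groth.Agent.H5.Descent

variable {S : Scheme.{u}}

/-- A chart from an affine scheme is a quasi-separated morphism. -/
lemma isQuasiSeparatedMor_of_isAffine {V : Over S} [IsAffine V.left] {Y : Sp S}
    (v : (yon S).obj V ⟶ Y) : IsQuasiSeparatedMor v :=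
  repWith_relDiag_of_diag v (isQuasiSeparatedSp_yon_of_isAffine V)

variable {I : Type u} [SmallCategory I] [IsCofiltered I]

/-- **S10060**: if the limit of a system over `Y` is affine over `Y`, so are the stages,
eventually. -/
theorem eventually_isAffineMor_of_limit [QuasiSeparatedSpace ↥S]
    {Y : Sp S} (hY : IsAlgSpace Y) (D : I ⥤ Sp S) (hD : ∀ i, IsAlgSpace (D.obj i))
    (t : D ⟶ (Functor.const I).obj Y)
    (hDa : ∀ (i j : I) (φ : i ⟶ j), IsAffineMor (D.map φ))
    (c : Cone D) (hc : IsLimit c) (g : c.pt ⟶ Y) (hg : ∀ i, c.π.app i ≫ t.app i = g)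
    (hqc : ∀ i, IsQuasiCompactSp (D.obj i)) (hqs : ∀ i, IsQuasiSeparatedSp (D.obj i))
    (hYqc : IsQuasiCompactSp Y) (hYqs : IsQuasiSeparatedSp Y) (hX : IsAffineMor g) :
    ∃ i₀ : I, ∀ (i : I) (_ : i ⟶ i₀), IsAffineMor (t.app i) := by
  haveI : IsConnected I := IsCofiltered.isConnected I
  obtain ⟨V₀, v, hV₀, hve, hvs⟩ := exists_affine_chart_of_isQuasiCompactSp hYqc
  haveI := hV₀
  -- the base change of the system to the chart
  have hD' : ∀ i, IsAlgSpace ((pbFunctor v t).obj i) := fun i =>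
    isAlgSpace_pullback hY.diag (IsAlgSpace.yon_obj V₀) (hD i)
      (IsPullback.of_hasPullback v (t.app i))
  have hD'a : ∀ (i j : I) (φ : i ⟶ j), IsAffineMor ((pbFunctor v t).map φ) := fun i j φ =>
    isAffineMor_of_isPullback (isPullback_pbFunctor_map v t φ).flip (hDa i j φ)
  have hqc' : ∀ i, IsQuasiCompactSp ((pbFunctor v t).obj i) := fun i =>
    isQuasiCompactMor_of_isQuasiCompactSp (hqc i) hYqs (t.app i) (IsAlgSpace.yon_obj V₀)
      ((isQuasiCompactSp_yon_iff V₀).2 inferInstance) v _ _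
      (IsPullback.of_hasPullback v (t.app i)).flip
  have hqs' : ∀ i, IsQuasiSeparatedSp ((pbFunctor v t).obj i) := fun i =>
    isQuasiSeparatedSp_of_isQuasiSeparatedMor (f := pullback.snd v (t.app i))
      (repWith_diag_of_isPullback (IsPullback.of_hasPullback v (t.app i))
        (isQuasiSeparatedMor_of_isAffine v)) (hqs i)
  let t' : pbFunctor v t ⟶ (Functor.const I).obj ((yon S).obj V₀) :=
    { app := fun i => pullback.fst v (t.app i)
      naturality := fun i j φ => by
        simp only [Functor.const_obj_obj, Functor.const_obj_map, Category.comp_id]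
        exact pbFunctor_map_fst v t φ }
  -- the limit is affine
  obtain ⟨W, w, fstW, sqW, hW⟩ := hX hV₀ v
  haveI := hW
  obtain ⟨i₀, hi₀⟩ := exists_affine_stage_of_affine_base (pbFunctor v t) hD' hD'a hqc' hqs' V₀ t'
    (pbCone v t c g hg) (isLimitPbCone v t c g hg hc) W sqW.flip.isoPullback
  refine ⟨i₀, fun i φ => ?_⟩
  obtain ⟨Z, hZ, ⟨eZ⟩⟩ := hi₀ i φ
  haveI := hZ
  exact isAffineMor_of_baseChange_etale hve hvs (IsPullback.of_hasPullback v (t.app i)).flip
    (isAffineMor_of_iso_yon eZ _)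

end Groth.Agent.H7.LimAff
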