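import Groth.Agent.Lib.Helper7.LimAffE
import Mathlib
set_option autoImplicit false
universe u
open CategoryTheory CategoryTheory.Limits AlgebraicGeometry

namespace Groth.Agent.H7.LimAff
open _root_.AlgSp Groth.Agent.H5.AlgSp Groth.Agent.H5.Lim Groth.Agent.H5.AlgSp.Lim
  Groth.Agent.H5.EtSrc Groth.Agent.H5.Descent

variable {S : Scheme.{u}} {I : Type u} [SmallCategory I] [IsCofiltered I]
  {D : I ⥤ Sp S} {c : Cone D} {i₀ : I} {X₀ Y₀ : Sp S} {f₀ : X₀ ⟶ Y₀} {b₀ : Y₀ ⟶ D.obj i₀}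

/-- **Descent of affineness along a limit of algebraic spaces** (general stage form). -/
theorem descend_isAffineMor_limit' [QuasiSeparatedSpace ↥S]
    (hDa : ∀ (i j : I) (φ : i ⟶ j), IsAffineMor (D.map φ)) (hc : IsLimit c)
    (hX₀ : IsAlgSpace X₀) (hY₀ : IsAlgSpace Y₀) (hXqc : IsQuasiCompactSp X₀)
    (hXqs : IsQuasiSeparatedSp X₀) (hYqc : IsQuasiCompactSp Y₀) (hYqs : IsQuasiSeparatedSp Y₀)
    {X Y : Sp S} {f : X ⟶ Y} {pY : Y ⟶ Y₀} {qY : Y ⟶ c.pt}
    (hY : IsPullback pY qY b₀ (c.π.app i₀)) {pX : X ⟶ X₀} (hX : IsPullback pX f f₀ pY)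
    (hf : IsAffineMor f) :
    ∃ j : Over i₀, ∀ (k : Over i₀) (_ : k ⟶ j) (Xi Yi : Sp S) (fi : Xi ⟶ Yi) (pYi : Yi ⟶ Y₀)
      (qYi : Yi ⟶ D.obj k.left) (_ : IsPullback pYi qYi b₀ (D.map k.hom)) (pXi : Xi ⟶ X₀)
      (_ : IsPullback pXi fi f₀ pYi), IsAffineMor fi := by
  haveI : IsConnected (Over i₀) := IsFiltered.isConnected (Over i₀)
  obtain ⟨C⟩ := DescCtx.exists_of_qc (f₀ := f₀) (b₀ := b₀) (i₀ := i₀) hDa hc hXqc hYqc hYqs
  haveI hV₀ : IsAffine C.V₀.left := C.hV₀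
  have hAk : ∀ k, IsAffine (C.CS.P.E.obj k).left := C.isAffine_F hDa
  haveI hm : ∀ {j k : Over i₀} (φ : j ⟶ k), IsAffineHom (C.CS.F.map φ) :=
    fun φ => C.CS.isAffineHom_map hDa φ
  haveI hA' : ∀ j, IsAffine (C.CS.F.obj j) := hAk
  haveI hVaff : IsAffine C.CS.cE.pt.left := Scheme.isAffine_of_isLimit C.CS.cF C.CS.hcF
  -- the algebraic space `W₀ = X₀ ×_{Y₀} V₀`
  set g₀ := pullback.snd f₀ C.v with hg₀
  have hW₀ : IsAlgSpace (pullback f₀ C.v) :=
    isAlgSpace_pullback hY₀.diag hX₀ (IsAlgSpace.yon_obj C.V₀) (IsPullback.of_hasPullback f₀ C.v)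
  have hW₀qc : IsQuasiCompactSp (pullback f₀ C.v) :=
    isQuasiCompactMor_of_isQuasiCompactSp hXqc hYqs f₀ (IsAlgSpace.yon_obj C.V₀)
      ((isQuasiCompactSp_yon_iff C.V₀).2 inferInstance) C.v _ _ (IsPullback.of_hasPullback f₀ C.v)
  have hW₀qs : IsQuasiSeparatedSp (pullback f₀ C.v) :=
    isQuasiSeparatedSp_of_isQuasiSeparatedMor (f := pullback.fst f₀ C.v)
      (repWith_diag_of_isPullback (IsPullback.of_hasPullback f₀ C.v).flip
        (isQuasiSeparatedMor_of_isAffine C.v)) hXqs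
  -- the system of affine schemes `V_k` as sheaves over `V₀`
  let s : C.CS.P.E ⋙ yon S ⟶ (Functor.const (Over i₀)).obj ((yon S).obj C.V₀) :=
    { app := fun k => (yon S).map (C.CS.P.q k)
      naturality := fun j k φ => by
        simp only [Functor.const_obj_obj, Functor.const_obj_map, Category.comp_id,
          Functor.comp_map]
        rw [← Functor.map_comp, C.CS.P.q_nat] }
  have hσ : ∀ k, ((yon S).mapCone C.CS.cE).π.app k ≫ s.app k = (yon S).map C.CS.snd := by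
    intro k
    change (yon S).map (C.CS.cE.π.app k) ≫ (yon S).map (C.CS.P.q k) = _
    rw [← Functor.map_comp, C.CS.π_q]
  have hcY : IsLimit ((yon S).mapCone C.CS.cE) := isLimitOfPreserves (yon S) C.CS.hcE
  -- hypotheses on the base change system
  have hqa : ∀ k, RepWith @IsAffineHom ((yon S).map (C.CS.P.q k)) := fun k =>
    (repWith_yon_map_iff @IsAffineHom _).2 (C.CS.isAffineHom_q hDa k)
  have hD' : ∀ k, IsAlgSpace ((pbFunctor g₀ s).obj k) := fun k =>
    isAlgSpace_pullback (IsAlgSpace.yon_obj C.V₀).diag hW₀ (IsAlgSpace.yon_obj _)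
      (IsPullback.of_hasPullback g₀ (s.app k))
  have hD'a : ∀ (j k : Over i₀) (φ : j ⟶ k), IsAffineMor ((pbFunctor g₀ s).map φ) :=
    fun j k φ => isAffineMor_of_isPullback (isPullback_pbFunctor_map g₀ s φ).flip
      (isAffineMor_of_repWith ((repWith_yon_map_iff @IsAffineHom _).2
        (C.CS.isAffineHom_map hDa φ)))
  have hqc' : ∀ k, IsQuasiCompactSp ((pbFunctor g₀ s).obj k) := fun k =>
    isQuasiCompactSp_of_isPullback_repWith
      (repWith_mono (fun _ _ g hg => by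
        have : IsAffineHom g := hg
        exact (inferInstance : QuasiCompact g)) (hqa k)) hW₀qc
      (IsPullback.of_hasPullback g₀ (s.app k)).flip
  have hqs' : ∀ k, IsQuasiSeparatedSp ((pbFunctor g₀ s).obj k) := fun k =>
    isQuasiSeparatedSp_of_isQuasiSeparatedMor (f := pullback.fst g₀ (s.app k))
      (repWith_diag_of_isPullback (IsPullback.of_hasPullback g₀ (s.app k)).flip
        (repWith_mono (fun _ _ g hg => by
          have : IsClosedImmersion g := hg
          exact (inferInstance : QuasiCompact g))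
          (isSeparatedMor_of_isAffineMor (isAffineMor_of_repWith (hqa k))))) hW₀qs
  let t' : pbFunctor g₀ s ⟶ (Functor.const (Over i₀)).obj ((yon S).obj C.V₀) :=
    { app := fun k => pullback.fst g₀ (s.app k) ≫ g₀
      naturality := fun j k φ => by
        simp only [Functor.const_obj_obj, Functor.const_obj_map, Category.comp_id]
        rw [← Category.assoc, pbFunctor_map_fst] }
  -- the limit is affine
  obtain ⟨vW, a, pW, -, -, -, -, sqa, -, -⟩ := C.exists_limit_charts hY hX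
  obtain ⟨W', w', fstW', sqW', hW'⟩ := hf hVaff vW
  haveI := hW'
  obtain ⟨j, hj⟩ := exists_affine_stage_of_affine_base (pbFunctor g₀ s) hD' hD'a hqc' hqs' C.V₀ t'
    (pbCone g₀ s _ _ hσ) (isLimitPbCone g₀ s _ _ hσ hcY) W'
    (sqW'.isoPullback ≪≫ sqa.isoPullback)
  refine ⟨j, fun k ψ Xi Yi fi pYi qYi hYi pXi hXi => ?_⟩
  obtain ⟨Z, hZ, ⟨eZ⟩⟩ := hj k ψ
  haveI := hZ
  haveI := hAk k
  obtain ⟨vi, ai, pi, hvie, hvis, -, -, sqai, -, -⟩ := C.exists_stage_charts k hYi hXi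
  exact isAffineMor_of_baseChange_etale hvie hvis (IsPullback.of_hasPullback fi vi)
    (isAffineMor_of_iso_yon (eZ ≪≫ sqai.isoPullback.symm) _)

end Groth.Agent.H7.LimAff
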