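import Groth.Agent.Lib.Helper7.LimAffF
import Groth.Agent.Lib.Helper5.Descent.AffineHomDescent
import Groth.Agent.Lib.Helper5.AlgSp.IntegralMor
import Mathlib
set_option autoImplicit false
universe u
open CategoryTheory CategoryTheory.Limits AlgebraicGeometry

namespace Groth.Agent.H7.LimAff
open _root_.AlgSp Groth.Agent.H5.AlgSp Groth.Agent.H5.Lim Groth.Agent.H5.AlgSp.Lim
  Groth.Agent.H5.EtSrc Groth.Agent.H5.Descent

/-- **Rebasing**: base changes of `f₀ : X₀ ⟶ Y₀` (over `B₀`) along `γ ≫ β` are base changes of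
`f₁ = f₀ ×_{B₀} B₁` along `γ`. -/
lemma exists_rebase {C : Type*} [Category C] [HasPullbacks C] {X₀ Y₀ B₀ B₁ : C} (f₀ : X₀ ⟶ Y₀)
    (b₀ : Y₀ ⟶ B₀) (β : B₁ ⟶ B₀) {B' Y' X' : C} {γ : B' ⟶ B₁} {pY' : Y' ⟶ Y₀} {qY' : Y' ⟶ B'}
    (hY' : IsPullback pY' qY' b₀ (γ ≫ β)) {pX' : X' ⟶ X₀} {f' : X' ⟶ Y'}
    (hX' : IsPullback pX' f' f₀ pY') :
    ∃ (pY'' : Y' ⟶ pullback b₀ β) (pX'' : X' ⟶ pullback f₀ (pullback.fst b₀ β)),
      IsPullback pY'' qY' (pullback.snd b₀ β) γ ∧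
      IsPullback pX'' f' (pullback.snd f₀ (pullback.fst b₀ β)) pY'' := by
  have hw : pY' ≫ b₀ = (qY' ≫ γ) ≫ β := by rw [Category.assoc]; exact hY'.w
  obtain ⟨pY'', h1, h2⟩ : ∃ pY'' : Y' ⟶ pullback b₀ β,
      pY'' ≫ pullback.fst b₀ β = pY' ∧ pY'' ≫ pullback.snd b₀ β = qY' ≫ γ :=
    ⟨pullback.lift _ _ hw, pullback.lift_fst _ _ _, pullback.lift_snd _ _ _⟩
  have hw2 : pX' ≫ f₀ = (f' ≫ pY'') ≫ pullback.fst b₀ β := by
    rw [Category.assoc, h1]; exact hX'.w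
  obtain ⟨pX'', h3, h4⟩ : ∃ pX'' : X' ⟶ pullback f₀ (pullback.fst b₀ β),
      pX'' ≫ pullback.fst f₀ (pullback.fst b₀ β) = pX' ∧
      pX'' ≫ pullback.snd f₀ (pullback.fst b₀ β) = f' ≫ pY'' :=
    ⟨pullback.lift _ _ hw2, pullback.lift_fst _ _ _, pullback.lift_snd _ _ _⟩
  refine ⟨pY'', pX'', ?_, ?_⟩
  · refine IsPullback.of_right ?_ h2 (IsPullback.of_hasPullback b₀ β)
    rw [h1]
    exact hY'
  · refine IsPullback.of_right ?_ h4 (IsPullback.of_hasPullback f₀ (pullback.fst b₀ β))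
    rw [h3, h1]
    exact hX'

variable {S : Scheme.{u}} {I : Type u} [SmallCategory I] [IsCofiltered I]
  {D : I ⥤ Sp S} {c : Cone D} {i₀ : I} {X₀ Y₀ : Sp S} {f₀ : X₀ ⟶ Y₀} {b₀ : Y₀ ⟶ D.obj i₀}

/-- **Descent along a limit of algebraic spaces of a property of affine morphisms** (no
representability assumption on `f₀`). -/
theorem descend_repWith_affine_limit' [QuasiSeparatedSpace ↥S]
    {P : MorphismProperty Scheme.{u}} [P.IsStableUnderBaseChange]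
    [P.IsLocalAtTarget Scheme.fppfPrecoverage] (hPa : P ≤ @IsAffineHom)
    (H : AffineSystemDescent P (@LocallyOfFiniteType ⊓ (@QuasiCompact ⊓ @QuasiSeparated)))
    (hD : ∀ i, IsAlgSpace (D.obj i))
    (hDa : ∀ (i j : I) (φ : i ⟶ j), IsAffineMor (D.map φ)) (hc : IsLimit c)
    (hX₀ : IsAlgSpace X₀) (hY₀ : IsAlgSpace Y₀) (hXqc : IsQuasiCompactSp X₀)
    (hXqs : IsQuasiSeparatedSp X₀) (hYqc : IsQuasiCompactSp Y₀) (hYqs : IsQuasiSeparatedSp Y₀)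
    {X Y : Sp S} {f : X ⟶ Y} {pY : Y ⟶ Y₀} {qY : Y ⟶ c.pt}
    (hY : IsPullback pY qY b₀ (c.π.app i₀)) {pX : X ⟶ X₀} (hX : IsPullback pX f f₀ pY)
    (hf : RepWith P f) (hf₀ : LocP @LocallyOfFiniteType f₀) :
    ∃ (i : I) (φ : i ⟶ i₀), ∀ (Xi Yi : Sp S) (fi : Xi ⟶ Yi) (pYi : Yi ⟶ Y₀)
      (qYi : Yi ⟶ D.obj i) (_ : IsPullback pYi qYi b₀ (D.map φ)) (pXi : Xi ⟶ X₀)
      (_ : IsPullback pXi fi f₀ pYi), RepWith P fi := by
  have hfa : IsAffineMor f := isAffineMor_of_repWith (repWith_mono hPa hf)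
  obtain ⟨j₁, hj₁⟩ := descend_isAffineMor_limit' (f₀ := f₀) (b₀ := b₀) (i₀ := i₀) hDa hc hX₀ hY₀
    hXqc hXqs hYqc hYqs hY hX hfa
  -- the stage `j₁`
  set β := D.map j₁.hom with hβ
  have sqY₁ := IsPullback.of_hasPullback b₀ β
  have sqX₁ := IsPullback.of_hasPullback f₀ (pullback.fst b₀ β)
  have hf₁ : IsAffineMor (pullback.snd f₀ (pullback.fst b₀ β)) :=
    hj₁ j₁ (𝟙 j₁) _ _ _ _ _ sqY₁ _ sqX₁
  have hf₁a := repWith_isAffineHom_of_isAffineMor hf₁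
  have hY₁ : IsAlgSpace (pullback b₀ β) :=
    isAlgSpace_pullback (hD i₀).diag hY₀ (hD j₁.left) sqY₁
  have hX₁ : IsAlgSpace (pullback f₀ (pullback.fst b₀ β)) :=
    isAlgSpace_pullback hY₀.diag hX₀ hY₁ sqX₁
  have hβa := repWith_isAffineHom_of_isAffineMor (hDa _ _ j₁.hom)
  have hY₁qc : IsQuasiCompactSp (pullback b₀ β) :=
    isQuasiCompactSp_of_isPullback_repWith
      (repWith_mono (fun _ _ g hg => by
        have : IsAffineHom g := hg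
        exact (inferInstance : QuasiCompact g)) hβa) hYqc sqY₁.flip
  obtain ⟨C, hC⟩ := DescCtx.exists_of_representable (D := D) (c := c) (i₀ := j₁.left)
    (f₀ := pullback.snd f₀ (pullback.fst b₀ β)) (b₀ := pullback.snd b₀ β) hDa hc
    (repWith_mono (fun _ _ g hg => by
      have : IsAffineHom g := hg
      exact (inferInstance : QuasiCompact g)) hf₁a)
    (repWith_mono (fun _ _ g hg => by
      have : IsAffineHom g := hg
      exact (inferInstance : QuasiSeparated g)) hf₁a) hY₁qc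
  haveI := hC
  have hY' : IsPullback pY qY b₀ (c.π.app j₁.left ≫ β) := by
    rw [hβ, c.w]; exact hY
  obtain ⟨pY'', pX'', sq1, sq2⟩ := exists_rebase f₀ b₀ β hY' hX
  obtain ⟨j₂, hj₂⟩ := C.descend_repWith hDa H hf₁a.rep sq1 sq2 hf
    (locP_of_isPullback etale_le_lft sqX₁ hX₀ hY₀ hY₁ hf₀)
  refine ⟨j₂.left, j₂.hom ≫ j₁.hom, fun Xi Yi fi pYi qYi hYi pXi hXi => ?_⟩
  have hYi' : IsPullback pYi qYi b₀ (D.map j₂.hom ≫ β) := by
    rw [hβ, ← D.map_comp]; exact hYi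
  obtain ⟨pYi'', pXi'', sq1i, sq2i⟩ := exists_rebase f₀ b₀ β hYi' hXi
  exact hj₂ j₂ (𝟙 j₂) Xi Yi fi pYi'' qYi sq1i pXi'' sq2i

/-- **S10019**: descent of closed immersions. -/
theorem descend_closedImmersion_limit' [QuasiSeparatedSpace ↥S]
    (hD : ∀ i, IsAlgSpace (D.obj i))
    (hDa : ∀ (i j : I) (φ : i ⟶ j), IsAffineMor (D.map φ)) (hc : IsLimit c)
    (hX₀ : IsAlgSpace X₀) (hY₀ : IsAlgSpace Y₀) (hXqc : IsQuasiCompactSp X₀)
    (hXqs : IsQuasiSeparatedSp X₀) (hYqc : IsQuasiCompactSp Y₀) (hYqs : IsQuasiSeparatedSp Y₀)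
    {X Y : Sp S} {f : X ⟶ Y} {pY : Y ⟶ Y₀} {qY : Y ⟶ c.pt}
    (hY : IsPullback pY qY b₀ (c.π.app i₀)) {pX : X ⟶ X₀} (hX : IsPullback pX f f₀ pY)
    (hf : RepWith @IsClosedImmersion f) (hf₀ : LocP @LocallyOfFiniteType f₀) :
    ∃ (i : I) (φ : i ⟶ i₀), ∀ (Xi Yi : Sp S) (fi : Xi ⟶ Yi) (pYi : Yi ⟶ Y₀)
      (qYi : Yi ⟶ D.obj i) (_ : IsPullback pYi qYi b₀ (D.map φ)) (pXi : Xi ⟶ X₀)
      (_ : IsPullback pXi fi f₀ pYi), RepWith @IsClosedImmersion fi :=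
  descend_repWith_affine_limit' isClosedImmersion_le_isAffineHom
    affineSystemDescent_isClosedImmersion hD hDa hc hX₀ hY₀ hXqc hXqs hYqc hYqs hY hX hf hf₀

/-- **S10018**: descent of finite morphisms. -/
theorem descend_isFiniteMor_limit' [QuasiSeparatedSpace ↥S]
    (hD : ∀ i, IsAlgSpace (D.obj i))
    (hDa : ∀ (i j : I) (φ : i ⟶ j), IsAffineMor (D.map φ)) (hc : IsLimit c)
    (hX₀ : IsAlgSpace X₀) (hY₀ : IsAlgSpace Y₀) (hXqc : IsQuasiCompactSp X₀)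
    (hXqs : IsQuasiSeparatedSp X₀) (hYqc : IsQuasiCompactSp Y₀) (hYqs : IsQuasiSeparatedSp Y₀)
    {X Y : Sp S} {f : X ⟶ Y} {pY : Y ⟶ Y₀} {qY : Y ⟶ c.pt}
    (hY : IsPullback pY qY b₀ (c.π.app i₀)) {pX : X ⟶ X₀} (hX : IsPullback pX f f₀ pY)
    (hf : IsFiniteMor f) (hf₀ : LocP @LocallyOfFiniteType f₀) :
    ∃ (i : I) (φ : i ⟶ i₀), ∀ (Xi Yi : Sp S) (fi : Xi ⟶ Yi) (pYi : Yi ⟶ Y₀)
      (qYi : Yi ⟶ D.obj i) (_ : IsPullback pYi qYi b₀ (D.map φ)) (pXi : Xi ⟶ X₀)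
      (_ : IsPullback pXi fi f₀ pYi), IsFiniteMor fi := by
  obtain ⟨i, φ, h⟩ := descend_repWith_affine_limit' (P := @IsFinite)
    (fun _ _ g hg => by
      have : IsFinite g := hg
      exact (inferInstance : IsAffineHom g))
    affineSystemDescent_isFinite hD hDa hc hX₀ hY₀ hXqc hXqs hYqc hYqs hY hX
    (isFiniteMor_iff_repWith.1 hf) hf₀
  exact ⟨i, φ, fun Xi Yi fi pYi qYi hYi pXi hXi =>
    isFiniteMor_iff_repWith.2 (h Xi Yi fi pYi qYi hYi pXi hXi)⟩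

end Groth.Agent.H7.LimAff
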