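import Groth.Agent.Lib.Helper7.LimAffG
import Groth.Agent.Lib.Helper5.Lim.ClosedImmStructure
import Groth.Agent.Lib.Helper5.Lim.IntegralLimit
import Mathlib
set_option autoImplicit false
universe u
open CategoryTheory CategoryTheory.Limits AlgebraicGeometry

namespace Groth.Agent.H7.LimAff
open _root_.AlgSp Groth.Agent.H5.AlgSp Groth.Agent.H5.Lim Groth.Agent.H5.AlgSp.Lim
  Groth.Agent.H5.EtSrc Groth.Agent.H5.Descent

variable {S : Scheme.{u}} {I : Type u} [SmallCategory I] [IsCofiltered I]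

/-- Chart system for a system of algebraic spaces over `Y` whose limit is affine over `Y`:
an affine chart `V₀` of `Y`, a stage `i₁` below which the structure maps are affine, and the
system of affine schemes `X_k ×_Y V₀` (`k ⟶ i₁`) with its limit `X ×_Y V₀`. -/
theorem exists_structure_chartSystem [QuasiSeparatedSpace ↥S]
    {Y : Sp S} (hY : IsAlgSpace Y) (D : I ⥤ Sp S) (hD : ∀ i, IsAlgSpace (D.obj i))
    (t : D ⟶ (Functor.const I).obj Y)
    (hDa : ∀ (i j : I) (φ : i ⟶ j), IsAffineMor (D.map φ))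
    (c : Cone D) (hc : IsLimit c) (g : c.pt ⟶ Y) (hg : ∀ i, c.π.app i ≫ t.app i = g)
    (hqc : ∀ i, IsQuasiCompactSp (D.obj i)) (hqs : ∀ i, IsQuasiSeparatedSp (D.obj i))
    (hYqc : IsQuasiCompactSp Y) (hYqs : IsQuasiSeparatedSp Y) (hX : IsAffineMor g) :
    ∃ (i₁ : I) (V₀ : Over S) (v : (yon S).obj V₀ ⟶ Y) (U₀ : Over S)
      (p : (yon S).obj U₀ ⟶ D.obj i₁) (q₀ : U₀ ⟶ V₀) (CS : ChartSystem D c i₁ p),
      IsAffine V₀.left ∧ RepWith @Etale v ∧ RepWith @Surjective v ∧
      (∀ (i : I) (_ : i ⟶ i₁), IsAffineMor (t.app i)) ∧ (∀ k, IsAffine (CS.F.obj k)) ∧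
      (∀ k : Over i₁, IsPullback (CS.P.f k) ((yon S).map (CS.P.q k ≫ q₀)) (t.app k.left) v) ∧
      IsPullback CS.fst ((yon S).map (CS.snd ≫ q₀)) g v := by
  obtain ⟨i₁, hi₁⟩ := eventually_isAffineMor_of_limit hY D hD t hDa c hc g hg hqc hqs hYqc hYqs hX
  obtain ⟨V₀, v, hV₀, hve, hvs⟩ := exists_affine_chart_of_isQuasiCompactSp hYqc
  obtain ⟨U₀, q₀, p, sq₀, hU₀⟩ := hi₁ i₁ (𝟙 _) hV₀ v
  obtain ⟨CS⟩ := ChartSystem.exists_of_isAffineMor D hDa c hc i₁ p
  refine ⟨i₁, V₀, v, U₀, p, q₀, CS, hV₀, hve, hvs, hi₁, ?_, ?_, ?_⟩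
  · intro k
    have : IsAffineHom (CS.P.q k).left := CS.isAffineHom_q hDa k
    change IsAffine (CS.P.E.obj k).left
    exact isAffine_of_isAffineHom (CS.P.q k).left
  · intro k
    have e1 : (D.map k.hom ≫ t.app i₁ : D.obj k.left ⟶ Y) = t.app k.left := by
      have := t.naturality k.hom
      simpa using this
    have h : IsPullback (CS.P.f k) ((yon S).map (CS.P.q k) ≫ (yon S).map q₀)
        (D.map k.hom ≫ t.app i₁ : D.obj k.left ⟶ Y) v := (CS.sq' k).paste_vert sq₀
    rw [e1, ← Functor.map_comp] at h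
    exact h
  · have e1 : (c.π.app i₁ ≫ t.app i₁ : c.pt ⟶ Y) = g := hg i₁
    have h : IsPullback CS.fst ((yon S).map CS.snd ≫ (yon S).map q₀)
        (c.π.app i₁ ≫ t.app i₁ : c.pt ⟶ Y) v := CS.sq.paste_vert sq₀
    rw [e1, ← Functor.map_comp] at h
    exact h

/-- **S10062**: a system over `Y` with closed immersion transitions, locally of finite type over
`Y`, whose limit is a closed subspace of `Y`: the stages are eventually closed subspaces. -/
theorem eventually_closedImmersion_structure [QuasiSeparatedSpace ↥S]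
    {Y : Sp S} (hY : IsAlgSpace Y) (D : I ⥤ Sp S) (hD : ∀ i, IsAlgSpace (D.obj i))
    (t : D ⟶ (Functor.const I).obj Y)
    (hDc : ∀ (i j : I) (φ : i ⟶ j), RepWith @IsClosedImmersion (D.map φ))
    (c : Cone D) (hc : IsLimit c) (g : c.pt ⟶ Y) (hg : ∀ i, c.π.app i ≫ t.app i = g)
    (hqc : ∀ i, IsQuasiCompactSp (D.obj i)) (hqs : ∀ i, IsQuasiSeparatedSp (D.obj i))
    (hYqc : IsQuasiCompactSp Y) (hYqs : IsQuasiSeparatedSp Y)
    (hft : ∀ i, LocP @LocallyOfFiniteType (t.app i)) (hX : RepWith @IsClosedImmersion g) :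
    ∃ i₀ : I, ∀ (i : I) (_ : i ⟶ i₀), RepWith @IsClosedImmersion (t.app i) := by
  have hDa : ∀ (i j : I) (φ : i ⟶ j), IsAffineMor (D.map φ) := fun i j φ =>
    isAffineMor_of_repWith (repWith_mono isClosedImmersion_le_isAffineHom (hDc i j φ))
  have hXa : IsAffineMor g :=
    isAffineMor_of_repWith (repWith_mono isClosedImmersion_le_isAffineHom hX)
  obtain ⟨i₁, V₀, v, U₀, p, q₀, CS, hV₀, hve, hvs, hi₁, hA, hsq, hsqX⟩ :=
    exists_structure_chartSystem hY D hD t hDa c hc g hg hqc hqs hYqc hYqs hXa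
  haveI := hV₀
  haveI := hA
  have hDc' : ∀ {j k : Over i₁} (φ : j ⟶ k), IsClosedImmersion (CS.F.map φ) := fun φ =>
    (hDc _ _ φ.left).2 _ _ _ (CS.isPullback_map φ).flip
  let t' : CS.F ⟶ (Functor.const (Over i₁)).obj V₀.left :=
    { app := fun k => (CS.P.q k ≫ q₀).left
      naturality := fun j k φ => by
        simp only [Functor.const_obj_obj, Functor.const_obj_map, Category.comp_id]
        change (CS.P.E.map φ).left ≫ (CS.P.q k ≫ q₀).left = _
        rw [← Over.comp_left, ← Category.assoc, CS.P.q_nat] }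
  let j₁ : Over i₁ := Over.mk (𝟙 i₁)
  have hft' : LocallyOfFiniteType (t'.app j₁) :=
    locP_yon_map (locP_of_isPullback_etale (hsq j₁) hve (hft i₁))
  have hcl : IsClosedImmersion (CS.cF.π.app j₁ ≫ t'.app j₁) := by
    have h1 : IsClosedImmersion (CS.snd ≫ q₀).left := hX.2 _ _ _ hsqX
    have h2 : CS.cF.π.app j₁ ≫ t'.app j₁ = (CS.snd ≫ q₀).left := by
      change (CS.cE.π.app j₁).left ≫ (CS.P.q j₁ ≫ q₀).left = _
      rw [← Over.comp_left, ← Category.assoc, CS.π_q]
    rw [h2]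
    exact h1
  obtain ⟨j, a, hj⟩ := exists_isClosedImmersion_structure_of_isAffine CS.F CS.cF CS.hcF hDc'
    V₀.left t' j₁ hft' hcl
  refine ⟨j.left, fun i φ => ?_⟩
  let j' : Over i₁ := Over.mk (φ ≫ j.hom)
  let b : j' ⟶ j := Over.homMk φ rfl
  have hci : IsClosedImmersion (CS.P.q j' ≫ q₀).left := hj j' b
  have : Sheaf.IsLocallySurjective v := isLocallySurjective_of_etale_surjective _ hve hvs
  have hrep : Representable (t.app i) :=
    (repWith_isAffineHom_of_isAffineMor (hi₁ i (φ ≫ j.hom))).1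
  exact repWith_of_locallySurjective_baseChange (t.app i) hrep v (CS.P.f j')
    ((yon S).map (CS.P.q j' ≫ q₀)) (hsq j') @IsClosedImmersion
    ((repWith_yon_map_iff @IsClosedImmersion _).2 hci)

/-- **S10061**: a system over `Y` with finite transitions, locally of finite type over `Y`,
whose limit is integral over `Y`: the stages are eventually finite over `Y`. -/
theorem eventually_isFiniteMor_structure [QuasiSeparatedSpace ↥S]
    {Y : Sp S} (hY : IsAlgSpace Y) (D : I ⥤ Sp S) (hD : ∀ i, IsAlgSpace (D.obj i))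
    (t : D ⟶ (Functor.const I).obj Y)
    (hDf : ∀ (i j : I) (φ : i ⟶ j), IsFiniteMor (D.map φ))
    (c : Cone D) (hc : IsLimit c) (g : c.pt ⟶ Y) (hg : ∀ i, c.π.app i ≫ t.app i = g)
    (hqc : ∀ i, IsQuasiCompactSp (D.obj i)) (hqs : ∀ i, IsQuasiSeparatedSp (D.obj i))
    (hYqc : IsQuasiCompactSp Y) (hYqs : IsQuasiSeparatedSp Y)
    (hft : ∀ i, LocP @LocallyOfFiniteType (t.app i)) (hX : IsIntegralMor g) :
    ∃ i₀ : I, ∀ (i : I) (_ : i ⟶ i₀), IsFiniteMor (t.app i) := by
  have hfa : (@IsFinite : MorphismProperty Scheme.{u}) ≤ @IsAffineHom := fun _ _ f hf => by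
    have : IsFinite f := hf
    exact (inferInstance : IsAffineHom f)
  have hia : (@IsIntegralHom : MorphismProperty Scheme.{u}) ≤ @IsAffineHom := fun _ _ f hf => by
    have : IsIntegralHom f := hf
    exact (inferInstance : IsAffineHom f)
  have hDf' : ∀ (i j : I) (φ : i ⟶ j), RepWith @IsFinite (D.map φ) := fun i j φ =>
    isFiniteMor_iff_repWith.1 (hDf i j φ)
  have hX' : RepWith @IsIntegralHom g := isIntegralMor_iff_repWith.1 hX
  have hDa : ∀ (i j : I) (φ : i ⟶ j), IsAffineMor (D.map φ) := fun i j φ =>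
    isAffineMor_of_repWith (repWith_mono hfa (hDf' i j φ))
  have hXa : IsAffineMor g := isAffineMor_of_repWith (repWith_mono hia hX')
  obtain ⟨i₁, V₀, v, U₀, p, q₀, CS, hV₀, hve, hvs, hi₁, hA, hsq, hsqX⟩ :=
    exists_structure_chartSystem hY D hD t hDa c hc g hg hqc hqs hYqc hYqs hXa
  haveI := hV₀
  haveI := hA
  have hfin : ∀ {j k : Over i₁} (φ : j ⟶ k), IsFinite (CS.F.map φ) := fun φ =>
    (hDf' _ _ φ.left).2 _ _ _ (CS.isPullback_map φ).flip
  let t' : CS.F ⟶ (Functor.const (Over i₁)).obj V₀.left :=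
    { app := fun k => (CS.P.q k ≫ q₀).left
      naturality := fun j k φ => by
        simp only [Functor.const_obj_obj, Functor.const_obj_map, Category.comp_id]
        change (CS.P.E.map φ).left ≫ (CS.P.q k ≫ q₀).left = _
        rw [← Over.comp_left, ← Category.assoc, CS.P.q_nat] }
  let j₁ : Over i₁ := Over.mk (𝟙 i₁)
  have hft' : LocallyOfFiniteType (t'.app j₁) :=
    locP_yon_map (locP_of_isPullback_etale (hsq j₁) hve (hft i₁))
  have hint : IsIntegralHom (CS.cF.π.app j₁ ≫ t'.app j₁) := by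
    have h1 : IsIntegralHom (CS.snd ≫ q₀).left := hX'.2 _ _ _ hsqX
    have h2 : CS.cF.π.app j₁ ≫ t'.app j₁ = (CS.snd ≫ q₀).left := by
      change (CS.cE.π.app j₁).left ≫ (CS.P.q j₁ ≫ q₀).left = _
      rw [← Over.comp_left, ← Category.assoc, CS.π_q]
    rw [h2]
    exact h1
  obtain ⟨K, hK⟩ := exists_isFinite_of_isAffine CS.F CS.cF CS.hcF t' hfin j₁ hft' hint
  refine ⟨K.left.left, fun i φ => ?_⟩
  let j' : Over i₁ := Over.mk (φ ≫ K.left.hom)
  let b : j' ⟶ K.left := Over.homMk φ rfl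
  have hci : IsFinite (CS.P.q j' ≫ q₀).left := by
    have h1 : CS.F.map b ≫ t'.app K.left = t'.app j' := by
      have := t'.naturality b
      simpa using this
    have h2 : IsFinite (CS.F.map b) := hfin b
    have h3 : IsFinite (t'.app K.left) := hK
    change IsFinite (t'.app j')
    rw [← h1]
    infer_instance
  have : Sheaf.IsLocallySurjective v := isLocallySurjective_of_etale_surjective _ hve hvs
  have hrep : Representable (t.app i) :=
    (repWith_isAffineHom_of_isAffineMor (hi₁ i (φ ≫ K.left.hom))).1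
  exact isFiniteMor_iff_repWith.2
    (repWith_of_locallySurjective_baseChange (t.app i) hrep v (CS.P.f j')
      ((yon S).map (CS.P.q j' ≫ q₀)) (hsq j') @IsFinite
      ((repWith_yon_map_iff @IsFinite _).2 hci))

end Groth.Agent.H7.LimAff
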