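import Groth.Agent.Lib.Helper7.LimAffH
import Groth.Agent.Lib.Helper5.Descent.QuasiAffineMorDescent
import Groth.Agent.Lib.Helper5.AlgSp.GeneralizingChart
import Mathlib
set_option autoImplicit false
universe u
open CategoryTheory CategoryTheory.Limits AlgebraicGeometry

namespace Groth.Agent.H7.LimAff
open _root_.AlgSp Groth.Agent.H5.AlgSp Groth.Agent.H5.Lim Groth.Agent.H5.AlgSp.Lim
  Groth.Agent.H5.EtSrc Groth.Agent.H5.Descent

/-- The fibre product of two affine schemes over a quasi-separated scheme is quasi-affine. -/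
lemma isQuasiAffine_pullback_of_isAffine {U Z Q : Scheme.{u}} [IsAffine U] [IsAffine Z]
    [QuasiSeparatedSpace Q] (σ : U ⟶ Q) (g : Z ⟶ Q) : (pullback σ g).IsQuasiAffine := by
  haveI : IsAffine (pullback (σ ≫ terminal.from Q) (g ≫ terminal.from Q)) := inferInstance
  haveI : QuasiCompact σ := inferInstance
  haveI : QuasiCompact (pullback.snd σ g) := inferInstance
  haveI : CompactSpace ↥(pullback σ g) :=
    QuasiCompact.compactSpace_of_compactSpace (pullback.snd σ g)
  exact Scheme.IsQuasiAffine.of_isImmersion (pullback.mapDesc σ g (terminal.from Q))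

variable {S : Scheme.{u}}

/-- A morphism from an affine scheme to a quasi-separated scheme is quasi-affine. -/
lemma isQuasiAffineMor_yon_map_of_isAffine {U Q : Over S} [IsAffine U.left]
    [QuasiSeparatedSpace ↥Q.left] (σ : U ⟶ Q) : IsQuasiAffineMor ((yon S).map σ) := by
  intro Z hZ g
  haveI := hZ
  obtain ⟨g', rfl⟩ := (yon S).map_surjective g
  have sq := IsPullback.of_hasPullback σ g'
  refine ⟨pullback σ g', pullback.snd σ g', (yon S).map (pullback.fst σ g'), sq.map (yon S), ?_⟩
  have sq' := sq.map (Over.forget S)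
  haveI : (pullback ((Over.forget S).map σ) ((Over.forget S).map g')).IsQuasiAffine :=
    isQuasiAffine_pullback_of_isAffine σ.left g'.left
  exact Scheme.IsQuasiAffine.of_isAffineHom sq'.isoPullback.hom

variable {I : Type u} [SmallCategory I] [IsCofiltered I]

/-- **S10006 (general form)**: if the limit of a cofiltered system of quasi-compact
quasi-separated algebraic spaces with affine transition maps is an affine scheme, then some stage
is an affine scheme. -/
theorem exists_affine_stage [QuasiSeparatedSpace ↥S] (D : I ⥤ Sp S)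
    (hD : ∀ i, IsAlgSpace (D.obj i))
    (hDa : ∀ (i j : I) (φ : i ⟶ j), IsAffineMor (D.map φ))
    (hqc : ∀ i, IsQuasiCompactSp (D.obj i)) (hqs : ∀ i, IsQuasiSeparatedSp (D.obj i))
    (c : Cone D) (hc : IsLimit c) (T : Over S) [IsAffine T.left] (e : (yon S).obj T ≅ c.pt) :
    ∃ (i : I) (Z : Over S), IsAffine Z.left ∧ Nonempty ((yon S).obj Z ≅ D.obj i) := by
  let P₀ : Over S := Over.mk (𝟙 S)
  let hT : IsTerminal ((yon S).obj P₀) := IsTerminal.isTerminalObj (yon S) _ Over.mkIdTerminal
  let t : D ⟶ (Functor.const I).obj ((yon S).obj P₀) :=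
    { app := fun i => hT.from _
      naturality := fun _ _ _ => hT.hom_ext _ _ }
  obtain ⟨i₀, T', Q', p', ε, hp'a, hεe, hεs, hεa, H⟩ :=
    exists_stage_model D hD hDa hqc hqs P₀ t c hc T e
  obtain ⟨τ, Ui, ui, σ, hUi, -, sq⟩ := H i₀ (𝟙 _)
  haveI := hUi
  haveI : QuasiSeparatedSpace ↥P₀.left := ‹QuasiSeparatedSpace ↥S›
  haveI : QuasiSeparatedSpace ↥T'.left := quasiSeparatedSpace_of_quasiSeparated p'.left
  haveI : QuasiSeparatedSpace ↥Q'.left := quasiSeparatedSpace_of_quasiSeparated ε.left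
  have hσqa : IsQuasiAffineMor ((yon S).map σ) := isQuasiAffineMor_yon_map_of_isAffine σ
  have hτqa : IsQuasiAffineMor τ :=
    isQuasiAffineMor_of_baseChange ((repWith_yon_map_iff @Flat ε).2 inferInstance)
      ((repWith_yon_map_iff @LocallyOfFinitePresentation ε).2 inferInstance)
      ((repWith_yon_map_iff @Surjective ε).2 hεs) sq hσqa
  have hτrep : Representable τ := representable_of_isQuasiAffineMor hτqa
  -- the system of schemes over `i₀`
  haveI : IsConnected (Over i₀) := IsFiltered.isConnected (Over i₀)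
  let t' : Over.forget i₀ ⋙ D ⟶ (Functor.const (Over i₀)).obj ((yon S).obj T') :=
    overTrans D i₀ ≫ (Functor.const (Over i₀)).map τ
  have ht' : ∀ k, Representable (t'.app k) := fun k =>
    (Representable (S := S)).comp_mem _ _
      (repWith_isAffineHom_of_isAffineMor (hDa _ _ k.hom)).1 hτrep
  let g₀ : (Functor.const (Over i₀)).obj ((yon S).obj T') ⟶
      (Functor.const (Over i₀)).obj ((yon S).obj T') := 𝟙 _
  have hg₀ : ∀ k, g₀.app k = 𝟙 _ := fun _ => rfl
  obtain ⟨P⟩ := PBSystem.exists_of_representable t' (T := T') g₀ ht'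
  have hfk : ∀ k, IsIso (P.f k) := fun k => by
    have h := P.sq k
    haveI : IsIso (g₀.app k) := by
      rw [hg₀]; infer_instance
    exact IsPullback.isIso_fst_of_isIso h
  let ek : ∀ k : Over i₀, (yon S).obj (P.E.obj k) ≅ D.obj k.left := fun k =>
    @asIso _ _ _ _ (P.f k) (hfk k)
  -- the limit cone
  have hc' : IsLimit (c.whisker (Over.forget i₀)) :=
    (Functor.Initial.isLimitWhiskerEquiv (Over.forget i₀) c).symm hc
  obtain ⟨qW, hqW⟩ := (yon S).map_surjective (e.hom ≫ c.π.app i₀ ≫ τ)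
  have sqW : IsPullback e.hom ((yon S).map qW) (c.π.app i₀ ≫ τ) (𝟙 ((yon S).obj T')) :=
    IsPullback.of_horiz_isIso ⟨by rw [hqW, Category.comp_id]⟩
  obtain ⟨cE, -, ⟨hcE⟩, e', -, -⟩ := P.exists_isLimit_of_isPullback hc'
    (Bl := (yon S).obj T') (fun _ => 𝟙 _)
    (fun a b h => by simpa using h (Over.mk (𝟙 i₀))) (c.π.app i₀ ≫ τ)
    (fun j => by
      change (c.π.app i₀ ≫ τ) ≫ 𝟙 _ = c.π.app j.left ≫ D.map j.hom ≫ τ
      rw [Category.comp_id, ← Category.assoc, c.w])
    (𝟙 _) (fun j => by rw [hg₀, Category.comp_id]; rfl) sqW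
  -- apply the scheme-level theorem
  let F : Over i₀ ⥤ Scheme.{u} := P.E ⋙ Over.forget S
  let cF : Cone F := (Over.forget S).mapCone cE
  have hcF : IsLimit cF := isLimitOfPreserves (Over.forget S) hcE
  haveI : IsAffine cF.pt := by
    obtain ⟨φ₀, hφ₀⟩ : ∃ φ₀ : cE.pt.left ⟶ T.left, φ₀ = (Over.forget S).map e'.hom := ⟨_, rfl⟩
    haveI : IsIso φ₀ := by rw [hφ₀]; exact Functor.map_isIso (Over.forget S) e'.hom
    have h : IsAffine cE.pt.left := IsAffine.of_isIso φ₀
    exact h
  haveI hFa : ∀ {j k : Over i₀} (φ : j ⟶ k), IsAffineHom (F.map φ) := fun {j k} φ => by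
    have h1 : (yon S).map (P.E.map φ) = (ek j).hom ≫ D.map φ.left ≫ (ek k).inv := by
      rw [← Category.assoc, Iso.eq_comp_inv]
      exact P.f_nat φ
    have h2 : IsAffineMor ((yon S).map (P.E.map φ)) := by
      rw [h1]
      exact isAffineMor_comp (Groth.Agent.H8.AlgSp.isAffineMor_of_isIso _)
        (isAffineMor_comp (hDa _ _ φ.left) (Groth.Agent.H8.AlgSp.isAffineMor_of_isIso _))
    exact (repWith_yon_map_iff @IsAffineHom _).1 (repWith_isAffineHom_of_isAffineMor h2)
  haveI hFc : ∀ k, CompactSpace ↥(F.obj k) := fun k =>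
    (isQuasiCompactSp_yon_iff (P.E.obj k)).1
      (isQuasiCompactSp_of_iso (ek k).symm (hqc k.left))
  haveI hFs : ∀ k, QuasiSeparatedSpace ↥(F.obj k) := fun k => by
    have h1 : IsQuasiSeparatedMor (ek k).hom :=
      repWith_of_isIso _ (pullback.diagonal (ek k).hom)
    have h2 : IsQuasiSeparatedSp ((yon S).obj (P.E.obj k)) :=
      isQuasiSeparatedSp_of_isQuasiSeparatedMor h1 (hqs k.left)
    have h3 : QuasiCompact (pullback.diagonal (P.E.obj k).hom) :=
      (AlgSp.repWith_diag_yon_iff @QuasiCompact (P.E.obj k)).1 h2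
    haveI : QuasiSeparated (P.E.obj k).hom := ⟨h3⟩
    have : QuasiSeparatedSpace ↥(P.E.obj k).left :=
      quasiSeparatedSpace_of_quasiSeparated (P.E.obj k).hom
    exact this
  obtain ⟨k, hk⟩ := Scheme.exists_isAffine_of_isLimit F cF hcF
  exact ⟨k.left, P.E.obj k, hk, ⟨ek k⟩⟩

end Groth.Agent.H7.LimAff
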