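import Groth.Agent.Lib.Helper7.LimAffI
import Mathlib
set_option autoImplicit false
universe u
open CategoryTheory CategoryTheory.Limits AlgebraicGeometry

namespace Groth.Agent.H7.LimAff
open _root_.AlgSp Groth.Agent.H5.AlgSp Groth.Agent.H5.Lim Groth.Agent.H5.AlgSp.Lim
  Groth.Agent.H5.EtSrc Groth.Agent.H5.Descent

variable {S : Scheme.{u}} {I : Type u} [SmallCategory I] [IsCofiltered I]
  {D : I ⥤ Sp S} {c : Cone D} {i₀ : I}

/-- **Map of chart systems** induced by a morphism of the chart sources. -/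
theorem chartSystem_exists_map {T T' : Over S} {g : (yon S).obj T ⟶ D.obj i₀}
    {g' : (yon S).obj T' ⟶ D.obj i₀}
    (CS : ChartSystem D c i₀ g) (CS' : ChartSystem D c i₀ g') (hc : IsLimit c) (h : T' ⟶ T)
    (hg : g' = (yon S).map h ≫ g) :
    ∃ (m : ∀ k, CS'.P.E.obj k ⟶ CS.P.E.obj k) (m' : CS'.cE.pt ⟶ CS.cE.pt),
      (∀ k, m k ≫ CS.P.q k = CS'.P.q k ≫ h) ∧
      (∀ k, (yon S).map (m k) ≫ CS.P.f k = CS'.P.f k) ∧
      (∀ {k' k : Over i₀} (φ : k' ⟶ k), CS'.P.E.map φ ≫ m k = m k' ≫ CS.P.E.map φ) ∧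
      (∀ k, m' ≫ CS.cE.π.app k = CS'.cE.π.app k ≫ m k) ∧
      (yon S).map m' ≫ CS.fst = CS'.fst := by
  have hw : ∀ k, CS'.P.f k ≫ D.map k.hom = (yon S).map (CS'.P.q k ≫ h) ≫ g := fun k => by
    rw [Functor.map_comp, Category.assoc, ← hg]
    exact (CS'.sq' k).w
  have hm : ∀ k, ∃ m : CS'.P.E.obj k ⟶ CS.P.E.obj k, m ≫ CS.P.q k = CS'.P.q k ≫ h ∧
      (yon S).map m ≫ CS.P.f k = CS'.P.f k := fun k => by
    obtain ⟨m, hm⟩ := (yon S).map_surjective ((CS.sq' k).lift _ _ (hw k))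
    refine ⟨m, ?_, ?_⟩
    · apply (yon S).map_injective
      rw [Functor.map_comp, hm, (CS.sq' k).lift_snd]
    · rw [hm, (CS.sq' k).lift_fst]
  choose m hm1 hm2 using hm
  have hnat : ∀ {k' k : Over i₀} (φ : k' ⟶ k),
      CS'.P.E.map φ ≫ m k = m k' ≫ CS.P.E.map φ := fun {k' k} φ => by
    apply CS.P.hom_ext
    · rw [Category.assoc, hm1, ← Category.assoc, CS'.P.q_nat, Category.assoc, CS.P.q_nat, hm1]
    · rw [Functor.map_comp, Category.assoc, hm2, CS'.P.f_nat, Functor.map_comp, Category.assoc,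
        CS.P.f_nat, ← Category.assoc, hm2]
  let s : Cone CS.P.E :=
    { pt := CS'.cE.pt
      π := { app := fun k => CS'.cE.π.app k ≫ m k
             naturality := fun k' k φ => by
              simp only [Functor.const_obj_obj, Functor.const_obj_map, Category.id_comp]
              rw [Category.assoc, ← hnat φ, ← Category.assoc, CS'.cE.w] } }
  refine ⟨m, CS.hcE.lift s, hm1, hm2, hnat, fun k => CS.hcE.fac s k, ?_⟩
  have hc' : IsLimit (c.whisker (Over.forget i₀)) :=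
    (Functor.Initial.isLimitWhiskerEquiv (Over.forget i₀) c).symm hc
  apply hc'.hom_ext
  intro k
  have e1 : CS.fst ≫ c.π.app k.left = (yon S).map (CS.cE.π.app k) ≫ CS.P.f k := CS.fst_π k
  have e2 : CS'.fst ≫ c.π.app k.left = (yon S).map (CS'.cE.π.app k) ≫ CS'.P.f k := CS'.fst_π k
  have e3 : (yon S).map (CS.hcE.lift s) ≫ (yon S).map (CS.cE.π.app k) =
      (yon S).map (CS'.cE.π.app k) ≫ (yon S).map (m k) := by
    rw [← Functor.map_comp, ← Functor.map_comp]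
    congr 1
    exact CS.hcE.fac s k
  change ((yon S).map (CS.hcE.lift s) ≫ CS.fst) ≫ c.π.app k.left = CS'.fst ≫ c.π.app k.left
  rw [Category.assoc, e1, e2, ← hm2 k]
  exact (Category.assoc _ _ _).symm.trans
    ((congrArg (· ≫ CS.P.f k) e3).trans (Category.assoc _ _ _))

/-- **Kernel pairs of the stage charts.** -/
theorem chartSystem_isPullback_kernelPair {U₀ R₀ : Over S} {p : (yon S).obj U₀ ⟶ D.obj i₀}
    {g' : (yon S).obj R₀ ⟶ D.obj i₀}
    (CS : ChartSystem D c i₀ p) (CS' : ChartSystem D c i₀ g') {s₀ t₀ : R₀ ⟶ U₀}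
    (kp : IsPullback ((yon S).map s₀) ((yon S).map t₀) p p) (hg : g' = (yon S).map s₀ ≫ p)
    (k : Over i₀) {s t : CS'.P.E.obj k ⟶ CS.P.E.obj k}
    (hs1 : s ≫ CS.P.q k = CS'.P.q k ≫ s₀) (hs2 : (yon S).map s ≫ CS.P.f k = CS'.P.f k)
    (ht1 : t ≫ CS.P.q k = CS'.P.q k ≫ t₀) (ht2 : (yon S).map t ≫ CS.P.f k = CS'.P.f k) :
    IsPullback ((yon S).map s) ((yon S).map t) (CS.P.f k) (CS.P.f k) := by
  -- the square `A_s`
  have hbig : IsPullback ((yon S).map s ≫ CS.P.f k) ((yon S).map (CS'.P.q k)) (D.map k.hom)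
      ((yon S).map s₀ ≫ p) := by
    rw [hs2, ← hg]
    exact CS'.sq' k
  have hAs : IsPullback ((yon S).map s) ((yon S).map (CS'.P.q k)) ((yon S).map (CS.P.q k))
      ((yon S).map s₀) :=
    IsPullback.of_right hbig (by rw [← Functor.map_comp, ← Functor.map_comp, hs1]) (CS.sq' k)
  have h1 := hAs.paste_vert kp
  have e1 : (yon S).map (CS'.P.q k) ≫ (yon S).map t₀ = (yon S).map t ≫ (yon S).map (CS.P.q k) := by
    rw [← Functor.map_comp, ← Functor.map_comp, ht1]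
  have e2 : (yon S).map (CS.P.q k) ≫ p = CS.P.f k ≫ D.map k.hom := (CS.sq' k).w.symm
  rw [e1, e2] at h1
  exact IsPullback.of_bot h1 (by rw [hs2, ht2]) (CS.sq' k)

end Groth.Agent.H7.LimAff
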