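import Groth.Agent.Lib.Helper7.LimAffJ
import Groth.Agent.Lib.Helper5.AlgSp.OpenSubspace
import Groth.Agent.Lib.Helper5.AlgSp.OpenSub
import Groth.Agent.Lib.Helper5.AlgSp.QCompact
import Mathlib
set_option autoImplicit false
universe u
open CategoryTheory CategoryTheory.Limits AlgebraicGeometry

namespace Groth.Agent.H7.LimAff
open _root_.AlgSp Groth.Agent.H5.AlgSp Groth.Agent.H5.Lim Groth.Agent.H5.AlgSp.Lim
  Groth.Agent.H5.EtSrc Groth.Agent.H5.Descent

variable {S : Scheme.{u}} {I : Type u} [SmallCategory I] [IsCofiltered I]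

/-- **S10086 (general form)**: a quasi-compact open subspace of the limit comes from a
quasi-compact open subspace of a finite stage. -/
theorem exists_open_stage [QuasiSeparatedSpace ↥S] (D : I ⥤ Sp S)
    (hD : ∀ i, IsAlgSpace (D.obj i))
    (hDa : ∀ (i j : I) (φ : i ⟶ j), IsAffineMor (D.map φ))
    (hqc : ∀ i, IsQuasiCompactSp (D.obj i)) (hqs : ∀ i, IsQuasiSeparatedSp (D.obj i))
    (c : Cone D) (hc : IsLimit c)
    {U : Sp S} (j : U ⟶ c.pt) (hj : RepWith @IsOpenImmersion j) (hU : IsQuasiCompactSp U) :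
    ∃ (i : I) (Ui : Sp S) (ji : Ui ⟶ D.obj i) (q : U ⟶ Ui),
      RepWith @IsOpenImmersion ji ∧ IsQuasiCompactSp Ui ∧ IsPullback j q (c.π.app i) ji := by
  classical
  obtain ⟨i₀⟩ := IsCofiltered.nonempty (C := I)
  have hX : IsAlgSpace c.pt := isAlgSpace_limit D hD hDa c hc
  have hXqs : IsQuasiSeparatedSp c.pt :=
    isQuasiSeparatedSp_of_isQuasiSeparatedMor (f := c.π.app i₀)
      (repWith_mono (fun _ _ g (_ : IsClosedImmersion g) => (inferInstance : QuasiCompact g))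
        (isSeparatedMor_of_isAffineMor (isAffineMor_π_app D hDa c hc i₀))) (hqs i₀)
  have hUalg : IsAlgSpace U := isAlgSpace_of_representable hX j hj.rep
  have hje : RepWith @Etale j :=
    repWith_mono (fun _ _ g (_ : IsOpenImmersion g) => (inferInstance : Etale g)) hj
  haveI : Mono j := mono_of_repWith
    (fun _ _ g (_ : IsOpenImmersion g) => isImmersion_le_mono _ _ g (inferInstance : IsImmersion g)) hj
  -- the open set of points
  obtain ⟨W, hWdef⟩ : ∃ W : Set (Points c.pt), W = Set.range (Points.map j) := ⟨_, rfl⟩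
  have hWo : IsOpen W := by
    rw [hWdef]; exact (isOpenMap_points_map_of_etale hje).isOpen_range
  have hWc : IsCompact W := by
    haveI : CompactSpace (Points U) := (isQuasiCompactSp_iff_compactSpace hUalg).1 hU
    rw [hWdef]; exact isCompact_range (Points.continuous_map j)
  -- chart system
  obtain ⟨U₀, p, hU₀, hpe, hps⟩ := exists_affine_chart_of_isQuasiCompactSp (hqc i₀)
  haveI := hU₀
  obtain ⟨CS⟩ := ChartSystem.exists_of_isAffineMor D hDa c hc i₀ p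
  haveI hm : ∀ {j k : Over i₀} (φ : j ⟶ k), IsAffineHom (CS.F.map φ) :=
    fun φ => CS.isAffineHom_map hDa φ
  have hA : ∀ k, IsAffine (CS.P.E.obj k).left := fun k => by
    have : IsAffineHom (CS.P.q k).left := CS.isAffineHom_q hDa k
    exact isAffine_of_isAffineHom (CS.P.q k).left
  haveI hA' : ∀ k, IsAffine (CS.F.obj k) := hA
  haveI hEaff : IsAffine CS.cE.pt.left := Scheme.isAffine_of_isLimit CS.cF CS.hcF
  have hfe : RepWith @Etale CS.fst := (RepWith @Etale).of_isPullback CS.sq.flip hpe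
  have hfs : RepWith @Surjective CS.fst := (RepWith @Surjective).of_isPullback CS.sq.flip hps
  have hfke : ∀ k, RepWith @Etale (CS.P.f k) := fun k =>
    (RepWith @Etale).of_isPullback (CS.sq' k).flip hpe
  -- the preimage of `W` in the limit chart
  let Vt : CS.cF.pt.Opens :=
    ⟨Points.ofPt CS.fst ⁻¹' W, hWo.preimage (Points.continuous_ofPt CS.fst)⟩
  have hVtc : IsCompact (Vt : Set CS.cF.pt) := by
    have hfqc : IsQuasiCompactMor CS.fst :=
      isQuasiCompactMor_of_isQuasiCompactSp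
        ((isQuasiCompactSp_yon_iff CS.cE.pt).2 inferInstance) hXqs CS.fst
    have h1 : IsCompact (Points.map CS.fst ⁻¹' W) :=
      isCompact_preimage_of_isQuasiCompactMor (IsAlgSpace.yon_obj _) hX hfqc hWo hWc
    have h2 : (Vt : Set CS.cF.pt) =
        (Points.schemeHomeo CS.cE.pt) ⁻¹' (Points.map CS.fst ⁻¹' W) := by
      ext z
      change Points.ofPt CS.fst z ∈ W ↔ Points.map CS.fst (Points.ofScheme CS.cE.pt z) ∈ W
      rw [Points.ofPt_eq_map_ofScheme]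
    rw [h2]
    exact (Points.schemeHomeo CS.cE.pt).isCompact_preimage.2 h1
  obtain ⟨k₀, V₀, hV₀c, hV₀⟩ := exists_preimage_eq CS.F CS.cF CS.hcF Vt hVtc
  -- the kernel pair of the chart
  obtain ⟨R₀, t₀, a, kp₀⟩ := hpe.1 p
  obtain ⟨s₀, rfl⟩ := (yon S).map_surjective a
  obtain ⟨CS'⟩ := ChartSystem.exists_of_isAffineMor D hDa c hc i₀ ((yon S).map s₀ ≫ p)
  obtain ⟨s, s', hs1, hs2, hsnat, hsπ, hsfst⟩ := chartSystem_exists_map CS CS' hc s₀ rfl
  obtain ⟨t, t', ht1, ht2, htnat, htπ, htfst⟩ := chartSystem_exists_map CS CS' hc t₀ kp₀.w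
  have hkp : ∀ k, IsPullback ((yon S).map (s k)) ((yon S).map (t k)) (CS.P.f k) (CS.P.f k) :=
    fun k => chartSystem_isPullback_kernelPair CS CS' kp₀ rfl k (hs1 k) (hs2 k) (ht1 k) (ht2 k)
  haveI hR₀c : CompactSpace ↥R₀.left := by
    have hpqc : IsQuasiCompactMor p :=
      isQuasiCompactMor_of_isQuasiCompactSp ((isQuasiCompactSp_yon_iff U₀).2 inferInstance)
        (hqs i₀) p
    exact (isQuasiCompactSp_yon_iff R₀).1
      (hpqc (IsAlgSpace.yon_obj U₀) ((isQuasiCompactSp_yon_iff U₀).2 inferInstance) p _ _ kp₀)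
  haveI hm' : ∀ {j k : Over i₀} (φ : j ⟶ k), IsAffineHom (CS'.F.map φ) :=
    fun φ => CS'.isAffineHom_map hDa φ
  have hE'c : ∀ k, CompactSpace ↥(CS'.P.E.obj k).left := fun k => by
    haveI : IsAffineHom (CS'.P.q k).left := CS'.isAffineHom_q hDa k
    exact QuasiCompact.compactSpace_of_compactSpace (CS'.P.q k).left
  -- the two preimages of `V₀`
  haveI := hE'c k₀
  haveI := hA k₀
  haveI hsqc : QuasiCompact (s k₀).left := inferInstance
  haveI htqc : QuasiCompact (t k₀).left := inferInstance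
  obtain ⟨A, hAdef⟩ : ∃ A : (CS'.F.obj k₀).Opens, A = (s k₀).left ⁻¹ᵁ V₀ := ⟨_, rfl⟩
  obtain ⟨B, hBdef⟩ : ∃ B : (CS'.F.obj k₀).Opens, B = (t k₀).left ⁻¹ᵁ V₀ := ⟨_, rfl⟩
  have hAc : IsCompact (A : Set (CS'.F.obj k₀)) := by
    rw [hAdef]; exact QuasiCompact.isCompact_preimage (f := (s k₀).left) _ V₀.2 hV₀c
  have hBc : IsCompact (B : Set (CS'.F.obj k₀)) := by
    rw [hBdef]; exact QuasiCompact.isCompact_preimage (f := (t k₀).left) _ V₀.2 hV₀c
  have key : ∀ (m : ∀ k, CS'.P.E.obj k ⟶ CS.P.E.obj k) (m' : CS'.cE.pt ⟶ CS.cE.pt),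
      (m' ≫ CS.cE.π.app k₀ = CS'.cE.π.app k₀ ≫ m k₀) → ((yon S).map m' ≫ CS.fst = CS'.fst) →
      ∀ z : ↥CS'.cE.pt.left, ((m k₀).left ((CS'.cE.π.app k₀).left z) ∈ V₀ ↔
        Points.ofPt CS'.fst z ∈ W) := by
    intro m m' h1 h2 z
    have e1 : (m k₀).left ((CS'.cE.π.app k₀).left z) = (CS.cE.π.app k₀).left (m'.left z) := by
      have := congrArg (fun f => f.left z) h1
      exact this.symm
    rw [e1]
    have e2 : (CS.cE.π.app k₀).left (m'.left z) ∈ V₀ ↔ m'.left z ∈ Vt := by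
      rw [← hV₀]; rfl
    rw [e2]
    change Points.ofPt CS.fst (m'.left z) ∈ W ↔ _
    rw [← ofPt_yon_map_comp, h2]
  have hAB : CS'.cF.π.app k₀ ⁻¹ᵁ A = CS'.cF.π.app k₀ ⁻¹ᵁ B := by
    ext z
    rw [hAdef, hBdef]
    exact (key s s' (hsπ k₀) hsfst z).trans (key t t' (htπ k₀) htfst z).symm
  obtain ⟨k₁, φ, hφ⟩ :=
    exists_map_preimage_eq_map_preimage CS'.F CS'.cF CS'.hcF hAc hBc hAB
  -- the open at stage `k₁`
  obtain ⟨V₁, hV₁def⟩ : ∃ V₁ : (CS.F.obj k₁).Opens, V₁ = CS.F.map φ ⁻¹ᵁ V₀ := ⟨_, rfl⟩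
  have hV₁c : IsCompact (V₁ : Set (CS.F.obj k₁)) := by
    rw [hV₁def]; exact QuasiCompact.isCompact_preimage (f := CS.F.map φ) _ V₀.2 hV₀c
  have hV₁π : CS.cF.π.app k₁ ⁻¹ᵁ V₁ = Vt := by
    rw [← hV₀, hV₁def, ← Scheme.Hom.comp_preimage, CS.cF.w]
  have hsat : ∀ r : ↥(CS'.P.E.obj k₁).left, (s k₁).left r ∈ V₁ ↔ (t k₁).left r ∈ V₁ := by
    intro r
    have e1 : (CS.F.map φ) ((s k₁).left r) = (s k₀).left ((CS'.F.map φ) r) := by
      have := congrArg (fun f => f.left r) (hsnat φ)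
      exact this.symm
    have e2 : (CS.F.map φ) ((t k₁).left r) = (t k₀).left ((CS'.F.map φ) r) := by
      have := congrArg (fun f => f.left r) (htnat φ)
      exact this.symm
    rw [hV₁def]
    change CS.F.map φ ((s k₁).left r) ∈ V₀ ↔ CS.F.map φ ((t k₁).left r) ∈ V₀
    rw [e1, e2]
    have h3 : r ∈ CS'.F.map φ ⁻¹ᵁ A ↔ r ∈ CS'.F.map φ ⁻¹ᵁ B := by rw [hφ]
    rw [hAdef, hBdef] at h3
    exact h3
  obtain ⟨W₁, hW₁def⟩ : ∃ W₁ : Set (Points (D.obj k₁.left)),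
      W₁ = Points.ofPt (CS.P.f k₁) '' (V₁ : Set (CS.F.obj k₁)) := ⟨_, rfl⟩
  have hW₁o : IsOpen W₁ := by
    rw [hW₁def]; exact isOpenMap_ofPt_of_etale (hfke k₁) _ V₁.2
  have hW₁c : IsCompact W₁ := by
    rw [hW₁def]; exact hV₁c.image (Points.continuous_ofPt _)
  have hW₁pre : ∀ u : ↥(CS.P.E.obj k₁).left, Points.ofPt (CS.P.f k₁) u ∈ W₁ ↔ u ∈ V₁ := by
    intro u
    rw [hW₁def]
    constructor
    · rintro ⟨a, ha, hau⟩
      obtain ⟨r, hr1, hr2⟩ := (ofPt_eq_ofPt_iff (hkp k₁) a u).1 hau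
      rw [← hr2, ← hsat r, hr1]
      exact ha
    · intro hu
      exact ⟨u, hu, rfl⟩
  have hpre : ∀ x : Points c.pt, Points.map (c.π.app k₁.left) x ∈ W₁ ↔ x ∈ W := by
    intro x
    obtain ⟨z, rfl⟩ := ofPt_surjective_of_repWith hfs x
    rw [Points.map_ofPt]
    have e : CS.fst ≫ c.π.app k₁.left = (yon S).map (CS.cE.π.app k₁) ≫ CS.P.f k₁ := CS.fst_π k₁
    have e' : Points.ofPt (CS.fst ≫ c.π.app k₁.left) z =
        Points.ofPt (CS.P.f k₁) ((CS.cE.π.app k₁).left z) :=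
      (congrArg (fun g => Points.ofPt g z) e).trans
        (ofPt_yon_map_comp (CS.cE.π.app k₁) (CS.P.f k₁) z)
    have h3 : (CS.cE.π.app k₁).left z ∈ V₁ ↔ z ∈ Vt := by
      have h4 : z ∈ CS.cF.π.app k₁ ⁻¹ᵁ V₁ ↔ z ∈ Vt := by rw [hV₁π]
      exact h4
    rw [e']
    exact (hW₁pre _).trans h3
  -- the open subspace
  have hji := repWith_openSubι (F := D.obj k₁.left) hW₁o
  obtain ⟨q, hq⟩ := (factors_through_open_iff (openSubι (D.obj k₁.left) W₁) hji
    (j ≫ c.π.app k₁.left)).2 (by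
      rintro _ ⟨y, rfl⟩
      rw [range_points_map_openSubι, Points.map_comp]
      exact (hpre _).2 (hWdef ▸ ⟨y, rfl⟩))
  refine ⟨k₁.left, openSub (D.obj k₁.left) W₁, openSubι _ W₁, q, hji,
    isQuasiCompactSp_openSub (hD _) hW₁o hW₁c, ?_⟩
  apply isPullback_of_yon hq.symm
  intro T x y hxy
  obtain ⟨g, hg⟩ := (factors_through_open_iff j hj x).2 (by
    rintro _ ⟨z', rfl⟩
    rw [← hWdef]
    apply (hpre _).1
    have h5 : Points.map (openSubι (D.obj k₁.left) W₁) (Points.map y z') ∈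
        Set.range (Points.map (openSubι (D.obj k₁.left) W₁)) := ⟨_, rfl⟩
    rw [range_points_map_openSubι] at h5
    rw [← Points.map_comp, hxy, Points.map_comp]
    exact h5)
  refine ⟨g, ⟨hg, ?_⟩, fun g' hg' => ?_⟩
  · rw [← cancel_mono (openSubι (D.obj k₁.left) W₁), Category.assoc, hq, ← Category.assoc, hg, hxy]
  · rw [← cancel_mono j, hg, hg'.1]

end Groth.Agent.H7.LimAff
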