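import Groth.Agent.Lib.Helper7.LimAffK
import Groth.Agent.Lib.Helper5.AlgSp.SchematicLocus
import Groth.Agent.Lib.Helper5.AlgSp.RefinedDVR
import Groth.Agent.Lib.Helper3.Decent.MonoDiscrete
import Mathlib
set_option autoImplicit false
universe u
open CategoryTheory CategoryTheory.Limits AlgebraicGeometry

namespace Groth.Agent.H7.LimAff
open _root_.AlgSp Groth.Agent.H5.AlgSp Groth.Agent.H5.Lim Groth.Agent.H5.AlgSp.Lim
  Groth.Agent.H5.EtSrc Groth.Agent.H5.Descent

variable {S : Scheme.{u}}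

/-- The preimage of the schematic locus under a representable morphism lies in the schematic
locus. -/
lemma mem_schematicSet_of_representable {F G : Sp S} (f : F ⟶ G) (hf : Representable f)
    (y : Points F) (hy : Points.map f y ∈ schematicSet G) : y ∈ schematicSet F := by
  obtain ⟨T₁, j₁, hj₁, t₁, ht₁⟩ := hy
  obtain ⟨W, w, a, sq⟩ := hf j₁
  have ha : RepWith @IsOpenImmersion a := (RepWith @IsOpenImmersion).of_isPullback sq.flip hj₁
  obtain ⟨z, hz, -⟩ := points_pullback_surjective sq y (Points.ofScheme T₁ t₁) (by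
    rw [← Points.ofPt_eq_map_ofScheme]; exact ht₁.symm)
  obtain ⟨w₀, rfl⟩ := ofScheme_surjective W z
  exact ⟨W, a, ha, w₀, by rw [Points.ofPt_eq_map_ofScheme]; exact hz⟩

variable {I : Type u} [SmallCategory I] [IsCofiltered I]

/-- The limit of a system of quasi-compact spaces with affine transition maps is quasi-compact. -/
theorem isQuasiCompactSp_limit (D : I ⥤ Sp S)
    (hDa : ∀ (i j : I) (φ : i ⟶ j), IsAffineMor (D.map φ))
    (hqc : ∀ i, IsQuasiCompactSp (D.obj i)) (c : Cone D) (hc : IsLimit c) :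
    IsQuasiCompactSp c.pt := by
  obtain ⟨i₀⟩ := IsCofiltered.nonempty (C := I)
  obtain ⟨U₀, p, hU₀, hpe, hps⟩ := exists_affine_chart_of_isQuasiCompactSp (hqc i₀)
  haveI := hU₀
  obtain ⟨CS⟩ := ChartSystem.exists_of_isAffineMor D hDa c hc i₀ p
  haveI hm : ∀ {j k : Over i₀} (φ : j ⟶ k), IsAffineHom (CS.F.map φ) :=
    fun φ => CS.isAffineHom_map hDa φ
  have hA : ∀ k, IsAffine (CS.P.E.obj k).left := fun k => by
    have : IsAffineHom (CS.P.q k).left := CS.isAffineHom_q hDa k
    exact isAffine_of_isAffineHom (CS.P.q k).left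
  haveI hA' : ∀ k, IsAffine (CS.F.obj k) := hA
  haveI hEaff : IsAffine CS.cE.pt.left := Scheme.isAffine_of_isLimit CS.cF CS.hcF
  exact ⟨CS.cE.pt, CS.fst, (RepWith @Etale).of_isPullback CS.sq.flip hpe,
    (RepWith @Surjective).of_isPullback CS.sq.flip hps, inferInstance⟩

/-- If the preimage in the limit of an open set of points of a stage is everything, so is the
preimage in a later stage. -/
theorem exists_preimage_eq_univ (D : I ⥤ Sp S)
    (hDa : ∀ (i j : I) (φ : i ⟶ j), IsAffineMor (D.map φ))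
    (hqc : ∀ i, IsQuasiCompactSp (D.obj i)) (c : Cone D) (hc : IsLimit c) (i : I)
    (W : Set (Points (D.obj i))) (hW : IsOpen W)
    (h : ∀ x : Points c.pt, Points.map (c.π.app i) x ∈ W) :
    ∃ (i' : I) (φ : i' ⟶ i), ∀ y : Points (D.obj i'), Points.map (D.map φ) y ∈ W := by
  obtain ⟨U₀, p, hU₀, hpe, hps⟩ := exists_affine_chart_of_isQuasiCompactSp (hqc i)
  haveI := hU₀
  obtain ⟨CS⟩ := ChartSystem.exists_of_isAffineMor D hDa c hc i p
  haveI hm : ∀ {j k : Over i} (φ : j ⟶ k), IsAffineHom (CS.F.map φ) :=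
    fun φ => CS.isAffineHom_map hDa φ
  have hA : ∀ k, IsAffine (CS.P.E.obj k).left := fun k => by
    have : IsAffineHom (CS.P.q k).left := CS.isAffineHom_q hDa k
    exact isAffine_of_isAffineHom (CS.P.q k).left
  haveI hA' : ∀ k, IsAffine (CS.F.obj k) := hA
  have hfks : ∀ k, RepWith @Surjective (CS.P.f k) := fun k =>
    (RepWith @Surjective).of_isPullback (CS.sq' k).flip hps
  let O₀ : U₀.left.Opens := ⟨Points.ofPt p ⁻¹' W, hW.preimage (Points.continuous_ofPt p)⟩
  let k₀ : Over i := Over.mk (𝟙 i)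
  obtain ⟨O, hOdef⟩ : ∃ O : (CS.F.obj k₀).Opens, O = (CS.P.q k₀).left ⁻¹ᵁ O₀ := ⟨_, rfl⟩
  have hO : CS.cF.π.app k₀ ⁻¹ᵁ O = ⊤ := by
    rw [eq_top_iff]
    intro z _
    rw [hOdef]
    change Points.ofPt p ((CS.P.q k₀).left ((CS.cE.π.app k₀).left z)) ∈ W
    have e1 : (CS.P.q k₀).left ((CS.cE.π.app k₀).left z) = CS.snd.left z := by
      have := congrArg (fun f => f.left z) (CS.π_q k₀)
      exact this
    rw [e1, ← ofPt_yon_map_comp, ← CS.sq.w, ← Points.map_ofPt]
    exact h _
  obtain ⟨k, φ, hk⟩ := exists_map_eq_top CS.F CS.cF CS.hcF O hO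
  refine ⟨k.left, k.hom, fun y => ?_⟩
  obtain ⟨u, rfl⟩ := ofPt_surjective_of_repWith (hfks k) y
  change Points.ofPt (CS.P.f k ≫ D.map k.hom) u ∈ W
  have e2 : CS.P.f k ≫ D.map k.hom = (yon S).map (CS.P.q k) ≫ p := (CS.sq' k).w
  have e3 : Points.ofPt (CS.P.f k ≫ D.map k.hom) u = Points.ofPt p ((CS.P.q k).left u) :=
    (congrArg (fun g => Points.ofPt g u) e2).trans (ofPt_yon_map_comp (CS.P.q k) p u)
  rw [e3]
  have e4 : (CS.P.q k).left u = (CS.P.q k₀).left ((CS.F.map φ) u) := by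
    have := congrArg (fun f => f.left u) (CS.P.q_nat φ)
    exact this.symm
  rw [e4]
  have h5 : u ∈ CS.F.map φ ⁻¹ᵁ O := by rw [hk]; trivial
  rw [hOdef] at h5
  exact h5

/-- Every point of a limit which is a scheme is schematic at some finite stage. -/
theorem exists_stage_mem_schematicSet [QuasiSeparatedSpace ↥S] (D : I ⥤ Sp S)
    (hD : ∀ i, IsAlgSpace (D.obj i))
    (hDa : ∀ (i j : I) (φ : i ⟶ j), IsAffineMor (D.map φ))
    (hqc : ∀ i, IsQuasiCompactSp (D.obj i)) (hqs : ∀ i, IsQuasiSeparatedSp (D.obj i))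
    (c : Cone D) (hc : IsLimit c) (T : Over S) (e : (yon S).obj T ≅ c.pt) (x : Points c.pt) :
    ∃ i, Points.map (c.π.app i) x ∈ schematicSet (D.obj i) := by
  -- the point of `T`
  obtain ⟨t, rfl⟩ : ∃ t : ↥T.left, Points.ofPt e.hom t = x := by
    obtain ⟨t, ht⟩ := ofScheme_surjective T (Points.map e.inv x)
    refine ⟨t, ?_⟩
    rw [Points.ofPt_eq_map_ofScheme, ht, ← Points.map_comp, e.inv_hom_id, Points.map_id]
  -- an affine open neighbourhood
  obtain ⟨V, hV, htV⟩ : ∃ V : T.left.Opens, IsAffineOpen V ∧ t ∈ V := by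
    obtain ⟨_, ⟨V, hV : IsAffineOpen V, rfl⟩, htV, -⟩ :=
      T.left.isBasis_affineOpens.exists_subset_of_mem_open (Set.mem_univ t) isOpen_univ
    exact ⟨V, hV, htV⟩
  haveI : IsAffine (overOpen T V).left := hV
  let j : (yon S).obj (overOpen T V) ⟶ c.pt := (yon S).map (overOpenι T V) ≫ e.hom
  have hj : RepWith @IsOpenImmersion j :=
    (RepWith @IsOpenImmersion).comp_mem _ _
      (repWith_overOpenι @IsOpenImmersion (fun _ _ => inferInstance) T V) (repWith_of_isIso _ _)
  have hjqc : IsQuasiCompactSp ((yon S).obj (overOpen T V)) :=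
    (isQuasiCompactSp_yon_iff _).2 inferInstance
  obtain ⟨i₁, U₁, ji, q, hji, hU₁qc, sq⟩ := exists_open_stage D hD hDa hqc hqs c hc j hj hjqc
  have hU₁alg : IsAlgSpace U₁ := isAlgSpace_of_representable (hD i₁) ji hji.rep
  haveI : Mono ji := mono_of_repWith
    (fun _ _ g (_ : IsOpenImmersion g) => isImmersion_le_mono _ _ g (inferInstance : IsImmersion g))
    hji
  -- the system of preimages of `U₁`
  haveI : IsConnected (Over i₁) := IsFiltered.isConnected (Over i₁)
  let s := overTrans D i₁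
  have hσ : ∀ k : Over i₁, (c.whisker (Over.forget i₁)).π.app k ≫ s.app k = c.π.app i₁ :=
    fun k => c.w k.hom
  have hc' : IsLimit (c.whisker (Over.forget i₁)) :=
    (Functor.Initial.isLimitWhiskerEquiv (Over.forget i₁) c).symm hc
  have hD' : ∀ k, IsAlgSpace ((pbFunctor ji s).obj k) := fun k =>
    isAlgSpace_pullback (hD i₁).diag hU₁alg (hD k.left) (IsPullback.of_hasPullback ji (s.app k))
  have hD'a : ∀ (k l : Over i₁) (φ : k ⟶ l), IsAffineMor ((pbFunctor ji s).map φ) :=
    fun k l φ => isAffineMor_of_isPullback (isPullback_pbFunctor_map ji s φ).flip (hDa _ _ φ.left)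
  have hqc' : ∀ k, IsQuasiCompactSp ((pbFunctor ji s).obj k) := fun k =>
    isQuasiCompactMor_of_isQuasiCompactSp (hqc k.left) (hqs i₁) (s.app k) hU₁alg hU₁qc ji _ _
      (IsPullback.of_hasPullback ji (s.app k)).flip
  have hqs' : ∀ k, IsQuasiSeparatedSp ((pbFunctor ji s).obj k) := fun k =>
    isQuasiSeparatedSp_of_isQuasiSeparatedMor (f := pullback.snd ji (s.app k))
      (repWith_diag_of_isPullback (IsPullback.of_hasPullback ji (s.app k))
        (repWith_mono (fun _ _ g (_ : IsClosedImmersion g) => (inferInstance : QuasiCompact g))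
          (isSeparatedMor_of_mono ji))) (hqs k.left)
  obtain ⟨k, Z, hZ, ⟨eZ⟩⟩ := exists_affine_stage (pbFunctor ji s) hD' hD'a hqc' hqs'
    (pbCone ji s (c.whisker (Over.forget i₁)) (c.π.app i₁) hσ)
    (isLimitPbCone ji s (c.whisker (Over.forget i₁)) (c.π.app i₁) hσ hc')
    (overOpen T V) sq.flip.isoPullback
  -- the schematic open subspace at stage `k`
  refine ⟨k.left, Z, eZ.hom ≫ pullback.snd ji (s.app k), ?_, ?_⟩
  · exact (RepWith @IsOpenImmersion).comp_mem _ _ (repWith_of_isIso _ _)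
      ((RepWith @IsOpenImmersion).of_isPullback (IsPullback.of_hasPullback ji (s.app k)) hji)
  · -- the point
    have hw : q ≫ ji = (j ≫ c.π.app k.left) ≫ s.app k := by
      rw [Category.assoc]
      change q ≫ ji = j ≫ c.π.app k.left ≫ D.map k.hom
      rw [c.w, sq.w]
    let l : (yon S).obj (overOpen T V) ⟶ pullback ji (s.app k) := pullback.lift q _ hw
    have hl : l ≫ pullback.snd ji (s.app k) = j ≫ c.π.app k.left := pullback.lift_snd _ _ _
    have e1 : Points.ofPt e.hom t = Points.ofPt j ⟨t, htV⟩ := (ofPt_restrict e.hom V ⟨t, htV⟩).symm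
    obtain ⟨z₀, hz₀⟩ := ofScheme_surjective Z (Points.map eZ.inv (Points.ofPt l ⟨t, htV⟩))
    refine ⟨z₀, ?_⟩
    rw [Points.ofPt_eq_map_ofScheme, hz₀, Points.map_comp, ← Points.map_comp eZ.inv,
      eZ.inv_hom_id, Points.map_id, Points.map_ofPt, e1, Points.map_ofPt]
    exact congrArg (fun g => Points.ofPt g _) hl

/-- **S10007 (general form)**: if the limit is a scheme, so is some stage. -/
theorem exists_scheme_stage [QuasiSeparatedSpace ↥S] (D : I ⥤ Sp S)
    (hD : ∀ i, IsAlgSpace (D.obj i))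
    (hDa : ∀ (i j : I) (φ : i ⟶ j), IsAffineMor (D.map φ))
    (hqc : ∀ i, IsQuasiCompactSp (D.obj i)) (hqs : ∀ i, IsQuasiSeparatedSp (D.obj i))
    (c : Cone D) (hc : IsLimit c) (T : Over S) (e : (yon S).obj T ≅ c.pt) :
    ∃ (i : I) (Z : Over S), Nonempty ((yon S).obj Z ≅ D.obj i) := by
  have hX : IsAlgSpace c.pt := isAlgSpace_limit D hD hDa c hc
  haveI : CompactSpace (Points c.pt) :=
    (isQuasiCompactSp_iff_compactSpace hX).1 (isQuasiCompactSp_limit D hDa hqc c hc)
  have hrep : ∀ {i i' : I} (φ : i' ⟶ i), Representable (D.map φ) := fun φ =>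
    (repWith_isAffineHom_of_isAffineMor (hDa _ _ φ)).1
  let O : I → Set (Points c.pt) := fun i => Points.map (c.π.app i) ⁻¹' schematicSet (D.obj i)
  have hOo : ∀ i, IsOpen (O i) := fun i =>
    (isOpen_schematicSet (D.obj i)).preimage (Points.continuous_map _)
  have hOmono : ∀ {i i' : I} (φ : i' ⟶ i), O i ⊆ O i' := fun {i i'} φ x hx => by
    apply mem_schematicSet_of_representable (D.map φ) (hrep φ)
    rw [← Points.map_comp, c.w]
    exact hx
  have hOcov : (Set.univ : Set (Points c.pt)) ⊆ ⋃ i, O i := fun x _ => by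
    obtain ⟨i, hi⟩ := exists_stage_mem_schematicSet D hD hDa hqc hqs c hc T e x
    exact Set.mem_iUnion.2 ⟨i, hi⟩
  have hOdir : Directed (· ⊆ ·) O := fun i i' =>
    ⟨IsCofiltered.min i i', hOmono (IsCofiltered.minToLeft i i'),
      hOmono (IsCofiltered.minToRight i i')⟩
  haveI : Nonempty I := IsCofiltered.nonempty
  obtain ⟨i, hi⟩ := isCompact_univ.elim_directed_cover O hOo hOcov hOdir
  obtain ⟨i', φ, hφ⟩ := exists_preimage_eq_univ D hDa hqc c hc i (schematicSet (D.obj i))
    (isOpen_schematicSet _) (fun x => hi (Set.mem_univ x))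
  have huniv : schematicSet (D.obj i') = Set.univ := by
    rw [Set.eq_univ_iff_forall]
    intro y
    exact mem_schematicSet_of_representable (D.map φ) (hrep φ) y (hφ y)
  obtain ⟨Z, hZ⟩ := Groth.Agent.H3.Decent.isRepresentable_of_schematicSet_eq_univ (hD i') huniv
  exact ⟨i', Z, hZ⟩

end Groth.Agent.H7.LimAff
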