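import Groth.Agent.Lib.Helper7.LimAffL
import Mathlib
set_option autoImplicit false
universe u
open CategoryTheory CategoryTheory.Limits AlgebraicGeometry Topology

namespace Groth.Agent.H7.LimAff
open _root_.AlgSp Groth.Agent.H5.AlgSp Groth.Agent.H5.Lim Groth.Agent.H5.AlgSp.Lim
  Groth.Agent.H5.EtSrc Groth.Agent.H5.Descent

variable {S : Scheme.{u}}

/-- Every point of an algebraic space lies in the image of an étale scheme chart. -/
lemma exists_etale_chart_through {F : Sp S} (hF : IsAlgSpace F) (x : Points F) :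
    ∃ (U : Over S) (a : (yon S).obj U ⟶ F) (_ : RepWith @Etale a) (u : ↥U.left),
      Points.ofPt a u = x := by
  obtain ⟨U, p, hpe, hps⟩ := hF.atlas
  obtain ⟨u, hu⟩ := ofPt_surjective_of_repWith hps x
  exact ⟨U, p, hpe, u, hu⟩

variable {I : Type u} [SmallCategory I] [IsCofiltered I]

/-- Neighbourhood basis of the limit: every open neighbourhood of a point of the limit contains
the preimage of an open neighbourhood of the image point at some stage. -/
theorem exists_stage_open_nhd (D : I ⥤ Sp S) (hD : ∀ i, IsAlgSpace (D.obj i))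
    (hDa : ∀ (i j : I) (φ : i ⟶ j), IsAffineMor (D.map φ))
    (c : Cone D) (hc : IsLimit c) (V : Set (Points c.pt)) (hV : IsOpen V)
    (x : Points c.pt) (hx : x ∈ V) :
    ∃ (i : I) (W : Set (Points (D.obj i))), IsOpen W ∧ Points.map (c.π.app i) x ∈ W ∧
      Points.map (c.π.app i) ⁻¹' W ⊆ V := by
  obtain ⟨i₀⟩ := IsCofiltered.nonempty (C := I)
  obtain ⟨U₀, a₀, ha₀, u₀, hu₀⟩ :=
    exists_etale_chart_through (hD i₀) (Points.map (c.π.app i₀) x)
  obtain ⟨CS⟩ := ChartSystem.exists_of_isAffineMor D hDa c hc i₀ a₀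
  haveI hm : ∀ {j k : Over i₀} (φ : j ⟶ k), IsAffineHom (CS.F.map φ) :=
    fun φ => CS.isAffineHom_map hDa φ
  -- lift x to the chart of the limit
  obtain ⟨u, -, hux⟩ := exists_point_of_isPullback CS.sq x u₀ hu₀.symm
  -- the preimage of V in the chart
  let V' : CS.cF.pt.Opens := ⟨Points.ofPt CS.fst ⁻¹' V, hV.preimage (Points.continuous_ofPt _)⟩
  have huV : u ∈ V' := by
    change Points.ofPt CS.fst u ∈ V
    rw [hux]; exact hx
  have hB := isBasis_preimage_isAffineOpen CS.F CS.cF CS.hcF
  obtain ⟨_, ⟨k, E', -, rfl⟩, huE, hEV⟩ :=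
    TopologicalSpace.Opens.isBasis_iff_nbhd.mp hB huV
  have hfk : RepWith @Etale (CS.P.f k) := (RepWith @Etale).of_isPullback (CS.sq' k).flip ha₀
  refine ⟨k.left, Points.ofPt (CS.P.f k) '' (E' : Set (CS.F.obj k)), ?_, ?_, ?_⟩
  · exact isOpenMap_ofPt_of_etale hfk _ E'.2
  · refine ⟨(CS.cE.π.app k).left u, huE, ?_⟩
    have h1 : Points.ofPt (CS.P.f k) ((CS.cE.π.app k).left u) =
        Points.ofPt ((yon S).map (CS.cE.π.app k) ≫ CS.P.f k) u :=
      (ofPt_yon_map_comp _ _ _).symm
    have h2 : Points.ofPt ((yon S).map (CS.cE.π.app k) ≫ CS.P.f k) u =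
        Points.ofPt (CS.fst ≫ c.π.app k.left) u :=
      congrArg (fun g => Points.ofPt g u) (CS.fst_π k).symm
    have h3 : Points.ofPt (CS.fst ≫ c.π.app k.left) u = Points.map (c.π.app k.left) x := by
      rw [← Points.map_ofPt, hux]
    exact h1.trans (h2.trans h3)
  · rintro x' ⟨e, he, hex⟩
    obtain ⟨v, hv, hvx⟩ := exists_point_of_isPullback (CS.isPullback_π k).flip x' e hex.symm
    have : v ∈ V' := hEV (by
      change (CS.cE.π.app k).left v ∈ E'
      rw [hv]; exact he)
    change Points.ofPt CS.fst v ∈ V at this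
    rwa [hvx] at this

/-- S10058: the topology of the limit is induced by the projections. -/
theorem points_topology_limit (D : I ⥤ Sp S) (hD : ∀ i, IsAlgSpace (D.obj i))
    (hDa : ∀ (i j : I) (φ : i ⟶ j), IsAffineMor (D.map φ))
    (c : Cone D) (hc : IsLimit c) :
    Points.topologicalSpace c.pt =
      ⨅ i, TopologicalSpace.induced (Points.map (c.π.app i)) (Points.topologicalSpace (D.obj i)) := by
  apply le_antisymm
  · exact le_iInf fun i => continuous_iff_le_induced.mp (Points.continuous_map _)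
  · intro V hV
    rw [@isOpen_iff_forall_mem_open]
    intro x hx
    obtain ⟨i, W, hW, hxW, hWV⟩ := exists_stage_open_nhd D hD hDa c hc V hV x hx
    refine ⟨Points.map (c.π.app i) ⁻¹' W, hWV, ?_, hxW⟩
    have h1 : IsOpen[TopologicalSpace.induced (Points.map (c.π.app i))
        (Points.topologicalSpace (D.obj i))] (Points.map (c.π.app i) ⁻¹' W) :=
      isOpen_induced hW
    exact (iInf_le (fun i => TopologicalSpace.induced (Points.map (c.π.app i))
        (Points.topologicalSpace (D.obj i))) i) _ h1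

end Groth.Agent.H7.LimAff
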