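import Groth.Agent.Lib.Helper7.LimAffM
import Groth.Agent.Lib.Helper7.LimAffJ
import Groth.Agent.Lib.Helper3.Decent.QCPoint
import Groth.Agent.Lib.Helper5.Lim.LimitPoints
import Mathlib
set_option autoImplicit false
universe u
open CategoryTheory CategoryTheory.Limits AlgebraicGeometry Topology

namespace Groth.Agent.H7.LimAff
open _root_.AlgSp Groth.Agent.H5.AlgSp Groth.Agent.H5.Lim Groth.Agent.H5.AlgSp.Lim
  Groth.Agent.H5.EtSrc Groth.Agent.H5.Descent Groth.Agent.H3.Decent

variable {S : Scheme.{u}}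

/-- Every point of an algebraic space lies in the image of an affine étale scheme chart. -/
lemma exists_affine_etale_chart_through {F : Sp S} (hF : IsAlgSpace F) (x : Points F) :
    ∃ (U : Over S) (_ : IsAffine U.left) (a : (yon S).obj U ⟶ F) (_ : RepWith @Etale a)
      (u : ↥U.left), Points.ofPt a u = x := by
  obtain ⟨U, p, hpe, hps⟩ := hF.atlas
  obtain ⟨u, hu⟩ := ofPt_surjective_of_repWith hps x
  obtain ⟨_, ⟨W, hW, rfl⟩, huW, -⟩ := U.left.isBasis_affineOpens.exists_subset_of_mem_open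
    (Set.mem_univ u) isOpen_univ
  exact ⟨overOpen U W, hW, (yon S).map (overOpenι U W) ≫ p, repWith_etale_restrict hpe W,
    ⟨u, huW⟩, (ofPt_restrict p W ⟨u, huW⟩).trans hu⟩

variable {I : Type u} [SmallCategory I] [IsCofiltered I]

/-- Surjectivity of `|lim X_i| → lim |X_i|` for decent spaces. -/
theorem exists_point_of_compatible_sp (D : I ⥤ Sp S) (hD : ∀ i, IsAlgSpace (D.obj i))
    (hDa : ∀ (i j : I) (φ : i ⟶ j), IsAffineMor (D.map φ))
    (c : Cone D) (hc : IsLimit c) (hdec : ∀ i, IsDecent (D.obj i))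
    (s : ∀ i, Points (D.obj i))
    (hs : ∀ (i j : I) (φ : i ⟶ j), Points.map (D.map φ) (s i) = s j) :
    ∃ x : Points c.pt, ∀ i, Points.map (c.π.app i) x = s i := by
  obtain ⟨i₀⟩ := IsCofiltered.nonempty (C := I)
  obtain ⟨U₀, hU₀, a₀, ha₀, u₀, hu₀⟩ := exists_affine_etale_chart_through (hD i₀) (s i₀)
  haveI := hU₀
  obtain ⟨CS⟩ := ChartSystem.exists_of_isAffineMor D hDa c hc i₀ a₀
  haveI hm : ∀ (j k : Over i₀) (φ : j ⟶ k), IsAffineHom (CS.F.map φ) :=
    fun j k φ => CS.isAffineHom_map hDa φ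
  have hfk : ∀ k, RepWith @Etale (CS.P.f k) := fun k =>
    (RepWith @Etale).of_isPullback (CS.sq' k).flip ha₀
  have hEaff : ∀ k, IsAffine (CS.P.E.obj k).left := fun k => by
    haveI := CS.isAffineHom_q hDa k
    exact isAffine_of_isAffineHom (CS.P.q k).left
  -- the system of fibres
  have hmap : ∀ {j k : Over i₀} (φ : j ⟶ k) (e : ↥(CS.P.E.obj j).left),
      Points.ofPt (CS.P.f k) ((CS.P.E.map φ).left e) =
        Points.map (D.map φ.left) (Points.ofPt (CS.P.f j) e) := fun {j k} φ e => by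
    have h1 : Points.ofPt (CS.P.f k) ((CS.P.E.map φ).left e) =
        Points.ofPt ((yon S).map (CS.P.E.map φ) ≫ CS.P.f k) e := (ofPt_yon_map_comp _ _ _).symm
    have h2 : Points.ofPt ((yon S).map (CS.P.E.map φ) ≫ CS.P.f k) e =
        Points.ofPt (CS.P.f j ≫ D.map φ.left) e :=
      congrArg (fun g => Points.ofPt g e) (CS.P.f_nat φ)
    exact h1.trans h2
  let Fs : Over i₀ ⥤ Type u :=
    { obj := fun k => {e : ↥(CS.P.E.obj k).left // Points.ofPt (CS.P.f k) e = s k.left}
      map := fun {j k} φ => TypeCat.ofHom (fun e => ⟨(CS.P.E.map φ).left e.1, by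
        have := hmap φ e.1
        exact this.trans ((congrArg _ e.2).trans (hs _ _ φ.left))⟩)
      map_id := fun k => by
        ext e
        change (CS.P.E.map (𝟙 k)).left e.1 = e.1
        rw [CS.P.E.map_id]; rfl
      map_comp := fun {j k l} φ ψ => by
        ext e
        change (CS.P.E.map (φ ≫ ψ)).left e.1 = (CS.P.E.map ψ).left ((CS.P.E.map φ).left e.1)
        rw [CS.P.E.map_comp]; rfl }
  haveI hfin : ∀ k, Finite (Fs.obj k) := fun k => by
    haveI := hEaff k
    have := finite_fibre_of_isDecent (hdec k.left) (hfk k) (s k.left)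
    exact this.to_subtype
  haveI hne : ∀ k, Nonempty (Fs.obj k) := fun k => by
    have h1 : Points.map (D.map k.hom) (s k.left) = Points.ofPt a₀ u₀ := by
      rw [hu₀]; exact hs _ _ k.hom
    obtain ⟨e, -, he⟩ := exists_point_of_isPullback (CS.sq' k) (s k.left) u₀ h1
    exact ⟨⟨e, he⟩⟩
  obtain ⟨z, hz⟩ := nonempty_sections_of_finite_cofiltered_system Fs
  obtain ⟨u, hu⟩ := exists_point_of_compatible CS.F CS.cF CS.hcF (fun k => (z k).1)
    (fun j k φ => congrArg Subtype.val (hz φ))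
  have hxk : ∀ k : Over i₀, Points.map (c.π.app k.left) (Points.ofPt CS.fst u) = s k.left := by
    intro k
    have h1 : Points.map (c.π.app k.left) (Points.ofPt CS.fst u) =
        Points.ofPt (CS.fst ≫ c.π.app k.left) u := Points.map_ofPt _ _ _
    have h2 : Points.ofPt (CS.fst ≫ c.π.app k.left) u =
        Points.ofPt ((yon S).map (CS.cE.π.app k) ≫ CS.P.f k) u :=
      congrArg (fun g => Points.ofPt g u) (CS.fst_π k)
    have h3 : Points.ofPt ((yon S).map (CS.cE.π.app k) ≫ CS.P.f k) u =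
        Points.ofPt (CS.P.f k) ((CS.cE.π.app k).left u) := ofPt_yon_map_comp _ _ _
    have h4 : (CS.cE.π.app k).left u = (z k).1 := hu k
    exact h1.trans (h2.trans (h3.trans ((congrArg _ h4).trans (z k).2)))
  refine ⟨Points.ofPt CS.fst u, fun i => ?_⟩
  have := hxk (Over.mk (IsCofiltered.minToLeft i₀ i))
  change Points.map (c.π.app (IsCofiltered.min i₀ i)) _ = s (IsCofiltered.min i₀ i) at this
  rw [← c.w (IsCofiltered.minToRight i₀ i), Points.map_comp, this, hs]

/-- Injectivity of `|lim X_i| → lim |X_i|` for decent spaces. -/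
theorem points_ext_of_map_eq (D : I ⥤ Sp S) (hD : ∀ i, IsAlgSpace (D.obj i))
    (hDa : ∀ (i j : I) (φ : i ⟶ j), IsAffineMor (D.map φ))
    (c : Cone D) (hc : IsLimit c) (hdec : ∀ i, IsDecent (D.obj i))
    (x x' : Points c.pt)
    (h : ∀ i, Points.map (c.π.app i) x = Points.map (c.π.app i) x') : x = x' := by
  obtain ⟨i₀⟩ := IsCofiltered.nonempty (C := I)
  obtain ⟨U₀, hU₀, a₀, ha₀, u₀, hu₀⟩ :=
    exists_affine_etale_chart_through (hD i₀) (Points.map (c.π.app i₀) x)
  haveI := hU₀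
  obtain ⟨CS⟩ := ChartSystem.exists_of_isAffineMor D hDa c hc i₀ a₀
  haveI hm : ∀ (j k : Over i₀) (φ : j ⟶ k), IsAffineHom (CS.F.map φ) :=
    fun j k φ => CS.isAffineHom_map hDa φ
  have hfk : ∀ k, RepWith @Etale (CS.P.f k) := fun k =>
    (RepWith @Etale).of_isPullback (CS.sq' k).flip ha₀
  have hEaff : ∀ k, IsAffine (CS.P.E.obj k).left := fun k => by
    haveI := CS.isAffineHom_q hDa k
    exact isAffine_of_isAffineHom (CS.P.q k).left
  -- lifts of the two points
  obtain ⟨u, -, hux⟩ := exists_point_of_isPullback CS.sq x u₀ hu₀.symm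
  obtain ⟨u', -, hux'⟩ := exists_point_of_isPullback CS.sq x' u₀ ((h i₀).symm.trans hu₀.symm)
  -- the kernel pair of the chart
  obtain ⟨R₀, t₀, fst₀, kp₀⟩ := ha₀.1 a₀
  obtain ⟨s₀, rfl⟩ := (yon S).map_surjective fst₀
  obtain ⟨CS'⟩ := ChartSystem.exists_of_isAffineMor D hDa c hc i₀ ((yon S).map s₀ ≫ a₀)
  haveI hm' : ∀ (j k : Over i₀) (φ : j ⟶ k), IsAffineHom (CS'.F.map φ) :=
    fun j k φ => CS'.isAffineHom_map hDa φ
  obtain ⟨ms, ms', hms1, hms2, hms3, hms4, hms5⟩ := chartSystem_exists_map CS CS' hc s₀ rfl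
  obtain ⟨mt, mt', hmt1, hmt2, hmt3, hmt4, hmt5⟩ := chartSystem_exists_map CS CS' hc t₀ kp₀.w
  have hkp : ∀ k, IsPullback ((yon S).map (ms k)) ((yon S).map (mt k)) (CS.P.f k) (CS.P.f k) :=
    fun k => chartSystem_isPullback_kernelPair CS CS' kp₀ rfl k (hms1 k) (hms2 k) (hmt1 k) (hmt2 k)
  -- images of a point of the limit chart
  have himg : ∀ (k : Over i₀) (v : ↥CS.cE.pt.left),
      Points.ofPt (CS.P.f k) ((CS.cE.π.app k).left v) =
        Points.map (c.π.app k.left) (Points.ofPt CS.fst v) := fun k v => by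
    have h1 : Points.map (c.π.app k.left) (Points.ofPt CS.fst v) =
        Points.ofPt (CS.fst ≫ c.π.app k.left) v := Points.map_ofPt _ _ _
    have h2 : Points.ofPt (CS.fst ≫ c.π.app k.left) v =
        Points.ofPt ((yon S).map (CS.cE.π.app k) ≫ CS.P.f k) v :=
      congrArg (fun g => Points.ofPt g v) (CS.fst_π k)
    have h3 : Points.ofPt ((yon S).map (CS.cE.π.app k) ≫ CS.P.f k) v =
        Points.ofPt (CS.P.f k) ((CS.cE.π.app k).left v) := ofPt_yon_map_comp _ _ _
    exact (h1.trans (h2.trans h3)).symm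
  have hπ : ∀ {j k : Over i₀} (φ : j ⟶ k) (v : ↥CS.cE.pt.left),
      (CS.P.E.map φ).left ((CS.cE.π.app j).left v) = (CS.cE.π.app k).left v := fun {j k} φ v => by
    have := CS.cE.w φ
    rw [← this]; rfl
  let Ts : Over i₀ ⥤ Type u :=
    { obj := fun k => {r : ↥(CS'.P.E.obj k).left // (ms k).left r = (CS.cE.π.app k).left u ∧
        (mt k).left r = (CS.cE.π.app k).left u'}
      map := fun {j k} φ => TypeCat.ofHom (fun r => ⟨(CS'.P.E.map φ).left r.1, by
        constructor
        · have e1 : (ms k).left ((CS'.P.E.map φ).left r.1) =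
              (CS.P.E.map φ).left ((ms j).left r.1) := by
            change (CS'.P.E.map φ ≫ ms k).left r.1 = (ms j ≫ CS.P.E.map φ).left r.1
            rw [hms3 φ]
          rw [e1, r.2.1, hπ φ]
        · have e1 : (mt k).left ((CS'.P.E.map φ).left r.1) =
              (CS.P.E.map φ).left ((mt j).left r.1) := by
            change (CS'.P.E.map φ ≫ mt k).left r.1 = (mt j ≫ CS.P.E.map φ).left r.1
            rw [hmt3 φ]
          rw [e1, r.2.2, hπ φ]⟩)
      map_id := fun k => by
        ext r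
        change (CS'.P.E.map (𝟙 k)).left r.1 = r.1
        rw [CS'.P.E.map_id]; rfl
      map_comp := fun {j k l} φ ψ => by
        ext r
        change (CS'.P.E.map (φ ≫ ψ)).left r.1 = (CS'.P.E.map ψ).left ((CS'.P.E.map φ).left r.1)
        rw [CS'.P.E.map_comp]; rfl }
  haveI hne : ∀ k, Nonempty (Ts.obj k) := fun k => by
    have he : Points.ofPt (CS.P.f k) ((CS.cE.π.app k).left u) =
        Points.ofPt (CS.P.f k) ((CS.cE.π.app k).left u') := by
      rw [himg k u, himg k u', hux, hux']; exact h k.left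
    obtain ⟨r, hr1, hr2⟩ := (ofPt_eq_ofPt_iff (hkp k) _ _).1 he
    exact ⟨⟨r, hr1, hr2⟩⟩
  haveI hfin : ∀ k, Finite (Ts.obj k) := fun k => by
    haveI := hEaff k
    obtain ⟨K, _, str, ξ, hξ, -, hq⟩ :=
      isDecent_iff.1 (hdec k.left) (Points.map (c.π.app k.left) x)
    have hf := finite_fibre_kernelPair_of_quasiCompact_point str ξ hq (hfk k) (hkp k)
    have hsub : {r : ↥(CS'.P.E.obj k).left | (ms k).left r = (CS.cE.π.app k).left u ∧
        (mt k).left r = (CS.cE.π.app k).left u'} ⊆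
        Points.ofPt ((yon S).map (ms k) ≫ CS.P.f k) ⁻¹' {Points.mk (fpOfHom str ξ)} := by
      rintro r ⟨hr1, -⟩
      change Points.ofPt ((yon S).map (ms k) ≫ CS.P.f k) r = _
      rw [ofPt_yon_map_comp, hr1, himg k u, hux, hξ]
    exact (hf.subset hsub).to_subtype
  obtain ⟨z, hz⟩ := nonempty_sections_of_finite_cofiltered_system Ts
  obtain ⟨r, hr⟩ := exists_point_of_compatible CS'.F CS'.cF CS'.hcF (fun k => (z k).1)
    (fun j k φ => congrArg Subtype.val (hz φ))
  have hsr : ms'.left r = u := by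
    apply ext_of_π_app_eq CS.F CS.cF CS.hcF
    intro k
    change (ms' ≫ CS.cE.π.app k).left r = (CS.cE.π.app k).left u
    rw [hms4 k]
    change (ms k).left ((CS'.cE.π.app k).left r) = _
    have : (CS'.cE.π.app k).left r = (z k).1 := hr k
    rw [this]; exact (z k).2.1
  have htr : mt'.left r = u' := by
    apply ext_of_π_app_eq CS.F CS.cF CS.hcF
    intro k
    change (mt' ≫ CS.cE.π.app k).left r = (CS.cE.π.app k).left u'
    rw [hmt4 k]
    change (mt k).left ((CS'.cE.π.app k).left r) = _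
    have : (CS'.cE.π.app k).left r = (z k).1 := hr k
    rw [this]; exact (z k).2.2
  rw [← hux, ← hux', ← hsr, ← htr, ← ofPt_yon_map_comp, ← ofPt_yon_map_comp, hms5, hmt5]

/-- S10057: `|lim X_i| = lim |X_i|` as sets for decent spaces. -/
theorem points_limit_bijective (D : I ⥤ Sp S) (hD : ∀ i, IsAlgSpace (D.obj i))
    (hDa : ∀ (i j : I) (φ : i ⟶ j), IsAffineMor (D.map φ))
    (c : Cone D) (hc : IsLimit c) (hdec : ∀ i, IsDecent (D.obj i)) :
    (∀ x x' : Points c.pt, (∀ i, Points.map (c.π.app i) x = Points.map (c.π.app i) x') → x = x') ∧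
    (∀ s : ∀ i, Points (D.obj i), (∀ (i j : I) (φ : i ⟶ j), Points.map (D.map φ) (s i) = s j) →
      ∃ x : Points c.pt, ∀ i, Points.map (c.π.app i) x = s i) :=
  ⟨fun x x' h => points_ext_of_map_eq D hD hDa c hc hdec x x' h,
    fun s hs => exists_point_of_compatible_sp D hD hDa c hc hdec s hs⟩

end Groth.Agent.H7.LimAff
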