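import Groth.Agent.Lib.Helper7.LimAffM
import Groth.Agent.Lib.Helper5.AlgSp.RedInduced
import Groth.Agent.Lib.Helper5.AlgSp.InterClosed
import Groth.Agent.Lib.Helper5.AlgSp.Limits.ClosedImmLim
import Groth.Agent.Lib.Helper5.AlgSp.Limits.Reduced
import Mathlib
set_option autoImplicit false
universe u
open CategoryTheory CategoryTheory.Limits AlgebraicGeometry Topology

namespace Groth.Agent.H7.LimAff
open _root_.AlgSp Groth.Agent.H5.AlgSp Groth.Agent.H5.Lim Groth.Agent.H5.AlgSp.Lim
  Groth.Agent.H5.EtSrc Groth.Agent.H5.Descent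

variable {S : Scheme.{u}}

/-- Cancellation: if `f ≫ g` is affine and `g` is a monomorphism, then `f` is affine. -/
lemma isAffineMor_of_comp_mono {F G H : Sp S} (f : F ⟶ G) (g : G ⟶ H) [Mono g]
    (h : IsAffineMor (f ≫ g)) : IsAffineMor f := by
  have sq : IsPullback (𝟙 F) f (f ≫ g) g :=
    IsPullback.of_isLimit (PullbackCone.IsLimit.mk (by simp)
      (fun s => s.fst) (fun s => by simp)
      (fun s => by
        rw [← cancel_mono g, Category.assoc]
        exact s.condition)
      (fun s m hm _ => by simpa using hm))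
  exact isAffineMor_of_isPullback sq h

variable {I : Type u} [SmallCategory I] [IsCofiltered I]

/-- The closure of a point of the limit is the limit of the closures. -/
theorem closure_singleton_limit (D : I ⥤ Sp S) (hD : ∀ i, IsAlgSpace (D.obj i))
    (hDa : ∀ (i j : I) (φ : i ⟶ j), IsAffineMor (D.map φ))
    (c : Cone D) (hc : IsLimit c) (x : Points c.pt) :
    closure {x} = {x' | ∀ i, Points.map (c.π.app i) x' ∈ closure {Points.map (c.π.app i) x}} := by
  apply Set.Subset.antisymm
  · intro x' hx' i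
    have h1 := image_closure_subset_closure_image (Points.continuous_map (c.π.app i))
      (s := {x}) ⟨x', hx', rfl⟩
    rwa [Set.image_singleton] at h1
  · intro x' hx'
    rw [mem_closure_iff]
    intro V hV hxV
    obtain ⟨i, W, hW, hxW, hWV⟩ := exists_stage_open_nhd D hD hDa c hc V hV x' hxV
    obtain ⟨y, hyW, hy⟩ := mem_closure_iff.1 (hx' i) W hW hxW
    rw [Set.mem_singleton_iff] at hy
    subst hy
    exact ⟨x, hWV hyW, rfl⟩

/-- The reduced induced closed subspace on the closure of a point of the limit is the limit of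
the reduced induced closed subspaces of the stages. -/
theorem isLimit_redInduced (D : I ⥤ Sp S) (hD : ∀ i, IsAlgSpace (D.obj i))
    (hDa : ∀ (i j : I) (φ : i ⟶ j), IsAffineMor (D.map φ))
    (c : Cone D) (hc : IsLimit c) (x : Points c.pt)
    (Z : Sp S) (zι : Z ⟶ c.pt) (hZ : IsRedInduced (closure {x}) zι)
    (DZ : I ⥤ Sp S) (hDZ : ∀ i, IsAlgSpace (DZ.obj i)) (ι : DZ ⟶ D)
    (hι : ∀ i, IsRedInduced (closure {Points.map (c.π.app i) x}) (ι.app i))
    (ξ : (Functor.const I).obj Z ⟶ DZ) (hξ : ∀ i, ξ.app i ≫ ι.app i = zι ≫ c.π.app i) :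
    Nonempty (IsLimit (Cone.mk Z ξ)) := by
  have hιm : ∀ i, Mono (ι.app i) := fun i => mono_of_repWith_isClosedImmersion (hι i).1
  have hDZa : ∀ (i j : I) (φ : i ⟶ j), IsAffineMor (DZ.map φ) := fun i j φ => by
    haveI := hιm j
    apply isAffineMor_of_comp_mono (DZ.map φ) (ι.app j)
    rw [ι.naturality φ]
    exact isAffineMor_comp (isAffineMor_of_repWith
      (repWith_mono Groth.Agent.H5.AlgSp.isClosedImmersion_le_isAffineHom (hι i).1)) (hDa i j φ)
  let cW : Cone DZ := limit.cone DZ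
  have hcW : IsLimit cW := limit.isLimit DZ
  let w : cW.pt ⟶ c.pt := hc.lift ⟨cW.pt, cW.π ≫ ι⟩
  have hw : ∀ i, w ≫ c.π.app i = cW.π.app i ≫ ι.app i := fun i => hc.fac _ i
  have hwc : RepWith @IsClosedImmersion w :=
    closedImmersion_limMap DZ D ι (fun i => (hι i).1) cW hcW c hc w hw
  have hWred : IsReducedSp cW.pt :=
    isReducedSp_limit DZ hDZ hDZa cW hcW (fun i => (hι i).2.2)
  let k : Z ⟶ cW.pt := hcW.lift ⟨Z, ξ⟩
  have hk : ∀ i, k ≫ cW.π.app i = ξ.app i := fun i => hcW.fac _ i
  have hkw : k ≫ w = zι := by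
    apply hc.hom_ext; intro i
    rw [Category.assoc, hw, ← Category.assoc, hk, hξ]
  have hrange : Set.range (Points.map w) ⊆ Set.range (Points.map zι) := by
    rw [hZ.2.1, closure_singleton_limit D hD hDa c hc x]
    rintro _ ⟨y, rfl⟩ i
    rw [← Points.map_comp, hw, Points.map_comp, ← (hι i).2.1]
    exact ⟨_, rfl⟩
  obtain ⟨g, hg⟩ := exists_lift_closed_of_isReducedSp zι hZ.1 hWred w hrange
  haveI : Mono w := mono_of_repWith_isClosedImmersion hwc
  haveI : Mono zι := mono_of_repWith_isClosedImmersion hZ.1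
  have h1 : k ≫ g = 𝟙 Z := by
    rw [← cancel_mono zι, Category.assoc, hg, hkw, Category.id_comp]
  have h2 : g ≫ k = 𝟙 cW.pt := by
    rw [← cancel_mono w, Category.assoc, hkw, hg, Category.id_comp]
  let e : Z ≅ cW.pt := ⟨k, g, h1, h2⟩
  exact ⟨IsLimit.ofIsoLimit hcW (Cone.ext e (fun i => (hk i).symm)).symm⟩

end Groth.Agent.H7.LimAff
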