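import Mathlib
open CategoryTheory CategoryTheory.Limits Opposite
universe u₁ v₁ u₂ v₂ w
namespace Groth.Agent.H7.LimEq

variable {I : Type u₁} [Category.{v₁} I] {C : Type u₂} [Category.{v₂} C] {A : Type w} (i : A → I)
    [∀ α β, HasBinaryProduct (i α) (i β)]
    (hcov : ∀ j : I, ∃ α, Nonempty (j ⟶ i α))
    (F : Iᵒᵖ ⥤ C)
    [HasProduct (fun α => F.obj (op (i α)))]
    [HasProduct (fun p : A × A => F.obj (op (i p.1 ⨯ i p.2)))]

/-- the two maps -/
noncomputable abbrev uu : (∏ᶜ (fun α => F.obj (op (i α)))) ⟶ ∏ᶜ (fun p : A × A => F.obj (op (i p.1 ⨯ i p.2))) :=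
  Pi.lift (fun p : A × A =>
    Pi.π (fun α => F.obj (op (i α))) p.1 ≫ F.map (prod.fst : i p.1 ⨯ i p.2 ⟶ i p.1).op)

noncomputable abbrev vv : (∏ᶜ (fun α => F.obj (op (i α)))) ⟶ ∏ᶜ (fun p : A × A => F.obj (op (i p.1 ⨯ i p.2))) :=
  Pi.lift (fun p : A × A =>
    Pi.π (fun α => F.obj (op (i α))) p.2 ≫ F.map (prod.snd : i p.1 ⨯ i p.2 ⟶ i p.2).op)

variable {i F}

lemma leg_indep {T : C} (t : T ⟶ ∏ᶜ (fun α => F.obj (op (i α)))) (ht : t ≫ uu i F = t ≫ vv i F)
    {j : I} {α β : A} (a : j ⟶ i α) (b : j ⟶ i β) :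
    t ≫ Pi.π _ α ≫ F.map a.op = t ≫ Pi.π _ β ≫ F.map b.op := by
  have h1 := congrArg (fun k => k ≫ Pi.π (fun p : A × A => F.obj (op (i p.1 ⨯ i p.2))) (α, β) ≫
    F.map (prod.lift a b).op) ht
  simp only [Category.assoc, Pi.lift_π_assoc] at h1
  rw [← F.map_comp, ← F.map_comp, ← op_comp, ← op_comp, prod.lift_fst, prod.lift_snd] at h1
  exact h1

/-- the cone attached to an equalizing map -/
@[reducible] noncomputable def coneOf {T : C} (t : T ⟶ ∏ᶜ (fun α => F.obj (op (i α))))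
    (ht : t ≫ uu i F = t ≫ vv i F) : Cone F where
  pt := T
  π :=
    { app := fun j => t ≫ Pi.π _ (hcov j.unop).choose ≫ F.map ((hcov j.unop).choose_spec.some).op
      naturality := by
        intro j j' g
        simp only [Functor.const_obj_obj, Functor.const_obj_map, Category.id_comp, Category.assoc]
        rw [← F.map_comp]
        have : ((hcov j.unop).choose_spec.some).op ≫ g =
            (g.unop ≫ (hcov j.unop).choose_spec.some).op := by
          rw [op_comp, Quiver.Hom.op_unop]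
        rw [this]
        exact leg_indep t ht _ _ }

lemma coneOf_π {T : C} (t : T ⟶ ∏ᶜ (fun α => F.obj (op (i α))))
    (ht : t ≫ uu i F = t ≫ vv i F) {j : I} {α : A} (a : j ⟶ i α) :
    (coneOf hcov t ht).π.app (op j) = t ≫ Pi.π _ α ≫ F.map a.op :=
  leg_indep t ht _ _

lemma cone_equalizes (s : Cone F) :
    Pi.lift (fun α => s.π.app (op (i α))) ≫ uu i F = Pi.lift (fun α => s.π.app (op (i α))) ≫ vv i F := by
  apply Pi.hom_ext
  intro p
  simp only [Category.assoc, Pi.lift_π, Pi.lift_π_assoc]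
  rw [s.w, s.w]

include hcov in
theorem main [HasEqualizers C] :
    HasLimit F ∧ ∀ [HasLimit F],
      Mono (Pi.lift (fun α => limit.π F (op (i α)))) ∧
      ∀ (T : C) (t : T ⟶ ∏ᶜ (fun α => F.obj (op (i α)))),
        (∃ s : T ⟶ limit F, s ≫ Pi.lift (fun α => limit.π F (op (i α))) = t) ↔
        t ≫ Pi.lift (fun p : A × A =>
            Pi.π (fun α => F.obj (op (i α))) p.1 ≫ F.map (prod.fst : i p.1 ⨯ i p.2 ⟶ i p.1).op) =
        t ≫ Pi.lift (fun p : A × A =>
            Pi.π (fun α => F.obj (op (i α))) p.2 ≫ F.map (prod.snd : i p.1 ⨯ i p.2 ⟶ i p.2).op) := by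
  have hmono : ∀ [HasLimit F], Mono (Pi.lift (fun α => limit.π F (op (i α)))) := by
    intro _
    refine ⟨fun {T} x y hxy => ?_⟩
    apply limit.hom_ext
    rintro ⟨j⟩
    obtain ⟨α, ⟨a⟩⟩ := hcov j
    have h1 := congrArg (fun k => k ≫ Pi.π _ α ≫ F.map a.op) hxy
    simp only [Category.assoc, Pi.lift_π_assoc, limit.w] at h1
    exact h1
  refine ⟨?_, ?_⟩
  · -- the limit
    let ι := equalizer.ι (uu i F) (vv i F)
    have hι : ι ≫ uu i F = ι ≫ vv i F := equalizer.condition _ _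
    refine ⟨⟨coneOf hcov ι hι, ?_⟩⟩
    refine
      { lift := fun s => equalizer.lift (Pi.lift (fun α => s.π.app (op (i α)))) (cone_equalizes s)
        fac := ?_
        uniq := ?_ }
    · rintro s ⟨j⟩
      obtain ⟨α, ⟨a⟩⟩ := hcov j
      rw [coneOf_π hcov ι hι a, equalizer.lift_ι_assoc, Pi.lift_π_assoc, s.w]
    · intro s m hm
      apply equalizer.hom_ext
      rw [equalizer.lift_ι]
      apply Pi.hom_ext
      intro α
      rw [Pi.lift_π, ← hm (op (i α)), coneOf_π hcov ι hι (𝟙 (i α)), op_id, F.map_id,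
        Category.comp_id, Category.assoc]
  · intro _
    refine ⟨hmono, fun T t => ⟨?_, fun ht => ?_⟩⟩
    · rintro ⟨s, rfl⟩
      have := cone_equalizes (i := i) (limit.cone F)
      simp only [limit.cone_x, limit.cone_π] at this
      rw [Category.assoc, Category.assoc]
      exact congrArg (fun k => s ≫ k) this
    · refine ⟨limit.lift F (coneOf hcov t ht), ?_⟩
      apply Pi.hom_ext
      intro α
      rw [Category.assoc, Pi.lift_π, limit.lift_π, coneOf_π hcov t ht (𝟙 (i α)), op_id, F.map_id,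
        Category.comp_id]

end Groth.Agent.H7.LimEq
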