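import Mathlib
import Groth.Prelude.Def_EtShriek2
import Groth.Agent.Lib.Helper7.EZD

/-!
# Helper7: SHH — extension by zero of sections from an open and closed part
-/

set_option autoImplicit false

universe u

open CategoryTheory CategoryTheory.Limits Opposite AlgebraicGeometry MorphismProperty

namespace Groth.Agent.H7.SH

open Groth.Agent.H7.EZ

section Clopen

variable {X : Scheme.{u}}

/-- an open of an object of the small étale site, as an object -/
noncomputable def openObj (P : X.Etale) (C : P.left.Opens) : X.Etale :=
  Scheme.Etale.mk (C.ι ≫ P.hom)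

/-- the inclusion of an open of an object -/
noncomputable def openHom (P : X.Etale) (C : P.left.Opens) : openObj P C ⟶ P :=
  MorphismProperty.Over.homMk C.ι rfl

lemma openHom_left (P : X.Etale) (C : P.left.Opens) : (openHom P C).left = C.ι := rfl

lemma range_subset_of_forall_mem {P T : X.Etale} (C : P.left.Opens) (b : T ⟶ P)
    (hb : ∀ x : T.left, b.left x ∈ C) : Set.range b.left ⊆ Set.range C.ι := by
  rintro _ ⟨x, rfl⟩
  exact (Set.ext_iff.mp (Scheme.Opens.range_ι C) _).mpr (hb x)

set_option backward.isDefEq.respectTransparency false in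
/-- lift of a morphism whose image lies in `C` -/
noncomputable def openLift {P T : X.Etale} (C : P.left.Opens) (b : T ⟶ P)
    (hb : ∀ x : T.left, b.left x ∈ C) : T ⟶ openObj P C :=
  MorphismProperty.Over.homMk (IsOpenImmersion.lift C.ι b.left (range_subset_of_forall_mem C b hb))
    (by
      change IsOpenImmersion.lift C.ι b.left _ ≫ C.ι ≫ P.hom = T.hom
      rw [← Category.assoc, IsOpenImmersion.lift_fac]
      exact MorphismProperty.Over.w b)

set_option backward.isDefEq.respectTransparency false in
lemma openLift_comp {P T : X.Etale} (C : P.left.Opens) (b : T ⟶ P)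
    (hb : ∀ x : T.left, b.left x ∈ C) : openLift C b hb ≫ openHom P C = b :=
  MorphismProperty.Over.Hom.ext (IsOpenImmersion.lift_fac _ _ _)

set_option backward.isDefEq.respectTransparency false in
lemma hom_ext_openObj {P T : X.Etale} (C : P.left.Opens) (a b : T ⟶ openObj P C)
    (h : a ≫ openHom P C = b ≫ openHom P C) : a = b := by
  apply MorphismProperty.Over.Hom.ext
  have h1 : a.left ≫ C.ι = b.left ≫ C.ι := congrArg (fun k => k.left) h
  exact (cancel_mono C.ι).1 h1

lemma openHom_mem (P : X.Etale) (C : P.left.Opens) (x : (openObj P C).left) :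
    (openHom P C).left x ∈ C := by
  have : C.ι x ∈ Set.range C.ι := ⟨x, rfl⟩
  rw [Scheme.Opens.range_ι] at this
  exact this

set_option backward.isDefEq.respectTransparency false in
/-- the sieve of morphisms landing in `C` or in its complement -/
def clopenSieve (P : X.Etale) (C : P.left.Opens) : Sieve P where
  arrows T b := (∀ x : T.left, b.left x ∈ C) ∨ (∀ x : T.left, b.left x ∉ C)
  downward_closed := by
    rintro T T' b (h | h) g
    · left
      intro x
      exact h (g.left x)
    · right
      intro x
      exact h (g.left x)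

set_option backward.isDefEq.respectTransparency false in
lemma clopenSieve_mem (P : X.Etale) (C : P.left.Opens) (hC : IsClosed (C : Set P.left)) :
    clopenSieve P C ∈ X.smallEtaleTopology P := by
  refine sieve_mem_of_jointly_surjective _ (fun x => ?_)
  by_cases hx : x ∈ C
  · exact ⟨openObj P C, openHom P C, ⟨x, hx⟩, Or.inl (openHom_mem P C), rfl⟩
  · let C' : P.left.Opens := ⟨(C : Set P.left)ᶜ, hC.isOpen_compl⟩
    exact ⟨openObj P C', openHom P C', ⟨x, hx⟩, Or.inr (fun y => openHom_mem P C' y), rfl⟩

variable (F : EtCoh.Ab X)

open Classical in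
/-- the family: restriction of `t` on `C`, zero off `C` -/
noncomputable def clopenFam (P : X.Etale) (C : P.left.Opens) (t : F.obj.obj (op (openObj P C))) :
    Presieve.FamilyOfElements (F.obj ⋙ forget AddCommGrpCat) (clopenSieve P C).arrows :=
  fun T b _ => if h : ∀ x : T.left, b.left x ∈ C then F.obj.map (openLift C b h).op t else 0

set_option backward.isDefEq.respectTransparency false in
lemma clopenFam_compatible (P : X.Etale) (C : P.left.Opens)
    (t : F.obj.obj (op (openObj P C))) : (clopenFam F P C t).Compatible := by
  intro T₁ T₂ W g₁ g₂ b₁ b₂ h₁ h₂ e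
  change F.obj.map g₁.op (clopenFam F P C t b₁ h₁) = F.obj.map g₂.op (clopenFam F P C t b₂ h₂)
  by_cases hW : IsEmpty W.left
  · haveI := hW
    haveI := sections_subsingleton_of_isEmpty F W
    exact Subsingleton.elim _ _
  · rw [not_isEmpty_iff] at hW
    obtain ⟨w⟩ := hW
    have key : b₁.left (g₁.left w) = b₂.left (g₂.left w) := by
      have := congrArg (fun k : W ⟶ P => k.left w) e
      exact this
    unfold clopenFam
    by_cases hb₁ : ∀ x : T₁.left, b₁.left x ∈ C
    · have hb₂ : ∀ x : T₂.left, b₂.left x ∈ C := by
        rcases h₂ with h | h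
        · exact h
        · exact absurd (key ▸ hb₁ (g₁.left w)) (h (g₂.left w))
      have e' : g₁ ≫ openLift C b₁ hb₁ = g₂ ≫ openLift C b₂ hb₂ := by
        apply hom_ext_openObj
        rw [Category.assoc, Category.assoc, openLift_comp, openLift_comp, e]
      rw [dif_pos hb₁, dif_pos hb₂, map_map_apply, map_map_apply, e']
    · have hb₂ : ¬ ∀ x : T₂.left, b₂.left x ∈ C := by
        intro h
        rcases h₁ with h' | h'
        · exact hb₁ h'
        · exact h' (g₁.left w) (key ▸ h (g₂.left w))
      rw [dif_neg hb₁, dif_neg hb₂, map_zero, map_zero]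

/-- extension by zero from an open and closed part -/
noncomputable def extClopen (P : X.Etale) (C : P.left.Opens) (hC : IsClosed (C : Set P.left))
    (t : F.obj.obj (op (openObj P C))) : F.obj.obj (op P) :=
  ((isSheaf_type F) (clopenSieve P C) (clopenSieve_mem P C hC)).amalgamate (clopenFam F P C t)
    (clopenFam_compatible F P C t)

lemma extClopen_spec (P : X.Etale) (C : P.left.Opens) (hC : IsClosed (C : Set P.left))
    (t : F.obj.obj (op (openObj P C))) {T : X.Etale} (b : T ⟶ P)
    (hb : (clopenSieve P C).arrows b) :
    F.obj.map b.op (extClopen F P C hC t) = clopenFam F P C t b hb :=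
  Presieve.IsSheafFor.valid_glue _ (clopenFam_compatible F P C t) b hb

set_option backward.isDefEq.respectTransparency false in
lemma extClopen_res (P : X.Etale) (C : P.left.Opens) (hC : IsClosed (C : Set P.left))
    (t : F.obj.obj (op (openObj P C))) :
    F.obj.map (openHom P C).op (extClopen F P C hC t) = t := by
  rw [extClopen_spec F P C hC t (openHom P C) (Or.inl (openHom_mem P C))]
  unfold clopenFam
  rw [dif_pos (openHom_mem P C)]
  have : openLift C (openHom P C) (openHom_mem P C) = 𝟙 _ := by
    apply hom_ext_openObj
    rw [openLift_comp, Category.id_comp]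
  rw [this]
  simp

set_option backward.isDefEq.respectTransparency false in
lemma suppIn_extClopen (P : X.Etale) (C : P.left.Opens) (hC : IsClosed (C : Set P.left))
    (t : F.obj.obj (op (openObj P C))) : SuppIn F (extClopen F P C hC t) (C : Set P.left) := by
  intro T b hb
  rw [extClopen_spec F P C hC t b (Or.inr hb)]
  unfold clopenFam
  by_cases h : ∀ x : T.left, b.left x ∈ C
  · haveI : IsEmpty T.left := ⟨fun x => hb x (h x)⟩
    haveI := sections_subsingleton_of_isEmpty F T
    exact Subsingleton.elim _ _
  · rw [dif_neg h]

set_option backward.isDefEq.respectTransparency false in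
/-- sections supported in `C` are determined by their restriction to `C` -/
lemma eq_of_suppIn_of_res_eq (P : X.Etale) (C : P.left.Opens) (hC : IsClosed (C : Set P.left))
    (s s' : F.obj.obj (op P)) (hs : SuppIn F s (C : Set P.left))
    (hs' : SuppIn F s' (C : Set P.left))
    (h : F.obj.map (openHom P C).op s = F.obj.map (openHom P C).op s') : s = s' := by
  rw [← sub_eq_zero]
  refine eq_zero_of_locally_zero F _ (fun x => ?_)
  by_cases hx : x ∈ C
  · refine ⟨openObj P C, openHom P C, ⟨x, hx⟩, rfl, ?_⟩
    rw [map_sub, h, sub_self]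
  · let C' : P.left.Opens := ⟨(C : Set P.left)ᶜ, hC.isOpen_compl⟩
    refine ⟨openObj P C', openHom P C', ⟨x, hx⟩, rfl, ?_⟩
    rw [map_sub, hs _ (openHom P C') (fun y => openHom_mem P C' y),
      hs' _ (openHom P C') (fun y => openHom_mem P C' y), sub_self]

end Clopen

end Groth.Agent.H7.SH
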