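import Mathlib
import Groth.Agent.Lib.Helper7.SHH
import Groth.Agent.Lib.Helper7.ES12
import Groth.Agent.Lib.Helper7.FiltSec3

/-!
# Helper7: LocH1 — morphisms of abelian étale sheaves which are bijective on affine objects are
isomorphisms; the translation category of a submonoid of `ℤ`.
-/

set_option autoImplicit false

universe u

open CategoryTheory CategoryTheory.Limits Opposite AlgebraicGeometry

namespace Groth.Agent.H7.LocH

variable {X : Scheme.{u}}

/-- every point of an object of the small étale site has an affine open neighbourhood, as an object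
of the site. -/
lemma exists_affine_nbhd (V : X.Etale) (x : V.left) :
    ∃ (W : X.Etale) (p : W ⟶ V) (y : W.left), IsAffine W.left ∧ p.left y = x := by
  obtain ⟨C, hC, hxC, -⟩ := exists_isAffineOpen_mem_and_subset (x := x)
    (U := (⊤ : V.left.Opens)) trivial
  refine ⟨SH.openObj V C, SH.openHom V C, (⟨x, hxC⟩ : ↥C), hC, rfl⟩

/-- a sieve containing all morphisms from affine objects is covering. -/
lemma sieve_mem_of_affine {V : X.Etale} (T : Sieve V)
    (h : ∀ (W : X.Etale) (p : W ⟶ V), IsAffine W.left → T p) :
    T ∈ X.smallEtaleTopology V := by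
  refine ES.sieve_mem_of_jointly_surjective _ (fun x => ?_)
  obtain ⟨W, p, y, hW, hy⟩ := exists_affine_nbhd V x
  exact ⟨W, p, y, h W p hW, hy⟩

theorem isIso_of_bijective_on_affines {P Q : EtCoh.Ab X} (α : P ⟶ Q)
    (h : ∀ U : X.Etale, IsAffine U.left → Function.Bijective (α.hom.app (op U))) : IsIso α := by
  haveI : Sheaf.IsLocallyInjective α := by
    refine ⟨fun {V} x y hxy => ?_⟩
    apply sieve_mem_of_affine
    intro W p hW
    apply (h W hW).1
    have n1 := ConcreteCategory.congr_hom (α.hom.naturality p.op) x
    have n2 := ConcreteCategory.congr_hom (α.hom.naturality p.op) y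
    rw [ConcreteCategory.comp_apply, ConcreteCategory.comp_apply] at n1 n2
    exact n1.trans ((congrArg _ hxy).trans n2.symm)
  haveI : Sheaf.IsLocallySurjective α := by
    refine ⟨fun {V} s => ?_⟩
    apply sieve_mem_of_affine
    intro W p hW
    exact (h W hW).2 _
  haveI : Mono α := Sheaf.mono_of_isLocallyInjective α
  haveI : Epi α := (Sheaf.isLocallySurjective_iff_epi' (φ := α)).mp inferInstance
  exact isIso_of_mono_of_epi α

end Groth.Agent.H7.LocH
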