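import Mathlib
import Groth.Agent.Lib.Helper7.LocH1
import Groth.Agent.Lib.Helper7.FiltSec5
import Groth.Agent.Lib.Helper2.EtSmallC

/-!
# Helper7: LocH2 — étale cohomology of a qcqs scheme commutes with localization of `ℤ` (S19975).
-/

set_option autoImplicit false

universe u

open CategoryTheory CategoryTheory.Limits Opposite AlgebraicGeometry

namespace Groth.Agent.H7.LocH

/-- objects of the translation category of a submonoid of `ℤ`. -/
structure Tr (S : Submonoid ℤ) : Type (u + 1) where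
  val : S

namespace Tr

variable {S : Submonoid ℤ}

instance : Category.{u + 1} (Tr.{u} S) where
  Hom a b := ULift.{u + 1} {k : S // a.val * k = b.val}
  id a := ⟨⟨1, mul_one _⟩⟩
  comp f g := ⟨⟨f.down.1 * g.down.1, by rw [← mul_assoc, f.down.2, g.down.2]⟩⟩
  id_comp f := by
    apply ULift.ext
    apply Subtype.ext
    exact one_mul _
  comp_id f := by
    apply ULift.ext
    apply Subtype.ext
    exact mul_one _
  assoc f g h := by
    apply ULift.ext
    apply Subtype.ext
    exact mul_assoc _ _ _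

/-- the factor of a morphism. -/
def fac {a b : Tr.{u} S} (f : a ⟶ b) : S := f.down.1

lemma fac_spec {a b : Tr.{u} S} (f : a ⟶ b) : a.val * fac f = b.val := f.down.2

lemma fac_id (a : Tr.{u} S) : fac (𝟙 a) = 1 := rfl

lemma fac_comp {a b c : Tr.{u} S} (f : a ⟶ b) (g : b ⟶ c) : fac (f ≫ g) = fac f * fac g := rfl

/-- the morphism with a given factor. -/
def homMk (a : Tr.{u} S) (k : S) : a ⟶ (⟨a.val * k⟩ : Tr.{u} S) := ⟨⟨k, rfl⟩⟩

lemma hom_ext {a b : Tr.{u} S} (f g : a ⟶ b) (h : fac f = fac g) : f = g := by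
  apply ULift.ext
  apply Subtype.ext
  exact h

instance : IsFiltered (Tr.{u} S) where
  cocone_objs a b := ⟨⟨a.val * b.val⟩, ⟨⟨b.val, rfl⟩⟩, ⟨⟨a.val, mul_comm _ _⟩⟩, trivial⟩
  cocone_maps {a b} f g := by
    refine ⟨⟨b.val * a.val⟩, ⟨⟨a.val, rfl⟩⟩, ?_⟩
    apply hom_ext
    change fac f * a.val = fac g * a.val
    rw [mul_comm, fac_spec, mul_comm, fac_spec]
  nonempty := ⟨⟨1⟩⟩

end Tr

variable {X : Scheme.{u}} {S : Submonoid ℤ}

/-- the diagram `s ↦ F` with multiplication maps. -/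
noncomputable def D (S : Submonoid ℤ) (F : EtCoh.Ab X) : Tr.{u} S ⥤ EtCoh.Ab X where
  obj _ := F
  map f := ((Tr.fac f : S) : ℤ) • 𝟙 F
  map_id a := by
    rw [Tr.fac_id]
    exact one_zsmul _
  map_comp f g := by
    rw [Tr.fac_comp, Preadditive.zsmul_comp, Category.id_comp, Submonoid.coe_mul, mul_smul]

lemma zsmul_app (G : EtCoh.Ab X) (n : ℤ) (U : X.Etaleᵒᵖ) (x : G.obj.obj U) :
    (n • 𝟙 G : G ⟶ G).hom.app U x = n • x := rfl

section

variable {F G : EtCoh.Ab X} (φ : F ⟶ G)
  (hφ : ∀ U : X.Etale, IsAffine U.left →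
    IsLocalizedModule S (φ.hom.app (op U)).hom.toIntLinearMap)

include hφ in
lemma isIso_zsmul (s : S) : IsIso ((s : ℤ) • 𝟙 G : G ⟶ G) := by
  apply isIso_of_bijective_on_affines
  intro U hU
  have h := (hφ U hU).map_units s
  rw [Module.End.isUnit_iff] at h
  exact h

/-- the inverse of multiplication by `s` on `G`. -/
noncomputable def invS (s : S) : G ⟶ G :=
  haveI := isIso_zsmul φ hφ s
  inv ((s : ℤ) • 𝟙 G : G ⟶ G)

lemma invS_comp (s : S) : invS φ hφ s ≫ ((s : ℤ) • 𝟙 G : G ⟶ G) = 𝟙 G := by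
  haveI := isIso_zsmul φ hφ s
  exact IsIso.inv_hom_id _

lemma comp_invS (s : S) : ((s : ℤ) • 𝟙 G : G ⟶ G) ≫ invS φ hφ s = 𝟙 G := by
  haveI := isIso_zsmul φ hφ s
  exact IsIso.hom_inv_id _

lemma smul_invS_app (s : S) (U : X.Etaleᵒᵖ) (x : G.obj.obj U) :
    (s : ℤ) • ((invS φ hφ s).hom.app U x) = x := by
  have h := congrArg (fun m : G ⟶ G => m.hom.app U x) (invS_comp φ hφ s)
  exact h

lemma invS_smul_app (s : S) (U : X.Etaleᵒᵖ) (x : G.obj.obj U) :
    (invS φ hφ s).hom.app U ((s : ℤ) • x) = x := by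
  have h := congrArg (fun m : G ⟶ G => m.hom.app U x) (comp_invS φ hφ s)
  exact h

/-- the cocone exhibiting `G` as the colimit. -/
noncomputable def cG : Cocone (D S F) where
  pt := G
  ι :=
    { app := fun a => φ ≫ invS φ hφ a.val
      naturality := by
        intro a b f
        haveI := isIso_zsmul φ hφ b.val
        rw [← cancel_mono ((b.val : ℤ) • 𝟙 G : G ⟶ G)]
        change ((((Tr.fac f : S) : ℤ) • 𝟙 F) ≫ φ ≫ invS φ hφ b.val) ≫ _ =
          ((φ ≫ invS φ hφ a.val) ≫ 𝟙 G) ≫ _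
        rw [Category.comp_id, Category.assoc, Category.assoc, Category.assoc, invS_comp,
          Category.comp_id, Preadditive.zsmul_comp, Category.id_comp]
        have hb : ((b.val : ℤ) • 𝟙 G : G ⟶ G) =
            ((a.val : ℤ) • 𝟙 G) ≫ (((Tr.fac f : S) : ℤ) • 𝟙 G) := by
          rw [Preadditive.zsmul_comp, Category.id_comp, ← mul_smul, ← Submonoid.coe_mul,
            Tr.fac_spec]
        rw [hb, ← Category.assoc (invS φ hφ a.val), invS_comp, Category.id_comp,
          Preadditive.comp_zsmul, Category.comp_id] }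

lemma cG_ι_app (a : Tr.{u} S) (U : X.Etaleᵒᵖ) (m : F.obj.obj U) :
    ((cG φ hφ).ι.app a).hom.app U m = (invS φ hφ a.val).hom.app U (φ.hom.app U m) := rfl

lemma D_map_app (F : EtCoh.Ab X) {a b : Tr.{u} S} (f : a ⟶ b) (U : X.Etaleᵒᵖ) (m : F.obj.obj U) :
    ((D S F).map f).hom.app U m = ((Tr.fac f : S) : ℤ) • m := rfl

set_option maxHeartbeats 400000 in
/-- the comparison from the colimit is an isomorphism. -/
lemma isIso_desc : IsIso (colimit.desc (D S F) (cG φ hφ)) := by
  apply isIso_of_bijective_on_affines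
  intro U hU
  haveI : CompactSpace U.left := inferInstance
  haveI : QuasiSeparatedSpace U.left := inferInstance
  have hloc := hφ U hU
  let c := colimit.desc (D S F) (cG φ hφ)
  have hc : ∀ (a : Tr.{u} S) (m : F.obj.obj (op U)),
      c.hom.app (op U) ((colimit.ι (D S F) a).hom.app (op U) m) =
        (invS φ hφ a.val).hom.app (op U) (φ.hom.app (op U) m) := by
    intro a m
    have h := colimit.ι_desc (cG φ hφ) a
    exact congrArg (fun k : F ⟶ G => k.hom.app (op U) m) h
  constructor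
  · rw [injective_iff_map_eq_zero]
    intro x hx
    obtain ⟨a, m, rfl⟩ := FiltSec.ab_exists_rep (colimit.isColimit (D S F)) U x
    have hx' : (invS φ hφ a.val).hom.app (op U) (φ.hom.app (op U) m) = 0 := (hc a m).symm.trans hx
    have h1 : φ.hom.app (op U) m = 0 := by
      have := smul_invS_app φ hφ a.val (op U) (φ.hom.app (op U) m)
      rw [hx', smul_zero] at this
      exact this.symm
    obtain ⟨t, ht⟩ := hloc.exists_of_eq (x₁ := m) (x₂ := 0) (by
      change φ.hom.app (op U) m = φ.hom.app (op U) 0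
      rw [h1, map_zero])
    have ht' : ((t : S) : ℤ) • m = 0 := by
      have := ht
      rw [smul_zero] at this
      exact this
    have hw := FiltSec.ab_ι_w (t := colimit.cocone (D S F)) (Tr.homMk a t) U m
    change (colimit.ι (D S F) _).hom.app (op U) (((D S F).map (Tr.homMk a t)).hom.app (op U) m) =
      (colimit.ι (D S F) a).hom.app (op U) m at hw
    change (colimit.ι (D S F) a).hom.app (op U) m = 0
    rw [← hw, D_map_app]
    have hfac : Tr.fac (Tr.homMk a t) = t := rfl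
    rw [hfac]
    exact (congrArg (fun z => (colimit.ι (D S F) (⟨a.val * t⟩ : Tr.{u} S)).hom.app (op U) z)
      ht').trans (map_zero ((colimit.ι (D S F) (⟨a.val * t⟩ : Tr.{u} S)).hom.app (op U)).hom)
  · intro g
    obtain ⟨⟨m, s⟩, hms⟩ := hloc.surj g
    have hms' : ((s : S) : ℤ) • g = φ.hom.app (op U) m := hms
    refine ⟨(colimit.ι (D S F) ⟨s⟩).hom.app (op U) m, ?_⟩
    rw [hc, ← hms']
    exact invS_smul_app φ hφ s (op U) g

/-- `G` is the colimit. -/
noncomputable def isColimitCG : IsColimit (cG φ hφ) :=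
  haveI : IsIso ((colimit.isColimit (D S F)).desc (cG φ hφ)) := isIso_desc φ hφ
  IsColimit.ofPointIso (colimit.isColimit (D S F))

end

theorem S19975_main (X : Scheme.{u}) [CompactSpace X] [QuasiSeparatedSpace X] (S : Submonoid ℤ)
    (F G : EtCoh.Ab X) (φ : F ⟶ G)
    (hφ : ∀ U : X.Etale, IsAffine U.left →
      IsLocalizedModule S (φ.hom.app (op U)).hom.toIntLinearMap)
    (i : ℕ) : IsLocalizedModule S ((EtCoh.HF X i).map φ).hom.toIntLinearMap := by
  haveI : (EtCoh.HF X i).Additive := by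
    unfold EtCoh.HF
    infer_instance
  haveI := Groth.Agent.H2.EtSmall.preservesColimit_HF X i (D S F)
  have hcol : IsColimit ((EtCoh.HF X i).mapCocone (cG φ hφ)) :=
    isColimitOfPreserves (EtCoh.HF X i) (isColimitCG φ hφ)
  have hmul : ∀ (s : S) (P : EtCoh.Ab X) (y : (EtCoh.HF X i).obj P),
      (EtCoh.HF X i).map ((s : ℤ) • 𝟙 P : P ⟶ P) y = (s : ℤ) • y := by
    intro s P y
    rw [Functor.map_zsmul, CategoryTheory.Functor.map_id]
    rfl
  refine ⟨?_, ?_, ?_⟩
  · intro s
    rw [Module.End.isUnit_iff]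
    haveI := isIso_zsmul φ hφ s
    have hb : Function.Bijective ((EtCoh.HF X i).map ((s : ℤ) • 𝟙 G : G ⟶ G)) :=
      ConcreteCategory.bijective_of_isIso _
    have he : ⇑((algebraMap ℤ (Module.End ℤ ((EtCoh.HF X i).obj G))) (s : ℤ)) =
        ⇑((EtCoh.HF X i).map ((s : ℤ) • 𝟙 G : G ⟶ G)) := by
      funext y
      exact (hmul s G y).symm
    rw [he]
    exact hb
  · intro y
    obtain ⟨a, m, hm⟩ := Concrete.isColimit_exists_rep (D S F ⋙ EtCoh.HF X i) hcol y
    have hm' : (EtCoh.HF X i).map (φ ≫ invS φ hφ a.val) m = y := hm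
    refine ⟨(m, a.val), ?_⟩
    have h1 : (φ ≫ invS φ hφ a.val) ≫ ((a.val : ℤ) • 𝟙 G : G ⟶ G) = φ := by
      rw [Category.assoc, invS_comp, Category.comp_id]
    have h2 : (EtCoh.HF X i).map ((a.val : ℤ) • 𝟙 G : G ⟶ G)
        ((EtCoh.HF X i).map (φ ≫ invS φ hφ a.val) m) = (EtCoh.HF X i).map φ m := by
      rw [← ConcreteCategory.comp_apply, ← CategoryTheory.Functor.map_comp, h1]
    rw [hm', hmul] at h2
    exact h2
  · intro m m' h
    have h' : (EtCoh.HF X i).map φ m = (EtCoh.HF X i).map φ m' := h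
    let one : Tr.{u} S := ⟨1⟩
    have h1 : ((EtCoh.HF X i).mapCocone (cG φ hφ)).ι.app one m =
        ((EtCoh.HF X i).mapCocone (cG φ hφ)).ι.app one m' := by
      change (EtCoh.HF X i).map (φ ≫ invS φ hφ one.val) m =
        (EtCoh.HF X i).map (φ ≫ invS φ hφ one.val) m'
      rw [CategoryTheory.Functor.map_comp, ConcreteCategory.comp_apply, ConcreteCategory.comp_apply, h']
    obtain ⟨k, f, g, hfg⟩ := (Concrete.isColimit_rep_eq_iff_exists
      (F := D S F ⋙ EtCoh.HF X i) hcol m m').1 h1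
    have hf : Tr.fac f = k.val := by
      have := Tr.fac_spec f
      rwa [one_mul] at this
    have hg : Tr.fac g = k.val := by
      have := Tr.fac_spec g
      rwa [one_mul] at this
    have hfg' : (EtCoh.HF X i).map (((Tr.fac f : S) : ℤ) • 𝟙 F : F ⟶ F) m =
        (EtCoh.HF X i).map (((Tr.fac g : S) : ℤ) • 𝟙 F : F ⟶ F) m' := hfg
    rw [hmul, hmul, hf, hg] at hfg'
    exact ⟨k.val, hfg'⟩

end Groth.Agent.H7.LocH
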