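import Mathlib
import Groth.Prelude.Def_AlgSp4
import Groth.Prelude.Def_AlgSpDec
import Groth.Agent.Lib.Helper7.LocNoethFib
import Groth.Agent.Lib.Helper7.ArtAff
import Groth.Agent.Lib.Helper3.Residual.Closed

set_option autoImplicit false
universe u
open CategoryTheory CategoryTheory.Limits AlgebraicGeometry Opposite

namespace Groth.Agent.H7.LocNoethFib2

open _root_.AlgSp Groth.Agent.H5.AlgSp Groth.Agent.H7.LocNoethFib

variable {S : Scheme.{u}}

/-- If the field point `p` factors through the field point `p₀` and the fibres over `p` are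
locally Noetherian, so are the fibres over `p₀`. -/
theorem locNoeth_fibre_of_factor (X Y : AlgSp.Space S) (f : X ⟶ Y)
    (p p₀ : AlgSp.FieldPt Y.obj) (c : p.pt ⟶ p₀.pt) (hc : (yon S).map c ≫ p₀.toHom = p.toHom)
    (hNoeth : ∀ ⦃P : AlgSp.Sp S⦄ (fst : P ⟶ X.obj) (snd : P ⟶ (AlgSp.yon S).obj p.pt),
      IsPullback fst snd f.hom p.toHom → AlgSp.IsLocNoethSp P)
    {Q : AlgSp.Sp S} (qfst : Q ⟶ X.obj) (qsnd : Q ⟶ (AlgSp.yon S).obj p₀.pt)
    (hQ : IsPullback qfst qsnd f.hom p₀.toHom) :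
    AlgSp.IsLocNoethSp Q := by
  have hQa : IsAlgSpace Q :=
    isAlgSpace_pullback Y.property.diag X.property (IsAlgSpace.yon_obj p₀.pt) hQ
  have sqP := IsPullback.of_hasPullback qsnd ((yon S).map c)
  have big : IsPullback (pullback.fst qsnd ((yon S).map c) ≫ qfst)
      (pullback.snd qsnd ((yon S).map c)) f.hom ((yon S).map c ≫ p₀.toHom) :=
    sqP.paste_horiz hQ
  rw [hc] at big
  have hP : IsLocNoethSp (pullback qsnd ((yon S).map c)) := hNoeth _ _ big
  have hc' : RepWith fsq ((yon S).map c) := (repWith_yon_map_iff fsq c).2 (fsq_of_fields c.left)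
  have hg : RepWith fsq (pullback.fst qsnd ((yon S).map c)) :=
    MorphismProperty.of_isPullback (P := RepWith fsq) sqP.flip hc'
  exact isLocNoethSp_of_repWith_fsq hQa _ hg hP

/-- If the field point `r` factors through the field point `p` by a morphism locally of finite
type and the fibres over `p` are locally Noetherian, so are the fibres over `r`. -/
theorem locNoeth_fibre_of_lft (X Y : AlgSp.Space S) (f : X ⟶ Y)
    (p r : AlgSp.FieldPt Y.obj) (c : r.pt ⟶ p.pt) (hc : (yon S).map c ≫ p.toHom = r.toHom)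
    (hlft : LocallyOfFiniteType c.left)
    (hNoeth : ∀ ⦃P : AlgSp.Sp S⦄ (fst : P ⟶ X.obj) (snd : P ⟶ (AlgSp.yon S).obj p.pt),
      IsPullback fst snd f.hom p.toHom → AlgSp.IsLocNoethSp P)
    {R : AlgSp.Sp S} (rfst : R ⟶ X.obj) (rsnd : R ⟶ (AlgSp.yon S).obj r.pt)
    (hR : IsPullback rfst rsnd f.hom r.toHom) :
    AlgSp.IsLocNoethSp R := by
  have sqp := IsPullback.of_hasPullback f.hom p.toHom
  have hP : IsLocNoethSp (pullback f.hom p.toHom) := hNoeth _ _ sqp
  have hw : rfst ≫ f.hom = (rsnd ≫ (yon S).map c) ≫ p.toHom := by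
    rw [Category.assoc, hc]; exact hR.w
  have left : IsPullback (sqp.lift rfst (rsnd ≫ (yon S).map c) hw) rsnd
      (pullback.snd f.hom p.toHom) ((yon S).map c) := by
    refine IsPullback.of_right ?_ (sqp.lift_snd _ _ _) sqp
    rw [sqp.lift_fst, hc]
    exact hR
  have hc' : RepWith @LocallyOfFiniteType ((yon S).map c) :=
    (repWith_yon_map_iff @LocallyOfFiniteType c).2 hlft
  have hg : RepWith @LocallyOfFiniteType (sqp.lift rfst (rsnd ≫ (yon S).map c) hw) :=
    MorphismProperty.of_isPullback (P := RepWith @LocallyOfFiniteType) left.flip hc'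
  exact Groth.Agent.H3.Residual.isLocNoethSp_of_repWith_lft hP _ hg


theorem S10803_main (X Y : AlgSp.Space S) (f : X ⟶ Y)
    (y : AlgSp.Points Y.obj) (p : AlgSp.FieldPt Y.obj) (hp : AlgSp.Points.mk p = y)
    (hNoeth : ∀ ⦃P : AlgSp.Sp S⦄ (fst : P ⟶ X.obj) (snd : P ⟶ (AlgSp.yon S).obj p.pt),
      IsPullback fst snd f.hom p.toHom → AlgSp.IsLocNoethSp P)
    (V : Over S) (b : (AlgSp.yon S).obj V ⟶ Y.obj) (hb : AlgSp.RepWith @Etale b) (v : ↥V.left)
    (hv : AlgSp.Points.ofPt b v = y)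
    {Q : AlgSp.Sp S} (qfst : Q ⟶ X.obj) (qsnd : Q ⟶ (AlgSp.yon S).obj (AlgSp.FieldPt.ofPt b v).pt)
    (hQ : IsPullback qfst qsnd f.hom (AlgSp.FieldPt.ofPt b v).toHom) :
    AlgSp.IsLocNoethSp Q := by
  obtain ⟨W, fst₀, snd, sq, hse⟩ : ∃ (W : Over S) (fst₀ : (yon S).obj W ⟶ (yon S).obj V)
      (snd : W ⟶ p.pt), IsPullback fst₀ ((yon S).map snd) b p.toHom ∧ Etale snd.left :=
    ⟨_, _, _, hb.rep.isPullback p.toHom, hb.property_snd p.toHom⟩
  obtain ⟨g, rfl⟩ := (yon S).map_surjective fst₀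
  -- a point `w` of the fibre product over `v` and the point of `Spec K`
  have hx : Points.map b (Points.ofScheme V v) =
      Points.ofPt p.toHom (IsLocalRing.closedPoint p.K) := by
    rw [← Points.ofPt_eq_map_ofScheme, Points.ofPt_toHom, hv, hp]
  obtain ⟨w, -, hw2⟩ := exists_point_of_isPullback sq _ _ hx
  have hw : g.left w = v := by
    rw [← Category.comp_id ((yon S).map g), ofPt_yon_map_comp] at hw2
    exact (Points.schemeHomeo V).injective hw2
  subst hw
  -- `W` is discrete, so `w` is a closed point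
  have hdisc : DiscreteTopology ↥W.left :=
    Groth.Agent.H7.ArtAff.discreteTopology_of_etale_artinian (A := p.K) snd.left
  have hcl : IsClosedImmersion (W.left.fromSpecResidueField w) :=
    isClosed_singleton_iff_isClosedImmersion.mp (isClosed_discrete {w})
  -- the field point at `w`
  obtain ⟨r, hr⟩ : ∃ r : FieldPt Y.obj, r = FieldPt.ofPt ((yon S).map g ≫ b) w := ⟨_, rfl⟩
  have hrpt : r.pt = Over.mk (W.left.fromSpecResidueField w ≫ W.hom) := by rw [hr]; rfl
  subst hr
  let c₁ : (FieldPt.ofPt ((yon S).map g ≫ b) w).pt ⟶ p.pt :=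
    (Over.homMk (W.left.fromSpecResidueField w) rfl :
      Over.mk (W.left.fromSpecResidueField w ≫ W.hom) ⟶ W) ≫ snd
  have hc₁ : (yon S).map c₁ ≫ p.toHom = (FieldPt.ofPt ((yon S).map g ≫ b) w).toHom := by
    rw [FieldPt.toHom_ofPt, Functor.map_comp, Category.assoc, ← sq.w]
    rfl
  have hlft : LocallyOfFiniteType c₁.left := by
    change LocallyOfFiniteType (W.left.fromSpecResidueField w ≫ snd.left)
    infer_instance
  have hNoeth_r : ∀ ⦃P : AlgSp.Sp S⦄ (fst : P ⟶ X.obj)
      (snd : P ⟶ (AlgSp.yon S).obj (FieldPt.ofPt ((yon S).map g ≫ b) w).pt),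
      IsPullback fst snd f.hom (FieldPt.ofPt ((yon S).map g ≫ b) w).toHom →
        AlgSp.IsLocNoethSp P :=
    fun P fst snd' h => locNoeth_fibre_of_lft X Y f p _ c₁ hc₁ hlft hNoeth fst snd' h
  -- `r` factors through the field point at `v = g w`
  let c₂ : (FieldPt.ofPt ((yon S).map g ≫ b) w).pt ⟶ (FieldPt.ofPt b (g.left w)).pt :=
    Over.homMk (Spec.map (g.left.residueFieldMap w)) (by
      change Spec.map (g.left.residueFieldMap w) ≫ V.left.fromSpecResidueField (g.left w) ≫ V.hom =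
        W.left.fromSpecResidueField w ≫ W.hom
      rw [← Category.assoc, Scheme.Hom.SpecMap_residueFieldMap_fromSpecResidueField,
        Category.assoc, Over.w g])
  have hc₂ : (yon S).map c₂ ≫ (FieldPt.ofPt b (g.left w)).toHom =
      (FieldPt.ofPt ((yon S).map g ≫ b) w).toHom := by
    rw [FieldPt.toHom_ofPt, FieldPt.toHom_ofPt, ← Category.assoc, ← Category.assoc,
      ← Functor.map_comp, ← Functor.map_comp]
    congr 2
    apply Over.OverMorphism.ext
    exact Scheme.Hom.SpecMap_residueFieldMap_fromSpecResidueField g.left w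
  exact locNoeth_fibre_of_factor X Y f _ (FieldPt.ofPt b (g.left w)) c₂ hc₂ hNoeth_r qfst qsnd hQ

end Groth.Agent.H7.LocNoethFib2
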