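import Groth.Agent.S10482
import Groth.Agent.Lib.Helper3.Decent.DimZero
import Groth.Agent.Lib.Helper5.AlgSp.LocPCalc
import Groth.Agent.Lib.Helper5.AlgSp.RefinedDVR
import Groth.Agent.Lib.Helper3.AlgSpMor.EtaleDim
import Mathlib

/-!
# Algebraic spaces locally quasi-finite over a field (S10483)
-/

set_option autoImplicit false
universe u

open AlgebraicGeometry CategoryTheory Limits

namespace Groth.Agent.H7.LqfField

open _root_.AlgSp Groth.Agent.H5.AlgSp

variable {k : Type u} [Field k]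

/-- a scheme locally quasi-finite over a field: each point is open, affine, with Artinian local
coordinate ring finite over the field. -/
theorem exists_artinian_nbhd {U : Scheme.{u}} (f : U ⟶ Spec (CommRingCat.of k))
    [LocallyQuasiFinite f] (u : U) :
    ∃ V : U.Opens, u ∈ V ∧ IsAffineOpen V ∧ IsArtinianRing ↥Γ(U, V) ∧ IsLocalRing ↥Γ(U, V) ∧
      IsFinite (V.ι ≫ f) := by
  haveI : IsLocallyArtinian (Spec (CommRingCat.of k)) :=
    Scheme.isLocallyArtinianScheme_Spec.2 (inferInstance : IsArtinianRing k)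
  haveI : IsLocallyArtinian U := IsLocallyArtinian.of_locallyQuasiFinite f
  haveI : DiscreteTopology ↥U := inferInstance
  obtain ⟨V, hV⟩ : ∃ V : U.Opens, (V : Set U) = {u} := ⟨⟨{u}, isOpen_discrete _⟩, rfl⟩
  have huV : u ∈ V := by
    change u ∈ (V : Set U)
    rw [hV]; rfl
  obtain ⟨W, hW1, hW2, hW3⟩ := exists_isAffineOpen_mem_and_subset huV
  have hWV : W = V := by
    refine le_antisymm (fun x hx => hW3 hx) ?_
    intro x hx
    have : x ∈ (V : Set U) := hx
    rw [hV] at this
    rw [Set.mem_singleton_iff.1 this]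
    exact hW2
  subst hWV
  haveI : IsArtinianRing ↥Γ(U, W) := IsLocallyArtinian.isArtinianRing_presheaf_obj ⟨W, hW1⟩
  refine ⟨W, huV, hW1, inferInstance, ?_, ?_⟩
  · haveI : Unique ↥(W : Set U) := by
      rw [hV]
      exact Set.uniqueSingleton u
    have e : PrimeSpectrum ↥Γ(U, W) ≃ ↥(W : Set U) := hW1.isoSpec.hom.homeomorph.symm.toEquiv
    haveI : Unique (PrimeSpectrum ↥Γ(U, W)) := e.unique
    haveI : Nontrivial ↥Γ(U, W) := (PrimeSpectrum.nonempty_iff_nontrivial).1 ⟨default⟩
    obtain ⟨m, hm⟩ := Ideal.exists_maximal ↥Γ(U, W)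
    refine IsLocalRing.of_unique_max_ideal ⟨m, hm, fun m' hm' => ?_⟩
    have h1 : (⟨m', hm'.isPrime⟩ : PrimeSpectrum ↥Γ(U, W)) = ⟨m, hm.isPrime⟩ :=
      Subsingleton.elim _ _
    exact congrArg PrimeSpectrum.asIdeal h1
  · haveI : IsAffine (W : Scheme.{u}) := hW1
    haveI : IsAffineHom (W.ι ≫ f) := isAffineHom_of_isAffine _
    haveI : QuasiCompact (W.ι ≫ f) := inferInstance
    exact IsFinite.of_locallyQuasiFinite (W.ι ≫ f)


/-- a scheme over a field covered by opens finite over the field is locally quasi-finite and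
locally of finite type. -/
theorem lqf_lft_of_forall_exists_finite {U : Scheme.{u}} (f : U ⟶ Spec (CommRingCat.of k))
    (h : ∀ u : U, ∃ V : U.Opens, u ∈ V ∧ IsFinite (V.ι ≫ f)) :
    LocallyQuasiFinite f ∧ LocallyOfFiniteType f := by
  choose V hV1 hV2 using h
  have hcov : (⨆ u, V u) = ⊤ := by
    rw [eq_top_iff]
    intro x _
    exact TopologicalSpace.Opens.mem_iSup.2 ⟨x, hV1 x⟩
  let 𝒰 := Scheme.openCoverOfIsOpenCover U V (show TopologicalSpace.IsOpenCover V from hcov)
  constructor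
  · refine (IsZariskiLocalAtSource.iff_of_openCover (P := @LocallyQuasiFinite) 𝒰).2 fun u => ?_
    haveI := hV2 u
    exact (inferInstance : LocallyQuasiFinite ((V u).ι ≫ f))
  · refine (IsZariskiLocalAtSource.iff_of_openCover (P := @LocallyOfFiniteType) 𝒰).2 fun u => ?_
    haveI := hV2 u
    exact (inferInstance : LocallyOfFiniteType ((V u).ι ≫ f))

theorem etale_le_lqf_lft : (@Etale : MorphismProperty Scheme.{u}) ≤
    (@LocallyQuasiFinite ⊓ @LocallyOfFiniteType : MorphismProperty Scheme.{u}) := by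
  intro A B g hg
  haveI : Etale g := hg
  exact ⟨Groth.Agent.H3.EtaleDim.locallyQuasiFinite_of_etale g, inferInstance⟩

/-- S10483. -/
theorem S10483_main (X : AlgSp.Space (Spec (CommRingCat.of k)))
    (p : X.obj ⟶ (AlgSp.yon (Spec (CommRingCat.of k))).obj (Over.mk (𝟙 _))) :
    AlgSp.LocP (@LocallyQuasiFinite ⊓ @LocallyOfFiniteType : MorphismProperty Scheme.{u}) p ↔
      ∃ (U : Over (Spec (CommRingCat.of k)))
        (_ : (AlgSp.yon (Spec (CommRingCat.of k))).obj U ≅ X.obj), ∀ u : ↥U.left, ∃ V : U.left.Opens,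
        u ∈ V ∧ IsAffineOpen V ∧ IsArtinianRing ↥Γ(U.left, V) ∧ IsLocalRing ↥Γ(U.left, V) ∧
          IsFinite (V.ι ≫ U.hom) := by
  have hid : RepWith @Etale (𝟙 ((yon (Spec (CommRingCat.of k))).obj (Over.mk (𝟙 _)))) :=
    repWith_id _ _
  constructor
  · intro h
    obtain ⟨hlft, hdim⟩ := (Groth.Agent.S10482.result k X p).1 h
    obtain ⟨U, e, -, -⟩ := Groth.Agent.H3.Decent.exists_separated_scheme_of_lft_field_dim_le_zero k
      X.property p hlft hdim
    refine ⟨U, e, fun u => ?_⟩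
    have comm : e.hom ≫ p =
        (yon _).map (Over.homMk U.hom (by simp) : U ⟶ Over.mk (𝟙 _)) ≫ 𝟙 _ := by
      rw [Category.comp_id]
      exact Groth.Agent.S10482.eq_yon_map_toTerminal _
    have hP := h e.hom (𝟙 _) _ (repWith_of_isIso (P := @Etale) e.hom) hid comm
    haveI : LocallyQuasiFinite U.hom := hP.1
    exact exists_artinian_nbhd U.hom u
  · rintro ⟨U, e, hV⟩
    have hU := lqf_lft_of_forall_exists_finite U.hom
      (fun u => by obtain ⟨V, h1, -, -, -, h2⟩ := hV u; exact ⟨V, h1, h2⟩)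
    have hL : LocP (@LocallyQuasiFinite ⊓ @LocallyOfFiniteType : MorphismProperty Scheme.{u})
        ((yon _).map (Over.homMk U.hom (by simp) : U ⟶ Over.mk (𝟙 _))) :=
      (locP_yon_map_iff etale_le_lqf_lft _).2 hU
    intro U' V' a b h' ha hb comm
    have hp : p = e.inv ≫ (yon _).map (Over.homMk U.hom (by simp) : U ⟶ Over.mk (𝟙 _)) := by
      rw [Iso.eq_inv_comp]
      exact Groth.Agent.S10482.eq_yon_map_toTerminal _
    refine hL (a ≫ e.inv) b h' ?_ hb ?_
    · exact MorphismProperty.RespectsIso.postcomp _ _ _ ha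
    · rw [Category.assoc, ← hp, comm]

end Groth.Agent.H7.LqfField
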