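import Mathlib

/-!
# Algebra for monomorphisms into locally quasi-finite spaces over a field (S10484)
-/

set_option autoImplicit false
universe u

open TensorProduct

namespace Groth.Agent.H7.LqfMono

/-- nilpotent Nakayama: a module is finite as soon as its quotient by `I • ⊤` is, `I` nilpotent. -/
theorem finite_of_finite_quotient_nilpotent {R M : Type*} [CommRing R] [AddCommGroup M] [Module R M]
    (I : Ideal R) (n : ℕ) (hn : I ^ n = ⊥)
    (h : Module.Finite R (M ⧸ (I • (⊤ : Submodule R M)))) : Module.Finite R M := by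
  obtain ⟨s, hs⟩ := h.fg_top
  have hlift : ∀ x : M ⧸ (I • (⊤ : Submodule R M)), ∃ y : M, Submodule.Quotient.mk y = x :=
    fun x => Submodule.Quotient.mk_surjective _ x
  choose lift hlift' using hlift
  classical
  let t : Finset M := s.image lift
  have hmap : (Submodule.span R (t : Set M)).map (I • (⊤ : Submodule R M)).mkQ = ⊤ := by
    rw [Submodule.map_span, ← top_le_iff, ← hs]
    apply Submodule.span_mono
    intro x hx
    refine ⟨lift x, ?_, hlift' x⟩
    exact Finset.mem_coe.2 (Finset.mem_image_of_mem lift hx)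
  have h1 : Submodule.span R (t : Set M) ⊔ I • (⊤ : Submodule R M) = ⊤ :=
    by rw [sup_comm]; exact (Submodule.map_mkQ_eq_top _ _).1 hmap
  have hk : ∀ k : ℕ, Submodule.span R (t : Set M) ⊔ (I ^ k) • (⊤ : Submodule R M) = ⊤ := by
    intro k
    induction k with
    | zero => simp
    | succ k ih =>
      rw [← top_le_iff]
      calc (⊤ : Submodule R M) = Submodule.span R (t : Set M) ⊔ I • (⊤ : Submodule R M) := h1.symm
        _ = Submodule.span R (t : Set M) ⊔
            I • (Submodule.span R (t : Set M) ⊔ (I ^ k) • (⊤ : Submodule R M)) := by rw [ih]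
        _ ≤ Submodule.span R (t : Set M) ⊔ (I ^ (k + 1)) • (⊤ : Submodule R M) := by
          rw [Submodule.smul_sup, ← Submodule.mul_smul, ← pow_succ']
          refine sup_le le_sup_left (sup_le ?_ le_sup_right)
          exact le_trans Submodule.smul_le_right le_sup_left
  have h2 := hk n
  rw [hn, Submodule.bot_smul, sup_bot_eq] at h2
  exact ⟨⟨t, h2⟩⟩

end Groth.Agent.H7.LqfMono

namespace Groth.Agent.H7.LqfMono

/-- descent of étaleness along a nonzero algebra over a field, for an algebra which becomes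
étale over itself after tensoring with itself. -/
theorem etale_of_tensor {B C κ D : Type u} [CommRing B] [CommRing C] [Algebra B C] [Field κ]
    [Algebra B κ] [CommRing D] [Algebra κ D] [Algebra B D] [IsScalarTower B κ D] [Algebra C D]
    [IsScalarTower B C D] [Nontrivial D] (e : κ ⊗[B] C ≃ₐ[κ] D) [Algebra.Etale C (C ⊗[B] C)] :
    Algebra.Etale κ D := by
  let e1 : D ⊗[C] (C ⊗[B] C) ≃ₐ[D] D ⊗[B] C := Algebra.TensorProduct.cancelBaseChange B C D D C
  let e2 : D ⊗[κ] (κ ⊗[B] C) ≃ₐ[D] D ⊗[B] C := Algebra.TensorProduct.cancelBaseChange B κ D D C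
  let e3 : D ⊗[κ] (κ ⊗[B] C) ≃ₐ[D] D ⊗[κ] D :=
    Algebra.TensorProduct.congr (AlgEquiv.refl : D ≃ₐ[D] D) e
  haveI : Algebra.Etale D (D ⊗[C] (C ⊗[B] C)) := inferInstance
  haveI : Algebra.Etale D (D ⊗[κ] D) := Algebra.Etale.of_equiv (e1.trans (e2.symm.trans e3))
  haveI : Module.FaithfullyFlat κ D := inferInstance
  exact Algebra.Etale.of_etale_tensorProduct_of_faithfullyFlat D

/-- **the key algebra lemma**: over a ring with a nilpotent maximal ideal, an algebra which
becomes étale over itself after tensoring with itself is finite. -/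
theorem finite_of_etale_tensor {B C : Type u} [CommRing B] [CommRing C] [Algebra B C] (m : Ideal B)
    [hm : m.IsMaximal] (n : ℕ) (hn : m ^ n = ⊥) [Algebra.Etale C (C ⊗[B] C)] :
    Module.Finite B C := by
  letI := Ideal.Quotient.field m
  apply finite_of_finite_quotient_nilpotent m n hn
  haveI hfin : Module.Finite B ((B ⧸ m) ⊗[B] C) := ?_
  · exact Module.Finite.equiv (TensorProduct.quotTensorEquivQuotSMul C m)
  by_cases hnt : Nontrivial ((B ⧸ m) ⊗[B] C)
  · letI : Algebra C ((B ⧸ m) ⊗[B] C) := Algebra.TensorProduct.rightAlgebra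
    haveI : IsScalarTower B C ((B ⧸ m) ⊗[B] C) := Algebra.TensorProduct.right_isScalarTower
    haveI : Algebra.Etale (B ⧸ m) ((B ⧸ m) ⊗[B] C) :=
      etale_of_tensor (B := B) (C := C) (κ := B ⧸ m) (D := (B ⧸ m) ⊗[B] C) AlgEquiv.refl
    haveI : Module.Finite (B ⧸ m) ((B ⧸ m) ⊗[B] C) :=
      Algebra.FormallyUnramified.finite_of_free (B ⧸ m) ((B ⧸ m) ⊗[B] C)
    exact Module.Finite.trans (B ⧸ m) ((B ⧸ m) ⊗[B] C)
  · rw [not_nontrivial_iff_subsingleton] at hnt
    infer_instance

end Groth.Agent.H7.LqfMono
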