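import Mathlib
import Groth.Agent.Lib.Helper7.LqfMono1

/-!
# Monomorphisms into locally quasi-finite spaces over a field: scheme level (S10484)
-/

set_option autoImplicit false
universe u

open AlgebraicGeometry CategoryTheory Limits TensorProduct

namespace Groth.Agent.H7.LqfMono

/-- a morphism which becomes étale after base change along itself is finite over affine opens of
the target with local Artinian rings of sections. -/
theorem finite_appLE_of_etale_fst {U T : Scheme.{u}} (φ : U ⟶ T) (het : Etale (pullback.fst φ φ))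
    {VT : T.Opens} (hVT : IsAffineOpen VT) [IsLocalRing Γ(T, VT)] [IsArtinianRing Γ(T, VT)]
    {VU : U.Opens} (hVU : IsAffineOpen VU) (e : VU ≤ φ ⁻¹ᵁ VT) :
    (φ.appLE VT VU e).hom.Finite := by
  obtain ⟨ψ, hψ⟩ : ∃ ψ : Γ(T, VT) ⟶ Γ(U, VU), ψ = φ.appLE VT VU e := ⟨_, rfl⟩
  rw [← hψ]
  letI : Algebra Γ(T, VT) Γ(U, VU) := ψ.hom.toAlgebra
  have hψ' : ψ = CommRingCat.ofHom (algebraMap Γ(T, VT) Γ(U, VU)) := rfl
  have hsq : Spec.map ψ ≫ hVT.fromSpec = hVU.fromSpec ≫ φ := by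
    rw [hψ]; exact IsAffineOpen.SpecMap_appLE_fromSpec φ hVT hVU e
  -- the open immersion of fibre products
  have hfst : pullback.map (Spec.map ψ) (Spec.map ψ) φ φ hVU.fromSpec hVU.fromSpec hVT.fromSpec
      hsq hsq ≫ pullback.fst φ φ = pullback.fst (Spec.map ψ) (Spec.map ψ) ≫ hVU.fromSpec :=
    pullback.lift_fst _ _ _
  have h1 : Etale (pullback.fst (Spec.map ψ) (Spec.map ψ) ≫ hVU.fromSpec) := by
    rw [← hfst]
    infer_instance
  have h2 : Etale (pullback.fst (Spec.map ψ) (Spec.map ψ)) :=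
    MorphismProperty.of_postcomp (W := @Etale) (W' := @Etale) _ hVU.fromSpec inferInstance h1
  have h3 : Etale (Spec.map (CommRingCat.ofHom
      (Algebra.TensorProduct.includeLeftRingHom : Γ(U, VU) →+* Γ(U, VU) ⊗[Γ(T, VT)] Γ(U, VU)))) := by
    rw [← pullbackSpecIso_inv_fst]
    rw [hψ'] at h2
    infer_instance
  have h4 : (Algebra.TensorProduct.includeLeftRingHom :
      Γ(U, VU) →+* Γ(U, VU) ⊗[Γ(T, VT)] Γ(U, VU)).Etale :=
    (HasRingHomProperty.Spec_iff (P := @Etale)).1 h3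
  haveI : Algebra.Etale Γ(U, VU) (Γ(U, VU) ⊗[Γ(T, VT)] Γ(U, VU)) :=
    RingHom.etale_algebraMap.1 h4
  obtain ⟨n, hn⟩ : ∃ n : ℕ, IsLocalRing.maximalIdeal Γ(T, VT) ^ n = ⊥ := by
    have := IsArtinianRing.isNilpotent_jacobson_bot (R := Γ(T, VT))
    rw [IsLocalRing.jacobson_eq_maximalIdeal ⊥ bot_ne_top] at this
    exact this
  exact finite_of_etale_tensor (IsLocalRing.maximalIdeal Γ(T, VT)) n hn

end Groth.Agent.H7.LqfMono
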