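import Groth.Agent.Lib.Helper7.LqfMono2
import Groth.Agent.Lib.Helper7.LqfField1
import Mathlib

/-!
# Monomorphisms into locally quasi-finite spaces over a field (S10484)
-/

set_option autoImplicit false
universe u

open AlgebraicGeometry CategoryTheory Limits

namespace Groth.Agent.H7.LqfMono

open _root_.AlgSp Groth.Agent.H5.AlgSp

/-- cancelling a monomorphism in a self fibre product. -/
theorem isPullback_of_comp_mono {C : Type*} [Category C] {P A B D : C} {p1 p2 : P ⟶ A}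
    {a : A ⟶ B} (m : B ⟶ D) [Mono m] (h : IsPullback p1 p2 (a ≫ m) (a ≫ m)) :
    IsPullback p1 p2 a a := by
  have w : p1 ≫ a = p2 ≫ a := by
    rw [← cancel_mono m, Category.assoc, Category.assoc]; exact h.w
  refine ⟨⟨w⟩, ⟨PullbackCone.IsLimit.mk _ (fun s => h.lift s.fst s.snd (by
      rw [← Category.assoc, ← Category.assoc, s.condition])) (fun s => h.lift_fst _ _ _)
      (fun s => h.lift_snd _ _ _) (fun s m' h1 h2 => ?_)⟩⟩
  apply h.hom_ext
  · rw [h1, h.lift_fst]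
  · rw [h2, h.lift_snd]

variable {S : Scheme.{u}}

/-- if `yon φ = a ≫ m` with `a` étale and `m` mono, then the first projection of the self fibre
product of `φ` is étale. -/
theorem etale_fst_of_yon_eq {U T : Over S} {F : Sp S} (φ : U ⟶ T) (a : (yon S).obj U ⟶ F)
    (m : F ⟶ (yon S).obj T) [Mono m] (ha : RepWith @Etale a) (h : (yon S).map φ = a ≫ m) :
    Etale (pullback.fst φ.left φ.left) := by
  let W' : Over S := Over.mk (pullback.fst φ.left φ.left ≫ U.hom)
  let pr1 : W' ⟶ U := Over.homMk (pullback.fst φ.left φ.left) rfl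
  let pr2 : W' ⟶ U := Over.homMk (pullback.snd φ.left φ.left) (by
    change pullback.snd φ.left φ.left ≫ U.hom = pullback.fst φ.left φ.left ≫ U.hom
    rw [← Over.w φ, pullback.condition_assoc])
  have hcomm : pr1 ≫ φ = pr2 ≫ φ := Over.OverMorphism.ext pullback.condition
  have hsq : IsPullback pr1 pr2 φ φ :=
    IsPullback.of_map (Over.forget S) hcomm (IsPullback.of_hasPullback φ.left φ.left)
  have hsqy := hsq.map (yon S)
  rw [h] at hsqy
  have hsq' := isPullback_of_comp_mono m hsqy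
  have h1 : RepWith @Etale ((yon S).map pr1) :=
    MorphismProperty.of_isPullback (P := RepWith (S := S) @Etale) hsq'.flip ha
  exact (repWith_yon_map_iff @Etale pr1).1 h1

variable {k : Type u} [Field k]

/-- scheme level: `φ : U ⟶ T` over a field with étale self fibre product projection, `T` covered
by Artinian local affine opens finite over `k` ⇒ `U` is lqf + lft over `k`. -/
theorem lqf_lft_of_etale_fst {U T : Scheme.{u}} (φ : U ⟶ T) (g : T ⟶ Spec (CommRingCat.of k))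
    (het : Etale (pullback.fst φ φ))
    (hT : ∀ t : T, ∃ V : T.Opens, t ∈ V ∧ IsAffineOpen V ∧ IsArtinianRing ↥Γ(T, V) ∧
      IsLocalRing ↥Γ(T, V) ∧ IsFinite (V.ι ≫ g)) :
    LocallyQuasiFinite (φ ≫ g) ∧ LocallyOfFiniteType (φ ≫ g) := by
  refine LqfField.lqf_lft_of_forall_exists_finite (φ ≫ g) fun u => ?_
  obtain ⟨VT, hVT1, hVT2, hVT3, hVT4, hVT5⟩ := hT (φ u)
  have hu : u ∈ φ ⁻¹ᵁ VT := hVT1
  obtain ⟨VU, hVU2, hVU1, hVU3⟩ := exists_isAffineOpen_mem_and_subset hu
  have e : VU ≤ φ ⁻¹ᵁ VT := hVU3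
  refine ⟨VU, hVU1, ?_⟩
  have hfin := finite_appLE_of_etale_fst φ het hVT2 hVU2 e
  have hfin' : IsFinite (Spec.map (φ.appLE VT VU e)) := (IsFinite.SpecMap_iff _).2 hfin
  have h1 : hVU2.fromSpec ≫ φ = Spec.map (φ.appLE VT VU e) ≫ hVT2.fromSpec :=
    (IsAffineOpen.SpecMap_appLE_fromSpec φ hVT2 hVU2 e).symm
  have h2 : VU.ι = hVU2.isoSpec.hom ≫ hVU2.fromSpec := by
    rw [← hVU2.isoSpec_inv_ι, Iso.hom_inv_id_assoc]
  have h3 : hVT2.fromSpec = hVT2.isoSpec.inv ≫ VT.ι := (hVT2.isoSpec_inv_ι).symm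
  have h4 : VU.ι ≫ φ ≫ g = hVU2.isoSpec.hom ≫ Spec.map (φ.appLE VT VU e) ≫
      hVT2.isoSpec.inv ≫ (VT.ι ≫ g) := by
    rw [h2, Category.assoc, ← Category.assoc hVU2.fromSpec, h1, h3]
    simp only [Category.assoc]
  rw [h4]
  infer_instance

/-- S10484. -/
theorem S10484_main {X Y : AlgSp.Space (Spec (CommRingCat.of k))} (f : X ⟶ Y)
    [Mono f.hom] (q : Y.obj ⟶ (AlgSp.yon (Spec (CommRingCat.of k))).obj (Over.mk (𝟙 _)))
    (hq : AlgSp.LocP (@LocallyQuasiFinite ⊓ @LocallyOfFiniteType : MorphismProperty Scheme.{u}) q) :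
    AlgSp.LocP (@LocallyQuasiFinite ⊓ @LocallyOfFiniteType : MorphismProperty Scheme.{u})
      (f.hom ≫ q) := by
  obtain ⟨T, e, hT⟩ := (LqfField.S10483_main Y q).1 hq
  obtain ⟨U, a, ha, has⟩ := X.property.atlas
  obtain ⟨φ, hφ⟩ := (yon (Spec (CommRingCat.of k))).map_surjective (a ≫ f.hom ≫ e.inv)
  haveI : Mono (f.hom ≫ e.inv) := mono_comp _ _
  have het : Etale (pullback.fst φ.left φ.left) :=
    etale_fst_of_yon_eq φ a (f.hom ≫ e.inv) ha hφ
  have hU := lqf_lft_of_etale_fst φ.left T.hom het hT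
  rw [Over.w φ] at hU
  have hid : RepWith @Etale (𝟙 ((yon (Spec (CommRingCat.of k))).obj (Over.mk (𝟙 _)))) :=
    repWith_id _ _
  refine locP_of_one_chart LqfField.etale_le_lqf_lft a (𝟙 _)
    (Over.homMk U.hom (by simp) : U ⟶ Over.mk (𝟙 _)) ha has hid ?_ hU
  rw [Category.comp_id]
  exact Groth.Agent.S10482.eq_yon_map_toTerminal _

end Groth.Agent.H7.LqfMono
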