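import Groth.Agent.Lib.Lead.RSp.FreeOver

/-! # Local morphisms of sheaves of modules on a site: restriction along arrows, and local lifting
of maps out of a direct summand of a finite free module through an exact sequence. -/

set_option autoImplicit false
universe u
open CategoryTheory CategoryTheory.Limits Opposite

namespace Groth.Agent.Helper7.MSL1
open Groth.Agent.LD.RSp

variable {C : Type u} [SmallCategory C] {J : GrothendieckTopology C} {R : Sheaf J RingCat.{u}}

/-- restriction of a local morphism along `g`. -/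
noncomputable def resHom {M N : SheafOfModules.{u} R} {W W' : C} (g : W' ⟶ W)
    (φ : M.over W ⟶ N.over W) : M.over W' ⟶ N.over W' :=
  (SheafOfModules.overFunctorMap R g).inv.app M ≫ (SheafOfModules.overMap R g).map φ ≫
    (SheafOfModules.overFunctorMap R g).hom.app N

lemma resHom_app {M N : SheafOfModules.{u} R} {W W' : C} (g : W' ⟶ W)
    (φ : M.over W ⟶ N.over W) (Y : Over W') (m : M.val.obj (op Y.left)) :
    (resHom g φ).val.app (op Y) m = φ.val.app (op ((Over.map g).obj Y)) m := rfl

lemma resHom_comp {M N P : SheafOfModules.{u} R} {W W' : C} (g : W' ⟶ W)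
    (φ : M.over W ⟶ N.over W) (ψ : N.over W ⟶ P.over W) :
    resHom g (φ ≫ ψ) = resHom g φ ≫ resHom g ψ := by
  unfold resHom
  rw [Functor.map_comp]
  simp only [Category.assoc, Iso.hom_inv_id_app_assoc]

lemma resHom_map {M N : SheafOfModules.{u} R} {W W' : C} (g : W' ⟶ W) (f : M ⟶ N) :
    resHom g ((SheafOfModules.overFunctor R W).map f) =
      (SheafOfModules.overFunctor R W').map f := by
  unfold resHom
  have h := (SheafOfModules.overFunctorMap R g).hom.naturality f
  rw [← cancel_epi ((SheafOfModules.overFunctorMap R g).hom.app M)]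
  rw [Iso.hom_inv_id_app_assoc]
  exact h.symm

lemma resHom_add {M N : SheafOfModules.{u} R} {W W' : C} (g : W' ⟶ W)
    (φ ψ : M.over W ⟶ N.over W) : resHom g (φ + ψ) = resHom g φ + resHom g ψ := by
  ext Y m
  rfl

lemma resHom_sub {M N : SheafOfModules.{u} R} {W W' : C} (g : W' ⟶ W)
    (φ ψ : M.over W ⟶ N.over W) : resHom g (φ - ψ) = resHom g φ - resHom g ψ := by
  ext Y m
  rfl

instance additive_overFunctor (W : C) : (SheafOfModules.overFunctor R W).Additive where
  map_add := by
    intro M N f g
    ext Y m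
    rfl

/-- evaluation of a local morphism at the terminal object of the slice. -/
noncomputable def evId {M N : SheafOfModules.{u} R} {W : C} (φ : M.over W ⟶ N.over W)
    (m : M.val.obj (op W)) : N.val.obj (op W) :=
  φ.val.app (op (Over.mk (𝟙 W))) m

lemma sectionsMap_resHom_secOver {M N : SheafOfModules.{u} R} {W W' : C} (g : W' ⟶ W)
    (δ : M.over W ⟶ N.over W) (m : M.val.obj (op W)) :
    SheafOfModules.sectionsMap (resHom g δ) (secOver M W' (rs M g m)) =
      secOver N W' (rs N g (evId δ m)) := by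
  apply Subtype.ext
  funext Y
  change δ.val.app (op ((Over.map g).obj Y.unop)) (rs M Y.unop.hom (rs M g m)) =
    rs N Y.unop.hom (rs N g (evId δ m))
  rw [rs_rs, rs_rs]
  let a : (Over.map g).obj Y.unop ⟶ Over.mk (𝟙 W) := Over.homMk (Y.unop.hom ≫ g) (by simp)
  exact PresheafOfModules.naturality_apply δ.val a.op m

/-- local exactness on sections. -/
theorem exists_sieve_of_exact (S : ShortComplex (SheafOfModules.{u} R)) (hS : S.Exact) (U : C)
    (t : S.X₂.val.obj (op U)) (ht : S.g.val.app (op U) t = 0) :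
    ∃ T ∈ J U, ∀ ⦃V : C⦄ (g : V ⟶ U), T g →
      ∃ m : S.X₁.val.obj (op V), S.f.val.app (op V) m = rs S.X₂ g t := by
  have hK : (ShortComplex.mk S.iCycles S.g S.iCycles_g).Exact :=
    ShortComplex.exact_of_f_is_kernel _ S.cyclesIsKernel
  obtain ⟨z, hz⟩ := exists_of_exact (S := ShortComplex.mk S.iCycles S.g S.iCycles_g) hK U t ht
  haveI : Epi S.toCycles := S.exact_iff_epi_toCycles.1 hS
  obtain ⟨T, hT, hT'⟩ := exists_sieve_of_epi S.toCycles U z
  refine ⟨T, hT, fun V g hg => ?_⟩
  obtain ⟨m, hm⟩ := hT' g hg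
  refine ⟨m, ?_⟩
  have h1 : S.f.val.app (op V) m = S.iCycles.val.app (op V) (S.toCycles.val.app (op V) m) := by
    have h2 : S.toCycles ≫ S.iCycles = S.f := S.toCycles_i
    rw [← h2]
    rfl
  rw [h1, hm, app_rs]
  exact congrArg (rs S.X₂ g) hz

/-- a local map from a direct summand of a finite free module into the middle term of an exact
sequence, killed by the second map, lifts locally through the first map. -/
theorem exists_local_lift {E : SheafOfModules.{u} R} {I : Type u} [Fintype I]
    (ι : E ⟶ SheafOfModules.free (R := R) I) (q : SheafOfModules.free (R := R) I ⟶ E)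
    (hιq : ι ≫ q = 𝟙 E) (S : ShortComplex (SheafOfModules.{u} R)) (hS : S.Exact) (W : C)
    (γ : E.over W ⟶ S.X₂.over W) (hγ : γ ≫ (SheafOfModules.overFunctor R W).map S.g = 0) :
    ∃ T ∈ J W, ∀ ⦃W' : C⦄ (g : W' ⟶ W), T g →
      ∃ ψ : E.over W' ⟶ S.X₁.over W',
        ψ ≫ (SheafOfModules.overFunctor R W').map S.f = resHom g γ := by
  classical
  obtain ⟨δ, hδ⟩ : ∃ δ : (SheafOfModules.free (R := R) I).over W ⟶ S.X₂.over W,
      δ = (SheafOfModules.overFunctor R W).map q ≫ γ := ⟨_, rfl⟩
  have hδ0 : ∀ k : I, S.g.val.app (op W) (evId δ (bas R I k W)) = 0 := by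
    intro k
    have h1 : δ ≫ (SheafOfModules.overFunctor R W).map S.g = 0 := by
      rw [hδ, Category.assoc, hγ, comp_zero]
    have h2 : (δ ≫ (SheafOfModules.overFunctor R W).map S.g).val.app (op (Over.mk (𝟙 W)))
        (bas R I k W) = 0 := by
      rw [h1]
      rfl
    exact h2
  have h := fun k : I => exists_sieve_of_exact S hS W (evId δ (bas R I k W)) (hδ0 k)
  obtain ⟨T, hT, hT'⟩ := exists_common_sieve (J := J) (V := W)
    (fun k W' g => ∃ m : S.X₁.val.obj (op W'),
      S.f.val.app (op W') m = rs S.X₂ g (evId δ (bas R I k W))) h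
  refine ⟨T, hT, ?_⟩
  intro W' g hg
  choose t ht using hT' g hg
  have hA : (S.X₁.over W').freeHomEquiv.symm (fun k => secOver S.X₁ W' (t k)) ≫
      (SheafOfModules.overFunctor R W').map S.f = πOver R I W' ≫ resHom g δ := by
    unfold πOver
    rw [SheafOfModules.freeHomEquiv_symm_comp, SheafOfModules.freeHomEquiv_symm_comp]
    congr 1
    funext k
    rw [sectionsMap_over_secOver, ht k]
    have h3 := sectionsMap_resHom_secOver g δ (bas R I k W)
    rw [rs_bas] at h3
    exact h3.symm
  refine ⟨(SheafOfModules.overFunctor R W').map ι ≫ inv (πOver R I W') ≫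
    (S.X₁.over W').freeHomEquiv.symm (fun k => secOver S.X₁ W' (t k)), ?_⟩
  rw [Category.assoc, Category.assoc, hA, IsIso.inv_hom_id_assoc, hδ, resHom_comp, resHom_map,
    ← Category.assoc, ← CategoryTheory.Functor.map_comp, hιq, CategoryTheory.Functor.map_id,
    Category.id_comp]

end Groth.Agent.Helper7.MSL1
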