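import Groth.Agent.Lib.Helper7.MSL1

/-! # Local null-homotopies of maps out of a strictly perfect complex into an acyclic complex of
sheaves of modules on a site. -/

set_option autoImplicit false
universe u
open CategoryTheory CategoryTheory.Limits Opposite

namespace Groth.Agent.Helper7.MSL2
open Groth.Agent.LD.RSp Groth.Agent.Helper7.MSL1

variable {C : Type u} [SmallCategory C] {J : GrothendieckTopology C} {R : Sheaf J RingCat.{u}}

/-- partial null-homotopy data in degrees `≥ k`, over the slice at `W`. -/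
def PartialNullAt (W : C) {E K : CochainComplex (SheafOfModules.{u} R) ℤ} (β : E ⟶ K) (k : ℤ) :
    Prop :=
  ∃ h : ∀ i j : ℤ, (E.X i).over W ⟶ (K.X j).over W,
    ∀ i₀ i₁ i₂ : ℤ, i₀ + 1 = i₁ → i₁ + 1 = i₂ → k ≤ i₁ →
      (SheafOfModules.overFunctor R W).map (β.f i₁) =
        h i₁ i₀ ≫ (SheafOfModules.overFunctor R W).map (K.d i₀ i₁) +
          (SheafOfModules.overFunctor R W).map (E.d i₁ i₂) ≫ h i₂ i₁

lemma PartialNullAt.restrict {W W' : C} (g : W' ⟶ W)
    {E K : CochainComplex (SheafOfModules.{u} R) ℤ} {β : E ⟶ K} {k : ℤ}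
    (h : PartialNullAt W β k) : PartialNullAt W' β k := by
  obtain ⟨h, hh⟩ := h
  refine ⟨fun i j => resHom g (h i j), fun i₀ i₁ i₂ h01 h12 hi => ?_⟩
  have h1 := congrArg (resHom g) (hh i₀ i₁ i₂ h01 h12 hi)
  rw [resHom_map, resHom_add, resHom_comp, resHom_comp, resHom_map, resHom_map] at h1
  exact h1

lemma exists_update {D : Type*} [Category D] {A B : ℤ → D} (h : ∀ i j, A i ⟶ B j) (i₀ j₀ : ℤ)
    (ψ : A i₀ ⟶ B j₀) :
    ∃ h' : ∀ i j, A i ⟶ B j, h' i₀ j₀ = ψ ∧ ∀ i j, (i ≠ i₀ ∨ j ≠ j₀) → h' i j = h i j := by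
  classical
  refine ⟨fun i j => if hij : i = i₀ ∧ j = j₀ then
    eqToHom (by rw [hij.1]) ≫ ψ ≫ eqToHom (by rw [hij.2]) else h i j, ?_, ?_⟩
  · simp
  · intro i j hij
    have : ¬ (i = i₀ ∧ j = j₀) := by tauto
    simp [this]

/-- the one-step extension of a partial null-homotopy, locally. -/
theorem PartialNullAt.step {E K : CochainComplex (SheafOfModules.{u} R) ℤ} (β : E ⟶ K) (k : ℤ)
    (hE : ∃ (n : ℕ) (i : E.X k ⟶ SheafOfModules.free (R := R) (ULift.{u} (Fin n)))
      (p : SheafOfModules.free (R := R) (ULift.{u} (Fin n)) ⟶ E.X k), i ≫ p = 𝟙 (E.X k))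
    (hK : K.ExactAt k) (W : C) (h : PartialNullAt W β (k + 1)) :
    ∃ T ∈ J W, ∀ ⦃W' : C⦄ (g : W' ⟶ W), T g → PartialNullAt W' β k := by
  obtain ⟨h, hh⟩ := h
  obtain ⟨n, ι, q, hιq⟩ := hE
  obtain ⟨γ, hγdef⟩ : ∃ γ : (E.X k).over W ⟶ (K.X k).over W,
      γ = (SheafOfModules.overFunctor R W).map (β.f k) -
        (SheafOfModules.overFunctor R W).map (E.d k (k + 1)) ≫ h (k + 1) k := ⟨_, rfl⟩
  have hγ : γ ≫ (SheafOfModules.overFunctor R W).map (K.d k (k + 1)) = 0 := by
    have h1 := hh k (k + 1) (k + 1 + 1) rfl rfl le_rfl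
    have h2 : (SheafOfModules.overFunctor R W).map (β.f k) ≫
        (SheafOfModules.overFunctor R W).map (K.d k (k + 1)) =
        (SheafOfModules.overFunctor R W).map (E.d k (k + 1)) ≫
          (SheafOfModules.overFunctor R W).map (β.f (k + 1)) := by
      rw [← CategoryTheory.Functor.map_comp, ← CategoryTheory.Functor.map_comp, β.comm k (k + 1)]
    have h3 : (SheafOfModules.overFunctor R W).map (E.d k (k + 1)) ≫
        (SheafOfModules.overFunctor R W).map (E.d (k + 1) (k + 1 + 1)) = 0 := by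
      rw [← CategoryTheory.Functor.map_comp, E.d_comp_d, Functor.map_zero]
    rw [hγdef, Preadditive.sub_comp, h2, h1, Preadditive.comp_add, Category.assoc,
      ← Category.assoc ((SheafOfModules.overFunctor R W).map (E.d k (k + 1)))
        ((SheafOfModules.overFunctor R W).map (E.d (k + 1) (k + 1 + 1))), h3, zero_comp, add_zero,
      sub_self]
  have hS : (K.sc' (k - 1) k (k + 1)).Exact :=
    (K.exactAt_iff' (k - 1) k (k + 1) (by simp) (by simp)).1 hK
  obtain ⟨T, hT, hT'⟩ := exists_local_lift ι q hιq (K.sc' (k - 1) k (k + 1)) hS W γ hγ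
  refine ⟨T, hT, fun W' g hg => ?_⟩
  obtain ⟨ψ, hψ⟩ := hT' g hg
  have hγ' : resHom g γ = (SheafOfModules.overFunctor R W').map (β.f k) -
      (SheafOfModules.overFunctor R W').map (E.d k (k + 1)) ≫ resHom g (h (k + 1) k) := by
    rw [hγdef, resHom_sub, resHom_comp, resHom_map, resHom_map]
  obtain ⟨h', h'1, h'2⟩ := exists_update (A := fun i => (E.X i).over W')
    (B := fun j => (K.X j).over W') (fun i j => resHom g (h i j)) k (k - 1) ψ
  refine ⟨h', ?_⟩
  intro i₀ i₁ i₂ h01 h12 hi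
  subst h01 h12
  by_cases hk : i₀ + 1 = k
  · subst hk
    rw [h'2 (i₀ + 1 + 1) (i₀ + 1) (Or.inl (by omega))]
    have key : ∀ (m : ℤ) (hm : m = i₀ + 1 - 1),
        h' (i₀ + 1) m ≫ (SheafOfModules.overFunctor R W').map (K.d m (i₀ + 1)) =
          resHom g γ := by
      intro m hm
      subst hm
      rw [h'1]
      exact hψ
    rw [key i₀ (by omega), hγ', sub_add_cancel]
  · rw [h'2 _ _ (Or.inl hk), h'2 _ _ (Or.inl (by omega))]
    have h1 := congrArg (resHom g) (hh i₀ (i₀ + 1) (i₀ + 1 + 1) rfl rfl (by omega))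
    rw [resHom_map, resHom_add, resHom_comp, resHom_comp, resHom_map, resHom_map] at h1
    exact h1

/-- iterating the one-step extension. -/
theorem PartialNullAt.iterate {E K : CochainComplex (SheafOfModules.{u} R) ℤ} (β : E ⟶ K)
    (hE : ∀ k : ℤ, ∃ (n : ℕ) (i : E.X k ⟶ SheafOfModules.free (R := R) (ULift.{u} (Fin n)))
      (p : SheafOfModules.free (R := R) (ULift.{u} (Fin n)) ⟶ E.X k), i ≫ p = 𝟙 (E.X k))
    (a : ℤ) (hK : ∀ n : ℤ, a ≤ n → K.ExactAt n) (m : ℕ) :
    ∀ (W : C), PartialNullAt W β (a + m) →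
      ∃ T ∈ J W, ∀ ⦃W' : C⦄ (g : W' ⟶ W), T g → PartialNullAt W' β a := by
  induction m with
  | zero =>
    intro W h
    refine ⟨⊤, J.top_mem W, fun W' g _ => PartialNullAt.restrict g ?_⟩
    simpa using h
  | succ m ih =>
    intro W h
    have h' : PartialNullAt W β ((a + m) + 1) := by
      have e : a + ((m + 1 : ℕ) : ℤ) = (a + m) + 1 := by push_cast; ring
      rwa [e] at h
    obtain ⟨T, hT, hT'⟩ := PartialNullAt.step β (a + m) (hE _) (hK _ (by omega)) W h'
    have h2 : ∀ (W' : C) (g : W' ⟶ W), T g → ∃ T' ∈ J W', ∀ ⦃W'' : C⦄ (g' : W'' ⟶ W'), T' g' →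
        PartialNullAt W'' β a := fun W' g hg => ih W' (hT' g hg)
    choose T' hT'1 hT'2 using h2
    refine ⟨Sieve.bind T (fun Y f hf => T' Y f hf),
      J.bind_covering hT (fun Y f hf => hT'1 Y f hf), ?_⟩
    rintro W'' _ ⟨W', g', g, hg, hg', rfl⟩
    exact hT'2 W' g hg g' hg'

lemma homotopy_of_partialNullAt {E K : CochainComplex (SheafOfModules.{u} R) ℤ} (β : E ⟶ K)
    (a : ℤ) (hEa : ∀ i : ℤ, i < a → IsZero (E.X i)) (W : C) (h : PartialNullAt W β a) :
    Nonempty (Homotopy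
      (((SheafOfModules.overFunctor R W).mapHomologicalComplex (ComplexShape.up ℤ)).map β) 0) := by
  classical
  obtain ⟨h, hh⟩ := h
  refine ⟨{ hom := fun i j => if j + 1 = i then h i j else 0
            zero := fun i j hij => by
              have : ¬ (j + 1 = i) := hij
              simp [this]
            comm := fun i => ?_ }⟩
  by_cases hi : i < a
  · exact ((SheafOfModules.overFunctor R W).map_isZero (hEa i hi)).eq_of_src _ _
  · rw [dNext_eq _ (show (ComplexShape.up ℤ).Rel i (i + 1) from rfl),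
      prevD_eq _ (show (ComplexShape.up ℤ).Rel (i - 1) i by simp)]
    simp only [if_pos, sub_add_cancel, HomologicalComplex.zero_f, add_zero]
    have h1 := hh (i - 1) i (i + 1) (by omega) rfl (by omega)
    exact h1.trans (add_comm _ _)

/-- a map from a strictly perfect complex vanishing below `a` to a complex exact in degrees
`≥ a` is locally null-homotopic. -/
theorem exists_nullHomotopy {E K : CochainComplex (SheafOfModules.{u} R) ℤ} (β : E ⟶ K)
    (hb : ∃ a b : ℤ, ∀ i : ℤ, i < a ∨ b < i → IsZero (E.X i))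
    (hE : ∀ k : ℤ, ∃ (n : ℕ) (i : E.X k ⟶ SheafOfModules.free (R := R) (ULift.{u} (Fin n)))
      (p : SheafOfModules.free (R := R) (ULift.{u} (Fin n)) ⟶ E.X k), i ≫ p = 𝟙 (E.X k))
    (a : ℤ) (hEa : ∀ i : ℤ, i < a → IsZero (E.X i)) (hK : ∀ n : ℤ, a ≤ n → K.ExactAt n)
    (V : C) :
    ∃ T ∈ J V, ∀ ⦃W : C⦄ (g : W ⟶ V), T g → Nonempty (Homotopy
      (((SheafOfModules.overFunctor R W).mapHomologicalComplex (ComplexShape.up ℤ)).map β) 0) := by
  obtain ⟨a', b, hab⟩ := hb
  have h0 : PartialNullAt V β (a + ((b + 1 - a).toNat : ℤ)) := by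
    refine ⟨fun _ _ => 0, fun i₀ i₁ i₂ _ _ hi => ?_⟩
    exact ((SheafOfModules.overFunctor R V).map_isZero
      (hab i₁ (Or.inr (by omega)))).eq_of_src _ _
  obtain ⟨T, hT, hT'⟩ := PartialNullAt.iterate β hE a hK _ V h0
  exact ⟨T, hT, fun W g hg => homotopy_of_partialNullAt β a hEa W (hT' g hg)⟩

end Groth.Agent.Helper7.MSL2
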