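import Mathlib
import Groth.Agent.H4.PCS1

/-! # Generic homological algebra: lifting up to homotopy from a null-homotopy into the cone;
chain-map representatives of morphisms in the derived category. -/

set_option autoImplicit false
universe w₁ w₂ v₁ v₂ u₁ u₂
open CategoryTheory CategoryTheory.Limits DerivedCategory Pretriangulated
open Groth.Agent.H4.TilD9 Groth.Agent.H4.PCS1

namespace Groth.Agent.Helper7.MSL3

section Lift

variable {A : Type u₁} [Category.{v₁} A] [Abelian A] {B : Type u₂} [Category.{v₂} B] [Abelian B]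
  (R : A ⥤ B) [R.Additive]

/-- from a null-homotopy of `R(α ≫ inr f)` to a lift of `R α` through `R f` up to homotopy. -/
theorem exists_lift_of_nullHomotopy {E F G : CochainComplex A ℤ} (α : E ⟶ F) (f : G ⟶ F)
    (H : Homotopy ((R.mapHomologicalComplex (ComplexShape.up ℤ)).map
      (α ≫ CochainComplex.mappingCone.inr f)) 0) :
    ∃ β : (R.mapHomologicalComplex (ComplexShape.up ℤ)).obj E ⟶
        (R.mapHomologicalComplex (ComplexShape.up ℤ)).obj G,
      Nonempty (Homotopy (β ≫ (R.mapHomologicalComplex (ComplexShape.up ℤ)).map f)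
        ((R.mapHomologicalComplex (ComplexShape.up ℤ)).map α)) := by
  let f' : (R.mapHomologicalComplex (ComplexShape.up ℤ)).obj G ⟶
      (R.mapHomologicalComplex (ComplexShape.up ℤ)).obj F :=
    (R.mapHomologicalComplex (ComplexShape.up ℤ)).map f
  let α' : (R.mapHomologicalComplex (ComplexShape.up ℤ)).obj E ⟶
      (R.mapHomologicalComplex (ComplexShape.up ℤ)).obj F :=
    (R.mapHomologicalComplex (ComplexShape.up ℤ)).map α
  have h0 : (HomotopyCategory.quotient _ _).map α' ≫
      (HomotopyCategory.quotient _ _).map (CochainComplex.mappingCone.inr f') = 0 := by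
    have h1 := CochainComplex.mappingCone.map_inr f R
    have h3 : CochainComplex.mappingCone.inr f' =
        (R.mapHomologicalComplex (ComplexShape.up ℤ)).map (CochainComplex.mappingCone.inr f) ≫
          (CochainComplex.mappingCone.mapHomologicalComplexIso f R).hom := h1.symm
    rw [h3, ← Functor.map_comp, ← Category.assoc]
    have h4 : α' ≫ (R.mapHomologicalComplex (ComplexShape.up ℤ)).map
        (CochainComplex.mappingCone.inr f) =
        (R.mapHomologicalComplex (ComplexShape.up ℤ)).map
          (α ≫ CochainComplex.mappingCone.inr f) := by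
      rw [Functor.map_comp]
    rw [h4, Functor.map_comp, HomotopyCategory.eq_of_homotopy _ _ H]
    simp
  have hTh := HomotopyCategory.mappingCone_triangleh_distinguished f'
  obtain ⟨βbar, hβbar⟩ : ∃ βbar : (HomotopyCategory.quotient B (ComplexShape.up ℤ)).obj
        ((R.mapHomologicalComplex (ComplexShape.up ℤ)).obj E) ⟶
        (HomotopyCategory.quotient B (ComplexShape.up ℤ)).obj
        ((R.mapHomologicalComplex (ComplexShape.up ℤ)).obj G),
      (HomotopyCategory.quotient _ _).map α' =
        βbar ≫ (HomotopyCategory.quotient B (ComplexShape.up ℤ)).map f' :=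
    Pretriangulated.Triangle.coyoneda_exact₂ _ hTh ((HomotopyCategory.quotient _ _).map α') h0
  obtain ⟨β, rfl⟩ : ∃ β : (R.mapHomologicalComplex (ComplexShape.up ℤ)).obj E ⟶
      (R.mapHomologicalComplex (ComplexShape.up ℤ)).obj G,
      (HomotopyCategory.quotient B (ComplexShape.up ℤ)).map β = βbar :=
    (HomotopyCategory.quotient B (ComplexShape.up ℤ)).map_surjective βbar
  refine ⟨β, ⟨HomotopyCategory.homotopyOfEq _ _ ?_⟩⟩
  rw [Functor.map_comp]
  exact hβbar.symm

end Lift

section Cone

attribute [local instance] HasDerivedCategory.standard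

variable {A : Type u₁} [Category.{v₁} A] [Abelian A]

/-- the cone of a map inducing isomorphisms on `H^j` for `j > a` and an epimorphism on `H^a` is
exact in degrees `≥ a`. -/
lemma exactAt_mappingCone_of_isWitCx {G F : CochainComplex A ℤ} (f : G ⟶ F) (a : ℤ)
    (hf : IsWitCx a f) (n : ℤ) (hn : a ≤ n) : (CochainComplex.mappingCone f).ExactAt n := by
  have hT := mappingCone_triangle_distinguished f
  haveI : (Q.obj (CochainComplex.mappingCone f)).IsLE (a - 1) :=
    (isWitD_iff_isLE _ hT a).1 ((isWitD_Q_map_iff f).2 hf)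
  rw [HomologicalComplex.exactAt_iff_isZero_homology]
  exact (isZero_of_isLE (Q.obj (CochainComplex.mappingCone f)) (a - 1) n (by omega)).of_iso
    ((homologyFunctorFactors A n).app (CochainComplex.mappingCone f)).symm

end Cone

section Derived

variable {A : Type u₁} [Category.{v₁} A] [Abelian A] {B : Type u₂} [Category.{v₂} B] [Abelian B]
  [HasDerivedCategory.{w₁} A] [HasDerivedCategory.{w₂} B]

/-- the cone of a quasi-isomorphism is acyclic. -/
lemma exactAt_mappingCone_of_isIso {X' E : CochainComplex A ℤ} (s : X' ⟶ E)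
    (hs : IsIso (Q.map s)) (n : ℤ) : (CochainComplex.mappingCone s).ExactAt n := by
  have hT := mappingCone_triangle_distinguished s
  have hz : IsZero (Q.obj (CochainComplex.mappingCone s)) :=
    (Triangle.isZero₃_iff_isIso₁ _ hT).2 hs
  rw [HomologicalComplex.exactAt_iff_isZero_homology]
  exact IsZero.of_iso ((homologyFunctor A n).map_isZero hz)
    ((homologyFunctorFactors A n).app _).symm

variable (R : A ⥤ B) [R.Additive] [PreservesFiniteLimits R] [PreservesFiniteColimits R]

lemma mapDerivedCategory_map_Q {F G : CochainComplex A ℤ} (f : F ⟶ G) :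
    R.mapDerivedCategory.map (Q.map f) = R.mapDerivedCategoryFactors.hom.app F ≫
      Q.map ((R.mapHomologicalComplex (ComplexShape.up ℤ)).map f) ≫
        R.mapDerivedCategoryFactors.inv.app G := by
  have h := R.mapDerivedCategoryFactors.hom.naturality f
  rw [← cancel_mono (R.mapDerivedCategoryFactors.hom.app G)]
  simp only [Category.assoc, Iso.inv_hom_id_app]
  refine h.trans ?_
  exact congrArg (fun x => R.mapDerivedCategoryFactors.hom.app F ≫ x)
    (Category.comp_id (Q.map ((R.mapHomologicalComplex (ComplexShape.up ℤ)).map f))).symm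

/-- from a null-homotopy of `R(inr s)`, `s` a quasi-isomorphism, to a chain-map representative
of `R(Q(s)⁻¹ ≫ Q(g₀))`. -/
theorem exists_chainMap_of_nullHomotopy {E X' F : CochainComplex A ℤ} (s : X' ⟶ E)
    (hs : IsIso (Q.map s)) (g₀ : X' ⟶ F) (α : Q.obj E ⟶ Q.obj F)
    (hα : α = inv (Q.map s) ≫ Q.map g₀)
    (H : Homotopy ((R.mapHomologicalComplex (ComplexShape.up ℤ)).map
      (CochainComplex.mappingCone.inr s)) 0) :
    ∃ g : (R.mapHomologicalComplex (ComplexShape.up ℤ)).obj E ⟶
        (R.mapHomologicalComplex (ComplexShape.up ℤ)).obj F,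
      R.mapDerivedCategory.map α = R.mapDerivedCategoryFactors.hom.app E ≫ Q.map g ≫
        R.mapDerivedCategoryFactors.inv.app F := by
  let s' : (R.mapHomologicalComplex (ComplexShape.up ℤ)).obj X' ⟶
      (R.mapHomologicalComplex (ComplexShape.up ℤ)).obj E :=
    (R.mapHomologicalComplex (ComplexShape.up ℤ)).map s
  have h0 : (HomotopyCategory.quotient _ _).map (CochainComplex.mappingCone.inr s') = 0 := by
    have h1 := CochainComplex.mappingCone.map_inr s R
    have h2 : (HomotopyCategory.quotient _ _).map
        ((R.mapHomologicalComplex (ComplexShape.up ℤ)).map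
          (CochainComplex.mappingCone.inr s)) = 0 := by
      rw [HomotopyCategory.eq_of_homotopy _ _ H]
      simp
    have h3 : CochainComplex.mappingCone.inr s' =
        (R.mapHomologicalComplex (ComplexShape.up ℤ)).map (CochainComplex.mappingCone.inr s) ≫
          (CochainComplex.mappingCone.mapHomologicalComplexIso s R).hom := h1.symm
    rw [h3, Functor.map_comp, h2, zero_comp]
  have hT := HomotopyCategory.mappingCone_triangleh_distinguished s'
  have key : ∃ tbar : (HomotopyCategory.quotient B (ComplexShape.up ℤ)).obj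
        ((R.mapHomologicalComplex (ComplexShape.up ℤ)).obj E) ⟶
        (HomotopyCategory.quotient B (ComplexShape.up ℤ)).obj
        ((R.mapHomologicalComplex (ComplexShape.up ℤ)).obj X'),
      𝟙 _ = tbar ≫ (HomotopyCategory.quotient B (ComplexShape.up ℤ)).map s' :=
    Pretriangulated.Triangle.coyoneda_exact₂ _ hT
      (𝟙 ((HomotopyCategory.quotient _ _).obj
        ((R.mapHomologicalComplex (ComplexShape.up ℤ)).obj E)))
      ((Category.id_comp _).trans h0)
  obtain ⟨tbar, htbar⟩ := key
  obtain ⟨t, ht⟩ : ∃ t : (R.mapHomologicalComplex (ComplexShape.up ℤ)).obj E ⟶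
      (R.mapHomologicalComplex (ComplexShape.up ℤ)).obj X',
      (HomotopyCategory.quotient B (ComplexShape.up ℤ)).map t = tbar :=
    (HomotopyCategory.quotient B (ComplexShape.up ℤ)).map_surjective tbar
  subst ht
  have hts : Q.map t ≫ Q.map s' =
      𝟙 (Q.obj ((R.mapHomologicalComplex (ComplexShape.up ℤ)).obj E)) := by
    rw [← Q.map_comp, ← Q.map_id]
    apply Q_map_eq_of_homotopy
    apply HomotopyCategory.homotopyOfEq
    rw [Functor.map_comp, CategoryTheory.Functor.map_id]
    exact htbar.symm
  refine ⟨t ≫ (R.mapHomologicalComplex (ComplexShape.up ℤ)).map g₀, ?_⟩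
  haveI := hs
  have hα' : Q.map s ≫ α = Q.map g₀ := by
    rw [hα, IsIso.hom_inv_id_assoc]
  have h5 := congrArg (fun f => R.mapDerivedCategory.map f) hα'
  simp only [Functor.map_comp] at h5
  rw [mapDerivedCategory_map_Q, mapDerivedCategory_map_Q] at h5
  have h6 : Q.map s' ≫ R.mapDerivedCategoryFactors.inv.app E ≫ R.mapDerivedCategory.map α =
      Q.map ((R.mapHomologicalComplex (ComplexShape.up ℤ)).map g₀) ≫
        R.mapDerivedCategoryFactors.inv.app F := by
    rw [← cancel_epi (R.mapDerivedCategoryFactors.hom.app X')]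
    simpa only [Category.assoc] using h5
  have h7 : R.mapDerivedCategoryFactors.inv.app E ≫ R.mapDerivedCategory.map α =
      Q.map t ≫ Q.map ((R.mapHomologicalComplex (ComplexShape.up ℤ)).map g₀) ≫
        R.mapDerivedCategoryFactors.inv.app F := by
    rw [← h6, ← Category.assoc (Q.map t), hts, Category.id_comp]
  rw [Q.map_comp, Category.assoc, ← h7, Iso.hom_inv_id_app_assoc]

end Derived

end Groth.Agent.Helper7.MSL3
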