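import Groth.Prelude.Def_W4SpPerfMV
import Groth.Prelude.Def_AlgSpSub
import Mathlib

set_option autoImplicit false
universe u
open CategoryTheory CategoryTheory.Limits AlgebraicGeometry Opposite

namespace Groth.Agent.H7.MV

open _root_.AlgSp

variable {S : Scheme.{u}} {X : Sp S}

/-- exactness of abelian sheaves can be checked on sections. -/
theorem exact_of_sections_ab (T : ShortComplex (Sheaf (etTop X) AddCommGrpCat.{u + 1}))
    (h : ∀ (U : (EtOver X)ᵒᵖ) (x : T.X₂.obj.obj U), T.g.hom.app U x = 0 → ∃ y, T.f.hom.app U y = x) :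
    T.Exact := by
  let P : ShortComplex ((EtOver X)ᵒᵖ ⥤ AddCommGrpCat.{u + 1}) :=
    T.map (sheafToPresheaf (etTop X) AddCommGrpCat.{u + 1})
  have hP : P.Exact := by
    rw [ShortComplex.exact_iff_isZero_homology, Functor.isZero_iff]
    intro U
    refine IsZero.of_iso ?_ (P.mapHomologyIso ((evaluation _ _).obj U)).symm
    rw [← ShortComplex.exact_iff_isZero_homology, ShortComplex.ab_exact_iff]
    intro x hx
    exact h U x hx
  haveI : PreservesFiniteLimits (presheafToSheaf (etTop X) AddCommGrpCat.{u + 1}) := inferInstance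
  haveI : PreservesFiniteColimits (presheafToSheaf (etTop X) AddCommGrpCat.{u + 1}) := inferInstance
  have h2 : (P.map (presheafToSheaf (etTop X) AddCommGrpCat.{u + 1})).Exact := hP.map _
  let e : sheafToPresheaf (etTop X) AddCommGrpCat.{u + 1} ⋙
      presheafToSheaf (etTop X) AddCommGrpCat.{u + 1} ≅ 𝟭 _ :=
    asIso (sheafificationAdjunction (etTop X) AddCommGrpCat.{u + 1}).counit
  have e2 : P.map (presheafToSheaf (etTop X) AddCommGrpCat.{u + 1}) ≅ T :=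
    (T.mapNatIso e : T.map (sheafToPresheaf (etTop X) AddCommGrpCat.{u + 1} ⋙
      presheafToSheaf (etTop X) AddCommGrpCat.{u + 1}) ≅ T.map (𝟭 _))
  exact ShortComplex.exact_of_iso e2 h2

/-- short exactness of sheaves of modules on the small etale site can be checked on sections,
with local surjectivity on the right. -/
theorem shortExact_of_sections (T : ShortComplex (ModEt X))
    (h1 : ∀ U, Function.Injective (T.f.val.app U))
    (h2 : ∀ (U : (EtOver X)ᵒᵖ) (x : T.X₂.val.obj U), T.g.val.app U x = 0 → ∃ y, T.f.val.app U y = x)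
    (h3 : ∀ (W : EtOver X) (r : T.X₃.val.obj (op W)),
      ∃ R ∈ etTop X W, ∀ ⦃Z : EtOver X⦄ (φ : Z ⟶ W), R φ →
        ∃ t : T.X₂.val.obj (op Z), T.g.val.app (op Z) t = T.X₃.val.map φ.op r) : T.ShortExact := by
  let G := SheafOfModules.toSheaf.{u + 1} (OEtRing X)
  have hmG : Mono (G.map T.f) := by
    haveI : Mono (G.map T.f).hom := by
      apply @NatTrans.mono_of_mono_app _ _ _ _ _ _ _ ?_
      intro U
      rw [AddCommGrpCat.mono_iff_injective]
      exact h1 U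
    exact Sheaf.Hom.mono_of_presheaf_mono _ _ _
  have hexG : (T.map G).Exact := by
    apply exact_of_sections_ab
    intro U x hx
    exact h2 U x hx
  have hker : Nonempty (IsLimit (KernelFork.ofι T.f T.zero)) := by
    obtain ⟨hl⟩ := (T.map G).exact_and_mono_f_iff_f_is_kernel.1 ⟨hexG, hmG⟩
    have hl' : IsLimit ((KernelFork.ofι T.f T.zero).map G) := hl
    exact ⟨isLimitOfReflects G ((KernelFork.isLimitMapConeEquiv _ G).symm hl')⟩
  obtain ⟨hex, hm⟩ := T.exact_and_mono_f_iff_f_is_kernel.2 hker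
  have he : Epi T.g := by
    apply (SheafOfModules.toSheaf.{u + 1} (OEtRing X)).epi_of_epi_map
    apply (Sheaf.isLocallySurjective_iff_epi'
      (φ := (SheafOfModules.toSheaf.{u + 1} (OEtRing X)).map T.g)).mp
    refine ⟨fun {W} r => ?_⟩
    obtain ⟨R, hR, hR'⟩ := h3 W r
    refine (etTop X).superset_covering ?_ hR
    intro Z φ hφ
    obtain ⟨t, ht⟩ := hR' φ hφ
    exact ⟨t, ht⟩
  exact { exact := hex }

end Groth.Agent.H7.MV

namespace Groth.Agent.H7.MV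

open _root_.AlgSp

variable {S : Scheme.{u}} {X : Sp S}

section Biprod

variable {P Q₁ Q₂ R : ModEt X}

theorem comp_app {A B C' : ModEt X} (f : A ⟶ B) (g : B ⟶ C') (W : (EtOver X)ᵒᵖ)
    (x : A.val.obj W) : (f ≫ g).val.app W x = g.val.app W (f.val.app W x) := rfl

theorem add_app {A B : ModEt X} (f g : A ⟶ B) (W : (EtOver X)ᵒᵖ)
    (x : A.val.obj W) : (f + g).val.app W x = f.val.app W x + g.val.app W x := rfl

theorem neg_app {A B : ModEt X} (f : A ⟶ B) (W : (EtOver X)ᵒᵖ)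
    (x : A.val.obj W) : (-f).val.app W x = - f.val.app W x := rfl

theorem id_app {A : ModEt X} (W : (EtOver X)ᵒᵖ) (x : A.val.obj W) :
    (𝟙 A : A ⟶ A).val.app W x = x := rfl

lemma biprod_total_app (W : (EtOver X)ᵒᵖ) (t : (Q₁ ⊞ Q₂).val.obj W) :
    t = (biprod.inl : Q₁ ⟶ Q₁ ⊞ Q₂).val.app W ((biprod.fst : Q₁ ⊞ Q₂ ⟶ Q₁).val.app W t) +
      (biprod.inr : Q₂ ⟶ Q₁ ⊞ Q₂).val.app W ((biprod.snd : Q₁ ⊞ Q₂ ⟶ Q₂).val.app W t) := by
  have h : ((biprod.fst ≫ biprod.inl + biprod.snd ≫ biprod.inr :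
      Q₁ ⊞ Q₂ ⟶ Q₁ ⊞ Q₂).val.app W) t = t := by
    rw [biprod.total]
    rfl
  rw [add_app, comp_app, comp_app] at h
  exact h.symm

/-- the sectionwise criterion for the Mayer–Vietoris type sequence. -/
theorem shortExact_biprod (a₁ : P ⟶ Q₁) (a₂ : P ⟶ Q₂) (b₁ : Q₁ ⟶ R) (b₂ : Q₂ ⟶ R)
    (w : a₁ ≫ b₁ = a₂ ≫ b₂)
    (h1 : ∀ (W : (EtOver X)ᵒᵖ) (s : P.val.obj W), a₁.val.app W s = 0 → a₂.val.app W s = 0 → s = 0)
    (h2 : ∀ (W : (EtOver X)ᵒᵖ) (t₁ : Q₁.val.obj W) (t₂ : Q₂.val.obj W),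
      b₁.val.app W t₁ = b₂.val.app W t₂ → ∃ s, a₁.val.app W s = t₁ ∧ a₂.val.app W s = t₂)
    (h3 : ∀ (W : EtOver X) (r : R.val.obj (op W)),
      ∃ Sv ∈ etTop X W, ∀ ⦃Z : EtOver X⦄ (φ : Z ⟶ W), Sv φ →
        ∃ (t₁ : Q₁.val.obj (op Z)) (t₂ : Q₂.val.obj (op Z)),
          b₁.val.app (op Z) t₁ - b₂.val.app (op Z) t₂ = R.val.map φ.op r) :
    ∃ h : biprod.lift a₁ a₂ ≫ biprod.desc b₁ (-b₂) = 0,
      (ShortComplex.mk _ _ h).ShortExact := by
  have hz : biprod.lift a₁ a₂ ≫ biprod.desc b₁ (-b₂) = 0 := by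
    rw [biprod.lift_desc, Preadditive.comp_neg, w, add_neg_cancel]
  refine ⟨hz, ?_⟩
  have lift_fst : ∀ (W : (EtOver X)ᵒᵖ) (s : P.val.obj W),
      (biprod.fst : Q₁ ⊞ Q₂ ⟶ Q₁).val.app W ((biprod.lift a₁ a₂).val.app W s) =
        a₁.val.app W s := by
    intro W s
    rw [← comp_app, biprod.lift_fst]
  have lift_snd : ∀ (W : (EtOver X)ᵒᵖ) (s : P.val.obj W),
      (biprod.snd : Q₁ ⊞ Q₂ ⟶ Q₂).val.app W ((biprod.lift a₁ a₂).val.app W s) =
        a₂.val.app W s := by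
    intro W s
    rw [← comp_app, biprod.lift_snd]
  have desc_inl : ∀ (W : (EtOver X)ᵒᵖ) (x : Q₁.val.obj W),
      (biprod.desc b₁ (-b₂)).val.app W ((biprod.inl : Q₁ ⟶ Q₁ ⊞ Q₂).val.app W x) =
        b₁.val.app W x := by
    intro W x
    rw [← comp_app, biprod.inl_desc]
  have desc_inr : ∀ (W : (EtOver X)ᵒᵖ) (y : Q₂.val.obj W),
      (biprod.desc b₁ (-b₂)).val.app W ((biprod.inr : Q₂ ⟶ Q₁ ⊞ Q₂).val.app W y) =
        - b₂.val.app W y := by
    intro W y
    rw [← comp_app, biprod.inr_desc, neg_app]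
  refine shortExact_of_sections (ShortComplex.mk _ _ hz) ?_ ?_ ?_
  · intro W
    change Function.Injective ((biprod.lift a₁ a₂).val.app W)
    rw [injective_iff_map_eq_zero]
    intro s hs
    apply h1 W s
    · rw [← lift_fst, hs, map_zero]
    · rw [← lift_snd, hs, map_zero]
  · intro W t ht
    have ht' := biprod_total_app W t
    change (biprod.desc b₁ (-b₂)).val.app W t = 0 at ht
    rw [ht', map_add, desc_inl, desc_inr] at ht
    obtain ⟨s, hs₁, hs₂⟩ := h2 W _ _ (add_neg_eq_zero.1 ht)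
    refine ⟨s, ?_⟩
    change (biprod.lift a₁ a₂).val.app W s = t
    rw [biprod_total_app W ((biprod.lift a₁ a₂).val.app W s), lift_fst, lift_snd, hs₁, hs₂]
    exact ht'.symm
  · intro W r
    obtain ⟨Sv, hSv, hS⟩ := h3 W r
    refine ⟨Sv, hSv, fun Z φ hφ => ?_⟩
    obtain ⟨t₁, t₂, ht⟩ := hS φ hφ
    refine ⟨(biprod.inl : Q₁ ⟶ Q₁ ⊞ Q₂).val.app (op Z) t₁ +
      (biprod.inr : Q₂ ⟶ Q₁ ⊞ Q₂).val.app (op Z) t₂, ?_⟩
    change (biprod.desc b₁ (-b₂)).val.app (op Z) _ = _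
    rw [map_add, desc_inl, desc_inr, ← sub_eq_add_neg, ht]

end Biprod

end Groth.Agent.H7.MV
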