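import Mathlib

/-!
# Abstract Mayer–Vietoris for a "distinguished pair" in a site with binary products

`U` subterminal, `V` arbitrary, `UV` a product of `U` and `V`.  Assuming that for every `W` the
two arrows `U ⨯ W ⟶ W`, `V ⨯ W ⟶ W` generate a sieve for which `P` is a sheaf, and the two arrows
`δ : V ⨯ W ⟶ V ⨯ (V ⨯ W)` (diagonal), `U ⨯ (V ⨯ (V ⨯ W)) ⟶ V ⨯ (V ⨯ W)` as well, we get the
sectionwise statements behind the Mayer–Vietoris short exact sequence.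
-/

set_option autoImplicit false
set_option backward.isDefEq.respectTransparency false
universe w v₁ u₁
open CategoryTheory CategoryTheory.Limits Opposite

namespace Groth.Agent.H7.MVAbs

variable {C : Type u₁} [Category.{v₁} C]

/-- the sieve generated by two arrows. -/
def sieve₂ {Y Y₁ Y₂ : C} (g₁ : Y₁ ⟶ Y) (g₂ : Y₂ ⟶ Y) : Sieve Y where
  arrows Z φ := (∃ ψ : Z ⟶ Y₁, ψ ≫ g₁ = φ) ∨ (∃ ψ : Z ⟶ Y₂, ψ ≫ g₂ = φ)
  downward_closed := by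
    rintro Z Z' φ (⟨ψ, rfl⟩ | ⟨ψ, rfl⟩) k
    · exact Or.inl ⟨k ≫ ψ, Category.assoc _ _ _⟩
    · exact Or.inr ⟨k ≫ ψ, Category.assoc _ _ _⟩

variable (P : Cᵒᵖ ⥤ AddCommGrpCat.{w})

/-- restriction of sections. -/
def res {A B : C} (f : A ⟶ B) : P.obj (op B) →+ P.obj (op A) := (P.map f.op).hom

lemma res_comp {A B D : C} (f : A ⟶ B) (g : B ⟶ D) (x : P.obj (op D)) :
    res P (f ≫ g) x = res P f (res P g x) := by
  simp [res]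

lemma res_id {A : C} (x : P.obj (op A)) : res P (𝟙 A) x = x := by simp [res]

lemma res_congr {A B : C} {f g : A ⟶ B} (h : f = g) (x : P.obj (op B)) : res P f x = res P g x := by
  rw [h]

theorem sep₂ {Y Y₁ Y₂ : C} (g₁ : Y₁ ⟶ Y) (g₂ : Y₂ ⟶ Y)
    (h : Presieve.IsSheafFor (P ⋙ forget AddCommGrpCat.{w}) (sieve₂ g₁ g₂).arrows)
    (x y : P.obj (op Y)) (h₁ : res P g₁ x = res P g₁ y) (h₂ : res P g₂ x = res P g₂ y) : x = y := by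
  refine h.isSeparatedFor.ext ?_
  rintro Z φ (⟨ψ, rfl⟩ | ⟨ψ, rfl⟩)
  · change res P (ψ ≫ g₁) x = res P (ψ ≫ g₁) y
    rw [res_comp, res_comp, h₁]
  · change res P (ψ ≫ g₂) x = res P (ψ ≫ g₂) y
    rw [res_comp, res_comp, h₂]

theorem glue₂ {Y Y₁ Y₂ : C} (g₁ : Y₁ ⟶ Y) (g₂ : Y₂ ⟶ Y)
    (h : Presieve.IsSheafFor (P ⋙ forget AddCommGrpCat.{w}) (sieve₂ g₁ g₂).arrows)
    (x₁ : P.obj (op Y₁)) (x₂ : P.obj (op Y₂))
    (c₁₁ : ∀ ⦃Z : C⦄ (a a' : Z ⟶ Y₁), a ≫ g₁ = a' ≫ g₁ → res P a x₁ = res P a' x₁)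
    (c₂₂ : ∀ ⦃Z : C⦄ (a a' : Z ⟶ Y₂), a ≫ g₂ = a' ≫ g₂ → res P a x₂ = res P a' x₂)
    (c₁₂ : ∀ ⦃Z : C⦄ (a : Z ⟶ Y₁) (b : Z ⟶ Y₂), a ≫ g₁ = b ≫ g₂ → res P a x₁ = res P b x₂) :
    ∃ x : P.obj (op Y), res P g₁ x = x₁ ∧ res P g₂ x = x₂ := by
  classical
  let fam : Presieve.FamilyOfElements (P ⋙ forget AddCommGrpCat.{w}) (sieve₂ g₁ g₂).arrows :=
    fun Z φ hφ => if h1 : ∃ ψ : Z ⟶ Y₁, ψ ≫ g₁ = φ then res P h1.choose x₁
      else res P (hφ.resolve_left h1).choose x₂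
  have fam₁ : ∀ {Z : C} (ψ : Z ⟶ Y₁) (hφ : (sieve₂ g₁ g₂).arrows (ψ ≫ g₁)),
      fam (ψ ≫ g₁) hφ = res P ψ x₁ := by
    intro Z ψ hφ
    have h1 : ∃ ψ' : Z ⟶ Y₁, ψ' ≫ g₁ = ψ ≫ g₁ := ⟨ψ, rfl⟩
    simp only [fam, dif_pos h1]
    exact c₁₁ _ _ h1.choose_spec
  have fam₂ : ∀ {Z : C} (ψ : Z ⟶ Y₂) (hφ : (sieve₂ g₁ g₂).arrows (ψ ≫ g₂)),
      fam (ψ ≫ g₂) hφ = res P ψ x₂ := by
    intro Z ψ hφ
    by_cases h1 : ∃ ψ' : Z ⟶ Y₁, ψ' ≫ g₁ = ψ ≫ g₂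
    · simp only [fam, dif_pos h1]
      exact c₁₂ _ _ h1.choose_spec
    · simp only [fam, dif_neg h1]
      exact c₂₂ _ _ (hφ.resolve_left h1).choose_spec
  have hc : fam.Compatible := by
    intro Z₁ Z₂ Z k₁ k₂ φ₁ φ₂ hφ₁ hφ₂ hk
    rcases hφ₁ with ⟨ψ₁, rfl⟩ | ⟨ψ₁, rfl⟩ <;> rcases hφ₂ with ⟨ψ₂, rfl⟩ | ⟨ψ₂, rfl⟩
    · rw [fam₁ ψ₁ (Or.inl ⟨ψ₁, rfl⟩), fam₁ ψ₂ (Or.inl ⟨ψ₂, rfl⟩)]
      change res P k₁ _ = res P k₂ _
      rw [← res_comp, ← res_comp]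
      exact c₁₁ _ _ (by simpa using hk)
    · rw [fam₁ ψ₁ (Or.inl ⟨ψ₁, rfl⟩), fam₂ ψ₂ (Or.inr ⟨ψ₂, rfl⟩)]
      change res P k₁ _ = res P k₂ _
      rw [← res_comp, ← res_comp]
      exact c₁₂ _ _ (by simpa using hk)
    · rw [fam₂ ψ₁ (Or.inr ⟨ψ₁, rfl⟩), fam₁ ψ₂ (Or.inl ⟨ψ₂, rfl⟩)]
      change res P k₁ _ = res P k₂ _
      rw [← res_comp, ← res_comp]
      exact (c₁₂ _ _ (by simpa using hk.symm)).symm
    · rw [fam₂ ψ₁ (Or.inr ⟨ψ₁, rfl⟩), fam₂ ψ₂ (Or.inr ⟨ψ₂, rfl⟩)]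
      change res P k₁ _ = res P k₂ _
      rw [← res_comp, ← res_comp]
      exact c₂₂ _ _ (by simpa using hk)
  refine ⟨h.amalgamate fam hc, ?_, ?_⟩
  · have h1 := h.valid_glue hc (𝟙 _ ≫ g₁) (Or.inl ⟨𝟙 _, rfl⟩)
    rw [fam₁ (𝟙 _) (Or.inl ⟨𝟙 _, rfl⟩), res_id] at h1
    rw [← h1]
    exact res_congr P (Category.id_comp g₁).symm _
  · have h2 := h.valid_glue hc (𝟙 _ ≫ g₂) (Or.inr ⟨𝟙 _, rfl⟩)
    rw [fam₂ (𝟙 _) (Or.inr ⟨𝟙 _, rfl⟩), res_id] at h2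
    rw [← h2]
    exact res_congr P (Category.id_comp g₂).symm _

section MV

variable [HasBinaryProducts C] {U V UV : C} (pU : UV ⟶ U) (pV : UV ⟶ V)
  (hUV : IsLimit (BinaryFan.mk pU pV)) (hU : ∀ ⦃Z : C⦄ (a b : Z ⟶ U), a = b)

/-- `U ⨯ W ⟶ W`. -/
noncomputable abbrev rU (U : C) (W : C) : U ⨯ W ⟶ W := prod.snd

/-- the diagonal `V ⨯ W ⟶ V ⨯ (V ⨯ W)`. -/
noncomputable abbrev δ (V W : C) : V ⨯ W ⟶ V ⨯ (V ⨯ W) := prod.lift prod.fst (𝟙 _)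

/-- the pairing into `UV`. -/
def liftUV {pU : UV ⟶ U} {pV : UV ⟶ V} (hUV : IsLimit (BinaryFan.mk pU pV)) {Z : C}
    (a : Z ⟶ U) (b : Z ⟶ V) : Z ⟶ UV := hUV.lift (BinaryFan.mk a b)

@[reassoc (attr := simp)]
lemma liftUV_pU {Z : C} (a : Z ⟶ U) (b : Z ⟶ V) : liftUV hUV a b ≫ pU = a :=
  hUV.fac (BinaryFan.mk a b) ⟨WalkingPair.left⟩

@[reassoc (attr := simp)]
lemma liftUV_pV {Z : C} (a : Z ⟶ U) (b : Z ⟶ V) : liftUV hUV a b ≫ pV = b :=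
  hUV.fac (BinaryFan.mk a b) ⟨WalkingPair.right⟩

include hUV hU in
lemma ext_UVW {Z W : C} (h h' : Z ⟶ UV ⨯ W)
    (e₁ : h ≫ prod.fst ≫ pV = h' ≫ prod.fst ≫ pV) (e₂ : h ≫ prod.snd = h' ≫ prod.snd) :
    h = h' := by
  refine Limits.prod.hom_ext ?_ e₂
  refine BinaryFan.IsLimit.hom_ext hUV (hU _ _) ?_
  simpa using e₁

include hU in
lemma ext_UW {Z W : C} (a a' : Z ⟶ U ⨯ W) (e : a ≫ prod.snd = a' ≫ prod.snd) : a = a' :=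
  Limits.prod.hom_ext (hU _ _) e

variable (hs1 : ∀ W : C, Presieve.IsSheafFor (P ⋙ forget AddCommGrpCat.{w})
    (sieve₂ (rU U W) (rU V W)).arrows)
  (hs2 : ∀ W : C, Presieve.IsSheafFor (P ⋙ forget AddCommGrpCat.{w})
    (sieve₂ (δ V W) (rU U (V ⨯ (V ⨯ W)))).arrows)

include hs1 in
theorem inj (W : C) (x : P.obj (op W)) (h₁ : res P (rU U W) x = 0) (h₂ : res P (rU V W) x = 0) :
    x = 0 :=
  sep₂ P _ _ (hs1 W) x 0 (by rw [h₁, map_zero]) (by rw [h₂, map_zero])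

include hUV hU in
theorem compatUV (W : C) (a : P.obj (op (U ⨯ W))) (b : P.obj (op (V ⨯ W)))
    (hab : res P (prod.map pU (𝟙 W)) a = res P (prod.map pV (𝟙 W)) b)
    {Z : C} (a' : Z ⟶ U ⨯ W) (c : Z ⟶ V ⨯ W) (e : a' ≫ prod.snd = c ≫ prod.snd) :
    res P a' a = res P c b := by
  let h : Z ⟶ UV ⨯ W := prod.lift (liftUV hUV (a' ≫ prod.fst) (c ≫ prod.fst)) (c ≫ prod.snd)
  have h1 : h ≫ prod.map pU (𝟙 W) = a' := by
    apply ext_UW hU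
    simp [h, e]
  have h2 : h ≫ prod.map pV (𝟙 W) = c := by
    apply Limits.prod.hom_ext <;> simp [h]
  rw [← h1, ← h2, res_comp, res_comp, hab]

include hUV hU hs2 in
theorem star (W : C) (a : P.obj (op (U ⨯ W))) (b : P.obj (op (V ⨯ W)))
    (hab : res P (prod.map pU (𝟙 W)) a = res P (prod.map pV (𝟙 W)) b)
    {Z : C} (g g' : Z ⟶ V ⨯ W) (e : g ≫ prod.snd = g' ≫ prod.snd) :
    res P g b = res P g' b := by
  let q₁ : V ⨯ (V ⨯ W) ⟶ V ⨯ W := prod.snd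
  let q₂ : V ⨯ (V ⨯ W) ⟶ V ⨯ W := prod.lift prod.fst (prod.snd ≫ prod.snd)
  have hq : res P q₁ b = res P q₂ b := by
    refine sep₂ P _ _ (hs2 W) _ _ ?_ ?_
    · rw [← res_comp, ← res_comp]
      have e1 : δ V W ≫ q₁ = 𝟙 _ := by simp [q₁]
      have e2 : δ V W ≫ q₂ = 𝟙 _ := by
        apply Limits.prod.hom_ext <;> simp [q₂]
      rw [e1, e2]
    · rw [← res_comp, ← res_comp]
      rw [← compatUV P pU pV hUV hU W a b hab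
          (prod.lift prod.fst (rU U _ ≫ q₁ ≫ prod.snd)) (rU U _ ≫ q₁) (by simp),
        ← compatUV P pU pV hUV hU W a b hab
          (prod.lift prod.fst (rU U _ ≫ q₂ ≫ prod.snd)) (rU U _ ≫ q₂) (by simp)]
      apply res_congr
      apply ext_UW hU
      simp [q₁, q₂]
  let m : Z ⟶ V ⨯ (V ⨯ W) := prod.lift (g' ≫ prod.fst) g
  have m1 : m ≫ q₁ = g := by simp [m, q₁]
  have m2 : m ≫ q₂ = g' := by
    apply Limits.prod.hom_ext <;> simp [m, q₂, e]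
  rw [← m1, res_comp, hq, ← res_comp, m2]

include hUV hU hs1 hs2 in
theorem exact (W : C) (a : P.obj (op (U ⨯ W))) (b : P.obj (op (V ⨯ W)))
    (hab : res P (prod.map pU (𝟙 W)) a = res P (prod.map pV (𝟙 W)) b) :
    ∃ x : P.obj (op W), res P (rU U W) x = a ∧ res P (rU V W) x = b := by
  refine glue₂ P _ _ (hs1 W) a b ?_ ?_ ?_
  · intro Z a₁ a₁' e
    rw [ext_UW hU a₁ a₁' e]
  · intro Z g g' e
    exact star P pU pV hUV hU hs2 W a b hab g g' e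
  · intro Z a' c e
    exact compatUV P pU pV hUV hU W a b hab a' c e

include hUV hU in
theorem surjU (W : C) (c : P.obj (op (UV ⨯ W))) :
    ∃ (a : P.obj (op (U ⨯ (U ⨯ W)))) (b : P.obj (op (V ⨯ (U ⨯ W)))),
      res P (prod.map pU (𝟙 _)) a - res P (prod.map pV (𝟙 _)) b =
        res P (prod.map (𝟙 UV) (rU U W)) c := by
  let m₁ : V ⨯ (U ⨯ W) ⟶ UV ⨯ W :=
    prod.lift (liftUV hUV (prod.snd ≫ prod.fst) prod.fst) (prod.snd ≫ prod.snd)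
  refine ⟨0, - res P m₁ c, ?_⟩
  rw [map_zero, map_neg, zero_sub, neg_neg, ← res_comp]
  apply res_congr
  apply ext_UVW pU pV hUV hU <;> simp [m₁]

include hUV hU hs2 in
theorem surjV (W : C) (c : P.obj (op (UV ⨯ W))) :
    ∃ (a : P.obj (op (U ⨯ (V ⨯ W)))) (b : P.obj (op (V ⨯ (V ⨯ W)))),
      res P (prod.map pU (𝟙 _)) a - res P (prod.map pV (𝟙 _)) b =
        res P (prod.map (𝟙 UV) (rU V W)) c := by
  let m₂ : U ⨯ (V ⨯ W) ⟶ UV ⨯ W :=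
    prod.lift (liftUV hUV prod.fst (prod.snd ≫ prod.fst)) (prod.snd ≫ prod.snd)
  let n₁ : U ⨯ (V ⨯ (V ⨯ W)) ⟶ UV ⨯ W :=
    prod.lift (liftUV hUV prod.fst (prod.snd ≫ prod.fst)) (prod.snd ≫ prod.snd ≫ prod.snd)
  let n₂ : U ⨯ (V ⨯ (V ⨯ W)) ⟶ UV ⨯ W :=
    prod.lift (liftUV hUV prod.fst (prod.snd ≫ prod.snd ≫ prod.fst))
      (prod.snd ≫ prod.snd ≫ prod.snd)
  obtain ⟨b, hb1, hb2⟩ := glue₂ P (δ V W) (rU U (V ⨯ (V ⨯ W))) (hs2 W) 0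
      (res P n₂ c - res P n₁ c) (by
        intro Z a a' _
        rw [map_zero, map_zero]) (by
        intro Z a a' e
        rw [ext_UW hU a a' e]) (by
        intro Z a b' e
        rw [map_zero, map_sub, ← res_comp, ← res_comp]
        have : b' ≫ n₂ = b' ≫ n₁ := by
          have e1 : b' ≫ prod.snd ≫ prod.snd ≫ prod.fst = a ≫ prod.fst := by
            have := congrArg (fun k => k ≫ prod.snd ≫ prod.fst) e
            simp only [Category.assoc] at this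
            rw [← this]; simp
          have e2 : b' ≫ prod.snd ≫ prod.fst = a ≫ prod.fst := by
            have := congrArg (fun k => k ≫ prod.fst) e
            simp only [Category.assoc] at this
            rw [← this]; simp
          apply ext_UVW pU pV hUV hU
          · simp [n₁, n₂, e1, e2]
          · simp [n₁, n₂]
        rw [this, sub_self])
  refine ⟨res P m₂ c, b, ?_⟩
  let θ : UV ⨯ (V ⨯ W) ⟶ U ⨯ (V ⨯ (V ⨯ W)) :=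
    prod.lift (prod.fst ≫ pU) (prod.map pV (𝟙 _))
  have hθ : θ ≫ rU U _ = prod.map pV (𝟙 _) := by simp [θ]
  have k1 : prod.map pU (𝟙 (V ⨯ W)) ≫ m₂ = θ ≫ n₂ := by
    apply ext_UVW pU pV hUV hU <;> simp [m₂, n₂, θ]
  have k2 : θ ≫ n₁ = prod.map (𝟙 UV) (rU V W) := by
    apply ext_UVW pU pV hUV hU <;> simp [n₁, θ]
  rw [← hθ, res_comp P θ, hb2, map_sub, ← res_comp, ← res_comp, ← res_comp, k1, k2]
  abel

include hUV hU hs2 in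
/-- local surjectivity of the difference map, on the cover `{U ⨯ W, V ⨯ W}` of `W`. -/
theorem locSurj (W : C) (c : P.obj (op (UV ⨯ W))) {Z : C} (φ : Z ⟶ W)
    (hφ : (sieve₂ (rU U W) (rU V W)).arrows φ) :
    ∃ (t₁ : P.obj (op (U ⨯ Z))) (t₂ : P.obj (op (V ⨯ Z))),
      res P (prod.map pU (𝟙 _)) t₁ - res P (prod.map pV (𝟙 _)) t₂ =
        res P (prod.map (𝟙 UV) φ) c := by
  have key : ∀ {W₁ : C} (ρ : W₁ ⟶ W) (ψ : Z ⟶ W₁) (a : P.obj (op (U ⨯ W₁)))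
      (b : P.obj (op (V ⨯ W₁))),
      res P (prod.map pU (𝟙 _)) a - res P (prod.map pV (𝟙 _)) b =
        res P (prod.map (𝟙 UV) ρ) c →
      res P (prod.map pU (𝟙 _)) (res P (prod.map (𝟙 U) ψ) a) -
        res P (prod.map pV (𝟙 _)) (res P (prod.map (𝟙 V) ψ) b) =
        res P (prod.map (𝟙 UV) (ψ ≫ ρ)) c := by
    intro W₁ ρ ψ a b hab
    have e1 : prod.map pU (𝟙 Z) ≫ prod.map (𝟙 U) ψ = prod.map (𝟙 UV) ψ ≫ prod.map pU (𝟙 W₁) := by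
      simp
    have e2 : prod.map pV (𝟙 Z) ≫ prod.map (𝟙 V) ψ = prod.map (𝟙 UV) ψ ≫ prod.map pV (𝟙 W₁) := by
      simp
    have e3 : prod.map (𝟙 UV) (ψ ≫ ρ) = prod.map (𝟙 UV) ψ ≫ prod.map (𝟙 UV) ρ := by
      simp
    rw [← res_comp, ← res_comp, e1, e2, res_comp, res_comp P (prod.map (𝟙 UV) ψ), ← map_sub, hab,
      ← res_comp, e3]
  rcases hφ with ⟨ψ, rfl⟩ | ⟨ψ, rfl⟩
  · obtain ⟨a, b, hab⟩ := surjU P pU pV hUV hU W c
    exact ⟨_, _, key (rU U W) ψ a b hab⟩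
  · obtain ⟨a, b, hab⟩ := surjV P pU pV hUV hU hs2 W c
    exact ⟨_, _, key (rU V W) ψ a b hab⟩

end MV

end Groth.Agent.H7.MVAbs
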