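import Groth.Prelude.Def_W4SpPerfMV
import Groth.Prelude.Def_AlgSpSub
import Groth.Agent.Lib.Helper5.AlgSp.OpenSub
import Groth.Agent.Lib.Helper5.AlgSp.RedInduced
import Groth.Agent.Lib.Helper5.AlgSp.Points
import Groth.Agent.Lib.Helper3.Decent.ClosedPoint
import Groth.Agent.Lib.Helper3.Residual.IsoField
import Groth.Agent.Lib.Helper7.MVAbs
import Mathlib

/-!
# Geometry of an elementary distinguished square on the small étale site of an algebraic space
-/

set_option autoImplicit false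
set_option backward.isDefEq.respectTransparency false
universe u
open CategoryTheory CategoryTheory.Limits AlgebraicGeometry Opposite

namespace Groth.Agent.H7.MV

open _root_.AlgSp Groth.Agent.H5.AlgSp Groth.Agent.H7.MVAbs

variable {S : Scheme.{u}} {X : Sp S}

/-! ### field points of objects of the site -/

/-- the residue field spectrum of a point of an object of the site, over `S`. -/
noncomputable abbrev ptStr (E : EtOver X) (y : ↥E.obj.left.left) :
    Spec (CommRingCat.of (E.obj.left.left.residueField y)) ⟶ S :=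
  E.obj.left.left.fromSpecResidueField y ≫ E.obj.left.hom

/-- the residue field spectrum of a point of an object of the site, over `S`. -/
noncomputable abbrev ptOver (E : EtOver X) (y : ↥E.obj.left.left) : Over S := Over.mk (ptStr E y)

/-- the canonical morphism from the residue field spectrum. -/
noncomputable abbrev ptHom (E : EtOver X) (y : ↥E.obj.left.left) : ptOver E y ⟶ E.obj.left :=
  Over.homMk (E.obj.left.left.fromSpecResidueField y) rfl

/-- the field point of `X` below a point of an object of the site. -/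
noncomputable abbrev ptX (E : EtOver X) (y : ↥E.obj.left.left) : (yon S).obj (ptOver E y) ⟶ X :=
  (yon S).map (ptHom E y) ≫ E.obj.hom

theorem range_ptX (E : EtOver X) (y : ↥E.obj.left.left) :
    Set.range (Points.map (ptX E y)) = {Points.ofPt E.obj.hom y} := by
  rw [Groth.Agent.H3.Residual.range_points_map_field (ptStr E y) (ptX E y),
    ← ofPt_closedPoint (ptStr E y) (ptX E y), ofPt_yon_map_comp]
  congr 2
  exact Scheme.fromSpecResidueField_apply _ _

theorem mem_range_of_lift {E Y : EtOver X} (g : Y ⟶ E) (y : ↥E.obj.left.left)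
    (t : ptOver E y ⟶ Y.obj.left) (ht : t ≫ g.hom.left = ptHom E y) :
    y ∈ Set.range g.hom.left.left := by
  refine ⟨t.left (IsLocalRing.closedPoint _), ?_⟩
  have h1 := congrArg (fun k => k.left) ht
  have h2 : t.left ≫ g.hom.left.left = E.obj.left.left.fromSpecResidueField y := h1
  rw [← Scheme.Hom.comp_apply, h2]
  exact Scheme.fromSpecResidueField_apply _ _

/-! ### products in the site represent fibre products over `X` -/

/-- the comparison of the chosen product with the explicit one. -/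
noncomputable def pIso (E₁ E₂ : EtOver X) : E₁ ⨯ E₂ ≅ EtOver.prodObj E₁ E₂ :=
  (limit.isLimit _).conePointUniqueUpToIso (EtOver.prodIsLimit E₁ E₂)

theorem pIso_hom_fst (E₁ E₂ : EtOver X) : (pIso E₁ E₂).hom ≫ EtOver.prodFst E₁ E₂ = prod.fst :=
  IsLimit.conePointUniqueUpToIso_hom_comp (limit.isLimit _) (EtOver.prodIsLimit E₁ E₂)
    ⟨WalkingPair.left⟩

theorem pIso_hom_snd (E₁ E₂ : EtOver X) : (pIso E₁ E₂).hom ≫ EtOver.prodSnd E₁ E₂ = prod.snd :=
  IsLimit.conePointUniqueUpToIso_hom_comp (limit.isLimit _) (EtOver.prodIsLimit E₁ E₂)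
    ⟨WalkingPair.right⟩

theorem pIso_inv_fst (E₁ E₂ : EtOver X) : (pIso E₁ E₂).inv ≫ prod.fst = EtOver.prodFst E₁ E₂ := by
  rw [← pIso_hom_fst, Iso.inv_hom_id_assoc]

theorem pIso_inv_snd (E₁ E₂ : EtOver X) : (pIso E₁ E₂).inv ≫ prod.snd = EtOver.prodSnd E₁ E₂ := by
  rw [← pIso_hom_snd, Iso.inv_hom_id_assoc]

/-- joint monicity of the projections, for test schemes over `S`. -/
theorem prod_left_ext (E₁ E₂ : EtOver X) {T : Over S} (a b : T ⟶ (E₁ ⨯ E₂).obj.left)
    (h₁ : a ≫ (prod.fst : E₁ ⨯ E₂ ⟶ E₁).hom.left = b ≫ (prod.fst : E₁ ⨯ E₂ ⟶ E₁).hom.left)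
    (h₂ : a ≫ (prod.snd : E₁ ⨯ E₂ ⟶ E₂).hom.left = b ≫ (prod.snd : E₁ ⨯ E₂ ⟶ E₂).hom.left) :
    a = b := by
  have key : a ≫ (pIso E₁ E₂).hom.hom.left = b ≫ (pIso E₁ E₂).hom.hom.left := by
    refine Functor.relativelyRepresentable.hom_ext' E₂.property.1 ?_ ?_
    · have e : (pIso E₁ E₂).hom.hom.left ≫ E₂.property.1.fst' E₁.obj.hom =
          (prod.snd : E₁ ⨯ E₂ ⟶ E₂).hom.left :=
        congrArg (fun k => k.hom.left) (pIso_hom_snd E₁ E₂)
      rw [Category.assoc, Category.assoc, e, h₂]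
    · have e : (pIso E₁ E₂).hom.hom.left ≫ E₂.property.1.snd E₁.obj.hom =
          (prod.fst : E₁ ⨯ E₂ ⟶ E₁).hom.left :=
        congrArg (fun k => k.hom.left) (pIso_hom_fst E₁ E₂)
      rw [Category.assoc, Category.assoc, e, h₁]
  have hinv : (pIso E₁ E₂).hom.hom.left ≫ (pIso E₁ E₂).inv.hom.left = 𝟙 _ :=
    congrArg (fun k => k.hom.left) (pIso E₁ E₂).hom_inv_id
  calc a = a ≫ (pIso E₁ E₂).hom.hom.left ≫ (pIso E₁ E₂).inv.hom.left := by
        rw [hinv, Category.comp_id]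
    _ = b ≫ (pIso E₁ E₂).hom.hom.left ≫ (pIso E₁ E₂).inv.hom.left := by
        rw [← Category.assoc, key, Category.assoc]
    _ = b := by rw [hinv, Category.comp_id]

/-- lifting to the product, for test schemes over `S`. -/
theorem prod_left_lift (E₁ E₂ : EtOver X) {T : Over S} (t₁ : T ⟶ E₁.obj.left)
    (t₂ : T ⟶ E₂.obj.left) (h : (yon S).map t₁ ≫ E₁.obj.hom = (yon S).map t₂ ≫ E₂.obj.hom) :
    ∃ t : T ⟶ (E₁ ⨯ E₂).obj.left, t ≫ (prod.fst : E₁ ⨯ E₂ ⟶ E₁).hom.left = t₁ ∧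
      t ≫ (prod.snd : E₁ ⨯ E₂ ⟶ E₂).hom.left = t₂ := by
  let t' : T ⟶ (EtOver.prodObj E₁ E₂).obj.left := E₂.property.1.lift' t₂ t₁ h.symm
  refine ⟨t' ≫ (pIso E₁ E₂).inv.hom.left, ?_, ?_⟩
  · have e : (pIso E₁ E₂).inv.hom.left ≫ (prod.fst : E₁ ⨯ E₂ ⟶ E₁).hom.left =
        E₂.property.1.snd E₁.obj.hom :=
      congrArg (fun k => k.hom.left) (pIso_inv_fst E₁ E₂)
    rw [Category.assoc, e]
    exact Functor.relativelyRepresentable.lift'_snd _ _ _ _
  · have e : (pIso E₁ E₂).inv.hom.left ≫ (prod.snd : E₁ ⨯ E₂ ⟶ E₂).hom.left =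
        E₂.property.1.fst' E₁.obj.hom :=
      congrArg (fun k => k.hom.left) (pIso_inv_snd E₁ E₂)
    rw [Category.assoc, e]
    exact Functor.relativelyRepresentable.lift'_fst _ _ _ _

/-- compatibility of test points with the structure maps. -/
theorem yon_map_comp_left {E E' : EtOver X} (g : E ⟶ E') {T : Over S} (t : T ⟶ E.obj.left) :
    (yon S).map (t ≫ g.hom.left) ≫ E'.obj.hom = (yon S).map t ≫ E.obj.hom := by
  rw [Functor.map_comp, Category.assoc, EtOver.w]

/-! ### the two covers -/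

theorem sieve₂_mem {Y Y₁ Y₂ : EtOver X} (g₁ : Y₁ ⟶ Y) (g₂ : Y₂ ⟶ Y)
    (h : ∀ y : ↥Y.obj.left.left,
      y ∈ Set.range g₁.hom.left.left ∨ y ∈ Set.range g₂.hom.left.left) :
    sieve₂ g₁ g₂ ∈ etTop X Y := by
  let Z : Bool → EtOver X := fun b => Bool.rec Y₂ Y₁ b
  let π : ∀ b, Z b ⟶ Y := fun b => Bool.rec (motive := fun b => Z b ⟶ Y) g₂ g₁ b
  refine (etTop X).superset_covering ?_ (ofArrows_mem_etTop Z π fun y => ?_)
  · rw [Sieve.ofArrows, Sieve.generate_le_iff]
    rintro _ _ ⟨b⟩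
    cases b
    · exact Or.inr ⟨𝟙 _, Category.id_comp _⟩
    · exact Or.inl ⟨𝟙 _, Category.id_comp _⟩
  · rcases h y with h1 | h2
    · exact ⟨true, h1⟩
    · exact ⟨false, h2⟩

section DistSq

variable {U V : EtOver X} (hsq : IsElemDistSq U.obj.hom V.obj.hom)

include hsq in
theorem subterminal ⦃Z : EtOver X⦄ (a b : Z ⟶ U) : a = b := by
  haveI : Mono U.obj.hom :=
    mono_of_repWith (P := @IsOpenImmersion) (fun _ _ f hf => by
      haveI : IsOpenImmersion f := hf
      exact (inferInstance : Mono f)) hsq.1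
  refine EtOver.hom_ext _ _ ((yon S).map_injective ?_)
  rw [← cancel_mono U.obj.hom, EtOver.w, EtOver.w]

include hsq in
/-- a point over the open part lifts to `U ⨯ E`. -/
theorem mem_range_snd_U (E : EtOver X) (y : ↥E.obj.left.left)
    (hy : Points.ofPt E.obj.hom y ∈ Set.range (Points.map U.obj.hom)) :
    y ∈ Set.range (prod.snd : U ⨯ E ⟶ E).hom.left.left := by
  obtain ⟨k, hk⟩ := (factors_through_open_iff U.obj.hom hsq.1 (ptX E y)).2 (by
    rw [range_ptX, Set.singleton_subset_iff]; exact hy)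
  obtain ⟨t₁, rfl⟩ := (yon S).map_surjective k
  obtain ⟨t, -, ht⟩ := prod_left_lift U E t₁ (ptHom E y) hk
  exact mem_range_of_lift _ y t ht

include hsq in
/-- a point outside the open part lifts to `V`. -/
theorem exists_lift_V (E : EtOver X) (y : ↥E.obj.left.left)
    (hy : Points.ofPt E.obj.hom y ∉ Set.range (Points.map U.obj.hom)) :
    ∃ t : ptOver E y ⟶ V.obj.left, (yon S).map t ≫ V.obj.hom = ptX E y := by
  obtain ⟨_, _, T, P, i, p₁, p₂, ⟨hi, hr, -⟩, sq, hiso⟩ := hsq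
  haveI : IsReduced (ptOver E y).left :=
    inferInstanceAs (IsReduced (Spec (CommRingCat.of (E.obj.left.left.residueField y))))
  obtain ⟨ζ, hζ⟩ := exists_lift_closed_of_isReducedSp i hi
    (Groth.Agent.H3.Decent.isReducedSp_yon (ptOver E y)) (ptX E y) (by
      rw [range_ptX, Set.singleton_subset_iff, hr]; exact hy)
  obtain ⟨t, ht⟩ := (yon S).map_surjective (ζ ≫ inv p₁ ≫ p₂)
  refine ⟨t, ?_⟩
  rw [ht, Category.assoc, Category.assoc, ← sq.w, IsIso.inv_hom_id_assoc, hζ]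

include hsq in
/-- two lifts to `V` of a point outside the open part agree. -/
theorem lift_V_unique (E : EtOver X) (y : ↥E.obj.left.left)
    (hy : Points.ofPt E.obj.hom y ∉ Set.range (Points.map U.obj.hom))
    (v₁ v₂ : ptOver E y ⟶ V.obj.left) (h₁ : (yon S).map v₁ ≫ V.obj.hom = ptX E y)
    (h₂ : (yon S).map v₂ ≫ V.obj.hom = ptX E y) : v₁ = v₂ := by
  obtain ⟨_, _, T, P, i, p₁, p₂, ⟨hi, hr, -⟩, sq, hiso⟩ := hsq
  haveI : IsReduced (ptOver E y).left :=
    inferInstanceAs (IsReduced (Spec (CommRingCat.of (E.obj.left.left.residueField y))))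
  obtain ⟨ζ, hζ⟩ := exists_lift_closed_of_isReducedSp i hi
    (Groth.Agent.H3.Decent.isReducedSp_yon (ptOver E y)) (ptX E y) (by
      rw [range_ptX, Set.singleton_subset_iff, hr]; exact hy)
  let l₁ := sq.lift ζ ((yon S).map v₁) (by rw [hζ, h₁])
  let l₂ := sq.lift ζ ((yon S).map v₂) (by rw [hζ, h₂])
  have e : l₁ = l₂ := by
    rw [← cancel_mono p₁]
    rw [sq.lift_fst, sq.lift_fst]
  apply (yon S).map_injective
  rw [← sq.lift_snd ζ ((yon S).map v₁) (by rw [hζ, h₁]),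
    ← sq.lift_snd ζ ((yon S).map v₂) (by rw [hζ, h₂])]
  change l₁ ≫ p₂ = l₂ ≫ p₂
  rw [e]

include hsq in
theorem cover₁ (W : EtOver X) : sieve₂ (rU U W) (rU V W) ∈ etTop X W := by
  refine sieve₂_mem _ _ fun y => ?_
  by_cases hy : Points.ofPt W.obj.hom y ∈ Set.range (Points.map U.obj.hom)
  · exact Or.inl (mem_range_snd_U hsq W y hy)
  · right
    obtain ⟨t₁, ht₁⟩ := exists_lift_V hsq W y hy
    obtain ⟨t, -, ht⟩ := prod_left_lift V W t₁ (ptHom W y) ht₁
    exact mem_range_of_lift _ y t ht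

include hsq in
theorem cover₂ (W : EtOver X) :
    sieve₂ (δ V W) (rU U (V ⨯ (V ⨯ W))) ∈ etTop X (V ⨯ (V ⨯ W)) := by
  refine sieve₂_mem _ _ fun z => ?_
  by_cases hz : Points.ofPt (V ⨯ (V ⨯ W)).obj.hom z ∈ Set.range (Points.map U.obj.hom)
  · exact Or.inr (mem_range_snd_U hsq _ z hz)
  · left
    let N := V ⨯ (V ⨯ W)
    let e := ptHom N z
    let v₁ : ptOver N z ⟶ V.obj.left := e ≫ (prod.fst : N ⟶ V).hom.left
    let v₂ : ptOver N z ⟶ V.obj.left :=
      e ≫ ((prod.snd : N ⟶ V ⨯ W) ≫ (prod.fst : V ⨯ W ⟶ V)).hom.left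
    have hv : v₁ = v₂ :=
      lift_V_unique hsq N z hz v₁ v₂ (yon_map_comp_left _ e) (yon_map_comp_left _ e)
    refine mem_range_of_lift (δ V W) z (e ≫ (prod.snd : N ⟶ V ⨯ W).hom.left) ?_
    apply prod_left_ext V (V ⨯ W)
    · have e1 : (δ V W ≫ (prod.fst : N ⟶ V)).hom.left = (prod.fst : V ⨯ W ⟶ V).hom.left := by
        rw [prod.lift_fst]
      have e1' : (δ V W).hom.left ≫ (prod.fst : N ⟶ V).hom.left =
          (prod.fst : V ⨯ W ⟶ V).hom.left := e1
      rw [Category.assoc, Category.assoc, e1']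
      exact hv.symm
    · have e2 : (δ V W ≫ (prod.snd : N ⟶ V ⨯ W)).hom.left = (𝟙 (V ⨯ W) : V ⨯ W ⟶ V ⨯ W).hom.left := by
        rw [prod.lift_snd]
      have e2' : (δ V W).hom.left ≫ (prod.snd : N ⟶ V ⨯ W).hom.left = 𝟙 _ := e2
      rw [Category.assoc, Category.assoc, e2', Category.comp_id]

end DistSq

end Groth.Agent.H7.MV
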