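import Groth.Agent.Lib.Helper7.MVA
import Groth.Agent.Lib.Helper7.MVC
import Mathlib

/-!
# The Mayer–Vietoris short exact sequence of an elementary distinguished square (S10788)
-/

set_option autoImplicit false
set_option backward.isDefEq.respectTransparency false
universe u
open CategoryTheory CategoryTheory.Limits AlgebraicGeometry Opposite

namespace Groth.Agent.H7.MV

open _root_.AlgSp Groth.Agent.H7.MVAbs

variable {S : Scheme.{u}} {X : Sp S}

theorem unit_app (U W : EtOver X) (F : ModEt X) (x : F.val.obj (op W)) :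
    ((resPushAdjEt U).unit.app F).val.app (op W) x =
      F.val.map (prod.snd : U ⨯ W ⟶ W).op x := rfl

theorem pushRes_app {U' U : EtOver X} (g : U' ⟶ U) (W : EtOver X) (F : ModEt X)
    (x : F.val.obj (op (U ⨯ W))) :
    ((pushResNatTrans g).app F).val.app (op W) x =
      F.val.map (prod.map g (𝟙 W)).op x := rfl

theorem pushRes_map (U : EtOver X) {W Z : EtOver X} (φ : Z ⟶ W) (F : ModEt X)
    (x : F.val.obj (op (U ⨯ W))) :
    ((pushOnModEt U).obj ((resModEt U).obj F)).val.map φ.op x =
      F.val.map (prod.map (𝟙 U) φ).op x := rfl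

theorem isSheafFor_of_mem (F : ModEt X) {Y : EtOver X} (R : Sieve Y) (hR : R ∈ etTop X Y) :
    Presieve.IsSheafFor (F.val.presheaf ⋙ forget AddCommGrpCat.{u + 1}) R.arrows :=
  ((isSheaf_iff_isSheaf_of_type _ _).1
    ((Presheaf.isSheaf_iff_isSheaf_forget (etTop X) F.val.presheaf
      (forget AddCommGrpCat.{u + 1})).1 F.isSheaf)) R hR

theorem res_eq (F : ModEt X) {A B : EtOver X} (f : A ⟶ B) (x : F.val.obj (op B)) :
    res F.val.presheaf f x = F.val.map f.op x := rfl

/-- S10788. -/
theorem S10788_main (U V : EtOver X) (hsq : IsElemDistSq U.obj.hom V.obj.hom) (F : ModEt X) :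
    ∃ h : biprod.lift ((resPushAdjEt U).unit.app F) ((resPushAdjEt V).unit.app F) ≫
        biprod.desc ((pushResNatTrans (EtOver.prodFst U V)).app F)
          (-((pushResNatTrans (EtOver.prodSnd U V)).app F)) = 0,
      (ShortComplex.mk _ _ h).ShortExact := by
  have hU := subterminal hsq
  have hUV := EtOver.prodIsLimit U V
  have hs1 : ∀ W : EtOver X, Presieve.IsSheafFor
      (F.val.presheaf ⋙ forget AddCommGrpCat.{u + 1}) (sieve₂ (rU U W) (rU V W)).arrows :=
    fun W => isSheafFor_of_mem F _ (cover₁ hsq W)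
  have hs2 : ∀ W : EtOver X, Presieve.IsSheafFor
      (F.val.presheaf ⋙ forget AddCommGrpCat.{u + 1})
      (sieve₂ (δ V W) (rU U (V ⨯ (V ⨯ W)))).arrows :=
    fun W => isSheafFor_of_mem F _ (cover₂ hsq W)
  refine shortExact_biprod _ _ _ _ ?_ ?_ ?_ ?_
  · ext W x
    change res F.val.presheaf (prod.map (EtOver.prodFst U V) (𝟙 W.unop))
        (res F.val.presheaf (rU U W.unop) x) =
      res F.val.presheaf (prod.map (EtOver.prodSnd U V) (𝟙 W.unop))
        (res F.val.presheaf (rU V W.unop) x)
    rw [← res_comp, ← res_comp]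
    apply res_congr
    simp
  · intro W s h₁ h₂
    exact inj F.val.presheaf hs1 W.unop s h₁ h₂
  · intro W t₁ t₂ h
    exact exact F.val.presheaf _ _ hUV hU hs1 hs2 W.unop t₁ t₂ h
  · intro W r
    refine ⟨sieve₂ (rU U W) (rU V W), cover₁ hsq W, fun Z φ hφ => ?_⟩
    exact locSurj F.val.presheaf _ _ hUV hU hs2 W r φ hφ

end Groth.Agent.H7.MV
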