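import Mathlib

/-! Abstract adjunction argument: from the "pushforward" Mayer–Vietoris short exact sequences
`0 → G → R_U G ⊕ R_V G → R_W G → 0` (for all `G`) to the "shriek" sequences
`0 → L_W F → L_U F ⊕ L_V F → F → 0`, where `L_• ⊣ R_•`. -/
set_option autoImplicit false
open CategoryTheory Limits
universe v w

namespace Groth.Agent.H7.MVSh

variable {𝒜 : Type w} [Category.{v} 𝒜] [Abelian 𝒜]
variable {LU LV LW RU RV RW : 𝒜 ⥤ 𝒜}
variable (aU : LU ⊣ RU) (aV : LV ⊣ RV) (aW : LW ⊣ RW)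
variable (ηU : 𝟭 𝒜 ⟶ RU) (ηV : 𝟭 𝒜 ⟶ RV) (ρU : RU ⟶ RW) (ρV : RV ⟶ RW)
variable (εU : LU ⟶ 𝟭 𝒜) (εV : LV ⟶ 𝟭 𝒜) (lU : LW ⟶ LU) (lV : LW ⟶ LV)

section
variable {aU ηU εU}

lemma K (hεU : ∀ F, aU.homEquiv F F (εU.app F) = ηU.app F) {F G : 𝒜} (φ : F ⟶ G) :
    aU.homEquiv F G (εU.app F ≫ φ) = φ ≫ ηU.app G := by
  have h1 := aU.homEquiv_naturality_right (εU.app F) φ
  have h2 : aU.homEquiv F F (εU.app F) ≫ RU.map φ = φ ≫ ηU.app G := by
    rw [hεU]; exact (ηU.naturality φ).symm
  exact h1.trans h2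

variable {aW ρU lU}

lemma Lam (hlU : conjugateEquiv aU aW lU = ρU) {F G : 𝒜} (ψ : LU.obj F ⟶ G) :
    aW.homEquiv F G (lU.app F ≫ ψ) = aU.homEquiv F G ψ ≫ ρU.app G := by
  subst hlU
  have h1 := unit_conjugateEquiv aU aW lU F
  have h2 := (conjugateEquiv aU aW lU).naturality ψ
  rw [Adjunction.homEquiv_unit, Adjunction.homEquiv_unit, Functor.map_comp, Category.assoc, h2,
    reassoc_of% h1]

end

variable {aU aV aW ηU ηV ρU ρV εU εV lU lV}

theorem main [RW.Additive] [EnoughInjectives 𝒜]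
    (hεU : ∀ F, aU.homEquiv F F (εU.app F) = ηU.app F)
    (hεV : ∀ F, aV.homEquiv F F (εV.app F) = ηV.app F)
    (hlU : conjugateEquiv aU aW lU = ρU) (hlV : conjugateEquiv aV aW lV = ρV)
    (hSES : ∀ G : 𝒜, ∃ h : biprod.lift (ηU.app G) (ηV.app G) ≫
        biprod.desc (ρU.app G) (-(ρV.app G)) = 0, (ShortComplex.mk _ _ h).ShortExact)
    (F : 𝒜) :
    ∃ h : biprod.lift (lU.app F) (-(lV.app F)) ≫ biprod.desc (εU.app F) (εV.app F) = 0,
      (ShortComplex.mk _ _ h).ShortExact := by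
  have KU := @K _ _ _ _ _ aU ηU εU hεU
  have KV := @K _ _ _ _ _ aV ηV εV hεV
  have LamU := @Lam _ _ _ _ _ _ _ aU aW ρU lU hlU
  have LamV := @Lam _ _ _ _ _ _ _ aV aW ρV lV hlV
  -- (a)
  have hw : ∀ G : 𝒜, ηU.app G ≫ ρU.app G = ηV.app G ≫ ρV.app G := by
    intro G
    obtain ⟨h, -⟩ := hSES G
    rw [biprod.lift_desc, Preadditive.comp_neg, ← sub_eq_add_neg, sub_eq_zero] at h
    exact h
  have h0 : lU.app F ≫ εU.app F = lV.app F ≫ εV.app F := by
    apply (aW.homEquiv F F).injective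
    have h1 := LamU (εU.app F)
    have h2 := LamV (εV.app F)
    have e1 : aU.homEquiv F F (εU.app F) ≫ ρU.app F = aV.homEquiv F F (εV.app F) ≫ ρV.app F := by
      rw [hεU, hεV]; exact hw F
    exact h1.trans (e1.trans h2.symm)
  have h : biprod.lift (lU.app F) (-(lV.app F)) ≫ biprod.desc (εU.app F) (εV.app F) = 0 := by
    rw [biprod.lift_desc, Preadditive.neg_comp, ← sub_eq_add_neg, sub_eq_zero]
    exact h0
  refine ⟨h, ?_⟩
  -- (b)+(c): `g` is a cokernel of `f`
  have hcok : ∀ {T : 𝒜} (k : LU.obj F ⊞ LV.obj F ⟶ T),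
      biprod.lift (lU.app F) (-(lV.app F)) ≫ k = 0 →
      ∃ l : F ⟶ T, biprod.desc (εU.app F) (εV.app F) ≫ l = k := by
    intro T k hk
    obtain ⟨hT0, hT⟩ := hSES T
    have hk' : lU.app F ≫ biprod.inl ≫ k = lV.app F ≫ biprod.inr ≫ k := by
      have : biprod.lift (lU.app F) (-(lV.app F)) ≫ k
          = lU.app F ≫ biprod.inl ≫ k - lV.app F ≫ biprod.inr ≫ k := by
        rw [biprod.lift_eq, Preadditive.add_comp, Category.assoc, Category.assoc,
          Preadditive.neg_comp, ← sub_eq_add_neg]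
      rw [this, sub_eq_zero] at hk
      exact hk
    have hk'' : aU.homEquiv F T (biprod.inl ≫ k) ≫ ρU.app T
        = aV.homEquiv F T (biprod.inr ≫ k) ≫ ρV.app T := by
      rw [← LamU, ← LamV, hk']
    haveI := hT.mono_f
    obtain ⟨l, hl⟩ := hT.exact.lift' (biprod.lift (aU.homEquiv F T (biprod.inl ≫ k))
      (aV.homEquiv F T (biprod.inr ≫ k))) (by
        change _ ≫ biprod.desc (ρU.app T) (-(ρV.app T)) = 0
        rw [biprod.lift_desc, Preadditive.comp_neg, ← sub_eq_add_neg, sub_eq_zero]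
        exact hk'')
    change l ≫ biprod.lift (ηU.app T) (ηV.app T) = _ at hl
    have hl1 : l ≫ ηU.app T = aU.homEquiv F T (biprod.inl ≫ k) := by
      have := congr_arg (· ≫ biprod.fst) hl
      simpa using this
    have hl2 : l ≫ ηV.app T = aV.homEquiv F T (biprod.inr ≫ k) := by
      have := congr_arg (· ≫ biprod.snd) hl
      simpa using this
    refine ⟨l, ?_⟩
    apply biprod.hom_ext'
    · rw [biprod.inl_desc_assoc]
      apply (aU.homEquiv F T).injective
      rw [KU, hl1]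
    · rw [biprod.inr_desc_assoc]
      apply (aV.homEquiv F T).injective
      rw [KV, hl2]
  have hepi : Epi (biprod.desc (εU.app F) (εV.app F)) := by
    constructor
    intro T l l' hll
    obtain ⟨hT0, hT⟩ := hSES T
    haveI := hT.mono_f
    have e1 : εU.app F ≫ l = εU.app F ≫ l' := by
      have := congr_arg (biprod.inl ≫ ·) hll
      simpa using this
    have e2 : εV.app F ≫ l = εV.app F ≫ l' := by
      have := congr_arg (biprod.inr ≫ ·) hll
      simpa using this
    have e1' : l ≫ ηU.app T = l' ≫ ηU.app T :=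
      (KU l).symm.trans ((congr_arg (aU.homEquiv F T) e1).trans (KU l'))
    have e2' : l ≫ ηV.app T = l' ≫ ηV.app T :=
      (KV l).symm.trans ((congr_arg (aV.homEquiv F T) e2).trans (KV l'))
    have : l ≫ biprod.lift (ηU.app T) (ηV.app T) = l' ≫ biprod.lift (ηU.app T) (ηV.app T) := by
      apply biprod.hom_ext <;> simp [e1', e2']
    exact (cancel_mono (biprod.lift (ηU.app T) (ηV.app T))).1 this
  -- (d) mono
  have hmono : Mono (biprod.lift (lU.app F) (-(lV.app F))) := by
    let I := Injective.under (LW.obj F)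
    let ι : LW.obj F ⟶ I := Injective.ι (LW.obj F)
    obtain ⟨hI0, hI⟩ := hSES I
    haveI : Injective (ShortComplex.mk _ _ hI0).X₁ := by
      change Injective I
      infer_instance
    let sp := hI.splittingOfInjective
    let c : F ⟶ RW.obj I := aW.homEquiv F I ι
    let t : F ⟶ RU.obj I ⊞ RV.obj I := c ≫ sp.s
    have ht : t ≫ biprod.desc (ρU.app I) (-(ρV.app I)) = c := by
      have := sp.s_g
      change sp.s ≫ biprod.desc (ρU.app I) (-(ρV.app I)) = 𝟙 _ at this
      change (c ≫ sp.s) ≫ _ = c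
      rw [Category.assoc, this]
      exact Category.comp_id c
    let a : F ⟶ RU.obj I := t ≫ biprod.fst
    let b : F ⟶ RV.obj I := t ≫ biprod.snd
    have hab : a ≫ ρU.app I - b ≫ ρV.app I = c := by
      rw [← ht]
      have : t = biprod.lift a b := by apply biprod.hom_ext <;> simp [a, b]
      rw [this, biprod.lift_desc, Preadditive.comp_neg, ← sub_eq_add_neg]
    let ψ : LU.obj F ⊞ LV.obj F ⟶ I :=
      biprod.desc ((aU.homEquiv F I).symm a) ((aV.homEquiv F I).symm b)
    have hψ : biprod.lift (lU.app F) (-(lV.app F)) ≫ ψ = ι := by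
      apply (aW.homEquiv F I).injective
      change _ = c
      rw [← hab, biprod.lift_desc, Preadditive.neg_comp, ← sub_eq_add_neg]
      have hadd : ∀ x y : LW.obj F ⟶ I, aW.homEquiv F I (x - y)
          = aW.homEquiv F I x - aW.homEquiv F I y := by
        intro x y
        rw [Adjunction.homEquiv_unit, Adjunction.homEquiv_unit, Adjunction.homEquiv_unit,
          Functor.map_sub, Preadditive.comp_sub]
      rw [hadd, LamU, LamV, Equiv.apply_symm_apply, Equiv.apply_symm_apply]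
    haveI : Mono (biprod.lift (lU.app F) (-(lV.app F)) ≫ ψ) := by
      rw [hψ]; infer_instance
    exact mono_of_mono _ ψ
  have hex : (ShortComplex.mk _ _ h).Exact ∧ Epi (ShortComplex.mk _ _ h).g := by
    rw [ShortComplex.exact_and_epi_g_iff_g_is_cokernel]
    refine ⟨CokernelCofork.IsColimit.ofπ _ _ (fun {T} k hk => (hcok k hk).choose)
      (fun {T} k hk => (hcok k hk).choose_spec) ?_⟩
    intro T k hk m hm
    exact (cancel_epi (biprod.desc (εU.app F) (εV.app F))).1 (hm.trans (hcok k hk).choose_spec.symm)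
  exact { exact := hex.1, mono_f := hmono, epi_g := hepi }

end Groth.Agent.H7.MVSh
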