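import Groth.Agent.Lib.Helper7.GA
import Groth.Agent.Lib.Helper7.MVSh
import Groth.Agent.Lib.Helper7.MVD
import Mathlib

/-! S10789: the shriek Mayer–Vietoris sequence. -/
set_option autoImplicit false
open CategoryTheory Limits
universe u

namespace Groth.Agent.H7.MV

open _root_.AlgSp

variable {S : AlgebraicGeometry.Scheme.{u}} {X : Sp S}

lemma shriek_K (U : EtOver X) [(resModEt U).IsRightAdjoint] (F : ModEt X) :
    (shriekResAdj U).homEquiv F F ((Adjunction.ofIsRightAdjoint (resModEt U)).counit.app F)
      = (resPushAdjEt U).unit.app F := by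
  rw [Adjunction.homEquiv_unit]
  unfold shriekResAdj
  rw [Adjunction.comp_unit_app]
  have h := (Adjunction.ofIsRightAdjoint (resModEt U)).right_triangle_components F
  rw [Category.assoc, Functor.comp_map, ← Functor.map_comp, h, CategoryTheory.Functor.map_id]
  exact Category.comp_id _

theorem S10789_main (U V : EtOver X) (hsq : IsElemDistSq U.obj.hom V.obj.hom)
    [(resModEt U).IsRightAdjoint] [(resModEt V).IsRightAdjoint]
    [(resModEt (EtOver.prodObj U V)).IsRightAdjoint] (F : ModEt X) :
    ∃ h : biprod.lift ((shriekResNatTrans (EtOver.prodFst U V)).app F)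
          (-((shriekResNatTrans (EtOver.prodSnd U V)).app F)) ≫
        biprod.desc ((Adjunction.ofIsRightAdjoint (resModEt U)).counit.app F)
          ((Adjunction.ofIsRightAdjoint (resModEt V)).counit.app F) = 0,
      (ShortComplex.mk _ _ h).ShortExact := by
  haveI := Groth.Agent.H7.GA.modEt_enoughInjectives X
  exact Groth.Agent.H7.MVSh.main (aU := shriekResAdj U) (aV := shriekResAdj V)
    (aW := shriekResAdj (EtOver.prodObj U V))
    (ηU := (resPushAdjEt U).unit) (ηV := (resPushAdjEt V).unit)
    (ρU := pushResNatTrans (EtOver.prodFst U V)) (ρV := pushResNatTrans (EtOver.prodSnd U V))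
    (εU := (Adjunction.ofIsRightAdjoint (resModEt U)).counit)
    (εV := (Adjunction.ofIsRightAdjoint (resModEt V)).counit)
    (lU := shriekResNatTrans (EtOver.prodFst U V)) (lV := shriekResNatTrans (EtOver.prodSnd U V))
    (shriek_K U) (shriek_K V)
    (Equiv.apply_symm_apply _ _) (Equiv.apply_symm_apply _ _)
    (fun G => S10788_main U V hsq G) F

end Groth.Agent.H7.MV
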