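import Mathlib
import Groth.Agent.Lib.Helper7.EX2

/-!
# Helper7: MVQ1 — the Mayer–Vietoris short exact sequence passes to quotients of a common object
(3×3-type lemma, via refinements)
-/

set_option autoImplicit false

universe v u

open CategoryTheory CategoryTheory.Limits Abelian

namespace Groth.Agent.H7.MVQ

open Groth.Agent.H7.EX

variable {C : Type u} [Category.{v} C] [Abelian C]

variable {W U V X T : C} (aU : W ⟶ U) (aV : W ⟶ V) (eU : U ⟶ X) (eV : V ⟶ X)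
  (w : aU ≫ eU = aV ≫ eV)
  (jW : W ⟶ T) (jU : U ⟶ T) (jV : V ⟶ T) (jX : X ⟶ T)
  [Mono jU] [Mono jV] [Mono jX]
  (hWU : aU ≫ jU = jW) (hWV : aV ≫ jV = jW) (hUX : eU ≫ jX = jU) (hVX : eV ≫ jX = jV)
  (bU : cokernel jW ⟶ cokernel jU) (bV : cokernel jW ⟶ cokernel jV)
  (cU : cokernel jU ⟶ cokernel jX) (cV : cokernel jV ⟶ cokernel jX)
  (hbU : cokernel.π jW ≫ bU = cokernel.π jU) (hbV : cokernel.π jW ≫ bV = cokernel.π jV)
  (hcU : cokernel.π jU ≫ cU = cokernel.π jX) (hcV : cokernel.π jV ≫ cV = cokernel.π jX)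

include hbU hbV hcU hcV in
lemma w_coker : bU ≫ cU = bV ≫ cV := by
  rw [← cancel_epi (cokernel.π jW), reassoc_of% hbU, reassoc_of% hbV, hcU, hcV]

include hcU in
lemma epi_g_coker : Epi (biprod.desc cU cV) := by
  haveI : Epi cU := epi_of_epi_fac hcU
  have h : biprod.inl ≫ biprod.desc cU cV = cU := biprod.inl_desc _ _
  exact epi_of_epi_fac h

include hWU hUX hVX hbU hbV in
lemma mono_f_coker (hS : (mvSC aU aV eU eV w).ShortExact) :
    Mono (biprod.lift bU (-bV)) := by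
  rw [Preadditive.mono_iff_cancel_zero]
  intro A₀ z hz
  have hz1 : z ≫ bU = 0 := by
    have := hz =≫ biprod.fst
    simpa using this
  have hz2 : z ≫ bV = 0 := by
    have := hz =≫ biprod.snd
    simpa using this
  obtain ⟨A₁, π₁, _, t, ht⟩ := surjective_up_to_refinements_of_epi (cokernel.π jW) z
  have htU : t ≫ cokernel.π jU = 0 := by
    rw [← hbU, ← Category.assoc, ← ht, Category.assoc, hz1, comp_zero]
  have htV : t ≫ cokernel.π jV = 0 := by
    rw [← hbV, ← Category.assoc, ← ht, Category.assoc, hz2, comp_zero]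
  obtain ⟨u, hu⟩ : ∃ u : A₁ ⟶ U, u ≫ jU = t :=
    ⟨Abelian.monoLift jU t htU, Abelian.monoLift_comp jU t htU⟩
  obtain ⟨v, hv⟩ : ∃ v : A₁ ⟶ V, v ≫ jV = t :=
    ⟨Abelian.monoLift jV t htV, Abelian.monoLift_comp jV t htV⟩
  have hg : biprod.lift u (-v) ≫ (mvSC aU aV eU eV w).g = 0 := by
    change biprod.lift u (-v) ≫ biprod.desc eU eV = 0
    rw [← cancel_mono jX, zero_comp, biprod.lift_desc, Preadditive.add_comp, Category.assoc,
      Category.assoc, hUX, hVX, Preadditive.neg_comp, hu, hv, add_neg_cancel]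
  obtain ⟨A₂, π₂, _, (s : A₂ ⟶ W), hs⟩ := hS.exact.exact_up_to_refinements _ hg
  have hs1 : π₂ ≫ u = s ≫ aU := by
    have := hs =≫ biprod.fst
    simpa [mvSC] using this
  have h0 : (π₂ ≫ π₁) ≫ z = 0 := by
    rw [Category.assoc, ht, ← hu, ← Category.assoc, ← Category.assoc, hs1, Category.assoc,
      Category.assoc, reassoc_of% hWU, cokernel.condition, comp_zero]
  exact (cancel_epi (π₂ ≫ π₁)).1 (h0.trans comp_zero.symm)

include hWU hWV hUX hVX hbU hbV hcU hcV in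
lemma exact_coker (hS : (mvSC aU aV eU eV w).ShortExact) :
    (mvSC bU bV cU cV (w_coker jW jU jV jX bU bV cU cV hbU hbV hcU hcV)).Exact := by
  rw [ShortComplex.exact_iff_exact_up_to_refinements]
  intro A₀ (y : A₀ ⟶ cokernel jU ⊞ cokernel jV) hy
  change y ≫ biprod.desc cU cV = 0 at hy
  -- components of y
  obtain ⟨A₁, π₁, _, t₁, ht₁⟩ := surjective_up_to_refinements_of_epi (cokernel.π jU) (y ≫ biprod.fst)
  obtain ⟨A₁', π₁', _, t₂, ht₂⟩ :=
    surjective_up_to_refinements_of_epi (cokernel.π jV) (π₁ ≫ y ≫ biprod.snd)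
  -- work over A₁'
  have hsum : (π₁' ≫ t₁ + t₂) ≫ cokernel.π jX = 0 := by
    have e1 : (π₁' ≫ t₁) ≫ cokernel.π jX = (π₁' ≫ π₁) ≫ y ≫ biprod.fst ≫ cU := by
      rw [← hcU, Category.assoc, ← Category.assoc t₁, ← ht₁]
      simp only [Category.assoc]
    have e2 : t₂ ≫ cokernel.π jX = (π₁' ≫ π₁) ≫ y ≫ biprod.snd ≫ cV := by
      rw [← hcV, ← Category.assoc t₂, ← ht₂]
      simp only [Category.assoc]
    have e3 : y ≫ biprod.fst ≫ cU + y ≫ biprod.snd ≫ cV = 0 := by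
      rw [← hy, biprod.desc_eq, Preadditive.comp_add]
    rw [Preadditive.add_comp, e1, e2, ← Preadditive.comp_add, e3, comp_zero]
  obtain ⟨x, hx⟩ : ∃ x : A₁' ⟶ X, x ≫ jX = π₁' ≫ t₁ + t₂ :=
    ⟨Abelian.monoLift jX _ hsum, Abelian.monoLift_comp jX _ hsum⟩
  haveI : Epi (mvSC aU aV eU eV w).g := hS.epi_g
  obtain ⟨A₂, π₂, _, (uv : A₂ ⟶ U ⊞ V), huv⟩ :=
    surjective_up_to_refinements_of_epi (mvSC aU aV eU eV w).g x
  change π₂ ≫ x = uv ≫ biprod.desc eU eV at huv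
  -- the element of `T`
  let t : A₂ ⟶ T := π₂ ≫ π₁' ≫ t₁ - (uv ≫ biprod.fst) ≫ jU
  have ht' : t = (uv ≫ biprod.snd) ≫ jV - π₂ ≫ t₂ := by
    have e : π₂ ≫ (π₁' ≫ t₁ + t₂) = (uv ≫ biprod.fst) ≫ jU + (uv ≫ biprod.snd) ≫ jV := by
      rw [← hx, ← Category.assoc, huv, biprod.desc_eq, Preadditive.comp_add, Preadditive.add_comp]
      simp only [Category.assoc, hUX, hVX]
    rw [Preadditive.comp_add] at e
    change π₂ ≫ π₁' ≫ t₁ - (uv ≫ biprod.fst) ≫ jU = _
    rw [sub_eq_sub_iff_add_eq_add]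
    rw [e]
    abel
  have key : (π₂ ≫ π₁' ≫ π₁) ≫ y = (t ≫ cokernel.π jW) ≫ biprod.lift bU (-bV) := by
    apply biprod.hom_ext
    · rw [Category.assoc (t ≫ cokernel.π jW), biprod.lift_fst, Category.assoc t, hbU]
      change _ = (π₂ ≫ π₁' ≫ t₁ - (uv ≫ biprod.fst) ≫ jU) ≫ cokernel.π jU
      rw [Preadditive.sub_comp, Category.assoc _ jU, cokernel.condition, comp_zero, sub_zero]
      simp only [Category.assoc]
      rw [ht₁]
    · rw [Category.assoc (t ≫ cokernel.π jW), biprod.lift_snd, Category.assoc t,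
        Preadditive.comp_neg, hbV, Preadditive.comp_neg, ht']
      rw [Preadditive.sub_comp, Category.assoc _ jV, cokernel.condition, comp_zero, zero_sub,
        neg_neg]
      simp only [Category.assoc]
      rw [ht₂]
  exact ⟨A₂, π₂ ≫ π₁' ≫ π₁, inferInstance, t ≫ cokernel.π jW, key⟩

include hWU hWV hUX hVX hbU hbV hcU hcV in
theorem shortExact_coker (hS : (mvSC aU aV eU eV w).ShortExact) :
    (mvSC bU bV cU cV (w_coker jW jU jV jX bU bV cU cV hbU hbV hcU hcV)).ShortExact where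
  exact := exact_coker aU aV eU eV w jW jU jV jX hWU hWV hUX hVX bU bV cU cV hbU hbV hcU hcV hS
  mono_f := mono_f_coker aU aV eU eV w jW jU jV jX hWU hUX hVX bU bV hbU hbV hS
  epi_g := epi_g_coker jU jV jX cU cV hcU

end Groth.Agent.H7.MVQ
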