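import Mathlib
import Groth.Agent.Lib.Helper7.MVQ1
import Groth.Prelude.Def_LocCohZ

/-!
# Helper7: MVQ2 — Mayer–Vietoris for cohomology with supports `H^i_Z(X, F)` (S16287)
-/

set_option autoImplicit false

universe u

open CategoryTheory CategoryTheory.Limits Abelian TopologicalSpace Opposite

namespace Groth.Agent.H7.MVQ

open Groth.Agent.H7.EX LocCohZ

variable {X : TopCat.{u}}

/-- `ℤ_W ⟶ ℤ_V` for `W ≤ V`. -/
noncomputable abbrev fs {W V : Opens X} (h : W ≤ V) :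
    CohCx.freeSheaf (Opens.grothendieckTopology X) W ⟶ CohCx.freeSheaf (Opens.grothendieckTopology X) V :=
  CohCx.freeSheafMap (Opens.grothendieckTopology X) (homOfLE h)

lemma fs_comp {W V T : Opens X} (h : W ≤ V) (h' : V ≤ T) : fs h ≫ fs h' = fs (h.trans h') := by
  unfold fs
  rw [← CohFree.freeSheafMap_comp]
  rfl

lemma fs_refl (W : Opens X) : fs (le_refl W) = 𝟙 _ :=
  CohFree.freeSheafMap_id _ W

variable (U U' : Opens X)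

lemma fs_w : fs (inf_le_left : U ⊓ U' ≤ U) ≫ fs (le_sup_left : U ≤ U ⊔ U') =
    fs (inf_le_right : U ⊓ U' ≤ U') ≫ fs (le_sup_right : U' ≤ U ⊔ U') := by
  rw [fs_comp, fs_comp]

lemma top_shortExact : (mvSC (fs (inf_le_left : U ⊓ U' ≤ U)) (fs (inf_le_right : U ⊓ U' ≤ U'))
    (fs (le_sup_left : U ≤ U ⊔ U')) (fs (le_sup_right : U' ≤ U ⊔ U')) (fs_w U U')).ShortExact :=
  (Opens.mayerVietorisSquare U U').shortComplex_shortExact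


lemma π_zqMap {W W' : Opens X} (h : W' ≤ W) :
    cokernel.π (fs (le_top : W' ≤ ⊤)) ≫ zqMap (le_top : W ≤ ⊤) (le_top : W' ≤ ⊤) h le_rfl =
      cokernel.π (fs (le_top : W ≤ ⊤)) := by
  unfold zqMap
  rw [cokernel.π_desc]
  have : CohCx.freeSheafMap (Opens.grothendieckTopology X) (homOfLE (le_rfl : (⊤ : Opens X) ≤ ⊤)) =
      𝟙 _ := fs_refl ⊤
  rw [this, Category.id_comp]

/-- the four maps -/
noncomputable abbrev bU : zq (le_top : U ⊓ U' ≤ ⊤) ⟶ zq (le_top : U ≤ ⊤) :=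
  zqMap (le_top : U ≤ ⊤) (le_top : U ⊓ U' ≤ ⊤) inf_le_left le_rfl
noncomputable abbrev bV : zq (le_top : U ⊓ U' ≤ ⊤) ⟶ zq (le_top : U' ≤ ⊤) :=
  zqMap (le_top : U' ≤ ⊤) (le_top : U ⊓ U' ≤ ⊤) inf_le_right le_rfl
noncomputable abbrev cU : zq (le_top : U ≤ ⊤) ⟶ zq (le_top : U ⊔ U' ≤ ⊤) :=
  zqMap (le_top : U ⊔ U' ≤ ⊤) (le_top : U ≤ ⊤) le_sup_left le_rfl
noncomputable abbrev cV : zq (le_top : U' ≤ ⊤) ⟶ zq (le_top : U ⊔ U' ≤ ⊤) :=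
  zqMap (le_top : U ⊔ U' ≤ ⊤) (le_top : U' ≤ ⊤) le_sup_right le_rfl

lemma zq_w : bU U U' ≫ cU U U' = bV U U' ≫ cV U U' :=
  w_coker (jW := fs (le_top : U ⊓ U' ≤ ⊤)) (jU := fs (le_top : U ≤ ⊤)) (jV := fs (le_top : U' ≤ ⊤))
    (jX := fs (le_top : U ⊔ U' ≤ ⊤)) (bU := bU U U') (bV := bV U U') (cU := cU U U')
    (cV := cV U U') (π_zqMap _) (π_zqMap _) (π_zqMap _) (π_zqMap _)

/-- the Mayer–Vietoris short exact sequence `ℤ_X/ℤ_{U⊓U'} ⟶ ℤ_X/ℤ_U ⊞ ℤ_X/ℤ_{U'} ⟶ ℤ_X/ℤ_{U⊔U'}`. -/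
lemma zq_shortExact :
    (mvSC (bU U U') (bV U U') (cU U U') (cV U U') (zq_w U U')).ShortExact := by
  haveI : Mono (fs (le_top : U ≤ ⊤)) := by unfold fs; infer_instance
  haveI : Mono (fs (le_top : U' ≤ ⊤)) := by unfold fs; infer_instance
  haveI : Mono (fs (le_top : U ⊔ U' ≤ ⊤)) := by unfold fs; infer_instance
  exact shortExact_coker (aU := fs (inf_le_left : U ⊓ U' ≤ U)) (aV := fs (inf_le_right : U ⊓ U' ≤ U'))
    (eU := fs (le_sup_left : U ≤ U ⊔ U')) (eV := fs (le_sup_right : U' ≤ U ⊔ U')) (w := fs_w U U')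
    (jW := fs (le_top : U ⊓ U' ≤ ⊤)) (jU := fs (le_top : U ≤ ⊤)) (jV := fs (le_top : U' ≤ ⊤))
    (jX := fs (le_top : U ⊔ U' ≤ ⊤))
    (fs_comp _ _) (fs_comp _ _) (fs_comp _ _) (fs_comp _ _)
    (bU := bU U U') (bV := bV U U') (cU := cU U U') (cV := cV U U')
    (π_zqMap _) (π_zqMap _) (π_zqMap _) (π_zqMap _) (top_shortExact U U')

theorem S16287_main (F : CohTop.Ab X) :
    Function.Injective (fun x : LocCohZ.HZc F 0 (U ⊔ U') =>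
      (LocCohZ.resZ F 0 (le_top : U ⊔ U' ≤ ⊤) (le_top : U ≤ ⊤) le_sup_left le_rfl x,
       LocCohZ.resZ F 0 (le_top : U ⊔ U' ≤ ⊤) (le_top : U' ≤ ⊤) le_sup_right le_rfl x)) ∧
    ∃ δ : ∀ i : ℕ, LocCohZ.HZc F i (U ⊓ U') →+ LocCohZ.HZc F (i + 1) (U ⊔ U'),
      ∀ i : ℕ,
        (∀ y : LocCohZ.HZc F i U × LocCohZ.HZc F i U',
          LocCohZ.resZ F i (le_top : U ≤ ⊤) (le_top : U ⊓ U' ≤ ⊤) inf_le_left le_rfl y.1 -
              LocCohZ.resZ F i (le_top : U' ≤ ⊤) (le_top : U ⊓ U' ≤ ⊤) inf_le_right le_rfl y.2 = 0 ↔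
            ∃ x : LocCohZ.HZc F i (U ⊔ U'),
              LocCohZ.resZ F i (le_top : U ⊔ U' ≤ ⊤) (le_top : U ≤ ⊤) le_sup_left le_rfl x = y.1 ∧
              LocCohZ.resZ F i (le_top : U ⊔ U' ≤ ⊤) (le_top : U' ≤ ⊤) le_sup_right le_rfl x = y.2) ∧
        (∀ w : LocCohZ.HZc F i (U ⊓ U'),
          δ i w = 0 ↔ ∃ y : LocCohZ.HZc F i U × LocCohZ.HZc F i U',
            LocCohZ.resZ F i (le_top : U ≤ ⊤) (le_top : U ⊓ U' ≤ ⊤) inf_le_left le_rfl y.1 -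
              LocCohZ.resZ F i (le_top : U' ≤ ⊤) (le_top : U ⊓ U' ≤ ⊤) inf_le_right le_rfl y.2 = w) ∧
        (∀ x : LocCohZ.HZc F (i + 1) (U ⊔ U'),
          (LocCohZ.resZ F (i + 1) (le_top : U ⊔ U' ≤ ⊤) (le_top : U ≤ ⊤) le_sup_left le_rfl x = 0 ∧
            LocCohZ.resZ F (i + 1) (le_top : U ⊔ U' ≤ ⊤) (le_top : U' ≤ ⊤) le_sup_right le_rfl x = 0) ↔
            ∃ w : LocCohZ.HZc F i (U ⊓ U'), δ i w = x) := by
  have hS := zq_shortExact U U'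
  refine ⟨?_, fun i => mvδ _ _ _ _ _ hS F i, fun i => ⟨?_, ?_, ?_⟩⟩
  · intro x x' hxx'
    have h1 := congrArg Prod.fst hxx'
    have h2 := congrArg Prod.snd hxx'
    dsimp only at h1 h2
    rw [← sub_eq_zero]
    apply mv_exact₀ _ _ _ _ _ hS F
    · change LocCohZ.resZ F 0 (le_top : U ⊔ U' ≤ ⊤) (le_top : U ≤ ⊤) le_sup_left le_rfl (x - x') = 0
      rw [map_sub, h1, sub_self]
    · change LocCohZ.resZ F 0 (le_top : U ⊔ U' ≤ ⊤) (le_top : U' ≤ ⊤) le_sup_right le_rfl (x - x') = 0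
      rw [map_sub, h2, sub_self]
  · intro y
    exact mv_exact₂ _ _ _ _ _ hS F y.1 y.2
  · intro w
    refine (mv_exact₃ _ _ _ _ _ hS F w).trans ⟨?_, ?_⟩
    · rintro ⟨y, z, h⟩
      exact ⟨(y, z), h⟩
    · rintro ⟨y, h⟩
      exact ⟨y.1, y.2, h⟩
  · intro x
    exact mv_exact₁ _ _ _ _ _ hS F x

end Groth.Agent.H7.MVQ
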