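import Mathlib
import Groth.Agent.Lib.Helper7.EndIso
import Groth.Agent.Lib.Helper7.LG.AzZar

set_option autoImplicit false
universe u v w

namespace Groth.Agent.H7.MatAut

open scoped TensorProduct

section PiInv
variable {A : Type u} [CommRing A] (L : Type v) [AddCommGroup L] [Module A L] [Module.Invertible A L]

/-- tensor powers of invertible modules are invertible -/
theorem invertible_piTensor (n : ℕ) : Module.Invertible A (⨂[A] _ : Fin n, L) := by
  induction n with
  | zero => exact Module.Invertible.congr (PiTensorProduct.isEmptyEquiv (R := A) (s := fun _ : Fin 0 => L) (Fin 0)).symm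
  | succ n ih =>
    haveI := ih
    let e1 : (⨂[A] _ : Fin (n + 1), L) ≃ₗ[A] ⨂[A] _ : Fin n ⊕ Fin 1, L :=
      PiTensorProduct.reindex A (fun _ : Fin (n + 1) => L) finSumFinEquiv.symm
    let e2 : ((⨂[A] _ : Fin n, L) ⊗[A] (⨂[A] _ : Fin 1, L)) ≃ₗ[A] ⨂[A] _ : Fin n ⊕ Fin 1, L :=
      PiTensorProduct.tmulEquiv A L
    let e3 : (⨂[A] _ : Fin 1, L) ≃ₗ[A] L :=
      PiTensorProduct.subsingletonEquiv (R := A) (s := fun _ : Fin 1 => L) (0 : Fin 1)
    haveI : Module.Invertible A (⨂[A] _ : Fin 1, L) := Module.Invertible.congr e3.symm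
    exact Module.Invertible.congr (e2.trans e1.symm)

end PiInv

section Central
variable {R : Type u} [CommRing R] {B : Type v} [Ring B] [Algebra R B] [IsAzumaya R B]

/-- at a prime, there is an intertwiner which is invertible up to a scalar outside the prime. -/
theorem exists_inter_central (φ : B ≃ₐ[R] B) (p : Ideal R) [p.IsPrime] :
    ∃ u ∈ LG.inter (φ : B →ₐ[R] B) (AlgHom.id R B), ∃ (v : B) (f₁ : R), f₁ ∉ p ∧
      v * u = algebraMap R B f₁ := by
  obtain ⟨u, hu, v, hv, c, hc, h1, h2⟩ := LG.exists_prime_inter (φ : B →ₐ[R] B) (AlgHom.id R B) p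
  have hu' : ∀ a : B, φ a * u = u * a := hu
  have hv' : ∀ a : B, a * v = v * φ a := hv
  obtain ⟨f₁, hf₁⟩ := LG.center_azumaya R B (v * u) (fun a => by
    rw [mul_assoc, ← hu', ← mul_assoc, ← hv', mul_assoc])
  haveI : IsAzumaya p.ResidueField (p.ResidueField ⊗[R] B) :=
    Azu.isAzumaya_baseChange R p.ResidueField B
  haveI : IsSimpleRing (p.ResidueField ⊗[R] B) := Azu.isSimpleRing_of_isAzumaya_field p.ResidueField _
  have hinj : Function.Injective (algebraMap p.ResidueField (p.ResidueField ⊗[R] B)) :=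
    (algebraMap p.ResidueField (p.ResidueField ⊗[R] B)).injective
  refine ⟨u, hu, v, f₁, ?_, hf₁⟩
  have hwc : ((1 : p.ResidueField) ⊗ₜ[R] (v * u) : p.ResidueField ⊗[R] B) = c • 1 := by
    rw [← h1, Algebra.TensorProduct.tmul_mul_tmul, mul_one]
  rw [hf₁, Algebra.algebraMap_eq_smul_one, TensorProduct.tmul_smul, ← Algebra.TensorProduct.one_def,
    ← algebraMap_smul p.ResidueField f₁ (1 : p.ResidueField ⊗[R] B),
    ← Algebra.algebraMap_eq_smul_one, ← Algebra.algebraMap_eq_smul_one] at hwc
  have := hinj hwc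
  rw [← Ideal.algebraMap_residueField_eq_zero (I := p), this]
  exact hc

end Central

section Main
variable (A : Type u) [CommRing A] (n : ℕ)
  (α : Matrix (Fin n) (Fin n) A ≃ₐ[A] Matrix (Fin n) (Fin n) A)

/-- the module of liftings of `α` -/
abbrev LS : Submodule A (Matrix (Fin n) (Fin n) A) :=
  LinearMap.ker (LinearMap.mul A (Matrix (Fin n) (Fin n) A) -
    (LinearMap.lcomp A (Matrix (Fin n) (Fin n) A) α.toLinearMap).comp
      (LinearMap.mul A (Matrix (Fin n) (Fin n) A)).flip)

theorem mem_LS (M : Matrix (Fin n) (Fin n) A) : M ∈ LS A n α ↔ ∀ N, M * N = α N * M := by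
  rw [LinearMap.mem_ker]
  constructor
  · intro h N
    have := LinearMap.congr_fun h N
    simp only [LinearMap.sub_apply, LinearMap.mul_apply', LinearMap.comp_apply,
      LinearMap.lcomp_apply, LinearMap.flip_apply, AlgEquiv.toLinearMap_apply,
      LinearMap.zero_apply] at this
    exact sub_eq_zero.mp this
  · intro h
    ext1 N
    simp only [LinearMap.sub_apply, LinearMap.mul_apply', LinearMap.comp_apply,
      LinearMap.lcomp_apply, LinearMap.flip_apply, AlgEquiv.toLinearMap_apply,
      LinearMap.zero_apply]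
    exact sub_eq_zero.mpr (h N)

/-- the automorphism of `End (Fin n → A)` corresponding to `α` -/
noncomputable def endAut : Module.End A (Fin n → A) ≃ₐ[A] Module.End A (Fin n → A) :=
  (Matrix.toLinAlgEquiv' (R := A) (n := Fin n)).symm.trans (α.trans Matrix.toLinAlgEquiv')

theorem map_LS_eq :
    Submodule.map ((Matrix.toLinAlgEquiv' (R := A) (n := Fin n)).toLinearEquiv :
        Matrix (Fin n) (Fin n) A →ₗ[A] Module.End A (Fin n → A)) (LS A n α) =
      EndIso.interHom (endAut A n α : Module.End A (Fin n → A) →ₐ[A] Module.End A (Fin n → A)) := by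
  ext h
  constructor
  · rintro ⟨M, hM, rfl⟩
    replace hM := (mem_LS A n α M).mp hM
    intro f
    obtain ⟨N, rfl⟩ := (Matrix.toLinAlgEquiv' (R := A) (n := Fin n)).surjective f
    show Matrix.toLinAlgEquiv' M * Matrix.toLinAlgEquiv' N =
      (endAut A n α) (Matrix.toLinAlgEquiv' N) * Matrix.toLinAlgEquiv' M
    have : (endAut A n α) (Matrix.toLinAlgEquiv' N) = Matrix.toLinAlgEquiv' (α N) := by
      simp [endAut]
    rw [this, ← map_mul, ← map_mul, hM]
  · intro hh
    obtain ⟨M, rfl⟩ := (Matrix.toLinAlgEquiv' (R := A) (n := Fin n)).surjective h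
    refine ⟨M, (mem_LS A n α M).mpr ?_, rfl⟩
    intro N
    have h1 : Matrix.toLinAlgEquiv' M * Matrix.toLinAlgEquiv' N =
        (endAut A n α) (Matrix.toLinAlgEquiv' N) * Matrix.toLinAlgEquiv' M :=
      hh (Matrix.toLinAlgEquiv' N)
    have : (endAut A n α) (Matrix.toLinAlgEquiv' N) = Matrix.toLinAlgEquiv' (α N) := by
      simp [endAut]
    rw [this] at h1
    apply (Matrix.toLinAlgEquiv' (R := A) (n := Fin n)).injective
    rw [map_mul, map_mul]
    exact h1

theorem invertible_LS [Nontrivial A] (hn : 0 < n) : Module.Invertible A (LS A n α) := by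
  haveI : NeZero n := ⟨hn.ne'⟩
  haveI : Module.FaithfullyFlat A (Fin n → A) := inferInstance
  have h := (EndIso.exists_invertible_tensor_equiv (endAut A n α)).1
  exact Module.Invertible.congr (LinearEquiv.ofSubmodules
    (Matrix.toLinAlgEquiv' (R := A) (n := Fin n)).toLinearEquiv _ _ (map_LS_eq A n α)).symm

/-- row map -/
def rowMap (i : Fin n) : LS A n α →ₗ[A] (Fin n → A) where
  toFun M := M.1 i
  map_add' _ _ := rfl
  map_smul' _ _ := rfl

/-- the determinant as a multilinear map on liftings -/
noncomputable def detMulti : MultilinearMap A (fun _ : Fin n => LS A n α) A :=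
  (Matrix.detRowAlternating (n := Fin n) (R := A)).toMultilinearMap.compLinearMap (rowMap A n α)

theorem detMulti_const (u : LS A n α) : detMulti A n α (fun _ => u) = u.1.det := rfl

/-- the induced linear map on the tensor power -/
noncomputable def detLin : (⨂[A] _ : Fin n, LS A n α) →ₗ[A] A :=
  PiTensorProduct.lift (detMulti A n α)

theorem detLin_tprod_const (u : LS A n α) :
    detLin A n α (PiTensorProduct.tprod A (fun _ => u)) = u.1.det := by
  rw [detLin, PiTensorProduct.lift.tprod, detMulti_const]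

theorem detLin_surjective (hn : 0 < n) : Function.Surjective (detLin A n α) := by
  haveI : Nonempty (Fin n) := ⟨⟨0, hn⟩⟩
  haveI : IsAzumaya A (Matrix (Fin n) (Fin n) A) := IsAzumaya.matrix A (Fin n)
  set I : Ideal A := LinearMap.range (detLin A n α) with hI
  have htop : I = ⊤ := by
    by_contra hne
    obtain ⟨m, hm, hle⟩ := Ideal.exists_le_maximal I hne
    haveI := hm.isPrime
    obtain ⟨u, hu, v, f₁, hf₁, hvu⟩ := exists_inter_central α m
    have huL : u ∈ LS A n α := by
      rw [mem_LS]
      intro N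
      exact (hu N).symm
    have h1 : u.det ∈ I := ⟨PiTensorProduct.tprod A (fun _ => ⟨u, huL⟩), detLin_tprod_const A n α _⟩
    have h2 : v.det * u.det = f₁ ^ n := by
      rw [← Matrix.det_mul, hvu, Algebra.algebraMap_eq_smul_one, Matrix.det_smul, Matrix.det_one,
        mul_one, Fintype.card_fin]
    have h3 : f₁ ^ n ∈ m := by
      rw [← h2]
      exact Ideal.mul_mem_left _ _ (hle h1)
    exact hf₁ (hm.isPrime.mem_of_pow_mem n h3)
  intro a
  have : a ∈ I := by rw [htop]; trivial
  exact this

/-- S13797 -/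
theorem main (hn : 0 < n) :
    Module.Invertible A (LS A n α) ∧ Nonempty ((⨂[A] _ : Fin n, LS A n α) ≃ₗ[A] A) := by
  rcases subsingleton_or_nontrivial A with hA | hA
  · haveI : ∀ (M : Type u) [AddCommGroup M] [Module A M], Subsingleton M :=
      fun M _ _ => Module.subsingleton A M
    refine ⟨⟨⟨fun x y _ => Subsingleton.elim x y, fun b => ⟨0, Subsingleton.elim _ _⟩⟩⟩, ?_⟩
    exact ⟨LinearEquiv.ofSubsingleton _ _⟩
  · haveI := invertible_LS A n α hn
    haveI := invertible_piTensor (A := A) (LS A n α) n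
    exact ⟨inferInstance, ⟨LinearEquiv.ofBijective (detLin A n α)
      (Module.Invertible.bijective_of_surjective (detLin_surjective A n α hn))⟩⟩

end Main

end Groth.Agent.H7.MatAut
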