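import Mathlib
import Groth.Agent.Lib.Helper7.MatAut
import Groth.Agent.Lib.Helper7.LG.AzHom

set_option autoImplicit false
universe u v w

namespace Groth.Agent.H7.MatInner

open scoped TensorProduct

section Backward
variable (R : Type u) [CommRing R] (n : ℕ)
  (φ : Matrix (Fin n) (Fin n) R ≃ₐ[R] Matrix (Fin n) (Fin n) R)

/-- `L^n ≃ R^n` for the module of liftings. -/
theorem nonempty_pi_LS_equiv [Nontrivial R] (hn : 0 < n) :
    Nonempty ((Fin n → MatAut.LS R n φ) ≃ₗ[R] (Fin n → R)) := by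
  haveI : NeZero n := ⟨hn.ne'⟩
  obtain ⟨_, ξ, _⟩ := EndIso.exists_invertible_tensor_equiv (MatAut.endAut R n φ)
  let e0 : MatAut.LS R n φ ≃ₗ[R] EndIso.interHom
      (MatAut.endAut R n φ : Module.End R (Fin n → R) →ₐ[R] Module.End R (Fin n → R)) :=
    LinearEquiv.ofSubmodules (Matrix.toLinAlgEquiv' (R := R) (n := Fin n)).toLinearEquiv _ _
      (MatAut.map_LS_eq R n φ)
  let e1 : (Fin n → MatAut.LS R n φ) ≃ₗ[R] MatAut.LS R n φ ⊗[R] (Fin n → R) :=
    (TensorProduct.piScalarRight R R (MatAut.LS R n φ) (Fin n)).symm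
  let e2 := TensorProduct.comm R (MatAut.LS R n φ) (Fin n → R)
  let e3 : (Fin n → R) ⊗[R] MatAut.LS R n φ ≃ₗ[R] (Fin n → R) ⊗[R] EndIso.interHom
      (MatAut.endAut R n φ : Module.End R (Fin n → R) →ₐ[R] Module.End R (Fin n → R)) :=
    TensorProduct.congr (LinearEquiv.refl R _) e0
  exact ⟨e1.trans (e2.trans (e3.trans ξ))⟩

theorem exists_inner_of_free (hn : 0 < n)
    (H : ∀ (N : Type u) [AddCommGroup N] [Module R N] [Module.Invertible R N],
        Nonempty ((Fin n → N) ≃ₗ[R] (Fin n → R)) → Module.Free R N) :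
    ∃ P : GL (Fin n) R, ∀ A : Matrix (Fin n) (Fin n) R, φ A = P.1 * A * (P⁻¹).1 := by
  rcases subsingleton_or_nontrivial R with hR | hR
  · haveI : Subsingleton (Matrix (Fin n) (Fin n) R) := Module.subsingleton R _
    exact ⟨1, fun A => Subsingleton.elim _ _⟩
  haveI : Module.Invertible R (MatAut.LS R n φ) := (MatAut.main R n φ hn).1
  haveI : Module.Free R (MatAut.LS R n φ) := H _ (nonempty_pi_LS_equiv R n φ hn)
  obtain ⟨e⟩ := (Module.Invertible.free_iff_linearEquiv (R := R) (M := MatAut.LS R n φ)).mp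
    inferInstance
  set P := e.symm 1 with hP
  have hgen : ∀ u : MatAut.LS R n φ, u = e u • P := by
    intro u
    apply e.injective
    rw [map_smul, hP, e.apply_symm_apply, smul_eq_mul, mul_one]
  have hdet : IsUnit P.1.det := by
    by_contra hnu
    obtain ⟨m, hm, hmem⟩ := exists_max_ideal_of_mem_nonunits hnu
    haveI := hm.isPrime
    haveI : Nonempty (Fin n) := ⟨⟨0, hn⟩⟩
    haveI : IsAzumaya R (Matrix (Fin n) (Fin n) R) := IsAzumaya.matrix R (Fin n)
    obtain ⟨u, hu, v, f₁, hf₁, hvu⟩ := MatAut.exists_inter_central φ m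
    have huL : u ∈ MatAut.LS R n φ := by
      rw [MatAut.mem_LS]
      intro N
      exact (hu N).symm
    have h1 : u = e ⟨u, huL⟩ • P.1 := congrArg Subtype.val (hgen ⟨u, huL⟩)
    have h2 : v.det * ((e ⟨u, huL⟩) ^ n * P.1.det) = f₁ ^ n := by
      have := congrArg Matrix.det hvu
      rw [Matrix.det_mul, Algebra.algebraMap_eq_smul_one, Matrix.det_smul, Matrix.det_one,
        mul_one, Fintype.card_fin] at this
      rw [← this]
      congr 1
      conv_rhs => rw [h1]
      rw [Matrix.det_smul, Fintype.card_fin]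
    have h3 : f₁ ^ n ∈ m := by
      rw [← h2, ← mul_assoc]
      exact Ideal.mul_mem_left _ _ hmem
    exact hf₁ (hm.isPrime.mem_of_pow_mem n h3)
  have hPu : IsUnit P.1 := (Matrix.isUnit_iff_isUnit_det _).mpr hdet
  refine ⟨hPu.unit, fun A => ?_⟩
  rw [Units.eq_mul_inv_iff_mul_eq, IsUnit.unit_spec]
  exact ((MatAut.mem_LS R n φ P.1).mp P.2 A).symm

end Backward

section Forward
variable (R : Type u) [CommRing R] (n : ℕ) (N : Type v) [AddCommGroup N] [Module R N]

open Matrix.Module

/-- the action of matrices on `N^n` -/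
noncomputable def rho : Matrix (Fin n) (Fin n) R →ₐ[R] Module.End R (Fin n → N) :=
  AlgHom.ofLinearMap
    { toFun := fun A =>
        { toFun := fun v => A • v
          map_add' := smul_add A
          map_smul' := fun r v => by
            ext i
            simp only [Matrix.Module.smul_apply, Pi.smul_apply, RingHom.id_apply, Finset.smul_sum]
            exact Finset.sum_congr rfl (fun j _ => smul_comm _ _ _) }
      map_add' := fun A B => by
        refine LinearMap.ext (fun v => ?_)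
        exact add_smul A B v
      map_smul' := fun r A => by
        refine LinearMap.ext (fun v => ?_)
        exact smul_assoc r A v }
    (by refine LinearMap.ext (fun v => ?_); exact one_smul _ v)
    (fun A B => by refine LinearMap.ext (fun v => ?_); exact mul_smul A B v)

theorem rho_apply (A : Matrix (Fin n) (Fin n) R) (v : Fin n → N) : rho R n N A v = A • v := rfl

theorem toLin_apply (A : Matrix (Fin n) (Fin n) R) (z : Fin n → R) :
    Matrix.toLinAlgEquiv' A z = A • z := by
  ext i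
  simp [Matrix.mulVec, dotProduct]

theorem free_of_inner (hn : 0 < n)
    (H : ∀ φ : Matrix (Fin n) (Fin n) R ≃ₐ[R] Matrix (Fin n) (Fin n) R,
        ∃ P : GL (Fin n) R, ∀ A : Matrix (Fin n) (Fin n) R, φ A = P.1 * A * (P⁻¹).1)
    (θ : (Fin n → N) ≃ₗ[R] (Fin n → R)) : Module.Free R N := by
  haveI : Nonempty (Fin n) := ⟨⟨0, hn⟩⟩
  haveI : IsAzumaya R (Matrix (Fin n) (Fin n) R) := IsAzumaya.matrix R (Fin n)
  set T := Matrix.toLinAlgEquiv' (R := R) (n := Fin n) with hT
  let φ₀ : Matrix (Fin n) (Fin n) R →ₐ[R] Matrix (Fin n) (Fin n) R :=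
    (T.symm : Module.End R (Fin n → R) →ₐ[R] Matrix (Fin n) (Fin n) R).comp
      ((LinearEquiv.conjAlgEquiv R θ : Module.End R (Fin n → N) →ₐ[R] Module.End R (Fin n → R)).comp
        (rho R n N))
  have hbij : Function.Bijective φ₀ := LG.algHom_bijective_of_azumaya φ₀ (fun m _ => rfl)
  obtain ⟨P, hP⟩ := H (AlgEquiv.ofBijective φ₀ hbij)
  -- key equivariance
  have key : ∀ (A : Matrix (Fin n) (Fin n) R) (y : Fin n → N),
      θ (A • y) = T (P.1 * A * (P⁻¹).1) (θ y) := by
    intro A y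
    rw [← hP A]
    show θ (A • y) = T (T.symm (LinearEquiv.conjAlgEquiv R θ (rho R n N A))) (θ y)
    rw [T.apply_symm_apply]
    show θ (A • y) = θ.conj (rho R n N A) (θ y)
    rw [LinearEquiv.conj_apply_apply, θ.symm_apply_apply, rho_apply]
  let θ' : (Fin n → N) →ₗ[R] (Fin n → R) := (T (P⁻¹).1) ∘ₗ θ.toLinearMap
  let θ'' : (Fin n → R) →ₗ[R] (Fin n → N) := θ.symm.toLinearMap ∘ₗ (T P.1)
  have h12 : ∀ y, θ'' (θ' y) = y := by
    intro y
    show θ.symm (T P.1 (T (P⁻¹).1 (θ y))) = y
    rw [← Module.End.mul_apply, ← map_mul, Units.mul_inv, map_one, Module.End.one_apply,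
      θ.symm_apply_apply]
  have h21 : ∀ z, θ' (θ'' z) = z := by
    intro z
    show T (P⁻¹).1 (θ (θ.symm (T P.1 z))) = z
    rw [θ.apply_symm_apply, ← Module.End.mul_apply, ← map_mul, Units.inv_mul, map_one,
      Module.End.one_apply]
  have heq1 : ∀ (A : Matrix (Fin n) (Fin n) R) (y : Fin n → N), θ' (A • y) = A • θ' y := by
    intro A y
    show T (P⁻¹).1 (θ (A • y)) = A • (T (P⁻¹).1 (θ y))
    rw [key, ← toLin_apply, ← Module.End.mul_apply, ← Module.End.mul_apply, ← map_mul, ← map_mul,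
      ← mul_assoc, ← mul_assoc, Units.inv_mul, one_mul]
  have heq2 : ∀ (A : Matrix (Fin n) (Fin n) R) (z : Fin n → R), θ'' (A • z) = A • θ'' z := by
    intro A z
    have := heq1 A (θ'' z)
    rw [h21] at this
    rw [← this, h12]
  let i0 : Fin n := ⟨0, hn⟩
  have hE1 : ∀ y : Fin n → N, (Matrix.single i0 i0 (1 : R)) • y = Pi.single i0 (y i0) := by
    intro y
    rw [single_smul, one_smul]
  have hE2 : ∀ z : Fin n → R, (Matrix.single i0 i0 (1 : R)) • z = Pi.single i0 (z i0) := by
    intro z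
    rw [single_smul, one_smul]
  let f : N →ₗ[R] R := (LinearMap.proj i0) ∘ₗ θ' ∘ₗ (LinearMap.single R (fun _ : Fin n => N) i0)
  let g : R →ₗ[R] N := (LinearMap.proj i0) ∘ₗ θ'' ∘ₗ (LinearMap.single R (fun _ : Fin n => R) i0)
  have hgf : ∀ x, g (f x) = x := by
    intro x
    show θ'' (Pi.single i0 (θ' (Pi.single i0 x) i0)) i0 = x
    rw [← hE2, heq2, h12, hE1, Pi.single_eq_same, Pi.single_eq_same]
  have hfg : ∀ r, f (g r) = r := by
    intro r
    show θ' (Pi.single i0 (θ'' (Pi.single i0 r) i0)) i0 = r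
    rw [← hE1, heq1, h21, hE2, Pi.single_eq_same, Pi.single_eq_same]
  exact Module.Free.of_equiv (LinearEquiv.ofLinear g f (LinearMap.ext hgf) (LinearMap.ext hfg))

end Forward

end Groth.Agent.H7.MatInner
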