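import Mathlib
import Groth.Agent.Lib.Lead.QC.InvBasis
import Groth.Agent.Lib.Lead.QC.Gen
import Groth.Agent.H4.MeroK2
import Groth.Agent.Lib.Helper3.MeroDivInj
import Groth.Prelude.Def_MeroDiv

/-! helper7: invertible fractional ideals and `O_X(D)` (S5096, S5102). -/

set_option autoImplicit false

universe u

open CategoryTheory Limits AlgebraicGeometry TopologicalSpace Opposite

namespace Groth.Agent.H7.MeroInv

open Mero Groth.Agent.LD.QC Groth.Agent.H4.MeroK Groth.Agent.H3.MeroDivInj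

attribute [-instance] Groth.Agent.LD.QC.stalkModule

variable {X : Scheme.{u}}

/-- local form: a section of `K_X` whose value at `y₀` comes from `O_{X,y₀}` comes from a function
near `y₀`. -/
theorem exists_local_toK {V : X.Opens} (s : Γ(kmod X, V)) (y0 : V)
    (h : s.1 y0 ∈ (algebraMap (X.presheaf.stalk y0.1) (KStalk X y0.1)).range) :
    ∃ (W : X.Opens) (hW : W ≤ V) (_ : y0.1 ∈ W) (c : Γ(X, W)),
      ∀ z : W, s.1 ⟨z.1, hW z.2⟩ =
        algebraMap (X.presheaf.stalk z.1) (KStalk X z.1) (X.presheaf.germ W z.1 z.2 c) := by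
  obtain ⟨y0, hy0V⟩ := y0
  obtain ⟨c0, hc0⟩ := h
  obtain ⟨V1, hxV1, a1, rfl⟩ := TopCat.Presheaf.exists_germ_eq X.presheaf c0
  obtain ⟨W, hxW, i, a, b, hab⟩ := s.2 ⟨y0, hy0V⟩
  have hWV : W ≤ V := i.le
  have hx1 := hab ⟨y0, hxW⟩
  have hx2 : (LocalizedModule.mk (X.presheaf.germ W y0 hxW a) (regGerm ⟨y0, hxW⟩ b) :
      KStalk X y0) = LocalizedModule.mk (X.presheaf.germ V1 y0 hxV1 a1) 1 := by
    rw [mk_one_eq_algebraMap]
    exact hx1.symm.trans hc0.symm
  rw [LocalizedModule.mk_eq] at hx2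
  obtain ⟨⟨u, V2, hxV2, c2, hc2, rfl⟩, hu⟩ := hx2
  simp only [one_smul, Submonoid.smul_def, smul_eq_mul] at hu
  obtain ⟨V3, hV3def⟩ : ∃ V3 : X.Opens, V3 = W ⊓ V1 ⊓ V2 := ⟨_, rfl⟩
  have hxV3 : y0 ∈ V3 := hV3def ▸ ⟨⟨hxW, hxV1⟩, hxV2⟩
  have h31 : V3 ≤ W := hV3def ▸ inf_le_left.trans inf_le_left
  have h32 : V3 ≤ V1 := hV3def ▸ inf_le_left.trans inf_le_right
  have h33 : V3 ≤ V2 := hV3def ▸ inf_le_right
  obtain ⟨e, hedef⟩ : ∃ e : Γ(X, V3), e =
      X.presheaf.map (homOfLE h33).op c2 * X.presheaf.map (homOfLE h31).op a -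
      X.presheaf.map (homOfLE h33).op c2 * (X.presheaf.map (homOfLE h31).op b.1 *
        X.presheaf.map (homOfLE h32).op a1) := ⟨_, rfl⟩
  have he : X.presheaf.germ V3 y0 hxV3 e = X.presheaf.germ V3 y0 hxV3 0 := by
    rw [map_zero, hedef]
    simp only [map_sub, map_mul, TopCat.Presheaf.germ_res_apply]
    rw [sub_eq_zero]
    exact hu
  obtain ⟨V4, hxV4, i1, i2, h4⟩ := TopCat.Presheaf.germ_eq X.presheaf y0 hxV3 hxV3 e 0 he
  rw [map_zero] at h4
  have h43 : V4 ≤ V3 := i1.le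
  refine ⟨V4, h43.trans (h31.trans hWV), hxV4,
    X.presheaf.map (homOfLE (h43.trans h32)).op a1, ?_⟩
  rintro ⟨y, hy⟩
  have hyV3 : y ∈ V3 := h43 hy
  have hy1 := hab ⟨y, h31 hyV3⟩
  rw [TopCat.Presheaf.germ_res_apply, ← mk_one_eq_algebraMap]
  refine Eq.trans ?_ (Eq.trans hy1 ?_)
  · rfl
  rw [LocalizedModule.mk_eq]
  refine ⟨⟨X.presheaf.germ V2 y (h33 hyV3) c2, V2, h33 hyV3, c2, hc2, rfl⟩, ?_⟩
  simp only [one_smul, Submonoid.smul_def, smul_eq_mul]
  have h5 : X.presheaf.germ V4 y hy (X.presheaf.map i1.op e) = 0 := by rw [h4, map_zero]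
  rw [TopCat.Presheaf.germ_res_apply, hedef] at h5
  simp only [map_sub, map_mul, TopCat.Presheaf.germ_res_apply] at h5
  rw [sub_eq_zero] at h5
  exact h5

/-- **descent from `K_X` to `O_X`**: a section of `K_X` all of whose values come from the local
rings is a function. -/
theorem exists_toK_eq (V : X.Opens) (s : Γ(kmod X, V))
    (h : ∀ y : V, s.1 y ∈ (algebraMap (X.presheaf.stalk y.1) (KStalk X y.1)).range) :
    ∃ a : Γ(X, V), toK X V a = s := by
  choose W hW hyW c hc using fun y : V => exists_local_toK s y (h y)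
  have hcompat : TopCat.Presheaf.IsCompatible X.presheaf W c := by
    intro y z
    apply TopCat.Presheaf.section_ext X.sheaf
    intro p hp
    change X.presheaf.germ _ p hp (X.presheaf.map (Opens.infLELeft (W y) (W z)).op (c y)) =
      X.presheaf.germ _ p hp (X.presheaf.map (Opens.infLERight (W y) (W z)).op (c z))
    rw [TopCat.Presheaf.germ_res_apply, TopCat.Presheaf.germ_res_apply]
    apply algebraMap_KStalk_injective p
    have h1 := hc y ⟨p, hp.1⟩
    have h2 := hc z ⟨p, hp.2⟩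
    exact h1.symm.trans h2
  have hcover : V ≤ iSup W := by
    intro y hy
    exact Opens.mem_iSup.mpr ⟨⟨y, hy⟩, hyW ⟨y, hy⟩⟩
  obtain ⟨a, ha, -⟩ : ∃! a : Γ(X, V), ∀ y, X.presheaf.map (homOfLE (hW y)).op a = c y :=
    X.sheaf.existsUnique_gluing' W V (fun y => homOfLE (hW y)) hcover c hcompat
  refine ⟨a, ?_⟩
  apply Subtype.ext
  funext y
  rw [toK_apply, mk_one_eq_algebraMap]
  have h1 := hc y ⟨y.1, hyW y⟩
  refine Eq.trans ?_ h1.symm
  congr 1
  rw [← ha y, TopCat.Presheaf.germ_res_apply]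


/-! ### pointwise formulas -/

lemma smul_eq_toK_mul {V : X.Opens} (r : Γ(X, V)) (k : Γ(kmod X, V)) :
    r • k = toK X V r * k := by
  apply Subtype.ext
  funext y
  change X.presheaf.germ V y.1 y.2 r • k.1 y =
    (LocalizedModule.mk (X.presheaf.germ V y.1 y.2 r) 1 : KStalk X y.1) * k.1 y
  rw [mk_one_eq_algebraMap, Algebra.smul_def]

lemma kres_mul {U V : X.Opens} (h : V ≤ U) (s t : Γ(kmod X, U)) :
    (kmod X).presheaf.map (homOfLE h).op (s * t) =
      (kmod X).presheaf.map (homOfLE h).op s * (kmod X).presheaf.map (homOfLE h).op t := rfl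

lemma kres_one {U V : X.Opens} (h : V ≤ U) :
    (kmod X).presheaf.map (homOfLE h).op (1 : Γ(kmod X, U)) = 1 := rfl

lemma kres_toK {U V : X.Opens} (h : V ≤ U) (r : Γ(X, U)) :
    (kmod X).presheaf.map (homOfLE h).op (toK X U r) =
      toK X V (X.presheaf.map (homOfLE h).op r) := by
  apply Subtype.ext
  funext y
  change (LocalizedModule.mk (X.presheaf.germ U y.1 (h y.2) r) 1 : KStalk X y.1) =
    LocalizedModule.mk (X.presheaf.germ V y.1 y.2 (X.presheaf.map (homOfLE h).op r)) 1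
  rw [TopCat.Presheaf.germ_res_apply]

lemma kres_res {U V W : X.Opens} (h : V ≤ U) (h' : W ≤ V) (s : Γ(kmod X, U)) :
    (kmod X).presheaf.map (homOfLE h').op ((kmod X).presheaf.map (homOfLE h).op s) =
      (kmod X).presheaf.map (homOfLE (h'.trans h)).op s := rfl

lemma kres_self {U : X.Opens} (s : Γ(kmod X, U)) :
    (kmod X).presheaf.map (homOfLE (le_refl U)).op s = s := rfl

/-- the restriction of a unit is a unit. -/
lemma isUnit_kres {U V : X.Opens} (h : V ≤ U) (f : (Γ(kmod X, U))ˣ) :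
    IsUnit ((kmod X).presheaf.map (homOfLE h).op (f : Γ(kmod X, U))) :=
  ⟨resUnit h f, rfl⟩

/-- **S5096**. -/
theorem S5096_main (X : Scheme.{u}) (D : Mero.Divisor X) :
    PicF.IsInvertible (Mero.divMod D) := by
  rw [isInvertible_iff_exists_isBasisOver]
  intro x
  obtain ⟨U, hxU, f, hf⟩ := D.2 x
  obtain ⟨finv, hfinv⟩ : ∃ finv : Γ(kmod X, U), finv = ((f⁻¹ : (Γ(kmod X, U))ˣ) : Γ(kmod X, U)) :=
    ⟨_, rfl⟩
  have hmul : ∀ y : U, (f : Γ(kmod X, U)).1 y * finv.1 y = 1 := by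
    intro y
    have h1 : (f : Γ(kmod X, U)) * finv = 1 := by rw [hfinv]; exact Units.mul_inv f
    have h2 := congrArg (fun t : Γ(kmod X, U) => t.1 y) h1
    exact h2
  let e : Γ(divMod D, U) := ⟨finv.1, ⟨finv.2, fun y => by
    rw [hfinv]; exact divCond_inv D f hf y⟩⟩
  refine ⟨U, e, hxU, ?_⟩
  intro V hV
  have hev : ∀ (a : Γ(X, V)) (y : V),
      (a • (divMod D).presheaf.map (homOfLE hV).op e).1 y =
        algebraMap (X.presheaf.stalk y.1) (KStalk X y.1) (X.presheaf.germ V y.1 y.2 a) *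
          finv.1 ⟨y.1, hV y.2⟩ := by
    intro a y
    change X.presheaf.germ V y.1 y.2 a • finv.1 ⟨y.1, hV y.2⟩ = _
    rw [Algebra.smul_def]
  constructor
  · intro a a' haa'
    apply toK_injective V
    apply Subtype.ext
    funext y
    have h1 := congrArg (fun t : Γ(divMod D, V) => t.1 y) haa'
    simp only [hev] at h1
    have h2 := congrArg (fun t => t * (f : Γ(kmod X, U)).1 ⟨y.1, hV y.2⟩) h1
    simp only [mul_assoc] at h2
    rw [mul_comm (finv.1 ⟨y.1, hV y.2⟩), hmul ⟨y.1, hV y.2⟩, mul_one, mul_one] at h2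
    rw [toK_apply, toK_apply, mk_one_eq_algebraMap, mk_one_eq_algebraMap]
    exact h2
  · intro t
    obtain ⟨t', ht'⟩ : ∃ t' : Γ(kmod X, V), t'.1 = t.1 := ⟨⟨t.1, t.2.1⟩, rfl⟩
    obtain ⟨s, hsdef⟩ : ∃ s : Γ(kmod X, V), s = t' *
        (kmod X).presheaf.map (homOfLE hV).op (f : Γ(kmod X, U)) := ⟨_, rfl⟩
    have hsy : ∀ y : V, s.1 y = t.1 y * (f : Γ(kmod X, U)).1 ⟨y.1, hV y.2⟩ := by
      intro y; rw [hsdef, ← ht']; rfl
    have hrange : ∀ y : V, s.1 y ∈ (algebraMap (X.presheaf.stalk y.1) (KStalk X y.1)).range := by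
      intro y
      rw [hsy]
      exact t.2.2 y (valUnit f ⟨y.1, hV y.2⟩) (hf ⟨y.1, hV y.2⟩)
    obtain ⟨a, ha⟩ := exists_toK_eq V s hrange
    refine ⟨a, ?_⟩
    apply Subtype.ext
    funext y
    change (a • (divMod D).presheaf.map (homOfLE hV).op e).1 y = t.1 y
    rw [hev]
    have h3 : algebraMap (X.presheaf.stalk y.1) (KStalk X y.1) (X.presheaf.germ V y.1 y.2 a) =
        s.1 y := by
      rw [← ha, toK_apply, mk_one_eq_algebraMap]
    rw [h3, hsy, mul_assoc, hmul ⟨y.1, hV y.2⟩, mul_one]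


/-- a fraction `a / b` with `a`, `b` regular is a unit of `Γ(W, K_X)`. -/
lemma isUnit_toK_mul_invK {W : X.Opens} (a b : regSub X W) :
    IsUnit (toK X W a.1 * invK W b) := by
  refine IsUnit.of_mul_eq_one (toK X W b.1 * invK W a) ?_
  have h1 := toK_mul_invK W a
  have h2 := toK_mul_invK W b
  calc toK X W a.1 * invK W b * (toK X W b.1 * invK W a)
      = (toK X W a.1 * invK W a) * (toK X W b.1 * invK W b) := by ring
    _ = 1 := by rw [h1, h2, mul_one]

lemma toK_mul_invK_apply {W : X.Opens} (a : Γ(X, W)) (b : regSub X W) (z : W) :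
    (toK X W a * invK W b).1 z =
      LocalizedModule.mk (X.presheaf.germ W z.1 z.2 a) (regGerm z b) := by
  change (LocalizedModule.mk (X.presheaf.germ W z.1 z.2 a) 1 : KStalk X z.1) *
    LocalizedModule.mk 1 (regGerm z b) = _
  refine LocalizedModule.mk_mul_mk.trans ?_
  rw [mul_one, one_mul]

/-- **S5102**. -/
theorem S5102_main (X : Scheme.{u}) (J : X.Modules)
    (ι : J ⟶ Mero.kmod X) [Mono ι] :
    PicF.IsInvertible J ↔ ∀ x : ↥X, ∃ (U : X.Opens) (_ : x ∈ U) (f : (Γ(Mero.kmod X, U))ˣ),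
      ∀ (V : X.Opens) (hV : V ≤ U),
        Set.range ⇑(ι.val.app (Opposite.op V)) =
          {t : Γ(Mero.kmod X, V) | ∃ r : Γ(X, V),
            t = Mero.toK X V r *
              (Mero.kmod X).presheaf.map (homOfLE hV).op (f : Γ(Mero.kmod X, U))} := by
  have hιsmul : ∀ (V : X.Opens) (r : Γ(X, V)) (m : Γ(J, V)),
      ι.app V (r • m) = toK X V r * ι.app V m := by
    intro V r m
    rw [Scheme.Modules.Hom.app_smul, smul_eq_toK_mul]
  rw [isInvertible_iff_exists_isBasisOver]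
  constructor
  · intro h x
    obtain ⟨U, e, hxU, he⟩ := h x
    obtain ⟨k, hk⟩ : ∃ k : Γ(kmod X, U), k = ι.app U e := ⟨_, rfl⟩
    obtain ⟨W, hxW, i, a, b, hab⟩ := k.2 ⟨x, hxU⟩
    have hWU : W ≤ U := i.le
    -- `a` is a regular section
    have hareg : a ∈ regSub X W := by
      intro z
      rw [mem_nonZeroDivisors_iff_right]
      intro cz hcz
      obtain ⟨W1, hzW1, c1, rfl⟩ := TopCat.Presheaf.exists_germ_eq X.presheaf cz
      obtain ⟨W12, hW12def⟩ : ∃ W12 : X.Opens, W12 = W1 ⊓ W := ⟨_, rfl⟩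
      have hzW12 : z.1 ∈ W12 := hW12def ▸ ⟨hzW1, z.2⟩
      have h121 : W12 ≤ W1 := hW12def ▸ inf_le_left
      have h12W : W12 ≤ W := hW12def ▸ inf_le_right
      have hg0 : X.presheaf.germ W12 z.1 hzW12 (X.presheaf.map (homOfLE h121).op c1 *
          X.presheaf.map (homOfLE h12W).op a) = X.presheaf.germ W12 z.1 hzW12 0 := by
        rw [map_zero, map_mul, TopCat.Presheaf.germ_res_apply, TopCat.Presheaf.germ_res_apply]
        exact hcz
      obtain ⟨W2, hzW2, i1, i2, h4⟩ := TopCat.Presheaf.germ_eq X.presheaf z.1 hzW12 hzW12 _ 0 hg0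
      rw [map_zero] at h4
      have h212 : W2 ≤ W12 := i1.le
      have h2U : W2 ≤ U := (h212.trans h12W).trans hWU
      obtain ⟨c2, hc2def⟩ : ∃ c2 : Γ(X, W2), c2 = X.presheaf.map (homOfLE (h212.trans h121)).op c1 :=
        ⟨_, rfl⟩
      -- `c2 • e|W2` is killed by `ι`
      have hkill : ι.app W2 (c2 • J.presheaf.map (homOfLE h2U).op e) = 0 := by
        rw [hιsmul, app_res ι h2U e, ← hk]
        apply Subtype.ext
        funext p
        have hp12 : p.1 ∈ W12 := h212 p.2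
        have hpW : p.1 ∈ W := h12W hp12
        have hkp := hab ⟨p.1, hpW⟩
        change (LocalizedModule.mk (X.presheaf.germ W2 p.1 p.2 c2) 1 : KStalk X p.1) *
          k.1 ⟨p.1, h2U p.2⟩ = 0
        have hkp' : k.1 ⟨p.1, h2U p.2⟩ = LocalizedModule.mk (X.presheaf.germ W p.1 hpW a)
            (regGerm ⟨p.1, hpW⟩ b) := hkp
        rw [hkp', mk_one_eq_algebraMap, algebraMap_mul_mk, mk_eq_zero_iff]
        have h5 : X.presheaf.germ W2 p.1 p.2 (X.presheaf.map i1.op
            (X.presheaf.map (homOfLE h121).op c1 * X.presheaf.map (homOfLE h12W).op a)) = 0 := by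
          rw [h4, map_zero]
        rw [TopCat.Presheaf.germ_res_apply, map_mul, TopCat.Presheaf.germ_res_apply,
          TopCat.Presheaf.germ_res_apply] at h5
        rw [hc2def, TopCat.Presheaf.germ_res_apply]
        exact h5
      have hzero : c2 • J.presheaf.map (homOfLE h2U).op e = 0 := by
        apply mono_app ι W2
        rw [hkill, map_zero]
      have hc20 : c2 = 0 := by
        apply (he W2 h2U).1
        change c2 • J.presheaf.map (homOfLE h2U).op e = (0 : Γ(X, W2)) • _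
        rw [hzero, zero_smul]
      have : X.presheaf.germ W2 z.1 hzW2 c2 = 0 := by rw [hc20, map_zero]
      rw [hc2def, TopCat.Presheaf.germ_res_apply] at this
      exact this
    -- `k|W = a / b`
    have hkW : (kmod X).presheaf.map (homOfLE hWU).op k = toK X W a * invK W b := by
      apply Subtype.ext
      funext z
      rw [toK_mul_invK_apply]
      exact hab z
    obtain ⟨f, hf⟩ := isUnit_toK_mul_invK ⟨a, hareg⟩ b
    have hfk : (f : Γ(kmod X, W)) = (kmod X).presheaf.map (homOfLE hWU).op k := by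
      rw [hf, hkW]
    refine ⟨W, hxW, f, ?_⟩
    intro V hV
    have hVU : V ≤ U := hV.trans hWU
    have hfV : (kmod X).presheaf.map (homOfLE hV).op (f : Γ(kmod X, W)) =
        ι.app V (J.presheaf.map (homOfLE hVU).op e) := by
      rw [hfk, kres_res, app_res ι hVU e, ← hk]
    ext t
    constructor
    · rintro ⟨j, rfl⟩
      obtain ⟨r, hr⟩ := (he V hVU).2 j
      refine ⟨r, ?_⟩
      rw [hfV]
      have : ι.app V j = toK X V r * ι.app V (J.presheaf.map (homOfLE hVU).op e) := by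
        rw [← hιsmul]
        exact congrArg _ hr.symm
      exact this
    · rintro ⟨r, rfl⟩
      refine ⟨r • J.presheaf.map (homOfLE hVU).op e, ?_⟩
      rw [hfV]
      exact hιsmul V r _
  · intro h x
    obtain ⟨U, hxU, f, hrange⟩ := h x
    have hfmem : (f : Γ(kmod X, U)) ∈ Set.range ⇑(ι.val.app (Opposite.op U)) := by
      rw [hrange U le_rfl]
      refine ⟨1, ?_⟩
      rw [map_one, one_mul]
      rfl
    obtain ⟨e, he⟩ := hfmem
    have he' : ι.app U e = (f : Γ(kmod X, U)) := he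
    refine ⟨U, e, hxU, ?_⟩
    intro V hV
    have hιe : ι.app V (J.presheaf.map (homOfLE hV).op e) =
        (kmod X).presheaf.map (homOfLE hV).op (f : Γ(kmod X, U)) := by
      rw [app_res ι hV e, he']
    have hunit := isUnit_kres hV f
    constructor
    · intro r r' hrr'
      have h1 := congrArg (ι.app V) hrr'
      simp only at h1
      rw [hιsmul, hιsmul, hιe] at h1
      exact toK_injective V (hunit.mul_left_injective h1)
    · intro j
      have hj : ι.app V j ∈ Set.range ⇑(ι.val.app (Opposite.op V)) := ⟨j, rfl⟩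
      rw [hrange V hV] at hj
      obtain ⟨r, hr⟩ := hj
      refine ⟨r, ?_⟩
      apply mono_app ι V
      change ι.app V (r • J.presheaf.map (homOfLE hV).op e) = ι.app V j
      rw [hιsmul, hιe, hr]

end Groth.Agent.H7.MeroInv
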