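import Mathlib
import Groth.Agent.Lib.Lead.QC.InvBasis
import Groth.Agent.Lib.Lead.QC.Gen
import Groth.Agent.Lib.Lead.QC.Iso
import Groth.Agent.Lib.Lead.QC.SubExt
import Groth.Agent.Lib.Lead.QC.TensorPow
import Groth.Agent.H4.MeroK2
import Groth.Agent.H4.MeroReg
import Groth.Agent.Lib.Helper3.MeroDivInj
import Groth.Agent.Lib.Helper7.MeroInv
import Groth.Prelude.Def_MeroDiv

/-! helper7: `K_X`-trivialisations of an invertible module: the divisor, the embedding into `K_X`
and the isomorphism `L ≅ O_X(D)`. -/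

set_option autoImplicit false
universe u
open CategoryTheory Limits AlgebraicGeometry TopologicalSpace Opposite

namespace Groth.Agent.H7.MeroTriv

open Mero Groth.Agent.LD.QC Groth.Agent.H4.MeroK Groth.Agent.H3.MeroDivInj
  Groth.Agent.H4.MeroReg Groth.Agent.H7.MeroInv

attribute [-instance] Groth.Agent.LD.QC.stalkModule

variable {X : Scheme.{u}}

/-- a `K_X`-trivialisation of `L`: local bases `e x` with units `k x` of `K_X`, to be thought of
as the meromorphic section `k x • e x`, compatible on overlaps. -/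
structure KTriv (L : X.Modules) where
  U : X → X.Opens
  mem : ∀ x, x ∈ U x
  e : ∀ x, Γ(L, U x)
  basis : ∀ x, IsBasisOver L (U x) (e x)
  k : ∀ x, (Γ(kmod X, U x))ˣ
  compat : ∀ (x x' y : X) (hy : y ∈ U x) (hy' : y ∈ U x') (u : X.presheaf.stalk y),
    L.presheaf.germ (U x) y hy (e x) = u • L.presheaf.germ (U x') y hy' (e x') →
    ((k x' : (Γ(kmod X, U x'))ˣ) : Γ(kmod X, U x')).1 ⟨y, hy'⟩ =
      algebraMap (X.presheaf.stalk y) (KStalk X y) u *
        ((k x : (Γ(kmod X, U x))ˣ) : Γ(kmod X, U x)).1 ⟨y, hy⟩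

namespace KTriv

variable {L : X.Modules} (T : KTriv L)

/-- value of `k x` at `y`. -/
noncomputable def kv (x y : X) (hy : y ∈ T.U x) : KStalk X y :=
  ((T.k x : (Γ(kmod X, T.U x))ˣ) : Γ(kmod X, T.U x)).1 ⟨y, hy⟩

/-- value of `(k x)⁻¹` at `y`. -/
noncomputable def kiv (x y : X) (hy : y ∈ T.U x) : KStalk X y :=
  (((T.k x)⁻¹ : (Γ(kmod X, T.U x))ˣ) : Γ(kmod X, T.U x)).1 ⟨y, hy⟩

lemma kv_mul_kiv (x y : X) (hy : y ∈ T.U x) : T.kv x y hy * T.kiv x y hy = 1 :=
  congrArg (fun s : Γ(kmod X, T.U x) => s.1 ⟨y, hy⟩) (T.k x).mul_inv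

lemma kiv_mul_kv (x y : X) (hy : y ∈ T.U x) : T.kiv x y hy * T.kv x y hy = 1 := by
  rw [mul_comm]; exact T.kv_mul_kiv x y hy

/-- the coordinate of a germ with respect to the basis at its own point. -/
noncomputable def coord (y : X) (m : L.presheaf.stalk y) : X.presheaf.stalk y :=
  Classical.choose (germ_basis_surj L (T.basis y) y (T.mem y) m)

lemma coord_spec (y : X) (m : L.presheaf.stalk y) :
    m = T.coord y m • L.presheaf.germ (T.U y) y (T.mem y) (T.e y) :=
  Classical.choose_spec (germ_basis_surj L (T.basis y) y (T.mem y) m)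

lemma coord_unique (y : X) (m : L.presheaf.stalk y) (c : X.presheaf.stalk y)
    (h : m = c • L.presheaf.germ (T.U y) y (T.mem y) (T.e y)) : T.coord y m = c := by
  have h1 := T.coord_spec y m
  have h2 : (T.coord y m - c) • L.presheaf.germ (T.U y) y (T.mem y) (T.e y) = 0 := by
    rw [sub_smul, ← h1, ← h, sub_self]
  have h3 := germ_basis_inj L (T.basis y) y (T.mem y) _ h2
  exact sub_eq_zero.mp h3

lemma coord_add (y : X) (m m' : L.presheaf.stalk y) :
    T.coord y (m + m') = T.coord y m + T.coord y m' := by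
  apply T.coord_unique
  rw [add_smul, ← T.coord_spec, ← T.coord_spec]

lemma coord_smul (y : X) (r : X.presheaf.stalk y) (m : L.presheaf.stalk y) :
    T.coord y (r • m) = r * T.coord y m := by
  apply T.coord_unique
  rw [mul_smul, ← T.coord_spec]

lemma coord_zero (y : X) : T.coord y 0 = 0 := by
  apply T.coord_unique
  rw [zero_smul]

/-- the embedding into `K_X`, stalkwise. -/
noncomputable def kap (y : X) (m : L.presheaf.stalk y) : KStalk X y :=
  algebraMap (X.presheaf.stalk y) (KStalk X y) (T.coord y m) * T.kiv y y (T.mem y)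

lemma kap_add (y : X) (m m' : L.presheaf.stalk y) :
    T.kap y (m + m') = T.kap y m + T.kap y m' := by
  unfold kap
  rw [coord_add, map_add, add_mul]

lemma kap_smul (y : X) (r : X.presheaf.stalk y) (m : L.presheaf.stalk y) :
    T.kap y (r • m) = r • T.kap y m := by
  unfold kap
  rw [coord_smul, map_mul, Algebra.smul_def, mul_assoc]

lemma kap_zero (y : X) : T.kap y 0 = 0 := by
  unfold kap
  rw [coord_zero, map_zero, zero_mul]

/-- **chart independence**. -/
lemma kap_smul_germ (x y : X) (hy : y ∈ T.U x) (c : X.presheaf.stalk y) :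
    T.kap y (c • L.presheaf.germ (T.U x) y hy (T.e x)) =
      algebraMap (X.presheaf.stalk y) (KStalk X y) c * T.kiv x y hy := by
  obtain ⟨u, hu⟩ : ∃ u, u = T.coord y (L.presheaf.germ (T.U x) y hy (T.e x)) := ⟨_, rfl⟩
  have h1 : L.presheaf.germ (T.U x) y hy (T.e x) =
      u • L.presheaf.germ (T.U y) y (T.mem y) (T.e y) := by
    rw [hu]; exact T.coord_spec y _
  have h2 := T.compat x y y hy (T.mem y) u h1
  have h3 : T.coord y (c • L.presheaf.germ (T.U x) y hy (T.e x)) = c * u := by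
    rw [coord_smul, hu]
  unfold kap
  rw [h3, map_mul, mul_assoc]
  congr 1
  -- `algebraMap u * kiv y y = kiv x y`
  have h4 : T.kv y y (T.mem y) = algebraMap (X.presheaf.stalk y) (KStalk X y) u * T.kv x y hy := h2
  calc algebraMap (X.presheaf.stalk y) (KStalk X y) u * T.kiv y y (T.mem y)
      = algebraMap (X.presheaf.stalk y) (KStalk X y) u * T.kiv y y (T.mem y) *
          (T.kv x y hy * T.kiv x y hy) := by rw [T.kv_mul_kiv, mul_one]
    _ = (algebraMap (X.presheaf.stalk y) (KStalk X y) u * T.kv x y hy) * T.kiv y y (T.mem y) *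
          T.kiv x y hy := by ring
    _ = T.kiv x y hy := by rw [← h4, T.kv_mul_kiv, one_mul]

/-- two bases differ by a unit at each point. -/
lemma isUnit_coord_basis (x y : X) (hy : y ∈ T.U x) :
    IsUnit (T.coord y (L.presheaf.germ (T.U x) y hy (T.e x))) := by
  obtain ⟨v, hv⟩ := germ_basis_surj L (T.basis x) y hy
    (L.presheaf.germ (T.U y) y (T.mem y) (T.e y))
  have h1 := T.coord_spec y (L.presheaf.germ (T.U x) y hy (T.e x))
  have h2 : (1 - T.coord y (L.presheaf.germ (T.U x) y hy (T.e x)) * v) •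
      L.presheaf.germ (T.U x) y hy (T.e x) = 0 := by
    rw [sub_smul, one_smul, mul_smul, ← hv, ← h1, sub_self]
  have h3 := germ_basis_inj L (T.basis x) y hy _ h2
  exact IsUnit.of_mul_eq_one v (sub_eq_zero.mp h3).symm

end KTriv

/-- classes of units of `K_{X,y}` differing by a unit of `O_{X,y}` agree. -/
lemma mk_eq_mk_of_eq_algebraMap_mul (y : X) (a b : (KStalk X y)ˣ) (u : (X.presheaf.stalk y)ˣ)
    (h : (a : KStalk X y) = algebraMap (X.presheaf.stalk y) (KStalk X y) u * b) :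
    (QuotientGroup.mk a : Germ X y) = QuotientGroup.mk b := by
  have ha : a = Units.map (algebraMap (X.presheaf.stalk y) (KStalk X y)).toMonoidHom u * b :=
    Units.ext h
  rw [QuotientGroup.eq]
  refine ⟨u⁻¹, ?_⟩
  rw [ha, mul_inv_rev, map_inv, mul_comm b⁻¹, mul_assoc, inv_mul_cancel, mul_one]

namespace KTriv

variable {L : X.Modules} (T : KTriv L)

lemma germOf_eq (x y : X) (hy : y ∈ T.U x) :
    germOf (T.k y) ⟨y, T.mem y⟩ = germOf (T.k x) ⟨y, hy⟩ := by
  obtain ⟨u, hu⟩ := T.isUnit_coord_basis x y hy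
  have h1 : L.presheaf.germ (T.U x) y hy (T.e x) =
      (u : X.presheaf.stalk y) • L.presheaf.germ (T.U y) y (T.mem y) (T.e y) := by
    rw [hu]; exact T.coord_spec y _
  have h2 := T.compat x y y hy (T.mem y) u h1
  exact mk_eq_mk_of_eq_algebraMap_mul y _ _ u h2

/-- the divisor of the trivialisation. -/
noncomputable def div : Divisor X :=
  ⟨fun y => germOf (T.k y) ⟨y, T.mem y⟩,
    fun x => ⟨T.U x, T.mem x, T.k x, fun y => T.germOf_eq x y.1 y.2⟩⟩

lemma div_apply (x y : X) (hy : y ∈ T.U x) : T.div.1 y = germOf (T.k x) ⟨y, hy⟩ :=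
  T.germOf_eq x y hy

end KTriv

/-- the condition of `O_X(D)` may be checked on one representative. -/
lemma divCond_of_rep (D : Divisor X) (y : X) (g₀ : (KStalk X y)ˣ) (h₀ : D.1 y = QuotientGroup.mk g₀)
    (t : KStalk X y)
    (ht : t * g₀ ∈ (algebraMap (X.presheaf.stalk y) (KStalk X y)).range) : DivCond D y t := by
  intro g hg
  rw [h₀, QuotientGroup.eq] at hg
  obtain ⟨v, hv⟩ := hg
  have h1 := congrArg (fun w : (KStalk X y)ˣ => (w : KStalk X y)) hv
  simp only [Units.val_mul] at h1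
  have h2 : (g : KStalk X y) = g₀ * algebraMap (X.presheaf.stalk y) (KStalk X y) v := by
    have h3 : (g₀ : KStalk X y) * ((g₀⁻¹ : (KStalk X y)ˣ) : KStalk X y) = 1 := g₀.mul_inv
    calc (g : KStalk X y) = (g₀ * ((g₀⁻¹ : (KStalk X y)ˣ) : KStalk X y)) * g := by
          rw [h3, one_mul]
      _ = g₀ * (((g₀⁻¹ : (KStalk X y)ˣ) : KStalk X y) * g) := by ring
      _ = g₀ * algebraMap (X.presheaf.stalk y) (KStalk X y) v := by rw [← h1]; rfl
  rw [h2, ← mul_assoc]
  exact mul_mem ht ⟨v, rfl⟩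

namespace KTriv

variable {L : X.Modules} (T : KTriv L)

/-- the embedding on sections, valuewise. -/
noncomputable def phiVal (V : X.Opens) (t : Γ(L, V)) (y : V) : KStalk X y.1 :=
  T.kap y.1 (L.presheaf.germ V y.1 y.2 t)

/-- local formula for `phiVal`. -/
lemma phiVal_eq (V : X.Opens) (t : Γ(L, V)) (x : X) (W : X.Opens) (hWV : W ≤ V) (hWU : W ≤ T.U x)
    (r : Γ(X, W))
    (hr : r • L.presheaf.map (homOfLE hWU).op (T.e x) = L.presheaf.map (homOfLE hWV).op t)
    (y : X) (hy : y ∈ W) :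
    T.phiVal V t ⟨y, hWV hy⟩ =
      algebraMap (X.presheaf.stalk y) (KStalk X y) (X.presheaf.germ W y hy r) *
        T.kiv x y (hWU hy) := by
  unfold phiVal
  have h1 : L.presheaf.germ V y (hWV hy) t =
      X.presheaf.germ W y hy r • L.presheaf.germ (T.U x) y (hWU hy) (T.e x) := by
    have h2 := congrArg (L.presheaf.germ W y hy) hr
    rw [Mero.germ_smul, TopCat.Presheaf.germ_res_apply, TopCat.Presheaf.germ_res_apply] at h2
    exact h2.symm
  rw [h1, kap_smul_germ]

lemma phiVal_kLoc (V : X.Opens) (t : Γ(L, V)) : (kLoc X).pred (fun y : V => T.phiVal V t y) := by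
  apply (kLoc X).locality
  intro y₀
  obtain ⟨r, hr⟩ := (T.basis y₀.1 (V ⊓ T.U y₀.1) inf_le_right).2
    (L.presheaf.map (homOfLE (inf_le_left : V ⊓ T.U y₀.1 ≤ V)).op t)
  refine ⟨V ⊓ T.U y₀.1, ⟨y₀.2, T.mem y₀.1⟩, homOfLE inf_le_left, ?_⟩
  obtain ⟨q, hq⟩ : ∃ q : Γ(kmod X, V ⊓ T.U y₀.1), q = toK X (V ⊓ T.U y₀.1) r *
      (kmod X).presheaf.map (homOfLE (inf_le_right : V ⊓ T.U y₀.1 ≤ T.U y₀.1)).op
        (((T.k y₀.1)⁻¹ : (Γ(kmod X, T.U y₀.1))ˣ) : Γ(kmod X, T.U y₀.1)) := ⟨_, rfl⟩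
  have hfun : (fun y : (V ⊓ T.U y₀.1 : X.Opens) =>
      T.phiVal V t ((homOfLE (inf_le_left : V ⊓ T.U y₀.1 ≤ V)) y)) = q.1 := by
    funext y
    have h1 := T.phiVal_eq V t y₀.1 (V ⊓ T.U y₀.1) inf_le_left inf_le_right r hr y.1 y.2
    refine h1.trans ?_
    rw [hq]
    change _ = (LocalizedModule.mk (X.presheaf.germ (V ⊓ T.U y₀.1) y.1 y.2 r) 1 : KStalk X y.1) *
      T.kiv y₀.1 y.1 y.2.2
    rw [mk_one_eq_algebraMap]
  rw [hfun]
  exact q.2

lemma phiVal_divCond (V : X.Opens) (t : Γ(L, V)) (y : V) :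
    DivCond T.div y.1 (T.phiVal V t y) := by
  apply divCond_of_rep T.div y.1 (valUnit (T.k y.1) ⟨y.1, T.mem y.1⟩) rfl
  unfold phiVal kap
  refine ⟨T.coord y.1 (L.presheaf.germ V y.1 y.2 t), ?_⟩
  have h1 : ((valUnit (T.k y.1) ⟨y.1, T.mem y.1⟩ : (KStalk X y.1)ˣ) : KStalk X y.1) =
      T.kv y.1 y.1 (T.mem y.1) := rfl
  rw [h1, mul_assoc, T.kiv_mul_kv, mul_one]

/-- the embedding on sections. -/
noncomputable def phiFun (V : X.Opens) : Γ(L, V) →+ Γ(divMod T.div, V) where
  toFun t := ⟨fun y => T.phiVal V t y, ⟨T.phiVal_kLoc V t, fun y => T.phiVal_divCond V t y⟩⟩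
  map_zero' := Subtype.ext <| funext fun y => by
    change T.kap y.1 (L.presheaf.germ V y.1 y.2 0) = 0
    rw [map_zero, kap_zero]
  map_add' s t := Subtype.ext <| funext fun y => by
    change T.kap y.1 (L.presheaf.germ V y.1 y.2 (s + t)) =
      T.kap y.1 (L.presheaf.germ V y.1 y.2 s) + T.kap y.1 (L.presheaf.germ V y.1 y.2 t)
    rw [map_add, kap_add]

/-- the embedding `L ⟶ O_X(D)`. -/
noncomputable def phi : L ⟶ divMod T.div :=
  ⟨PresheafOfModules.homMk (M₁ := L.val) (M₂ := (divMod T.div).val)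
    { app := fun U => AddCommGrpCat.ofHom (T.phiFun U.unop)
      naturality := by
        intro U V i
        ext t
        apply Subtype.ext
        funext y
        change T.kap y.1 (L.presheaf.germ V.unop y.1 y.2 (L.presheaf.map i t)) =
          T.kap y.1 (L.presheaf.germ U.unop y.1 (i.unop.le y.2) t)
        congr 1
        exact TopCat.Presheaf.germ_res_apply L.presheaf i.unop y.1 y.2 t }
    (fun U r t => Subtype.ext <| funext fun y => by
      have h1 := Mero.germ_smul L U.unop y.1 y.2 (show Γ(X, U.unop) from r)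
        (show Γ(L, U.unop) from t)
      exact (congrArg (T.kap y.1) h1).trans (T.kap_smul y.1 _ _))⟩

lemma phi_app_apply (V : X.Opens) (t : Γ(L, V)) (y : V) :
    ((T.phi).app V t).1 y = T.phiVal V t y := rfl

include T in
lemma isInvertible : PicF.IsInvertible L :=
  (isInvertible_iff_exists_isBasisOver L).mpr fun x => ⟨T.U x, T.e x, T.mem x, T.basis x⟩

lemma kap_eq_zero (y : X) (m : L.presheaf.stalk y) (h : T.kap y m = 0) : m = 0 := by
  unfold kap at h
  have h1 : algebraMap (X.presheaf.stalk y) (KStalk X y) (T.coord y m) = 0 := by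
    have h2 := congrArg (fun z => z * T.kv y y (T.mem y)) h
    simp only [mul_assoc, T.kiv_mul_kv, mul_one, zero_mul] at h2
    exact h2
  have h3 : T.coord y m = 0 := by
    apply algebraMap_KStalk_injective y
    rw [h1, map_zero]
  rw [T.coord_spec y m, h3, zero_smul]

lemma phi_app_injective (V : X.Opens) : Function.Injective ((T.phi).app V) := by
  rw [← AddMonoidHom.coe_coe, injective_iff_map_eq_zero]
  intro t ht
  apply section_eq_zero_of_germ
  intro y hy
  apply T.kap_eq_zero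
  have h1 := congrArg (fun τ : Γ(divMod T.div, V) => τ.1 ⟨y, hy⟩) ht
  exact h1

instance : Mono T.phi := mono_of_injective_app _ T.phi_app_injective

lemma phi_app_surjective (x : X) (W : X.Opens) (hW : W ≤ T.U x) :
    Function.Surjective ((T.phi).app W) := by
  intro τ
  obtain ⟨q, hq⟩ : ∃ q : Γ(kmod X, W), q = (divModι T.div).app W τ *
      (kmod X).presheaf.map (homOfLE hW).op ((T.k x : (Γ(kmod X, T.U x))ˣ) : Γ(kmod X, T.U x)) :=
    ⟨_, rfl⟩
  have hqv : ∀ y : W, q.1 y = τ.1 y * T.kv x y.1 (hW y.2) := by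
    intro y
    rw [hq]
    rfl
  have hrange : ∀ y : W, q.1 y ∈ (algebraMap (X.presheaf.stalk y.1) (KStalk X y.1)).range := by
    intro y
    rw [hqv y]
    exact τ.2.2 y (valUnit (T.k x) ⟨y.1, hW y.2⟩) (T.div_apply x y.1 (hW y.2))
  obtain ⟨a, ha⟩ := exists_toK_eq W q hrange
  refine ⟨a • L.presheaf.map (homOfLE hW).op (T.e x), ?_⟩
  apply Subtype.ext
  funext y
  have h1 := T.phiVal_eq W (a • L.presheaf.map (homOfLE hW).op (T.e x)) x W le_rfl hW a
    (by rw [res_self]) y.1 y.2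
  refine h1.trans ?_
  have h2 : algebraMap (X.presheaf.stalk y.1) (KStalk X y.1) (X.presheaf.germ W y.1 y.2 a) =
      q.1 y := by
    rw [← ha, toK_apply, mk_one_eq_algebraMap]
  rw [h2, hqv y, mul_assoc, T.kv_mul_kiv, mul_one]

theorem isIso_phi : IsIso T.phi := by
  haveI : L.IsQuasicoherent := qc_of_isInvertible L T.isInvertible
  haveI : (divMod T.div).IsQuasicoherent := qc_of_isInvertible _ (S5096_main X T.div)
  apply isIso_of_mono_of_surjective_affine_cover
  intro x
  obtain ⟨W, hW, hxW, hWle⟩ := exists_isAffineOpen_mem_and_subset (x := x) (U := T.U x) (T.mem x)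
  exact ⟨W, hW, hxW, T.phi_app_surjective x W hWle⟩

end KTriv

end Groth.Agent.H7.MeroTriv
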