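import Mathlib
import Groth.Agent.Lib.Lead.QC.InvBasis
import Groth.Agent.Lib.Lead.QC.AmpleBase
import Groth.Agent.Lib.Lead.QC.InvIntegral
import Groth.Agent.Lib.Lead.QC.AmpleIso
import Groth.Agent.Lib.Lead.QC.AnnIdeal
import Groth.Agent.Lib.Lead.QC.Coh
import Groth.Agent.Lib.Lead.FPExt.Quot
import Groth.Prelude.Def_PicF2

/-! helper7: the zero scheme of a section of an invertible module, computed on a trivialising
affine open. -/

set_option autoImplicit false
universe u
open CategoryTheory Limits AlgebraicGeometry Opposite TopologicalSpace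

namespace Groth.Agent.H7.ZeroLoc

open Groth.Agent.LD.QC Groth.Agent.LD

variable {X : Scheme.{u}}

/-- **local computation of the zero scheme**: on an affine open `W` over which `L` has the basis
`e` and `s = f e`, the ideal of `Z(s)` is `(f)`. -/
theorem ideal_zeroScheme_eq_span (L : X.Modules) (hL : PicF.IsInvertible L)
    (s : Coh.structureModule X ⟶ L) (W : X.affineOpens) (e : Γ(L, W.1))
    (he : IsBasisOver L W.1 e) (f : Γ(X, W.1)) (hs : SecTwist.val s W.1 = f • e) :
    (PicF2.zeroScheme L s).ideal W = Ideal.span {f} := by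
  haveI hLq : L.IsQuasicoherent := qc_of_isInvertible L hL
  haveI hOq : (unitMod X).IsQuasicoherent := inferInstance
  have hLft : L.IsFiniteType := isFiniteType_of_isInvertible L hL
  haveI hCq : (cokernel s).IsQuasicoherent := qc_cokernel s hOq hLq
  have hCft : (cokernel s).IsFiniteType :=
    isFiniteType_of_epi (cokernel.π s) hLq hCq hLft
  apply le_antisymm
  · intro a ha
    have ha' : a ∈ PicF2.zeroIdealOn L s W.1 :=
      Scheme.IdealSheafData.ideal_ofIdeals_le _ W ha
    obtain ⟨b, hb⟩ : ∃ b : Γ(X, W.1), a • e = b • (f • e) := by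
      obtain ⟨b, hb⟩ := ha' e
      refine ⟨b, ?_⟩
      rw [← hs]
      exact hb
    have hb2 : a • e = (b * f) • e := by
      rw [hb]
      exact (mul_smul b f e).symm
    have := he.coord_injective hb2
    rw [this]
    exact Ideal.mul_mem_left _ _ (Ideal.mem_span_singleton_self f)
  · rw [Ideal.span_singleton_le_iff_mem]
    have hJ : annIdeal (cokernel s) hCft ≤ PicF2.zeroScheme L s := by
      unfold PicF2.zeroScheme
      rw [Scheme.IdealSheafData.le_ofIdeals_iff]
      intro V a ha
      rw [annIdeal_ideal] at ha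
      change ∀ m : L.val.obj (op V.1), ∃ b : X.ringCatSheaf.obj.obj (op V.1),
        a • m = b • PicF2.secVal L s V.1
      intro m
      have h1 : (cokernel.π s).app V.1 (a • (show Γ(L, V.1) from m)) = 0 := by
        rw [Scheme.Modules.Hom.app_smul]
        exact Module.mem_annihilator.mp ha _
      obtain ⟨b, hb⟩ := FPExt.exists_preimage_of_cokernel_π_eq_zero s V.2 _ h1
      refine ⟨b, ?_⟩
      rw [unitHom_app L s V.1 b] at hb
      exact hb.symm
    apply hJ W
    rw [annIdeal_ideal, Module.mem_annihilator]
    intro mbar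
    obtain ⟨m, rfl⟩ := epi_app_affine hLq hCq (cokernel.π s) W.2 mbar
    obtain ⟨μ, hμ⟩ := he.self_smul m
    rw [← Scheme.Modules.Hom.app_smul, ← hμ, smul_smul, mul_comm, ← smul_smul]
    have hs' : f • e = s.app W.1 (1 : Γ(X, W.1)) := hs.symm
    rw [hs', ← unitHom_app L s W.1 μ]
    have h2 : (s ≫ cokernel.π s).app W.1 μ = 0 := by
      rw [cokernel.condition]
      rfl
    exact h2

end Groth.Agent.H7.ZeroLoc
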