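import Mathlib
import Groth.Agent.Lib.Helper7.MeroTriv
import Groth.Agent.Lib.Helper7.ZeroLoc
import Groth.Agent.Lib.Lead.QC.InvField
import Groth.Prelude.Def_PicF2

/-! helper7: regular sections of invertible modules and their divisors (S19456 and relatives). -/

set_option autoImplicit false
universe u
open CategoryTheory Limits AlgebraicGeometry TopologicalSpace Opposite

namespace Groth.Agent.H7.MeroSec

open Mero Groth.Agent.LD.QC Groth.Agent.H4.MeroK Groth.Agent.H3.MeroDivInj
  Groth.Agent.H4.MeroReg Groth.Agent.H7.MeroInv Groth.Agent.H7.MeroTriv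

attribute [-instance] Groth.Agent.LD.QC.stalkModule

variable {X : Scheme.{u}}

/-- local data of a regular section `s` of an invertible module: bases `e x` near every point with
`s = c x • e x`, `c x` a regular function. -/
structure SecData (L : X.Modules) (s : Coh.structureModule X ⟶ L) where
  U : X → X.Opens
  mem : ∀ x, x ∈ U x
  e : ∀ x, Γ(L, U x)
  basis : ∀ x, IsBasisOver L (U x) (e x)
  c : ∀ x, Γ(X, U x)
  hval : ∀ x, SecTwist.val s (U x) = c x • e x
  hreg : ∀ x, c x ∈ regSub X (U x)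

namespace SecData

variable {L : X.Modules} {s : Coh.structureModule X ⟶ L} (d : SecData L s)

/-- germ of `s` in terms of the chart at `x`. -/
lemma germ_val (x y : X) (hy : y ∈ d.U x) (V : X.Opens) (hyV : y ∈ V) :
    L.presheaf.germ V y hyV (SecTwist.val s V) =
      X.presheaf.germ (d.U x) y hy (d.c x) • L.presheaf.germ (d.U x) y hy (d.e x) := by
  have h1 : L.presheaf.germ V y hyV (SecTwist.val s V) =
      L.presheaf.germ (d.U x) y hy (SecTwist.val s (d.U x)) := by
    have h2 := SecTwist.map_val s (homOfLE (inf_le_left : V ⊓ d.U x ≤ V))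
    have h3 := SecTwist.map_val s (homOfLE (inf_le_right : V ⊓ d.U x ≤ d.U x))
    have h4 := TopCat.Presheaf.germ_res_apply L.presheaf
      (homOfLE (inf_le_left : V ⊓ d.U x ≤ V)) y ⟨hyV, hy⟩ (SecTwist.val s V)
    have h5 := TopCat.Presheaf.germ_res_apply L.presheaf
      (homOfLE (inf_le_right : V ⊓ d.U x ≤ d.U x)) y ⟨hyV, hy⟩ (SecTwist.val s (d.U x))
    rw [← h4, ← h5]
    congr 1
    exact h2.trans h3.symm
  rw [h1, d.hval x, Mero.germ_smul]

/-- the unit `c x` of `K_X`. -/
noncomputable def kunit (x : X) : (Γ(kmod X, d.U x))ˣ :=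
  ⟨toK X (d.U x) (d.c x), invK (d.U x) ⟨d.c x, d.hreg x⟩, toK_mul_invK (d.U x) ⟨d.c x, d.hreg x⟩,
    by rw [mul_comm]; exact toK_mul_invK (d.U x) ⟨d.c x, d.hreg x⟩⟩

lemma kunit_val (x y : X) (hy : y ∈ d.U x) :
    ((d.kunit x : (Γ(kmod X, d.U x))ˣ) : Γ(kmod X, d.U x)).1 ⟨y, hy⟩ =
      algebraMap (X.presheaf.stalk y) (KStalk X y) (X.presheaf.germ (d.U x) y hy (d.c x)) := by
  change (toK X (d.U x) (d.c x)).1 ⟨y, hy⟩ = _
  rw [toK_apply, mk_one_eq_algebraMap]

/-- the `K_X`-trivialisation of a regular section. -/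
noncomputable def triv : KTriv L where
  U := d.U
  mem := d.mem
  e := d.e
  basis := d.basis
  k := d.kunit
  compat := by
    intro x x' y hy hy' u h
    rw [d.kunit_val, d.kunit_val, ← map_mul]
    congr 1
    have h1 := d.germ_val x y hy ⊤ trivial
    have h2 := d.germ_val x' y hy' ⊤ trivial
    rw [h1, h, ← mul_smul] at h2
    have h3 : (X.presheaf.germ (d.U x) y hy (d.c x) * u -
        X.presheaf.germ (d.U x') y hy' (d.c x')) • L.presheaf.germ (d.U x') y hy' (d.e x') = 0 := by
      rw [sub_smul, h2, sub_self]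
    have h4 := germ_basis_inj L (d.basis x') y hy' _ h3
    rw [mul_comm]
    exact (sub_eq_zero.mp h4).symm

/-- `φ(s) = 1`. -/
lemma phiVal_val (V : X.Opens) (y : V) :
    d.triv.phiVal V (SecTwist.val s V) y = 1 := by
  unfold KTriv.phiVal
  have h1 := d.germ_val y.1 y.1 (d.mem y.1) V y.2
  rw [h1]
  have h2 := d.triv.kap_smul_germ y.1 y.1 (d.mem y.1)
    (X.presheaf.germ (d.U y.1) y.1 (d.mem y.1) (d.c y.1))
  refine h2.trans ?_
  have h3 := d.kunit_val y.1 y.1 (d.mem y.1)
  have h4 := d.triv.kv_mul_kiv y.1 y.1 (d.mem y.1)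
  rw [← h3]
  exact h4

lemma phi_val (V : X.Opens) :
    (divModι d.triv.div).app V (d.triv.phi.app V (SecTwist.val s V)) = 1 := by
  apply Subtype.ext
  funext y
  exact d.phiVal_val V y

/-- the divisor of the trivialisation is the divisor of the zero scheme. -/
lemma isDivOfIdeal (hL : PicF.IsInvertible L) :
    IsDivOfIdeal d.triv.div (PicF2.zeroScheme L s) := by
  intro x
  obtain ⟨W, hWaff, hxW, hWU'⟩ := exists_isAffineOpen_mem_and_subset (x := x) (U := d.U x) (d.mem x)
  have hWU : W ≤ d.U x := hWU'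
  refine ⟨⟨W, hWaff⟩, hxW, X.presheaf.map (homOfLE hWU).op (d.c x),
    regSub_res (homOfLE hWU) (d.hreg x), ?_, ?_⟩
  · apply Groth.Agent.H7.ZeroLoc.ideal_zeroScheme_eq_span L hL s ⟨W, hWaff⟩
      (L.presheaf.map (homOfLE hWU).op (d.e x)) ((d.basis x).mono hWU)
    have h1 := SecTwist.map_val s (homOfLE hWU)
    have h2 := d.hval x
    have h3 := Scheme.Modules.map_smul L (homOfLE hWU) (d.c x) (d.e x)
    refine h1.symm.trans ?_
    refine (congrArg (L.presheaf.map (homOfLE hWU).op) h2).trans ?_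
    exact h3
  · intro y
    rw [d.triv.div_apply x y.1 (hWU y.2)]
    unfold germOf
    congr 1
    apply Units.ext
    have h1 := d.kunit_val x y.1 (hWU y.2)
    refine h1.trans ?_
    change _ = algebraMap (X.presheaf.stalk y.1) (KStalk X y.1)
      (X.presheaf.germ W y.1 y.2 (X.presheaf.map (homOfLE hWU).op (d.c x)))
    rw [TopCat.Presheaf.germ_res_apply]

end SecData

section Integral

variable [IsIntegral X]

/-- on an integral scheme every nonzero function is a regular section. -/
lemma mem_regSub_of_ne_zero (U : X.Opens) (c : Γ(X, U)) (hc : c ≠ 0) : c ∈ regSub X U := by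
  intro y
  change X.presheaf.germ U y.1 y.2 c ∈ nonZeroDivisors _
  apply mem_nonZeroDivisors_of_ne_zero
  intro h
  apply hc
  apply germ_injective_of_isIntegral X y.1 y.2
  rw [h, map_zero]

/-- a nonzero section of an invertible module on an integral scheme has local data. -/
lemma nonempty_secData (L : X.Modules) (hL : PicF.IsInvertible L)
    (s : Coh.structureModule X ⟶ L) (hs : s ≠ 0) : Nonempty (SecData L s) := by
  have h := (isInvertible_iff_exists_isBasisOver L).mp hL
  choose U e hxU he using h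
  have hc : ∀ x, ∃ c : Γ(X, U x), c • e x = SecTwist.val s (U x) :=
    fun x => (he x).self_smul _
  choose c hc using hc
  exact ⟨{ U := U, mem := hxU, e := e, basis := he, c := c, hval := fun x => (hc x).symm,
           hreg := fun x => mem_regSub_of_ne_zero _ _ (coeff_ne_zero hL s hs (hxU x) (hc x)) }⟩

/-- **S19456**. -/
theorem main (X : Scheme.{u}) [IsIntegral X]
    (L : X.Modules) (hL : PicF.IsInvertible L) (s : Coh.structureModule X ⟶ L) (hs : s ≠ 0) :
    ∃ D : Mero.Divisor X, Mero.IsDivOfIdeal D (PicF2.zeroScheme L s) ∧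
      ∃ e : L ≅ Mero.divMod D,
        (Mero.divModι D).app ⊤ (e.hom.app ⊤ (SecTwist.val s ⊤)) = 1 := by
  obtain ⟨d⟩ := nonempty_secData L hL s hs
  haveI := d.triv.isIso_phi
  exact ⟨d.triv.div, d.isDivOfIdeal hL, asIso d.triv.phi, d.phi_val ⊤⟩

end Integral

end Groth.Agent.H7.MeroSec
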