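import Mathlib
import Groth.Agent.Lib.Helper7.MeroSec

/-! helper7: uniqueness of the divisor of an ideal sheaf, tensor products of regular sections
(S19459, S19457, S19458). -/

set_option autoImplicit false
universe u
open CategoryTheory Limits AlgebraicGeometry TopologicalSpace Opposite

namespace Groth.Agent.H7.MeroSec2

open Mero Groth.Agent.LD.QC Groth.Agent.H4.MeroK Groth.Agent.H3.MeroDivInj
  Groth.Agent.H4.MeroReg Groth.Agent.H7.MeroInv Groth.Agent.H7.MeroTriv Groth.Agent.H7.MeroSec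

attribute [-instance] Groth.Agent.LD.QC.stalkModule

variable {X : Scheme.{u}}

/-- the class of a regular germ. -/
noncomputable abbrev regClass (y : X) (g : regStalk X y) : Germ X y :=
  QuotientGroup.mk (IsLocalization.map_units (KStalk X y) g).unit

lemma regClass_eq_of_mul (y : X) (g g' : regStalk X y) (u v : X.presheaf.stalk y)
    (huv : u * v = 1) (h : g.1 = u * g'.1) : regClass y g = regClass y g' := by
  apply mk_eq_mk_of_eq_algebraMap_mul y _ _ ⟨u, v, huv, by rw [mul_comm]; exact huv⟩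
  change algebraMap (X.presheaf.stalk y) (KStalk X y) g.1 =
    algebraMap (X.presheaf.stalk y) (KStalk X y) u *
      algebraMap (X.presheaf.stalk y) (KStalk X y) g'.1
  rw [h, map_mul]

/-- **uniqueness**: an ideal sheaf determines its divisor. -/
theorem divisor_eq_of_isDivOfIdeal (D D' : Divisor X) (I : X.IdealSheafData)
    (h : IsDivOfIdeal D I) (h' : IsDivOfIdeal D' I) : D = D' := by
  apply Subtype.ext
  funext x
  obtain ⟨U, hxU, f, hf, hI, hD⟩ := h x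
  obtain ⟨U', hxU', f', hf', hI', hD'⟩ := h' x
  obtain ⟨W, hWaff, hxW, hWsub⟩ :=
    exists_isAffineOpen_mem_and_subset (x := x) (U := U.1 ⊓ U'.1) ⟨hxU, hxU'⟩
  have hWU : (⟨W, hWaff⟩ : X.affineOpens) ≤ U := fun y hy => (hWsub hy).1
  have hWU' : (⟨W, hWaff⟩ : X.affineOpens) ≤ U' := fun y hy => (hWsub hy).2
  have e1 := I.map_ideal hWU
  have e2 := I.map_ideal hWU'
  rw [hI, Ideal.map_span, Set.image_singleton] at e1
  rw [hI', Ideal.map_span, Set.image_singleton] at e2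
  obtain ⟨g, hg⟩ : ∃ g : Γ(X, W), g = (X.presheaf.map (homOfLE hWU).op).hom f := ⟨_, rfl⟩
  obtain ⟨g', hg'⟩ : ∃ g' : Γ(X, W), g' = (X.presheaf.map (homOfLE hWU').op).hom f' := ⟨_, rfl⟩
  rw [← hg] at e1
  rw [← hg'] at e2
  have e3 : Ideal.span {g} = Ideal.span {g'} := e1.trans e2.symm
  obtain ⟨a, ha⟩ : ∃ a, a * g' = g :=
    Ideal.mem_span_singleton'.mp (e3 ▸ Ideal.mem_span_singleton_self g)
  obtain ⟨b, hb⟩ : ∃ b, b * g = g' :=
    Ideal.mem_span_singleton'.mp (e3.symm ▸ Ideal.mem_span_singleton_self g')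
  have hgx : X.presheaf.germ W x hxW g = X.presheaf.germ U.1 x hxU f := by
    rw [hg]; exact TopCat.Presheaf.germ_res_apply X.presheaf (homOfLE hWU) x hxW f
  have hgx' : X.presheaf.germ W x hxW g' = X.presheaf.germ U'.1 x hxU' f' := by
    rw [hg']; exact TopCat.Presheaf.germ_res_apply X.presheaf (homOfLE hWU') x hxW f'
  have hnz : X.presheaf.germ W x hxW g ∈ nonZeroDivisors (X.presheaf.stalk x) := by
    rw [hgx]; exact hf ⟨x, hxU⟩
  have hab : X.presheaf.germ W x hxW a * X.presheaf.germ W x hxW b = 1 := by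
    have h1 : (a * b - 1) * g = 0 := by
      rw [sub_mul, one_mul, mul_assoc, hb, ha, sub_self]
    have h2 := congrArg (X.presheaf.germ W x hxW) h1
    rw [map_mul, map_zero] at h2
    have h3 := (mem_nonZeroDivisors_iff_right.mp hnz) _ h2
    rw [map_sub, map_mul, map_one, sub_eq_zero] at h3
    exact h3
  rw [hD ⟨x, hxU⟩, hD' ⟨x, hxU'⟩]
  apply regClass_eq_of_mul x _ _ (X.presheaf.germ W x hxW a) (X.presheaf.germ W x hxW b) hab
  change X.presheaf.germ U.1 x hxU f = _ * X.presheaf.germ U'.1 x hxU' f'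
  rw [← hgx, ← hgx', ← map_mul, ha]

section Tensor

variable {L₁ L₂ : X.Modules} {s₁ : Coh.structureModule X ⟶ L₁} {s₂ : Coh.structureModule X ⟶ L₂}

/-- local data of the tensor product of two regular sections. -/
noncomputable def tensor (d₁ : SecData L₁ s₁) (d₂ : SecData L₂ s₂) :
    SecData (CohB1.tensorMod L₁ L₂) (SecTwist.tmulHom s₁ s₂) where
  U x := d₁.U x ⊓ d₂.U x
  mem x := ⟨d₁.mem x, d₂.mem x⟩
  e x := SecTwist.tmul L₁ L₂ (d₁.U x ⊓ d₂.U x)
    (L₁.presheaf.map (homOfLE (inf_le_left : d₁.U x ⊓ d₂.U x ≤ d₁.U x)).op (d₁.e x))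
    (L₂.presheaf.map (homOfLE (inf_le_right : d₁.U x ⊓ d₂.U x ≤ d₂.U x)).op (d₂.e x))
  basis x := ((d₁.basis x).mono inf_le_left).tmul ((d₂.basis x).mono inf_le_right)
  c x := X.presheaf.map (homOfLE (inf_le_left : d₁.U x ⊓ d₂.U x ≤ d₁.U x)).op (d₁.c x) *
    X.presheaf.map (homOfLE (inf_le_right : d₁.U x ⊓ d₂.U x ≤ d₂.U x)).op (d₂.c x)
  hval x := by
    have h1 := SecTwist.map_val s₁ (homOfLE (inf_le_left : d₁.U x ⊓ d₂.U x ≤ d₁.U x))
    have h2 := SecTwist.map_val s₂ (homOfLE (inf_le_right : d₁.U x ⊓ d₂.U x ≤ d₂.U x))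
    have h3 := Scheme.Modules.map_smul L₁ (homOfLE (inf_le_left : d₁.U x ⊓ d₂.U x ≤ d₁.U x))
      (d₁.c x) (d₁.e x)
    have h4 := Scheme.Modules.map_smul L₂ (homOfLE (inf_le_right : d₁.U x ⊓ d₂.U x ≤ d₂.U x))
      (d₂.c x) (d₂.e x)
    have h5 : SecTwist.val s₁ (d₁.U x ⊓ d₂.U x) = _ :=
      h1.symm.trans ((congrArg (L₁.presheaf.map (homOfLE
        (inf_le_left : d₁.U x ⊓ d₂.U x ≤ d₁.U x)).op) (d₁.hval x)).trans h3)
    have h6 : SecTwist.val s₂ (d₁.U x ⊓ d₂.U x) = _ :=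
      h2.symm.trans ((congrArg (L₂.presheaf.map (homOfLE
        (inf_le_right : d₁.U x ⊓ d₂.U x ≤ d₂.U x)).op) (d₂.hval x)).trans h4)
    rw [SecTwist.val_tmulHom, h5, h6]
    refine (tmul_smul_left L₁ L₂ _ _ _ _).trans ?_
    rw [mul_smul]
    congr 1
    exact tmul_smul_right L₁ L₂ _ _ _ _
  hreg x := Submonoid.mul_mem _ (regSub_res _ (d₁.hreg x)) (regSub_res _ (d₂.hreg x))

lemma tensor_div (d₁ : SecData L₁ s₁) (d₂ : SecData L₂ s₂) :
    (tensor d₁ d₂).triv.div = d₁.triv.div * d₂.triv.div := by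
  apply Subtype.ext
  funext y
  change germOf ((tensor d₁ d₂).kunit y) ⟨y, (tensor d₁ d₂).mem y⟩ =
    germOf (d₁.kunit y) ⟨y, d₁.mem y⟩ * germOf (d₂.kunit y) ⟨y, d₂.mem y⟩
  unfold germOf
  rw [← QuotientGroup.mk_mul]
  congr 1
  apply Units.ext
  rw [Units.val_mul]
  have h1 := (tensor d₁ d₂).kunit_val y y ((tensor d₁ d₂).mem y)
  have h2 := d₁.kunit_val y y (d₁.mem y)
  have h3 := d₂.kunit_val y y (d₂.mem y)
  refine h1.trans ?_
  refine Eq.trans ?_ (congrArg₂ (· * ·) h2 h3).symm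
  rw [← map_mul]
  congr 1
  change X.presheaf.germ (d₁.U y ⊓ d₂.U y) y _ (_ * _) = _
  rw [map_mul, TopCat.Presheaf.germ_res_apply, TopCat.Presheaf.germ_res_apply]

end Tensor

/-- **S19459**. -/
theorem main_19459 (X : Scheme.{u}) [IsIntegral X]
    (L₁ L₂ : X.Modules) (hL₁ : PicF.IsInvertible L₁) (hL₂ : PicF.IsInvertible L₂)
    (s₁ : Coh.structureModule X ⟶ L₁) (s₂ : Coh.structureModule X ⟶ L₂) (hs₁ : s₁ ≠ 0) (hs₂ : s₂ ≠ 0)
    (D₁ D₂ : Mero.Divisor X) (hD₁ : Mero.IsDivOfIdeal D₁ (PicF2.zeroScheme L₁ s₁))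
    (hD₂ : Mero.IsDivOfIdeal D₂ (PicF2.zeroScheme L₂ s₂)) :
    Mero.IsDivOfIdeal (D₁ * D₂)
      (PicF2.zeroScheme (CohB1.tensorMod L₁ L₂) (SecTwist.tmulHom s₁ s₂)) := by
  obtain ⟨d₁⟩ := nonempty_secData L₁ hL₁ s₁ hs₁
  obtain ⟨d₂⟩ := nonempty_secData L₂ hL₂ s₂ hs₂
  have e₁ : D₁ = d₁.triv.div := divisor_eq_of_isDivOfIdeal _ _ _ hD₁ (d₁.isDivOfIdeal hL₁)
  have e₂ : D₂ = d₂.triv.div := divisor_eq_of_isDivOfIdeal _ _ _ hD₂ (d₂.isDivOfIdeal hL₂)
  rw [e₁, e₂, ← tensor_div]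
  exact (tensor d₁ d₂).isDivOfIdeal (tensor d₁ d₂).triv.isInvertible

/-! ### sections with the same zero scheme -/

/-- the germ of a global section of `L` does not depend on the open. -/
lemma germ_val_indep {L : X.Modules} (s : Coh.structureModule X ⟶ L) (V V' : X.Opens) (y : X)
    (hy : y ∈ V) (hy' : y ∈ V') :
    L.presheaf.germ V y hy (SecTwist.val s V) = L.presheaf.germ V' y hy' (SecTwist.val s V') := by
  have h2 := SecTwist.map_val s (homOfLE (inf_le_left : V ⊓ V' ≤ V))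
  have h3 := SecTwist.map_val s (homOfLE (inf_le_right : V ⊓ V' ≤ V'))
  have h4 := TopCat.Presheaf.germ_res_apply L.presheaf
    (homOfLE (inf_le_left : V ⊓ V' ≤ V)) y ⟨hy, hy'⟩ (SecTwist.val s V)
  have h5 := TopCat.Presheaf.germ_res_apply L.presheaf
    (homOfLE (inf_le_right : V ⊓ V' ≤ V')) y ⟨hy, hy'⟩ (SecTwist.val s V')
  rw [← h4, ← h5]
  congr 1
  exact h2.trans h3.symm

section SameZero

variable {L : X.Modules} {s : Coh.structureModule X ⟶ L} (d : SecData L s)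

include d in
/-- if `Z(s') = Z(s)` then the germs of `s'` are multiples of the germs of `s`. -/
lemma exists_germ_eq_smul (hL : PicF.IsInvertible L) (s' : Coh.structureModule X ⟶ L)
    (hZ : PicF2.zeroScheme L s' = PicF2.zeroScheme L s) (y : X) :
    ∃ r : X.presheaf.stalk y, L.presheaf.germ ⊤ y trivial (SecTwist.val s' ⊤) =
      r • L.presheaf.germ ⊤ y trivial (SecTwist.val s ⊤) := by
  obtain ⟨c', hc'⟩ := (d.basis y).self_smul (SecTwist.val s' (d.U y))
  obtain ⟨W, hWaff, hyW, hWU'⟩ :=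
    exists_isAffineOpen_mem_and_subset (x := y) (U := d.U y) (d.mem y)
  have hWU : W ≤ d.U y := hWU'
  have hvs : SecTwist.val s W = X.presheaf.map (homOfLE hWU).op (d.c y) •
      L.presheaf.map (homOfLE hWU).op (d.e y) := by
    have h1 := SecTwist.map_val s (homOfLE hWU)
    have h3 := Scheme.Modules.map_smul L (homOfLE hWU) (d.c y) (d.e y)
    exact h1.symm.trans ((congrArg (L.presheaf.map (homOfLE hWU).op) (d.hval y)).trans h3)
  have hvs' : SecTwist.val s' W = X.presheaf.map (homOfLE hWU).op c' •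
      L.presheaf.map (homOfLE hWU).op (d.e y) := by
    have h1 := SecTwist.map_val s' (homOfLE hWU)
    have h3 := Scheme.Modules.map_smul L (homOfLE hWU) c' (d.e y)
    exact h1.symm.trans ((congrArg (L.presheaf.map (homOfLE hWU).op) hc'.symm).trans h3)
  have e1 := Groth.Agent.H7.ZeroLoc.ideal_zeroScheme_eq_span L hL s ⟨W, hWaff⟩
    (L.presheaf.map (homOfLE hWU).op (d.e y)) ((d.basis y).mono hWU) _ hvs
  have e2 := Groth.Agent.H7.ZeroLoc.ideal_zeroScheme_eq_span L hL s' ⟨W, hWaff⟩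
    (L.presheaf.map (homOfLE hWU).op (d.e y)) ((d.basis y).mono hWU) _ hvs'
  rw [hZ, e1] at e2
  obtain ⟨a, ha⟩ : ∃ a, a * X.presheaf.map (homOfLE hWU).op (d.c y) =
      X.presheaf.map (homOfLE hWU).op c' :=
    Ideal.mem_span_singleton'.mp (e2 ▸ Ideal.mem_span_singleton_self _)
  refine ⟨X.presheaf.germ W y hyW a, ?_⟩
  rw [germ_val_indep s' ⊤ W y trivial hyW, germ_val_indep s ⊤ W y trivial hyW, hvs, hvs', ← ha,
    Mero.germ_smul, Mero.germ_smul, map_mul, mul_smul]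

include d in
/-- if `Z(s') = Z(s)` then `s'` is a multiple of `s`. -/
lemma exists_global_smul (hL : PicF.IsInvertible L) (s' : Coh.structureModule X ⟶ L)
    (hZ : PicF2.zeroScheme L s' = PicF2.zeroScheme L s) :
    ∃ h : Γ(X, ⊤), (SecTwist.val s' ⊤ : Γ(L, ⊤)) = h • (SecTwist.val s ⊤ : Γ(L, ⊤)) := by
  obtain ⟨σ', hσ'⟩ : ∃ σ' : Γ(kmod X, ⊤), σ' =
      (divModι d.triv.div).app ⊤ (d.triv.phi.app ⊤ (SecTwist.val s' ⊤)) := ⟨_, rfl⟩
  have hval : ∀ y : (⊤ : X.Opens), ∀ r : X.presheaf.stalk y.1,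
      L.presheaf.germ ⊤ y.1 trivial (SecTwist.val s' ⊤) =
        r • L.presheaf.germ ⊤ y.1 trivial (SecTwist.val s ⊤) →
      σ'.1 y = algebraMap (X.presheaf.stalk y.1) (KStalk X y.1) r := by
    intro y r hr
    rw [hσ']
    change d.triv.kap y.1 (L.presheaf.germ ⊤ y.1 y.2 (SecTwist.val s' ⊤)) = _
    rw [hr, KTriv.kap_smul]
    have h1 : d.triv.kap y.1 (L.presheaf.germ ⊤ y.1 trivial (SecTwist.val s ⊤)) = 1 :=
      d.phiVal_val ⊤ y
    rw [h1, Algebra.smul_def, mul_one]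
  have hrange : ∀ y : (⊤ : X.Opens),
      σ'.1 y ∈ (algebraMap (X.presheaf.stalk y.1) (KStalk X y.1)).range := by
    intro y
    obtain ⟨r, hr⟩ := exists_germ_eq_smul d hL s' hZ y.1
    exact ⟨r, (hval y r hr).symm⟩
  obtain ⟨h, hh⟩ := exists_toK_eq ⊤ σ' hrange
  refine ⟨h, d.triv.phi_app_injective ⊤ ?_⟩
  apply Subtype.ext
  funext y
  have h1 : (d.triv.phi.app ⊤ (SecTwist.val s' ⊤)).1 y = σ'.1 y := by rw [hσ']; rfl
  refine h1.trans ?_
  rw [← hh, toK_apply, mk_one_eq_algebraMap]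
  change _ = d.triv.kap y.1 (L.presheaf.germ ⊤ y.1 y.2
    (h • (SecTwist.val s ⊤ : Γ(L, ⊤))))
  have h2 : d.triv.kap y.1 (L.presheaf.germ ⊤ y.1 y.2 (SecTwist.val s ⊤)) = 1 :=
    d.phiVal_val ⊤ y
  have h3 := Mero.germ_smul L ⊤ y.1 y.2 h (SecTwist.val s ⊤ : Γ(L, ⊤))
  refine Eq.trans ?_ ((congrArg (d.triv.kap y.1) h3).trans (d.triv.kap_smul y.1 _ _)).symm
  rw [h2, Algebra.smul_def, mul_one]

include d in
/-- a function killing a regular section is zero. -/
lemma eq_zero_of_smul_val_eq_zero (h : Γ(X, ⊤))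
    (h0 : h • (SecTwist.val s ⊤ : Γ(L, ⊤)) = 0) : h = 0 := by
  apply toK_injective ⊤
  rw [map_zero]
  apply Subtype.ext
  funext y
  rw [toK_apply, mk_one_eq_algebraMap]
  have h2 : d.triv.kap y.1 (L.presheaf.germ ⊤ y.1 y.2 (SecTwist.val s ⊤)) = 1 :=
    d.phiVal_val ⊤ y
  have h3 := Mero.germ_smul L ⊤ y.1 y.2 h (SecTwist.val s ⊤ : Γ(L, ⊤))
  have h1 : d.triv.kap y.1 (L.presheaf.germ ⊤ y.1 y.2
      (h • (SecTwist.val s ⊤ : Γ(L, ⊤)))) = 0 := by
    have h5 : L.presheaf.germ ⊤ y.1 y.2 (h • (SecTwist.val s ⊤ : Γ(L, ⊤))) = 0 :=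
      (congrArg (L.presheaf.germ ⊤ y.1 y.2) h0).trans
        (map_zero (L.presheaf.germ ⊤ y.1 y.2).hom)
    rw [h5, KTriv.kap_zero]
  have h4 := ((congrArg (d.triv.kap y.1) h3).trans (d.triv.kap_smul y.1 _ _)).symm.trans h1
  rw [h2, Algebra.smul_def, mul_one] at h4
  exact h4

end SameZero

/-- multiplying a section by a unit does not change the zero scheme. -/
lemma zeroScheme_eq_of_unit_smul {L : X.Modules} (s s' : Coh.structureModule X ⟶ L)
    (h h' : Γ(X, ⊤)) (hh : h * h' = 1)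
    (hs : (SecTwist.val s' ⊤ : Γ(L, ⊤)) = h • (SecTwist.val s ⊤ : Γ(L, ⊤))) :
    PicF2.zeroScheme L s' = PicF2.zeroScheme L s := by
  have key : ∀ U : X.Opens, (SecTwist.val s' U : Γ(L, U)) =
      X.presheaf.map (homOfLE (le_top : U ≤ ⊤)).op h • (SecTwist.val s U : Γ(L, U)) := by
    intro U
    have h1 := SecTwist.map_val s' (homOfLE (le_top : U ≤ ⊤))
    have h2 := SecTwist.map_val s (homOfLE (le_top : U ≤ ⊤))
    have h3 := Scheme.Modules.map_smul L (homOfLE (le_top : U ≤ ⊤)) h (SecTwist.val s ⊤)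
    refine h1.symm.trans ((congrArg (L.presheaf.map (homOfLE (le_top : U ≤ ⊤)).op) hs).trans ?_)
    refine h3.trans ?_
    congr 1
  have key' : ∀ U : X.Opens, (SecTwist.val s U : Γ(L, U)) =
      X.presheaf.map (homOfLE (le_top : U ≤ ⊤)).op h' • (SecTwist.val s' U : Γ(L, U)) := by
    intro U
    rw [key U, ← mul_smul, ← map_mul, mul_comm, hh, map_one, one_smul]
  unfold PicF2.zeroScheme
  congr 1
  funext U
  apply Ideal.ext
  intro a
  constructor
  · intro ha m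
    obtain ⟨b, hb⟩ := ha m
    refine ⟨(show Γ(X, U.1) from b) * X.presheaf.map (homOfLE (le_top : U.1 ≤ ⊤)).op h, ?_⟩
    refine hb.trans ?_
    change (show Γ(X, U.1) from b) • (SecTwist.val s' U.1 : Γ(L, U.1)) = _
    rw [key U.1, ← mul_smul]
    rfl
  · intro ha m
    obtain ⟨b, hb⟩ := ha m
    refine ⟨(show Γ(X, U.1) from b) * X.presheaf.map (homOfLE (le_top : U.1 ≤ ⊤)).op h', ?_⟩
    refine hb.trans ?_
    change (show Γ(X, U.1) from b) • (SecTwist.val s U.1 : Γ(L, U.1)) = _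
    rw [key' U.1, ← mul_smul]
    rfl

/-- **S19457**. -/
theorem main_19457 (X : Scheme.{u}) [IsIntegral X]
    (L : X.Modules) (hL : PicF.IsInvertible L) (s s' : Coh.structureModule X ⟶ L)
    (hs : s ≠ 0) (hs' : s' ≠ 0) :
    PicF2.zeroScheme L s' = PicF2.zeroScheme L s ↔
      ∃ h : Γ(X, ⊤), IsUnit h ∧
        (SecTwist.val s' ⊤ : Γ(L, ⊤)) = h • (SecTwist.val s ⊤ : Γ(L, ⊤)) := by
  constructor
  · intro hZ
    obtain ⟨d⟩ := nonempty_secData L hL s hs
    obtain ⟨d'⟩ := nonempty_secData L hL s' hs'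
    obtain ⟨h, hh⟩ := exists_global_smul d hL s' hZ
    obtain ⟨h', hh'⟩ := exists_global_smul d' hL s hZ.symm
    have h1 : (h' * h - 1) • (SecTwist.val s ⊤ : Γ(L, ⊤)) = 0 := by
      rw [sub_smul, one_smul, mul_smul, ← hh, ← hh', sub_self]
    have h2 := eq_zero_of_smul_val_eq_zero d _ h1
    have h3 : h' * h = 1 := sub_eq_zero.mp h2
    exact ⟨h, ⟨⟨h, h', by rw [mul_comm]; exact h3, h3⟩, rfl⟩, hh⟩
  · rintro ⟨h, ⟨u, rfl⟩, hh⟩
    exact zeroScheme_eq_of_unit_smul s s' u.1 u.2 u.mul_inv hh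

/-! ### effective divisors (S19458) -/

/-- near every point an effective divisor is the class of a regular function. -/
lemma exists_effective_chart (D : Divisor X) (hD : IsEffective D) (x : X) :
    ∃ (U : X.Opens) (_ : x ∈ U) (τ : Γ(X, U)) (_ : τ ∈ regSub X U) (f : (Γ(kmod X, U))ˣ),
      (f : Γ(kmod X, U)) = toK X U τ ∧ ∀ y : U, D.1 y.1 = germOf f y := by
  obtain ⟨U, hxU, f, hf⟩ := D.2 x
  have hrange : ∀ y : U, (f : Γ(kmod X, U)).1 y ∈
      (algebraMap (X.presheaf.stalk y.1) (KStalk X y.1)).range := by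
    intro y
    obtain ⟨a, ha⟩ := hD y.1
    have h1 := (hf y).symm.trans ha
    rw [germOf, QuotientGroup.eq] at h1
    obtain ⟨v, hv⟩ := h1
    have h2 : valUnit f y * Units.map (algebraMap (X.presheaf.stalk y.1)
        (KStalk X y.1)).toMonoidHom v = (IsLocalization.map_units (KStalk X y.1) a).unit := by
      rw [hv, mul_inv_cancel_left]
    have h3 := congrArg (fun w : (KStalk X y.1)ˣ => (w : KStalk X y.1) *
      algebraMap (X.presheaf.stalk y.1) (KStalk X y.1) ((v⁻¹ : (X.presheaf.stalk y.1)ˣ))) h2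
    simp only [Units.val_mul] at h3
    have h4 : (f : Γ(kmod X, U)).1 y = (valUnit f y : KStalk X y.1) := rfl
    have h5 : ((Units.map (algebraMap (X.presheaf.stalk y.1) (KStalk X y.1)).toMonoidHom v :
        (KStalk X y.1)ˣ) : KStalk X y.1) *
        algebraMap (X.presheaf.stalk y.1) (KStalk X y.1) ((v⁻¹ : (X.presheaf.stalk y.1)ˣ)) = 1 := by
      change algebraMap (X.presheaf.stalk y.1) (KStalk X y.1) v *
        algebraMap (X.presheaf.stalk y.1) (KStalk X y.1) ((v⁻¹ : (X.presheaf.stalk y.1)ˣ)) = 1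
      rw [← map_mul, Units.mul_inv, map_one]
    rw [mul_assoc, h5, mul_one] at h3
    rw [h4, h3]
    refine ⟨a.1 * ((v⁻¹ : (X.presheaf.stalk y.1)ˣ) : X.presheaf.stalk y.1), ?_⟩
    rw [map_mul]
    rfl
  obtain ⟨τ, hτ⟩ := exists_toK_eq U (f : Γ(kmod X, U)) hrange
  have hval : ∀ y : U, algebraMap (X.presheaf.stalk y.1) (KStalk X y.1)
      (X.presheaf.germ U y.1 y.2 τ) = (valUnit f y : KStalk X y.1) := by
    intro y
    have h1 := congrArg (fun t : Γ(kmod X, U) => t.1 y) hτ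
    simp only [toK_apply, mk_one_eq_algebraMap] at h1
    exact h1
  refine ⟨U, hxU, τ, ?_, f, hτ.symm, hf⟩
  intro y
  change X.presheaf.germ U y.1 y.2 τ ∈ nonZeroDivisors _
  rw [mem_nonZeroDivisors_iff_right]
  intro z hz
  apply algebraMap_KStalk_injective y.1
  have h1 := congrArg (algebraMap (X.presheaf.stalk y.1) (KStalk X y.1)) hz
  rw [map_mul, map_zero, hval y] at h1
  rw [map_zero]
  exact (Units.mul_left_eq_zero (valUnit f y)).mp h1

/-- the inverse of a local equation, as a section of `O_X(D)`. -/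
noncomputable def invSec (D : Divisor X) {U : X.Opens} (f : (Γ(kmod X, U))ˣ)
    (hf : ∀ y : U, D.1 y.1 = germOf f y) : Γ(divMod D, U) :=
  ⟨((f⁻¹ : (Γ(kmod X, U))ˣ) : Γ(kmod X, U)).1,
    ⟨((f⁻¹ : (Γ(kmod X, U))ˣ) : Γ(kmod X, U)).2, fun y => divCond_inv D f hf y⟩⟩

lemma unit_mul_inv_apply {U : X.Opens} (f : (Γ(kmod X, U))ˣ) (y : U) :
    (f : Γ(kmod X, U)).1 y * ((f⁻¹ : (Γ(kmod X, U))ˣ) : Γ(kmod X, U)).1 y = 1 :=
  congrArg (fun t : Γ(kmod X, U) => t.1 y) (Units.mul_inv f)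

/-- the inverse of a local equation is a basis of `O_X(D)`. -/
lemma isBasisOver_invSec (D : Divisor X) {U : X.Opens} (f : (Γ(kmod X, U))ˣ)
    (hf : ∀ y : U, D.1 y.1 = germOf f y) : IsBasisOver (divMod D) U (invSec D f hf) := by
  intro V hV
  have hev : ∀ (a : Γ(X, V)) (y : V),
      (a • (divMod D).presheaf.map (homOfLE hV).op (invSec D f hf)).1 y =
        algebraMap (X.presheaf.stalk y.1) (KStalk X y.1) (X.presheaf.germ V y.1 y.2 a) *
          ((f⁻¹ : (Γ(kmod X, U))ˣ) : Γ(kmod X, U)).1 ⟨y.1, hV y.2⟩ := by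
    intro a y
    change X.presheaf.germ V y.1 y.2 a •
      ((f⁻¹ : (Γ(kmod X, U))ˣ) : Γ(kmod X, U)).1 ⟨y.1, hV y.2⟩ = _
    rw [Algebra.smul_def]
  constructor
  · intro a a' haa'
    apply toK_injective V
    apply Subtype.ext
    funext y
    have h1 := congrArg (fun t : Γ(divMod D, V) => t.1 y) haa'
    simp only [hev] at h1
    have h2 := congrArg (fun t => t * (f : Γ(kmod X, U)).1 ⟨y.1, hV y.2⟩) h1
    simp only [mul_assoc] at h2
    rw [mul_comm (((f⁻¹ : (Γ(kmod X, U))ˣ) : Γ(kmod X, U)).1 ⟨y.1, hV y.2⟩),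
      unit_mul_inv_apply f ⟨y.1, hV y.2⟩, mul_one, mul_one] at h2
    rw [toK_apply, toK_apply, mk_one_eq_algebraMap, mk_one_eq_algebraMap]
    exact h2
  · intro t
    obtain ⟨t', ht'⟩ : ∃ t' : Γ(kmod X, V), t'.1 = t.1 := ⟨⟨t.1, t.2.1⟩, rfl⟩
    obtain ⟨s, hsdef⟩ : ∃ s : Γ(kmod X, V), s = t' *
        (kmod X).presheaf.map (homOfLE hV).op (f : Γ(kmod X, U)) := ⟨_, rfl⟩
    have hsy : ∀ y : V, s.1 y = t.1 y * (f : Γ(kmod X, U)).1 ⟨y.1, hV y.2⟩ := by
      intro y; rw [hsdef, ← ht']; rfl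
    have hrange : ∀ y : V, s.1 y ∈ (algebraMap (X.presheaf.stalk y.1) (KStalk X y.1)).range := by
      intro y
      rw [hsy]
      exact t.2.2 y (valUnit f ⟨y.1, hV y.2⟩) (hf ⟨y.1, hV y.2⟩)
    obtain ⟨a, ha⟩ := exists_toK_eq V s hrange
    refine ⟨a, ?_⟩
    apply Subtype.ext
    funext y
    change (a • (divMod D).presheaf.map (homOfLE hV).op (invSec D f hf)).1 y = t.1 y
    rw [hev]
    have h3 : algebraMap (X.presheaf.stalk y.1) (KStalk X y.1) (X.presheaf.germ V y.1 y.2 a) =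
        s.1 y := by
      rw [← ha, toK_apply, mk_one_eq_algebraMap]
    rw [h3, hsy, mul_assoc, unit_mul_inv_apply f ⟨y.1, hV y.2⟩, mul_one]

/-- the section `1` of `O_X(D)` for an effective divisor `D`. -/
noncomputable def oneSec (D : Divisor X) (hD : IsEffective D) : Γ(divMod D, ⊤) :=
  ⟨(1 : Γ(kmod X, ⊤)).1, ⟨(1 : Γ(kmod X, ⊤)).2, fun y => by
    obtain ⟨a, ha⟩ := hD y.1
    apply divCond_of_rep D y.1 _ ha
    refine ⟨a.1, ?_⟩
    change _ = (1 : KStalk X y.1) * algebraMap (X.presheaf.stalk y.1) (KStalk X y.1) a.1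
    rw [one_mul]⟩⟩

lemma smul_invSec (D : Divisor X) (hD : IsEffective D) {U : X.Opens} (τ : Γ(X, U))
    (f : (Γ(kmod X, U))ˣ) (hfτ : (f : Γ(kmod X, U)) = toK X U τ)
    (hf : ∀ y : U, D.1 y.1 = germOf f y) :
    τ • invSec D f hf = (divMod D).presheaf.map (homOfLE (le_top : U ≤ ⊤)).op (oneSec D hD) := by
  apply Subtype.ext
  funext y
  change X.presheaf.germ U y.1 y.2 τ • ((f⁻¹ : (Γ(kmod X, U))ˣ) : Γ(kmod X, U)).1 y = 1
  rw [Algebra.smul_def]
  have h1 : algebraMap (X.presheaf.stalk y.1) (KStalk X y.1) (X.presheaf.germ U y.1 y.2 τ) =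
      (f : Γ(kmod X, U)).1 y := by
    rw [hfτ, toK_apply, mk_one_eq_algebraMap]
  rw [h1]
  exact unit_mul_inv_apply f y

/-- transport of a basis along an isomorphism. -/
lemma isBasisOver_of_iso {L L' : X.Modules} (φ : L ≅ L') {W : X.Opens}
    {e : Γ(L, W)} (he : IsBasisOver L W e) : IsBasisOver L' W (φ.hom.app W e) := by
  intro W' hW'
  have h1 := he W' hW'
  have hb : Function.Bijective (φ.hom.app W') := app_bijective_of_isIso φ.hom W'
  have h2 : (fun a : Γ(X, W') => a • L'.presheaf.map (homOfLE hW').op (φ.hom.app W e)) =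
      ⇑(ConcreteCategory.hom (φ.hom.app W')) ∘
        (fun a : Γ(X, W') => a • L.presheaf.map (homOfLE hW').op e) := by
    funext a
    rw [Function.comp_apply, Scheme.Modules.Hom.app_smul, app_res]
  rw [h2]
  exact hb.comp h1

/-- local data of the section of `L ≅ O_X(D)` corresponding to `1`, for `D` effective. -/
lemma exists_effData (L : X.Modules) (D : Divisor X) (hD : IsEffective D) (e : L ≅ divMod D) :
    ∃ d : SecData L (homOfSection L (e.inv.app ⊤ (oneSec D hD))), d.triv.div = D := by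
  choose U hxU τ hτ f hfτ hf using exists_effective_chart D hD
  have hval : ∀ x, SecTwist.val (homOfSection L (e.inv.app ⊤ (oneSec D hD))) (U x) =
      τ x • e.inv.app (U x) (invSec D (f x) (hf x)) := by
    intro x
    rw [val_homOfSection, ← app_res e.inv (le_top : U x ≤ ⊤) (oneSec D hD),
      ← smul_invSec D hD (τ x) (f x) (hfτ x) (hf x), Scheme.Modules.Hom.app_smul]
  refine ⟨{ U := U, mem := hxU, e := fun x => e.inv.app (U x) (invSec D (f x) (hf x)),
            basis := fun x => isBasisOver_of_iso e.symm (isBasisOver_invSec D (f x) (hf x)),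
            c := τ, hval := hval, hreg := hτ }, ?_⟩
  apply Subtype.ext
  funext y
  refine Eq.trans ?_ (hf y ⟨y, hxU y⟩).symm
  change germOf (SecData.kunit _ y) ⟨y, hxU y⟩ = germOf (f y) ⟨y, hxU y⟩
  unfold germOf
  congr 1
  apply Units.ext
  change (toK X (U y) (τ y)).1 ⟨y, hxU y⟩ = ((f y : (Γ(kmod X, U y))ˣ) : Γ(kmod X, U y)).1 ⟨y, hxU y⟩
  rw [hfτ y]

lemma ne_zero_of_secData [Nonempty X] {L : X.Modules} {s : Coh.structureModule X ⟶ L}
    (d : SecData L s) : s ≠ 0 := by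
  rintro rfl
  have h1 : (1 : Γ(X, ⊤)) • (SecTwist.val (0 : Coh.structureModule X ⟶ L) ⊤ : Γ(L, ⊤)) = 0 := by
    rw [one_smul]; rfl
  have h2 := eq_zero_of_smul_val_eq_zero d 1 h1
  haveI : Nonempty (⊤ : X.Opens) := ⟨⟨Classical.arbitrary X, trivial⟩⟩
  exact one_ne_zero h2

/-- **S19458**. -/
theorem main_19458 (X : Scheme.{u}) [IsIntegral X]
    (L : X.Modules) (hL : PicF.IsInvertible L) (D : Mero.Divisor X) (hD : Mero.IsEffective D)
    (e : L ≅ Mero.divMod D) :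
    ∃ s : Coh.structureModule X ⟶ L, s ≠ 0 ∧ Mero.IsDivOfIdeal D (PicF2.zeroScheme L s) := by
  obtain ⟨d, hd⟩ := exists_effData L D hD e
  refine ⟨_, ne_zero_of_secData d, ?_⟩
  have h := d.isDivOfIdeal hL
  rw [hd] at h
  exact h

end Groth.Agent.H7.MeroSec2
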