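import Mathlib
import Groth.Agent.Lib.Helper7.MeroSec2
import Groth.Agent.S8866

/-! helper7: an invertible module with a regular meromorphic section is `O_X(D)` (any scheme). -/

set_option autoImplicit false
universe u
open CategoryTheory Limits AlgebraicGeometry TopologicalSpace Opposite

namespace Groth.Agent.H7.MeroRS

open Mero Groth.Agent.LD.QC Groth.Agent.H4.MeroK Groth.Agent.H3.MeroDivInj
  Groth.Agent.H4.MeroReg Groth.Agent.H7.MeroInv Groth.Agent.H7.MeroTriv Groth.Agent.H7.MeroSec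
  Groth.Agent.H7.MeroSec2

attribute [-instance] Groth.Agent.LD.QC.stalkModule

variable {X : Scheme.{u}}

/-- local chart of a regular meromorphic section: a basis `e` and regular functions `a`, `b`
with `s = (a / b) e`. -/
lemma exists_chart_of_mero (L : X.Modules) (hL : PicF.IsInvertible L) (s : Γ(merMod L, ⊤))
    (hs : IsRegularMero L s) (x : X) :
    ∃ (U : X.Opens) (_ : x ∈ U) (e : Γ(L, U)) (_ : IsBasisOver L U e) (a b : regSub X U),
      ∀ y : U, s.1 ⟨y.1, trivial⟩ =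
        LocalizedModule.mk (X.presheaf.germ U y.1 y.2 a.1 • L.presheaf.germ U y.1 y.2 e)
          (regGerm y b) := by
  obtain ⟨U₀, e₀, hxU₀, he₀⟩ := (isInvertible_iff_exists_isBasisOver L).mp hL x
  obtain ⟨V, hxV, i, m, b, hmb⟩ := s.2 ⟨x, trivial⟩
  obtain ⟨U, hU⟩ : ∃ U : X.Opens, U = U₀ ⊓ V := ⟨_, rfl⟩
  have hUU₀ : U ≤ U₀ := hU ▸ inf_le_left
  have hUV : U ≤ V := hU ▸ inf_le_right
  have hxU : x ∈ U := hU ▸ ⟨hxU₀, hxV⟩
  obtain ⟨a, ha⟩ := (he₀ U hUU₀).2 (L.presheaf.map (homOfLE hUV).op m)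
  have hform : ∀ y : U, s.1 ⟨y.1, trivial⟩ =
      LocalizedModule.mk (X.presheaf.germ U y.1 y.2 a •
        L.presheaf.germ U y.1 y.2 (L.presheaf.map (homOfLE hUU₀).op e₀))
        (regGerm y ⟨X.presheaf.map (homOfLE hUV).op b.1, regSub_res (homOfLE hUV) b.2⟩) := by
    intro y
    have h1 := hmb ⟨y.1, hUV y.2⟩
    refine h1.trans ?_
    refine mk_congr ?_ ?_
    · have h2 := congrArg (L.presheaf.germ U y.1 y.2) ha
      rw [Mero.germ_smul] at h2
      rw [h2]
      exact (TopCat.Presheaf.germ_res_apply L.presheaf (homOfLE hUV) y.1 y.2 m).symm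
    · change X.presheaf.germ V y.1 (hUV y.2) b.1 =
        X.presheaf.germ U y.1 y.2 (X.presheaf.map (homOfLE hUV).op b.1)
      rw [TopCat.Presheaf.germ_res_apply]
  have hareg : a ∈ regSub X U := by
    intro y
    change X.presheaf.germ U y.1 y.2 a ∈ nonZeroDivisors _
    rw [mem_nonZeroDivisors_iff_right]
    intro c hc
    apply algebraMap_KStalk_injective y.1
    rw [map_zero]
    apply hs y.1
    rw [hform y, algebraMap_smul, LocalizedModule.smul'_mk, ← mul_smul, hc, zero_smul,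
      LocalizedModule.zero_mk]
  exact ⟨U, hxU, L.presheaf.map (homOfLE hUU₀).op e₀, he₀.mono hUU₀, ⟨a, hareg⟩,
    ⟨X.presheaf.map (homOfLE hUV).op b.1, regSub_res (homOfLE hUV) b.2⟩, hform⟩

/-- **an invertible module with a regular meromorphic section is `O_X(D)`** (any scheme). -/
theorem exists_iso_divMod_of_hasRegularMero (L : X.Modules) (hL : PicF.IsInvertible L)
    (h : HasRegularMero L) : ∃ D : Divisor X, Nonempty (L ≅ divMod D) := by
  obtain ⟨s, hs⟩ := h
  choose U hxU e he a b hform using exists_chart_of_mero L hL s hs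
  have hk : ∀ x, IsUnit (toK X (U x) (a x).1 * invK (U x) (b x)) :=
    fun x => isUnit_toK_mul_invK (a x) (b x)
  have hkv : ∀ (x y : X) (hy : y ∈ U x),
      (((hk x).unit : (Γ(kmod X, U x))ˣ) : Γ(kmod X, U x)).1 ⟨y, hy⟩ =
        LocalizedModule.mk (X.presheaf.germ (U x) y hy (a x).1) (regGerm ⟨y, hy⟩ (b x)) := by
    intro x y hy
    rw [IsUnit.unit_spec]
    exact toK_mul_invK_apply (a x).1 (b x) ⟨y, hy⟩
  obtain ⟨T, hT⟩ : ∃ T : KTriv L, T.U = U := by
    refine ⟨{ U := U, mem := hxU, e := e, basis := he, k := fun x => (hk x).unit,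
              compat := ?_ }, rfl⟩
    intro x x' y hy hy' u hu
    rw [hkv x y hy, hkv x' y hy', algebraMap_mul_mk]
    have h1 := (hform x ⟨y, hy⟩).symm.trans (hform x' ⟨y, hy'⟩)
    rw [hu, LocalizedModule.mk_eq] at h1
    obtain ⟨t, ht⟩ := h1
    rw [LocalizedModule.mk_eq]
    refine ⟨t, ?_⟩
    simp only [Submonoid.smul_def, smul_eq_mul] at ht ⊢
    have h2 : (t.1 * ((X.presheaf.germ (U x') y hy' (b x').1) *
        (X.presheaf.germ (U x) y hy (a x).1 * u)) -
        t.1 * ((X.presheaf.germ (U x) y hy (b x).1) *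
        X.presheaf.germ (U x') y hy' (a x').1)) •
        L.presheaf.germ (U x') y hy' (e x') = 0 := by
      rw [sub_smul, sub_eq_zero]
      simp only [mul_smul]
      exact ht
    have h3 := germ_basis_inj L (he x') y hy' _ h2
    rw [sub_eq_zero] at h3
    rw [mul_comm u]
    exact h3.symm
  haveI := T.isIso_phi
  exact ⟨T.div, ⟨asIso T.phi⟩⟩

/-- a locally finite family of irreducible components gives finitely many irreducible components
on every quasi-compact open. -/
lemma finite_irreducibleComponents_of_locallyFinite (X : Scheme.{u})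
    (hX : ∀ x : X, ∃ W : X.Opens, x ∈ W ∧
      {Z : Set X | Z ∈ irreducibleComponents X ∧ (Z ∩ (W : Set X)).Nonempty}.Finite)
    (U : X.Opens) (hU : IsCompact (U : Set X)) :
    (irreducibleComponents ↥(U : Scheme.{u})).Finite := by
  choose W hxW hW using hX
  obtain ⟨t, ht⟩ := hU.elim_finite_subcover (fun x : X => (W x : Set X))
    (fun x => (W x).isOpen) (fun y _ => Set.mem_iUnion.mpr ⟨y, hxW y⟩)
  have hfin : {Z : Set X | Z ∈ irreducibleComponents X ∧ (Z ∩ (U : Set X)).Nonempty}.Finite := by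
    apply Set.Finite.subset (Set.Finite.biUnion t.finite_toSet (fun x _ => hW x))
    rintro Z ⟨hZ, ⟨y, hyZ, hyU⟩⟩
    obtain ⟨x, hx, hyx⟩ := Set.mem_iUnion₂.mp (ht hyU)
    exact Set.mem_biUnion hx ⟨hZ, ⟨y, hyZ, hyx⟩⟩
  obtain ⟨f, hfdef⟩ : ∃ f : ↥(U : Scheme.{u}) → X, f = fun y => (U.ι : (U : Scheme.{u}) ⟶ X) y :=
    ⟨_, rfl⟩
  have hf : Topology.IsOpenEmbedding f := by rw [hfdef]; exact U.ι.isOpenEmbedding
  have hrange : Set.range f = (U : Set X) := by rw [hfdef]; exact Scheme.Opens.range_ι U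
  apply Set.Finite.subset (hfin.image (fun Z => f ⁻¹' Z))
  intro T hT
  obtain ⟨Z, hZ, hTZ⟩ := exists_mem_irreducibleComponents_subset_of_isIrreducible (f '' T)
    (hT.1.image f hf.continuous.continuousOn)
  have hne : (Z ∩ Set.range f).Nonempty := by
    obtain ⟨y, hy⟩ := hT.1.1
    exact ⟨f y, hTZ ⟨y, hy, rfl⟩, y, rfl⟩
  have h1 := preimage_mem_irreducibleComponents hZ hf hne
  have h2 : T ⊆ f ⁻¹' Z := Set.image_subset_iff.mp hTZ
  have h3 : T = f ⁻¹' Z := subset_antisymm h2 (hT.2 h1.1 h2)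
  refine ⟨Z, ⟨hZ, ?_⟩, h3.symm⟩
  rw [← hrange]
  exact hne

/-- **S5089**. -/
theorem main_5089 (X : Scheme.{u}) [IsReduced X]
    (hX : ∀ x : X, ∃ W : X.Opens, x ∈ W ∧
      {Z : Set X | Z ∈ irreducibleComponents X ∧ (Z ∩ (W : Set X)).Nonempty}.Finite)
    (L : X.Modules) (hL : PicF.IsInvertible L) :
    ∃ D : Mero.Divisor X, Nonempty (L ≅ Mero.divMod D) :=
  exists_iso_divMod_of_hasRegularMero L hL
    (Groth.Agent.S8866.result X (finite_irreducibleComponents_of_locallyFinite X hX) L hL)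

/-! ### conversely: `O_X(D)` has a regular meromorphic section -/

/-- a fractional chart of a divisor. -/
lemma exists_frac_chart (D : Divisor X) (x : X) :
    ∃ (V : X.Opens) (_ : x ∈ V) (a b : regSub X V) (f : (Γ(kmod X, V))ˣ),
      (∀ z : V, (f : Γ(kmod X, V)).1 z =
        LocalizedModule.mk (X.presheaf.germ V z.1 z.2 a.1) (regGerm z b)) ∧
      ∀ y : V, D.1 y.1 = germOf f y := by
  obtain ⟨U, hxU, f₀, hf₀⟩ := D.2 x
  obtain ⟨V, hxV, i, a, b, hab⟩ := f₀.1.2 ⟨x, hxU⟩
  have hVU : V ≤ U := i.le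
  have hval : ∀ z : V, (f₀ : Γ(kmod X, U)).1 ⟨z.1, hVU z.2⟩ =
      LocalizedModule.mk (X.presheaf.germ V z.1 z.2 a) (regGerm z b) := fun z => hab z
  have ha : a ∈ regSub X V := by
    intro z
    change X.presheaf.germ V z.1 z.2 a ∈ nonZeroDivisors _
    rw [mem_nonZeroDivisors_iff_right]
    intro c hc
    apply algebraMap_KStalk_injective z.1
    rw [map_zero]
    have h1 : algebraMap (X.presheaf.stalk z.1) (KStalk X z.1) c *
        (valUnit f₀ ⟨z.1, hVU z.2⟩ : KStalk X z.1) = 0 := by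
      change _ * (f₀ : Γ(kmod X, U)).1 ⟨z.1, hVU z.2⟩ = 0
      rw [hval z, algebraMap_mul_mk, hc, LocalizedModule.zero_mk]
    exact (Units.mul_left_eq_zero (valUnit f₀ ⟨z.1, hVU z.2⟩)).mp h1
  refine ⟨V, hxV, ⟨a, ha⟩, b, resUnit hVU f₀, fun z => hval z, fun y => ?_⟩
  rw [germOf_resUnit]
  exact hf₀ ⟨y.1, hVU y.2⟩

/-- on a fractional chart, `a • f⁻¹ = b`. -/
lemma num_smul_invSec_apply (D : Divisor X) {V : X.Opens} (a b : regSub X V)
    (f : (Γ(kmod X, V))ˣ)
    (hfab : ∀ z : V, (f : Γ(kmod X, V)).1 z =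
      LocalizedModule.mk (X.presheaf.germ V z.1 z.2 a.1) (regGerm z b))
    (hf : ∀ y : V, D.1 y.1 = germOf f y) (z : V) :
    (a.1 • invSec D f hf).1 z =
      algebraMap (X.presheaf.stalk z.1) (KStalk X z.1) (X.presheaf.germ V z.1 z.2 b.1) := by
  change X.presheaf.germ V z.1 z.2 a.1 • ((f⁻¹ : (Γ(kmod X, V))ˣ) : Γ(kmod X, V)).1 z = _
  rw [Algebra.smul_def]
  have h1 := unit_mul_inv_apply f z
  have h2 : algebraMap (X.presheaf.stalk z.1) (KStalk X z.1) (X.presheaf.germ V z.1 z.2 a.1) =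
      algebraMap (X.presheaf.stalk z.1) (KStalk X z.1) (X.presheaf.germ V z.1 z.2 b.1) *
        (f : Γ(kmod X, V)).1 z := by
    rw [hfab z, algebraMap_mul_mk, ← mk_one_eq_algebraMap]
    rw [LocalizedModule.mk_eq]
    refine ⟨1, ?_⟩
    simp only [Submonoid.smul_def, smul_eq_mul, one_mul, OneMemClass.coe_one]
  rw [h2, mul_assoc, h1, mul_one]

/-- **`O_X(D)` (and every module isomorphic to it) has a regular meromorphic section.** -/
theorem hasRegularMero_of_iso_divMod (L : X.Modules) (D : Divisor X) (e : L ≅ divMod D) :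
    HasRegularMero L := by
  choose V hxV a b f hfab hf using exists_frac_chart D
  obtain ⟨β, hβ⟩ : ∃ β : ∀ x, Γ(divMod D, V x), ∀ x, β x = (a x).1 • invSec D (f x) (hf x) :=
    ⟨_, fun _ => rfl⟩
  have hβv : ∀ (x : X) (z : V x), (β x).1 z = algebraMap (X.presheaf.stalk z.1) (KStalk X z.1)
      (X.presheaf.germ (V x) z.1 z.2 (b x).1) := by
    intro x z
    rw [hβ x]
    exact num_smul_invSec_apply D (a x) (b x) (f x) (hfab x) (hf x) z
  obtain ⟨m, hm⟩ : ∃ m : ∀ x, Γ(L, V x), ∀ x, m x = e.inv.app (V x) (β x) := ⟨_, fun _ => rfl⟩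
  -- chart independence
  have hind : ∀ (x x' y : X) (hy : y ∈ V x) (hy' : y ∈ V x'),
      (LocalizedModule.mk (L.presheaf.germ (V x) y hy (m x)) (regGerm ⟨y, hy⟩ (b x)) :
        MStalk L y) =
      LocalizedModule.mk (L.presheaf.germ (V x') y hy' (m x')) (regGerm ⟨y, hy'⟩ (b x')) := by
    intro x x' y hy hy'
    rw [LocalizedModule.mk_eq]
    refine ⟨1, ?_⟩
    simp only [one_smul, Submonoid.smul_def]
    obtain ⟨W, hW⟩ : ∃ W : X.Opens, W = V x ⊓ V x' := ⟨_, rfl⟩
    have hW1 : W ≤ V x := hW ▸ inf_le_left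
    have hW2 : W ≤ V x' := hW ▸ inf_le_right
    have hyW : y ∈ W := hW ▸ ⟨hy, hy'⟩
    have key : X.presheaf.map (homOfLE hW2).op (b x').1 • L.presheaf.map (homOfLE hW1).op (m x) =
        X.presheaf.map (homOfLE hW1).op (b x).1 • L.presheaf.map (homOfLE hW2).op (m x') := by
      rw [hm x, hm x', ← app_res e.inv hW1 (β x), ← app_res e.inv hW2 (β x'),
        ← Scheme.Modules.Hom.app_smul, ← Scheme.Modules.Hom.app_smul]
      congr 1
      apply Subtype.ext
      funext z
      change X.presheaf.germ W z.1 z.2 (X.presheaf.map (homOfLE hW2).op (b x').1) •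
          (β x).1 ⟨z.1, hW1 z.2⟩ =
        X.presheaf.germ W z.1 z.2 (X.presheaf.map (homOfLE hW1).op (b x).1) •
          (β x').1 ⟨z.1, hW2 z.2⟩
      rw [hβv x, hβv x', Algebra.smul_def, Algebra.smul_def, TopCat.Presheaf.germ_res_apply,
        TopCat.Presheaf.germ_res_apply]
      exact mul_comm _ _
    have h1 := congrArg (L.presheaf.germ W y hyW) key
    rw [Mero.germ_smul, Mero.germ_smul, TopCat.Presheaf.germ_res_apply,
      TopCat.Presheaf.germ_res_apply, TopCat.Presheaf.germ_res_apply,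
      TopCat.Presheaf.germ_res_apply] at h1
    exact h1
  obtain ⟨t, ht⟩ : ∃ t : ∀ y : (⊤ : X.Opens), MStalk L y.1, ∀ y, t y =
      LocalizedModule.mk (L.presheaf.germ (V y.1) y.1 (hxV y.1) (m y.1))
        (regGerm ⟨y.1, hxV y.1⟩ (b y.1)) := ⟨_, fun _ => rfl⟩
  have htp : (mLoc L).pred t := by
    intro x
    refine ⟨V x.1, hxV x.1, homOfLE le_top, m x.1, b x.1, fun y => ?_⟩
    change t ⟨y.1, trivial⟩ = _
    rw [ht]
    exact hind y.1 x.1 y.1 (hxV y.1) y.2
  refine ⟨⟨t, htp⟩, ?_⟩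
  intro y q hq
  change q • t ⟨y, trivial⟩ = 0 at hq
  rw [ht] at hq
  -- the basis
  have hbasis : IsBasisOver L (V y) (e.inv.app (V y) (invSec D (f y) (hf y))) :=
    isBasisOver_of_iso e.symm (isBasisOver_invSec D (f y) (hf y))
  have hmy : m y = (a y).1 • e.inv.app (V y) (invSec D (f y) (hf y)) := by
    rw [hm y, hβ y, Scheme.Modules.Hom.app_smul]
  induction q using LocalizedModule.induction_on with
  | h c d =>
    have h1 : (LocalizedModule.mk c d : KStalk X y) •
        (LocalizedModule.mk (L.presheaf.germ (V y) y (hxV y) (m y)) (regGerm ⟨y, hxV y⟩ (b y)) :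
          MStalk L y) =
        LocalizedModule.mk (c • L.presheaf.germ (V y) y (hxV y) (m y))
          (d * regGerm ⟨y, hxV y⟩ (b y)) := LocalizedModule.mk_smul_mk c _ d _
    rw [h1, ← LocalizedModule.zero_mk (1 : regStalk X y), LocalizedModule.mk_eq] at hq
    obtain ⟨τ, hτ⟩ := hq
    rw [one_smul, smul_zero, smul_zero] at hτ
    rw [hmy, Mero.germ_smul, Submonoid.smul_def, ← mul_smul, ← mul_smul] at hτ
    have h2 := germ_basis_inj L hbasis y (hxV y) _ hτ
    have h3 : c = 0 := by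
      have h4 : c * (X.presheaf.germ (V y) y (hxV y) (a y).1 * τ.1) = 0 := by
        rw [← h2]; ring
      have h5 : X.presheaf.germ (V y) y (hxV y) (a y).1 * τ.1 ∈
          nonZeroDivisors (X.presheaf.stalk y) :=
        mul_mem ((a y).2 ⟨y, hxV y⟩) (regStalk_le_nonZeroDivisors y τ.2)
      exact (mem_nonZeroDivisors_iff_right.mp h5) c h4
    rw [h3, LocalizedModule.zero_mk]

/-- **S5087**. -/
theorem main_5087 (X : Scheme.{u}) [IsLocallyNoetherian X] (L : X.Modules)
    (hL : PicF.IsInvertible L) :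
    (∃ D : Mero.Divisor X, Nonempty (L ≅ Mero.divMod D)) ↔ Mero.HasRegularMero L := by
  constructor
  · rintro ⟨D, ⟨e⟩⟩
    exact hasRegularMero_of_iso_divMod L D e
  · exact exists_iso_divMod_of_hasRegularMero L hL

end Groth.Agent.H7.MeroRS
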