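import Mathlib
import Groth.Agent.Lib.Helper7.MeroRS
import Groth.Agent.Lib.Lead.QC.AmpleExt

/-! helper7: functions on a schematically dense open are meromorphic functions (S5086). -/

set_option autoImplicit false
universe u
open CategoryTheory Limits AlgebraicGeometry TopologicalSpace Opposite

namespace Groth.Agent.H7.MeroExt

open Mero Groth.Agent.LD.QC Groth.Agent.H4.MeroK Groth.Agent.H3.MeroDivInj
  Groth.Agent.H4.MeroReg Groth.Agent.H7.MeroInv

attribute [-instance] Groth.Agent.LD.QC.stalkModule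

section Alg

variable {B : Type*} [CommRing B]

/-- in a Noetherian ring an ideal of zero divisors is killed by a nonzero element. -/
lemma exists_ann_of_noetherian [IsNoetherianRing B] (I : Ideal B)
    (h : ∀ b ∈ I, b ∉ nonZeroDivisors B) : ∃ z : B, z ≠ 0 ∧ ∀ c ∈ I, c * z = 0 := by
  have hd : Disjoint (I : Set B) (nonZeroDivisors B) := Set.disjoint_left.mpr h
  have h1 := Ideal.bot_lt_annihilator_of_disjoint_nonZeroDivisors hd
  obtain ⟨z, hz, hz0⟩ := SetLike.exists_of_lt h1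
  refine ⟨z, fun h0 => hz0 (by rw [h0]; exact Submodule.zero_mem _), fun c hc => ?_⟩
  have h2 := Module.mem_annihilator.mp hz ⟨c, hc⟩
  have h3 := congrArg (fun w : I => (w : B)) h2
  simp only [Submodule.coe_smul, smul_eq_mul, Submodule.coe_zero] at h3
  rw [mul_comm]
  exact h3

/-- in a reduced ring with finitely many minimal primes an ideal of zero divisors is killed by a
nonzero element. -/
lemma exists_ann_of_reduced [IsReduced B] (hfin : (minimalPrimes B).Finite) (I : Ideal B)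
    (h : ∀ b ∈ I, b ∉ nonZeroDivisors B) : ∃ z : B, z ≠ 0 ∧ ∀ c ∈ I, c * z = 0 := by
  classical
  have hnil : sInf (minimalPrimes B) = ⊥ := by
    have h1 : sInf (minimalPrimes B) = (⊥ : Ideal B).radical := Ideal.sInf_minimalPrimes
    rw [h1]
    exact nilradical_eq_zero B
  have hprime : ∀ p ∈ minimalPrimes B, p.IsPrime := fun p hp => hp.1.1
  -- every zero divisor lies in a minimal prime
  have hsub : (I : Set B) ⊆ ⋃ p ∈ (hfin.toFinset : Set (Ideal B)), (p : Set B) := by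
    intro b hb
    have hb' := h b hb
    rw [mem_nonZeroDivisors_iff_right] at hb'
    push_neg at hb'
    obtain ⟨t, ht, ht0⟩ := hb'
    have h2 : ∃ p ∈ minimalPrimes B, t ∉ p := by
      by_contra hcon
      push_neg at hcon
      apply ht0
      have h3 : t ∈ sInf (minimalPrimes B) := Ideal.mem_sInf.mpr fun {p} hp => hcon p hp
      rw [hnil] at h3
      exact h3
    obtain ⟨p, hp, htp⟩ := h2
    refine Set.mem_biUnion (show p ∈ (hfin.toFinset : Set (Ideal B)) from ?_) ?_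
    · exact Finset.mem_coe.mpr (hfin.mem_toFinset.mpr hp)
    · have h4 : t * b ∈ p := by rw [ht]; exact p.zero_mem
      exact ((hprime p hp).mem_or_mem h4).resolve_left htp
  obtain ⟨p, hp, hIp⟩ := (Ideal.subset_union_prime (s := hfin.toFinset) (f := fun p => p) ⊥ ⊥
    (fun q hq _ _ => hprime q (hfin.mem_toFinset.mp hq))).mp hsub
  have hpmin : p ∈ minimalPrimes B := hfin.mem_toFinset.mp hp
  haveI := hprime p hpmin
  -- an element of the other minimal primes outside `p`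
  have hJ : ¬ (hfin.toFinset.erase p).inf (fun q => q) ≤ p := by
    intro hle
    obtain ⟨q, hq, hqp⟩ := (Ideal.IsPrime.inf_le' (hprime p hpmin)).mp hle
    have hqmin : q ∈ minimalPrimes B := hfin.mem_toFinset.mp (Finset.mem_of_mem_erase hq)
    have hqne : q ≠ p := Finset.ne_of_mem_erase hq
    apply hqne
    exact le_antisymm hqp (hpmin.2 ⟨hprime q hqmin, bot_le⟩ hqp)
  obtain ⟨z, hzJ, hzp⟩ := SetLike.not_le_iff_exists.mp hJ
  refine ⟨z, fun h0 => hzp (h0 ▸ p.zero_mem), fun c hc => ?_⟩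
  have hcz : c * z ∈ sInf (minimalPrimes B) := by
    rw [Ideal.mem_sInf]
    intro q hq
    by_cases hqp : q = p
    · rw [hqp]; exact p.mul_mem_right _ (hIp hc)
    · have hq' : q ∈ hfin.toFinset.erase p :=
        Finset.mem_erase.mpr ⟨hqp, hfin.mem_toFinset.mpr hq⟩
      have hzq : z ∈ q := (Finset.inf_le hq' : (hfin.toFinset.erase p).inf (fun q => q) ≤ q) hzJ
      exact q.mul_mem_left _ hzq
  rw [hnil] at hcz
  exact hcz

end Alg

variable {X : Scheme.{u}}

/-- the ideal of functions on the affine open `W` vanishing at the points outside `V`. -/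
noncomputable def outIdeal {W : X.Opens} (hW : IsAffineOpen W) (V : X.Opens) : Ideal Γ(X, W) :=
  ⨅ y : {y : W // y.1 ∉ V}, (hW.primeIdealOf y.1).asIdeal

lemma mem_outIdeal_iff {W : X.Opens} (hW : IsAffineOpen W) (V : X.Opens) (b : Γ(X, W)) :
    b ∈ outIdeal hW V ↔ ∀ (y : X) (hy : y ∈ W), y ∉ V → y ∉ X.basicOpen b := by
  unfold outIdeal
  rw [Ideal.mem_iInf]
  constructor
  · intro h y hy hyV
    exact (primeIdealOf_mem_iff hW y hy b).mp (h ⟨⟨y, hy⟩, hyV⟩)
  · rintro h ⟨⟨y, hy⟩, hyV⟩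
    exact (primeIdealOf_mem_iff hW y hy b).mpr (h y hy hyV)

lemma basicOpen_le_of_mem_outIdeal {W : X.Opens} (hW : IsAffineOpen W) (V : X.Opens)
    (b : Γ(X, W)) (hb : b ∈ outIdeal hW V) : X.basicOpen b ≤ V := by
  intro y hy
  by_contra hyV
  exact (mem_outIdeal_iff hW V b).mp hb y (X.basicOpen_le b hy) hyV hy

lemma exists_mem_outIdeal {W : X.Opens} (hW : IsAffineOpen W) (V : X.Opens) (y : X)
    (hyW : y ∈ W) (hyV : y ∈ V) : ∃ b ∈ outIdeal hW V, y ∈ X.basicOpen b := by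
  obtain ⟨b, hbV, hyb⟩ := hW.exists_basicOpen_le (V := V) ⟨y, hyV⟩ hyW
  refine ⟨b, (mem_outIdeal_iff hW V b).mpr fun y' _ hy'V hy'b => hy'V (hbV hy'b), hyb⟩

/-- a function with vanishing germs is zero. -/
lemma eq_zero_of_germ_eq_zero {N : X.Opens} (φ : Γ(X, N))
    (h : ∀ (y : X) (hy : y ∈ N), X.presheaf.germ N y hy φ = 0) : φ = 0 := by
  apply TopCat.Presheaf.section_ext X.sheaf
  intro y hy
  exact (h y hy).trans (map_zero (X.presheaf.germ N y hy).hom).symm

/-- **local form**: on a small affine open, a function on a schematically dense open is a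
fraction with regular denominator. -/
lemma exists_local_fraction (U V : X.Opens)
    (hV : ∀ W : X.Opens, W ≤ U →
      Function.Injective ⇑(X.presheaf.map (homOfLE (inf_le_left : W ⊓ V ≤ W)).op))
    (g : Γ(X, V)) (W : X.Opens) (hW : IsAffineOpen W) (hWU : W ≤ U)
    (hB : ∀ I : Ideal Γ(X, W), (∀ b ∈ I, b ∉ nonZeroDivisors Γ(X, W)) →
      ∃ z : Γ(X, W), z ≠ 0 ∧ ∀ c ∈ I, c * z = 0) :
    ∃ (a : Γ(X, W)) (b : regSub X W), ∀ (y : X) (hyW : y ∈ W) (hyV : y ∈ V),
      X.presheaf.germ V y hyV g * X.presheaf.germ W y hyW b.1 = X.presheaf.germ W y hyW a := by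
  -- a nonzerodivisor vanishing outside `V`
  obtain ⟨b, hbI, hbnz⟩ : ∃ b ∈ outIdeal hW V, b ∈ nonZeroDivisors Γ(X, W) := by
    by_contra hcon
    push Not at hcon
    obtain ⟨z, hz0, hz⟩ := hB (outIdeal hW V) hcon
    apply hz0
    apply hV W hWU
    rw [map_zero]
    apply eq_zero_of_germ_eq_zero
    intro y hy
    rw [TopCat.Presheaf.germ_res_apply]
    obtain ⟨c, hcI, hyc⟩ := exists_mem_outIdeal hW V y hy.1 hy.2
    have h1 := congrArg (X.presheaf.germ W y hy.1) (hz c hcI)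
    rw [map_mul, map_zero] at h1
    have h2 : IsUnit (X.presheaf.germ W y hy.1 c) := (X.mem_basicOpen c y hy.1).mp hyc
    exact (h2.mul_right_eq_zero).mp h1
  have hbV : X.basicOpen b ≤ V := basicOpen_le_of_mem_outIdeal hW V b hbI
  have hbW : X.basicOpen b ≤ W := X.basicOpen_le b
  -- write `g` as a fraction on `D(b)`
  letI : Algebra Γ(X, W) Γ(X, X.basicOpen b) :=
    (X.presheaf.map (homOfLE hbW).op).hom.toAlgebra
  haveI : IsLocalization.Away b Γ(X, X.basicOpen b) := hW.isLocalization_basicOpen b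
  obtain ⟨⟨a, s⟩, has⟩ := IsLocalization.surj (Submonoid.powers b)
    (X.presheaf.map (homOfLE hbV).op g)
  obtain ⟨n, hn⟩ := s.2
  have hsnz : s.1 ∈ nonZeroDivisors Γ(X, W) := by
    rw [← hn]; exact pow_mem hbnz n
  have hsreg : s.1 ∈ regSub X W := mem_regSub_of_mem_nonZeroDivisors hW s.1 hsnz
  have hbreg : b ∈ regSub X W := mem_regSub_of_mem_nonZeroDivisors hW b hbnz
  -- the identity on `D(b)`
  have hD : ∀ (y : X) (hyb : y ∈ X.basicOpen b),
      X.presheaf.germ V y (hbV hyb) g * X.presheaf.germ W y (hbW hyb) s.1 =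
        X.presheaf.germ W y (hbW hyb) a := by
    intro y hyb
    have h1 := congrArg (X.presheaf.germ (X.basicOpen b) y hyb) has
    rw [map_mul] at h1
    change X.presheaf.germ (X.basicOpen b) y hyb (X.presheaf.map (homOfLE hbV).op g) *
      X.presheaf.germ (X.basicOpen b) y hyb (X.presheaf.map (homOfLE hbW).op s.1) =
      X.presheaf.germ (X.basicOpen b) y hyb (X.presheaf.map (homOfLE hbW).op a) at h1
    rw [TopCat.Presheaf.germ_res_apply, TopCat.Presheaf.germ_res_apply,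
      TopCat.Presheaf.germ_res_apply] at h1
    exact h1
  refine ⟨a, ⟨s.1, hsreg⟩, ?_⟩
  intro y hyW hyV
  -- an affine neighbourhood of `y` inside `W ⊓ V`
  obtain ⟨N, hNaff, hyN, hNsub⟩ :=
    exists_isAffineOpen_mem_and_subset (x := y) (U := W ⊓ V) ⟨hyW, hyV⟩
  have hNW : N ≤ W := fun z hz => (hNsub hz).1
  have hNV : N ≤ V := fun z hz => (hNsub hz).2
  obtain ⟨φ, hφ⟩ : ∃ φ : Γ(X, N), φ = X.presheaf.map (homOfLE hNV).op g *
      X.presheaf.map (homOfLE hNW).op s.1 - X.presheaf.map (homOfLE hNW).op a := ⟨_, rfl⟩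
  obtain ⟨β, hβ⟩ : ∃ β : Γ(X, N), β = X.presheaf.map (homOfLE hNW).op b := ⟨_, rfl⟩
  have hφgerm : ∀ (z : X) (hz : z ∈ N), X.presheaf.germ N z hz φ =
      X.presheaf.germ V z (hNV hz) g * X.presheaf.germ W z (hNW hz) s.1 -
        X.presheaf.germ W z (hNW hz) a := by
    intro z hz
    rw [hφ, map_sub, map_mul, TopCat.Presheaf.germ_res_apply, TopCat.Presheaf.germ_res_apply,
      TopCat.Presheaf.germ_res_apply]
  have hβopen : X.basicOpen β ≤ X.basicOpen b := by
    rw [hβ, Scheme.basicOpen_res]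
    exact inf_le_right
  have hres : X.presheaf.map (homOfLE (X.basicOpen_le β)).op φ = 0 := by
    apply eq_zero_of_germ_eq_zero
    intro z hz
    rw [TopCat.Presheaf.germ_res_apply, hφgerm z (X.basicOpen_le β hz), hD z (hβopen hz),
      sub_self]
  obtain ⟨k, hk⟩ := exists_pow_mul_eq_zero_of_res_basicOpen_eq_zero_of_isAffineOpen X hNaff φ β hres
  have h1 := congrArg (X.presheaf.germ N y hyN) hk
  rw [map_mul, map_pow, map_zero] at h1
  have hβy : X.presheaf.germ N y hyN β = X.presheaf.germ W y hyW b := by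
    rw [hβ, TopCat.Presheaf.germ_res_apply]
  have h2 : X.presheaf.germ W y hyW b ^ k ∈ nonZeroDivisors (X.presheaf.stalk y) :=
    pow_mem (hbreg ⟨y, hyW⟩) k
  rw [hβy] at h1
  have h3 := (mem_nonZeroDivisors_iff.mp h2).1 _ h1
  rw [hφgerm y hyN, sub_eq_zero] at h3
  exact h3

/-- **S5086**. -/
theorem main_5086 (X : Scheme.{u})
    (hX : IsLocallyNoetherian X ∨ (IsReduced X ∧ ∀ x : ↥X, ∃ W : X.Opens, x ∈ W ∧
      {Z : Set ↥X | Z ∈ irreducibleComponents ↥X ∧ (Z ∩ (W : Set ↥X)).Nonempty}.Finite))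
    (U V : X.Opens) (hVU : V ≤ U)
    (hV : ∀ W : X.Opens, W ≤ U →
      Function.Injective ⇑(X.presheaf.map (homOfLE (inf_le_left : W ⊓ V ≤ W)).op))
    (g : Γ(X, V)) :
    ∃ s : Γ(Mero.kmod X, U), (Mero.kmod X).presheaf.map (homOfLE hVU).op s = Mero.toK X V g := by
  -- local fractions
  have hloc : ∀ x : U, ∃ (W : X.Opens) (_ : x.1 ∈ W) (_ : W ≤ U) (a : Γ(X, W)) (b : regSub X W),
      ∀ (y : X) (hyW : y ∈ W) (hyV : y ∈ V),
        X.presheaf.germ V y hyV g * X.presheaf.germ W y hyW b.1 = X.presheaf.germ W y hyW a := by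
    intro x
    obtain ⟨W, hWaff, hxW, hWU'⟩ := exists_isAffineOpen_mem_and_subset (x := x.1) (U := U) x.2
    have hWU : W ≤ U := hWU'
    rcases hX with hN | ⟨hR, hfin⟩
    · haveI : IsNoetherianRing Γ(X, W) := IsLocallyNoetherian.component_noetherian ⟨W, hWaff⟩
      obtain ⟨a, b, h⟩ := exists_local_fraction U V hV g W hWaff hWU
        (fun I hI => exists_ann_of_noetherian I hI)
      exact ⟨W, hxW, hWU, a, b, h⟩
    · haveI : IsReduced Γ(X, W) := inferInstance
      have hmin : (minimalPrimes Γ(X, W)).Finite :=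
        Groth.Agent.H8.FlatUnram.finite_minimalPrimes_of_isAffineOpen hWaff le_rfl
          (Groth.Agent.H7.MeroRS.finite_irreducibleComponents_of_locallyFinite X hfin W
            hWaff.isCompact)
      obtain ⟨a, b, h⟩ := exists_local_fraction U V hV g W hWaff hWU
        (fun I hI => exists_ann_of_reduced hmin I hI)
      exact ⟨W, hxW, hWU, a, b, h⟩
  choose W hxW hWU a b hab using hloc
  obtain ⟨sf, hsf⟩ : ∃ sf : ∀ x : U, Γ(kmod X, W x),
      ∀ x, sf x = toK X (W x) (a x) * invK (W x) (b x) := ⟨_, fun _ => rfl⟩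
  have hsfv : ∀ (x : U) (y : X) (hy : y ∈ W x), (sf x).1 ⟨y, hy⟩ =
      LocalizedModule.mk (X.presheaf.germ (W x) y hy (a x)) (regGerm ⟨y, hy⟩ (b x)) := by
    intro x y hy
    rw [hsf x]
    exact toK_mul_invK_apply (a x) (b x) ⟨y, hy⟩
  -- compatibility
  have hcross : ∀ (x x' : U) (y : X) (hy : y ∈ W x) (hy' : y ∈ W x'),
      X.presheaf.germ (W x') y hy' (b x').1 * X.presheaf.germ (W x) y hy (a x) =
        X.presheaf.germ (W x) y hy (b x).1 * X.presheaf.germ (W x') y hy' (a x') := by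
    intro x x' y hy hy'
    obtain ⟨N, hN⟩ : ∃ N : X.Opens, N = W x ⊓ W x' := ⟨_, rfl⟩
    have hN1 : N ≤ W x := hN ▸ inf_le_left
    have hN2 : N ≤ W x' := hN ▸ inf_le_right
    have hNU : N ≤ U := hN1.trans (hWU x)
    have hyN : y ∈ N := hN ▸ ⟨hy, hy'⟩
    obtain ⟨φ, hφ⟩ : ∃ φ : Γ(X, N), φ =
        X.presheaf.map (homOfLE hN2).op (b x').1 * X.presheaf.map (homOfLE hN1).op (a x) -
        X.presheaf.map (homOfLE hN1).op (b x).1 * X.presheaf.map (homOfLE hN2).op (a x') :=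
      ⟨_, rfl⟩
    have hφgerm : ∀ (z : X) (hz : z ∈ N), X.presheaf.germ N z hz φ =
        X.presheaf.germ (W x') z (hN2 hz) (b x').1 * X.presheaf.germ (W x) z (hN1 hz) (a x) -
        X.presheaf.germ (W x) z (hN1 hz) (b x).1 * X.presheaf.germ (W x') z (hN2 hz) (a x') := by
      intro z hz
      rw [hφ, map_sub, map_mul, map_mul, TopCat.Presheaf.germ_res_apply,
        TopCat.Presheaf.germ_res_apply, TopCat.Presheaf.germ_res_apply,
        TopCat.Presheaf.germ_res_apply]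
    have hφ0 : φ = 0 := by
      apply hV N hNU
      rw [map_zero]
      apply eq_zero_of_germ_eq_zero
      intro z hz
      rw [TopCat.Presheaf.germ_res_apply, hφgerm z hz.1,
        ← hab x z (hN1 hz.1) hz.2, ← hab x' z (hN2 hz.1) hz.2]
      ring
    have h1 := hφgerm y hyN
    rw [hφ0, map_zero] at h1
    exact (sub_eq_zero.mp h1.symm)
  have compat : ∀ x x' : U,
      (kmod X).presheaf.map (homOfLE (inf_le_left : W x ⊓ W x' ≤ W x)).op (sf x) =
        (kmod X).presheaf.map (homOfLE (inf_le_right : W x ⊓ W x' ≤ W x')).op (sf x') := by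
    intro x x'
    apply Subtype.ext
    funext y
    change (sf x).1 ⟨y.1, y.2.1⟩ = (sf x').1 ⟨y.1, y.2.2⟩
    rw [hsfv x y.1 y.2.1, hsfv x' y.1 y.2.2, LocalizedModule.mk_eq]
    refine ⟨1, ?_⟩
    simp only [one_smul, Submonoid.smul_def, smul_eq_mul]
    exact hcross x x' y.1 y.2.1 y.2.2
  obtain ⟨σ, hσ⟩ := exists_glue_section (kmod X) W U hWU
    (fun y hy => (Opens.mem_iSup).mpr ⟨⟨y, hy⟩, hxW ⟨y, hy⟩⟩) sf compat
  refine ⟨σ, ?_⟩
  apply Subtype.ext
  funext y
  have h1 := congrArg (fun t : Γ(kmod X, W ⟨y.1, hVU y.2⟩) => t.1 ⟨y.1, hxW ⟨y.1, hVU y.2⟩⟩)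
    (hσ ⟨y.1, hVU y.2⟩)
  change σ.1 ⟨y.1, hVU y.2⟩ = (toK X V g).1 y
  refine (h1 : σ.1 ⟨y.1, _⟩ = _).trans ?_
  rw [hsfv, toK_apply, LocalizedModule.mk_eq]
  refine ⟨1, ?_⟩
  simp only [one_smul, Submonoid.smul_def, smul_eq_mul, OneMemClass.coe_one, one_mul]
  rw [← hab ⟨y.1, hVU y.2⟩ y.1 (hxW ⟨y.1, hVU y.2⟩) y.2]
  exact mul_comm _ _

end Groth.Agent.H7.MeroExt
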