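import Mathlib
import Groth.Agent.Lib.Helper7.MeroExt
import Groth.Agent.Lib.Helper3.MeroPull
import Groth.Agent.Lib.Helper5.FinSec.A
import Groth.Agent.Lib.Lead.QC.RestrictOpen
import Groth.Agent.H4.MeroReg

/-! helper7: locally Noetherian schemes whose associated points lie in an affine open: every
invertible module has a regular meromorphic section (S5088). -/

set_option autoImplicit false
universe u
open CategoryTheory Limits AlgebraicGeometry TopologicalSpace Opposite

namespace Groth.Agent.H7.MeroAss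

open Mero Groth.Agent.LD.QC Groth.Agent.H4.MeroK Groth.Agent.H3.MeroDivInj
  Groth.Agent.H4.MeroReg Groth.Agent.H7.MeroInv Groth.Agent.H3.MeroPull Groth.Agent.H4.MeroL

attribute [-instance] Groth.Agent.LD.QC.stalkModule

variable {X : Scheme.{u}}

/-- the point `x` is an associated point of `O_X`. -/
def IsAss (X : Scheme.{u}) (x : X) : Prop :=
  IsAssociatedPrime (IsLocalRing.maximalIdeal (X.presheaf.stalk x)) (X.presheaf.stalk x)

/-- the point of an affine open attached to an associated prime of its ring is an associated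
point. -/
lemma isAss_fromSpec {V : X.Opens} (hV : IsAffineOpen V) (y : PrimeSpectrum Γ(X, V))
    (hy : y.asIdeal ∈ associatedPrimes Γ(X, V) Γ(X, V)) : IsAss X (hV.fromSpec y) := by
  letI alg' : Algebra Γ(X, V) (X.presheaf.stalk (hV.fromSpec y)) :=
    TopCat.Presheaf.algebra_section_stalk X.presheaf ⟨hV.fromSpec y, fromSpec_mem hV y⟩
  haveI hloc' : IsLocalization.AtPrime (X.presheaf.stalk (hV.fromSpec y)) y.asIdeal :=
    hV.isLocalization_stalk' y (fromSpec_mem hV y)
  haveI : IsLocalizedModule y.asIdeal.primeCompl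
      (Algebra.linearMap Γ(X, V) (X.presheaf.stalk (hV.fromSpec y))) :=
    (isLocalizedModule_iff_isLocalization' _ _).2 hloc'
  apply Module.associatedPrimes.mem_associatedPrimes_of_comap_mem_associatedPrimes_of_isLocalizedModule
    y.asIdeal.primeCompl (Algebra.linearMap Γ(X, V) (X.presheaf.stalk (hV.fromSpec y)))
  have e : Ideal.comap (algebraMap Γ(X, V) (X.presheaf.stalk (hV.fromSpec y)))
      (IsLocalRing.maximalIdeal (X.presheaf.stalk (hV.fromSpec y))) = y.asIdeal :=
    IsLocalization.AtPrime.under_maximalIdeal _ _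
  rw [e]
  exact hy

/-- Noetherian case: a nonzero germ stays nonzero at an associated generization. -/
theorem exists_isAss_of_germ_ne_zero [IsLocallyNoetherian X] {W : X.Opens}
    (t : Γ(X, W)) (x : X) (hx : x ∈ W) (h : X.presheaf.germ W x hx t ≠ 0) :
    ∃ (x' : X) (hx' : x' ∈ W), IsAss X x' ∧ X.presheaf.germ W x' hx' t ≠ 0 := by
  obtain ⟨V, hV, hxV, hVW⟩ := exists_isAffineOpen_mem_and_subset (x := x) (U := W) hx
  have hVW' : V ≤ W := hVW
  haveI : IsNoetherianRing Γ(X, V) := IsLocallyNoetherian.component_noetherian ⟨V, hV⟩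
  obtain ⟨t', ht'⟩ : ∃ t' : Γ(X, V), t' = X.presheaf.map (homOfLE hVW').op t := ⟨_, rfl⟩
  have ht'0 : t' ≠ 0 := by
    intro h0
    apply h
    rw [← TopCat.Presheaf.germ_res_apply X.presheaf (homOfLE hVW') x hxV t, ← ht', h0, map_zero]
  obtain ⟨P, hPass, hPle⟩ := exists_le_isAssociatedPrime_of_isNoetherianRing Γ(X, V) t' ht'0
  haveI := hPass.1
  obtain ⟨y, hy⟩ : ∃ y : PrimeSpectrum Γ(X, V), y = ⟨P, hPass.1⟩ := ⟨_, rfl⟩
  have hyP : y.asIdeal = P := by rw [hy]
  refine ⟨hV.fromSpec y, hVW' (fromSpec_mem hV y), isAss_fromSpec hV y (by rw [hyP]; exact hPass),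
    ?_⟩
  letI alg' : Algebra Γ(X, V) (X.presheaf.stalk (hV.fromSpec y)) :=
    TopCat.Presheaf.algebra_section_stalk X.presheaf ⟨hV.fromSpec y, fromSpec_mem hV y⟩
  haveI hloc' : IsLocalization.AtPrime (X.presheaf.stalk (hV.fromSpec y)) y.asIdeal :=
    hV.isLocalization_stalk' y (fromSpec_mem hV y)
  intro h0
  rw [← TopCat.Presheaf.germ_res_apply X.presheaf (homOfLE hVW') _ (fromSpec_mem hV y) t,
    ← ht'] at h0
  have h1 : algebraMap Γ(X, V) (X.presheaf.stalk (hV.fromSpec y)) t' = 0 := h0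
  obtain ⟨s, hs⟩ := (IsLocalization.map_eq_zero_iff y.asIdeal.primeCompl _ t').mp h1
  have hsP : (s : Γ(X, V)) ∈ P := by
    apply hPle
    rw [Submodule.mem_colon_singleton]
    exact hs
  exact s.2 (hyP ▸ hsP)

/-- the prime of an associated point in an affine open is an associated prime of the ring. -/
lemma primeIdealOf_mem_associatedPrimes [IsLocallyNoetherian X] {V : X.Opens} (hV : IsAffineOpen V)
    (x : X) (hxV : x ∈ V) (hx : IsAss X x) :
    (hV.primeIdealOf ⟨x, hxV⟩).asIdeal ∈ associatedPrimes Γ(X, V) Γ(X, V) := by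
  haveI : IsNoetherianRing Γ(X, V) := IsLocallyNoetherian.component_noetherian ⟨V, hV⟩
  letI alg : Algebra Γ(X, V) (X.presheaf.stalk x) :=
    TopCat.Presheaf.algebra_section_stalk X.presheaf ⟨x, hxV⟩
  haveI hloc : IsLocalization.AtPrime (X.presheaf.stalk x) (hV.primeIdealOf ⟨x, hxV⟩).asIdeal :=
    hV.isLocalization_stalk ⟨x, hxV⟩
  haveI : IsLocalizedModule (hV.primeIdealOf ⟨x, hxV⟩).asIdeal.primeCompl
      (Algebra.linearMap Γ(X, V) (X.presheaf.stalk x)) :=
    (isLocalizedModule_iff_isLocalization' _ _).2 hloc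
  have hpass : (IsLocalRing.maximalIdeal (X.presheaf.stalk x)).comap
      (algebraMap Γ(X, V) (X.presheaf.stalk x)) ∈ associatedPrimes Γ(X, V) Γ(X, V) :=
    Module.associatedPrimes.comap_mem_associatedPrimes_of_mem_associatedPrimes_of_isLocalizedModule_of_fg
      (hV.primeIdealOf ⟨x, hxV⟩).asIdeal.primeCompl
      (Algebra.linearMap Γ(X, V) (X.presheaf.stalk x)) _ hx
      ((isNoetherianRing_iff_ideal_fg _).1 inferInstance _)
  have e : Ideal.comap (algebraMap Γ(X, V) (X.presheaf.stalk x))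
      (IsLocalRing.maximalIdeal (X.presheaf.stalk x)) = (hV.primeIdealOf ⟨x, hxV⟩).asIdeal :=
    IsLocalization.AtPrime.under_maximalIdeal _ _
  rw [← e]
  exact hpass

/-- an affine open of a locally Noetherian scheme contains finitely many associated points. -/
lemma exists_finset_isAss [IsLocallyNoetherian X] {W₀ : X.Opens} (hW₀ : IsAffineOpen W₀) :
    ∃ Z : Finset X, ∀ x ∈ W₀, IsAss X x → x ∈ Z := by
  classical
  haveI : IsNoetherianRing Γ(X, W₀) := IsLocallyNoetherian.component_noetherian ⟨W₀, hW₀⟩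
  have hfin : (associatedPrimes Γ(X, W₀) Γ(X, W₀)).Finite := associatedPrimes.finite _ _
  let f : X → Ideal Γ(X, W₀) := fun x =>
    if hx : x ∈ W₀ then (hW₀.primeIdealOf ⟨x, hx⟩).asIdeal else ⊥
  have hS : {x : X | x ∈ W₀ ∧ IsAss X x}.Finite := by
    refine Set.Finite.of_injOn (f := f) ?_ ?_ hfin
    · rintro x ⟨hxW, hx⟩
      change f x ∈ _
      simp only [f, dif_pos hxW]
      exact primeIdealOf_mem_associatedPrimes hW₀ x hxW hx
    · rintro x ⟨hxW, -⟩ x' ⟨hxW', -⟩ hxx'
      simp only [f, dif_pos hxW, dif_pos hxW'] at hxx'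
      have h1 : hW₀.primeIdealOf ⟨x, hxW⟩ = hW₀.primeIdealOf ⟨x', hxW'⟩ := PrimeSpectrum.ext hxx'
      have h2 := hW₀.fromSpec_primeIdealOf ⟨x, hxW⟩
      have h3 := hW₀.fromSpec_primeIdealOf ⟨x', hxW'⟩
      rw [h1] at h2
      exact h2.symm.trans h3
  exact ⟨hS.toFinset, fun x hxW hx => hS.mem_toFinset.mpr ⟨hxW, hx⟩⟩

/-- over an affine open `W₀`, an invertible module has a section generating it at finitely many
given points. -/
lemma exists_gen_section (L : X.Modules) (hL : PicF.IsInvertible L) {W₀ : X.Opens}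
    (hW₀ : IsAffineOpen W₀) (Z : Finset X) :
    ∃ m : Γ(L, W₀), ∀ z ∈ Z, z ∈ W₀ → ∃ (U : X.Opens) (hU : U ≤ W₀), z ∈ U ∧
      IsBasisOver L U (L.presheaf.map (homOfLE hU).op m) := by
  classical
  haveI : IsAffine ↑W₀ := hW₀
  obtain ⟨t, ht⟩ := Groth.Agent.H5.FinSec.exists_section_of_finite (L.restrict W₀.ι)
    (isInvertible_restrict W₀.ι hL) (Z.subtype (· ∈ W₀))
  have himg : W₀.ι ''ᵁ (⊤ : (W₀ : Scheme.{u}).Opens) = W₀ := Scheme.Opens.ι_image_top W₀
  obtain ⟨m', hm'⟩ : ∃ m' : Γ(L, W₀.ι ''ᵁ (⊤ : (W₀ : Scheme.{u}).Opens)),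
    m' = SecTwist.val t ⊤ := ⟨_, rfl⟩
  refine ⟨L.presheaf.map (homOfLE himg.ge).op m', fun z hzZ hzW => ?_⟩
  have hz := ht ⟨z, hzW⟩ (Finset.mem_subtype.mpr hzZ)
  rw [mem_genLocus_iff] at hz
  obtain ⟨V, hzV, hV⟩ := hz
  obtain ⟨e, he⟩ : ∃ e : Γ(L, W₀.ι ''ᵁ V), e = SecTwist.val t V := ⟨_, rfl⟩
  have hV' : IsBasisOver L (W₀.ι ''ᵁ V) e := by
    rw [← isBasisOver_restrict_iff, he]
    exact hV
  have hU : W₀.ι ''ᵁ V ≤ W₀ := by
    rintro _ ⟨y, -, rfl⟩
    exact y.2
  refine ⟨W₀.ι ''ᵁ V, hU, ⟨⟨z, hzW⟩, hzV, rfl⟩, ?_⟩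
  have h1 : L.presheaf.map (homOfLE hU).op (L.presheaf.map (homOfLE himg.ge).op m') = e := by
    rw [res_res, he, hm']
    exact SecTwist.map_val t (homOfLE (le_top : V ≤ ⊤))
  rw [h1]
  exact hV'

/-- **schematic density**: if all associated points of `N` lie in `V`, restriction of functions
from `N` to `N ⊓ V` is injective. -/
lemma res_injective_of_isAss_mem [IsLocallyNoetherian X] (N V : X.Opens)
    (h : ∀ y ∈ N, IsAss X y → y ∈ V) :
    Function.Injective ⇑(X.presheaf.map (homOfLE (inf_le_left : N ⊓ V ≤ N)).op) := by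
  rw [injective_iff_map_eq_zero]
  intro t ht
  apply Groth.Agent.H7.MeroExt.eq_zero_of_germ_eq_zero
  intro y hy
  by_contra hne
  obtain ⟨x', hx', hass, hx'ne⟩ := exists_isAss_of_germ_ne_zero t y hy hne
  apply hx'ne
  have hx'V : x' ∈ N ⊓ V := ⟨hx', h x' hx' hass⟩
  rw [← TopCat.Presheaf.germ_res_apply X.presheaf (homOfLE (inf_le_left : N ⊓ V ≤ N)) x' hx'V t,
    ht, map_zero]

/-- a section of an invertible module whose germs at the associated points vanish has all germs
zero. -/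
lemma germ_eq_zero_of_isAss [IsLocallyNoetherian X] (L : X.Modules) (hL : PicF.IsInvertible L)
    {N : X.Opens} (n : Γ(L, N))
    (h : ∀ (y : X) (hy : y ∈ N), IsAss X y → L.presheaf.germ N y hy n = 0)
    (y : X) (hy : y ∈ N) : L.presheaf.germ N y hy n = 0 := by
  obtain ⟨U, e, -, hyU, hUN, he⟩ := exists_affine_basis L hL y N hy
  obtain ⟨c, hc⟩ := (he U le_rfl).2 (L.presheaf.map (homOfLE hUN).op n)
  have hc' : c • e = L.presheaf.map (homOfLE hUN).op n := by
    rw [← hc, res_self]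
  have hgerm : ∀ (z : X) (hz : z ∈ U), L.presheaf.germ N z (hUN hz) n =
      X.presheaf.germ U z hz c • L.presheaf.germ U z hz e := by
    intro z hz
    rw [← TopCat.Presheaf.germ_res_apply L.presheaf (homOfLE hUN) z hz n, ← hc']
    exact Mero.germ_smul L U z hz c e
  by_contra hne
  have hcy : X.presheaf.germ U y hyU c ≠ 0 := by
    intro h0
    apply hne
    rw [hgerm y hyU, h0, zero_smul]
  obtain ⟨x', hx', hass, hx'ne⟩ := exists_isAss_of_germ_ne_zero c y hyU hcy
  apply hx'ne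
  apply germ_basis_inj L he x' hx'
  rw [← hgerm x' hx']
  exact h x' (hUN hx') hass

set_option maxHeartbeats 800000 in
/-- local charts: near every point there are a section `m` of `L` and a regular function `b` with
`m = b • m₀` on the affine open `W₀` containing the associated points, and `m` regular. -/
theorem exists_chart [IsLocallyNoetherian X] (L : X.Modules) (hL : PicF.IsInvertible L)
    {W₀ : X.Opens} (hass : ∀ x, IsAss X x → x ∈ W₀) (m₀ : Γ(L, W₀))
    (hm₀ : ∀ z, IsAss X z → ∃ (U : X.Opens) (hU : U ≤ W₀), z ∈ U ∧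
      IsBasisOver L U (L.presheaf.map (homOfLE hU).op m₀))
    (x : X) :
    ∃ (U : X.Opens) (_ : x ∈ U) (m : Γ(L, U)) (b : regSub X U),
      (∀ (y : X) (hyU : y ∈ U) (hyW : y ∈ W₀),
        L.presheaf.germ U y hyU m =
          X.presheaf.germ U y hyU b.1 • L.presheaf.germ W₀ y hyW m₀) ∧
      (∀ (z : X) (hz : z ∈ U) (r : X.presheaf.stalk z),
        r • L.presheaf.germ U z hz m = 0 → r = 0) := by
  obtain ⟨U, e, hUaff, hxU, -, he⟩ := exists_affine_basis L hL x ⊤ trivial
  haveI : IsNoetherianRing Γ(X, U) := IsLocallyNoetherian.component_noetherian ⟨U, hUaff⟩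
  obtain ⟨V, hVdef⟩ : ∃ V : X.Opens, V = U ⊓ W₀ := ⟨_, rfl⟩
  have hVU : V ≤ U := hVdef ▸ inf_le_left
  have hVW : V ≤ W₀ := hVdef ▸ inf_le_right
  obtain ⟨g, hg⟩ := (he V hVU).2 (L.presheaf.map (homOfLE hVW).op m₀)
  have hV : ∀ W : X.Opens, W ≤ U →
      Function.Injective ⇑(X.presheaf.map (homOfLE (inf_le_left : W ⊓ V ≤ W)).op) :=
    fun W hWU => res_injective_of_isAss_mem W V
      (fun y hy hya => hVdef ▸ ⟨hWU hy, hass y hya⟩)
  obtain ⟨a, b, hab⟩ := Groth.Agent.H7.MeroExt.exists_local_fraction U V hV g U hUaff le_rfl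
    (fun I hI => Groth.Agent.H7.MeroExt.exists_ann_of_noetherian I hI)
  -- germ of `m₀` in terms of `g` and `e`
  have hgm : ∀ (y : X) (hyV : y ∈ V), L.presheaf.germ W₀ y (hVW hyV) m₀ =
      X.presheaf.germ V y hyV g • L.presheaf.germ U y (hVU hyV) e := by
    intro y hyV
    rw [← TopCat.Presheaf.germ_res_apply L.presheaf (homOfLE hVW) y hyV m₀, ← hg]
    have h1 := Mero.germ_smul L V y hyV g (L.presheaf.map (homOfLE hVU).op e)
    rw [TopCat.Presheaf.germ_res_apply] at h1
    exact h1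
  have hae : ∀ (y : X) (hyU : y ∈ U), L.presheaf.germ U y hyU (a • e) =
      X.presheaf.germ U y hyU a • L.presheaf.germ U y hyU e :=
    fun y hyU => Mero.germ_smul L U y hyU a e
  -- `a` is regular
  have har : a ∈ regSub X U := by
    intro z
    by_contra hz
    obtain ⟨x', hx', hx'ass, hnu⟩ := exists_assPoint_of_not_mem_nonZeroDivisors a z.1 z.2 hz
    apply hnu
    have hx'W : x' ∈ W₀ := hass x' hx'ass
    have hx'V : x' ∈ V := hVdef ▸ ⟨hx', hx'W⟩
    have h1 := hab x' hx' hx'V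
    rw [← h1]
    have hbu : IsUnit (X.presheaf.germ U x' hx' b.1) :=
      isUnit_of_mem_nonZeroDivisors_of_isAssociatedPrime hx'ass (b.2 ⟨x', hx'⟩)
    refine IsUnit.mul ?_ hbu
    obtain ⟨U₁, hU₁, hx'U₁, hb₁⟩ := hm₀ x' hx'ass
    obtain ⟨c, hc⟩ := germ_basis_surj L hb₁ x' hx'U₁ (L.presheaf.germ U x' hx' e)
    rw [TopCat.Presheaf.germ_res_apply, hgm x' hx'V, ← mul_smul] at hc
    have h2 : (1 - c * X.presheaf.germ V x' hx'V g) • L.presheaf.germ U x' hx' e = 0 := by
      rw [sub_smul, one_smul, ← hc, sub_self]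
    have h3 := germ_basis_inj L he x' hx' _ h2
    rw [sub_eq_zero] at h3
    exact IsUnit.of_mul_eq_one c (by rw [mul_comm]; exact h3.symm)
  refine ⟨U, hxU, a • e, b, ?_, ?_⟩
  · intro y hyU hyW
    have hyV : y ∈ V := hVdef ▸ ⟨hyU, hyW⟩
    rw [hae y hyU, hgm y hyV, ← mul_smul, ← hab y hyU hyV, mul_comm]
  · intro z hz r hr
    rw [hae z hz, ← mul_smul] at hr
    have h1 := germ_basis_inj L he z hz _ hr
    have h2 : X.presheaf.germ U z hz a ∈ nonZeroDivisors (X.presheaf.stalk z) := har ⟨z, hz⟩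
    exact (mem_nonZeroDivisors_iff_right.mp h2) r h1

set_option maxHeartbeats 800000 in
/-- on a locally Noetherian scheme whose associated points lie in an affine open, every
invertible module has a regular meromorphic section. -/
theorem hasRegularMero_of_isAss_le [IsLocallyNoetherian X] {W₀ : X.Opens}
    (hW₀ : IsAffineOpen W₀) (hass : ∀ x, IsAss X x → x ∈ W₀)
    (L : X.Modules) (hL : PicF.IsInvertible L) : Mero.HasRegularMero L := by
  classical
  have hTF := stalkTorsionFree_of_isInvertible L hL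
  obtain ⟨Z, hZ⟩ := exists_finset_isAss hW₀
  obtain ⟨m₀, hm₀'⟩ := exists_gen_section L hL hW₀ Z
  have hm₀ : ∀ z, IsAss X z → ∃ (U : X.Opens) (hU : U ≤ W₀), z ∈ U ∧
      IsBasisOver L U (L.presheaf.map (homOfLE hU).op m₀) :=
    fun z hz => hm₀' z (hZ z (hass z hz) hz) (hass z hz)
  have hchart := exists_chart L hL hass m₀ hm₀
  choose U hyU m b h1 h2 using hchart
  let t : ∀ x : (⊤ : X.Opens), MStalk L x.1 := fun x =>
    LocalizedModule.mk (L.presheaf.germ (U x.1) x.1 (hyU x.1) (m x.1))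
      (regGerm ⟨x.1, hyU x.1⟩ (b x.1))
  have ht : (mLoc L).pred t := by
    intro x
    refine ⟨U x.1, hyU x.1, homOfLE le_top, m x.1, b x.1, fun y => ?_⟩
    change LocalizedModule.mk (L.presheaf.germ (U y.1) y.1 (hyU y.1) (m y.1))
      (regGerm ⟨y.1, hyU y.1⟩ (b y.1)) =
      LocalizedModule.mk (L.presheaf.germ (U x.1) y.1 y.2 (m x.1)) (regGerm y (b x.1))
    rw [LocalizedModule.mk_eq]
    refine ⟨1, ?_⟩
    simp only [one_smul, Submonoid.smul_def]
    -- pass to the intersection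
    let W : X.Opens := U x.1 ⊓ U y.1
    have hyW : y.1 ∈ W := ⟨y.2, hyU y.1⟩
    let n : Γ(L, W) :=
      X.presheaf.map (homOfLE (inf_le_left : W ≤ U x.1)).op (b x.1).1 •
        L.presheaf.map (homOfLE (inf_le_right : W ≤ U y.1)).op (m y.1) -
      X.presheaf.map (homOfLE (inf_le_right : W ≤ U y.1)).op (b y.1).1 •
        L.presheaf.map (homOfLE (inf_le_left : W ≤ U x.1)).op (m x.1)
    have hn : L.presheaf.germ W y.1 hyW n = 0 := by
      apply germ_eq_zero_of_isAss L hL n
      intro η hη hηass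
      have hηW : η ∈ W₀ := hass η hηass
      have e1 := h1 x.1 η hη.1 hηW
      have e2 := h1 y.1 η hη.2 hηW
      change L.presheaf.germ W η hη (_ - _) = 0
      rw [map_sub, Mero.germ_smul, Mero.germ_smul, TopCat.Presheaf.germ_res_apply,
        TopCat.Presheaf.germ_res_apply, TopCat.Presheaf.germ_res_apply,
        TopCat.Presheaf.germ_res_apply, e1, e2, smul_comm, sub_self]
    change L.presheaf.germ W y.1 hyW (_ - _) = 0 at hn
    rw [map_sub, Mero.germ_smul, Mero.germ_smul, TopCat.Presheaf.germ_res_apply,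
      TopCat.Presheaf.germ_res_apply, TopCat.Presheaf.germ_res_apply,
      TopCat.Presheaf.germ_res_apply, sub_eq_zero] at hn
    exact hn
  refine ⟨⟨t, ht⟩, ?_⟩
  intro x q hq
  change q • (LocalizedModule.mk (L.presheaf.germ (U x) x (hyU x) (m x))
    (regGerm ⟨x, hyU x⟩ (b x)) : MStalk L x) = 0 at hq
  induction q using Localization.induction_on with
  | H rs =>
    obtain ⟨r, s⟩ := rs
    rw [LocalizedModule.mk_smul_mk, mkM_eq_zero_iff hTF] at hq
    have := h2 x x (hyU x) r hq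
    rw [this]
    exact Localization.mk_zero s

/-- S5088 -/
theorem main (X : Scheme.{u}) [IsLocallyNoetherian X]
    (hX : ∃ W : X.Opens, IsAffineOpen W ∧ ∀ x : ↥X,
      IsAssociatedPrime (IsLocalRing.maximalIdeal ↑(X.presheaf.stalk x)) ↑(X.presheaf.stalk x) →
        x ∈ W)
    (L : X.Modules) (hL : PicF.IsInvertible L) :
    ∃ D : Mero.Divisor X, Nonempty (L ≅ Mero.divMod D) := by
  obtain ⟨W₀, hW₀, hass⟩ := hX
  exact Groth.Agent.H7.MeroRS.exists_iso_divMod_of_hasRegularMero L hL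
    (hasRegularMero_of_isAss_le hW₀ hass L hL)

end Groth.Agent.H7.MeroAss
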