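import Mathlib
import Groth.Agent.S8863
import Groth.Agent.Lib.Helper3.MeroSupp
import Groth.Agent.Lib.Helper1.StalkGen
import Groth.Agent.Lib.Helper1.GenPts
import Groth.Agent.Lib.Helper6.MeroDepth
import Groth.Agent.Lib.Helper7.MeroAss

/-! helper7: divisors on absolute curves (S10892, S10893, S10894). -/

set_option autoImplicit false
universe u
open CategoryTheory Limits AlgebraicGeometry TopologicalSpace Opposite

namespace Groth.Agent.H7.MeroCurve

open Mero Groth.Agent.LD.QC Groth.Agent.H4.MeroK Groth.Agent.H3.MeroDivInj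
  Groth.Agent.H4.MeroReg Groth.Agent.H7.MeroInv Groth.Agent.H3.MeroPull Groth.Agent.H4.MeroL

attribute [-instance] Groth.Agent.LD.QC.stalkModule

section Top

variable {T : Type*} [TopologicalSpace T]

/-- in a Noetherian quasi-sober space, a locally closed set all of whose points are closed is
finite. -/
lemma finite_inter_of_forall_isClosed [NoetherianSpace T] [QuasiSober T]
    (W : Set T) (hW : IsOpen W) (F : Set T) (hF : IsClosed F)
    (h : ∀ z ∈ W ∩ F, IsClosed ({z} : Set T)) : (W ∩ F).Finite := by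
  obtain ⟨S, hSfin, hScl, hSirr, hS⟩ := NoetherianSpace.exists_finite_set_isClosed_irreducible hF
  have hsub : W ∩ F ⊆ ⋃ t ∈ S, (W ∩ t) := by
    rintro z ⟨hzW, hzF⟩
    rw [hS] at hzF
    obtain ⟨t, htS, hzt⟩ := hzF
    exact Set.mem_biUnion htS ⟨hzW, hzt⟩
  refine (hSfin.biUnion (fun t htS => ?_)).subset hsub
  apply Set.Subsingleton.finite
  obtain ⟨η, hη⟩ := QuasiSober.sober (hSirr t htS) (hScl t htS)
  have key : ∀ z ∈ W ∩ t, z = η := by
    rintro z ⟨hzW, hzt⟩
    have hspec : η ⤳ z := hη.specializes hzt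
    have hηW : η ∈ W := hspec.mem_open hW hzW
    have hηt : η ∈ t := hη.mem
    have hηF : η ∈ F := by rw [hS]; exact ⟨t, htS, hηt⟩
    have hcl := h η ⟨hηW, hηF⟩
    have h1 : t = {η} := by
      rw [← hη.def, hcl.closure_eq]
    rw [h1] at hzt
    exact hzt
  intro z hz z' hz'
  rw [key z hz, key z' hz']

end Top

variable {C : Scheme.{u}}

/-- on an absolute curve the local rings at the non-closed points have dimension zero. -/
lemma ringKrullDim_stalk_eq_zero_of_not_isClosed [IsNoetherian C]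
    (hC : ∀ x : C, IsClosed ({x} : Set C) → ringKrullDim (C.presheaf.stalk x) = 1)
    (y : C) (hy : ¬ IsClosed ({y} : Set C)) : ringKrullDim (C.presheaf.stalk y) = 0 := by
  obtain ⟨x, hxy, hxcl⟩ := (isClosed_closure (s := ({y} : Set C))).exists_closed_singleton
    ⟨y, subset_closure rfl⟩
  have h : y ⤳ x := specializes_iff_mem_closure.mpr hxy
  have hne : y ≠ x := fun e => hy (e ▸ hxcl)
  rw [Groth.Agent.H1.StalkGen.ringKrullDim_stalk_eq_height h]
  have hdim := hC x hxcl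
  rw [← IsLocalRing.maximalIdeal_height_eq_ringKrullDim] at hdim
  have hlt : (Groth.Agent.H1.StalkGen.primeOf h).asIdeal <
      IsLocalRing.maximalIdeal (C.presheaf.stalk x) := by
    refine lt_of_le_of_ne (IsLocalRing.le_maximalIdeal
      (Groth.Agent.H1.StalkGen.primeOf h).2.ne_top) (fun e => hne ?_)
    have h1 : Groth.Agent.H1.StalkGen.primeOf h = IsLocalRing.closedPoint (C.presheaf.stalk x) :=
      PrimeSpectrum.ext e
    rw [← Groth.Agent.H1.StalkGen.fromSpecStalk_primeOf h, h1, Scheme.fromSpecStalk_closedPoint]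
  have hlt' := Ideal.height_strict_mono_of_isPrime hlt
  have h1 : (IsLocalRing.maximalIdeal (C.presheaf.stalk x)).height = 1 := by
    exact_mod_cast hdim
  rw [h1, ENat.lt_one_iff_eq_zero] at hlt'
  rw [hlt']
  rfl

/-- at a point whose local ring has dimension zero, all germs of regular sections are units. -/
lemma regStalk_le_units_of_dim_zero (y : C) (h0 : ringKrullDim (C.presheaf.stalk y) = 0) :
    regStalk C y ≤ IsUnit.submonoid (C.presheaf.stalk y) := by
  have h0' : Ring.KrullDimLE 0 (C.presheaf.stalk y) := (Ring.krullDimLE_iff).2 h0.le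
  have hprime : ∀ p : Ideal (C.presheaf.stalk y), p.IsPrime →
      p = IsLocalRing.maximalIdeal (C.presheaf.stalk y) := fun p hp =>
    IsLocalRing.eq_maximalIdeal (Ring.krullDimLE_zero_iff.1 h0' p hp)
  intro a ha
  exact isUnit_of_mem_nonZeroDivisors_of_forall_prime hprime (regStalk_le_nonZeroDivisors y ha)

/-- a germ class is trivial iff the unit is the image of a unit of the local ring. -/
lemma mk_eq_one_iff (x : C) (k : (KStalk C x)ˣ) :
    (QuotientGroup.mk k : Germ C x) = 1 ↔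
      ∃ u : (C.presheaf.stalk x)ˣ,
        algebraMap (C.presheaf.stalk x) (KStalk C x) (u : C.presheaf.stalk x) = k := by
  rw [QuotientGroup.eq_one_iff]
  constructor
  · rintro ⟨u, hu⟩
    exact ⟨u, congrArg Units.val hu⟩
  · rintro ⟨u, hu⟩
    exact ⟨u, Units.ext hu⟩

/-- the class of the germ of a regular section is trivial iff the germ is a unit. -/
lemma mk_regUnit_eq_one_iff (x : C) (a : regStalk C x) :
    (QuotientGroup.mk (IsLocalization.map_units (KStalk C x) a).unit : Germ C x) = 1 ↔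
      IsUnit (a : C.presheaf.stalk x) := by
  rw [mk_eq_one_iff]
  constructor
  · rintro ⟨u, hu⟩
    have h1 : (u : C.presheaf.stalk x) = a := algebraMap_KStalk_injective x hu
    rw [← h1]
    exact u.isUnit
  · intro h
    exact ⟨h.unit, rfl⟩

/-- the class of the germ `1`. -/
lemma mk_regUnit_one (x : C) :
    (QuotientGroup.mk (IsLocalization.map_units (KStalk C x) (1 : regStalk C x)).unit :
      Germ C x) = 1 :=
  (mk_regUnit_eq_one_iff x 1).mpr isUnit_one

/-- the unit `a / b` of the ring `Γ(W, K_X)` for `a`, `b` regular. -/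
noncomputable def fracUnit {W : C.Opens} (a b : regSub C W) : (Γ(kmod C, W))ˣ :=
  (isUnit_toK_mul_invK a b).unit

lemma fracUnit_val {W : C.Opens} (a b : regSub C W) (z : W) :
    ((fracUnit a b : (Γ(kmod C, W))ˣ) : Γ(kmod C, W)).1 z =
      LocalizedModule.mk (C.presheaf.germ W z.1 z.2 a.1) (regGerm z b) :=
  toK_mul_invK_apply a.1 b z

lemma germOf_fracUnit_eq {W : C.Opens} (a b : regSub C W) (x : W) (k : (KStalk C x.1)ˣ)
    (hk : (k : KStalk C x.1) =
      LocalizedModule.mk (C.presheaf.germ W x.1 x.2 a.1) (regGerm x b)) :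
    germOf (fracUnit a b) x = QuotientGroup.mk k := by
  refine congrArg _ (Units.ext ?_)
  exact (fracUnit_val a b x).trans hk.symm

lemma germOf_fracUnit_eq_one {W : C.Opens} (a b : regSub C W) (y : W)
    (ha : IsUnit (C.presheaf.germ W y.1 y.2 a.1)) (hb : IsUnit (C.presheaf.germ W y.1 y.2 b.1)) :
    germOf (fracUnit a b) y = 1 := by
  rw [mk_eq_one_iff]
  refine ⟨ha.unit * hb.unit⁻¹, ?_⟩
  change _ = ((fracUnit a b : (Γ(kmod C, W))ˣ) : Γ(kmod C, W)).1 y
  rw [fracUnit_val]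
  have h1 := Groth.Agent.H6.MeroDepth.mk_mul_algebraMap y.1 (C.presheaf.germ W y.1 y.2 a.1)
    (regGerm y b)
  have h2 : algebraMap (C.presheaf.stalk y.1) (KStalk C y.1)
      (C.presheaf.germ W y.1 y.2 b.1) *
      algebraMap (C.presheaf.stalk y.1) (KStalk C y.1) ((hb.unit⁻¹ : (C.presheaf.stalk y.1)ˣ) :
        C.presheaf.stalk y.1) = 1 := by
    rw [← map_mul]
    have : C.presheaf.germ W y.1 y.2 b.1 * ((hb.unit⁻¹ : (C.presheaf.stalk y.1)ˣ) :
        C.presheaf.stalk y.1) = 1 := hb.mul_val_inv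
    rw [this, map_one]
  rw [Units.val_mul, map_mul, IsUnit.unit_spec, ← h1, mul_assoc]
  erw [h2]
  rw [mul_one]

/-- the set of points where a divisor is trivial is open. -/
lemma isOpen_setOf_eq_one (D : Divisor C) : IsOpen {x : C | D.1 x = 1} := by
  rw [isOpen_iff_forall_mem_open]
  intro x hx
  obtain ⟨U, hxU, f, hf⟩ := D.2 x
  have hx1 : germOf f ⟨x, hxU⟩ = 1 := (hf ⟨x, hxU⟩).symm.trans hx
  rw [mk_eq_one_iff] at hx1
  obtain ⟨u, hu⟩ := hx1
  have hu' : algebraMap (C.presheaf.stalk x) (KStalk C x) (u : C.presheaf.stalk x) =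
      (f : Γ(kmod C, U)).1 ⟨x, hxU⟩ := hu
  obtain ⟨W, hWU, hxW, c, hc⟩ := exists_local_toK (f : Γ(kmod C, U)) ⟨x, hxU⟩ ⟨u, hu'⟩
  have hcx : C.presheaf.germ W x hxW c = u := by
    apply algebraMap_KStalk_injective x
    rw [hu']
    exact (hc ⟨x, hxW⟩).symm
  have hxN : x ∈ C.basicOpen c := by
    rw [C.mem_basicOpen c x hxW, hcx]
    exact u.isUnit
  refine ⟨(C.basicOpen c : Set C), ?_, (C.basicOpen c).isOpen, hxN⟩
  intro z hz
  have hzW : z ∈ W := C.basicOpen_le c hz
  have hzu : IsUnit (C.presheaf.germ W z hzW c) := (C.mem_basicOpen c z hzW).mp hz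
  change D.1 z = 1
  rw [hf ⟨z, hWU hzW⟩, mk_eq_one_iff]
  refine ⟨hzu.unit, ?_⟩
  change _ = (f : Γ(kmod C, U)).1 ⟨z, hWU hzW⟩
  rw [hc ⟨z, hzW⟩]
  rfl

/-- the support of a divisor is closed. -/
lemma isClosed_supp (D : Divisor C) : IsClosed (supp D) := by
  have h : supp D = {x : C | D.1 x = 1}ᶜ := rfl
  rw [h]
  exact (isOpen_setOf_eq_one D).isClosed_compl

/-- on an absolute curve, the germ of any divisor at a non-closed point is trivial. -/
lemma germ_eq_one_of_not_isClosed [IsNoetherian C]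
    (hC : ∀ x : C, IsClosed ({x} : Set C) → ringKrullDim (C.presheaf.stalk x) = 1)
    (y : C) (hy : ¬ IsClosed ({y} : Set C)) (d : Germ C y) : d = 1 :=
  Groth.Agent.H3.MeroSupp.germ_eq_one_of_regStalk_le_units y
    (regStalk_le_units_of_dim_zero y (ringKrullDim_stalk_eq_zero_of_not_isClosed hC y hy)) d

/-- on an absolute curve, the support of a divisor is finite. -/
lemma finite_supp [IsNoetherian C]
    (hC : ∀ x : C, IsClosed ({x} : Set C) → ringKrullDim (C.presheaf.stalk x) = 1)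
    (D : Divisor C) : (supp D).Finite := by
  have h := finite_inter_of_forall_isClosed (Set.univ : Set C) isOpen_univ (supp D)
    (isClosed_supp D) (fun z hz => by
      by_contra hcl
      exact hz.2 (germ_eq_one_of_not_isClosed hC z hcl _))
  rwa [Set.univ_inter] at h

/-- a finite set of closed points is closed. -/
lemma isClosed_of_finite_of_forall {T : Type*} [TopologicalSpace T] (S : Set T) (hS : S.Finite)
    (h : ∀ z ∈ S, IsClosed ({z} : Set T)) : IsClosed S := by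
  have h1 : S = ⋃ z ∈ S, ({z} : Set T) := (Set.biUnion_of_singleton S).symm
  rw [h1]
  exact hS.isClosed_biUnion h

lemma exists_mk_eq (x : C) (t : KStalk C x) :
    ∃ (α : C.presheaf.stalk x) (s : regStalk C x), t = LocalizedModule.mk α s := by
  induction t using LocalizedModule.induction_on with
  | h m s => exact ⟨m, s, rfl⟩

/-- every unit of `K_{C,x}` is a quotient of two germs of regular sections (locally Noetherian
case). -/
lemma exists_regStalk_mk_eq [IsLocallyNoetherian C] (x : C) (k : (KStalk C x)ˣ) :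
    ∃ (α s : regStalk C x), (k : KStalk C x) = LocalizedModule.mk (α : C.presheaf.stalk x) s := by
  obtain ⟨α, s, hαs⟩ := exists_mk_eq x (k : KStalk C x)
  have hαu : IsUnit (algebraMap (C.presheaf.stalk x) (KStalk C x) α) := by
    rw [← Groth.Agent.H6.MeroDepth.mk_mul_algebraMap x α s, ← hαs]
    exact k.isUnit.mul (IsLocalization.map_units (KStalk C x) s)
  have hαnz := Groth.Agent.H6.MeroDepth.nzd_of_isUnit_algebraMap x α hαu
  have hαreg : α ∈ regStalk C x := by
    rw [Groth.Agent.S8863.result C x]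
    exact hαnz
  exact ⟨⟨α, hαreg⟩, s, hαs⟩

set_option maxHeartbeats 800000 in
/-- on an absolute curve, a family of germs trivial outside a finite set of closed points is a
divisor. -/
theorem mem_divisorGroup_of_finite [IsNoetherian C]
    (hC : ∀ x : C, IsClosed ({x} : Set C) → ringKrullDim (C.presheaf.stalk x) = 1)
    (g : ∀ x : C, Germ C x) (hfin : {x : C | g x ≠ 1}.Finite)
    (hcl : ∀ x : C, g x ≠ 1 → IsClosed ({x} : Set C)) : g ∈ divisorGroup C := by
  classical
  intro x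
  obtain ⟨S', hS'⟩ : ∃ S' : Set C, S' = {z : C | g z ≠ 1} \ {x} := ⟨_, rfl⟩
  have hS'fin : S'.Finite := hS' ▸ hfin.subset Set.sdiff_subset
  have hS'cl : IsClosed S' := isClosed_of_finite_of_forall S' hS'fin
    (fun z hz => hcl z (by rw [hS'] at hz; exact hz.1))
  obtain ⟨U₀, hU₀def⟩ : ∃ U₀ : C.Opens, U₀ = ⟨S'ᶜ, hS'cl.isOpen_compl⟩ := ⟨_, rfl⟩
  have hxU₀ : x ∈ U₀ := by
    rw [hU₀def]
    change x ∉ S'
    rw [hS']
    exact fun h => h.2 rfl
  have hU₀ : ∀ z ∈ U₀, z ≠ x → g z = 1 := by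
    intro z hz hzx
    by_contra hne
    rw [hU₀def] at hz
    exact hz (by rw [hS']; exact ⟨hne, hzx⟩)
  obtain ⟨k, hk⟩ := QuotientGroup.mk_surjective (g x)
  obtain ⟨α, s, hαs⟩ := exists_regStalk_mk_eq x k
  obtain ⟨U₂, hxU₂, a₂, ha₂, ha₂x⟩ := α.2
  obtain ⟨U₁, hxU₁, b₁, hb₁, hb₁x⟩ := s.2
  obtain ⟨W₁, hW₁⟩ : ∃ W₁ : C.Opens, W₁ = U₀ ⊓ (U₁ ⊓ U₂) := ⟨_, rfl⟩
  have hW₁U₀ : W₁ ≤ U₀ := hW₁ ▸ inf_le_left
  have hW₁U₁ : W₁ ≤ U₁ := hW₁ ▸ (inf_le_right.trans inf_le_left)
  have hW₁U₂ : W₁ ≤ U₂ := hW₁ ▸ (inf_le_right.trans inf_le_right)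
  have hxW₁ : x ∈ W₁ := hW₁ ▸ ⟨hxU₀, hxU₁, hxU₂⟩
  obtain ⟨a, ha⟩ : ∃ a : regSub C W₁, a.1 = C.presheaf.map (homOfLE hW₁U₂).op a₂ :=
    ⟨⟨_, regSub_res _ ha₂⟩, rfl⟩
  obtain ⟨b, hb⟩ : ∃ b : regSub C W₁, b.1 = C.presheaf.map (homOfLE hW₁U₁).op b₁ :=
    ⟨⟨_, regSub_res _ hb₁⟩, rfl⟩
  have hunit : ∀ (c : regSub C W₁) (z : C) (hz : z ∈ W₁), ¬ IsClosed ({z} : Set C) →
      IsUnit (C.presheaf.germ W₁ z hz c.1) := by
    intro c z hz hzcl
    exact regStalk_le_units_of_dim_zero z (ringKrullDim_stalk_eq_zero_of_not_isClosed hC z hzcl)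
      (germ_mem_regStalk ⟨z, hz⟩ c.2)
  have hTfin : ∀ c : regSub C W₁, ((W₁ : Set C) ∩ ((C.basicOpen c.1 : Set C))ᶜ).Finite := by
    intro c
    apply finite_inter_of_forall_isClosed _ W₁.isOpen _ (C.basicOpen c.1).isOpen.isClosed_compl
    rintro z ⟨hzW, hzc⟩
    by_contra hzcl
    exact hzc ((C.mem_basicOpen c.1 z hzW).mpr (hunit c z hzW hzcl))
  obtain ⟨R, hR⟩ : ∃ R : Set C, R = (((W₁ : Set C) ∩ ((C.basicOpen a.1 : Set C))ᶜ) ∪
      ((W₁ : Set C) ∩ ((C.basicOpen b.1 : Set C))ᶜ)) \ {x} := ⟨_, rfl⟩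
  have hRfin : R.Finite := hR ▸ ((hTfin a).union (hTfin b)).subset Set.sdiff_subset
  have hRcl : IsClosed R := by
    apply isClosed_of_finite_of_forall R hRfin
    intro z hz
    rw [hR] at hz
    by_contra hzcl
    rcases hz.1 with ⟨hzW, hzc⟩ | ⟨hzW, hzc⟩
    · exact hzc ((C.mem_basicOpen a.1 z hzW).mpr (hunit a z hzW hzcl))
    · exact hzc ((C.mem_basicOpen b.1 z hzW).mpr (hunit b z hzW hzcl))
  obtain ⟨W, hW⟩ : ∃ W : C.Opens, W = W₁ ⊓ ⟨Rᶜ, hRcl.isOpen_compl⟩ := ⟨_, rfl⟩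
  have hWW₁ : W ≤ W₁ := hW ▸ inf_le_left
  have hxW : x ∈ W := by
    rw [hW]
    refine ⟨hxW₁, ?_⟩
    change x ∉ R
    rw [hR]
    exact fun h => h.2 rfl
  have hWR : ∀ z ∈ W, z ∉ R := by
    intro z hz
    rw [hW] at hz
    exact hz.2
  obtain ⟨a', ha'⟩ : ∃ a' : regSub C W, a'.1 = C.presheaf.map (homOfLE hWW₁).op a.1 :=
    ⟨⟨_, regSub_res _ a.2⟩, rfl⟩
  obtain ⟨b', hb'⟩ : ∃ b' : regSub C W, b'.1 = C.presheaf.map (homOfLE hWW₁).op b.1 :=
    ⟨⟨_, regSub_res _ b.2⟩, rfl⟩
  refine ⟨W, hxW, fracUnit a' b', ?_⟩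
  rintro ⟨y, hyW⟩
  by_cases hyx : y = x
  · subst hyx
    rw [← hk]
    symm
    apply germOf_fracUnit_eq
    rw [hαs]
    refine mk_congr ?_ ?_
    · rw [ha', TopCat.Presheaf.germ_res_apply, ha, TopCat.Presheaf.germ_res_apply, ha₂x]
    · change (s : C.presheaf.stalk y) = C.presheaf.germ W y hyW b'.1
      rw [hb', TopCat.Presheaf.germ_res_apply, hb, TopCat.Presheaf.germ_res_apply, hb₁x]
  · have hy1 : g y = 1 := hU₀ y (hW₁U₀ (hWW₁ hyW)) hyx
    rw [hy1]
    symm
    have hyR := hWR y hyW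
    apply germOf_fracUnit_eq_one
    · have hmem : y ∈ C.basicOpen a.1 := by
        by_contra hn
        exact hyR (by rw [hR]; exact ⟨Or.inl ⟨hWW₁ hyW, hn⟩, hyx⟩)
      rw [ha', TopCat.Presheaf.germ_res_apply]
      exact (C.mem_basicOpen a.1 y (hWW₁ hyW)).mp hmem
    · have hmem : y ∈ C.basicOpen b.1 := by
        by_contra hn
        exact hyR (by rw [hR]; exact ⟨Or.inr ⟨hWW₁ hyW, hn⟩, hyx⟩)
      rw [hb', TopCat.Presheaf.germ_res_apply]
      exact (C.mem_basicOpen b.1 y (hWW₁ hyW)).mp hmem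

/-- in a Noetherian local ring whose maximal ideal is not an associated prime, the maximal
ideal contains a nonzerodivisor. -/
lemma exists_mem_maximalIdeal_nzd {R : Type*} [CommRing R] [IsLocalRing R] [IsNoetherianRing R]
    (h : ¬ IsAssociatedPrime (IsLocalRing.maximalIdeal R) R) :
    ∃ a ∈ IsLocalRing.maximalIdeal R, a ∈ nonZeroDivisors R := by
  by_contra hcon
  push Not at hcon
  obtain ⟨z, hz0, hz⟩ := Groth.Agent.H7.MeroExt.exists_ann_of_noetherian
    (IsLocalRing.maximalIdeal R) hcon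
  apply h
  rw [isAssociatedPrime_iff]
  refine ⟨inferInstance, z, ?_⟩
  have hle : IsLocalRing.maximalIdeal R ≤ (⊥ : Submodule R R).colon {z} := by
    intro c hc
    rw [Submodule.mem_colon_singleton]
    exact hz c hc
  have hne : (⊥ : Submodule R R).colon {z} ≠ ⊤ := by
    intro htop
    have h1 : (1 : R) ∈ (⊥ : Submodule R R).colon {z} := by rw [htop]; trivial
    rw [Submodule.mem_colon_singleton] at h1
    apply hz0
    simpa using h1
  exact ((IsLocalRing.maximalIdeal.isMaximal R).eq_of_le hne hle)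

set_option maxHeartbeats 800000 in
/-- on an absolute curve without open points, every irreducible component contains a closed
point of a given dense open, lying on no other component, at which some germ of regular section
is not a unit. -/
lemma exists_good_point [IsNoetherian C]
    (hC : ∀ x : C, IsClosed ({x} : Set C) → ringKrullDim (C.presheaf.stalk x) = 1)
    (hpt : ∀ x : C, ¬ IsOpen ({x} : Set C)) (U : C.Opens) (hU : Dense (U : Set C))
    (Z : Set C) (hZ : Z ∈ irreducibleComponents C) :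
    ∃ y : C, y ∈ U ∧ y ∈ Z ∧ IsClosed ({y} : Set C) ∧
      ∃ a : regStalk C y, ¬ IsUnit (a : C.presheaf.stalk y) := by
  classical
  have hZirr : IsIrreducible Z := hZ.1
  have hZcl : IsClosed Z := isClosed_of_mem_irreducibleComponents Z hZ
  obtain ⟨η, hη⟩ := QuasiSober.sober hZirr hZcl
  have hfin : (irreducibleComponents C).Finite := NoetherianSpace.finite_irreducibleComponents
  obtain ⟨Oth, hOth⟩ : ∃ Oth : Set C, Oth = ⋃ Z' ∈ irreducibleComponents C \ {Z}, Z' := ⟨_, rfl⟩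
  have hOthcl : IsClosed Oth := by
    rw [hOth]
    exact (hfin.subset Set.sdiff_subset).isClosed_biUnion
      (fun Z' h => isClosed_of_mem_irreducibleComponents Z' h.1)
  have hsub : Othᶜ ⊆ Z := by
    intro z hz
    have h1 := irreducibleComponent_mem_irreducibleComponents z
    by_cases h2 : irreducibleComponent z = Z
    · rw [← h2]; exact mem_irreducibleComponent
    · exfalso
      apply hz
      rw [hOth]
      exact Set.mem_biUnion ⟨h1, h2⟩ mem_irreducibleComponent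
  have hηO : η ∈ Othᶜ := by
    intro hmem
    rw [hOth] at hmem
    obtain ⟨Z', hZ', hηZ'⟩ := Set.mem_iUnion₂.mp hmem
    have hZ'cl : IsClosed Z' := isClosed_of_mem_irreducibleComponents Z' hZ'.1
    have hle : Z ≤ Z' := by
      rw [← hη.def]
      exact hZ'cl.closure_subset_iff.mpr (Set.singleton_subset_iff.mpr hηZ')
    exact hZ'.2 (hZ.eq_of_le hZ'.1.1 hle).symm
  have hηncl : ¬ IsClosed ({η} : Set C) := by
    intro hcl
    have hZη : Z = {η} := by rw [← hη.def, hcl.closure_eq]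
    apply hpt η
    have h1 : ({η} : Set C) = Othᶜ := by
      apply Set.Subset.antisymm
      · exact Set.singleton_subset_iff.mpr hηO
      · rw [← hZη]; exact hsub
    rw [h1]
    exact hOthcl.isOpen_compl
  have hηU : η ∈ U := by
    obtain ⟨z, hzU, hzO⟩ := hU.inter_open_nonempty _ hOthcl.isOpen_compl ⟨η, hηO⟩
    exact (hη.specializes (hsub hzU)).mem_open U.isOpen hzO
  obtain ⟨N, hN⟩ : ∃ N : C.Opens, N = U ⊓ ⟨Othᶜ, hOthcl.isOpen_compl⟩ := ⟨_, rfl⟩
  have hηN : η ∈ N := hN ▸ ⟨hηU, hηO⟩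
  obtain ⟨V, hV, hηV, hVN⟩ := exists_isAffineOpen_mem_and_subset (x := η) (U := N) hηN
  obtain ⟨Zass, hZass⟩ := Groth.Agent.H7.MeroAss.exists_finset_isAss hV
  obtain ⟨R, hR⟩ : ∃ R : Set C, R = {z : C | z ∈ Zass ∧ IsClosed ({z} : Set C)} := ⟨_, rfl⟩
  have hRfin : R.Finite := by
    rw [hR]
    exact (Zass.finite_toSet).subset (fun z hz => hz.1)
  have hRcl : IsClosed R := isClosed_of_finite_of_forall R hRfin
    (fun z hz => by rw [hR] at hz; exact hz.2)
  obtain ⟨W, hW⟩ : ∃ W : C.Opens, W = V ⊓ ⟨Rᶜ, hRcl.isOpen_compl⟩ := ⟨_, rfl⟩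
  have hηW : η ∈ W := by
    rw [hW]
    refine ⟨hηV, ?_⟩
    change η ∉ R
    rw [hR]
    exact fun h => hηncl h.2
  obtain ⟨y, hyW, hyη⟩ : ∃ y ∈ W, y ≠ η := by
    by_contra hcon
    push Not at hcon
    apply hpt η
    have h1 : ({η} : Set C) = (W : Set C) := by
      apply Set.Subset.antisymm
      · exact Set.singleton_subset_iff.mpr hηW
      · intro z hz; exact hcon z hz
    rw [h1]
    exact W.isOpen
  have hyV : y ∈ V := by rw [hW] at hyW; exact hyW.1
  have hyR : y ∉ R := by rw [hW] at hyW; exact hyW.2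
  have hyN : y ∈ N := hVN hyV
  have hyU : y ∈ U := by rw [hN] at hyN; exact hyN.1
  have hyO : y ∈ Othᶜ := by rw [hN] at hyN; exact hyN.2
  have hyZ : y ∈ Z := hsub hyO
  have hycl : IsClosed ({y} : Set C) := by
    by_contra hncl
    have h0 := ringKrullDim_stalk_eq_zero_of_not_isClosed hC y hncl
    have h1 := Groth.Agent.H1.GenPts.closure_mem_irreducibleComponents_of_stalk_dim_eq_zero y h0
    have h2 : closure ({y} : Set C) = Z := by
      by_contra hne
      apply hyO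
      rw [hOth]
      exact Set.mem_biUnion ⟨h1, hne⟩ (subset_closure rfl)
    have h3 : IsGenericPoint y Z := h2
    exact hyη (h3.eq hη)
  have hyass : ¬ Groth.Agent.H7.MeroAss.IsAss C y := by
    intro hass
    apply hyR
    rw [hR]
    exact ⟨hZass y hyV hass, hycl⟩
  obtain ⟨a, ham, hanz⟩ := exists_mem_maximalIdeal_nzd hyass
  refine ⟨y, hyU, hyZ, hycl, ⟨a, ?_⟩, ?_⟩
  · rw [Groth.Agent.S8863.result C y]
    exact hanz
  · exact (IsLocalRing.mem_maximalIdeal a).mp ham

/-- S10892 -/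
theorem main_10892 {C : Scheme.{u}} [IsNoetherian C]
    (hC : ∀ x : C, IsClosed ({x} : Set C) → ringKrullDim (C.presheaf.stalk x) = 1)
    (g : ∀ x : C, Mero.Germ C x) :
    g ∈ Mero.divisorGroup C ↔
      ({x : C | g x ≠ 1}.Finite ∧ ∀ x : C, ¬ IsClosed ({x} : Set C) → g x = 1) := by
  constructor
  · intro hg
    exact ⟨finite_supp hC ⟨g, hg⟩, fun x hx => germ_eq_one_of_not_isClosed hC x hx _⟩
  · rintro ⟨hfin, hcl⟩
    exact mem_divisorGroup_of_finite hC g hfin
      (fun x hx => by by_contra h; exact hx (hcl x h))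

set_option maxHeartbeats 800000 in
/-- S10894 -/
theorem main_10894 {C : Scheme.{u}} [IsNoetherian C]
    (hC : ∀ x : C, IsClosed ({x} : Set C) → ringKrullDim (C.presheaf.stalk x) = 1)
    (D : Mero.Divisor C) :
    ∃ D₁ D₂ : Mero.Divisor C, Mero.IsEffective D₁ ∧ Mero.IsEffective D₂ ∧ D = D₁ * D₂⁻¹ ∧
      Mero.supp D₁ ⊆ Mero.supp D ∧ Mero.supp D₂ ⊆ Mero.supp D := by
  classical
  have hrep : ∀ x : C, ∃ (α s : regStalk C x), D.1 x =
      (QuotientGroup.mk (IsLocalization.map_units (KStalk C x) α).unit : Germ C x) *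
        (QuotientGroup.mk (IsLocalization.map_units (KStalk C x) s).unit : Germ C x)⁻¹ := by
    intro x
    obtain ⟨k, hk⟩ := QuotientGroup.mk_surjective (D.1 x)
    obtain ⟨α, s, hαs⟩ := exists_regStalk_mk_eq x k
    refine ⟨α, s, ?_⟩
    rw [← hk, ← QuotientGroup.mk_inv, ← QuotientGroup.mk_mul]
    congr 1
    rw [eq_mul_inv_iff_mul_eq]
    apply Units.ext
    rw [Units.val_mul, hαs]
    exact Groth.Agent.H6.MeroDepth.mk_mul_algebraMap x α s
  choose α s hαs using hrep
  obtain ⟨g₁, hg₁def⟩ : ∃ g₁ : ∀ x : C, Germ C x, ∀ x, g₁ x = if D.1 x = 1 then 1 else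
      (QuotientGroup.mk (IsLocalization.map_units (KStalk C x) (α x)).unit : Germ C x) :=
    ⟨_, fun _ => rfl⟩
  obtain ⟨g₂, hg₂def⟩ : ∃ g₂ : ∀ x : C, Germ C x, ∀ x, g₂ x = if D.1 x = 1 then 1 else
      (QuotientGroup.mk (IsLocalization.map_units (KStalk C x) (s x)).unit : Germ C x) :=
    ⟨_, fun _ => rfl⟩
  have hfin := finite_supp hC D
  have hmem : ∀ g : ∀ x : C, Germ C x, (∀ x, D.1 x = 1 → g x = 1) → g ∈ divisorGroup C := by
    intro g hg
    apply mem_divisorGroup_of_finite hC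
    · apply hfin.subset
      intro x hx h1
      exact hx (hg x h1)
    · intro x hx
      by_contra hcl
      exact hx (hg x (germ_eq_one_of_not_isClosed hC x hcl (D.1 x)))
  have h₁ : ∀ x, D.1 x = 1 → g₁ x = 1 := fun x h1 => by rw [hg₁def, if_pos h1]
  have h₂ : ∀ x, D.1 x = 1 → g₂ x = 1 := fun x h1 => by rw [hg₂def, if_pos h1]
  refine ⟨⟨g₁, hmem g₁ h₁⟩, ⟨g₂, hmem g₂ h₂⟩, ?_, ?_, ?_, ?_, ?_⟩
  · intro x
    by_cases h1 : D.1 x = 1
    · exact ⟨1, (h₁ x h1).trans (mk_regUnit_one x).symm⟩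
    · exact ⟨α x, by change g₁ x = _; rw [hg₁def, if_neg h1]⟩
  · intro x
    by_cases h1 : D.1 x = 1
    · exact ⟨1, (h₂ x h1).trans (mk_regUnit_one x).symm⟩
    · exact ⟨s x, by change g₂ x = _; rw [hg₂def, if_neg h1]⟩
  · apply Subtype.ext
    funext x
    change D.1 x = g₁ x * (g₂ x)⁻¹
    by_cases h1 : D.1 x = 1
    · rw [h₁ x h1, h₂ x h1, h1, inv_one]
      exact (mul_one (1 : Germ C x)).symm
    · rw [hg₁def, hg₂def, if_neg h1, if_neg h1]
      exact hαs x
  · intro x hx h1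
    exact hx (h₁ x h1)
  · intro x hx h1
    exact hx (h₂ x h1)

set_option maxHeartbeats 800000 in
/-- S10893 -/
theorem main_10893 {C : Scheme.{u}} [IsNoetherian C]
    (hC : ∀ x : C, IsClosed ({x} : Set C) → ringKrullDim (C.presheaf.stalk x) = 1)
    (hpt : ∀ x : C, ¬ IsOpen ({x} : Set C)) (U : C.Opens) (hU : Dense (U : Set C)) :
    ∃ D : Mero.Divisor C, Mero.IsEffective D ∧ Mero.supp D ⊆ (U : Set C) ∧
      ∀ Z ∈ irreducibleComponents (C : Type u), (Mero.supp D ∩ Z).Nonempty := by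
  classical
  have hfin : (irreducibleComponents C).Finite := NoetherianSpace.finite_irreducibleComponents
  haveI : Finite (irreducibleComponents C) := hfin.to_subtype
  choose y hyU hyZ hycl hya using fun Z : irreducibleComponents C =>
    exists_good_point hC hpt U hU Z.1 Z.2
  obtain ⟨Y, hY⟩ : ∃ Y : Set C, Y = Set.range y := ⟨_, rfl⟩
  have hYfin : Y.Finite := hY ▸ Set.finite_range y
  have hP : ∀ x ∈ Y, ∃ a : regStalk C x, ¬ IsUnit (a : C.presheaf.stalk x) := by
    intro x hx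
    rw [hY] at hx
    obtain ⟨Z, rfl⟩ := hx
    exact hya Z
  have hYcl : ∀ x ∈ Y, IsClosed ({x} : Set C) := by
    intro x hx
    rw [hY] at hx
    obtain ⟨Z, rfl⟩ := hx
    exact hycl Z
  have hYU : ∀ x ∈ Y, x ∈ U := by
    intro x hx
    rw [hY] at hx
    obtain ⟨Z, rfl⟩ := hx
    exact hyU Z
  obtain ⟨g, hgdef⟩ : ∃ g : ∀ x : C, Germ C x, ∀ x, g x = if h : x ∈ Y then
      (QuotientGroup.mk (IsLocalization.map_units (KStalk C x) (hP x h).choose).unit : Germ C x)
      else 1 := ⟨_, fun _ => rfl⟩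
  have hg1 : ∀ x, x ∉ Y → g x = 1 := fun x hx => by rw [hgdef, dif_neg hx]
  have hgY : ∀ x, x ∈ Y → g x ≠ 1 := by
    intro x hx h1
    rw [hgdef, dif_pos hx, mk_regUnit_eq_one_iff] at h1
    exact (hP x hx).choose_spec h1
  have hg : g ∈ divisorGroup C := by
    apply mem_divisorGroup_of_finite hC
    · apply hYfin.subset
      intro x hx
      by_contra hxY
      exact hx (hg1 x hxY)
    · intro x hx
      apply hYcl
      by_contra hxY
      exact hx (hg1 x hxY)
  refine ⟨⟨g, hg⟩, ?_, ?_, ?_⟩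
  · intro x
    by_cases hx : x ∈ Y
    · exact ⟨(hP x hx).choose, by change g x = _; rw [hgdef, dif_pos hx]⟩
    · exact ⟨1, (hg1 x hx).trans (mk_regUnit_one x).symm⟩
  · intro x hx
    apply hYU
    by_contra hxY
    exact hx (hg1 x hxY)
  · intro Z hZ
    refine ⟨y ⟨Z, hZ⟩, ?_, hyZ ⟨Z, hZ⟩⟩
    exact hgY _ (hY ▸ Set.mem_range_self _)

end Groth.Agent.H7.MeroCurve
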