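import Mathlib
import Groth.Agent.Lib.Helper7.MeroExt
import Groth.Agent.Lib.Helper3.MeroSupp
import Groth.Agent.Lib.Helper1.StalkGen
import Groth.Agent.Lib.Helper1.GenPts
import Groth.Agent.Lib.Helper6.MeroDepth
import Groth.Agent.Lib.Lead.QC.WeakAssReduced
import Groth.Agent.Lib.Lead.QC.CartierReduced

/-! helper7: meromorphic functions on a reduced scheme with finitely many irreducible
components are determined by their values at the generic points (S10961). -/

set_option autoImplicit false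
universe u
open CategoryTheory Limits AlgebraicGeometry TopologicalSpace Opposite

namespace Groth.Agent.H7.MeroGen

open Mero Groth.Agent.LD.QC Groth.Agent.H4.MeroK Groth.Agent.H3.MeroDivInj
  Groth.Agent.H4.MeroReg Groth.Agent.H7.MeroInv Groth.Agent.H3.MeroPull Groth.Agent.H4.MeroL

attribute [-instance] Groth.Agent.LD.QC.stalkModule

variable {X : Scheme.{u}}

/-- a point whose closure is an irreducible component has no proper generization. -/
lemma isGen_of_closure_mem (x : X)
    (h : closure ({x} : Set X) ∈ irreducibleComponents (X : Type u)) : IsGen x := by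
  intro y hy
  have hle : closure ({x} : Set X) ≤ closure ({y} : Set X) := by
    apply (isClosed_closure).closure_subset_iff.mpr
    exact Set.singleton_subset_iff.mpr (specializes_iff_mem_closure.mp hy)
  have hirr : IsIrreducible (closure ({y} : Set X)) := isIrreducible_singleton.closure
  have heq : closure ({x} : Set X) = closure ({y} : Set X) := h.eq_of_le hirr hle
  have h1 : IsGenericPoint y (closure ({y} : Set X)) := rfl
  have h2 : IsGenericPoint x (closure ({y} : Set X)) := heq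
  exact h1.eq h2

lemma closure_mem_of_isGen (x : X) (h : IsGen x) :
    closure ({x} : Set X) ∈ irreducibleComponents (X : Type u) :=
  Groth.Agent.H1.GenPts.closure_singleton_mem_irreducibleComponents x h

/-- at a maximal point every prime of the local ring is the maximal ideal. -/
lemma forall_prime_eq_maximalIdeal (x : X) (h : IsGen x) :
    ∀ p : Ideal (X.presheaf.stalk x), p.IsPrime →
      p = IsLocalRing.maximalIdeal (X.presheaf.stalk x) := by
  intro p hp
  have h1 := Groth.Agent.H1.StalkGen.fromSpecStalk_specializes x ⟨p, hp⟩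
  have h2 := h _ h1
  have h3 : X.fromSpecStalk x ⟨p, hp⟩ =
      X.fromSpecStalk x (IsLocalRing.closedPoint (X.presheaf.stalk x)) := by
    rw [h2, Scheme.fromSpecStalk_closedPoint]
  have h4 := Groth.Agent.H1.StalkGen.fromSpecStalk_injective x h3
  exact congrArg PrimeSpectrum.asIdeal h4

/-- the local ring of a reduced scheme at a maximal point is a field. -/
lemma isField_stalk [IsReduced X] (x : X) (h : IsGen x) : IsField (X.presheaf.stalk x) := by
  rw [IsLocalRing.isField_iff_maximalIdeal_eq]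
  rw [eq_bot_iff]
  intro a ha
  have hnil : a ∈ nilradical (X.presheaf.stalk x) := by
    rw [nilradical_eq_sInf, Ideal.mem_sInf]
    intro p hp
    rw [forall_prime_eq_maximalIdeal x h p hp]
    exact ha
  exact (IsReduced.eq_zero a hnil : a = 0)

/-- at a maximal point the local ring maps bijectively onto `K_{X,x}`. -/
lemma bijective_algebraMap (x : X) (h : IsGen x) :
    Function.Bijective (algebraMap (X.presheaf.stalk x) (KStalk X x)) := by
  have hu : regStalk X x ≤ IsUnit.submonoid (X.presheaf.stalk x) := by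
    intro a ha
    exact isUnit_of_mem_nonZeroDivisors_of_forall_prime (forall_prime_eq_maximalIdeal x h)
      (regStalk_le_nonZeroDivisors x ha)
  let e : X.presheaf.stalk x ≃ₐ[X.presheaf.stalk x] KStalk X x :=
    IsLocalization.atUnits (X.presheaf.stalk x) (regStalk X x) hu
  have he : ∀ a, e a = algebraMap (X.presheaf.stalk x) (KStalk X x) a := fun a => rfl
  have : ⇑(algebraMap (X.presheaf.stalk x) (KStalk X x)) = ⇑e := by
    funext a; exact (he a).symm
  rw [this]
  exact e.bijective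

/-- equality of two fractions with regular denominators. -/
lemma mk_eq_mk_iff (z : X) (a a' : X.presheaf.stalk z) (b b' : regStalk X z) :
    (LocalizedModule.mk a b : KStalk X z) = LocalizedModule.mk a' b' ↔
      (b' : X.presheaf.stalk z) * a - (b : X.presheaf.stalk z) * a' = 0 := by
  rw [LocalizedModule.mk_eq]
  constructor
  · rintro ⟨u, hu⟩
    simp only [Submonoid.smul_def, smul_eq_mul] at hu
    have h1 : (u : X.presheaf.stalk z) *
        ((b' : X.presheaf.stalk z) * a - (b : X.presheaf.stalk z) * a') = 0 := by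
      rw [mul_sub, hu, sub_self]
    have h2 := regStalk_le_nonZeroDivisors z u.2
    exact (mem_nonZeroDivisors_iff.mp h2).1 _ h1
  · intro h
    refine ⟨1, ?_⟩
    simp only [one_smul, Submonoid.smul_def, smul_eq_mul]
    exact sub_eq_zero.mp h

set_option maxHeartbeats 800000 in
/-- on a reduced scheme, two meromorphic functions with the same values at the maximal points
are equal. -/
lemma eq_of_generic [IsReduced X] {U : X.Opens} (s s' : Γ(kmod X, U))
    (h : ∀ (η : X) (hη : η ∈ U), IsGen η → s.1 ⟨η, hη⟩ = s'.1 ⟨η, hη⟩) : s = s' := by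
  have ha : ∀ x : X, Curv2.IsWeakAssPoint (Coh.structureModule X) x → ∀ y : X, y ⤳ x → y = x :=
    fun x hx => (isWeakAssPoint_structureModule_iff_of_reduced x).mp hx
  apply Subtype.ext
  funext y
  obtain ⟨V, hyV, i, a, b, hab⟩ := s.2 y
  obtain ⟨V', hyV', i', a', b', hab'⟩ := s'.2 y
  obtain ⟨N, hN, hyN, hNsub⟩ := exists_isAffineOpen_mem_and_subset (x := y.1) (U := V ⊓ V')
    ⟨hyV, hyV'⟩
  have hNV : N ≤ V := fun z hz => (hNsub hz).1
  have hNV' : N ≤ V' := fun z hz => (hNsub hz).2
  obtain ⟨c, hc⟩ : ∃ c : Γ(X, N), c =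
      X.presheaf.map (homOfLE hNV').op b'.1 * X.presheaf.map (homOfLE hNV).op a -
      X.presheaf.map (homOfLE hNV).op b.1 * X.presheaf.map (homOfLE hNV').op a' := ⟨_, rfl⟩
  have hcgerm : ∀ (z : X) (hz : z ∈ N), X.presheaf.germ N z hz c =
      X.presheaf.germ V' z (hNV' hz) b'.1 * X.presheaf.germ V z (hNV hz) a -
      X.presheaf.germ V z (hNV hz) b.1 * X.presheaf.germ V' z (hNV' hz) a' := by
    intro z hz
    rw [hc, map_sub, map_mul, map_mul, TopCat.Presheaf.germ_res_apply,
      TopCat.Presheaf.germ_res_apply, TopCat.Presheaf.germ_res_apply,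
      TopCat.Presheaf.germ_res_apply]
  have hkey : ∀ (z : X) (hz : z ∈ N), (s.1 ⟨z, i.le (hNV hz)⟩ = s'.1 ⟨z, i.le (hNV hz)⟩ ↔
      X.presheaf.germ N z hz c = 0) := by
    intro z hz
    have e1 : s.1 ⟨z, i.le (hNV hz)⟩ = LocalizedModule.mk (X.presheaf.germ V z (hNV hz) a)
        (regGerm ⟨z, hNV hz⟩ b) := hab ⟨z, hNV hz⟩
    have e2 : s'.1 ⟨z, i.le (hNV hz)⟩ = LocalizedModule.mk (X.presheaf.germ V' z (hNV' hz) a')
        (regGerm ⟨z, hNV' hz⟩ b') := hab' ⟨z, hNV' hz⟩
    rw [e1, e2, mk_eq_mk_iff, hcgerm z hz]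
  have hc0 : X.presheaf.germ N y.1 hyN c = 0 := by
    apply germ_eq_zero_of_generic_O ha hN c y.1 hyN
    intro η hη hgen _
    exact (hkey η hη).mp (h η (i.le (hNV hη)) hgen)
  exact (hkey y.1 hyN).mpr hc0

section Alg
variable {A : Type*} [CommRing A]

/-- simultaneous approximation of arbitrary elements of the localizations at finitely many
minimal primes by a single fraction (variant of helper4's `exists_sum_data` allowing
non-units). -/
theorem exists_sum_data' (S : Finset (Ideal A)) (hS : ∀ p ∈ S, p ∈ minimalPrimes A)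
    (c d : Ideal A → A) (hd : ∀ p ∈ S, d p ∉ p) :
    ∃ a b : A, (∀ p ∈ S, b ∉ p) ∧
      ∀ p ∈ S, ∃ t : A, t ∉ p ∧ t * (a * d p - b * c p) = 0 := by
  classical
  have hb : ∀ p : Ideal A, ∃ h : A, p ∈ S →
      (h ∉ p ∧ ∀ q ∈ S, q ≠ p → ∃ t : A, t ∉ q ∧ t * h = 0) := by
    intro p
    by_cases hp : p ∈ S
    · obtain ⟨h, h1, h2⟩ := exists_bump S hS p hp
      exact ⟨h, fun _ => ⟨h1, h2⟩⟩
    · exact ⟨0, fun h => absurd h hp⟩
  choose h hh using hb
  have hmem : ∀ p ∈ S, ∀ q ∈ S, q ≠ p → h p ∈ q := by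
    intro p hp q hq hne
    obtain ⟨t, ht, hth⟩ := (hh p hp).2 q hq hne
    haveI : q.IsPrime := (hS q hq).1.1
    have : t * h p ∈ q := by rw [hth]; exact q.zero_mem
    exact (Ideal.IsPrime.mem_or_mem ‹_› this).resolve_left ht
  have key : ∀ (e : Ideal A → A), (∀ p ∈ S, e p ∉ p) → ∀ q ∈ S, (∑ p ∈ S, h p * e p) ∉ q := by
    intro e he q hq hsum
    haveI : q.IsPrime := (hS q hq).1.1
    rw [← Finset.add_sum_erase S _ hq] at hsum
    have h2 : ∑ p ∈ S.erase q, h p * e p ∈ q := by
      apply Ideal.sum_mem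
      intro p hp
      rw [Finset.mem_erase] at hp
      exact Ideal.mul_mem_right _ _ (hmem p hp.2 q hq (Ne.symm hp.1))
    have h3 : h q * e q ∈ q := by
      have := q.sub_mem hsum h2
      rwa [add_sub_cancel_right] at this
    rcases Ideal.IsPrime.mem_or_mem ‹_› h3 with h4 | h4
    · exact (hh q hq).1 h4
    · exact he q hq h4
  refine ⟨∑ p ∈ S, h p * c p, ∑ p ∈ S, h p * d p, key d hd, ?_⟩
  intro q hq
  haveI : q.IsPrime := (hS q hq).1.1
  have ht : ∀ p : Ideal A, ∃ t : A, p ∈ S → p ≠ q → (t ∉ q ∧ t * h p = 0) := by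
    intro p
    by_cases hp : p ∈ S ∧ p ≠ q
    · obtain ⟨t, h1, h2⟩ := (hh p hp.1).2 q hq (Ne.symm hp.2)
      exact ⟨t, fun _ _ => ⟨h1, h2⟩⟩
    · exact ⟨0, fun h1 h2 => absurd ⟨h1, h2⟩ hp⟩
  choose t htt using ht
  refine ⟨∏ p ∈ S.erase q, t p, ?_, ?_⟩
  · intro hprod
    obtain ⟨p, hp, hpq⟩ := Ideal.IsPrime.prod_mem_iff.mp hprod
    rw [Finset.mem_erase] at hp
    exact (htt p hp.2 hp.1).1 hpq
  · have e1 : (∑ p ∈ S, h p * c p) * d q - (∑ p ∈ S, h p * d p) * c q =
        ∑ p ∈ S, h p * (c p * d q - d p * c q) := by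
      rw [Finset.sum_mul, Finset.sum_mul, ← Finset.sum_sub_distrib]
      apply Finset.sum_congr rfl
      intro p _
      ring
    rw [e1, ← Finset.add_sum_erase S _ hq]
    have e2 : c q * d q - d q * c q = 0 := by ring
    rw [e2, mul_zero, zero_add, Finset.mul_sum]
    apply Finset.sum_eq_zero
    intro p hp
    have hp' := Finset.mem_erase.mp hp
    rw [← Finset.mul_prod_erase _ _ hp]
    have := (htt p hp'.2 hp'.1).2
    calc (t p * ∏ x ∈ (S.erase q).erase p, t x) * (h p * (c p * d q - d p * c q))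
        = (t p * h p) * ((∏ x ∈ (S.erase q).erase p, t x) * (c p * d q - d p * c q)) := by ring
      _ = 0 := by rw [this, zero_mul]

end Alg

set_option maxHeartbeats 1600000 in
/-- on an affine open of a reduced scheme with finitely many irreducible components, there is a
meromorphic function with prescribed values at the maximal points. -/
lemma exists_local_section [IsReduced X] (hfin : (irreducibleComponents (X : Type u)).Finite)
    {W : X.Opens} (hW : IsAffineOpen W) (t : ∀ η : X, KStalk X η) :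
    ∃ σ : Γ(kmod X, W), ∀ (η : X) (hη : η ∈ W), IsGen η → σ.1 ⟨η, hη⟩ = t η := by
  classical
  have ha : ∀ x : X, Curv2.IsWeakAssPoint (Coh.structureModule X) x → ∀ y : X, y ⤳ x → y = x :=
    fun x hx => (isWeakAssPoint_structureModule_iff_of_reduced x).mp hx
  have hmin : (minimalPrimes Γ(X, W)).Finite :=
    Groth.Agent.H8.FlatUnram.finite_minimalPrimes_of_isAffineOpen hW le_rfl
      (Groth.Agent.H7.MeroRS.finite_irreducibleComponents_of_locallyFinite X
        (fun x => ⟨⊤, trivial, hfin.subset (fun Z hZ => hZ.1)⟩) W hW.isCompact)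
  have hS : ∀ p ∈ hmin.toFinset, p ∈ minimalPrimes Γ(X, W) := fun p hp =>
    hmin.mem_toFinset.mp hp
  have hdata : ∀ p : Ideal Γ(X, W), ∃ c d : Γ(X, W), p ∈ minimalPrimes Γ(X, W) →
      (d ∉ p ∧ ∀ (η : X) (hη : η ∈ W), (hW.primeIdealOf ⟨η, hη⟩).asIdeal = p →
        t η * algebraMap (X.presheaf.stalk η) (KStalk X η) (X.presheaf.germ W η hη d) =
          algebraMap (X.presheaf.stalk η) (KStalk X η) (X.presheaf.germ W η hη c)) := by
    intro p
    by_cases hp : p ∈ minimalPrimes Γ(X, W)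
    · let p' : PrimeSpectrum Γ(X, W) := ⟨p, hp.1.1⟩
      have hη₀ : hW.fromSpec p' ∈ W := fromSpec_mem hW p'
      have hgen : IsGen (hW.fromSpec p') := maximal_fromSpec_of_minimalPrimes hW p' hp
      have hE : (hW.primeIdealOf ⟨hW.fromSpec p', hη₀⟩).asIdeal = p :=
        congrArg PrimeSpectrum.asIdeal (primeIdealOf_fromSpec hW p' hη₀)
      obtain ⟨τ, hτ⟩ := (bijective_algebraMap _ hgen).2 (t (hW.fromSpec p'))
      letI := TopCat.Presheaf.algebra_section_stalk X.presheaf ⟨_, hη₀⟩
      haveI := hW.isLocalization_stalk ⟨_, hη₀⟩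
      obtain ⟨⟨c, ⟨d, hd⟩⟩, hcd⟩ := IsLocalization.surj
        (hW.primeIdealOf ⟨hW.fromSpec p', hη₀⟩).asIdeal.primeCompl τ
      have hcd' : τ * X.presheaf.germ W _ hη₀ d = X.presheaf.germ W _ hη₀ c := hcd
      have hd' : d ∉ (hW.primeIdealOf ⟨hW.fromSpec p', hη₀⟩).asIdeal := hd
      refine ⟨c, d, fun _ => ⟨by rwa [hE] at hd', ?_⟩⟩
      intro η hη hηp
      have hηeq : hW.fromSpec p' = η := by
        have h1 : hW.primeIdealOf ⟨η, hη⟩ = p' := PrimeSpectrum.ext hηp
        rw [← h1]
        exact hW.fromSpec_primeIdealOf ⟨η, hη⟩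
      subst hηeq
      rw [← hτ, ← map_mul, hcd']
    · exact ⟨0, 0, fun h => absurd h hp⟩
  choose c d hcd using hdata
  obtain ⟨a, b, hbp, hab⟩ := exists_sum_data' hmin.toFinset hS c d
    (fun p hp => (hcd p (hS p hp)).1)
  have hbnz : b ∈ nonZeroDivisors Γ(X, W) :=
    nzd_of_forall_notMem_minimal ha hW b (fun p hp => hbp p (hmin.mem_toFinset.mpr hp))
  have hbr : b ∈ regSub X W := mem_regSub_of_mem_nonZeroDivisors hW b hbnz
  refine ⟨toK X W a * invK W ⟨b, hbr⟩, ?_⟩
  intro η hη hgen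
  rw [toK_mul_invK_apply]
  have hpmin := primeIdealOf_mem_minimalPrimes_of_maximal hW η hη hgen
  obtain ⟨p, hp_def⟩ : ∃ p : Ideal Γ(X, W), p = (hW.primeIdealOf ⟨η, hη⟩).asIdeal := ⟨_, rfl⟩
  rw [← hp_def] at hpmin
  obtain ⟨hd1, hcd1⟩ := hcd p hpmin
  have hcd2 := hcd1 η hη hp_def.symm
  obtain ⟨t', ht'p, ht'⟩ := hab p (hmin.mem_toFinset.mpr hpmin)
  have ht'u : IsUnit (X.presheaf.germ W η hη t') :=
    (isUnit_germ_iff hW η hη t').mpr (hp_def ▸ ht'p)
  have hdu : IsUnit (X.presheaf.germ W η hη (d p)) :=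
    (isUnit_germ_iff hW η hη (d p)).mpr (hp_def ▸ hd1)
  have h1 : X.presheaf.germ W η hη a * X.presheaf.germ W η hη (d p) =
      X.presheaf.germ W η hη b * X.presheaf.germ W η hη (c p) := by
    have h2 := congrArg (X.presheaf.germ W η hη) ht'
    rw [map_mul, map_sub, map_mul, map_mul, map_zero] at h2
    exact sub_eq_zero.mp ((ht'u.mul_right_eq_zero).mp h2)
  have hm := Groth.Agent.H6.MeroDepth.mk_mul_algebraMap η (X.presheaf.germ W η hη a)
    (regGerm ⟨η, hη⟩ ⟨b, hbr⟩)
  have hbu : IsUnit (algebraMap (X.presheaf.stalk η) (KStalk X η)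
      (X.presheaf.germ W η hη b)) :=
    IsLocalization.map_units (KStalk X η) (regGerm ⟨η, hη⟩ ⟨b, hbr⟩)
  have hdu' : IsUnit (algebraMap (X.presheaf.stalk η) (KStalk X η)
      (X.presheaf.germ W η hη (d p))) := hdu.map _
  apply (hbu.mul hdu').mul_right_cancel
  have hm' : (LocalizedModule.mk (X.presheaf.germ W η hη a) (regGerm ⟨η, hη⟩ ⟨b, hbr⟩) :
      KStalk X η) * algebraMap (X.presheaf.stalk η) (KStalk X η) (X.presheaf.germ W η hη b) =
      algebraMap (X.presheaf.stalk η) (KStalk X η) (X.presheaf.germ W η hη a) := hm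
  calc (LocalizedModule.mk (X.presheaf.germ W η hη a) (regGerm ⟨η, hη⟩ ⟨b, hbr⟩) : KStalk X η) *
      (algebraMap (X.presheaf.stalk η) (KStalk X η) (X.presheaf.germ W η hη b) *
        algebraMap (X.presheaf.stalk η) (KStalk X η) (X.presheaf.germ W η hη (d p)))
      = algebraMap (X.presheaf.stalk η) (KStalk X η) (X.presheaf.germ W η hη a) *
        algebraMap (X.presheaf.stalk η) (KStalk X η) (X.presheaf.germ W η hη (d p)) := by
        rw [← mul_assoc, hm']
    _ = algebraMap (X.presheaf.stalk η) (KStalk X η) (X.presheaf.germ W η hη b) *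
        algebraMap (X.presheaf.stalk η) (KStalk X η) (X.presheaf.germ W η hη (c p)) := by
        rw [← map_mul, h1, map_mul]
    _ = t η * (algebraMap (X.presheaf.stalk η) (KStalk X η) (X.presheaf.germ W η hη b) *
        algebraMap (X.presheaf.stalk η) (KStalk X η) (X.presheaf.germ W η hη (d p))) := by
        rw [← hcd2]; ring

set_option maxHeartbeats 800000 in
/-- on a reduced scheme with finitely many irreducible components, there is a meromorphic
function on any open with prescribed values at the maximal points. -/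
lemma exists_section [IsReduced X] (hfin : (irreducibleComponents (X : Type u)).Finite)
    (U : X.Opens) (t : ∀ η : X, KStalk X η) :
    ∃ s : Γ(kmod X, U), ∀ (η : X) (hη : η ∈ U), IsGen η → s.1 ⟨η, hη⟩ = t η := by
  have hloc : ∀ x : U, ∃ (W : X.Opens) (_ : x.1 ∈ W) (_ : W ≤ U) (σ : Γ(kmod X, W)),
      ∀ (η : X) (hη : η ∈ W), IsGen η → σ.1 ⟨η, hη⟩ = t η := by
    intro x
    obtain ⟨W, hWaff, hxW, hWU'⟩ := exists_isAffineOpen_mem_and_subset (x := x.1) (U := U) x.2
    obtain ⟨σ, hσ⟩ := exists_local_section hfin hWaff t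
    exact ⟨W, hxW, hWU', σ, hσ⟩
  choose W hxW hWU sf hsf using hloc
  have compat : ∀ x x' : U,
      (kmod X).presheaf.map (homOfLE (inf_le_left : W x ⊓ W x' ≤ W x)).op (sf x) =
        (kmod X).presheaf.map (homOfLE (inf_le_right : W x ⊓ W x' ≤ W x')).op (sf x') := by
    intro x x'
    apply eq_of_generic
    intro η hη hgen
    change (sf x).1 ⟨η, hη.1⟩ = (sf x').1 ⟨η, hη.2⟩
    rw [hsf x η hη.1 hgen, hsf x' η hη.2 hgen]
  obtain ⟨σ, hσ⟩ := exists_glue_section (kmod X) W U hWU
    (fun y hy => (Opens.mem_iSup).mpr ⟨⟨y, hy⟩, hxW ⟨y, hy⟩⟩) sf compat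
  refine ⟨σ, fun η hη hgen => ?_⟩
  have h1 := congrArg (fun t : Γ(kmod X, W ⟨η, hη⟩) => t.1 ⟨η, hxW ⟨η, hη⟩⟩) (hσ ⟨η, hη⟩)
  exact (h1 : σ.1 ⟨η, _⟩ = _).trans (hsf ⟨η, hη⟩ η (hxW ⟨η, hη⟩) hgen)

/-- **S10961**. -/
theorem main (X : Scheme.{u}) [IsReduced X]
    (hfin : (irreducibleComponents (X : Type u)).Finite) (U : X.Opens) :
    Function.Bijective (fun s : Γ(Mero.kmod X, U) =>
      fun x : {x : U // closure ({x.1} : Set X) ∈ irreducibleComponents (X : Type u)} =>
        Mero.evalK X U x.1 s) ∧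
    (∀ x : X, closure ({x} : Set X) ∈ irreducibleComponents (X : Type u) →
      IsField (X.presheaf.stalk x) ∧
        Function.Bijective (algebraMap (X.presheaf.stalk x) (Mero.KStalk X x))) := by
  classical
  refine ⟨⟨?_, ?_⟩, ?_⟩
  · intro s s' hss'
    apply eq_of_generic
    intro η hη hgen
    exact congrFun hss' ⟨⟨η, hη⟩, closure_mem_of_isGen η hgen⟩
  · intro τ
    obtain ⟨t, ht⟩ : ∃ t : ∀ η : X, KStalk X η, ∀ η, t η =
        if h : η ∈ U ∧ closure ({η} : Set X) ∈ irreducibleComponents (X : Type u) then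
          τ ⟨⟨η, h.1⟩, h.2⟩ else 0 := ⟨_, fun _ => rfl⟩
    obtain ⟨s, hs⟩ := exists_section hfin U t
    refine ⟨s, ?_⟩
    funext x
    change s.1 x.1 = τ x
    have h1 := hs x.1.1 x.1.2 (isGen_of_closure_mem _ x.2)
    rw [ht, dif_pos ⟨x.1.2, x.2⟩] at h1
    exact h1
  · intro x hx
    have hgen := isGen_of_closure_mem x hx
    exact ⟨isField_stalk x hgen, bijective_algebraMap x hgen⟩

end Groth.Agent.H7.MeroGen
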