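import Mathlib
import Groth.Agent.Lib.Lead.QC.NegTwist
import Groth.Agent.Lib.Lead.QC.SubExt
import Groth.Agent.H4.MeroK2
import Groth.Agent.Lib.Helper3.MeroPull
import Groth.Agent.Lib.Helper1.CartierKit
import Groth.Prelude.Def_MeroDiv

/-! helper7: torsion-free quasi-coherent modules on locally Noetherian schemes (S5084). -/

set_option autoImplicit false

universe u

open CategoryTheory Limits AlgebraicGeometry TopologicalSpace Opposite

namespace Groth.Agent.H7.MeroTF

open Mero Groth.Agent.LD.QC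

attribute [-instance] Groth.Agent.LD.QC.stalkModule

/-- ring lemma: an element which is a nonzerodivisor in the localization at a prime `P` of a
Noetherian ring has annihilator killed by some `g ∉ P`. -/
theorem exists_notMem_forall_mul_eq_zero {A S : Type*} [CommRing A] [IsNoetherianRing A]
    [CommRing S] [Algebra A S] (P : Ideal A) [P.IsPrime] [IsLocalization.AtPrime S P] (f : A)
    (hf : algebraMap A S f ∈ nonZeroDivisors S) :
    ∃ g, g ∉ P ∧ ∀ a : A, a * f = 0 → g * a = 0 := by
  obtain ⟨K, hK⟩ : ∃ K : Ideal A, K = LinearMap.ker (LinearMap.toSpanSingleton A A f) := ⟨_, rfl⟩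
  have hmemK : ∀ a : A, a ∈ K ↔ a * f = 0 := by
    intro a
    rw [hK, LinearMap.mem_ker, LinearMap.toSpanSingleton_apply, smul_eq_mul]
  haveI : Module.Finite A K := Module.Finite.of_fg (IsNoetherian.noetherian K)
  have h1 : (⟨P, inferInstance⟩ : PrimeSpectrum A) ∉ Module.support A K := by
    rw [Module.notMem_support_iff']
    rintro ⟨a, ha⟩
    have ha' : a * f = 0 := (hmemK a).mp ha
    have h2 : algebraMap A S a * algebraMap A S f = 0 := by rw [← map_mul, ha', map_zero]
    have h3 : algebraMap A S a = 0 := (mem_nonZeroDivisors_iff_right.mp hf) _ h2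
    obtain ⟨⟨c, hc⟩, hca⟩ := (IsLocalization.map_eq_zero_iff P.primeCompl S a).mp h3
    refine ⟨c, hc, ?_⟩
    apply Subtype.ext
    change c * a = 0
    exact hca
  rw [Module.mem_support_iff_of_finite, SetLike.not_le_iff_exists] at h1
  obtain ⟨g, hg, hgP⟩ := h1
  refine ⟨g, hgP, fun a ha ↦ ?_⟩
  have h4 := (Module.mem_annihilator.mp hg) ⟨a, (hmemK a).mpr ha⟩
  exact congrArg Subtype.val h4

variable {X : Scheme.{u}}

/-- on a locally Noetherian scheme, a function whose germ at `x` is a nonzerodivisor is a regular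
section on a neighbourhood of `x`. -/
theorem exists_mem_regSub [IsLocallyNoetherian X] {U : X.Opens} (hU : IsAffineOpen U) (x : X)
    (hx : x ∈ U) (f : Γ(X, U))
    (hf : X.presheaf.germ U x hx f ∈ nonZeroDivisors (X.presheaf.stalk x)) :
    ∃ g : Γ(X, U), x ∈ X.basicOpen g ∧
      X.presheaf.map (homOfLE (X.basicOpen_le g)).op f ∈ regSub X (X.basicOpen g) := by
  haveI : IsNoetherianRing Γ(X, U) := IsLocallyNoetherian.component_noetherian ⟨U, hU⟩
  letI : Algebra Γ(X, U) (X.presheaf.stalk x) := (X.presheaf.germ U x hx).hom.toAlgebra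
  haveI hloc : IsLocalization.AtPrime (X.presheaf.stalk x) (hU.primeIdealOf ⟨x, hx⟩).asIdeal :=
    hU.isLocalization_stalk ⟨x, hx⟩
  obtain ⟨g, hgP, hg⟩ := exists_notMem_forall_mul_eq_zero (S := X.presheaf.stalk x)
    (hU.primeIdealOf ⟨x, hx⟩).asIdeal f hf
  have hxg : x ∈ X.basicOpen g := by
    by_contra hc
    exact hgP ((Groth.Agent.H1.CartierKit.mem_primeIdealOf_iff hU x hx g).mpr hc)
  refine ⟨g, hxg, ?_⟩
  apply Groth.Agent.H4.MeroK.mem_regSub_of_mem_nonZeroDivisors (hU.basicOpen g)
  letI : Algebra Γ(X, U) Γ(X, X.basicOpen g) :=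
    (X.presheaf.map (homOfLE (X.basicOpen_le g)).op).hom.toAlgebra
  haveI : IsLocalization.Away g Γ(X, X.basicOpen g) := hU.isLocalization_basicOpen g
  rw [mem_nonZeroDivisors_iff_right]
  intro b hb
  obtain ⟨⟨a, ⟨_, n, rfl⟩⟩, hab⟩ := IsLocalization.surj (Submonoid.powers g) b
  change b * algebraMap Γ(X, U) Γ(X, X.basicOpen g) (g ^ n) =
    algebraMap Γ(X, U) Γ(X, X.basicOpen g) a at hab
  change b * algebraMap Γ(X, U) Γ(X, X.basicOpen g) f = 0 at hb
  have h1 : algebraMap Γ(X, U) Γ(X, X.basicOpen g) (a * f) = 0 := by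
    rw [map_mul, ← hab, mul_right_comm, hb, zero_mul]
  obtain ⟨⟨_, N, rfl⟩, hN⟩ := (IsLocalization.map_eq_zero_iff (Submonoid.powers g)
    Γ(X, X.basicOpen g) (a * f)).mp h1
  change g ^ N * (a * f) = 0 at hN
  have h2 : g * (g ^ N * a) = 0 := hg (g ^ N * a) (by rw [mul_assoc]; exact hN)
  have h3 : algebraMap Γ(X, U) Γ(X, X.basicOpen g) a = 0 := by
    rw [IsLocalization.map_eq_zero_iff (Submonoid.powers g)]
    refine ⟨⟨g ^ (N + 1), N + 1, rfl⟩, ?_⟩
    change g ^ (N + 1) * a = 0
    rw [pow_succ', mul_assoc]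
    exact h2
  rw [h3] at hab
  have hu : IsUnit (algebraMap Γ(X, U) Γ(X, X.basicOpen g) (g ^ n)) :=
    IsLocalization.map_units Γ(X, X.basicOpen g) (⟨g ^ n, n, rfl⟩ : Submonoid.powers g)
  exact (hu.mul_left_eq_zero).mp hab

/-- the maximal ideal of a Noetherian local ring which is not associated contains a
nonzerodivisor. -/
theorem exists_mem_maximalIdeal_nonZeroDivisors {R : Type*} [CommRing R] [IsLocalRing R]
    [IsNoetherianRing R]
    (h : ¬ IsAssociatedPrime (IsLocalRing.maximalIdeal R) R) :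
    ∃ t ∈ IsLocalRing.maximalIdeal R, t ∈ nonZeroDivisors R := by
  by_contra hcon
  push_neg at hcon
  have h1 : ((IsLocalRing.maximalIdeal R : Ideal R) : Set R) ⊆
      ⋃ p ∈ associatedPrimes R R, (p : Set R) := by
    rw [biUnion_associatedPrimes_eq_compl_nonZeroDivisors]
    intro t ht
    exact hcon t ht
  obtain ⟨P, hP, hle⟩ := ((IsLocalRing.maximalIdeal R).subset_union_prime_finite
    (associatedPrimes.finite R R) (f := id) 0 0 fun _ h _ _ ↦ h.isPrime).1 h1
  have hPprime : P.IsPrime := hP.isPrime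
  have := (IsLocalRing.maximalIdeal.isMaximal R).eq_of_le hPprime.ne_top hle
  exact h (this ▸ hP)

/-- **S5084**. -/
theorem S5084_main (X : Scheme.{u}) [IsLocallyNoetherian X]
    (F : X.Modules) (hF : Coh.IsQCoh F) :
    Mono (Mero.toMer F) ↔
      ∀ x : ↥X, Curv2.IsAssPoint F x →
        IsAssociatedPrime (IsLocalRing.maximalIdeal ↑(X.presheaf.stalk x))
          ↑(X.presheaf.stalk x) := by
  haveI : F.IsQuasicoherent := hF
  constructor
  · intro hmono x hx
    by_contra hnot
    obtain ⟨t, htm, htreg⟩ := exists_mem_maximalIdeal_nonZeroDivisors hnot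
    obtain ⟨-, ξ, hξ⟩ := (isAssociatedPrime_iff (R := X.presheaf.stalk x)
      (M := F.presheaf.stalk x)).mp hx
    have htξ : t • ξ = 0 := by
      have : t ∈ Submodule.colon (⊥ : Submodule (X.presheaf.stalk x) (F.presheaf.stalk x)) {ξ} :=
        hξ ▸ htm
      rw [Submodule.mem_colon_singleton] at this
      exact (Submodule.mem_bot _).mp this
    have hξ0 : ξ ≠ 0 := by
      rintro rfl
      have h1 : (1 : X.presheaf.stalk x) ∈ IsLocalRing.maximalIdeal (X.presheaf.stalk x) := by
        rw [hξ, Submodule.mem_colon_singleton, smul_zero]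
        exact Submodule.zero_mem _
      exact (IsLocalRing.maximalIdeal.isMaximal _).ne_top
        ((Ideal.eq_top_iff_one _).mpr h1)
    -- represent `t` and `ξ` by sections
    obtain ⟨V1, hxV1, f1, hf1⟩ := TopCat.Presheaf.exists_germ_eq X.presheaf t
    obtain ⟨V2, hxV2, m2, hm2⟩ := TopCat.Presheaf.exists_germ_eq F.presheaf ξ
    -- common affine neighbourhood
    obtain ⟨W, hW, hxW, hWV⟩ := exists_isAffineOpen_mem_and_subset (x := x) (U := V1 ⊓ V2)
      ⟨hxV1, hxV2⟩
    have hW1 : W ≤ V1 := fun y hy => (hWV hy).1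
    have hW2 : W ≤ V2 := fun y hy => (hWV hy).2
    obtain ⟨f, hfdef⟩ : ∃ f : Γ(X, W), f = X.presheaf.map (homOfLE hW1).op f1 := ⟨_, rfl⟩
    obtain ⟨m, hmdef⟩ : ∃ m : Γ(F, W), m = F.presheaf.map (homOfLE hW2).op m2 := ⟨_, rfl⟩
    have hfg : X.presheaf.germ W x hxW f = t := by
      rw [hfdef, TopCat.Presheaf.germ_res_apply]; exact hf1
    have hmg : F.presheaf.germ W x hxW m = ξ := by
      rw [hmdef, TopCat.Presheaf.germ_res_apply]; exact hm2
    obtain ⟨g, hxg, hreg⟩ := exists_mem_regSub hW x hxW f (hfg ▸ htreg)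
    have h0 : F.presheaf.germ W x hxW (f • m) = F.presheaf.germ W x hxW 0 := by
      rw [Mero.germ_smul, hfg, hmg, htξ, map_zero]
    obtain ⟨W', hxW', i1, i2, h4⟩ := TopCat.Presheaf.germ_eq F.presheaf x hxW hxW (f • m) 0 h0
    rw [map_zero] at h4
    have hW'W : W' ≤ W := i1.le
    obtain ⟨D, hDdef⟩ : ∃ D : X.Opens, D = X.basicOpen g ⊓ W' := ⟨_, rfl⟩
    have hxD : x ∈ D := hDdef ▸ ⟨hxg, hxW'⟩
    have hDg : D ≤ X.basicOpen g := hDdef ▸ inf_le_left
    have hDW' : D ≤ W' := hDdef ▸ inf_le_right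
    have hDW : D ≤ W := hDW'.trans hW'W
    -- the restriction of `m` to `D` is killed by `toMer`
    have hker : Mero.toMerFun F D (F.presheaf.map (homOfLE hDW).op m) = 0 := by
      apply Subtype.ext
      funext y
      rw [Mero.toMerFun_apply]
      change _ = (0 : Mero.MStalk F y.1)
      rw [← LocalizedModule.zero_mk (1 : Mero.regStalk X y.1), LocalizedModule.mk_eq]
      have hfy : X.presheaf.germ W y.1 (hDW y.2) f ∈ Mero.regStalk X y.1 := by
        have h5 := Mero.germ_mem_regStalk (X := X) ⟨y.1, hDg y.2⟩ hreg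
        rw [TopCat.Presheaf.germ_res_apply] at h5
        exact h5
      refine ⟨⟨_, hfy⟩, ?_⟩
      rw [smul_zero, smul_zero, one_smul]
      change X.presheaf.germ W y.1 (hDW y.2) f •
        F.presheaf.germ D y.1 y.2 (F.presheaf.map (homOfLE hDW).op m) = 0
      rw [TopCat.Presheaf.germ_res_apply, ← Mero.germ_smul]
      have h6 : F.presheaf.germ W' y.1 (hDW' y.2) (F.presheaf.map i1.op (f • m)) = 0 := by
        rw [h4, map_zero]
      rw [TopCat.Presheaf.germ_res_apply] at h6
      exact h6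
    have hinj := mono_app (Mero.toMer F) D
    have hzero : F.presheaf.map (homOfLE hDW).op m = 0 := by
      apply hinj
      rw [map_zero]
      exact hker
    apply hξ0
    rw [← hmg, ← TopCat.Presheaf.germ_res_apply F.presheaf (homOfLE hDW) x hxD m, hzero, map_zero]
  · intro h
    apply mono_of_injective_app
    intro W a b hab
    have key : ∀ m : Γ(F, W), (Mero.toMer F).app W m = 0 → m = 0 := by
      intro m hm
      apply section_ext_of_cover F (fun V : {V : X.affineOpens // V.1 ≤ W} => V.1.1)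
        (fun V => V.2) (le_iSup_affineOpens W)
      intro V
      rw [map_zero]
      by_contra hne
      obtain ⟨x, hxV, hxass, hx⟩ :=
        Groth.Agent.LD.NegTwist.exists_assPoint_of_ne_zero F V.1.2 _ hne
      have hxW : x ∈ W := V.2 hxV
      have hOx := h x hxass
      have h1 : ((Mero.toMerFun F W m).1 ⟨x, hxW⟩ : Mero.MStalk F x) = 0 := by
        have : Mero.toMerFun F W m = 0 := hm
        rw [this]
        rfl
      rw [Mero.toMerFun_apply] at h1
      obtain ⟨u, hu⟩ := LocalizedModule.mk_eq.mp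
        (h1.trans (LocalizedModule.zero_mk (1 : Mero.regStalk X x)).symm)
      simp only [one_smul, smul_zero] at hu
      have hunit : IsUnit (u : X.presheaf.stalk x) :=
        Groth.Agent.H3.MeroPull.isUnit_of_mem_nonZeroDivisors_of_isAssociatedPrime hOx
          (Mero.regStalk_le_nonZeroDivisors x u.2)
      have hu' : (u : X.presheaf.stalk x) • F.presheaf.germ W x hxW m = 0 := hu
      have hgerm : F.presheaf.germ W x hxW m = 0 := (hunit.smul_eq_zero).mp hu'
      have hgermV : F.presheaf.germ V.1.1 x hxV (F.presheaf.map (homOfLE V.2).op m) =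
          F.presheaf.germ V.1.1 x hxV 0 := by
        rw [TopCat.Presheaf.germ_res_apply, map_zero]; exact hgerm
      obtain ⟨W'', hxW'', i1, i2, h4⟩ := TopCat.Presheaf.germ_eq F.presheaf x hxV hxV _ 0 hgermV
      rw [map_zero] at h4
      exact hx W'' i1.le hxW'' h4
    have : a - b = 0 := key (a - b) (by rw [map_sub, hab, sub_self])
    exact sub_eq_zero.mp this

end Groth.Agent.H7.MeroTF
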