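import Mathlib
import Groth.Agent.Lib.Helper7.MeroSec2
import Groth.Agent.Lib.Lead.QC.TensorDescAll

/-! helper7: `O_X(D) ⊗ O_X(E) ≅ O_X(D E)` (S19455). -/

set_option autoImplicit false
universe u
open CategoryTheory Limits AlgebraicGeometry TopologicalSpace Opposite

namespace Groth.Agent.H7.MeroTens

open Mero Groth.Agent.LD.QC Groth.Agent.H4.MeroK Groth.Agent.H3.MeroDivInj
  Groth.Agent.H4.MeroReg Groth.Agent.H7.MeroInv Groth.Agent.H7.MeroTriv Groth.Agent.H7.MeroSec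
  Groth.Agent.H7.MeroSec2

attribute [-instance] Groth.Agent.LD.QC.stalkModule

variable {X : Scheme.{u}}

lemma mul_apply (D E : Divisor X) (y : X) : (D * E).1 y = D.1 y * E.1 y := rfl

/-- the product of sections of `O_X(D)` and `O_X(E)` satisfies the condition of `O_X(D E)`. -/
lemma divCond_mul (D E : Divisor X) (y : X) (t t' : KStalk X y) (h : DivCond D y t)
    (h' : DivCond E y t') : DivCond (D * E) y (t * t') := by
  obtain ⟨g₁, hg₁⟩ := QuotientGroup.mk_surjective (D.1 y)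
  obtain ⟨g₂, hg₂⟩ := QuotientGroup.mk_surjective (E.1 y)
  apply divCond_of_rep (D * E) y (g₁ * g₂)
  · rw [mul_apply, ← hg₁, ← hg₂]
    rfl
  · have h1 := mul_mem (h g₁ hg₁.symm) (h' g₂ hg₂.symm)
    have h2 : t * t' * ((g₁ * g₂ : (KStalk X y)ˣ) : KStalk X y) = t * g₁ * (t' * g₂) := by
      rw [Units.val_mul]; ring
    rw [h2]
    exact h1

/-- the product of a section of `O_X(D)` and a section of `O_X(E)`. -/
noncomputable def mulSec (D E : Divisor X) (U : X.Opens) (t : Γ(divMod D, U))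
    (t' : Γ(divMod E, U)) : Γ(divMod (D * E), U) :=
  ⟨fun y => t.1 y * t'.1 y,
    ⟨kLoc_mul X U t.1 t'.1 t.2.1 t'.2.1,
      fun y => divCond_mul D E y.1 _ _ (t.2.2 y) (t'.2.2 y)⟩⟩

lemma smul_apply (D : Divisor X) (U : X.Opens) (a : Γ(X, U)) (t : Γ(divMod D, U)) (y : U) :
    (a • t).1 y = X.presheaf.germ U y.1 y.2 a • t.1 y := rfl

/-- the product as a bilinear map. -/
noncomputable def mulBil (D E : Divisor X) (U : X.Opens) :
    Γ(divMod D, U) →ₗ[Γ(X, U)] Γ(divMod E, U) →ₗ[Γ(X, U)] Γ(divMod (D * E), U) :=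
  LinearMap.mk₂ Γ(X, U) (mulSec D E U)
    (fun t₁ t₂ t' => Subtype.ext <| funext fun y => add_mul (t₁.1 y) (t₂.1 y) (t'.1 y))
    (fun a t t' => Subtype.ext <| funext fun y => by
      change (a • t).1 y * t'.1 y = (a • mulSec D E U t t').1 y
      rw [smul_apply, smul_apply, smul_mul_assoc]
      rfl)
    (fun t t₁' t₂' => Subtype.ext <| funext fun y => mul_add (t.1 y) (t₁'.1 y) (t₂'.1 y))
    (fun a t t' => Subtype.ext <| funext fun y => by
      change t.1 y * (a • t').1 y = (a • mulSec D E U t t').1 y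
      rw [smul_apply, smul_apply, mul_smul_comm]
      rfl)

lemma mulBil_apply (D E : Divisor X) (U : X.Opens) (t : Γ(divMod D, U)) (t' : Γ(divMod E, U)) :
    mulBil D E U t t' = mulSec D E U t t' := rfl

/-- the multiplication morphism. -/
noncomputable def mulHom (D E : Divisor X) :
    CohB1.tensorMod (divMod D) (divMod E) ⟶ divMod (D * E) :=
  tensorDescAll (divMod D) (divMod E) (divMod (D * E)) (mulBil D E)
    (fun _ _ _ _ _ => rfl)

lemma mulHom_tmul (D E : Divisor X) (U : X.Opens) (t : Γ(divMod D, U)) (t' : Γ(divMod E, U)) :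
    (mulHom D E).app U (SecTwist.tmul (divMod D) (divMod E) U t t') = mulSec D E U t t' :=
  tensorDescAll_app_tmul (divMod D) (divMod E) (divMod (D * E)) (mulBil D E)
    (fun _ _ _ _ _ => rfl) U t t'

lemma germOf_mul {U : X.Opens} (f g : (Γ(kmod X, U))ˣ) (y : U) :
    germOf (f * g) y = germOf f y * germOf g y := by
  unfold germOf
  rw [map_mul, QuotientGroup.mk_mul]

lemma isIso_mulHom (D E : Divisor X) : IsIso (mulHom D E) := by
  apply isIso_of_forall_isBasisOver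
  intro x
  obtain ⟨U₁, hx₁, f, hf⟩ := D.2 x
  obtain ⟨U₂, hx₂, g, hg⟩ := E.2 x
  obtain ⟨W, hW⟩ : ∃ W : X.Opens, W = U₁ ⊓ U₂ := ⟨_, rfl⟩
  have hW₁ : W ≤ U₁ := hW ▸ inf_le_left
  have hW₂ : W ≤ U₂ := hW ▸ inf_le_right
  obtain ⟨fW, hfWdef⟩ : ∃ fW, fW = resUnit hW₁ f := ⟨_, rfl⟩
  obtain ⟨gW, hgWdef⟩ : ∃ gW, gW = resUnit hW₂ g := ⟨_, rfl⟩
  have hfW : ∀ y : W, D.1 y.1 = germOf fW y := fun y => by
    rw [hfWdef, germOf_resUnit]; exact hf ⟨y.1, hW₁ y.2⟩
  have hgW : ∀ y : W, E.1 y.1 = germOf gW y := fun y => by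
    rw [hgWdef, germOf_resUnit]; exact hg ⟨y.1, hW₂ y.2⟩
  have hfg : ∀ y : W, (D * E).1 y.1 = germOf (fW * gW) y := fun y => by
    rw [germOf_mul, mul_apply, hfW y, hgW y]
  refine ⟨W, SecTwist.tmul (divMod D) (divMod E) W (invSec D fW hfW) (invSec E gW hgW),
    hW ▸ ⟨hx₁, hx₂⟩, (isBasisOver_invSec D fW hfW).tmul (isBasisOver_invSec E gW hgW), ?_⟩
  rw [mulHom_tmul]
  have h1 : mulSec D E W (invSec D fW hfW) (invSec E gW hgW) = invSec (D * E) (fW * gW) hfg := by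
    apply Subtype.ext
    funext y
    change ((fW⁻¹ : (Γ(kmod X, W))ˣ) : Γ(kmod X, W)).1 y *
      ((gW⁻¹ : (Γ(kmod X, W))ˣ) : Γ(kmod X, W)).1 y =
      (((fW * gW)⁻¹ : (Γ(kmod X, W))ˣ) : Γ(kmod X, W)).1 y
    rw [mul_inv, Units.val_mul]
    rfl
  rw [h1]
  exact isBasisOver_invSec (D * E) (fW * gW) hfg

/-- **S19455**. -/
theorem main (X : Scheme.{u}) [IsIntegral X] (D E : Mero.Divisor X) :
    ∃ μ : CohB1.tensorMod (Mero.divMod D) (Mero.divMod E) ⟶ Mero.divMod (D * E),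
      (∀ (U : X.Opens) (t : Γ(Mero.divMod D, U)) (t' : Γ(Mero.divMod E, U)),
        (Mero.divModι (D * E)).app U
          (μ.app U (SecTwist.tmul (Mero.divMod D) (Mero.divMod E) U t t')) =
          (Mero.divModι D).app U t * (Mero.divModι E).app U t') ∧
      IsIso μ := by
  refine ⟨mulHom D E, ?_, isIso_mulHom D E⟩
  intro U t t'
  rw [mulHom_tmul]
  rfl

end Groth.Agent.H7.MeroTens
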