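import Mathlib
import Groth.Prelude.Def_EtMil
import Groth.Agent.Lib.Helper7.Old.Milnor
universe u

namespace Groth.Agent.H7.Milnor

open TensorProduct

theorem S17901 (R B' B A' A : Type u) [CommRing R] [CommRing B'] [CommRing B] [CommRing A']
    [CommRing A]
    [Algebra B' B] [Algebra B' A'] [Algebra B A] [Algebra A' A] [Algebra B' A]
    [IsScalarTower B' B A] [IsScalarTower B' A' A]
    [Algebra R B'] [Algebra R B] [Algebra R A'] [Algebra R A]
    [IsScalarTower R B' B] [IsScalarTower R B' A'] [IsScalarTower R B' A] [IsScalarTower R B A]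
    [IsScalarTower R A' A]
    (hsq : EtMil.IsFibreSquare B' B A' A) [Module.Flat R A]
    (R' : Type u) [CommRing R'] [Algebra R R'] :
    Function.Surjective (Algebra.TensorProduct.map (AlgHom.id R R')
      (IsScalarTower.toAlgHom R A' A)) ∧
    ∀ (x : R' ⊗[R] B) (y : R' ⊗[R] A'),
      Algebra.TensorProduct.map (AlgHom.id R R') (IsScalarTower.toAlgHom R B A) x =
        Algebra.TensorProduct.map (AlgHom.id R R') (IsScalarTower.toAlgHom R A' A) y →
      ∃! z : R' ⊗[R] B',
        Algebra.TensorProduct.map (AlgHom.id R R') (IsScalarTower.toAlgHom R B' B) z = x ∧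
        Algebra.TensorProduct.map (AlgHom.id R R') (IsScalarTower.toAlgHom R B' A') z = y := by
  -- translate to lTensor
  have hmap : ∀ {S T : Type u} [CommRing S] [CommRing T] [Algebra R S] [Algebra R T]
      (f : S →ₐ[R] T) (w : R' ⊗[R] S),
      Algebra.TensorProduct.map (AlgHom.id R R') f w = f.toLinearMap.lTensor R' w := by
    intro S T _ _ _ _ f w
    induction w using TensorProduct.induction_on with
    | zero => simp
    | tmul r s => simp
    | add a b ha hb => rw [map_add, map_add, ha, hb]
  set fBA := (IsScalarTower.toAlgHom R B A).toLinearMap with hfBA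
  set fA'A := (IsScalarTower.toAlgHom R A' A).toLinearMap with hfA'A
  set fB'B := (IsScalarTower.toAlgHom R B' B).toLinearMap with hfB'B
  set fB'A' := (IsScalarTower.toAlgHom R B' A').toLinearMap with hfB'A'
  -- the exact sequence
  set ι : B' →ₗ[R] B × A' := LinearMap.prod fB'B fB'A' with hι
  set δ : B × A' →ₗ[R] A := LinearMap.coprod fBA (-fA'A) with hδ
  have hιapp : ∀ b', ι b' = (algebraMap B' B b', algebraMap B' A' b') := fun b' => rfl
  have hδapp : ∀ z, δ z = algebraMap B A z.1 - algebraMap A' A z.2 := by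
    intro z
    simp [hδ, hfBA, hfA'A, sub_eq_add_neg]
  have hex : Function.Exact ι δ := by
    rintro ⟨b, a'⟩
    rw [hδapp]
    constructor
    · intro h
      obtain ⟨b', ⟨h1, h2⟩, -⟩ := hsq.2 b a' (sub_eq_zero.mp h)
      exact ⟨b', by rw [hιapp, h1, h2]⟩
    · rintro ⟨b', hb'⟩
      rw [hιapp, Prod.mk.injEq] at hb'
      rw [← hb'.1, ← hb'.2, ← IsScalarTower.algebraMap_apply, ← IsScalarTower.algebraMap_apply,
        sub_self]
  have hδs : Function.Surjective δ := by
    intro a
    obtain ⟨a', rfl⟩ := hsq.1 a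
    exact ⟨(0, -a'), by rw [hδapp]; simp⟩
  have hιi : Function.Injective ι := by
    intro x y hxy
    rw [hιapp, hιapp, Prod.mk.injEq] at hxy
    exact eq_of_eq hsq x y hxy.1 hxy.2
  have hinj : Function.Injective (ι.lTensor R') :=
    LinearMap.lTensor_injective_of_exact_of_flat δ hδs ι hιi hex R'
  have hex' : Function.Exact (ι.lTensor R') (δ.lTensor R') := lTensor_exact R' hex hδs
  have hfst : (LinearMap.fst R B A').comp ι = fB'B := by ext; rfl
  have hsnd : (LinearMap.snd R B A').comp ι = fB'A' := by ext; rfl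
  have hδl : δ.comp (LinearMap.inl R B A') = fBA := by ext; simp [hδ]
  have hδr : δ.comp (LinearMap.inr R B A') = -fA'A := by ext; simp [hδ]
  refine ⟨?_, ?_⟩
  · intro w
    obtain ⟨v, hv⟩ := LinearMap.lTensor_surjective R' (g := fA'A) hsq.1 w
    exact ⟨v, by rw [hmap]; exact hv⟩
  · intro x y hxy
    rw [hmap, hmap] at hxy
    have hw : δ.lTensor R' ((LinearMap.inl R B A').lTensor R' x +
        (LinearMap.inr R B A').lTensor R' y) = 0 := by
      rw [map_add, ← LinearMap.comp_apply, ← LinearMap.comp_apply, ← LinearMap.lTensor_comp,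
        ← LinearMap.lTensor_comp, hδl, hδr, LinearMap.lTensor_neg, LinearMap.neg_apply]
      rw [show (IsScalarTower.toAlgHom R B A).toLinearMap = fBA from rfl,
        show (IsScalarTower.toAlgHom R A' A).toLinearMap = fA'A from rfl] at hxy
      rw [hxy, add_neg_cancel]
    obtain ⟨z, hz⟩ := (hex' _).mp hw
    have hz1 : fB'B.lTensor R' z = x := by
      rw [← hfst, LinearMap.lTensor_comp, LinearMap.comp_apply, hz, map_add,
        ← LinearMap.comp_apply, ← LinearMap.comp_apply, ← LinearMap.lTensor_comp,
        ← LinearMap.lTensor_comp, LinearMap.fst_comp_inl, LinearMap.fst_comp_inr,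
        LinearMap.lTensor_id, LinearMap.lTensor_zero]
      simp
    have hz2 : fB'A'.lTensor R' z = y := by
      rw [← hsnd, LinearMap.lTensor_comp, LinearMap.comp_apply, hz, map_add,
        ← LinearMap.comp_apply, ← LinearMap.comp_apply, ← LinearMap.lTensor_comp,
        ← LinearMap.lTensor_comp, LinearMap.snd_comp_inl, LinearMap.snd_comp_inr,
        LinearMap.lTensor_id, LinearMap.lTensor_zero]
      simp
    refine ⟨z, ⟨by rw [hmap]; exact hz1, by rw [hmap]; exact hz2⟩, ?_⟩
    rintro z' ⟨h1, h2⟩
    rw [hmap] at h1 h2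
    apply hinj
    have hid : (LinearMap.inl R B A').comp (LinearMap.fst R B A') +
        (LinearMap.inr R B A').comp (LinearMap.snd R B A') = LinearMap.id := by
      ext <;> simp
    have hdec : ∀ t : R' ⊗[R] B', ι.lTensor R' t =
        (LinearMap.inl R B A').lTensor R' (fB'B.lTensor R' t) +
          (LinearMap.inr R B A').lTensor R' (fB'A'.lTensor R' t) := by
      intro t
      rw [← hfst, ← hsnd, ← LinearMap.comp_apply, ← LinearMap.comp_apply,
        ← LinearMap.lTensor_comp, ← LinearMap.lTensor_comp, ← LinearMap.add_apply,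
        ← LinearMap.lTensor_add, ← LinearMap.comp_assoc, ← LinearMap.comp_assoc,
        ← LinearMap.add_comp, hid, LinearMap.id_comp]
    rw [hdec z', hdec z]
    rw [show (IsScalarTower.toAlgHom R B' B).toLinearMap = fB'B from rfl] at h1
    rw [show (IsScalarTower.toAlgHom R B' A').toLinearMap = fB'A' from rfl] at h2
    rw [h1, h2, hz1, hz2]

end Groth.Agent.H7.Milnor
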