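import Mathlib

namespace Groth.Agent.H7.ModRepSyl

universe u v w

theorem main {k : Type u} [Field k] (p : ℕ) [Fact p.Prime]
    [CharP k p] {G : Type v} [Group G] [Finite G] (P : Sylow p G)
    {B C : Type w} [AddCommGroup B] [Module k B] [AddCommGroup C] [Module k C]
    (ρB : Representation k G B) (ρC : Representation k G C)
    (g : B →ₗ[k] C) (hg : ∀ x : G, g ∘ₗ ρB x = ρC x ∘ₗ g) :
    (∃ s : C →ₗ[k] B, g ∘ₗ s = LinearMap.id ∧ ∀ x : G, s ∘ₗ ρC x = ρB x ∘ₗ s) ↔
      (∃ s : C →ₗ[k] B, g ∘ₗ s = LinearMap.id ∧ ∀ x : G, x ∈ P → s ∘ₗ ρC x = ρB x ∘ₗ s) := by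
  classical
  constructor
  · rintro ⟨s, hs, he⟩
    exact ⟨s, hs, fun x _ => he x⟩
  · rintro ⟨s, hs, he⟩
    haveI : Fintype (G ⧸ (P : Subgroup G)) := Fintype.ofFinite _
    -- conjugates of s
    let sx : G → (C →ₗ[k] B) := fun x => ρB x ∘ₗ s ∘ₗ ρC x⁻¹
    have hsx : ∀ x y : G, y ∈ P → sx (x * y) = sx x := by
      intro x y hy
      show ρB (x * y) ∘ₗ s ∘ₗ ρC (x * y)⁻¹ = ρB x ∘ₗ s ∘ₗ ρC x⁻¹
      rw [map_mul, mul_inv_rev, map_mul]
      have h1 : ρB y ∘ₗ s = s ∘ₗ ρC y := (he y hy).symm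
      ext c
      simp only [LinearMap.comp_apply, Module.End.mul_apply]
      have h2 := LinearMap.congr_fun h1 (ρC y⁻¹ (ρC x⁻¹ c))
      simp only [LinearMap.comp_apply] at h2
      rw [h2]
      have h3 : ρC y (ρC y⁻¹ (ρC x⁻¹ c)) = ρC x⁻¹ c := by
        rw [← Module.End.mul_apply, ← map_mul, mul_inv_cancel, map_one, Module.End.one_apply]
      rw [h3]
    let F : G ⧸ (P : Subgroup G) → (C →ₗ[k] B) := fun q =>
      Quotient.liftOn' q sx (by
        intro a b hab
        rw [QuotientGroup.leftRel_apply] at hab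
        have : b = a * (a⁻¹ * b) := by group
        rw [this, hsx a _ hab])
    have hF : ∀ x : G, F (QuotientGroup.mk x) = sx x := fun x => rfl
    have hFz : ∀ (z : G) (q : G ⧸ (P : Subgroup G)), F (z • q) = ρB z ∘ₗ F q ∘ₗ ρC z⁻¹ := by
      intro z q
      induction q using QuotientGroup.induction_on with
      | H x =>
        rw [MulAction.Quotient.smul_mk, hF, hF]
        show ρB (z * x) ∘ₗ s ∘ₗ ρC (z * x)⁻¹ = ρB z ∘ₗ (ρB x ∘ₗ s ∘ₗ ρC x⁻¹) ∘ₗ ρC z⁻¹
        rw [map_mul, mul_inv_rev, map_mul]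
        rfl
    have hgF : ∀ q, g ∘ₗ F q = LinearMap.id := by
      intro q
      induction q using QuotientGroup.induction_on with
      | H x =>
        rw [hF]
        ext c
        show g (ρB x (s (ρC x⁻¹ c))) = c
        have h1 := LinearMap.congr_fun (hg x) (s (ρC x⁻¹ c))
        simp only [LinearMap.comp_apply] at h1
        have h2 := LinearMap.congr_fun hs (ρC x⁻¹ c)
        simp only [LinearMap.comp_apply, LinearMap.id_apply] at h2
        rw [h1, h2, ← Module.End.mul_apply, ← map_mul, mul_inv_cancel, map_one,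
          Module.End.one_apply]
    set m : ℕ := Fintype.card (G ⧸ (P : Subgroup G)) with hm
    have hmk : (m : k) ≠ 0 := by
      rw [Ne, CharP.cast_eq_zero_iff k p, hm, ← Nat.card_eq_fintype_card]
      exact P.not_dvd_index
    refine ⟨(m : k)⁻¹ • ∑ q, F q, ?_, ?_⟩
    · ext c
      simp only [LinearMap.comp_apply, LinearMap.smul_apply, LinearMap.sum_apply, map_smul,
        map_sum, LinearMap.id_apply]
      have h1 : ∀ q, g (F q c) = c := fun q => LinearMap.congr_fun (hgF q) c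
      simp_rw [h1]
      rw [Finset.sum_const, Finset.card_univ, ← hm, ← Nat.cast_smul_eq_nsmul k, smul_smul,
        inv_mul_cancel₀ hmk, one_smul]
    · intro z
      have h1 : ∀ q, F q ∘ₗ ρC z = ρB z ∘ₗ F (z⁻¹ • q) := by
        intro q
        rw [hFz, inv_inv]
        ext c
        simp only [LinearMap.comp_apply]
        rw [← Module.End.mul_apply (ρB z), ← map_mul, mul_inv_cancel, map_one,
          Module.End.one_apply]
      ext c
      simp only [LinearMap.comp_apply, LinearMap.smul_apply, LinearMap.sum_apply, map_smul,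
        map_sum]
      congr 1
      have h2 : ∀ q, F q (ρC z c) = ρB z (F (z⁻¹ • q) c) := fun q =>
        LinearMap.congr_fun (h1 q) c
      simp_rw [h2]
      exact (Equiv.sum_comp (MulAction.toPerm (z⁻¹ : G)) (fun q => ρB z (F q c)))

end Groth.Agent.H7.ModRepSyl
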