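import Mathlib
import Groth.Prelude.Def_EtBase
import Groth.Prelude.Def_EtGm
import Groth.Agent.Lib.Helper7.MuN2

/-!
# Helper7: MuN3 — `μ_n ≅ ℤ/n` over a strictly henselian local ring
-/

set_option autoImplicit false

open CategoryTheory Limits AlgebraicGeometry Opposite Polynomial

namespace Groth.Agent.H7.MuN

universe u

/-- a strictly henselian local ring in which `n` is invertible contains a root of `Φ_n` -/
theorem exists_root_cyclotomic (A : Type u) [CommRing A] [HenselianLocalRing A]
    [IsSepClosed (IsLocalRing.ResidueField A)] (n : ℕ) (hn : 1 ≤ n) (hu : IsUnit (n : A)) :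
    ∃ ζ : A, aeval ζ (cyclotomic n ℤ) = 0 := by
  let k := IsLocalRing.ResidueField A
  haveI : NeZero (n : k) := by
    refine ⟨?_⟩
    have h := hu.map (IsLocalRing.residue A)
    rw [map_natCast] at h
    exact h.ne_zero
  have hsep : (cyclotomic n k).Separable := separable_cyclotomic n k
  have hdeg : (cyclotomic n k).degree ≠ 0 := by
    rw [degree_cyclotomic]
    intro h
    have h2 : Nat.totient n = 0 := by exact_mod_cast h
    exact (Nat.totient_pos.2 (by omega)).ne' h2
  obtain ⟨z₀, hz₀⟩ := IsSepClosed.exists_root (cyclotomic n k) hdeg hsep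
  have h2 := (HenselianLocalRing.TFAE A).out 0 1
  have h3 := h2.1 inferInstance (cyclotomic n A) (cyclotomic.monic n A) z₀
  have e1 : aeval z₀ (cyclotomic n A) = eval z₀ (cyclotomic n k) := by
    rw [aeval_def, ← Polynomial.eval_map, map_cyclotomic]
  have e2 : aeval z₀ (derivative (cyclotomic n A)) = eval z₀ (derivative (cyclotomic n k)) := by
    rw [aeval_def, ← Polynomial.eval_map, ← derivative_map, map_cyclotomic]
  obtain ⟨a, ha, -⟩ := h3 (by rw [e1]; exact hz₀) (by
    rw [e2]
    exact hsep.eval₂_derivative_ne_zero (RingHom.id k) (by rwa [eval₂_id]) |> fun h => by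
      rwa [eval₂_id] at h)
  refine ⟨a, ?_⟩
  rw [aeval_def, ← Polynomial.eval_map, map_cyclotomic]
  exact ha

theorem S14625_main (A : Type u) [CommRing A]
    (hA : EtCoh.IsStrictlyHenselianLocalRing A) (n : ℕ) (hn : 1 ≤ n) (hu : IsUnit (n : A))
    (X : Scheme.{u}) (f : X ⟶ Spec (CommRingCat.of A)) :
    Nonempty (EtCoh.mu X n ≅ EtCoh.const X (ZMod n)) := by
  obtain ⟨hH, hS⟩ := hA
  obtain ⟨ζ, hζ⟩ := exists_root_cyclotomic A n hn hu
  let ρ : A →+* Γ(X, ⊤) := f.appTop.hom.comp (Scheme.ΓSpecIso (CommRingCat.of A)).inv.hom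
  have hunit : IsUnit (n : Γ(X, ⊤)) := by
    have h := hu.map ρ
    rwa [map_natCast] at h
  have hroot : aeval (ρ ζ) (cyclotomic n ℤ) = 0 := by
    have h := Polynomial.aeval_algHom_apply ρ.toIntAlgHom ζ (cyclotomic n ℤ)
    have h2 : ρ.toIntAlgHom ζ = ρ ζ := rfl
    rw [h2] at h
    rw [h, hζ, map_zero]
  exact S13507_main hn hunit (ρ ζ) hroot

end Groth.Agent.H7.MuN
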