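import Groth.Agent.Lib.Helper5.AlgSp.MonoDesc
import Mathlib

/-!
# Relative normalization of algebraic spaces, part 0: general tools on fppf sheaves

Morphisms of sheaves from natural maps on points; gluing points along covering sieves.
-/

set_option autoImplicit false

universe u

open CategoryTheory CategoryTheory.Limits AlgebraicGeometry Opposite

namespace Groth.Agent.H7.NAS

open _root_.AlgSp Groth.Agent.H5.AlgSp

variable {S : Scheme.{u}}

lemma yEquiv_map {F : Sp S} {T T' : Over S} (g : T' ⟶ T) (x : (yon S).obj T ⟶ F) :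
    F.obj.map g.op (yEquiv F T x) = yEquiv F T' ((yon S).map g ≫ x) :=
  (J S).uliftYonedaEquiv_naturality x g

lemma yEquiv_symm_map {F : Sp S} {T T' : Over S} (g : T' ⟶ T) (s : F.obj.obj (op T)) :
    (yEquiv F T').symm (F.obj.map g.op s) = (yon S).map g ≫ (yEquiv F T).symm s := by
  apply (yEquiv F T').injective
  rw [Equiv.apply_symm_apply, ← yEquiv_map, Equiv.apply_symm_apply]

/-- A morphism of sheaves from a natural family of maps on points. -/
theorem exists_hom_of_points {F G : Sp S}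
    (φ : ∀ (T : Over S), ((yon S).obj T ⟶ F) → ((yon S).obj T ⟶ G))
    (hφ : ∀ (T T' : Over S) (g : T' ⟶ T) (x : (yon S).obj T ⟶ F),
      φ T' ((yon S).map g ≫ x) = (yon S).map g ≫ φ T x) :
    ∃ h : F ⟶ G, ∀ (T : Over S) (x : (yon S).obj T ⟶ F), x ≫ h = φ T x := by
  let α : F.obj ⟶ G.obj :=
    { app := fun T => ↾(fun s => yEquiv G T.unop (φ T.unop ((yEquiv F T.unop).symm s)))
      naturality := by
        rintro ⟨T⟩ ⟨T'⟩ ⟨g⟩
        ext s
        simp only [types_comp_apply, TypeCat.ofHom_apply]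
        change yEquiv G T' (φ T' ((yEquiv F T').symm (F.obj.map g.op s))) =
          G.obj.map g.op (yEquiv G T (φ T ((yEquiv F T).symm s)))
        rw [yEquiv_symm_map, hφ, yEquiv_map] }
  refine ⟨⟨α⟩, fun T x => ?_⟩
  apply (yEquiv G T).injective
  rw [yEquiv_comp]
  have : (⟨α⟩ : F ⟶ G).hom.app (op T) (yEquiv F T x) =
      yEquiv G T (φ T ((yEquiv F T).symm (yEquiv F T x))) := rfl
  rw [this, Equiv.symm_apply_apply]

/-- Gluing points of a sheaf along a covering sieve. -/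
theorem exists_glue_of_mem_J {F : Sp S} {T : Over S} {R : Sieve T} (hR : R ∈ J S T)
    (z : ∀ ⦃T' : Over S⦄ (a : T' ⟶ T), R a → ((yon S).obj T' ⟶ F))
    (hz : ∀ ⦃T' T'' : Over S⦄ (a : T' ⟶ T) (g : T'' ⟶ T') (ha : R a),
      z (g ≫ a) (R.downward_closed ha g) = (yon S).map g ≫ z a ha) :
    ∃ y : (yon S).obj T ⟶ F, ∀ ⦃T' : Over S⦄ (a : T' ⟶ T) (ha : R a), (yon S).map a ≫ y = z a ha := by
  have hF : Presieve.IsSheaf (J S) F.obj := (isSheaf_iff_isSheaf_of_type _ _).1 F.property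
  let fam : Presieve.FamilyOfElements F.obj R.arrows := fun T' a ha => yEquiv F T' (z a ha)
  have hcompat : fam.Compatible := by
    rw [Presieve.compatible_iff_sieveCompatible]
    intro T' T'' a g ha
    change yEquiv F T'' (z (g ≫ a) _) = F.obj.map g.op (yEquiv F T' (z a ha))
    rw [hz a g ha, yEquiv_map]
  obtain ⟨s, hs, -⟩ := hF R hR fam hcompat
  refine ⟨(yEquiv F T).symm s, fun T' a ha => ?_⟩
  apply (yEquiv F T').injective
  rw [← yEquiv_map, Equiv.apply_symm_apply]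
  exact hs a ha

/-- Gluing points characterised by a local predicate. -/
theorem existsUnique_glue_rel {F : Sp S} {T : Over S} {R : Sieve T} (hR : R ∈ J S T)
    (Q : ∀ ⦃T' : Over S⦄, (T' ⟶ T) → ((yon S).obj T' ⟶ F) → Prop)
    (hex : ∀ ⦃T' : Over S⦄ (a : T' ⟶ T), R a → ∃ z, Q a z)
    (huniq : ∀ ⦃T' : Over S⦄ (a : T' ⟶ T) (z z' : (yon S).obj T' ⟶ F), Q a z → Q a z' → z = z')
    (hres : ∀ ⦃T' T'' : Over S⦄ (a : T' ⟶ T) (g : T'' ⟶ T') (z : (yon S).obj T' ⟶ F),
      Q a z → Q (g ≫ a) ((yon S).map g ≫ z)) :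
    ∃! y : (yon S).obj T ⟶ F, ∀ ⦃T' : Over S⦄ (a : T' ⟶ T), R a → Q a ((yon S).map a ≫ y) := by
  choose z hz using hex
  obtain ⟨y, hy⟩ := exists_glue_of_mem_J (F := F) hR z (by
    intro T' T'' a g ha
    exact huniq _ _ _ (hz _ _) (hres a g _ (hz a ha)))
  refine ⟨y, fun T' a ha => ?_, fun y' hy' => ?_⟩
  · rw [hy a ha]
    exact hz a ha
  · apply yon_hom_ext_of_mem_J hR
    intro T' a ha
    rw [hy a ha]
    exact huniq a _ _ (hy' a ha) (hz a ha)

end Groth.Agent.H7.NAS
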