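import Groth.Agent.Lib.Helper7.NAS9
import Mathlib

/-!
# Relative normalization of algebraic spaces, part 10: morphisms out of a covered sheaf
-/

set_option autoImplicit false

universe u

open CategoryTheory CategoryTheory.Limits AlgebraicGeometry Opposite

namespace Groth.Agent.H7.NAS

open _root_.AlgSp Groth.Agent.H5.AlgSp

variable {S : Scheme.{u}}

/-- Morphisms out of a sheaf covered by a family are the compatible families of morphisms out of
the members of the family. -/
theorem existsUnique_hom_of_cover {F G : Sp S} {ι : Type*} {A : ι → Sp S} (a : ∀ i, A i ⟶ F)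
    (hcov : ∀ (T : Over S) (x : (yon S).obj T ⟶ F), jointLiftSieve a x ∈ J S T)
    (g : ∀ i, A i ⟶ G)
    (hg : ∀ (i j : ι) (T : Over S) (x : (yon S).obj T ⟶ A i) (y : (yon S).obj T ⟶ A j),
      x ≫ a i = y ≫ a j → x ≫ g i = y ≫ g j) :
    ∃! h : F ⟶ G, ∀ i, a i ≫ h = g i := by
  have key : ∀ (T : Over S) (x : (yon S).obj T ⟶ F), ∃! y : (yon S).obj T ⟶ G,
      ∀ ⦃T' : Over S⦄ (b : T' ⟶ T), jointLiftSieve a x b →
        ∃ (i : ι) (u : (yon S).obj T' ⟶ A i), u ≫ a i = (yon S).map b ≫ x ∧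
          (yon S).map b ≫ y = u ≫ g i := by
    intro T x
    refine existsUnique_glue_rel (hcov T x)
      (fun T' b z => ∃ (i : ι) (u : (yon S).obj T' ⟶ A i), u ≫ a i = (yon S).map b ≫ x ∧
        z = u ≫ g i) ?_ ?_ ?_
    · rintro T' b ⟨i, u, hu⟩
      exact ⟨u ≫ g i, i, u, hu, rfl⟩
    · rintro T' b z z' ⟨i, u, hu, rfl⟩ ⟨j, u', hu', rfl⟩
      exact hg i j T' u u' (hu.trans hu'.symm)
    · rintro T' T'' b c z ⟨i, u, hu, rfl⟩
      exact ⟨i, (yon S).map c ≫ u, by
        rw [Category.assoc, hu, Functor.map_comp, Category.assoc], (Category.assoc _ _ _).symm⟩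
  choose φ hφ hφu using key
  have hstar : ∀ (T : Over S) (i : ι) (u : (yon S).obj T ⟶ A i), φ T (u ≫ a i) = u ≫ g i := by
    intro T i u
    apply yon_hom_ext_of_mem_J (hcov T (u ≫ a i))
    intro T' b hb
    obtain ⟨j, u', hu', h2⟩ := hφ T (u ≫ a i) b hb
    rw [h2, ← Category.assoc]
    exact hg j i T' u' ((yon S).map b ≫ u) (by rw [hu', Category.assoc])
  have hnat : ∀ (T T' : Over S) (c : T' ⟶ T) (x : (yon S).obj T ⟶ F),
      φ T' ((yon S).map c ≫ x) = (yon S).map c ≫ φ T x := by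
    intro T T' c x
    symm
    apply hφu
    rintro T'' b ⟨i, u, hu⟩
    have hb : jointLiftSieve a x (b ≫ c) :=
      ⟨i, u, by rw [hu, Functor.map_comp, Category.assoc]⟩
    obtain ⟨j, u', hu', h2⟩ := hφ T x (b ≫ c) hb
    refine ⟨j, u', by rw [hu', Functor.map_comp, Category.assoc], ?_⟩
    rw [← h2, Functor.map_comp, Category.assoc]
  obtain ⟨h, hh⟩ := exists_hom_of_points φ hnat
  refine ⟨h, fun i => ?_, fun h' hh' => ?_⟩
  · apply hom_ext_yon
    intro T x
    rw [← Category.assoc, hh, hstar]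
  · apply hom_ext_yon
    intro T x
    apply yon_hom_ext_of_mem_J (hcov T x)
    rintro T' b ⟨i, u, hu⟩
    rw [← Category.assoc, ← Category.assoc, ← hu, Category.assoc, Category.assoc, hh' i,
      ← Category.assoc, hh, hstar]

end Groth.Agent.H7.NAS
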