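import Groth.Agent.Lib.Helper7.NAS10
import Mathlib

/-!
# Relative normalization of algebraic spaces, part 11: the glued normalization is stable
-/

set_option autoImplicit false

universe u

open CategoryTheory CategoryTheory.Limits AlgebraicGeometry Opposite

namespace Groth.Agent.H7.NAS

open _root_.AlgSp Groth.Agent.H5.AlgSp

variable {S : Scheme.{u}}

theorem BC.isRelNormalization_congr' {Y X N : Sp S} {f : Y ⟶ X} {ν : N ⟶ X} {f' : Y ⟶ N}
    {C : Sp S} {c c' : C ⟶ X} (h : c = c') (d : BC f ν f' c) (d' : BC f ν f' c')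
    (hn : IsRelNormalization d.fC d.νC d.f'C) : IsRelNormalization d'.fC d'.νC d'.f'C := by
  subst h
  exact BC.isRelNormalization_congr d d' hn

namespace Fam

variable {Y X : Sp S} {f : Y ⟶ X} (F : Fam f)

lemma a_cov (T : Over S) (y : (yon S).obj T ⟶ Y) :
    jointLiftSieve (fun i => (F.L i).a) y ∈ J S T := by
  refine (J S).superset_covering ?_ (F.cov T (y ≫ f))
  rintro T' b ⟨i, u, hu⟩
  exact ⟨i, (F.L i).sq.lift ((yon S).map b ≫ y) u (by rw [Category.assoc, hu]),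
    (F.L i).sq.lift_fst _ _ _⟩

lemma tr_f' {i j : F.ι} {T : Over S} (x : (yon S).obj T ⟶ (F.L i).YU)
    (y : (yon S).obj T ⟶ (F.L j).YU) (hxy : x ≫ (F.L i).a = y ≫ (F.L j).a)
    (h : (x ≫ (F.L i).f') ≫ (F.L i).ν ≫ (F.L i).w = (y ≫ (F.L j).fU) ≫ (F.L j).w) :
    F.tr (x ≫ (F.L i).f') (y ≫ (F.L j).fU) h = y ≫ (F.L j).f' := by
  have hcomp : (x ≫ (F.L i).fU) ≫ (F.L i).w = (y ≫ (F.L j).fU) ≫ (F.L j).w := by
    rw [Category.assoc, ← (F.L i).sq.w, ← Category.assoc, hxy, Category.assoc, (F.L j).sq.w,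
      Category.assoc]
  obtain ⟨y', hy'1, hy'2⟩ : ∃ y' : (yon S).obj T ⟶ (F.dd i j).YC, y' ≫ (F.dd i j).a = x ∧
      y' ≫ (F.dd i j).fC = pullback.lift (x ≫ (F.L i).fU) (y ≫ (F.L j).fU) hcomp :=
    ⟨(F.dd i j).sq1.lift x (pullback.lift (x ≫ (F.L i).fU) (y ≫ (F.L j).fU) hcomp)
      (pullback.lift_fst _ _ _).symm, IsPullback.lift_fst _ _ _ _, IsPullback.lift_snd _ _ _ _⟩
  have hpt : F.ptN (x ≫ (F.L i).f') (y ≫ (F.L j).fU) h = y' ≫ (F.dd i j).f'C := by
    apply F.ptN_ext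
    · rw [ptN_b, Category.assoc, (F.dd i j).c2, ← Category.assoc, hy'1]
    · rw [ptN_νC_snd, Category.assoc, ← Category.assoc (F.dd i j).f'C, (F.dd i j).c1,
        ← Category.assoc, hy'2, pullback.lift_snd]
  unfold tr
  rw [hpt, Category.assoc]
  unfold Θ
  rw [LocN.f'C_theta, ← Category.assoc]
  congr 1
  apply (F.L j).sq.hom_ext
  · rw [Category.assoc, LocN.yMap_a, ← Category.assoc, hy'1, hxy]
  · rw [Category.assoc, LocN.yMap_fU, ← Category.assoc, hy'2, pullback.lift_snd]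

/-- The morphism from `Y` to the glued normalization. -/
theorem exists_f' : ∃ f' : Y ⟶ F.N, f' ≫ F.ν = f ∧ ∀ i, (F.L i).a ≫ f' = (F.L i).f' ≫ F.q i := by
  obtain ⟨f', hf', -⟩ := existsUnique_hom_of_cover (fun i => (F.L i).a) F.a_cov
    (fun i => (F.L i).f' ≫ F.q i) (by
      intro i j T x y hxy
      have h : (x ≫ (F.L i).f') ≫ (F.L i).ν ≫ (F.L i).w = (y ≫ (F.L j).fU) ≫ (F.L j).w := by
        rw [Category.assoc, ← Category.assoc (F.L i).f', (F.L i).st.1, ← (F.L i).sq.w,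
          ← Category.assoc, hxy, Category.assoc, (F.L j).sq.w, Category.assoc]
      have h1 := F.D.tr_q (i := i) (j := j) (x ≫ (F.L i).f') (y ≫ (F.L j).fU) h
      have h2 : F.D.tr (i := i) (j := j) (x ≫ (F.L i).f') (y ≫ (F.L j).fU) h =
          y ≫ (F.L j).f' := F.tr_f' x y hxy h
      rw [h2] at h1
      rw [← Category.assoc, ← Category.assoc]
      exact h1.symm)
  refine ⟨f', ?_, hf'⟩
  obtain ⟨k, -, hk⟩ := existsUnique_hom_of_cover (G := X) (fun i => (F.L i).a) F.a_cov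
    (fun i => (F.L i).a ≫ f) (by
      intro i j T x y hxy
      rw [← Category.assoc, ← Category.assoc, hxy])
  rw [hk (f' ≫ F.ν) (fun i => by
    rw [← Category.assoc, hf' i, Category.assoc, (F.isPullback_q i).w, ← Category.assoc,
      (F.L i).st.1, (F.L i).sq.w]), hk f (fun i => rfl)]

/-- The base change data of the glued normalization to the charts. -/
noncomputable def bcChart (f' : Y ⟶ F.N) (hf' : ∀ i, (F.L i).a ≫ f' = (F.L i).f' ≫ F.q i)
    (i : F.ι) : BC f F.ν f' (F.L i).w where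
  YC := (F.L i).YU
  NC := (F.L i).N
  a := (F.L i).a
  fC := (F.L i).fU
  sq1 := (F.L i).sq
  b := F.q i
  νC := (F.L i).ν
  sq2 := F.isPullback_q i
  f'C := (F.L i).f'
  c1 := (F.L i).st.1
  c2 := (hf' i).symm

end Fam

end Groth.Agent.H7.NAS
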