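import Groth.Agent.Lib.Helper7.NAS11
import Mathlib

/-!
# Relative normalization of algebraic spaces, part 12: stability of the glued normalization
-/

set_option autoImplicit false

universe u

open CategoryTheory CategoryTheory.Limits AlgebraicGeometry Opposite

namespace Groth.Agent.H7.NAS

open _root_.AlgSp Groth.Agent.H5.AlgSp

variable {S : Scheme.{u}}

namespace Fam

variable {Y X : Sp S} {f : Y ⟶ X} (F : Fam f)

/-- The affine étale charts of `W₁` which factor through a chart of the family. -/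
def memF {W₁ : Over S} (c : (yon S).obj W₁ ⟶ X) (W' : Over S)
    (w' : (yon S).obj W' ⟶ (yon S).obj W₁) : Prop :=
  IsAffine W'.left ∧ RepWith @Etale w' ∧ ∃ (i : F.ι) (e : (yon S).obj W' ⟶ (F.L i).U),
    RepWith @Etale e ∧ e ≫ (F.L i).w = w' ≫ c

theorem chartSieve_memF_mem {W₁ : Over S} (c : (yon S).obj W₁ ⟶ X) (hc : RepWith @Etale c)
    {T : Over S} (x : (yon S).obj T ⟶ (yon S).obj W₁) : chartSieve (F.memF c) x ∈ J S T := by
  refine (J S).transitive (F.cov T (x ≫ c)) _ ?_
  rintro T' b ⟨i, u, hu⟩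
  have hwi := F.hw i
  obtain ⟨Q, fstQ, sndQ, sqQ⟩ : ∃ (Q : Over S) (fstQ : (yon S).obj Q ⟶ (F.L i).U) (sndQ : Q ⟶ W₁),
      IsPullback fstQ ((yon S).map sndQ) (F.L i).w c :=
    ⟨_, _, _, hwi.rep.isPullback c⟩
  have hsndQ : Etale sndQ.left := hwi.property _ _ _ sqQ
  have hfstQ : RepWith @Etale fstQ :=
    MorphismProperty.of_isPullback (P := RepWith @Etale) sqQ.flip hc
  obtain ⟨t, ht⟩ := (yon S).map_surjective (sqQ.lift u ((yon S).map b ≫ x)
    (by rw [hu, Category.assoc]))
  have ht1 : (yon S).map t ≫ fstQ = u := by rw [ht, sqQ.lift_fst]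
  have ht2 : (yon S).map t ≫ (yon S).map sndQ = (yon S).map b ≫ x := by rw [ht, sqQ.lift_snd]
  choose V hVaff hVmem using fun s : T'.left => exists_isAffineOpen_mem Q.left (t.left s)
  apply mem_J_of_openCover (fun s : T'.left => t.left ⁻¹ᵁ V s) (fun s => ⟨s, hVmem s⟩)
  intro s
  obtain ⟨b₃, hb₃⟩ := exists_overOpen_lift (V s) (overOpenι T' (t.left ⁻¹ᵁ V s) ≫ t)
    (fun t'' => t''.2)
  have hι : Etale (overOpenι Q (V s)).left := by
    change Etale (V s).ι
    infer_instance
  refine ⟨overOpen Q (V s), (yon S).map (overOpenι Q (V s) ≫ sndQ),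
    ⟨isAffine_overOpen _ _ (hVaff s), ?_, i, (yon S).map (overOpenι Q (V s)) ≫ fstQ,
      repWith_etale_comp_yon _ hι hfstQ, ?_⟩, b₃, ?_⟩
  · rw [repWith_yon_map_iff, Over.comp_left]
    infer_instance
  · rw [Category.assoc, sqQ.w, Functor.map_comp, Category.assoc]
  · rw [← Functor.map_comp, ← Category.assoc, hb₃, Functor.map_comp, Functor.map_comp,
      Functor.map_comp, Category.assoc, Category.assoc, ht2]

/-- The chart class of the affine étale charts of `W₁` which factor through a chart of the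
family. -/
def chartClassF {W₁ : Over S} (c : (yon S).obj W₁ ⟶ X) (hc : RepWith @Etale c) :
    ChartClass ((yon S).obj W₁) :=
  ChartClass.ofRefine (F.memF c) (fun _ _ h => h.2.1)
    (fun _ _ h _ e' hW'' he' => by
      obtain ⟨_, h2, i, e, he, hew⟩ := h
      exact ⟨hW'', repWith_etale_comp_yon e' he' h2, i, (yon S).map e' ≫ e,
        repWith_etale_comp_yon e' he' he, by rw [Category.assoc, hew, Category.assoc]⟩)
    (fun _ x => F.chartSieve_memF_mem c hc x)

/-- **The glued normalization is stable.** -/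
theorem stable (f' : Y ⟶ F.N) (hfac : f' ≫ F.ν = f)
    (hf' : ∀ i, (F.L i).a ≫ f' = (F.L i).f' ≫ F.q i) : Stable f F.ν f' := by
  refine ⟨hfac, F.isIntegralMor_ν, ?_⟩
  intro W₁ hW₁ c hc d
  refine isRelNormalization_of_chartClass (F.chartClassF c hc) d.c1
    (isIntegralMor_of_isPullback d.sq2 F.isIntegralMor_ν) (fun _ w' => BC.std d.c1 w') ?_
  rintro W' w' ⟨haff, hw', i, e, he, hew⟩
  obtain ⟨E, -⟩ : ∃ E : BC (F.L i).fU (F.L i).ν (F.L i).f' e, True :=
    ⟨BC.std (F.L i).st.1 e, trivial⟩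
  have hnE := (F.L i).st.2.2 W' haff e he E
  exact BC.isRelNormalization_congr' hew ((F.bcChart f' hf' i).comp E)
    (d.comp (BC.std d.c1 w')) hnE

end Fam

end Groth.Agent.H7.NAS
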