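import Groth.Agent.Lib.Helper7.NAS12
import Groth.Agent.Lib.Helper5.AlgSp.ProdSp
import Groth.Agent.Lib.Helper5.AlgSp.SepMor
import Mathlib

/-!
# Relative normalization of algebraic spaces, part 13: existence and étale base change
-/

set_option autoImplicit false

universe u

open CategoryTheory CategoryTheory.Limits AlgebraicGeometry Opposite

namespace Groth.Agent.H7.NAS

open _root_.AlgSp Groth.Agent.H5.AlgSp

variable {S : Scheme.{u}}

section

variable {Y X : Sp S} (f : Y ⟶ X) (hX : IsAlgSpace X) (hY : IsAlgSpace Y)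
  (hqc : IsQuasiCompactMor f) (hqs : IsQuasiSeparatedMor f)

include hX hY hqc hqs in
theorem exists_stable_chart (W : Over S) (hW : IsAffine W.left) (w : (yon S).obj W ⟶ X) :
    ∃ (N : Over S) (ν : N ⟶ W) (f' : pullback f w ⟶ (yon S).obj N),
      Stable (pullback.snd f w) ((yon S).map ν) f' := by
  have sq := IsPullback.of_hasPullback f w
  obtain ⟨N, ν, f', -, -, h⟩ := exists_stable_affine hW
    (isAlgSpace_pullback hX.diag hY (IsAlgSpace.yon_obj W) sq) (pullback.snd f w)
    (isQuasiCompactMor_of_isPullback sq hqc) (repWith_diag_of_isPullback sq hqs)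
  exact ⟨N, ν, f', h⟩

/-- The stable normalization over an affine chart. -/
noncomputable def locNOf (W : Over S) (hW : IsAffine W.left) (w : (yon S).obj W ⟶ X) : LocN f where
  U := (yon S).obj W
  w := w
  YU := pullback f w
  a := pullback.fst f w
  fU := pullback.snd f w
  sq := IsPullback.of_hasPullback f w
  N := (yon S).obj (exists_stable_chart f hX hY hqc hqs W hW w).choose
  ν := (yon S).map (exists_stable_chart f hX hY hqc hqs W hW w).choose_spec.choose
  f' := (exists_stable_chart f hX hY hqc hqs W hW w).choose_spec.choose_spec.choose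
  st := (exists_stable_chart f hX hY hqc hqs W hW w).choose_spec.choose_spec.choose_spec

/-- The covering family of the affine opens of an atlas. -/
theorem coverSieve_affine_mem {U : Over S} (p : (yon S).obj U ⟶ X) (hpe : RepWith @Etale p)
    (hps : RepWith @Surjective p) {T : Over S} (x : (yon S).obj T ⟶ X) :
    coverSieve (fun i : U.left.affineOpens => (yon S).map (overOpenι U i.1) ≫ p) x ∈ J S T := by
  have := isLocallySurjective_of_etale_surjective p hpe hps
  refine (J S).transitive (liftSieve_mem p x) _ ?_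
  rintro T' a ⟨τ, hτ⟩
  obtain ⟨t, rfl⟩ := (yon S).map_surjective τ
  choose V hVaff hVmem using fun s : T'.left => exists_isAffineOpen_mem U.left (t.left s)
  apply mem_J_of_openCover (fun s : T'.left => t.left ⁻¹ᵁ V s) (fun s => ⟨s, hVmem s⟩)
  intro s
  obtain ⟨b₃, hb₃⟩ := exists_overOpen_lift (V s) (overOpenι T' (t.left ⁻¹ᵁ V s) ≫ t)
    (fun t'' => t''.2)
  refine ⟨⟨V s, hVaff s⟩, (yon S).map b₃, ?_⟩
  rw [← Category.assoc, ← Functor.map_comp, hb₃, Functor.map_comp, Category.assoc, hτ,
    Functor.map_comp, Category.assoc]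

include hX hY hqc hqs in
/-- **Existence of stable normalizations.** -/
theorem exists_stable : ∃ (N : Sp S) (ν : N ⟶ X) (f' : Y ⟶ N), IsAlgSpace N ∧ Stable f ν f' := by
  obtain ⟨U, p, hpe, hps⟩ := hX.atlas
  let F : Fam f :=
    { hX := hX
      ι := U.left.affineOpens
      L := fun i => locNOf f hX hY hqc hqs (overOpen U i.1) (isAffine_overOpen U i.1 i.2)
        ((yon S).map (overOpenι U i.1) ≫ p)
      hU := fun i => IsAlgSpace.yon_obj _
      hw := fun i => repWith_etale_comp_yon _ (by
        change Etale (i.1 : U.left.Opens).ι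
        infer_instance) hpe
      cov := fun T x => coverSieve_affine_mem p hpe hps x }
  obtain ⟨f', hfac, hf'⟩ := F.exists_f'
  exact ⟨F.N, F.ν, f', F.isAlgSpace_N, F.stable f' hfac hf'⟩

include hX hY hqc hqs in
/-- **Every normalization by an algebraic space is stable.** -/
theorem stable_of_isRelNormalization {N : Sp S} (hN : IsAlgSpace N) (ν : N ⟶ X) (f' : Y ⟶ N)
    (hn : IsRelNormalization f ν f') : Stable f ν f' := by
  obtain ⟨N₀, ν₀, f'₀, hN₀, hst⟩ := exists_stable f hX hY hqc hqs
  obtain ⟨i, hi1, hi2⟩ := IsRelNormalization.exists_iso hN hN₀ hn (hst.isRelNormalization hX)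
  exact hst.of_iso i hi1 hi2

end

theorem S10295_main {Y X : AlgSp.Space S} (f : Y ⟶ X)
    (hqc : AlgSp.IsQuasiCompactMor f.hom) (hqs : AlgSp.IsQuasiSeparatedMor f.hom) :
    ∃ (X' : AlgSp.Space S) (ν : X' ⟶ X) (f' : Y ⟶ X'),
      AlgSp.IsRelNormalization f.hom ν.hom f'.hom := by
  obtain ⟨N, ν, f', hN, hst⟩ := exists_stable f.hom X.property Y.property hqc hqs
  exact ⟨⟨N, hN⟩, ObjectProperty.homMk ν, ObjectProperty.homMk f',
    hst.isRelNormalization X.property⟩

theorem S10297_main {Y X X' W YW X'W : AlgSp.Space S} (f : Y ⟶ X)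
    (hqc : AlgSp.IsQuasiCompactMor f.hom) (hqs : AlgSp.IsQuasiSeparatedMor f.hom) (ν : X' ⟶ X)
    (f' : Y ⟶ X') (hn : AlgSp.IsRelNormalization f.hom ν.hom f'.hom) (w : W ⟶ X)
    (hw : AlgSp.IsEtaleMor w.hom) (a : YW ⟶ Y) (fW : YW ⟶ W)
    (sq1 : IsPullback a.hom fW.hom f.hom w.hom) (b : X'W ⟶ X') (νW : X'W ⟶ W)
    (sq2 : IsPullback b.hom νW.hom ν.hom w.hom) (f'W : YW ⟶ X'W) (c1 : f'W ≫ νW = fW)
    (c2 : f'W ≫ b = a ≫ f') : AlgSp.IsRelNormalization fW.hom νW.hom f'W.hom := by
  have hst := stable_of_isRelNormalization f.hom X.property Y.property hqc hqs X'.property ν.hom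
    f'.hom hn
  let d : BC f.hom ν.hom f'.hom w.hom :=
    { YC := YW.obj, NC := X'W.obj, a := a.hom, fC := fW.hom, sq1 := sq1, b := b.hom,
      νC := νW.hom, sq2 := sq2, f'C := f'W.hom,
      c1 := congrArg (fun m => m.hom) c1, c2 := congrArg (fun m => m.hom) c2 }
  exact hst.isRelNormalization_baseChange W.property hw d

end Groth.Agent.H7.NAS
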