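import Groth.Agent.Lib.Helper7.NAS0
import Groth.Agent.Lib.Helper5.AlgSp.RelNormalization
import Groth.Agent.Lib.Helper5.AlgSp.RepOver
import Mathlib

/-!
# Relative normalization of algebraic spaces, part 2: formal properties of `IsRelNormalization`

Base change data, invariance under isomorphisms, the absolute form of the universal property,
uniqueness.
-/

set_option autoImplicit false

universe u

open CategoryTheory CategoryTheory.Limits AlgebraicGeometry Opposite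

namespace Groth.Agent.H7.NAS

open _root_.AlgSp Groth.Agent.H5.AlgSp

variable {S : Scheme.{u}}

lemma isIntegralMor_of_isPullback {F G F' G' : Sp S} {f : F ⟶ G} {b : F' ⟶ F} {f' : F' ⟶ G'}
    {c : G' ⟶ G} (sq : IsPullback b f' f c) (h : IsIntegralMor f) : IsIntegralMor f' :=
  isIntegralMor_iff_repWith.2
    (MorphismProperty.of_isPullback sq (isIntegralMor_iff_repWith.1 h))

lemma isIntegralMor_iso_comp {F F' G : Sp S} (e : F' ≅ F) {f : F ⟶ G} (h : IsIntegralMor f) :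
    IsIntegralMor (e.hom ≫ f) :=
  isIntegralMor_iff_repWith.2
    ((MorphismProperty.cancel_left_of_respectsIso (RepWith @IsIntegralHom) e.hom f).2
      (isIntegralMor_iff_repWith.1 h))

lemma isAlgSpace_of_isIntegralMor {F G : Sp S} (hG : IsAlgSpace G) {f : F ⟶ G}
    (h : IsIntegralMor f) : IsAlgSpace F :=
  isAlgSpace_of_representable hG f (isIntegralMor_iff_repWith.1 h).rep

/-- Invariance of `IsRelNormalization` under isomorphisms of the source and of the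
normalization. -/
theorem isRelNormalization_of_iso {Y X N Y₁ N₁ : Sp S} {f : Y ⟶ X} {ν : N ⟶ X} {f' : Y ⟶ N}
    (hn : IsRelNormalization f ν f') (eY : Y₁ ≅ Y) (eN : N₁ ≅ N) {f₁ : Y₁ ⟶ X} {ν₁ : N₁ ⟶ X}
    {f'₁ : Y₁ ⟶ N₁} (h1 : f₁ = eY.hom ≫ f) (h2 : ν₁ = eN.hom ≫ ν)
    (h3 : f'₁ ≫ eN.hom = eY.hom ≫ f') : IsRelNormalization f₁ ν₁ f'₁ := by
  obtain ⟨hfac, hint, huniv⟩ := hn
  refine ⟨?_, ?_, ?_⟩
  · rw [h2, ← Category.assoc, h3, Category.assoc, hfac, h1]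
  · rw [h2]
    exact isIntegralMor_iso_comp eN hint
  · intro Z hZ π g hπ hg
    have hg' : (eY.inv ≫ g) ≫ π = f := by
      rw [Category.assoc, hg, h1, Iso.inv_hom_id_assoc]
    obtain ⟨h, ⟨ha, hb⟩, hu⟩ := huniv hZ π (eY.inv ≫ g) hπ hg'
    refine ⟨eN.hom ≫ h, ⟨?_, ?_⟩, ?_⟩
    · rw [← Category.assoc, h3, Category.assoc, ha, Iso.hom_inv_id_assoc]
    · rw [Category.assoc, hb, h2]
    · rintro h' ⟨ha', hb'⟩
      have := hu (eN.inv ≫ h') ⟨?_, ?_⟩
      · rw [← this, Iso.hom_inv_id_assoc]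
      · have h3' : f' ≫ eN.inv = eY.inv ≫ f'₁ := by
          rw [← cancel_mono eN.hom, Category.assoc, Iso.inv_hom_id, Category.comp_id,
            Category.assoc, h3, Iso.inv_hom_id_assoc]
        rw [← Category.assoc, h3', Category.assoc, ha']
      · rw [Category.assoc, hb', h2, Iso.inv_hom_id_assoc]

/-- Base change data of a factorisation `f = f' ≫ ν` along `c : C ⟶ X`. -/
structure BC {Y X N : Sp S} (f : Y ⟶ X) (ν : N ⟶ X) (f' : Y ⟶ N) {C : Sp S} (c : C ⟶ X) where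
  YC : Sp S
  NC : Sp S
  a : YC ⟶ Y
  fC : YC ⟶ C
  sq1 : IsPullback a fC f c
  b : NC ⟶ N
  νC : NC ⟶ C
  sq2 : IsPullback b νC ν c
  f'C : YC ⟶ NC
  c1 : f'C ≫ νC = fC
  c2 : f'C ≫ b = a ≫ f'

namespace BC

variable {Y X N : Sp S} {f : Y ⟶ X} {ν : N ⟶ X} {f' : Y ⟶ N}

/-- The standard base change data. -/
noncomputable def std (hfac : f' ≫ ν = f) {C : Sp S} (c : C ⟶ X) : BC f ν f' c where
  YC := pullback f c
  NC := pullback ν c
  a := pullback.fst f c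
  fC := pullback.snd f c
  sq1 := IsPullback.of_hasPullback f c
  b := pullback.fst ν c
  νC := pullback.snd ν c
  sq2 := IsPullback.of_hasPullback ν c
  f'C := pullback.lift (pullback.fst f c ≫ f') (pullback.snd f c)
    (by rw [Category.assoc, hfac, pullback.condition])
  c1 := pullback.lift_snd _ _ _
  c2 := pullback.lift_fst _ _ _

/-- Composition of base change data. -/
def comp {C C' : Sp S} {c : C ⟶ X} (d : BC f ν f' c) {e : C' ⟶ C}
    (d' : BC d.fC d.νC d.f'C e) : BC f ν f' (e ≫ c) where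
  YC := d'.YC
  NC := d'.NC
  a := d'.a ≫ d.a
  fC := d'.fC
  sq1 := d'.sq1.paste_horiz d.sq1
  b := d'.b ≫ d.b
  νC := d'.νC
  sq2 := d'.sq2.paste_horiz d.sq2
  f'C := d'.f'C
  c1 := d'.c1
  c2 := by rw [← Category.assoc, d'.c2, Category.assoc, d.c2, Category.assoc]

/-- Base change data over the same morphism have the same normalization property. -/
theorem isRelNormalization_congr {C : Sp S} {c : C ⟶ X} (d d' : BC f ν f' c)
    (hn : IsRelNormalization d.fC d.νC d.f'C) : IsRelNormalization d'.fC d'.νC d'.f'C := by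
  let eY : d'.YC ≅ d.YC := d'.sq1.isoIsPullback _ _ d.sq1
  let eN : d'.NC ≅ d.NC := d'.sq2.isoIsPullback _ _ d.sq2
  have hY1 : eY.hom ≫ d.a = d'.a := IsPullback.isoIsPullback_hom_fst _ _ _ _
  have hY2 : eY.hom ≫ d.fC = d'.fC := IsPullback.isoIsPullback_hom_snd _ _ _ _
  have hN1 : eN.hom ≫ d.b = d'.b := IsPullback.isoIsPullback_hom_fst _ _ _ _
  have hN2 : eN.hom ≫ d.νC = d'.νC := IsPullback.isoIsPullback_hom_snd _ _ _ _
  refine isRelNormalization_of_iso hn eY eN hY2.symm hN2.symm ?_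
  apply d.sq2.hom_ext
  · rw [Category.assoc, hN1, d'.c2, Category.assoc, d.c2, ← Category.assoc, hY1]
  · rw [Category.assoc, hN2, d'.c1, Category.assoc, d.c1, hY2]

lemma fac {C : Sp S} {c : C ⟶ X} (d : BC f ν f' c) : f' ≫ ν = f → d.f'C ≫ d.νC = d.fC :=
  fun _ => d.c1

end BC

/-- The absolute form of the universal property of a normalization of a base change. -/
theorem IsRelNormalization.existsUnique_abs {Y X N : Sp S} {f : Y ⟶ X} {ν : N ⟶ X}
    {f' : Y ⟶ N} {C : Sp S} {c : C ⟶ X} (hC : IsAlgSpace C) (d : BC f ν f' c)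
    (hn : IsRelNormalization d.fC d.νC d.f'C) {Z : Sp S} (hZ : IsAlgSpace Z) (π : Z ⟶ X)
    (hπ : IsIntegralMor π) (g : Y ⟶ Z) (hg : g ≫ π = f) :
    ∃! k : d.NC ⟶ Z, d.f'C ≫ k = d.a ≫ g ∧ k ≫ π = d.νC ≫ c := by
  have sqZ := IsPullback.of_hasPullback π c
  have hπC : IsIntegralMor (pullback.snd π c) := isIntegralMor_of_isPullback sqZ hπ
  have hZC : IsAlgSpace (pullback π c) := isAlgSpace_of_isIntegralMor hC hπC
  have hw : (d.a ≫ g) ≫ π = d.fC ≫ c := by rw [Category.assoc, hg, d.sq1.w]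
  obtain ⟨h, ⟨h1, h2⟩, hu⟩ := hn.2.2 hZC (pullback.snd π c) (pullback.lift (d.a ≫ g) d.fC hw) hπC
    (pullback.lift_snd _ _ _)
  refine ⟨h ≫ pullback.fst π c, ⟨?_, ?_⟩, ?_⟩
  · rw [← Category.assoc, h1, pullback.lift_fst]
  · rw [Category.assoc, pullback.condition, ← Category.assoc, h2]
  · rintro k ⟨hk1, hk2⟩
    have := hu (pullback.lift k d.νC hk2) ⟨?_, pullback.lift_snd _ _ _⟩
    · rw [← this, pullback.lift_fst]
    · apply pullback.hom_ext
      · rw [Category.assoc, pullback.lift_fst, pullback.lift_fst, hk1]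
      · rw [Category.assoc, pullback.lift_snd, pullback.lift_snd, d.c1]

/-- Uniqueness of the normalization among algebraic spaces. -/
theorem IsRelNormalization.exists_iso {Y X N N₂ : Sp S} {f : Y ⟶ X} {ν : N ⟶ X} {f' : Y ⟶ N}
    {ν₂ : N₂ ⟶ X} {f'₂ : Y ⟶ N₂} (hN : IsAlgSpace N) (hN₂ : IsAlgSpace N₂)
    (hn : IsRelNormalization f ν f') (hn₂ : IsRelNormalization f ν₂ f'₂) :
    ∃ e : N ≅ N₂, f' ≫ e.hom = f'₂ ∧ e.hom ≫ ν₂ = ν := by
  obtain ⟨h, ⟨h1, h2⟩, -⟩ := hn.2.2 hN₂ ν₂ f'₂ hn₂.2.1 hn₂.1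
  obtain ⟨k, ⟨k1, k2⟩, -⟩ := hn₂.2.2 hN ν f' hn.2.1 hn.1
  obtain ⟨i1, -, u1⟩ := hn.2.2 hN ν f' hn.2.1 hn.1
  obtain ⟨i2, -, u2⟩ := hn₂.2.2 hN₂ ν₂ f'₂ hn₂.2.1 hn₂.1
  refine ⟨⟨h, k, ?_, ?_⟩, h1, h2⟩
  · rw [u1 (h ≫ k) ⟨by rw [← Category.assoc, h1, k1], by rw [Category.assoc, k2, h2]⟩,
      u1 (𝟙 _) ⟨Category.comp_id _, Category.id_comp _⟩]
  · rw [u2 (k ≫ h) ⟨by rw [← Category.assoc, k1, h1], by rw [Category.assoc, h2, k2]⟩,
      u2 (𝟙 _) ⟨Category.comp_id _, Category.id_comp _⟩]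

end Groth.Agent.H7.NAS
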