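import Groth.Agent.Lib.Helper7.NAS2
import Mathlib

/-!
# Relative normalization of algebraic spaces, part 3: local to global

A factorisation through an integral morphism whose base changes to the members of a class of
charts are normalizations is a normalization.
-/

set_option autoImplicit false

universe u

open CategoryTheory CategoryTheory.Limits AlgebraicGeometry Opposite

namespace Groth.Agent.H7.NAS

open _root_.AlgSp Groth.Agent.H5.AlgSp

variable {S : Scheme.{u}}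

/-- The sieve of arrows along which a point of `X` factors through a chart of the class. -/
def chartSieve {X : Sp S} (mem : ∀ (W : Over S), ((yon S).obj W ⟶ X) → Prop) {T : Over S}
    (x : (yon S).obj T ⟶ X) : Sieve T where
  arrows T' a := ∃ (W : Over S) (w : (yon S).obj W ⟶ X) (_ : mem W w) (b : T' ⟶ W),
    (yon S).map b ≫ w = (yon S).map a ≫ x
  downward_closed := by
    rintro T' T'' a ⟨W, w, hm, b, hb⟩ g
    exact ⟨W, w, hm, g ≫ b, by
      rw [Functor.map_comp, Category.assoc, hb, Functor.map_comp, Category.assoc]⟩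

/-- The sieve of arrows along which two charts are dominated by a common one. -/
def interSieve {X : Sp S} (mem : ∀ (W : Over S), ((yon S).obj W ⟶ X) → Prop) {W₁ W₂ : Over S}
    (w₁ : (yon S).obj W₁ ⟶ X) (w₂ : (yon S).obj W₂ ⟶ X) {T : Over S} (b₁ : T ⟶ W₁)
    (b₂ : T ⟶ W₂) : Sieve T where
  arrows T' a := ∃ (W₃ : Over S) (w₃ : (yon S).obj W₃ ⟶ X) (_ : mem W₃ w₃) (e₁ : W₃ ⟶ W₁)
    (e₂ : W₃ ⟶ W₂) (b₃ : T' ⟶ W₃), (yon S).map e₁ ≫ w₁ = w₃ ∧ (yon S).map e₂ ≫ w₂ = w₃ ∧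
      b₃ ≫ e₁ = a ≫ b₁ ∧ b₃ ≫ e₂ = a ≫ b₂
  downward_closed := by
    rintro T' T'' a ⟨W₃, w₃, hm, e₁, e₂, b₃, h1, h2, h3, h4⟩ g
    exact ⟨W₃, w₃, hm, e₁, e₂, g ≫ b₃, h1, h2, by rw [Category.assoc, h3, Category.assoc],
      by rw [Category.assoc, h4, Category.assoc]⟩

/-- A class of charts of a sheaf, covering it and closed under common refinements. -/
structure ChartClass (X : Sp S) where
  mem : ∀ (W : Over S), ((yon S).obj W ⟶ X) → Prop
  cov : ∀ (T : Over S) (x : (yon S).obj T ⟶ X), chartSieve mem x ∈ J S T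
  inter : ∀ {W₁ W₂ : Over S} {w₁ : (yon S).obj W₁ ⟶ X} {w₂ : (yon S).obj W₂ ⟶ X}, mem W₁ w₁ →
    mem W₂ w₂ → ∀ {T : Over S} (b₁ : T ⟶ W₁) (b₂ : T ⟶ W₂),
      (yon S).map b₁ ≫ w₁ = (yon S).map b₂ ≫ w₂ → interSieve mem w₁ w₂ b₁ b₂ ∈ J S T

section L2G

variable {Y X N : Sp S} {f : Y ⟶ X} {ν : N ⟶ X} {f' : Y ⟶ N}
  (D : ∀ (W : Over S) (w : (yon S).obj W ⟶ X), BC f ν f' w)
  {Z : Sp S} (π : Z ⟶ X) (g : Y ⟶ Z)

/-- The characterising property of the local descents. -/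
def IsK {W : Over S} (w : (yon S).obj W ⟶ X) (k : (D W w).NC ⟶ Z) : Prop :=
  (D W w).f'C ≫ k = (D W w).a ≫ g ∧ k ≫ π = (D W w).νC ≫ w

/-- `z` is a value of the point `n` computed on some chart of the class. -/
def Val (mem : ∀ (W : Over S), ((yon S).obj W ⟶ X) → Prop) {T : Over S}
    (n : (yon S).obj T ⟶ N) (z : (yon S).obj T ⟶ Z) : Prop :=
  ∃ (W : Over S) (w : (yon S).obj W ⟶ X) (_ : mem W w) (b : T ⟶ W)
    (hb : n ≫ ν = (yon S).map b ≫ w) (k : (D W w).NC ⟶ Z), IsK D π g w k ∧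
      z = (D W w).sq2.lift n ((yon S).map b) hb ≫ k

variable {D π g}

lemma Val.res {mem : ∀ (W : Over S), ((yon S).obj W ⟶ X) → Prop} {T T' : Over S} (c : T' ⟶ T)
    {n : (yon S).obj T ⟶ N} {z : (yon S).obj T ⟶ Z} (h : Val D π g mem n z) :
    Val D π g mem ((yon S).map c ≫ n) ((yon S).map c ≫ z) := by
  obtain ⟨W, w, hm, b, hb, k, hk, rfl⟩ := h
  have hb' : ((yon S).map c ≫ n) ≫ ν = (yon S).map (c ≫ b) ≫ w := by
    rw [Category.assoc, hb, Functor.map_comp, Category.assoc]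
  refine ⟨W, w, hm, c ≫ b, hb', k, hk, ?_⟩
  rw [← Category.assoc]
  congr 1
  apply (D W w).sq2.hom_ext
  · rw [Category.assoc, IsPullback.lift_fst, IsPullback.lift_fst]
  · rw [Category.assoc, IsPullback.lift_snd, IsPullback.lift_snd, Functor.map_comp]

/-- Compatibility of the local descents with a morphism of charts. -/
lemma lift_comp_eq {W₁ W₃ : Over S} {w₁ : (yon S).obj W₁ ⟶ X} {w₃ : (yon S).obj W₃ ⟶ X}
    (e : W₃ ⟶ W₁) (he : (yon S).map e ≫ w₁ = w₃) {k₁ : (D W₁ w₁).NC ⟶ Z}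
    {k₃ : (D W₃ w₃).NC ⟶ Z} (hk₁ : IsK D π g w₁ k₁) (hk₃ : IsK D π g w₃ k₃)
    (hu : ∀ k k' : (D W₃ w₃).NC ⟶ Z, IsK D π g w₃ k → IsK D π g w₃ k' → k = k')
    {T : Over S} (n : (yon S).obj T ⟶ N) (b₃ : T ⟶ W₃) (hb₃ : n ≫ ν = (yon S).map b₃ ≫ w₃)
    (hb₁ : n ≫ ν = (yon S).map (b₃ ≫ e) ≫ w₁) :
    (D W₁ w₁).sq2.lift n ((yon S).map (b₃ ≫ e)) hb₁ ≫ k₁ =
      (D W₃ w₃).sq2.lift n ((yon S).map b₃) hb₃ ≫ k₃ := by
  have hw : (D W₃ w₃).b ≫ ν = ((D W₃ w₃).νC ≫ (yon S).map e) ≫ w₁ := by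
    rw [(D W₃ w₃).sq2.w, Category.assoc, he]
  have hwY : (D W₃ w₃).a ≫ f = ((D W₃ w₃).fC ≫ (yon S).map e) ≫ w₁ := by
    rw [(D W₃ w₃).sq1.w, Category.assoc, he]
  -- the transition maps
  obtain ⟨t, ht⟩ : ∃ t : (D W₃ w₃).NC ⟶ (D W₁ w₁).NC, t = (D W₁ w₁).sq2.lift _ _ hw := ⟨_, rfl⟩
  obtain ⟨s, hs⟩ : ∃ s : (D W₃ w₃).YC ⟶ (D W₁ w₁).YC, s = (D W₁ w₁).sq1.lift _ _ hwY := ⟨_, rfl⟩
  have ht1 : t ≫ (D W₁ w₁).b = (D W₃ w₃).b := by rw [ht, IsPullback.lift_fst]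
  have ht2 : t ≫ (D W₁ w₁).νC = (D W₃ w₃).νC ≫ (yon S).map e := by
    rw [ht, IsPullback.lift_snd]
  have hs1 : s ≫ (D W₁ w₁).a = (D W₃ w₃).a := by rw [hs, IsPullback.lift_fst]
  have hs2 : s ≫ (D W₁ w₁).fC = (D W₃ w₃).fC ≫ (yon S).map e := by
    rw [hs, IsPullback.lift_snd]
  have hst : (D W₃ w₃).f'C ≫ t = s ≫ (D W₁ w₁).f'C := by
    apply (D W₁ w₁).sq2.hom_ext
    · rw [Category.assoc, ht1, Category.assoc, (D W₃ w₃).c2, (D W₁ w₁).c2, ← Category.assoc, hs1]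
    · rw [Category.assoc, ht2, Category.assoc, ← Category.assoc, (D W₃ w₃).c1, (D W₁ w₁).c1, hs2]
  have hk : IsK D π g w₃ (t ≫ k₁) := by
    constructor
    · rw [← Category.assoc, hst, Category.assoc, hk₁.1, ← Category.assoc, hs1]
    · rw [Category.assoc, hk₁.2, ← Category.assoc, ht2, Category.assoc, he]
  rw [← hu _ _ hk hk₃, ← Category.assoc]
  congr 1
  apply (D W₁ w₁).sq2.hom_ext
  · rw [Category.assoc, ht1, IsPullback.lift_fst, IsPullback.lift_fst]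
  · rw [Category.assoc, ht2, IsPullback.lift_snd, ← Category.assoc, IsPullback.lift_snd,
      Functor.map_comp]

variable (𝒲 : ChartClass X)

lemma Val.unique
    (hK : ∀ (W : Over S) (w : (yon S).obj W ⟶ X), 𝒲.mem W w →
      ∃! k : (D W w).NC ⟶ Z, IsK D π g w k)
    {T : Over S} {n : (yon S).obj T ⟶ N} {z z' : (yon S).obj T ⟶ Z}
    (h : Val D π g 𝒲.mem n z) (h' : Val D π g 𝒲.mem n z') : z = z' := by
  obtain ⟨W₁, w₁, hm₁, b₁, hb₁, k₁, hk₁, rfl⟩ := h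
  obtain ⟨W₂, w₂, hm₂, b₂, hb₂, k₂, hk₂, rfl⟩ := h'
  apply yon_hom_ext_of_mem_J (𝒲.inter hm₁ hm₂ b₁ b₂ (by rw [← hb₁, hb₂]))
  rintro T' a ⟨W₃, w₃, hm₃, e₁, e₂, b₃, he₁, he₂, h3, h4⟩
  obtain ⟨k₃, hk₃, hu₃⟩ := hK W₃ w₃ hm₃
  have hu : ∀ k k' : (D W₃ w₃).NC ⟶ Z, IsK D π g w₃ k → IsK D π g w₃ k' → k = k' :=
    fun k k' h h' => (hu₃ k h).trans (hu₃ k' h').symm
  have hb₃ : ((yon S).map a ≫ n) ≫ ν = (yon S).map b₃ ≫ w₃ := by
    rw [Category.assoc, hb₁, ← he₁, ← Category.assoc, ← Category.assoc, ← Functor.map_comp,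
      ← Functor.map_comp, h3]
  have e1 : (yon S).map a ≫ (D W₁ w₁).sq2.lift n ((yon S).map b₁) hb₁ =
      (D W₁ w₁).sq2.lift ((yon S).map a ≫ n) ((yon S).map (b₃ ≫ e₁))
        (by rw [hb₃, ← he₁, Functor.map_comp, Category.assoc]) := by
    apply (D W₁ w₁).sq2.hom_ext
    · rw [Category.assoc, IsPullback.lift_fst, IsPullback.lift_fst]
    · rw [Category.assoc, IsPullback.lift_snd, IsPullback.lift_snd, h3, Functor.map_comp]
  have e2 : (yon S).map a ≫ (D W₂ w₂).sq2.lift n ((yon S).map b₂) hb₂ =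
      (D W₂ w₂).sq2.lift ((yon S).map a ≫ n) ((yon S).map (b₃ ≫ e₂))
        (by rw [hb₃, ← he₂, Functor.map_comp, Category.assoc]) := by
    apply (D W₂ w₂).sq2.hom_ext
    · rw [Category.assoc, IsPullback.lift_fst, IsPullback.lift_fst]
    · rw [Category.assoc, IsPullback.lift_snd, IsPullback.lift_snd, h4, Functor.map_comp]
  rw [← Category.assoc, ← Category.assoc, e1, e2,
    lift_comp_eq e₁ he₁ hk₁ hk₃ hu ((yon S).map a ≫ n) b₃ hb₃,
    lift_comp_eq e₂ he₂ hk₂ hk₃ hu ((yon S).map a ≫ n) b₃ hb₃]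

/-- `z` is locally a value of `n`. -/
def LVal (mem : ∀ (W : Over S), ((yon S).obj W ⟶ X) → Prop)
    (D : ∀ (W : Over S) (w : (yon S).obj W ⟶ X), BC f ν f' w) (π : Z ⟶ X)
    (g : Y ⟶ Z) {T : Over S} (n : (yon S).obj T ⟶ N) (z : (yon S).obj T ⟶ Z) : Prop :=
  ∀ ⦃T' : Over S⦄ (a : T' ⟶ T), chartSieve mem (n ≫ ν) a →
    Val D π g mem ((yon S).map a ≫ n) ((yon S).map a ≫ z)

lemma LVal.res {mem : ∀ (W : Over S), ((yon S).obj W ⟶ X) → Prop} {T T' : Over S} (c : T' ⟶ T)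
    {n : (yon S).obj T ⟶ N} {z : (yon S).obj T ⟶ Z} (h : LVal mem D π g n z) :
    LVal mem D π g ((yon S).map c ≫ n) ((yon S).map c ≫ z) := by
  intro T'' a ha
  have ha' : chartSieve mem (n ≫ ν) (a ≫ c) := by
    obtain ⟨W, w, hm, b, hb⟩ := ha
    exact ⟨W, w, hm, b, by rw [hb, Functor.map_comp, Category.assoc, Category.assoc]⟩
  have := h (a ≫ c) ha'
  rwa [Functor.map_comp, Category.assoc, Category.assoc] at this

theorem existsUnique_lval
    (hK : ∀ (W : Over S) (w : (yon S).obj W ⟶ X), 𝒲.mem W w →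
      ∃! k : (D W w).NC ⟶ Z, IsK D π g w k)
    {T : Over S} (n : (yon S).obj T ⟶ N) :
    ∃! z : (yon S).obj T ⟶ Z, LVal 𝒲.mem D π g n z := by
  apply existsUnique_glue_rel (F := Z) (𝒲.cov T (n ≫ ν))
    (fun T' a z => Val D π g 𝒲.mem ((yon S).map a ≫ n) z)
  · rintro T' a ⟨W, w, hm, b, hb⟩
    obtain ⟨k, hk, -⟩ := hK W w hm
    have hb' : ((yon S).map a ≫ n) ≫ ν = (yon S).map b ≫ w := by rw [Category.assoc, hb]
    exact ⟨_, W, w, hm, b, hb', k, hk, rfl⟩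
  · intro T' a z z' h h'
    exact Val.unique 𝒲 hK h h'
  · intro T' T'' a c z h
    have := h.res c
    rwa [← Category.assoc, ← Functor.map_comp] at this

/-- **Local to global**: a factorisation through an integral morphism which is a normalization
over every chart of a chart class is a normalization. -/
theorem isRelNormalization_of_chartClass (hfac : f' ≫ ν = f) (hν : IsIntegralMor ν)
    (D : ∀ (W : Over S) (w : (yon S).obj W ⟶ X), BC f ν f' w)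
    (hloc : ∀ (W : Over S) (w : (yon S).obj W ⟶ X), 𝒲.mem W w →
      IsRelNormalization (D W w).fC (D W w).νC (D W w).f'C) :
    IsRelNormalization f ν f' := by
  refine ⟨hfac, hν, ?_⟩
  intro Z hZ π g hπ hg
  have hK : ∀ (W : Over S) (w : (yon S).obj W ⟶ X), 𝒲.mem W w →
      ∃! k : (D W w).NC ⟶ Z, IsK D π g w k := fun W w hm =>
    IsRelNormalization.existsUnique_abs (IsAlgSpace.yon_obj W) (D W w) (hloc W w hm) hZ π
      hπ g hg
  choose φ hφ hφu using fun (T : Over S) (n : (yon S).obj T ⟶ N) =>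
    existsUnique_lval (D := D) (π := π) (g := g) 𝒲 hK n
  obtain ⟨h, hh⟩ := exists_hom_of_points φ (fun T T' c n =>
    (hφu _ _ _ ((hφ T n).res c)).symm)
  have key : ∀ (h' : N ⟶ Z), f' ≫ h' = g → h' ≫ π = ν → ∀ (T : Over S)
      (n : (yon S).obj T ⟶ N), LVal 𝒲.mem D π g n (n ≫ h') := by
    intro h' h1 h2 T n T' a ha
    obtain ⟨W, w, hm, b, hb⟩ := ha
    have hb' : ((yon S).map a ≫ n) ≫ ν = (yon S).map b ≫ w := by rw [Category.assoc, hb]
    refine ⟨W, w, hm, b, hb', (D W w).b ≫ h', ⟨?_, ?_⟩, ?_⟩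
    · rw [← Category.assoc, (D W w).c2, Category.assoc, h1]
    · rw [Category.assoc, h2]
      exact (D W w).sq2.w
    · rw [IsPullback.lift_fst_assoc, Category.assoc]
  have hπν : h ≫ π = ν := by
    apply hom_ext_yon
    intro T n
    apply yon_hom_ext_of_mem_J (𝒲.cov T (n ≫ ν))
    intro T' a ha
    have h3 := hφ T n a ha
    obtain ⟨W, w, hm, b, hb, k, hk, h4⟩ := h3
    have e : (yon S).map a ≫ n ≫ h = (D W w).sq2.lift _ _ hb ≫ k := by rw [hh]; exact h4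
    rw [← Category.assoc n h π, ← Category.assoc ((yon S).map a), e, Category.assoc, hk.2,
      IsPullback.lift_snd_assoc, ← hb, Category.assoc]
  have hf'g : f' ≫ h = g := by
    apply hom_ext_yon
    intro T y
    rw [← Category.assoc, hh]
    symm
    apply hφu
    intro T' a ha
    obtain ⟨W, w, hm, b, hb⟩ := ha
    have hb' : ((yon S).map a ≫ y ≫ f') ≫ ν = (yon S).map b ≫ w := by rw [Category.assoc, hb]
    obtain ⟨k, hk, -⟩ := hK W w hm
    refine ⟨W, w, hm, b, hb', k, hk, ?_⟩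
    have hbY : ((yon S).map a ≫ y) ≫ f = (yon S).map b ≫ w := by
      rw [← hb', ← hfac]; simp only [Category.assoc]
    have e1 : (D W w).sq2.lift ((yon S).map a ≫ y ≫ f') ((yon S).map b) hb' =
        (D W w).sq1.lift ((yon S).map a ≫ y) ((yon S).map b) hbY ≫ (D W w).f'C := by
      apply (D W w).sq2.hom_ext
      · rw [IsPullback.lift_fst, Category.assoc, (D W w).c2, IsPullback.lift_fst_assoc,
          Category.assoc]
      · rw [IsPullback.lift_snd, Category.assoc, (D W w).c1, IsPullback.lift_snd]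
    rw [e1, Category.assoc, hk.1, IsPullback.lift_fst_assoc, Category.assoc]
  refine ⟨h, ⟨hf'g, hπν⟩, ?_⟩
  rintro h' ⟨h1, h2⟩
  apply hom_ext_yon
  intro T n
  rw [hh]
  exact hφu T n _ (key h' h1 h2 T n)

end L2G

end Groth.Agent.H7.NAS
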