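import Groth.Agent.Lib.Helper7.NAS3
import Groth.Agent.Lib.Helper5.AlgSp.SchImageQC
import Groth.Agent.Lib.Helper5.AlgSp.Coprod
import Groth.Agent.Lib.Helper5.AlgSp.Cover
import Mathlib

/-!
# Relative normalization of algebraic spaces, part 4: chart classes

Classes of étale charts closed under affine étale refinement are chart classes; the class of all
affine étale charts of an algebraic space.
-/

set_option autoImplicit false

universe u

open CategoryTheory CategoryTheory.Limits AlgebraicGeometry Opposite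

namespace Groth.Agent.H7.NAS

open _root_.AlgSp Groth.Agent.H5.AlgSp

variable {S : Scheme.{u}}

lemma isAffine_overOpen (T : Over S) (V : T.left.Opens) (hV : IsAffineOpen V) :
    IsAffine (overOpen T V).left := hV

lemma etale_overOpenι_comp {T W : Over S} (V : T.left.Opens) (e : T ⟶ W) (he : Etale e.left) :
    Etale (overOpenι T V ≫ e).left := by
  change Etale (V.ι ≫ e.left)
  infer_instance

lemma exists_isAffineOpen_mem (X : Scheme.{u}) (x : X) : ∃ V : X.Opens, IsAffineOpen V ∧ x ∈ V := by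
  obtain ⟨_, ⟨U, hU, rfl⟩, hxU, -⟩ := X.isBasis_affineOpens.exists_subset_of_mem_open
    (Set.mem_univ x) isOpen_univ
  exact ⟨U, hU, hxU⟩

/-- The refinement lemma: two étale charts of a class closed under affine étale refinement are
locally dominated by a common chart of the class. -/
theorem interSieve_mem_of_refine {X : Sp S} (mem : ∀ (W : Over S), ((yon S).obj W ⟶ X) → Prop)
    (het : ∀ (W : Over S) (w : (yon S).obj W ⟶ X), mem W w → RepWith @Etale w)
    (href : ∀ (W : Over S) (w : (yon S).obj W ⟶ X), mem W w → ∀ (W' : Over S) (e : W' ⟶ W),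
      IsAffine W'.left → Etale e.left → mem W' ((yon S).map e ≫ w))
    {W₁ W₂ : Over S} {w₁ : (yon S).obj W₁ ⟶ X} {w₂ : (yon S).obj W₂ ⟶ X} (h₁ : mem W₁ w₁)
    (h₂ : mem W₂ w₂) {T : Over S} (b₁ : T ⟶ W₁) (b₂ : T ⟶ W₂)
    (hb : (yon S).map b₁ ≫ w₁ = (yon S).map b₂ ≫ w₂) : interSieve mem w₁ w₂ b₁ b₂ ∈ J S T := by
  have hw₁ := het W₁ w₁ h₁
  have hw₂ := het W₂ w₂ h₂
  obtain ⟨P, hP⟩ : ∃ P : Over S, P = hw₁.rep.pullback w₂ := ⟨_, rfl⟩
  obtain ⟨pr₂, hpr₂⟩ : ∃ pr₂ : hw₁.rep.pullback w₂ ⟶ W₂, pr₂ = hw₁.rep.snd w₂ := ⟨_, rfl⟩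
  obtain ⟨pr₁, hpr₁⟩ := (yon S).map_surjective (hw₁.rep.fst w₂)
  have sq : IsPullback ((yon S).map pr₁) ((yon S).map pr₂) w₁ w₂ := by
    rw [hpr₁, hpr₂]
    exact hw₁.rep.isPullback w₂
  have hpr₂e : Etale pr₂.left := hw₁.property _ _ _ sq
  have hpr₁e : Etale pr₁.left := hw₂.property _ _ _ sq.flip
  obtain ⟨c, hc⟩ := (yon S).map_surjective (sq.lift ((yon S).map b₁) ((yon S).map b₂) hb)
  have hc1 : c ≫ pr₁ = b₁ := by
    apply (yon S).map_injective
    rw [Functor.map_comp, hc, sq.lift_fst]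
  have hc2 : c ≫ pr₂ = b₂ := by
    apply (yon S).map_injective
    rw [Functor.map_comp, hc, sq.lift_snd]
  choose V hVaff hVmem using fun t : T.left =>
    exists_isAffineOpen_mem (hw₁.rep.pullback w₂).left (c.left t)
  apply mem_J_of_openCover (fun t : T.left => c.left ⁻¹ᵁ V t) (fun t => ⟨t, hVmem t⟩)
  intro t
  obtain ⟨b₃, hb₃⟩ := exists_overOpen_lift (V t) (overOpenι T (c.left ⁻¹ᵁ V t) ≫ c)
    (fun t'' => t''.2)
  refine ⟨overOpen _ (V t), (yon S).map (overOpenι _ (V t) ≫ pr₁) ≫ w₁, ?_, overOpenι _ (V t) ≫ pr₁,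
    overOpenι _ (V t) ≫ pr₂, b₃, rfl, ?_, ?_, ?_⟩
  · exact href W₁ w₁ h₁ _ _ (isAffine_overOpen _ _ (hVaff t)) (etale_overOpenι_comp _ _ hpr₁e)
  · rw [Functor.map_comp, Functor.map_comp, Category.assoc, Category.assoc, sq.w]
  · rw [← Category.assoc, hb₃, Category.assoc, hc1]
  · rw [← Category.assoc, hb₃, Category.assoc, hc2]

/-- A class of étale charts closed under affine étale refinement and covering is a chart class. -/
def ChartClass.ofRefine {X : Sp S} (mem : ∀ (W : Over S), ((yon S).obj W ⟶ X) → Prop)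
    (het : ∀ (W : Over S) (w : (yon S).obj W ⟶ X), mem W w → RepWith @Etale w)
    (href : ∀ (W : Over S) (w : (yon S).obj W ⟶ X), mem W w → ∀ (W' : Over S) (e : W' ⟶ W),
      IsAffine W'.left → Etale e.left → mem W' ((yon S).map e ≫ w))
    (cov : ∀ (T : Over S) (x : (yon S).obj T ⟶ X), chartSieve mem x ∈ J S T) : ChartClass X where
  mem := mem
  cov := cov
  inter := fun h₁ h₂ _ b₁ b₂ hb => interSieve_mem_of_refine mem het href h₁ h₂ b₁ b₂ hb

lemma repWith_etale_comp_yon {X : Sp S} {W W' : Over S} (e : W' ⟶ W) (he : Etale e.left)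
    {w : (yon S).obj W ⟶ X} (hw : RepWith @Etale w) : RepWith @Etale ((yon S).map e ≫ w) :=
  (RepWith @Etale).comp_mem _ _ ((repWith_yon_map_iff @Etale e).2 he) hw

/-- Points of an algebraic space factor locally through affine étale charts. -/
theorem chartSieve_affEt_mem {X : Sp S} (hX : IsAlgSpace X) {T : Over S}
    (x : (yon S).obj T ⟶ X) :
    chartSieve (fun W (w : (yon S).obj W ⟶ X) => IsAffine W.left ∧ RepWith @Etale w) x ∈ J S T := by
  obtain ⟨U, p, hpe, hps⟩ := hX.atlas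
  have := isLocallySurjective_of_etale_surjective p hpe hps
  refine (J S).transitive (liftSieve_mem p x) _ ?_
  rintro T' a ⟨τ, hτ⟩
  obtain ⟨t, rfl⟩ := (yon S).map_surjective τ
  choose V hVaff hVmem using fun s : T'.left => exists_isAffineOpen_mem U.left (t.left s)
  apply mem_J_of_openCover (fun s : T'.left => t.left ⁻¹ᵁ V s) (fun s => ⟨s, hVmem s⟩)
  intro s
  obtain ⟨b₃, hb₃⟩ := exists_overOpen_lift (V s) (overOpenι T' (t.left ⁻¹ᵁ V s) ≫ t)
    (fun t'' => t''.2)
  refine ⟨overOpen U (V s), (yon S).map (overOpenι U (V s)) ≫ p,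
    ⟨isAffine_overOpen _ _ (hVaff s), repWith_etale_comp_yon _ ?_ hpe⟩, b₃, ?_⟩
  · change Etale (V s).ι
    infer_instance
  · rw [← Category.assoc, ← Functor.map_comp, hb₃, Functor.map_comp, Category.assoc, hτ,
      Functor.map_comp, Category.assoc]

/-- The class of all affine étale charts of an algebraic space. -/
def affEtClass {X : Sp S} (hX : IsAlgSpace X) : ChartClass X :=
  ChartClass.ofRefine (fun W (w : (yon S).obj W ⟶ X) => IsAffine W.left ∧ RepWith @Etale w)
    (fun _ _ h => h.2) (fun _ _ h _ e hW' he => ⟨hW', repWith_etale_comp_yon e he h.2⟩)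
    (fun _ x => chartSieve_affEt_mem hX x)

lemma affEtClass_mem {X : Sp S} (hX : IsAlgSpace X) (W : Over S) (w : (yon S).obj W ⟶ X) :
    (affEtClass hX).mem W w ↔ IsAffine W.left ∧ RepWith @Etale w := Iff.rfl

end Groth.Agent.H7.NAS
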