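import Groth.Agent.Lib.Helper7.NASA10
import Groth.Agent.Lib.Helper7.NAS4
import Mathlib

/-!
# Relative normalization of algebraic spaces, part 5: stable normalizations are normalizations,
and are stable under étale base change
-/

set_option autoImplicit false

universe u

open CategoryTheory CategoryTheory.Limits AlgebraicGeometry Opposite

namespace Groth.Agent.H7.NAS

open _root_.AlgSp Groth.Agent.H5.AlgSp

variable {S : Scheme.{u}}

theorem Stable.isRelNormalization {Y X N : Sp S} {f : Y ⟶ X} {ν : N ⟶ X} {f' : Y ⟶ N}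
    (hX : IsAlgSpace X) (h : Stable f ν f') : IsRelNormalization f ν f' :=
  isRelNormalization_of_chartClass (affEtClass hX) h.1 h.2.1 (fun _ w => BC.std h.1 w)
    (fun W w hm => h.2.2 W hm.1 w hm.2 _)

theorem Stable.baseChange {Y X N : Sp S} {f : Y ⟶ X} {ν : N ⟶ X} {f' : Y ⟶ N}
    (h : Stable f ν f') {B : Sp S} {β : B ⟶ X} (hβ : IsEtaleMor β) (d : BC f ν f' β) :
    Stable d.fC d.νC d.f'C := by
  refine ⟨d.c1, isIntegralMor_of_isPullback d.sq2 h.2.1, ?_⟩
  intro W₁ hW₁ c hc d'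
  exact h.2.2 W₁ hW₁ (c ≫ β) (hβ c hc) (d.comp d')

/-- A stable normalization restricts to normalizations over étale algebraic spaces. -/
theorem Stable.isRelNormalization_baseChange {Y X N : Sp S} {f : Y ⟶ X} {ν : N ⟶ X} {f' : Y ⟶ N}
    (h : Stable f ν f') {B : Sp S} (hB : IsAlgSpace B) {β : B ⟶ X} (hβ : IsEtaleMor β)
    (d : BC f ν f' β) : IsRelNormalization d.fC d.νC d.f'C :=
  (h.baseChange hβ d).isRelNormalization hB

/-- The universal property of a normalization, for targets which are integral over another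
base. -/
theorem IsRelNormalization.existsUnique_over {Y₁ B N₁ : Sp S} {f₁ : Y₁ ⟶ B} {ν₁ : N₁ ⟶ B}
    {f'₁ : Y₁ ⟶ N₁} (hB : IsAlgSpace B) (hn : IsRelNormalization f₁ ν₁ f'₁) {Z C : Sp S}
    (π : Z ⟶ C) (hπ : IsIntegralMor π) (β : B ⟶ C) (g : Y₁ ⟶ Z) (hg : g ≫ π = f₁ ≫ β) :
    ∃! k : N₁ ⟶ Z, f'₁ ≫ k = g ∧ k ≫ π = ν₁ ≫ β := by
  have sqZ := IsPullback.of_hasPullback π β
  have hπC : IsIntegralMor (pullback.snd π β) := isIntegralMor_of_isPullback sqZ hπ
  have hZC : IsAlgSpace (pullback π β) := isAlgSpace_of_isIntegralMor hB hπC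
  obtain ⟨h, ⟨h1, h2⟩, hu⟩ := hn.2.2 hZC (pullback.snd π β) (pullback.lift g f₁ hg) hπC
    (pullback.lift_snd _ _ _)
  refine ⟨h ≫ pullback.fst π β, ⟨?_, ?_⟩, ?_⟩
  · rw [← Category.assoc, h1, pullback.lift_fst]
  · rw [Category.assoc, pullback.condition, ← Category.assoc, h2]
  · rintro k ⟨hk1, hk2⟩
    have := hu (pullback.lift k ν₁ hk2) ⟨?_, pullback.lift_snd _ _ _⟩
    · rw [← this, pullback.lift_fst]
    · apply pullback.hom_ext
      · rw [Category.assoc, pullback.lift_fst, pullback.lift_fst, hk1]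
      · rw [Category.assoc, pullback.lift_snd, pullback.lift_snd, hn.1]

end Groth.Agent.H7.NAS
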