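import Groth.Agent.Lib.Helper7.NAS5
import Mathlib

/-!
# Relative normalization of algebraic spaces, part 6: comparison of local normalizations

Stable normalizations over two étale charts of `X` are canonically identified over every algebraic
space étale over the first chart and mapping to the second; the identifications are compatible with
base change and satisfy the cocycle condition.
-/

set_option autoImplicit false

universe u

open CategoryTheory CategoryTheory.Limits AlgebraicGeometry Opposite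

namespace Groth.Agent.H7.NAS

open _root_.AlgSp Groth.Agent.H5.AlgSp

variable {S : Scheme.{u}}

/-- A stable normalization over a chart `w : U ⟶ X`. -/
structure LocN {Y X : Sp S} (f : Y ⟶ X) where
  U : Sp S
  w : U ⟶ X
  YU : Sp S
  a : YU ⟶ Y
  fU : YU ⟶ U
  sq : IsPullback a fU f w
  N : Sp S
  ν : N ⟶ U
  f' : YU ⟶ N
  st : Stable fU ν f'

namespace LocN

variable {Y X : Sp S} {f : Y ⟶ X}

section Theta

variable (L L' : LocN f) {B : Sp S} {γ : B ⟶ L.U} (d : BC L.fU L.ν L.f' γ) (γ' : B ⟶ L'.U)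
  (hγ : γ ≫ L.w = γ' ≫ L'.w)

/-- The comparison map on the sources. -/
noncomputable def yMap : d.YC ⟶ L'.YU :=
  L'.sq.lift (d.a ≫ L.a) (d.fC ≫ γ') (by
    rw [Category.assoc, L.sq.w, ← Category.assoc, d.sq1.w, Category.assoc, hγ, Category.assoc])

@[reassoc]
lemma yMap_a : yMap L L' d γ' hγ ≫ L'.a = d.a ≫ L.a := L'.sq.lift_fst _ _ _

@[reassoc]
lemma yMap_fU : yMap L L' d γ' hγ ≫ L'.fU = d.fC ≫ γ' := L'.sq.lift_snd _ _ _

variable (hB : IsAlgSpace B) (hγe : IsEtaleMor γ)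

include hB hγe in
theorem existsUnique_theta :
    ∃! k : d.NC ⟶ L'.N, d.f'C ≫ k = yMap L L' d γ' hγ ≫ L'.f' ∧ k ≫ L'.ν = d.νC ≫ γ' :=
  IsRelNormalization.existsUnique_over hB (L.st.isRelNormalization_baseChange hB hγe d) L'.ν
    L'.st.2.1 γ' (yMap L L' d γ' hγ ≫ L'.f') (by rw [Category.assoc, L'.st.1, yMap_fU])

/-- The canonical comparison map. -/
noncomputable def theta : d.NC ⟶ L'.N := (existsUnique_theta L L' d γ' hγ hB hγe).exists.choose

@[reassoc]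
lemma f'C_theta : d.f'C ≫ theta L L' d γ' hγ hB hγe = yMap L L' d γ' hγ ≫ L'.f' :=
  (existsUnique_theta L L' d γ' hγ hB hγe).exists.choose_spec.1

@[reassoc]
lemma theta_ν : theta L L' d γ' hγ hB hγe ≫ L'.ν = d.νC ≫ γ' :=
  (existsUnique_theta L L' d γ' hγ hB hγe).exists.choose_spec.2

lemma theta_unique (k : d.NC ⟶ L'.N) (h1 : d.f'C ≫ k = yMap L L' d γ' hγ ≫ L'.f')
    (h2 : k ≫ L'.ν = d.νC ≫ γ') : k = theta L L' d γ' hγ hB hγe :=
  (existsUnique_theta L L' d γ' hγ hB hγe).unique ⟨h1, h2⟩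
    ⟨f'C_theta L L' d γ' hγ hB hγe, theta_ν L L' d γ' hγ hB hγe⟩

end Theta

/-- **Compatibility of the comparison maps with base change.** -/
theorem theta_baseChange (L L' : LocN f) {B B₁ : Sp S} {γ : B ⟶ L.U} (d : BC L.fU L.ν L.f' γ)
    (γ' : B ⟶ L'.U) (hγ : γ ≫ L.w = γ' ≫ L'.w) (hB : IsAlgSpace B) (hγe : IsEtaleMor γ)
    {γ₁ : B₁ ⟶ L.U} (d₁ : BC L.fU L.ν L.f' γ₁) (γ'₁ : B₁ ⟶ L'.U)
    (hγ₁ : γ₁ ≫ L.w = γ'₁ ≫ L'.w) (hB₁ : IsAlgSpace B₁) (hγe₁ : IsEtaleMor γ₁)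
    (e : B₁ ⟶ B) (he : e ≫ γ = γ₁) (he' : e ≫ γ' = γ'₁)
    (nmap : d₁.NC ⟶ d.NC) (hn1 : nmap ≫ d.b = d₁.b) (hn2 : nmap ≫ d.νC = d₁.νC ≫ e) :
    nmap ≫ theta L L' d γ' hγ hB hγe = theta L L' d₁ γ'₁ hγ₁ hB₁ hγe₁ := by
  apply theta_unique
  · -- compatibility with `f'`
    have hw : d₁.a ≫ L.fU = (d₁.fC ≫ e) ≫ γ := by
      rw [d₁.sq1.w, Category.assoc, he]
    have hy : d₁.f'C ≫ nmap = d.sq1.lift d₁.a (d₁.fC ≫ e) hw ≫ d.f'C := by
      apply d.sq2.hom_ext
      · rw [Category.assoc, hn1, d₁.c2, Category.assoc, d.c2, IsPullback.lift_fst_assoc]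
      · rw [Category.assoc, hn2, ← Category.assoc, d₁.c1, Category.assoc, d.c1,
          IsPullback.lift_snd]
    rw [← Category.assoc, hy, Category.assoc, f'C_theta, ← Category.assoc]
    congr 1
    apply L'.sq.hom_ext
    · rw [Category.assoc, yMap_a, IsPullback.lift_fst_assoc, yMap_a]
    · rw [Category.assoc, yMap_fU, IsPullback.lift_snd_assoc, yMap_fU, Category.assoc, he']
  · rw [Category.assoc, theta_ν, ← Category.assoc, hn2, Category.assoc, he']

/-- **The cocycle condition.** -/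
theorem theta_cocycle (L L' L'' : LocN f) {B : Sp S} {γ : B ⟶ L.U} (d : BC L.fU L.ν L.f' γ)
    {γ' : B ⟶ L'.U} (d' : BC L'.fU L'.ν L'.f' γ') (γ'' : B ⟶ L''.U)
    (hγ : γ ≫ L.w = γ' ≫ L'.w) (hγ' : γ' ≫ L'.w = γ'' ≫ L''.w) (hB : IsAlgSpace B)
    (hγe : IsEtaleMor γ) (hγe' : IsEtaleMor γ')
    (φ : d.NC ⟶ d'.NC) (hφ1 : φ ≫ d'.b = theta L L' d γ' hγ hB hγe) (hφ2 : φ ≫ d'.νC = d.νC) :
    φ ≫ theta L' L'' d' γ'' hγ' hB hγe' = theta L L'' d γ'' (hγ.trans hγ') hB hγe := by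
  apply theta_unique
  · have hw : yMap L L' d γ' hγ ≫ L'.fU = d.fC ≫ γ' := yMap_fU _ _ _ _ _
    have hy : d.f'C ≫ φ = d'.sq1.lift (yMap L L' d γ' hγ) d.fC hw ≫ d'.f'C := by
      apply d'.sq2.hom_ext
      · rw [Category.assoc, hφ1, f'C_theta, Category.assoc, d'.c2, IsPullback.lift_fst_assoc]
      · rw [Category.assoc, hφ2, d.c1, Category.assoc, d'.c1, IsPullback.lift_snd]
    rw [← Category.assoc, hy, Category.assoc, f'C_theta, ← Category.assoc]
    congr 1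
    apply L''.sq.hom_ext
    · rw [Category.assoc, yMap_a, IsPullback.lift_fst_assoc, yMap_a, yMap_a]
    · rw [Category.assoc, yMap_fU, IsPullback.lift_snd_assoc, yMap_fU]
  · rw [Category.assoc, theta_ν, ← Category.assoc, hφ2]

/-- **The comparison map of a chart with itself is the identity along sections.** -/
theorem theta_section (L : LocN f) (hU : IsAlgSpace L.U) {B : Sp S} {γ : B ⟶ L.U}
    (d : BC L.fU L.ν L.f' γ) (γ' : B ⟶ L.U) (hγ : γ ≫ L.w = γ' ≫ L.w) (hB : IsAlgSpace B)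
    (hγe : IsEtaleMor γ) (s : L.U ⟶ B) (hs : s ≫ γ = 𝟙 _) (hs' : s ≫ γ' = 𝟙 _)
    (σ : L.N ⟶ d.NC) (hσ1 : σ ≫ d.b = 𝟙 _) (hσ2 : σ ≫ d.νC = L.ν ≫ s) :
    σ ≫ theta L L d γ' hγ hB hγe = 𝟙 _ := by
  have hn := L.st.isRelNormalization hU
  obtain ⟨k, -, hk⟩ := hn.2.2 (isAlgSpace_of_isIntegralMor hU hn.2.1) L.ν L.f' hn.2.1 hn.1
  rw [hk (𝟙 _) ⟨Category.comp_id _, Category.id_comp _⟩]
  apply hk
  constructor
  · have hw : 𝟙 L.YU ≫ L.fU = (L.fU ≫ s) ≫ γ := by
      rw [Category.id_comp, Category.assoc, hs, Category.comp_id]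
    have hy : L.f' ≫ σ = d.sq1.lift (𝟙 _) (L.fU ≫ s) hw ≫ d.f'C := by
      apply d.sq2.hom_ext
      · rw [Category.assoc, hσ1, Category.comp_id, Category.assoc, d.c2,
          IsPullback.lift_fst_assoc, Category.id_comp]
      · rw [Category.assoc, hσ2, ← Category.assoc, L.st.1, Category.assoc, d.c1,
          IsPullback.lift_snd]
    rw [← Category.assoc, hy, Category.assoc, f'C_theta, ← Category.assoc]
    have : d.sq1.lift (𝟙 _) (L.fU ≫ s) hw ≫ yMap L L d γ' hγ = 𝟙 _ := by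
      apply L.sq.hom_ext
      · rw [Category.assoc, yMap_a, IsPullback.lift_fst_assoc, Category.id_comp]
      · rw [Category.assoc, yMap_fU, IsPullback.lift_snd_assoc, Category.assoc, hs',
          Category.comp_id, Category.id_comp]
    rw [this, Category.id_comp]
  · rw [Category.assoc, theta_ν, ← Category.assoc, hσ2, Category.assoc, hs', Category.comp_id]

end LocN

end Groth.Agent.H7.NAS
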