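import Groth.Agent.Lib.Helper7.NAS7
import Mathlib

/-!
# Relative normalization of algebraic spaces, part 8: the cocycle condition for the transport of
points
-/

set_option autoImplicit false

universe u

open CategoryTheory CategoryTheory.Limits AlgebraicGeometry Opposite

namespace Groth.Agent.H7.NAS

open _root_.AlgSp Groth.Agent.H5.AlgSp

variable {S : Scheme.{u}}

namespace Fam

variable {Y X : Sp S} {f : Y ⟶ X} (F : Fam f)

/-- The triple overlaps, with a point. -/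
theorem exists_triple (i j k : F.ι) {T : Over S} (u : (yon S).obj T ⟶ (F.L i).U)
    (u' : (yon S).obj T ⟶ (F.L j).U) (u'' : (yon S).obj T ⟶ (F.L k).U)
    (h : u ≫ (F.L i).w = u' ≫ (F.L j).w) (h' : u' ≫ (F.L j).w = u'' ≫ (F.L k).w) :
    ∃ (B₃ : Sp S) (e₁ : B₃ ⟶ F.B i j) (e₂ : B₃ ⟶ F.B j k) (e₃ : B₃ ⟶ F.B i k)
      (t : (yon S).obj T ⟶ B₃), IsAlgSpace B₃ ∧
      e₁ ≫ pullback.snd _ _ = e₂ ≫ pullback.fst _ _ ∧
      e₃ ≫ pullback.fst _ _ = e₁ ≫ pullback.fst _ _ ∧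
      e₃ ≫ pullback.snd _ _ = e₂ ≫ pullback.snd _ _ ∧
      IsEtaleMor (e₁ ≫ pullback.fst (F.L i).w (F.L j).w) ∧
      IsEtaleMor (e₁ ≫ pullback.snd (F.L i).w (F.L j).w) ∧
      t ≫ e₁ ≫ pullback.fst _ _ = u ∧ t ≫ e₁ ≫ pullback.snd _ _ = u' ∧
      t ≫ e₂ ≫ pullback.snd _ _ = u'' := by
  have sq := IsPullback.of_hasPullback (pullback.snd (F.L i).w (F.L j).w)
    (pullback.fst (F.L j).w (F.L k).w)
  have hc : (pullback.fst (pullback.snd (F.L i).w (F.L j).w) (pullback.fst (F.L j).w (F.L k).w) ≫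
      pullback.fst _ _) ≫ (F.L i).w =
      (pullback.snd (pullback.snd (F.L i).w (F.L j).w) (pullback.fst (F.L j).w (F.L k).w) ≫
      pullback.snd _ _) ≫ (F.L k).w := by
    rw [Category.assoc, pullback.condition, ← Category.assoc, sq.w, Category.assoc,
      pullback.condition, Category.assoc]
  have he₁ : RepWith @Etale (pullback.fst (pullback.snd (F.L i).w (F.L j).w)
      (pullback.fst (F.L j).w (F.L k).w)) :=
    MorphismProperty.of_isPullback (P := RepWith @Etale) sq.flip (F.repWith_fst j k)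
  refine ⟨_, pullback.fst _ _, pullback.snd _ _, pullback.lift _ _ hc,
    pullback.lift (pullback.lift u u' h) (pullback.lift u' u'' h')
      (by rw [pullback.lift_snd, pullback.lift_fst]),
    isAlgSpace_pullback (F.hU j).diag (F.hB i j) (F.hB j k) sq, sq.w, pullback.lift_fst _ _ _,
    pullback.lift_snd _ _ _,
    isEtaleMor_of_repWith ((RepWith @Etale).comp_mem _ _ he₁ (F.repWith_fst i j)),
    isEtaleMor_of_repWith ((RepWith @Etale).comp_mem _ _ he₁ (F.repWith_snd i j)), ?_, ?_, ?_⟩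
  · rw [pullback.lift_fst_assoc, pullback.lift_fst]
  · rw [pullback.lift_fst_assoc, pullback.lift_snd]
  · rw [pullback.lift_snd_assoc, pullback.lift_snd]

lemma tr_tr {i j k : F.ι} {T : Over S} (m : (yon S).obj T ⟶ (F.L i).N)
    (u' : (yon S).obj T ⟶ (F.L j).U) (u'' : (yon S).obj T ⟶ (F.L k).U)
    (h : m ≫ (F.L i).ν ≫ (F.L i).w = u' ≫ (F.L j).w) (m' : (yon S).obj T ⟶ (F.L j).N)
    (hm' : F.tr m u' h = m') (h' : m' ≫ (F.L j).ν ≫ (F.L j).w = u'' ≫ (F.L k).w)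
    (h'' : m ≫ (F.L i).ν ≫ (F.L i).w = u'' ≫ (F.L k).w) :
    F.tr m' u'' h' = F.tr m u'' h'' := by
  have hm'ν : m' ≫ (F.L j).ν = u' := by rw [← hm', tr_ν]
  obtain ⟨B₃, e₁, e₂, e₃, t, hB₃, hc12, hc31, hc32, hγi, hγj, ht1, ht2, ht3⟩ :=
    F.exists_triple i j k (m ≫ (F.L i).ν) u' u'' (by rw [Category.assoc, h])
      (by rw [← hm'ν, Category.assoc, h'])
  have hγij : (e₁ ≫ pullback.fst _ _) ≫ (F.L i).w = (e₁ ≫ pullback.snd _ _) ≫ (F.L j).w := by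
    rw [Category.assoc, pullback.condition, Category.assoc]
  have hγjk : (e₁ ≫ pullback.snd _ _) ≫ (F.L j).w = (e₂ ≫ pullback.snd _ _) ≫ (F.L k).w := by
    rw [hc12, Category.assoc, pullback.condition, Category.assoc]
  obtain ⟨Di, -⟩ : ∃ Di : BC (F.L i).fU (F.L i).ν (F.L i).f'
      (e₁ ≫ pullback.fst (F.L i).w (F.L j).w), True := ⟨BC.std (F.L i).st.1 _, trivial⟩
  obtain ⟨Dj, -⟩ : ∃ Dj : BC (F.L j).fU (F.L j).ν (F.L j).f'
      (e₁ ≫ pullback.snd (F.L i).w (F.L j).w), True := ⟨BC.std (F.L j).st.1 _, trivial⟩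
  -- the point of `Di.NC`
  obtain ⟨n, hn1, hn2⟩ : ∃ n : (yon S).obj T ⟶ Di.NC, n ≫ Di.b = m ∧ n ≫ Di.νC = t :=
    ⟨Di.sq2.lift m t ht1.symm, IsPullback.lift_fst _ _ _ _, IsPullback.lift_snd _ _ _ _⟩
  -- the three base change maps
  obtain ⟨nmap₁, h11, h12⟩ : ∃ nmap₁ : Di.NC ⟶ (F.dd i j).NC, nmap₁ ≫ (F.dd i j).b = Di.b ∧
      nmap₁ ≫ (F.dd i j).νC = Di.νC ≫ e₁ :=
    ⟨(F.dd i j).sq2.lift Di.b (Di.νC ≫ e₁) (by rw [Di.sq2.w, Category.assoc]),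
      IsPullback.lift_fst _ _ _ _, IsPullback.lift_snd _ _ _ _⟩
  obtain ⟨nmap₃, h31, h32⟩ : ∃ nmap₃ : Di.NC ⟶ (F.dd i k).NC, nmap₃ ≫ (F.dd i k).b = Di.b ∧
      nmap₃ ≫ (F.dd i k).νC = Di.νC ≫ e₃ :=
    ⟨(F.dd i k).sq2.lift Di.b (Di.νC ≫ e₃) (by rw [Di.sq2.w, Category.assoc, hc31]),
      IsPullback.lift_fst _ _ _ _, IsPullback.lift_snd _ _ _ _⟩
  obtain ⟨nmap₂, h21, h22⟩ : ∃ nmap₂ : Dj.NC ⟶ (F.dd j k).NC, nmap₂ ≫ (F.dd j k).b = Dj.b ∧
      nmap₂ ≫ (F.dd j k).νC = Dj.νC ≫ e₂ :=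
    ⟨(F.dd j k).sq2.lift Dj.b (Dj.νC ≫ e₂) (by
        rw [Dj.sq2.w, Category.assoc]
        exact congrArg (fun z => Dj.νC ≫ z) hc12),
      IsPullback.lift_fst _ _ _ _, IsPullback.lift_snd _ _ _ _⟩
  have TB1 := LocN.theta_baseChange (F.L i) (F.L j) (F.dd i j) (pullback.snd _ _)
    pullback.condition (F.hB i j) (isEtaleMor_of_repWith (F.repWith_fst i j)) Di
    (e₁ ≫ pullback.snd _ _) hγij hB₃ hγi e₁ rfl rfl nmap₁ h11 h12
  have TB3 := LocN.theta_baseChange (F.L i) (F.L k) (F.dd i k) (pullback.snd _ _)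
    pullback.condition (F.hB i k) (isEtaleMor_of_repWith (F.repWith_fst i k)) Di
    (e₂ ≫ pullback.snd _ _) (hγij.trans hγjk) hB₃ hγi e₃ hc31 hc32 nmap₃ h31 h32
  have TB2 := LocN.theta_baseChange (F.L j) (F.L k) (F.dd j k) (pullback.snd _ _)
    pullback.condition (F.hB j k) (isEtaleMor_of_repWith (F.repWith_fst j k)) Dj
    (e₂ ≫ pullback.snd _ _) hγjk hB₃ hγj e₂ hc12.symm rfl nmap₂ h21 h22
  obtain ⟨φ, hφ1, hφ2⟩ : ∃ φ : Di.NC ⟶ Dj.NC,
      φ ≫ Dj.b = LocN.theta (F.L i) (F.L j) Di (e₁ ≫ pullback.snd _ _) hγij hB₃ hγi ∧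
      φ ≫ Dj.νC = Di.νC :=
    ⟨Dj.sq2.lift _ Di.νC (LocN.theta_ν _ _ _ _ _ _ _), IsPullback.lift_fst _ _ _ _,
      IsPullback.lift_snd _ _ _ _⟩
  have COC := LocN.theta_cocycle (F.L i) (F.L j) (F.L k) Di Dj (e₂ ≫ pullback.snd _ _) hγij hγjk
    hB₃ hγi hγj φ hφ1 hφ2
  -- the points
  have hp1 : F.ptN m u' h = n ≫ nmap₁ := by
    apply F.ptN_ext
    · rw [ptN_b, Category.assoc, h11, hn1]
    · rw [ptN_νC_snd, Category.assoc, ← Category.assoc nmap₁, h12, Category.assoc,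
        ← Category.assoc n, hn2, ht2]
  have hp3 : F.ptN m u'' h'' = n ≫ nmap₃ := by
    apply F.ptN_ext
    · rw [ptN_b, Category.assoc, h31, hn1]
    · rw [ptN_νC_snd, Category.assoc, ← Category.assoc nmap₃, h32, Category.assoc, hc32,
        ← Category.assoc n, hn2, ht3]
  have hm'2 : n ≫ φ ≫ Dj.b = m' := by
    rw [hφ1, ← TB1, ← Category.assoc, ← hp1]
    exact hm'
  have hp2 : F.ptN m' u'' h' = n ≫ φ ≫ nmap₂ := by
    apply F.ptN_ext
    · rw [ptN_b, Category.assoc, Category.assoc, h21, hm'2]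
    · rw [ptN_νC_snd, Category.assoc, Category.assoc, ← Category.assoc nmap₂, h22, Category.assoc,
        ← Category.assoc φ, hφ2, ← Category.assoc n, hn2, ht3]
  unfold tr
  rw [hp2, hp3, Category.assoc, Category.assoc, Category.assoc]
  unfold Θ
  rw [TB2, TB3, COC]

end Fam

end Groth.Agent.H7.NAS
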