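import Groth.Agent.Lib.Helper7.NAS8
import Groth.Agent.Lib.Helper5.AlgSp.ChartFamily
import Groth.Agent.Lib.Helper3.AlgSpCov.FpqcIntegralBase
import Groth.Agent.Lib.Helper3.AlgSpCov.Covers
import Mathlib

/-!
# Relative normalization of algebraic spaces, part 9: the glued normalization
-/

set_option autoImplicit false

universe u

open CategoryTheory CategoryTheory.Limits AlgebraicGeometry Opposite

namespace Groth.Agent.H7.NAS

open _root_.AlgSp Groth.Agent.H5.AlgSp

variable {S : Scheme.{u}}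

namespace Fam

variable {Y X : Sp S} {f : Y ⟶ X} (F : Fam f)

/-- The descent datum of the family. -/
noncomputable def D : DescData X where
  ι := F.ι
  U i := (F.L i).U
  p i := (F.L i).w
  M i := (F.L i).N
  ν i := (F.L i).ν
  tr m u' h := F.tr m u' h
  tr_ν := F.tr_ν
  tr_nat := F.tr_nat
  tr_id := F.tr_id
  tr_tr := F.tr_tr
  cov := F.cov

/-- The glued normalization. -/
noncomputable def N : Sp S := F.D.N

/-- Its structure morphism. -/
noncomputable def ν : F.N ⟶ X := F.D.νN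

/-- The charts of the glued normalization. -/
noncomputable def q (i : F.ι) : (F.L i).N ⟶ F.N := F.D.q i

lemma isPullback_q (i : F.ι) : IsPullback (F.q i) (F.L i).ν F.ν (F.L i).w := F.D.isPullback_q i

lemma repWith_q (i : F.ι) : RepWith @Etale (F.q i) :=
  MorphismProperty.of_isPullback (P := RepWith @Etale) (F.isPullback_q i).flip (F.hw i)

lemma q_cov (T : Over S) (ξ : (yon S).obj T ⟶ F.N) : jointLiftSieve F.q ξ ∈ J S T := by
  refine (J S).superset_covering ?_ (F.D.ptSieve_mem ξ)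
  rintro T' a ⟨i, m, hm⟩
  exact ⟨(i : F.ι), (m : (yon S).obj T' ⟶ (F.L i).N), (F.D.comp_q m).trans hm⟩

lemma hom_ext {Z : Sp S} (a b : F.N ⟶ Z) (h : ∀ i, F.q i ≫ a = F.q i ≫ b) : a = b :=
  F.D.hom_ext a b h

lemma hLN (i : F.ι) : IsAlgSpace (F.L i).N :=
  isAlgSpace_of_isIntegralMor (F.hU i) (F.L i).st.2.1

theorem isAlgSpace_N : IsAlgSpace F.N := by
  choose V a hae has using fun i => (F.hLN i).atlas
  refine isAlgSpace_of_chart_family V (fun i => a i ≫ F.q i)
    (fun i => (RepWith @Etale).comp_mem _ _ (hae i) (F.repWith_q i)) ?_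
  intro x
  obtain ⟨i, y, rfl⟩ := points_jointly_surjective F.q F.q_cov x
  obtain ⟨u, rfl⟩ := ofPt_surjective_of_repWith (has i) y
  exact ⟨i, u, rfl⟩

lemma locP_mono {P Q : MorphismProperty Scheme.{u}} (hPQ : P ≤ Q) {A B : Sp S} {g : A ⟶ B}
    (h : LocP P g) : LocP Q g :=
  fun _ _ a b k ha hb e => hPQ _ (h a b k ha hb e)

theorem isFpqcCover : IsFpqcCover (fun i => (F.L i).U) (fun i => (F.L i).w) := by
  apply Groth.Agent.H3.AlgSpCov.isFpqcCover_of_isFppfCover F.hX _ F.hU
  refine ⟨fun i => ?_, fun x => ?_⟩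
  · have h := locP_etale_of_isEtaleMor (isEtaleMor_of_repWith (F.hw i))
    exact ⟨locP_mono etale_le_flat h, locP_mono etale_le_lfp h⟩
  · obtain ⟨i, y, hy⟩ := points_jointly_surjective (fun i => (F.L i).w)
      (fun T ξ => F.cov T ξ) x
    exact ⟨i, y, hy⟩

theorem isIntegralMor_ν : IsIntegralMor F.ν :=
  (Groth.Agent.H3.AlgSpCov.isLocalOnBase_fpqc_isIntegralMor (fun i => (F.L i).U)
    (fun i => (F.L i).w) F.hX F.hU F.isFpqcCover F.ν F.isAlgSpace_N (fun i => (F.L i).N)
    (fun i => (F.L i).ν) F.q F.hLN F.isPullback_q).2 (fun i => (F.L i).st.2.1)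

end Fam

end Groth.Agent.H7.NAS
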