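import Mathlib

/-!
# Relative normalization of algebraic spaces, part A1: the ring-level base change lemma

Let `κ : C → B` be an injective homomorphism of `A`-algebras whose image contains the elements of
the equalizer of `δ₀, δ₁ : B → B₂` which are integral over `A`.  For a smooth `A`-algebra `A₁` the
same holds after base change to `A₁`.
-/

set_option autoImplicit false

universe u

open TensorProduct

namespace Groth.Agent.H7.NAS

variable {A A₁ B B₂ C : Type u} [CommRing A] [CommRing A₁] [CommRing B] [CommRing B₂] [CommRing C]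
  [Algebra A A₁] [Algebra A B] [Algebra A B₂] [Algebra A C]

theorem tensor_map_injective [Module.Flat A A₁] (κ : C →ₐ[A] B) (hκ : Function.Injective κ) :
    Function.Injective (Algebra.TensorProduct.map (AlgHom.id A₁ A₁) κ) := by
  have := Module.Flat.lTensor_preserves_injective_linearMap (M := A₁) κ.toLinearMap hκ
  intro x y hxy
  apply this
  exact hxy

theorem mem_range_tensor_map [Algebra.Smooth A A₁] (δ₀ δ₁ : B →ₐ[A] B₂) (κ : C →ₐ[A] B)
    (hκr : ∀ b : B, δ₀ b = δ₁ b → IsIntegral A b → b ∈ Set.range κ)
    (x : A₁ ⊗[A] B)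
    (hx : Algebra.TensorProduct.map (AlgHom.id A₁ A₁) δ₀ x =
      Algebra.TensorProduct.map (AlgHom.id A₁ A₁) δ₁ x)
    (hxi : IsIntegral A₁ x) :
    x ∈ Set.range (Algebra.TensorProduct.map (AlgHom.id A₁ A₁) κ) := by
  have hflat : Module.Flat A A₁ := inferInstance
  -- the equalizer
  let E : Subalgebra A B := AlgHom.equalizer δ₀ δ₁
  let g : B →ₗ[A] B₂ := δ₀.toLinearMap - δ₁.toLinearMap
  have hker : ∀ b : B, b ∈ LinearMap.ker g ↔ b ∈ E := by
    intro b
    simp only [LinearMap.mem_ker, g, LinearMap.sub_apply, AlgHom.toLinearMap_apply, sub_eq_zero]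
    rfl
  have hexact : Function.Exact E.val.toLinearMap g := by
    intro b
    constructor
    · intro h
      exact ⟨⟨b, (hker b).1 h⟩, rfl⟩
    · rintro ⟨e, rfl⟩
      exact (hker _).2 e.2
  have hex := Module.Flat.lTensor_exact A₁ hexact
  have hgx : (g.lTensor A₁) x = 0 := by
    have h1 : ∀ y : A₁ ⊗[A] B, (g.lTensor A₁) y =
        Algebra.TensorProduct.map (AlgHom.id A₁ A₁) δ₀ y -
          Algebra.TensorProduct.map (AlgHom.id A₁ A₁) δ₁ y := by
      intro y
      induction y using TensorProduct.induction_on with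
      | zero => simp
      | tmul a b => simp [g, tmul_sub]
      | add y z hy hz => simp only [map_add, hy, hz]; abel
    rw [h1, hx, sub_self]
  obtain ⟨y, hy⟩ := (hex x).1 hgx
  have hlin : ∀ y : A₁ ⊗[A] E, Algebra.TensorProduct.map (AlgHom.id A₁ A₁) E.val y =
      (E.val.toLinearMap.lTensor A₁) y := by
    intro y
    induction y using TensorProduct.induction_on with
    | zero => simp
    | tmul a b => simp
    | add y z hy hz => simp only [map_add, hy, hz]
  have hy' : Algebra.TensorProduct.map (AlgHom.id A₁ A₁) E.val y = x := by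
    rw [hlin, hy]
  -- `y` is integral over `A₁`
  have hEinj : Function.Injective (Algebra.TensorProduct.map (AlgHom.id A₁ A₁) E.val) :=
    tensor_map_injective E.val Subtype.val_injective
  have hyi : IsIntegral A₁ y := by
    rw [← isIntegral_algHom_iff _ hEinj, hy']
    exact hxi
  -- integral closure commutes with smooth base change
  obtain ⟨z, hz⟩ := (TensorProduct.toIntegralClosure_bijective_of_smooth (R := A) (S := A₁)
    (B := E)).2 ⟨y, hyi⟩
  have hz' : Algebra.TensorProduct.map (AlgHom.id A₁ A₁) (integralClosure A E).val z = y := by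
    have := congrArg Subtype.val hz
    simpa [TensorProduct.toIntegralClosure] using this
  rw [← hy', ← hz']
  clear hz hz'
  -- reduce to pure tensors
  induction z using TensorProduct.induction_on with
  | zero => exact ⟨0, by simp⟩
  | tmul a e =>
    have he1 : δ₀ (e : E) = δ₁ (e : E) := (e : E).2
    have he2 : IsIntegral A ((e : E) : B) := e.2.map E.val
    obtain ⟨c, hc⟩ := hκr _ he1 he2
    exact ⟨a ⊗ₜ c, by simp [hc]⟩
  | add z w hz hw =>
    obtain ⟨c, hc⟩ := hz
    obtain ⟨c', hc'⟩ := hw
    exact ⟨c + c', by simp only [map_add, hc, hc']⟩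

end Groth.Agent.H7.NAS
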