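import Groth.Agent.Lib.Helper7.NASA9
import Mathlib

/-!
# Relative normalization of algebraic spaces, part A10: stable normalizations

A factorisation `f = f' ≫ ν` is a *stable* normalization if `ν` is integral and every base change
along an étale chart from an affine scheme is a normalization.  Over an affine base, every
normalization (by an algebraic space) of a quasi-compact quasi-separated algebraic space is stable.
-/

set_option autoImplicit false

universe u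

open CategoryTheory CategoryTheory.Limits AlgebraicGeometry Opposite

namespace Groth.Agent.H7.NAS

open _root_.AlgSp Groth.Agent.H5.AlgSp

variable {S : Scheme.{u}}

/-- A stable normalization. -/
def Stable {Y X N : Sp S} (f : Y ⟶ X) (ν : N ⟶ X) (f' : Y ⟶ N) : Prop :=
  f' ≫ ν = f ∧ IsIntegralMor ν ∧ ∀ (W₁ : Over S), IsAffine W₁.left →
    ∀ (c : (yon S).obj W₁ ⟶ X), RepWith @Etale c → ∀ d : BC f ν f' c,
      IsRelNormalization d.fC d.νC d.f'C

/-- Transport of base change data along an isomorphism of normalizations. -/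
def BC.ofIso {Y X N N₀ : Sp S} {f : Y ⟶ X} {ν : N ⟶ X} {f' : Y ⟶ N} {ν₀ : N₀ ⟶ X}
    {f'₀ : Y ⟶ N₀} (i : N ≅ N₀) (hi1 : f' ≫ i.hom = f'₀) (hi2 : i.hom ≫ ν₀ = ν) {C : Sp S}
    {c : C ⟶ X} (d : BC f ν f' c) : BC f ν₀ f'₀ c where
  YC := d.YC
  NC := d.NC
  a := d.a
  fC := d.fC
  sq1 := d.sq1
  b := d.b ≫ i.hom
  νC := d.νC
  sq2 := IsPullback.of_iso d.sq2 (Iso.refl _) i (Iso.refl _) (Iso.refl _)
    (by simp) (by simp) (by simp [hi2]) (by simp)
  f'C := d.f'C
  c1 := d.c1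
  c2 := by rw [← Category.assoc, d.c2, Category.assoc, hi1]

/-- Stability is invariant under isomorphisms of the normalization. -/
theorem Stable.of_iso {Y X N N₀ : Sp S} {f : Y ⟶ X} {ν : N ⟶ X} {f' : Y ⟶ N} {ν₀ : N₀ ⟶ X}
    {f'₀ : Y ⟶ N₀} (h : Stable f ν₀ f'₀) (i : N ≅ N₀) (hi1 : f' ≫ i.hom = f'₀)
    (hi2 : i.hom ≫ ν₀ = ν) : Stable f ν f' := by
  obtain ⟨h1, h2, h3⟩ := h
  refine ⟨?_, ?_, ?_⟩
  · rw [← hi2, ← Category.assoc, hi1, h1]
  · rw [← hi2]
    exact isIntegralMor_iso_comp i h2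
  · intro W₁ hW₁ c hc d
    exact h3 W₁ hW₁ c hc (d.ofIso i hi1 hi2)

/-- Over an affine base, the normalization of a quasi-compact quasi-separated algebraic space is
stable. -/
theorem stable_of_isRelNormalization_affine {W : Over S} (hW : IsAffine W.left) {Y N : Sp S}
    (hY : IsAlgSpace Y) (hN : IsAlgSpace N) (f : Y ⟶ (yon S).obj W) (hqc : IsQuasiCompactMor f)
    (hqs : IsQuasiSeparatedMor f) (ν : N ⟶ (yon S).obj W) (f' : Y ⟶ N)
    (hn : IsRelNormalization f ν f') : Stable f ν f' := by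
  obtain ⟨P⟩ := exists_pres hW hY f hqc hqs
  obtain ⟨N₀, ν₀, f'₀, c, hN₀, hν₀, hfac, hc, hinj, hsurj⟩ := exists_char hW P f
  have hn₀ := isRelNormalization_of_char hW hN₀ P f ν₀ hν₀ f'₀ hfac c hc hinj hsurj
  obtain ⟨i, hi1, hi2⟩ := IsRelNormalization.exists_iso hN (IsAlgSpace.yon_obj N₀) hn hn₀
  refine Stable.of_iso ⟨hfac, hn₀.2.1, ?_⟩ i hi1 hi2
  intro W₁ hW₁ c₁ hc₁ d
  obtain ⟨e, rfl⟩ := (yon S).map_surjective c₁
  have he : Etale e.left := (repWith_yon_map_iff @Etale e).1 hc₁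
  exact isRelNormalization_baseChange_of_char hW hW₁ e he hN₀ P f ν₀ hν₀ f'₀ hfac c hc hinj hsurj d

/-- Existence of stable normalizations over an affine base. -/
theorem exists_stable_affine {W : Over S} (hW : IsAffine W.left) {Y : Sp S}
    (hY : IsAlgSpace Y) (f : Y ⟶ (yon S).obj W) (hqc : IsQuasiCompactMor f)
    (hqs : IsQuasiSeparatedMor f) :
    ∃ (N : Over S) (ν : N ⟶ W) (f' : Y ⟶ (yon S).obj N), IsAffine N.left ∧ IsIntegralHom ν.left ∧
      Stable f ((yon S).map ν) f' := by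
  obtain ⟨P⟩ := exists_pres hW hY f hqc hqs
  obtain ⟨N₀, ν₀, f'₀, c, hN₀, hν₀, hfac, hc, hinj, hsurj⟩ := exists_char hW P f
  have hn₀ := isRelNormalization_of_char hW hN₀ P f ν₀ hν₀ f'₀ hfac c hc hinj hsurj
  exact ⟨N₀, ν₀, f'₀, hN₀, hν₀, stable_of_isRelNormalization_affine hW hY (IsAlgSpace.yon_obj N₀) f
    hqc hqs _ _ hn₀⟩

end Groth.Agent.H7.NAS
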