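import Groth.Agent.Lib.Helper7.NAS2
import Groth.Agent.Lib.Helper7.EDSq
import Groth.Agent.Lib.Helper5.AlgSp.GeneralizingChart
import Groth.Agent.Lib.Helper5.AlgSp.Limits.EvClosedImmSp
import Mathlib

/-!
# Relative normalization of algebraic spaces, part A2: affine presentations

A presentation of a sheaf `Y` by an affine scheme `V` with a quasi-compact quasi-separated scheme
`V₂ = V ×_Y V`; existence for quasi-compact quasi-separated algebraic spaces over an affine scheme;
morphisms out of `Y` are morphisms out of `V` coequalizing `V₂ ⇉ V`.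
-/

set_option autoImplicit false

universe u

open CategoryTheory CategoryTheory.Limits AlgebraicGeometry Opposite

namespace Groth.Agent.H7.NAS

open _root_.AlgSp Groth.Agent.H5.AlgSp

variable {S : Scheme.{u}}

/-- A presentation of a sheaf by an affine scheme. -/
structure Pres (Y : Sp S) where
  V : Over S
  V₂ : Over S
  v : (yon S).obj V ⟶ Y
  d₀ : V₂ ⟶ V
  d₁ : V₂ ⟶ V
  sq : IsPullback ((yon S).map d₀) ((yon S).map d₁) v v
  surj : Sheaf.IsLocallySurjective v
  aff : IsAffine V.left
  qc : CompactSpace V₂.left
  qs : QuasiSeparatedSpace V₂.left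

namespace Pres

variable {Y : Sp S} (P : Pres Y)

/-- Morphisms out of `Y` from morphisms out of `V` coequalizing the relation. -/
theorem exists_desc {Z : Sp S} (c : (yon S).obj P.V ⟶ Z)
    (hc : (yon S).map P.d₀ ≫ c = (yon S).map P.d₁ ≫ c) : ∃ g : Y ⟶ Z, P.v ≫ g = c := by
  haveI := P.surj
  haveI : Epi P.v := inferInstance
  apply Groth.Agent.H7.EDSq.exists_desc_of_epi P.v c
  intro T x y hxy
  have h1 : P.sq.lift x y hxy ≫ (yon S).map P.d₀ = x := P.sq.lift_fst _ _ _
  have h2 : P.sq.lift x y hxy ≫ (yon S).map P.d₁ = y := P.sq.lift_snd _ _ _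
  rw [← h1, Category.assoc, hc, ← Category.assoc, h2]

lemma hom_ext {Z : Sp S} (g g' : Y ⟶ Z) (h : P.v ≫ g = P.v ≫ g') : g = g' := by
  haveI := P.surj
  haveI : Epi P.v := inferInstance
  exact (cancel_epi P.v).1 h

lemma d₀_v : (yon S).map P.d₀ ≫ P.v = (yon S).map P.d₁ ≫ P.v := P.sq.w

end Pres

/-- Existence of affine presentations of algebraic spaces which are quasi-compact and
quasi-separated over an affine scheme. -/
theorem exists_pres {W : Over S} (hW : IsAffine W.left) {Y : Sp S} (hY : IsAlgSpace Y)
    (f : Y ⟶ (yon S).obj W) (hqc : IsQuasiCompactMor f) (hqs : IsQuasiSeparatedMor f) :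
    Nonempty (Pres Y) := by
  have hYqc : IsQuasiCompactSp Y := by
    have hWqc : IsQuasiCompactSp ((yon S).obj W) :=
      ⟨W, 𝟙 _, repWith_id _ W, repWith_id _ W, by infer_instance⟩
    exact hqc (IsAlgSpace.yon_obj W) hWqc (𝟙 _) (𝟙 Y) f (IsPullback.of_id_fst)
  obtain ⟨V, v, hV, hve, hvs⟩ := Groth.Agent.H5.AlgSp.Lim.exists_affine_chart_of_isQuasiCompactSp hYqc
  have hsurj := isLocallySurjective_of_etale_surjective v hve hvs
  have hrep : Representable v := hve.rep
  obtain ⟨d₀, hd₀⟩ := (yon S).map_surjective (hrep.fst v)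
  have sq : IsPullback ((yon S).map d₀) ((yon S).map (hrep.snd v)) v v := by
    rw [hd₀]
    exact hrep.isPullback v
  have hc : CompactSpace (hrep.pullback v).left :=
    compactSpace_pullback_of_isQuasiSeparatedMor v hrep f hqs
  -- quasi-separatedness: `V₂ ⟶ V ×_W V` is a monomorphism into an affine scheme
  obtain ⟨g, hg⟩ := (yon S).map_surjective (v ≫ f)
  have hw : d₀ ≫ g = hrep.snd v ≫ g := by
    apply (yon S).map_injective
    rw [Functor.map_comp, Functor.map_comp, hg, ← Category.assoc, ← Category.assoc, sq.w]
  have hw' : d₀.left ≫ g.left = (hrep.snd v).left ≫ g.left := by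
    rw [← Over.comp_left, ← Over.comp_left, hw]
  have hmono : Mono (pullback.lift d₀.left (hrep.snd v).left hw' :
      (hrep.pullback v).left ⟶ pullback g.left g.left) := by
    refine ⟨fun {T} a b hab => ?_⟩
    have h1 : a ≫ d₀.left = b ≫ d₀.left := by
      have := congrArg (· ≫ pullback.fst g.left g.left) hab
      simp only [Category.assoc, pullback.lift_fst] at this
      exact this
    have h2 : a ≫ (hrep.snd v).left = b ≫ (hrep.snd v).left := by
      have := congrArg (· ≫ pullback.snd g.left g.left) hab
      simp only [Category.assoc, pullback.lift_snd] at this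
      exact this
    have hT : a ≫ (hrep.pullback v).hom = b ≫ (hrep.pullback v).hom := by
      rw [← Over.w d₀, ← Category.assoc, h1, Category.assoc]
    let T' : Over S := Over.mk (a ≫ (hrep.pullback v).hom)
    let a' : T' ⟶ hrep.pullback v := Over.homMk a rfl
    let b' : T' ⟶ hrep.pullback v := Over.homMk b hT.symm
    have : a' = b' := by
      apply (yon S).map_injective
      apply sq.hom_ext
      · rw [← Functor.map_comp, ← Functor.map_comp]
        congr 1
        apply Over.OverMorphism.ext
        exact h1
      · rw [← Functor.map_comp, ← Functor.map_comp]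
        congr 1
        apply Over.OverMorphism.ext
        exact h2
    exact congrArg (fun m => m.left) this
  have : IsAffine V.left := hV
  have : IsAffine W.left := hW
  have hqs' : QuasiSeparatedSpace (hrep.pullback v).left :=
    quasiSeparatedSpace_of_quasiSeparated
      (pullback.lift d₀.left (hrep.snd v).left hw' :
        (hrep.pullback v).left ⟶ pullback g.left g.left)
  exact ⟨⟨V, hrep.pullback v, v, d₀, hrep.snd v, sq, hsurj, hV, hc, hqs'⟩⟩

end Groth.Agent.H7.NAS
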