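import Groth.Agent.Lib.Helper7.NASA2
import Groth.Agent.Lib.Helper3.IQA.SpecHom
import Mathlib

/-!
# Relative normalization of algebraic spaces, part A3: the affine criterion

Over an affine base, a factorisation `Y ⟶ N ⟶ W` with `N` affine and integral over `W` is the
normalization of `W` in `Y` as soon as, on an affine presentation `V` of `Y`, the ring of functions
of `N` maps bijectively onto the functions on `V` which descend to `Y` and are integral over the
functions of `W`.
-/

set_option autoImplicit false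

universe u

open CategoryTheory CategoryTheory.Limits AlgebraicGeometry Opposite

namespace Groth.Agent.H7.NAS

open _root_.AlgSp Groth.Agent.H5.AlgSp

variable {S : Scheme.{u}}

lemma exists_ringHom_of_range_le {R A B : Type*} [CommRing R] [CommRing A] [CommRing B]
    (κ : A →+* B) (γ : R →+* B) (hκ : Function.Injective κ) (h : ∀ r, γ r ∈ Set.range κ) :
    ∃ θ : R →+* A, κ.comp θ = γ := by
  let e : A ≃+* κ.range := RingEquiv.ofBijective κ.rangeRestrict
    ⟨fun a b hab => hκ (congrArg Subtype.val hab), κ.rangeRestrict_surjective⟩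
  refine ⟨e.symm.toRingHom.comp (γ.codRestrict κ.range h), ?_⟩
  ext r
  have h1 : κ (e.symm (γ.codRestrict κ.range h r)) = (e (e.symm (γ.codRestrict κ.range h r)) : B) :=
    rfl
  simp only [RingHom.coe_comp, Function.comp_apply, RingEquiv.toRingHom_eq_coe, RingHom.coe_coe]
  rw [h1, RingEquiv.apply_symm_apply]
  rfl

lemma over_hom_ext_of_isAffine {T Z : Over S} [IsAffine Z.left] (a b : T ⟶ Z)
    (h : a.left.appTop = b.left.appTop) : a = b := by
  apply Over.OverMorphism.ext
  exact ext_of_isAffine h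

/-- **The affine criterion** for a normalization. -/
theorem isRelNormalization_of_char {W N : Over S} (hW : IsAffine W.left) (hN : IsAffine N.left)
    {Y : Sp S} (P : Pres Y) (f : Y ⟶ (yon S).obj W) (ν : N ⟶ W) (hν : IsIntegralHom ν.left)
    (f' : Y ⟶ (yon S).obj N) (hfac : f' ≫ (yon S).map ν = f) (c : P.V ⟶ N)
    (hc : (yon S).map c = P.v ≫ f')
    (hinj : Function.Injective c.left.appTop.hom)
    (hsurj : ∀ b : Γ(P.V.left, ⊤), P.d₀.left.appTop.hom b = P.d₁.left.appTop.hom b →
      (c ≫ ν).left.appTop.hom.IsIntegralElem b → b ∈ Set.range c.left.appTop.hom) :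
    IsRelNormalization f ((yon S).map ν) f' := by
  refine ⟨hfac, isIntegralMor_iff_repWith.2 ((repWith_yon_map_iff @IsIntegralHom ν).2 hν), ?_⟩
  intro Z hZ π g hπ hg
  obtain ⟨Z₀, i, fst, sqZ, hZ₀, hi⟩ := hπ hW (𝟙 _)
  have : IsAffine Z₀.left := hZ₀
  have : IsAffine N.left := hN
  have : IsAffine W.left := hW
  have hfst : IsIso fst := sqZ.isIso_fst_of_isIso
  have hfstπ : fst ≫ π = (yon S).map i := by rw [sqZ.w, Category.comp_id]
  have hinvπ : inv fst ≫ (yon S).map i = π := by rw [← hfstπ, IsIso.inv_hom_id_assoc]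
  obtain ⟨cV, hcV⟩ := (yon S).map_surjective (P.v ≫ g ≫ inv fst)
  have hcVi : cV ≫ i = c ≫ ν := by
    apply (yon S).map_injective
    rw [Functor.map_comp, Functor.map_comp, hcV, hc, Category.assoc, Category.assoc, hinvπ, hg,
      Category.assoc, hfac]
  have hcVd : P.d₀ ≫ cV = P.d₁ ≫ cV := by
    apply (yon S).map_injective
    rw [Functor.map_comp, Functor.map_comp, hcV, ← Category.assoc, P.d₀_v, Category.assoc]
  -- the ring maps
  have hγ : ∀ z : Γ(Z₀.left, ⊤), cV.left.appTop.hom z ∈ Set.range c.left.appTop.hom := by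
    intro z
    apply hsurj
    · have h1 : (P.d₀ ≫ cV).left.appTop = (P.d₁ ≫ cV).left.appTop := by rw [hcVd]
      rw [Over.comp_left, Over.comp_left, Scheme.Hom.comp_appTop, Scheme.Hom.comp_appTop] at h1
      exact congrArg (fun φ => φ.hom z) h1
    · have h2 : (c ≫ ν).left.appTop = i.left.appTop ≫ cV.left.appTop := by
        rw [← hcVi, Over.comp_left, Scheme.Hom.comp_appTop]
      obtain ⟨p, hp, hpz⟩ := hi.isIntegral_app ⊤ (isAffineOpen_top W.left) z
      refine ⟨p, hp, ?_⟩
      rw [h2]
      change Polynomial.eval₂ (cV.left.appTop.hom.comp i.left.appTop.hom) _ p = 0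
      rw [← Polynomial.hom_eval₂]
      have : Polynomial.eval₂ i.left.appTop.hom z p = 0 := hpz
      rw [this, map_zero]
  obtain ⟨θ, hθ⟩ := exists_ringHom_of_range_le c.left.appTop.hom cV.left.appTop.hom hinj hγ
  obtain ⟨h₀, hh₀⟩ := Groth.Agent.H3.IQA.exists_hom_appTop_eq (P := N.left) (Y := Z₀.left)
    (CommRingCat.ofHom θ)
  have hcθ : c.left.appTop.hom.comp θ = cV.left.appTop.hom := hθ
  have hθi : θ.comp i.left.appTop.hom = ν.left.appTop.hom := by
    apply RingHom.coe_inj
    apply hinj.comp_left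
    have h2 : (c ≫ ν).left.appTop = (cV ≫ i).left.appTop := by rw [hcVi]
    rw [Over.comp_left, Over.comp_left, Scheme.Hom.comp_appTop, Scheme.Hom.comp_appTop] at h2
    ext r
    have h3 := congrArg (fun φ => φ.hom r) h2
    have h4 := congrArg (fun φ => φ (i.left.appTop.hom r)) hcθ
    simp only [Function.comp_apply, RingHom.coe_comp]
    exact h4.trans h3.symm
  have hh₀i : h₀ ≫ i.left = ν.left := by
    apply ext_of_isAffine
    rw [Scheme.Hom.comp_appTop, hh₀]
    ext r
    exact congrArg (fun φ => φ r) hθi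
  obtain ⟨H, hH⟩ : ∃ H : N ⟶ Z₀, H.left = h₀ :=
    ⟨Over.homMk h₀ (by rw [← Over.w i, ← Category.assoc, hh₀i, Over.w ν]), rfl⟩
  have hHi : H ≫ i = ν := by
    apply Over.OverMorphism.ext
    rw [Over.comp_left, hH, hh₀i]
  have hcH : c ≫ H = cV := by
    apply over_hom_ext_of_isAffine
    rw [Over.comp_left, Scheme.Hom.comp_appTop, hH, hh₀]
    ext r
    exact congrArg (fun φ => φ r) hcθ
  refine ⟨(yon S).map H ≫ fst, ⟨?_, ?_⟩, ?_⟩
  · apply P.hom_ext
    rw [← Category.assoc, ← Category.assoc, ← hc, ← Functor.map_comp, hcH, hcV, Category.assoc,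
      Category.assoc, IsIso.inv_hom_id, Category.comp_id]
  · rw [Category.assoc, hfstπ, ← Functor.map_comp, hHi]
  · rintro h' ⟨h1, h2⟩
    obtain ⟨H', hH'⟩ := (yon S).map_surjective (h' ≫ inv fst)
    have hcH' : c ≫ H' = cV := by
      apply (yon S).map_injective
      rw [Functor.map_comp, hH', hc, hcV, Category.assoc, ← Category.assoc f', h1]
    have hHH' : H' = H := by
      apply over_hom_ext_of_isAffine
      rw [hH, hh₀]
      have h3 : (c ≫ H').left.appTop = cV.left.appTop := by rw [hcH']
      rw [Over.comp_left, Scheme.Hom.comp_appTop] at h3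
      ext r
      apply hinj
      have h4 := congrArg (fun φ => φ.hom r) h3
      have h5 := congrArg (fun φ => φ r) hcθ
      exact h4.trans h5.symm
    rw [← hHH', hH', Category.assoc, IsIso.inv_hom_id, Category.comp_id]

end Groth.Agent.H7.NAS
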