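import Groth.Agent.Lib.Helper7.NASA3
import Mathlib

/-!
# Relative normalization of algebraic spaces, part A4: existence over an affine base

For a sheaf `Y` with an affine presentation `P` and a morphism `f : Y ⟶ W` to an affine scheme,
the spectrum of the ring of functions on `P.V` which descend to `Y` and are integral over the
functions of `W` is the normalization of `W` in `Y`.
-/

set_option autoImplicit false

universe u

open CategoryTheory CategoryTheory.Limits AlgebraicGeometry Opposite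

namespace Groth.Agent.H7.NAS

open _root_.AlgSp Groth.Agent.H5.AlgSp

variable {S : Scheme.{u}}

/-- The subring of elements which are equalized by `δ₀, δ₁` and integral over `φ`. -/
def charSubring {R B B₂ : Type u} [CommRing R] [CommRing B] [CommRing B₂] (φ : R →+* B)
    (δ₀ δ₁ : B →+* B₂) : Subring B where
  carrier := {b | δ₀ b = δ₁ b ∧ φ.IsIntegralElem b}
  mul_mem' := fun ha hb => ⟨by rw [map_mul, map_mul, ha.1, hb.1], ha.2.mul φ hb.2⟩
  one_mem' := ⟨by rw [map_one, map_one], φ.isIntegralElem_one⟩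
  add_mem' := fun ha hb => ⟨by rw [map_add, map_add, ha.1, hb.1], ha.2.add φ hb.2⟩
  zero_mem' := ⟨by rw [map_zero, map_zero], φ.isIntegralElem_zero⟩
  neg_mem' := fun ha => ⟨by rw [map_neg, map_neg, ha.1], ha.2.neg φ⟩

lemma mem_charSubring {R B B₂ : Type u} [CommRing R] [CommRing B] [CommRing B₂] (φ : R →+* B)
    (δ₀ δ₁ : B →+* B₂) (b : B) :
    b ∈ charSubring φ δ₀ δ₁ ↔ δ₀ b = δ₁ b ∧ φ.IsIntegralElem b := Iff.rfl

/-- The structure map `R → charSubring`. -/
def toCharSubring {R B B₂ : Type u} [CommRing R] [CommRing B] [CommRing B₂] (φ : R →+* B)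
    (δ₀ δ₁ : B →+* B₂) (h : δ₀.comp φ = δ₁.comp φ) : R →+* charSubring φ δ₀ δ₁ :=
  φ.codRestrict _ (fun r => ⟨congrArg (fun ψ => ψ r) h, φ.isIntegralElem_map⟩)

lemma toCharSubring_isIntegral {R B B₂ : Type u} [CommRing R] [CommRing B] [CommRing B₂]
    (φ : R →+* B) (δ₀ δ₁ : B →+* B₂) (h : δ₀.comp φ = δ₁.comp φ) :
    (toCharSubring φ δ₀ δ₁ h).IsIntegral := by
  rintro ⟨b, hb⟩
  obtain ⟨p, hp, hpb⟩ := hb.2
  refine ⟨p, hp, ?_⟩
  apply Subtype.val_injective
  have h1 := Polynomial.hom_eval₂ p (toCharSubring φ δ₀ δ₁ h) (charSubring φ δ₀ δ₁).subtype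
    ⟨b, hb⟩
  have h2 : (charSubring φ δ₀ δ₁).subtype.comp (toCharSubring φ δ₀ δ₁ h) = φ := rfl
  rw [h2] at h1
  exact h1.trans hpb

/-- **Existence of the normalization over an affine base**, with the characterization of its
ring of functions. -/
theorem exists_char {W : Over S} (hW : IsAffine W.left) {Y : Sp S} (P : Pres Y)
    (f : Y ⟶ (yon S).obj W) :
    ∃ (N : Over S) (ν : N ⟶ W) (f' : Y ⟶ (yon S).obj N) (c : P.V ⟶ N),
      IsAffine N.left ∧ IsIntegralHom ν.left ∧ f' ≫ (yon S).map ν = f ∧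
      (yon S).map c = P.v ≫ f' ∧ Function.Injective c.left.appTop.hom ∧
      (∀ b : Γ(P.V.left, ⊤), P.d₀.left.appTop.hom b = P.d₁.left.appTop.hom b →
        (c ≫ ν).left.appTop.hom.IsIntegralElem b → b ∈ Set.range c.left.appTop.hom) := by
  have : IsAffine W.left := hW
  have : IsAffine P.V.left := P.aff
  obtain ⟨gV, hgV⟩ := (yon S).map_surjective (P.v ≫ f)
  have hdg : P.d₀ ≫ gV = P.d₁ ≫ gV := by
    apply (yon S).map_injective
    rw [Functor.map_comp, Functor.map_comp, hgV, ← Category.assoc, P.d₀_v, Category.assoc]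
  let φ : Γ(W.left, ⊤) →+* Γ(P.V.left, ⊤) := gV.left.appTop.hom
  let δ₀ : Γ(P.V.left, ⊤) →+* Γ(P.V₂.left, ⊤) := P.d₀.left.appTop.hom
  let δ₁ : Γ(P.V.left, ⊤) →+* Γ(P.V₂.left, ⊤) := P.d₁.left.appTop.hom
  have hδφ : δ₀.comp φ = δ₁.comp φ := by
    have h1 : (P.d₀ ≫ gV).left.appTop = (P.d₁ ≫ gV).left.appTop := by rw [hdg]
    rw [Over.comp_left, Over.comp_left, Scheme.Hom.comp_appTop, Scheme.Hom.comp_appTop] at h1
    exact congrArg (fun ψ => ψ.hom) h1
  let A' : Subring Γ(P.V.left, ⊤) := charSubring φ δ₀ δ₁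
  let φ' : Γ(W.left, ⊤) →+* A' := toCharSubring φ δ₀ δ₁ hδφ
  let N₀ : Scheme.{u} := Spec (CommRingCat.of A')
  obtain ⟨t, ht⟩ := Groth.Agent.H3.IQA.exists_hom_appTop_eq (P := N₀) (Y := W.left)
    (CommRingCat.ofHom φ' ≫ (Scheme.ΓSpecIso (CommRingCat.of A')).inv)
  obtain ⟨c₀, hc₀⟩ := Groth.Agent.H3.IQA.exists_hom_appTop_eq (P := P.V.left) (Y := N₀)
    ((Scheme.ΓSpecIso (CommRingCat.of A')).hom ≫ CommRingCat.ofHom A'.subtype)
  have hc₀t : c₀ ≫ t = gV.left := by
    apply ext_of_isAffine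
    rw [Scheme.Hom.comp_appTop, ht, hc₀, Category.assoc, Iso.inv_hom_id_assoc]
    rfl
  let N : Over S := Over.mk (t ≫ W.hom)
  let ν : N ⟶ W := Over.homMk t rfl
  have hcw : c₀ ≫ N.hom = P.V.hom := by
    change c₀ ≫ t ≫ W.hom = _
    rw [← Category.assoc, hc₀t, Over.w gV]
  let c : P.V ⟶ N := Over.homMk c₀ hcw
  have hN : IsAffine N.left := by
    change IsAffine (Spec (CommRingCat.of A'))
    infer_instance
  have hcν : c ≫ ν = gV := by
    apply Over.OverMorphism.ext
    exact hc₀t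
  have hcapp : ∀ x, c.left.appTop.hom x =
      ((Scheme.ΓSpecIso (CommRingCat.of A')).hom.hom x : A').1 := by
    intro x
    have : c.left.appTop = _ := hc₀
    rw [this]
    rfl
  have hdc : P.d₀ ≫ c = P.d₁ ≫ c := by
    apply over_hom_ext_of_isAffine
    rw [Over.comp_left, Over.comp_left, Scheme.Hom.comp_appTop, Scheme.Hom.comp_appTop]
    ext x
    change P.d₀.left.appTop.hom (c.left.appTop.hom x) = P.d₁.left.appTop.hom (c.left.appTop.hom x)
    rw [hcapp]
    exact ((Scheme.ΓSpecIso (CommRingCat.of A')).hom.hom x : A').2.1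
  obtain ⟨f', hf'⟩ := P.exists_desc ((yon S).map c) (by
    rw [← Functor.map_comp, ← Functor.map_comp, hdc])
  refine ⟨N, ν, f', c, hN, ?_, ?_, hf'.symm, ?_, ?_⟩
  · -- integrality
    change IsIntegralHom t
    have h1 : t = (Spec.map (CommRingCat.ofHom φ')) ≫ W.left.isoSpec.inv := by
      apply ext_of_isAffine
      rw [ht, Scheme.Hom.comp_appTop]
      have h2 : W.left.isoSpec.inv.appTop = (Scheme.ΓSpecIso Γ(W.left, ⊤)).inv := by
        have h3 : W.left.isoSpec.inv.appTop ≫ W.left.toSpecΓ.appTop = 𝟙 _ := by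
          rw [← Scheme.Hom.comp_appTop, Scheme.toSpecΓ_isoSpec_inv]
          rfl
        rw [Scheme.toSpecΓ_appTop] at h3
        exact (Iso.comp_hom_eq_id _).1 h3
      rw [h2, Scheme.ΓSpecIso_inv_naturality]
    rw [h1]
    have : IsIntegralHom (Spec.map (CommRingCat.ofHom φ')) :=
      IsIntegralHom.SpecMap_iff.2 (toCharSubring_isIntegral φ δ₀ δ₁ hδφ)
    infer_instance
  · apply P.hom_ext
    rw [← Category.assoc, hf', ← Functor.map_comp, hcν, hgV]
  · intro x y hxy
    rw [hcapp, hcapp] at hxy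
    have h1 := Subtype.val_injective hxy
    exact (ConcreteCategory.bijective_of_isIso
      (Scheme.ΓSpecIso (CommRingCat.of A')).hom).1 h1
  · intro b hb hbi
    rw [hcν] at hbi
    have hbA : b ∈ A' := ⟨hb, hbi⟩
    refine ⟨(Scheme.ΓSpecIso (CommRingCat.of A')).inv.hom ⟨b, hbA⟩, ?_⟩
    rw [hcapp]
    have : (Scheme.ΓSpecIso (CommRingCat.of A')).hom.hom
        ((Scheme.ΓSpecIso (CommRingCat.of A')).inv.hom ⟨b, hbA⟩) = ⟨b, hbA⟩ := by
      have := congrArg (fun ψ => ψ.hom ⟨b, hbA⟩) (Scheme.ΓSpecIso (CommRingCat.of A')).inv_hom_id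
      exact this
    rw [this]

/-- Existence of the normalization over an affine base. -/
theorem exists_isRelNormalization_affine {W : Over S} (hW : IsAffine W.left) {Y : Sp S}
    (P : Pres Y) (f : Y ⟶ (yon S).obj W) :
    ∃ (N : Over S) (ν : N ⟶ W) (f' : Y ⟶ (yon S).obj N),
      IsAffine N.left ∧ IsIntegralHom ν.left ∧ IsRelNormalization f ((yon S).map ν) f' := by
  obtain ⟨N, ν, f', c, hN, hν, hfac, hc, hinj, hsurj⟩ := exists_char hW P f
  exact ⟨N, ν, f', hN, hν, isRelNormalization_of_char hW hN P f ν hν f' hfac c hc hinj hsurj⟩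

end Groth.Agent.H7.NAS
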