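import Groth.Agent.Lib.Helper7.NASA6
import Mathlib

/-!
# Relative normalization of algebraic spaces, part A7: base change of presentations
-/

set_option autoImplicit false

universe u

open CategoryTheory CategoryTheory.Limits AlgebraicGeometry Opposite TensorProduct

namespace Groth.Agent.H7.NAS

open _root_.AlgSp Groth.Agent.H5.AlgSp

variable {S : Scheme.{u}}

/-- Base change of a presentation. -/
theorem Pres.exists_baseChange {Y Y₁ : Sp S} (P : Pres Y) (a : Y₁ ⟶ Y) {V₁ : Over S}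
    (p₁ : V₁ ⟶ P.V) (v₁ : (yon S).obj V₁ ⟶ Y₁) (sqV : IsPullback ((yon S).map p₁) v₁ P.v a)
    (hV₁ : IsAffine V₁.left) :
    ∃ (V₂₁ : Over S) (q : V₂₁ ⟶ P.V₂) (d₀₁ d₁₁ : V₂₁ ⟶ V₁), IsPullback q d₀₁ P.d₀ p₁ ∧
      d₁₁ ≫ p₁ = q ≫ P.d₁ ∧ IsPullback ((yon S).map d₀₁) ((yon S).map d₁₁) v₁ v₁ ∧
      Sheaf.IsLocallySurjective v₁ ∧ CompactSpace V₂₁.left ∧ QuasiSeparatedSpace V₂₁.left := by
  have sq0 : IsPullback (pullback.fst P.d₀ p₁) (pullback.snd P.d₀ p₁) P.d₀ p₁ :=
    IsPullback.of_hasPullback _ _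
  have hw : (yon S).map (pullback.fst P.d₀ p₁ ≫ P.d₁) ≫ P.v =
      ((yon S).map (pullback.snd P.d₀ p₁) ≫ v₁) ≫ a := by
    rw [Functor.map_comp, Category.assoc, ← P.d₀_v, ← Category.assoc, ← Functor.map_comp, sq0.w,
      Functor.map_comp, Category.assoc, Category.assoc, sqV.w]
  obtain ⟨d₁₁, hd₁₁⟩ := (yon S).map_surjective (sqV.lift _ _ hw)
  have h1 : d₁₁ ≫ p₁ = pullback.fst P.d₀ p₁ ≫ P.d₁ := by
    apply (yon S).map_injective
    rw [Functor.map_comp, hd₁₁, sqV.lift_fst]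
  have h2 : (yon S).map d₁₁ ≫ v₁ = (yon S).map (pullback.snd P.d₀ p₁) ≫ v₁ := by
    rw [hd₁₁, sqV.lift_snd]
  have : IsAffine V₁.left := hV₁
  have : IsAffine P.V.left := P.aff
  have : CompactSpace P.V₂.left := P.qc
  have : QuasiSeparatedSpace P.V₂.left := P.qs
  have sqL := isPullback_left sq0
  have haff : IsAffineHom (pullback.fst P.d₀ p₁).left :=
    MorphismProperty.of_isPullback (P := @IsAffineHom) sqL.flip inferInstance
  refine ⟨pullback P.d₀ p₁, pullback.fst _ _, pullback.snd _ _, d₁₁, sq0, h1,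
    isPullback_kernelPair_baseChange sqV P.sq (isPullback_yon sq0) ?_ h2, ?_, ?_, ?_⟩
  · rw [← Functor.map_comp, h1, Functor.map_comp]
  · haveI := P.surj
    exact isLocallySurjective_of_isPullback sqV
  · exact QuasiCompact.compactSpace_of_compactSpace (pullback.fst P.d₀ p₁).left
  · haveI : IsSeparated (pullback.fst P.d₀ p₁).left := IsSeparated.of_isAffineHom _
    exact quasiSeparatedSpace_of_quasiSeparated (pullback.fst P.d₀ p₁).left

end Groth.Agent.H7.NAS
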