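import Groth.Agent.Lib.Helper7.NASA7
import Mathlib

/-!
# Relative normalization of algebraic spaces, part A8: base change of the characterization
-/

set_option autoImplicit false

universe u

open CategoryTheory CategoryTheory.Limits AlgebraicGeometry Opposite TensorProduct

namespace Groth.Agent.H7.NAS

lemma comp_appTop_hom {X Y Z : Scheme.{u}} (f : X ⟶ Y) (g : Y ⟶ Z) :
    (f ≫ g).appTop.hom = f.appTop.hom.comp g.appTop.hom := by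
  rw [Scheme.Hom.comp_appTop]
  rfl

lemma appTop_hom_congr {X Y : Scheme.{u}} {f g : X ⟶ Y} (h : f = g) :
    f.appTop.hom = g.appTop.hom := by rw [h]

/-- Base change of the characterization of the normalization, for schemes. -/
theorem char_baseChange {W W₁ V V₂ N V₁ V₂₁ N₁ : Scheme.{u}} [IsAffine W] [IsAffine W₁]
    [IsAffine V] [IsAffine N] [IsAffine V₁] [IsAffine N₁] [CompactSpace V₂]
    [QuasiSeparatedSpace V₂] (e : W₁ ⟶ W) [Etale e] (ν : N ⟶ W) (c : V ⟶ N) (d₀ d₁ : V₂ ⟶ V)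
    (hd : d₁ ≫ c ≫ ν = d₀ ≫ c ≫ ν)
    (pr₁ : V₁ ⟶ V) (pr₂ : V₁ ⟶ W₁) (sqV : IsPullback pr₁ pr₂ (c ≫ ν) e)
    (b₁ : N₁ ⟶ N) (ν₁ : N₁ ⟶ W₁) (sqN : IsPullback b₁ ν₁ ν e)
    (q : V₂₁ ⟶ V₂) (d₀₁ d₁₁ : V₂₁ ⟶ V₁) (sq0 : IsPullback q d₀₁ d₀ pr₁)
    (h1 : d₁₁ ≫ pr₁ = q ≫ d₁) (h1' : d₁₁ ≫ pr₂ = d₀₁ ≫ pr₂)
    (c₁ : V₁ ⟶ N₁) (hc1 : c₁ ≫ b₁ = pr₁ ≫ c) (hc2 : c₁ ≫ ν₁ = pr₂)
    (hinj : Function.Injective c.appTop.hom)
    (hsurj : ∀ b : Γ(V, ⊤), d₀.appTop.hom b = d₁.appTop.hom b →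
      (c ≫ ν).appTop.hom.IsIntegralElem b → b ∈ Set.range c.appTop.hom) :
    Function.Injective c₁.appTop.hom ∧
      ∀ b : Γ(V₁, ⊤), d₀₁.appTop.hom b = d₁₁.appTop.hom b →
        pr₂.appTop.hom.IsIntegralElem b → b ∈ Set.range c₁.appTop.hom := by
  letI iA₁ : Algebra Γ(W, ⊤) Γ(W₁, ⊤) := e.appTop.hom.toAlgebra
  letI iB : Algebra Γ(W, ⊤) Γ(V, ⊤) := (c ≫ ν).appTop.hom.toAlgebra
  letI iB₂ : Algebra Γ(W, ⊤) Γ(V₂, ⊤) := (d₀ ≫ c ≫ ν).appTop.hom.toAlgebra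
  letI iC : Algebra Γ(W, ⊤) Γ(N, ⊤) := ν.appTop.hom.toAlgebra
  let δ₀ : Γ(V, ⊤) →ₐ[Γ(W, ⊤)] Γ(V₂, ⊤) :=
    { d₀.appTop.hom with
      commutes' := fun r => (congrArg (fun ψ => ψ r) (comp_appTop_hom d₀ (c ≫ ν))).symm }
  let δ₁ : Γ(V, ⊤) →ₐ[Γ(W, ⊤)] Γ(V₂, ⊤) :=
    { d₁.appTop.hom with
      commutes' := fun r => ((congrArg (fun ψ => ψ r) (comp_appTop_hom d₁ (c ≫ ν))).symm).trans
        (congrArg (fun ψ => ψ r) (appTop_hom_congr hd)) }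
  let κ : Γ(N, ⊤) →ₐ[Γ(W, ⊤)] Γ(V, ⊤) :=
    { c.appTop.hom with
      commutes' := fun r => (congrArg (fun ψ => ψ r) (comp_appTop_hom c ν)).symm }
  have hsm : Algebra.Smooth Γ(W, ⊤) Γ(W₁, ⊤) := by
    have h1 : RingHom.Etale e.appTop.hom :=
      (HasRingHomProperty.iff_of_isAffine (P := @Etale)).1 inferInstance
    have h2 : Algebra.Etale Γ(W, ⊤) Γ(W₁, ⊤) := h1
    infer_instance
  obtain ⟨ψB, hψB⟩ := exists_ringEquiv_top sqV (f := e) rfl rfl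
  obtain ⟨ψC, hψC⟩ := exists_ringEquiv_top sqN (f := e) rfl rfl
  obtain ⟨ψB₂, hψB₂⟩ := exists_ringEquiv_top (sq0.paste_vert sqV) (f := e) rfl rfl
  have key := ring_bc δ₀ δ₁ κ pr₂.appTop.hom pr₁.appTop.hom ψB hψB
    (d₀₁ ≫ pr₂).appTop.hom q.appTop.hom ψB₂ hψB₂ ν₁.appTop.hom b₁.appTop.hom ψC hψC
    d₀₁.appTop.hom d₁₁.appTop.hom
    (comp_appTop_hom d₀₁ pr₂).symm
    ((comp_appTop_hom d₀₁ pr₁).symm.trans ((appTop_hom_congr sq0.w.symm).trans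
      (comp_appTop_hom q d₀)))
    ((comp_appTop_hom d₁₁ pr₂).symm.trans (appTop_hom_congr h1'))
    ((comp_appTop_hom d₁₁ pr₁).symm.trans ((appTop_hom_congr h1).trans
      (comp_appTop_hom q d₁)))
    c₁.appTop.hom
    ((comp_appTop_hom c₁ ν₁).symm.trans (appTop_hom_congr hc2))
    ((comp_appTop_hom c₁ b₁).symm.trans ((appTop_hom_congr hc1).trans (comp_appTop_hom pr₁ c)))
    hinj (fun b hb hbi => hsurj b hb hbi)
  exact key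

end Groth.Agent.H7.NAS
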