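import Groth.Agent.Lib.Helper7.NASA8
import Mathlib

/-!
# Relative normalization of algebraic spaces, part A9: étale base change between affine bases
-/

set_option autoImplicit false

universe u

open CategoryTheory CategoryTheory.Limits AlgebraicGeometry Opposite TensorProduct

namespace Groth.Agent.H7.NAS

open _root_.AlgSp Groth.Agent.H5.AlgSp

variable {S : Scheme.{u}}

/-- **Étale base change of the normalization between affine bases**, for normalizations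
satisfying the characterization. -/
theorem isRelNormalization_baseChange_of_char {W W₁ N : Over S} (hW : IsAffine W.left)
    (hW₁ : IsAffine W₁.left) (e : W₁ ⟶ W) (he : Etale e.left) (hN : IsAffine N.left)
    {Y : Sp S} (P : Pres Y) (f : Y ⟶ (yon S).obj W) (ν : N ⟶ W) (hν : IsIntegralHom ν.left)
    (f' : Y ⟶ (yon S).obj N) (hfac : f' ≫ (yon S).map ν = f) (c : P.V ⟶ N)
    (hc : (yon S).map c = P.v ≫ f')
    (hinj : Function.Injective c.left.appTop.hom)
    (hsurj : ∀ b : Γ(P.V.left, ⊤), P.d₀.left.appTop.hom b = P.d₁.left.appTop.hom b →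
      (c ≫ ν).left.appTop.hom.IsIntegralElem b → b ∈ Set.range c.left.appTop.hom)
    (d : BC f ((yon S).map ν) f' ((yon S).map e)) :
    IsRelNormalization d.fC d.νC d.f'C := by
  have : IsAffine W.left := hW
  have : IsAffine W₁.left := hW₁
  have : IsAffine N.left := hN
  have : IsAffine P.V.left := P.aff
  have : CompactSpace P.V₂.left := P.qc
  have : QuasiSeparatedSpace P.V₂.left := P.qs
  have : Etale e.left := he
  have hgV : (yon S).map (c ≫ ν) = P.v ≫ f := by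
    rw [Functor.map_comp, hc, Category.assoc, hfac]
  -- the base changes of `V` and `N`
  have sqV₁ : IsPullback (pullback.fst (c ≫ ν) e) (pullback.snd (c ≫ ν) e) (c ≫ ν) e :=
    IsPullback.of_hasPullback _ _
  have sqN₁ : IsPullback (pullback.fst ν e) (pullback.snd ν e) ν e :=
    IsPullback.of_hasPullback _ _
  obtain ⟨V₁, pr₁, pr₂, sqV₁⟩ : ∃ (V₁ : Over S) (pr₁ : V₁ ⟶ P.V) (pr₂ : V₁ ⟶ W₁),
      IsPullback pr₁ pr₂ (c ≫ ν) e := ⟨_, _, _, sqV₁⟩
  obtain ⟨N₁, b₁, ν₁, sqN₁⟩ : ∃ (N₁ : Over S) (b₁ : N₁ ⟶ N) (ν₁ : N₁ ⟶ W₁),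
      IsPullback b₁ ν₁ ν e := ⟨_, _, _, sqN₁⟩
  have hV₁ : IsAffine V₁.left := IsAffine.of_isPullback (isPullback_left sqV₁)
  have hN₁ : IsAffine N₁.left := IsAffine.of_isPullback (isPullback_left sqN₁)
  have hν₁ : IsIntegralHom ν₁.left :=
    MorphismProperty.of_isPullback (P := @IsIntegralHom) (isPullback_left sqN₁) hν
  obtain ⟨c₁, hc1, hc2⟩ : ∃ c₁ : V₁ ⟶ N₁, c₁ ≫ b₁ = pr₁ ≫ c ∧ c₁ ≫ ν₁ = pr₂ :=
    ⟨sqN₁.lift (pr₁ ≫ c) pr₂ (by rw [Category.assoc, sqV₁.w]), sqN₁.lift_fst _ _ _,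
      sqN₁.lift_snd _ _ _⟩
  -- the presentation of the base change of `Y`
  have hw : ((yon S).map pr₁ ≫ P.v) ≫ f = (yon S).map pr₂ ≫ (yon S).map e := by
    rw [Category.assoc, ← hgV, ← Functor.map_comp, ← Functor.map_comp, sqV₁.w]
  obtain ⟨v₁, hv1, hv2⟩ : ∃ v₁ : (yon S).obj V₁ ⟶ d.YC, v₁ ≫ d.a = (yon S).map pr₁ ≫ P.v ∧
      v₁ ≫ d.fC = (yon S).map pr₂ := ⟨d.sq1.lift _ _ hw, d.sq1.lift_fst _ _ _, d.sq1.lift_snd _ _ _⟩
  have sqv₁ : IsPullback ((yon S).map pr₁) v₁ P.v d.a := by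
    have s : IsPullback (v₁ ≫ d.fC) ((yon S).map pr₁) ((yon S).map e) (P.v ≫ f) := by
      rw [hv2, ← hgV]
      exact (isPullback_yon sqV₁).flip
    exact (IsPullback.of_right s hv1 d.sq1.flip).flip
  obtain ⟨V₂₁, q, d₀₁, d₁₁, sq0, h1, kp₁, hsj, hqc, hqs⟩ :=
    P.exists_baseChange d.a pr₁ v₁ sqv₁ hV₁
  have h1' : d₁₁ ≫ pr₂ = d₀₁ ≫ pr₂ := by
    apply (yon S).map_injective
    rw [Functor.map_comp, Functor.map_comp, ← hv2, ← Category.assoc, ← Category.assoc, kp₁.w]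
  -- the concrete base change data
  have sqN₁y := isPullback_yon sqN₁
  obtain ⟨f'₁, hf'1, hf'2⟩ : ∃ f'₁ : d.YC ⟶ (yon S).obj N₁, f'₁ ≫ (yon S).map b₁ = d.a ≫ f' ∧
      f'₁ ≫ (yon S).map ν₁ = d.fC :=
    ⟨sqN₁y.lift (d.a ≫ f') d.fC (by rw [Category.assoc, hfac, d.sq1.w]), sqN₁y.lift_fst _ _ _,
      sqN₁y.lift_snd _ _ _⟩
  let d' : BC f ((yon S).map ν) f' ((yon S).map e) :=
    { YC := d.YC, NC := (yon S).obj N₁, a := d.a, fC := d.fC, sq1 := d.sq1,
      b := (yon S).map b₁, νC := (yon S).map ν₁, sq2 := sqN₁y, f'C := f'₁, c1 := hf'2,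
      c2 := hf'1 }
  refine BC.isRelNormalization_congr d' d ?_
  change IsRelNormalization d.fC ((yon S).map ν₁) f'₁
  -- the characterization
  have hd : P.d₁.left ≫ c.left ≫ ν.left = P.d₀.left ≫ c.left ≫ ν.left := by
    have : P.d₁ ≫ c ≫ ν = P.d₀ ≫ c ≫ ν := by
      apply (yon S).map_injective
      rw [(yon S).map_comp P.d₁, (yon S).map_comp P.d₀, hgV, ← Category.assoc, ← Category.assoc,
        P.d₀_v]
    exact congrArg (fun m => m.left) this
  have key := char_baseChange e.left ν.left c.left P.d₀.left P.d₁.left hd pr₁.left pr₂.left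
    (isPullback_left sqV₁) b₁.left ν₁.left (isPullback_left sqN₁) q.left d₀₁.left d₁₁.left
    (isPullback_left sq0) (congrArg (fun m => m.left) h1) (congrArg (fun m => m.left) h1')
    c₁.left (congrArg (fun m => m.left) hc1) (congrArg (fun m => m.left) hc2) hinj hsurj
  have hc₁ : (yon S).map c₁ = v₁ ≫ f'₁ := by
    apply sqN₁y.hom_ext
    · rw [← Functor.map_comp, hc1, Functor.map_comp, hc, Category.assoc, hf'1, ← Category.assoc,
        ← Category.assoc, hv1]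
    · rw [← Functor.map_comp, hc2, Category.assoc, hf'2, hv2]
  refine isRelNormalization_of_char hW₁ hN₁
    (⟨V₁, V₂₁, v₁, d₀₁, d₁₁, kp₁, hsj, hV₁, hqc, hqs⟩ : Pres d.YC) d.fC ν₁ hν₁ f'₁ hf'2 c₁ hc₁
    key.1 ?_
  intro b hb hbi
  refine key.2 b hb ?_
  have : (c₁ ≫ ν₁).left = pr₂.left := congrArg (fun m => m.left) hc2
  rw [this] at hbi
  exact hbi

end Groth.Agent.H7.NAS
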