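import Groth.Agent.Lib.Helper7.QFin23
import Groth.Agent.Lib.Helper3.AlgSpMor.EtaleDim
import Groth.Agent.Lib.Helper5.AlgSp.DecentT0
import Groth.Agent.Lib.Helper5.AlgSp.ZarCoverRep
import Mathlib

/-!
# Points of codimension zero of algebraic spaces and quasi-finiteness over them
-/

set_option autoImplicit false
universe u

open AlgebraicGeometry CategoryTheory Limits

namespace Groth.Agent.H7.QFinSp

open _root_.AlgSp Groth.Agent.H5.AlgSp Groth.Agent.H5.EtSrc Groth.Agent.H5.Descent
open Groth.Agent.H7.QFin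

variable {S : Scheme.{u}}

/-- the predicate "codimension zero". -/
abbrev C0 : ∀ U : Scheme.{u}, ↥U → Prop := fun U u => ringKrullDim ↥(U.presheaf.stalk u) = 0

/-- Codimension zero does not depend on the chart. -/
theorem dim_zero_of_hasAt {F : Sp S} {x : Points F} (hx : HasAt C0 F x) {W : Over S}
    (a : (yon S).obj W ⟶ F) (ha : RepWith @Etale a) (w : ↥W.left) (hw : Points.ofPt a w = x) :
    ringKrullDim ↥(W.left.presheaf.stalk w) = 0 := by
  obtain ⟨U, a', u, ha', hu, hdim⟩ := hx
  have sqU := ha'.rep.isPullback' a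
  haveI hpr : Etale (ha'.rep.snd a).left := ha'.property_snd a
  haveI hpr' : Etale (ha'.rep.fst' a).left := ha.property a' _ _ sqU.flip
  have h12 : Points.map a' (Points.schemeHomeo U u) = Points.ofPt a w := by
    rw [hw, ← hu, Points.ofPt_eq_map_ofScheme]
    rfl
  obtain ⟨r, hr1, hr2⟩ := exists_point_of_isPullback sqU (Points.schemeHomeo U u) w h12
  have hr' : (ha'.rep.fst' a).left r = u := by
    apply (Points.schemeHomeo U).injective
    rw [← hr2]
    have := ofPt_yon_map_comp (ha'.rep.fst' a) (𝟙 ((yon S).obj U)) r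
    rw [Category.comp_id] at this
    rw [this]
    rfl
  rw [← hr1, ← Groth.Agent.H3.EtaleDim.ringKrullDim_stalk_eq_of_etale (ha'.rep.snd a).left r,
    Groth.Agent.H3.EtaleDim.ringKrullDim_stalk_eq_of_etale (ha'.rep.fst' a).left r, hr']
  exact hdim

/-- every point of an algebraic space is a specialization of a point of codimension zero. -/
theorem exists_generization_hasAt_dim_zero {F : Sp S} (hF : IsAlgSpace F) (x : Points F) :
    ∃ x' : Points F, x' ⤳ x ∧ HasAt C0 F x' := by
  obtain ⟨U, a, hae, has⟩ := hF.atlas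
  obtain ⟨u, rfl⟩ := ofPt_surjective_of_repWith has x
  obtain ⟨η, hη, hdim⟩ := exists_generization_dim_zero U.left u
  exact ⟨Points.ofPt a η, hη.map (Points.continuous_ofPt a), U, a, η, hae, rfl, hdim⟩

/-- a morphism locally of finite type all of whose points in the fibre through `u` have
codimension zero is quasi-finite at `u`. -/
theorem quasiFiniteAt_of_fibre_dim_zero {U V : Scheme.{u}} (h : U ⟶ V) [LocallyOfFiniteType h]
    (u : U) (hfib : ∀ u' : U, h u' = h u → ringKrullDim ↥(U.presheaf.stalk u') = 0) :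
    h.QuasiFiniteAt u := by
  rw [Scheme.Hom.quasiFiniteAt_iff_isOpen_singleton_asFiber]
  haveI hLN : IsLocallyNoetherian (h.fiber (h u)) := by
    unfold Scheme.Hom.fiber
    infer_instance
  have hdim : topologicalKrullDim (h.fiber (h u)) ≤ 0 := by
    rw [Groth.Agent.H3.EtaleDim.scheme_dim_eq_iSup_coheight]
    apply iSup_le
    intro φ
    have hmax : IsMax φ := by
      intro φ' hφ'
      have h1 : φ' ⤳ φ := hφ'
      have h2 : h.fiberι (h u) φ' ⤳ h.fiberι (h u) φ := h1.map (h.fiberι (h u)).continuous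
      have h3 : h.fiberι (h u) φ ∈ h ⁻¹' {h u} := by
        rw [← h.range_fiberι]
        exact ⟨φ, rfl⟩
      have h4 := no_generization_of_dim_zero _ (hfib _ h3) _ h2
      rw [(h.fiberι (h u)).isEmbedding.injective h4]
    rw [Order.coheight_eq_zero.2 hmax]
    rfl
  haveI := IsLocallyArtinian.of_topologicalKrullDim_le_zero hdim
  exact isOpen_discrete _

/-- a morphism locally of finite type is quasi-finite at the points of a fibre consisting of
points of codimension zero. -/
theorem hasAtMor_qf_of_fibre_dim_zero {X Y : Sp S} (hX : IsAlgSpace X) (hY : IsAlgSpace Y)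
    (f : X ⟶ Y) (hlft : LocP @LocallyOfFiniteType f) (y : Points Y)
    (hfib : ∀ x : Points X, Points.map f x = y → HasAt C0 X x) (x : Points X)
    (hx : Points.map f x = y) :
    HasAtMor (fun U _ h u => ∃ W : U.Opens, u ∈ W ∧ LocallyQuasiFinite (W.ι ≫ h) ∧
      LocallyOfFiniteType (W.ι ≫ h)) f x := by
  obtain ⟨V, b, hbe, hbs⟩ := hY.atlas
  obtain ⟨U, a, h, hae, has, comm⟩ := exists_chart_diagram_surj hX f hbe hbs
  obtain ⟨u, rfl⟩ := ofPt_surjective_of_repWith has x
  haveI : LocallyOfFiniteType h.left := hlft a b h hae hbe comm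
  have hmap : ∀ u' : ↥U.left, Points.map f (Points.ofPt a u') = Points.ofPt b (h.left u') := by
    intro u'
    rw [Points.map_ofPt, comm, ofPt_yon_map_comp]
  have hq : h.left.QuasiFiniteAt u := by
    apply quasiFiniteAt_of_fibre_dim_zero
    intro u' hu'
    refine dim_zero_of_hasAt (hfib (Points.ofPt a u') ?_) a hae u' rfl
    rw [hmap, hu', ← hmap, hx]
  exact ⟨U, V, a, b, h, u, hae, hbe, comm, rfl, h.left.quasiFiniteLocus, hq, inferInstance,
    inferInstance⟩

/-- the points of codimension zero of an affine étale chart of a decent space with finitely many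
points of codimension zero are finite in number. -/
theorem finite_dim_zero_of_isDecent {Y : Sp S} (hYd : IsDecent Y)
    (hY0 : {y : Points Y | HasAt C0 Y y}.Finite) {V : Over S} [IsAffine V.left]
    (b : (yon S).obj V ⟶ Y) (hb : RepWith @Etale b) :
    {v : ↥V.left | ringKrullDim ↥(V.left.presheaf.stalk v) = 0}.Finite := by
  have hsub : {v : ↥V.left | ringKrullDim ↥(V.left.presheaf.stalk v) = 0} ⊆
      ⋃ y ∈ {y : Points Y | HasAt C0 Y y}, Points.ofPt b ⁻¹' {y} := by
    intro v hv
    simp only [Set.mem_iUnion]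
    exact ⟨Points.ofPt b v, ⟨V, b, v, hb, rfl, hv⟩, rfl⟩
  refine (Set.Finite.biUnion hY0 fun y _ => ?_).subset hsub
  exact finite_fibre_of_isDecent hYd y V b inferInstance hb

/-- finiteness over each member of a family of open subspaces gives finiteness over their
union. -/
theorem isFiniteMor_over_iUnion {X Y : Sp S} (f : X ⟶ Y) {κ : Type u} (T : κ → Set (Points Y))
    (hT : ∀ k, IsOpen (T k)) (hfin : ∀ k, IsFiniteMor (pullback.snd f (openSubι Y (T k)))) :
    IsFiniteMor (pullback.snd f (openSubι Y (⋃ k, T k))) := by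
  rw [isFiniteMor_iff_repWith]
  refine repWith_of_openCovers @IsFinite fun Z g => ?_
  refine ⟨κ, fun k => preimageOpens (hT k) (g ≫ openSubι Y (⋃ k, T k)), ?_, fun k => ?_⟩
  · intro z
    have := (factors_openSubι_iff Y (⋃ k, T k) (g ≫ openSubι Y _)).1 ⟨g, rfl⟩ z
    obtain ⟨k, hk⟩ := Set.mem_iUnion.1 this
    exact ⟨k, hk⟩
  · obtain ⟨gk, hgk⟩ := exists_fst_openSub (hT k) (g ≫ openSubι Y (⋃ k, T k))
    have hfk : RepWith @IsFinite (pullback.snd f (openSubι Y (T k))) :=
      isFiniteMor_iff_repWith.1 (hfin k)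
    have sqk := hfk.rep.isPullback gk
    have hfin' : IsFinite (hfk.rep.snd gk).left := hfk.property_snd gk
    have big := sqk.paste_horiz (IsPullback.of_hasPullback f (openSubι Y (T k)))
    rw [hgk, ← Category.assoc] at big
    have hl1 : pullback.lift (hfk.rep.fst gk ≫ pullback.fst f (openSubι Y (T k)))
        ((yon S).map (hfk.rep.snd gk) ≫ (yon S).map (overOpenι Z _) ≫ g)
        (by rw [big.w, Category.assoc, Category.assoc, Category.assoc]) ≫
          pullback.fst f (openSubι Y (⋃ k, T k)) =
        hfk.rep.fst gk ≫ pullback.fst f (openSubι Y (T k)) := pullback.lift_fst _ _ _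
    have hl2 : pullback.lift (hfk.rep.fst gk ≫ pullback.fst f (openSubι Y (T k)))
        ((yon S).map (hfk.rep.snd gk) ≫ (yon S).map (overOpenι Z _) ≫ g)
        (by rw [big.w, Category.assoc, Category.assoc, Category.assoc]) ≫
          pullback.snd f (openSubι Y (⋃ k, T k)) =
        (yon S).map (hfk.rep.snd gk) ≫ (yon S).map (overOpenι Z _) ≫ g := pullback.lift_snd _ _ _
    exact ⟨hfk.rep.pullback gk, hfk.rep.snd gk, _,
      IsPullback.of_right (by rw [hl1]; exact big) hl2
        (IsPullback.of_hasPullback f (openSubι Y (⋃ k, T k))), hfin'⟩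

end Groth.Agent.H7.QFinSp
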