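import Groth.Agent.Lib.Helper7.NAS13
import Groth.Agent.Lib.Helper7.QFin24
import Groth.Agent.Lib.Helper1.ValGen
import Groth.Agent.Lib.Helper5.AlgSp.PointsTop
import Mathlib

/-!
# Points of codimension zero of the normalization of an algebraic space
-/

set_option autoImplicit false

universe u

open CategoryTheory CategoryTheory.Limits AlgebraicGeometry Opposite

namespace Groth.Agent.H7.NAS

open _root_.AlgSp Groth.Agent.H5.AlgSp

variable {S : Scheme.{u}}

/-- Existence of affine presentations with étale chart. -/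
theorem exists_pres_etale {W : Over S} (hW : IsAffine W.left) {Y : Sp S} (hY : IsAlgSpace Y)
    (f : Y ⟶ (yon S).obj W) (hqc : IsQuasiCompactMor f) (hqs : IsQuasiSeparatedMor f) :
    ∃ P : Pres Y, RepWith @Etale P.v := by
  have hYqc : IsQuasiCompactSp Y := by
    have hWqc : IsQuasiCompactSp ((yon S).obj W) :=
      ⟨W, 𝟙 _, repWith_id _ W, repWith_id _ W, by infer_instance⟩
    exact hqc (IsAlgSpace.yon_obj W) hWqc (𝟙 _) (𝟙 Y) f (IsPullback.of_id_fst)
  obtain ⟨V, v, hV, hve, hvs⟩ := Groth.Agent.H5.AlgSp.Lim.exists_affine_chart_of_isQuasiCompactSp hYqc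
  have hsurj := isLocallySurjective_of_etale_surjective v hve hvs
  have hrep : Representable v := hve.rep
  obtain ⟨d₀, hd₀⟩ := (yon S).map_surjective (hrep.fst v)
  have sq : IsPullback ((yon S).map d₀) ((yon S).map (hrep.snd v)) v v := by
    rw [hd₀]
    exact hrep.isPullback v
  have hc : CompactSpace (hrep.pullback v).left :=
    compactSpace_pullback_of_isQuasiSeparatedMor v hrep f hqs
  obtain ⟨g, hg⟩ := (yon S).map_surjective (v ≫ f)
  have hw : d₀ ≫ g = hrep.snd v ≫ g := by
    apply (yon S).map_injective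
    rw [Functor.map_comp, Functor.map_comp, hg, ← Category.assoc, ← Category.assoc, sq.w]
  have hw' : d₀.left ≫ g.left = (hrep.snd v).left ≫ g.left := by
    rw [← Over.comp_left, ← Over.comp_left, hw]
  have hmono : Mono (pullback.lift d₀.left (hrep.snd v).left hw' :
      (hrep.pullback v).left ⟶ pullback g.left g.left) := by
    refine ⟨fun {T} a b hab => ?_⟩
    have h1 : a ≫ d₀.left = b ≫ d₀.left := by
      have := congrArg (· ≫ pullback.fst g.left g.left) hab
      simp only [Category.assoc, pullback.lift_fst] at this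
      exact this
    have h2 : a ≫ (hrep.snd v).left = b ≫ (hrep.snd v).left := by
      have := congrArg (· ≫ pullback.snd g.left g.left) hab
      simp only [Category.assoc, pullback.lift_snd] at this
      exact this
    have hT : a ≫ (hrep.pullback v).hom = b ≫ (hrep.pullback v).hom := by
      rw [← Over.w d₀, ← Category.assoc, h1, Category.assoc]
    let T' : Over S := Over.mk (a ≫ (hrep.pullback v).hom)
    let a' : T' ⟶ hrep.pullback v := Over.homMk a rfl
    let b' : T' ⟶ hrep.pullback v := Over.homMk b hT.symm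
    have : a' = b' := by
      apply (yon S).map_injective
      apply sq.hom_ext
      · rw [← Functor.map_comp, ← Functor.map_comp]
        congr 1
        apply Over.OverMorphism.ext
        exact h1
      · rw [← Functor.map_comp, ← Functor.map_comp]
        congr 1
        apply Over.OverMorphism.ext
        exact h2
    exact congrArg (fun m => m.left) this
  have : IsAffine V.left := hV
  have : IsAffine W.left := hW
  have hqs' : QuasiSeparatedSpace (hrep.pullback v).left :=
    quasiSeparatedSpace_of_quasiSeparated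
      (pullback.lift d₀.left (hrep.snd v).left hw' :
        (hrep.pullback v).left ⟶ pullback g.left g.left)
  exact ⟨⟨V, hrep.pullback v, v, d₀, hrep.snd v, sq, hsurj, hV, hc, hqs'⟩, hve⟩

/-- A point without proper generizations of an affine scheme lies in the image of every morphism
from an affine scheme which is injective on global sections. -/
theorem exists_apply_eq_of_no_generization {X₁ X₂ : Scheme.{u}} [IsAffine X₁] [IsAffine X₂]
    (c : X₁ ⟶ X₂) (hc : Function.Injective c.appTop.hom) (n : X₂)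
    (hn : ∀ z : X₂, z ⤳ n → z = n) : ∃ v : X₁, c v = n := by
  let e₂ := Scheme.homeoOfIso X₂.isoSpec
  let 𝔭 : PrimeSpectrum Γ(X₂, ⊤) := X₂.isoSpec.hom n
  have hmin : 𝔭.asIdeal ∈ minimalPrimes Γ(X₂, ⊤) := by
    refine ⟨⟨𝔭.isPrime, bot_le⟩, ?_⟩
    rintro q ⟨hq, -⟩ hqp
    let 𝔮 : PrimeSpectrum Γ(X₂, ⊤) := ⟨q, hq⟩
    have h1 : 𝔮 ⤳ 𝔭 := (PrimeSpectrum.le_iff_specializes 𝔮 𝔭).1 hqp
    have h2 : X₂.isoSpec.inv 𝔮 ⤳ X₂.isoSpec.inv 𝔭 := h1.map X₂.isoSpec.inv.continuous
    have h3 : X₂.isoSpec.inv 𝔭 = n := by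
      change (X₂.isoSpec.hom ≫ X₂.isoSpec.inv) n = n
      rw [Iso.hom_inv_id]
      rfl
    rw [h3] at h2
    have h4 := hn _ h2
    have h5 : 𝔮 = 𝔭 := by
      have : X₂.isoSpec.hom (X₂.isoSpec.inv 𝔮) = 𝔭 := by rw [h4]
      change (X₂.isoSpec.inv ≫ X₂.isoSpec.hom) 𝔮 = 𝔭 at this
      rw [Iso.inv_hom_id] at this
      exact this
    rw [← h5]
  obtain ⟨q, hq, hqp⟩ := Ideal.exists_comap_eq_of_mem_minimalPrimes_of_injective hc _ hmin
  let 𝔮 : PrimeSpectrum Γ(X₁, ⊤) := ⟨q, hq⟩
  refine ⟨X₁.isoSpec.inv 𝔮, ?_⟩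
  have h1 : X₂.isoSpec.hom (c (X₁.isoSpec.inv 𝔮)) = 𝔭 := by
    change (X₁.isoSpec.inv ≫ c ≫ X₂.isoSpec.hom) 𝔮 = 𝔭
    rw [← Scheme.isoSpec_hom_naturality, Iso.inv_hom_id_assoc]
    apply PrimeSpectrum.ext
    exact hqp
  have h2 : X₂.isoSpec.inv (X₂.isoSpec.hom (c (X₁.isoSpec.inv 𝔮))) = X₂.isoSpec.inv 𝔭 := by
    rw [h1]
  change (X₂.isoSpec.hom ≫ X₂.isoSpec.inv) (c (X₁.isoSpec.inv 𝔮)) =
    (X₂.isoSpec.hom ≫ X₂.isoSpec.inv) n at h2
  rw [Iso.hom_inv_id] at h2
  exact h2

end Groth.Agent.H7.NAS
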