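import Groth.Agent.Lib.Helper7.NASB1
import Mathlib

/-!
# Points of codimension zero of the normalization of an algebraic space, main theorem
-/

set_option autoImplicit false

universe u

open CategoryTheory CategoryTheory.Limits AlgebraicGeometry Opposite

namespace Groth.Agent.H7.NAS

open _root_.AlgSp Groth.Agent.H5.AlgSp Groth.Agent.H7.QFinSp

variable {S : Scheme.{u}}

theorem S10317_main {Y X X' : AlgSp.Space S} (f : Y ⟶ X)
    (hqc : AlgSp.IsQuasiCompactMor f.hom) (hqs : AlgSp.IsQuasiSeparatedMor f.hom) (ν : X' ⟶ X)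
    (f' : Y ⟶ X') (hn : AlgSp.IsRelNormalization f.hom ν.hom f'.hom) (x' : AlgSp.Points X'.obj)
    (hx' : AlgSp.HasAt (fun U u => ringKrullDim ↥(U.presheaf.stalk u) = 0) X'.obj x') :
    ∃ y : AlgSp.Points Y.obj,
      AlgSp.HasAt (fun U u => ringKrullDim ↥(U.presheaf.stalk u) = 0) Y.obj y ∧
        AlgSp.Points.map f'.hom y = x' := by
  -- an affine étale chart of `X` through the image of `x'`
  obtain ⟨U, p, hpe, hps⟩ := X.property.atlas
  obtain ⟨u, hu⟩ := ofPt_surjective_of_repWith hps (Points.map ν.hom x')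
  obtain ⟨V₀, hV₀, huV₀⟩ := exists_isAffineOpen_mem U.left u
  obtain ⟨W, w, hW, hw, u₀, hu₀⟩ : ∃ (W : Over S) (w : (yon S).obj W ⟶ X.obj),
      IsAffine W.left ∧ RepWith @Etale w ∧ ∃ u₀ : W.left, Points.ofPt w u₀ = Points.map ν.hom x' := by
    refine ⟨overOpen U V₀, (yon S).map (overOpenι U V₀) ≫ p, isAffine_overOpen _ _ hV₀,
      repWith_etale_comp_yon _ ?_ hpe, ⟨u, huV₀⟩, ?_⟩
    · change Etale V₀.ι
      infer_instance
    · rw [ofPt_yon_map_comp, ← hu]
      rfl
  -- the base change to the chart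
  have hst := stable_of_isRelNormalization f.hom X.property Y.property hqc hqs X'.property ν.hom
    f'.hom hn
  obtain ⟨d, -⟩ : ∃ d : BC f.hom ν.hom f'.hom w, True := ⟨BC.std hst.1 w, trivial⟩
  have hnd : IsRelNormalization d.fC d.νC d.f'C := hst.2.2 W hW w hw d
  have hYC : IsAlgSpace d.YC :=
    isAlgSpace_pullback X.property.diag Y.property (IsAlgSpace.yon_obj W) d.sq1
  have hNC : IsAlgSpace d.NC := isAlgSpace_of_isIntegralMor (IsAlgSpace.yon_obj W) hnd.2.1
  obtain ⟨P, hPe⟩ := exists_pres_etale hW hYC d.fC (isQuasiCompactMor_of_isPullback d.sq1 hqc)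
    (repWith_diag_of_isPullback d.sq1 hqs)
  obtain ⟨N₀, ν₀, f'₀, c, hN₀, hν₀, hfac, hc, hinj, hsurj⟩ := exists_char hW P d.fC
  have hn₀ := isRelNormalization_of_char hW hN₀ P d.fC ν₀ hν₀ f'₀ hfac c hc hinj hsurj
  obtain ⟨i, hi1, hi2⟩ := IsRelNormalization.exists_iso hNC (IsAlgSpace.yon_obj N₀) hnd hn₀
  -- the chart of `X'`
  have sqb : IsPullback (i.inv ≫ d.b) ((yon S).map ν₀) ν.hom w :=
    IsPullback.of_iso d.sq2 i (Iso.refl _) (Iso.refl _) (Iso.refl _) (by simp) (by simp [hi2])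
      (by simp) (by simp)
  have hb : RepWith @Etale (i.inv ≫ d.b) :=
    MorphismProperty.of_isPullback (P := RepWith @Etale) sqb.flip hw
  obtain ⟨n₀, -, hn₀x⟩ := exists_point_of_isPullback sqb x' u₀ hu₀.symm
  have hdim : ringKrullDim ↥(N₀.left.presheaf.stalk n₀) = 0 :=
    dim_zero_of_hasAt hx' (i.inv ≫ d.b) hb n₀ hn₀x
  -- lifting to the presentation
  have : IsAffine N₀.left := hN₀
  have : IsAffine P.V.left := P.aff
  obtain ⟨v₁, hv₁⟩ := exists_apply_eq_of_no_generization c.left hinj n₀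
    (fun z hz => Groth.Agent.H1.ValGen.eq_of_specializes_of_ringKrullDim_le_zero hz hdim.le)
  obtain ⟨η, hη, hηdim⟩ := exists_generization_dim_zero P.V.left v₁
  have hcη : c.left η = n₀ := by
    have h1 : c.left η ⤳ c.left v₁ := hη.map c.left.continuous
    rw [hv₁] at h1
    exact Groth.Agent.H1.ValGen.eq_of_specializes_of_ringKrullDim_le_zero h1 hdim.le
  have ha : RepWith @Etale d.a :=
    MorphismProperty.of_isPullback (P := RepWith @Etale) d.sq1.flip hw
  refine ⟨Points.ofPt (P.v ≫ d.a) η,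
    ⟨P.V, P.v ≫ d.a, η, (RepWith @Etale).comp_mem _ _ hPe ha, rfl, hηdim⟩, ?_⟩
  rw [Points.map_ofPt]
  have hcomp : (P.v ≫ d.a) ≫ f'.hom = (yon S).map c ≫ i.inv ≫ d.b := by
    rw [Category.assoc, ← d.c2, hc, ← hi1, Category.assoc, Category.assoc, Iso.hom_inv_id_assoc]
  rw [hcomp, ofPt_yon_map_comp, hcη]
  exact hn₀x

end Groth.Agent.H7.NAS
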