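import Groth.Agent.Lib.Helper7.NASB1
import Groth.Agent.Lib.Helper8.Japanese.NormFin1
import Groth.Agent.Lib.Helper8.Japanese.NagFT17
import Groth.Agent.Lib.Helper5.AlgSp.ImmersionDense
import Groth.Agent.Lib.Helper5.AlgSp.IntegralMor
import Groth.Agent.Lib.Helper3.AlgSpCov.FpqcAffineBase
import Mathlib

/-!
# Finiteness of the normalization over Nagata algebraic spaces
-/

set_option autoImplicit false

universe u

open CategoryTheory CategoryTheory.Limits AlgebraicGeometry Opposite

namespace Groth.Agent.H7.NAS

open _root_.AlgSp Groth.Agent.H5.AlgSp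

variable {S : Scheme.{u}}

/-- An integral algebra over a Nagata ring which embeds into a reduced algebra of finite type is
finite. -/
theorem finite_of_injective_of_isNagata (A : Type u) [CommRing A] (hA : CAlg.IsNagata A)
    (B C : Type u) [CommRing B] [CommRing C] [Algebra A B] [Algebra A C] [IsReduced B]
    [Algebra.FiniteType A B] (κ : C →ₐ[A] B) (hκ : Function.Injective κ)
    (hC : Algebra.IsIntegral A C) : Module.Finite A C := by
  haveI := hA.1
  haveI : Module.Finite A (integralClosure A B) :=
    Groth.Agent.H8.Jap.NormFin.finite_integralClosure_of_isNagata A hA B (fun _ : Unit => B)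
      (fun _ => AlgHom.id A B) (fun b hb => hb ())
  haveI : IsNoetherian A (integralClosure A B) := isNoetherian_of_isNoetherianRing_of_finite A _
  let g : C →ₗ[A] integralClosure A B :=
    LinearMap.codRestrict (Subalgebra.toSubmodule (integralClosure A B)) κ.toLinearMap
      (fun c => IsIntegral.map κ (hC.isIntegral c))
  have hg : Function.Injective g := by
    intro x y hxy
    apply hκ
    exact congrArg (fun z : integralClosure A B => (z : B)) hxy
  exact Module.Finite.of_injective g hg

/-- A covering family of étale charts is an fpqc covering. -/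
theorem isFpqcCover_of_etale_cover {X : Sp S} (hX : IsAlgSpace X) {ι : Type u} (U : ι → Sp S)
    (hU : ∀ i, IsAlgSpace (U i)) (w : ∀ i, U i ⟶ X) (hw : ∀ i, RepWith @Etale (w i))
    (cov : ∀ (T : Over S) (x : (yon S).obj T ⟶ X), coverSieve w x ∈ J S T) :
    IsFpqcCover U w := by
  apply Groth.Agent.H3.AlgSpCov.isFpqcCover_of_isFppfCover hX _ hU
  refine ⟨fun i => ?_, fun x => ?_⟩
  · have h := locP_etale_of_isEtaleMor (isEtaleMor_of_repWith (hw i))
    exact ⟨Fam.locP_mono etale_le_flat h, Fam.locP_mono etale_le_lfp h⟩
  · obtain ⟨i, y, hy⟩ := points_jointly_surjective w (fun T ξ => cov T ξ) x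
    exact ⟨i, y, hy⟩

end Groth.Agent.H7.NAS
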