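import Groth.Agent.Lib.Helper7.NASC1
import Mathlib

/-!
# Finiteness of the normalization over Nagata algebraic spaces, main theorem
-/

set_option autoImplicit false

universe u

open CategoryTheory CategoryTheory.Limits AlgebraicGeometry Opposite

namespace Groth.Agent.H7.NAS

open _root_.AlgSp Groth.Agent.H5.AlgSp

variable {S : Scheme.{u}}

set_option backward.isDefEq.respectTransparency.types false in
/-- A morphism of affine schemes which is finite on global sections is finite. -/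
lemma isFinite_of_finite_appTop {N W : Scheme.{u}} [IsAffine N] [IsAffine W] (g : N ⟶ W)
    (h : g.appTop.hom.Finite) : IsFinite g :=
  (HasAffineProperty.iff_of_isAffine (P := @IsFinite)).2 ⟨inferInstance, h⟩

/-- Finiteness of the normalization over a Nagata affine étale chart. -/
theorem isFiniteMor_chart {X Y Y' : Sp S} (hX : IsAlgSpace X) (hY : IsAlgSpace Y)
    (f : X ⟶ Y) (hqs : IsQuasiSeparatedMor f) (hft : IsFiniteTypeMor f) (hXr : IsReducedSp X)
    (ν : Y' ⟶ Y) (f' : X ⟶ Y') (hst : Stable f ν f') {W : Over S} (hW : IsAffine W.left)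
    (hNag : CAlg.IsNagata Γ(W.left, ⊤)) (w : (yon S).obj W ⟶ Y) (hw : RepWith @Etale w)
    (d : BC f ν f' w) : IsFiniteMor d.νC := by
  have hnd : IsRelNormalization d.fC d.νC d.f'C := hst.2.2 W hW w hw d
  have hYC : IsAlgSpace d.YC := isAlgSpace_pullback hY.diag hX (IsAlgSpace.yon_obj W) d.sq1
  have hNC : IsAlgSpace d.NC := isAlgSpace_of_isIntegralMor (IsAlgSpace.yon_obj W) hnd.2.1
  obtain ⟨P, hPe⟩ := exists_pres_etale hW hYC d.fC (isQuasiCompactMor_of_isPullback d.sq1 hft.2)
    (repWith_diag_of_isPullback d.sq1 hqs)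
  obtain ⟨N₀, ν₀, f'₀, c, hN₀, hν₀, hfac, hc, hinj, hsurj⟩ := exists_char hW P d.fC
  have hn₀ := isRelNormalization_of_char hW hN₀ P d.fC ν₀ hν₀ f'₀ hfac c hc hinj hsurj
  obtain ⟨i, hi1, hi2⟩ := IsRelNormalization.exists_iso hNC (IsAlgSpace.yon_obj N₀) hnd hn₀
  have : IsAffine N₀.left := hN₀
  have : IsAffine W.left := hW
  have : IsAffine P.V.left := P.aff
  -- the chart `V ⟶ X` is étale, so `V` is reduced and of finite type over `W`
  have ha : RepWith @Etale d.a :=
    MorphismProperty.of_isPullback (P := RepWith @Etale) d.sq1.flip hw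
  have hchart : RepWith @Etale (P.v ≫ d.a) := (RepWith @Etale).comp_mem _ _ hPe ha
  have hVred : IsReduced P.V.left := isReduced_of_etale_of_isReducedSp hXr _ hchart
  have hcomm : (P.v ≫ d.a) ≫ f = (yon S).map (c ≫ ν₀) ≫ w := by
    have e1 : (P.v ≫ d.a) ≫ f = P.v ≫ d.fC ≫ w := by rw [Category.assoc, d.sq1.w]
    have e2 : (yon S).map (c ≫ ν₀) ≫ w = P.v ≫ d.fC ≫ w := by
      rw [Functor.map_comp, hc, ← hfac]
      simp only [Category.assoc]
    rw [e1, e2]
  have hlft : LocallyOfFiniteType (c ≫ ν₀).left := hft.1 (P.v ≫ d.a) w (c ≫ ν₀) hchart hw hcomm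
  have hFT : RingHom.FiniteType (c ≫ ν₀).left.appTop.hom :=
    (HasRingHomProperty.iff_of_isAffine (P := @LocallyOfFiniteType)).1 hlft
  -- the ring-level argument
  have hfin : ν₀.left.appTop.hom.Finite := by
    letI iC : Algebra Γ(W.left, ⊤) Γ(N₀.left, ⊤) := ν₀.left.appTop.hom.toAlgebra
    letI iB : Algebra Γ(W.left, ⊤) Γ(P.V.left, ⊤) := (c ≫ ν₀).left.appTop.hom.toAlgebra
    have hFT' : Algebra.FiniteType Γ(W.left, ⊤) Γ(P.V.left, ⊤) := hFT
    let κ : Γ(N₀.left, ⊤) →ₐ[Γ(W.left, ⊤)] Γ(P.V.left, ⊤) :=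
      { c.left.appTop.hom with
        commutes' := fun r => by
          have h1 : (c ≫ ν₀).left.appTop.hom = c.left.appTop.hom.comp ν₀.left.appTop.hom := by
            rw [Over.comp_left]
            exact comp_appTop_hom c.left ν₀.left
          exact (congrArg (fun ψ => ψ r) h1).symm }
    have hint : Algebra.IsIntegral Γ(W.left, ⊤) Γ(N₀.left, ⊤) :=
      ⟨fun x => IsIntegralHom.isIntegral_app ν₀.left ⊤ (isAffineOpen_top _) x⟩
    exact finite_of_injective_of_isNagata Γ(W.left, ⊤) hNag Γ(P.V.left, ⊤) Γ(N₀.left, ⊤) κ hinj hint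
  have hν₀fin : IsFinite ν₀.left := isFinite_of_finite_appTop ν₀.left hfin
  have h1 : RepWith @IsFinite ((yon S).map ν₀) := (repWith_yon_map_iff @IsFinite ν₀).2 hν₀fin
  rw [isFiniteMor_iff_repWith, ← hi2]
  exact (MorphismProperty.cancel_left_of_respectsIso (RepWith @IsFinite) i.hom _).2 h1

end Groth.Agent.H7.NAS
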