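import Groth.Agent.Lib.Helper7.NASC2
import Mathlib

/-!
# Finiteness of the normalization over Nagata algebraic spaces: S10299
-/

set_option autoImplicit false

universe u

open CategoryTheory CategoryTheory.Limits AlgebraicGeometry Opposite

namespace Groth.Agent.H7.NAS

open _root_.AlgSp Groth.Agent.H5.AlgSp

variable {S : Scheme.{u}}

theorem S10299_main {X Y Y' : AlgSp.Space S} (f : X ⟶ Y)
    (hY : AlgSp.EtaleLocally (fun U => ∀ V : U.Opens, IsAffineOpen V → CAlg.IsNagata ↑Γ(U, V)) Y.obj)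
    (hqs : AlgSp.IsQuasiSeparatedMor f.hom) (hft : AlgSp.IsFiniteTypeMor f.hom)
    (hX : AlgSp.EtaleLocally (fun U => IsReduced U) X.obj) (ν : Y' ⟶ Y) (f' : X ⟶ Y')
    (hn : AlgSp.IsRelNormalization f.hom ν.hom f'.hom) : AlgSp.IsFiniteMor ν.hom := by
  obtain ⟨U, p, hpe, hps, hNag⟩ := hY
  have hst := stable_of_isRelNormalization f.hom Y.property X.property hft.2 hqs Y'.property ν.hom
    f'.hom hn
  have hwe : ∀ i : U.left.affineOpens, RepWith @Etale ((yon S).map (overOpenι U i.1) ≫ p) :=
    fun i => repWith_etale_comp_yon _ (by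
      change Etale (i.1 : U.left.Opens).ι
      infer_instance) hpe
  have hcover := isFpqcCover_of_etale_cover Y.property
    (fun i : U.left.affineOpens => (yon S).obj (overOpen U i.1)) (fun i => IsAlgSpace.yon_obj _)
    (fun i => (yon S).map (overOpenι U i.1) ≫ p) hwe
    (fun T x => coverSieve_affine_mem p hpe hps x)
  choose d _ using fun i : U.left.affineOpens =>
    (⟨BC.std hst.1 _, trivial⟩ : ∃ _ : BC f.hom ν.hom f'.hom
      ((yon S).map (overOpenι U i.1) ≫ p), True)
  have hNC : ∀ i, IsAlgSpace (d i).NC := fun i =>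
    isAlgSpace_of_isIntegralMor (IsAlgSpace.yon_obj _)
      (isIntegralMor_of_isPullback (d i).sq2 hst.2.1)
  refine (Groth.Agent.H3.AlgSpCov.isLocalOnBase_fpqc_isFiniteMor
    (fun i : U.left.affineOpens => (yon S).obj (overOpen U i.1))
    (fun i => (yon S).map (overOpenι U i.1) ≫ p) Y.property (fun i => IsAlgSpace.yon_obj _) hcover
    ν.hom Y'.property (fun i => (d i).NC) (fun i => (d i).νC) (fun i => (d i).b) hNC
    (fun i => (d i).sq2)).2 (fun i => ?_)
  have hNag' : CAlg.IsNagata Γ((overOpen U i.1).left, ⊤) :=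
    Groth.Agent.H8.Jap.NagFT.isNagata_of_ringEquiv
      (i.1 : U.left.Opens).topIso.commRingCatIsoToRingEquiv.symm (hNag i.1 i.2)
  exact isFiniteMor_chart X.property Y.property f.hom hqs hft hX ν.hom f'.hom hst
    (isAffine_overOpen U i.1 i.2) hNag' _ (hwe i) (d i)

end Groth.Agent.H7.NAS
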