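import Groth.Agent.Lib.Helper7.QFin11
import Mathlib

/-!
# Separated locally quasi-finite morphisms of algebraic spaces are representable
-/

set_option autoImplicit false
universe u

open AlgebraicGeometry CategoryTheory Limits

namespace Groth.Agent.H7.QFinSp

open _root_.AlgSp Groth.Agent.H5.AlgSp Groth.Agent.H5.EtSrc Groth.Agent.H5.Descent
open Groth.Agent.H7.QFin

variable {S : Scheme.{u}}

/-- an algebraic space separated and locally quasi-finite over a scheme is a scheme. -/
theorem exists_iso_of_sepLQF {X : Sp S} (hX : IsAlgSpace X) {T : Over S}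
    (f : X ⟶ (yon S).obj T) (hsep : IsSeparatedMor f)
    (hl : LocP (@LocallyQuasiFinite ⊓ @LocallyOfFiniteType) f) :
    ∃ Z : Over S, Nonempty ((yon S).obj Z ≅ X) :=
  Groth.Agent.H3.Decent.isRepresentable_of_schematicSet_eq_univ hX
    (Set.eq_univ_of_forall fun x => mem_schematicSet_of_sepLQF hX f hsep hl x)

/-- **A separated locally quasi-finite morphism of algebraic spaces is representable.** -/
theorem representable_of_sepLQF {X Y : Sp S} (hX : IsAlgSpace X) (hY : IsAlgSpace Y) (f : X ⟶ Y)
    (hsep : IsSeparatedMor f) (hl : LocP (@LocallyQuasiFinite ⊓ @LocallyOfFiniteType) f) :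
    Representable f := by
  intro Z g
  have sq := IsPullback.of_hasPullback f g
  have hXZ : IsAlgSpace (pullback f g) := isAlgSpace_pullback hY.diag hX (IsAlgSpace.yon_obj Z) sq
  have hl' : LocP (@LocallyQuasiFinite ⊓ @LocallyOfFiniteType) (pullback.snd f g) :=
    locP_of_isPullback etale_le_lqf_lft sq hX hY (IsAlgSpace.yon_obj Z) hl
  have hsep' : IsSeparatedMor (pullback.snd f g) := repWith_diag_of_isPullback sq hsep
  obtain ⟨W, ⟨e⟩⟩ := exists_iso_of_sepLQF hXZ (pullback.snd f g) hsep' hl'
  obtain ⟨w, hw⟩ := (yon S).map_surjective (e.hom ≫ pullback.snd f g)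
  refine ⟨W, w, e.hom ≫ pullback.fst f g, ?_⟩
  have sq' : IsPullback e.hom ((yon S).map w) (pullback.snd f g) (𝟙 _) :=
    IsPullback.of_horiz_isIso ⟨by rw [hw, Category.comp_id]⟩
  have := sq'.paste_horiz sq
  rwa [Category.id_comp] at this

end Groth.Agent.H7.QFinSp
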