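import Groth.Agent.Lib.Helper7.NASC3
import Groth.Agent.Lib.Helper7.QFin12
import Groth.Agent.Lib.Helper5.Descent.SepLQFDescent
import Groth.Agent.Lib.Helper5.AlgSp.RelNormalization
import Groth.Agent.Lib.Helper5.AlgSp.LocPCalc
import Mathlib

/-!
# The normalization of a separated quasi-finite morphism: the affine chart
-/

set_option autoImplicit false

universe u

open CategoryTheory CategoryTheory.Limits AlgebraicGeometry Opposite

namespace Groth.Agent.H7.NAS

open _root_.AlgSp Groth.Agent.H5.AlgSp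

variable {S : Scheme.{u}}

/-- Zariski's main theorem for schemes, phrased with `IsRelNormalization`. -/
theorem exists_isRelNormalization_isOpenImmersion {Q W : Over S} (g : Q ⟶ W)
    [IsSeparated g.left] [LocallyQuasiFinite g.left] [LocallyOfFiniteType g.left]
    [QuasiCompact g.left] :
    ∃ (N : Over S) (ν : N ⟶ W) (f' : Q ⟶ N),
      IsRelNormalization ((yon S).map g) ((yon S).map ν) ((yon S).map f') ∧
        IsOpenImmersion f'.left := by
  let N : Over S := Over.mk (g.left.fromNormalization ≫ W.hom)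
  let ν : N ⟶ W := Over.homMk g.left.fromNormalization rfl
  let f' : Q ⟶ N := Over.homMk g.left.toNormalization (by
    change g.left.toNormalization ≫ g.left.fromNormalization ≫ W.hom = Q.hom
    rw [← Category.assoc, Scheme.Hom.toNormalization_fromNormalization, Over.w g])
  refine ⟨N, ν, f', ?_, ?_⟩
  · exact isRelNormalization_of_scheme_normalization g f' ν (Iso.refl _)
      (by simp [f']) (by simp [ν])
  · change IsOpenImmersion g.left.toNormalization
    infer_instance

/-- The base change of a separated, locally quasi-finite, quasi-compact morphism of algebraic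
spaces to a scheme is a scheme, with the corresponding properties. -/
theorem exists_scheme_of_isPullback {X Y : Sp S} (hX : IsAlgSpace X) (hY : IsAlgSpace Y)
    (f : X ⟶ Y) (hqf : LocP (@LocallyQuasiFinite ⊓ @LocallyOfFiniteType) f)
    (hqc : IsQuasiCompactMor f) (hsep : IsSeparatedMor f) {W : Over S}
    (w : (yon S).obj W ⟶ Y) {XC : Sp S} (a : XC ⟶ X) (fC : XC ⟶ (yon S).obj W)
    (sq : IsPullback a fC f w) :
    ∃ (Q : Over S) (e : (yon S).obj Q ≅ XC) (g : Q ⟶ W), (yon S).map g = e.hom ≫ fC ∧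
      IsSeparated g.left ∧ LocallyQuasiFinite g.left ∧ LocallyOfFiniteType g.left ∧
      QuasiCompact g.left := by
  have hXC : IsAlgSpace XC := isAlgSpace_pullback hY.diag hX (IsAlgSpace.yon_obj W) sq
  have hsepC : IsSeparatedMor fC := repWith_diag_of_isPullback sq hsep
  have hqfC : LocP (@LocallyQuasiFinite ⊓ @LocallyOfFiniteType) fC :=
    locP_of_isPullback Groth.Agent.H7.QFinSp.etale_le_lqf_lft sq hX hY (IsAlgSpace.yon_obj W) hqf
  have hqcC : IsQuasiCompactMor fC := isQuasiCompactMor_of_isPullback sq hqc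
  obtain ⟨Q, ⟨e⟩⟩ := Groth.Agent.H7.QFinSp.exists_iso_of_sepLQF hXC fC hsepC hqfC
  obtain ⟨g, hg⟩ := (yon S).map_surjective (e.hom ≫ fC)
  have sq' : IsPullback e.hom ((yon S).map g) fC (𝟙 _) :=
    IsPullback.of_horiz_isIso ⟨by rw [hg, Category.comp_id]⟩
  have h1 : IsSeparatedMor ((yon S).map g) := repWith_diag_of_isPullback sq' hsepC
  have h2 : LocP (@LocallyQuasiFinite ⊓ @LocallyOfFiniteType) ((yon S).map g) :=
    locP_of_isPullback Groth.Agent.H7.QFinSp.etale_le_lqf_lft sq' hXC (IsAlgSpace.yon_obj W)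
      (IsAlgSpace.yon_obj W) hqfC
  have h3 : IsQuasiCompactMor ((yon S).map g) := isQuasiCompactMor_of_isPullback sq' hqcC
  have h2' := locP_yon_map h2
  refine ⟨Q, e, g, hg, (isSeparatedMor_yon_map_iff g).1 h1, h2'.1, h2'.2, ?_⟩
  exact (repWith_yon_map_iff @QuasiCompact g).1
    (repWith_quasiCompact_of_isQuasiCompactMor (representable_yon_map g) h3)

/-- Over an affine étale chart, the map to the normalization of a separated, locally quasi-finite,
quasi-compact morphism is an open immersion. -/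
theorem repWith_isOpenImmersion_chart {X Y Y' : Sp S} (hX : IsAlgSpace X) (hY : IsAlgSpace Y)
    (f : X ⟶ Y) (hqf : LocP (@LocallyQuasiFinite ⊓ @LocallyOfFiniteType) f)
    (hqc : IsQuasiCompactMor f) (hsep : IsSeparatedMor f)
    (ν : Y' ⟶ Y) (f' : X ⟶ Y') (hst : Stable f ν f') {W : Over S} (hW : IsAffine W.left)
    (w : (yon S).obj W ⟶ Y) (hw : RepWith @Etale w) (d : BC f ν f' w) :
    RepWith @IsOpenImmersion d.f'C := by
  have hnd : IsRelNormalization d.fC d.νC d.f'C := hst.2.2 W hW w hw d
  have hNC : IsAlgSpace d.NC := isAlgSpace_of_isIntegralMor (IsAlgSpace.yon_obj W) hnd.2.1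
  obtain ⟨Q, e, g, hg, hg1, hg2, hg3, hg4⟩ :=
    exists_scheme_of_isPullback hX hY f hqf hqc hsep w d.a d.fC d.sq1
  obtain ⟨N, ν₁, f'₁, hn₁, hoi⟩ := exists_isRelNormalization_isOpenImmersion g
  -- transport along `e`
  have hn₂ : IsRelNormalization d.fC ((yon S).map ν₁) (e.inv ≫ (yon S).map f'₁) :=
    isRelNormalization_of_iso hn₁ e.symm (Iso.refl _)
      (by rw [Iso.symm_hom, hg, Iso.inv_hom_id_assoc]) (by simp) (by simp)
  obtain ⟨i, hi1, hi2⟩ := IsRelNormalization.exists_iso hNC (IsAlgSpace.yon_obj N) hnd hn₂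
  have h1 : RepWith @IsOpenImmersion ((yon S).map f'₁) :=
    (repWith_yon_map_iff @IsOpenImmersion f'₁).2 hoi
  have h2 : d.f'C = e.inv ≫ (yon S).map f'₁ ≫ i.inv := by
    rw [← Category.assoc, ← hi1, Category.assoc, Iso.hom_inv_id, Category.comp_id]
  rw [h2]
  exact (MorphismProperty.cancel_left_of_respectsIso (RepWith @IsOpenImmersion) e.inv _).2
    ((MorphismProperty.cancel_right_of_respectsIso (RepWith @IsOpenImmersion) _ i.inv).2 h1)

end Groth.Agent.H7.NAS
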