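import Groth.Agent.Lib.Helper7.NASD1
import Groth.Agent.Lib.Helper3.AlgSpCov.IsoBase
import Groth.Agent.Lib.Helper5.AlgSp.ProdSp
import Mathlib

/-!
# The normalization of a separated quasi-finite morphism: S10300
-/

set_option autoImplicit false

universe u

open CategoryTheory CategoryTheory.Limits AlgebraicGeometry Opposite

namespace Groth.Agent.H7.NAS

open _root_.AlgSp Groth.Agent.H5.AlgSp

variable {S : Scheme.{u}}

/-- The third pullback square of base change data. -/
lemma BC.sq3 {Y X N : Sp S} {f : Y ⟶ X} {ν : N ⟶ X} {f' : Y ⟶ N} (hfac : f' ≫ ν = f) {C : Sp S}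
    {c : C ⟶ X} (d : BC f ν f' c) : IsPullback d.a d.f'C f' d.b := by
  have s : IsPullback d.a (d.f'C ≫ d.νC) (f' ≫ ν) c := by
    rw [d.c1, hfac]
    exact d.sq1
  exact IsPullback.of_bot s d.c2.symm d.sq2

lemma closedImmersion_le_quasiCompact :
    (@IsClosedImmersion : MorphismProperty Scheme.{u}) ≤ @QuasiCompact :=
  fun _ _ g (_ : IsClosedImmersion g) => (inferInstance : QuasiCompact g)

/-- A quasi-compact representable open immersion followed by an integral morphism is
quasi-affine. -/
theorem isQuasiAffineMor_comp_of_isOpenImmersion_of_isIntegralMor {X Y' Y : Sp S}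
    {f' : X ⟶ Y'} {ν : Y' ⟶ Y} (h1 : RepWith @IsOpenImmersion f') (h2 : IsQuasiCompactMor f')
    (h3 : IsIntegralMor ν) : IsQuasiAffineMor (f' ≫ ν) := by
  intro Z hZ g
  obtain ⟨W', i, fst, sq, hW', -⟩ := h3 hZ g
  have sq' := h1.rep.isPullback fst
  have hoi : IsOpenImmersion (h1.rep.snd fst).left := h1.property fst _ _ sq'
  refine ⟨h1.rep.pullback fst, h1.rep.snd fst ≫ i, h1.rep.fst fst, ?_, ?_⟩
  · rw [Functor.map_comp]
    exact sq'.paste_vert sq
  · have hqc : IsQuasiCompactSp ((yon S).obj (h1.rep.pullback fst)) :=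
      h2 (IsAlgSpace.yon_obj W') ((isQuasiCompactSp_yon_iff W').2 inferInstance) fst _ _ sq'
    have : CompactSpace ↥(h1.rep.pullback fst).left := (isQuasiCompactSp_yon_iff _).1 hqc
    exact Scheme.IsQuasiAffine.of_isImmersion (h1.rep.snd fst).left

theorem S10300_main {X Y Y' : AlgSp.Space S}
    (f : X ⟶ Y) (hqf : AlgSp.LocP (@LocallyQuasiFinite ⊓ @LocallyOfFiniteType) f.hom)
    (hqc : AlgSp.IsQuasiCompactMor f.hom) (hsep : AlgSp.IsSeparatedMor f.hom) (ν : Y' ⟶ Y)
    (f' : X ⟶ Y') (hn : AlgSp.IsRelNormalization f.hom ν.hom f'.hom) :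
    AlgSp.RepWith @IsOpenImmersion f'.hom ∧ AlgSp.IsQuasiCompactMor f'.hom ∧
      AlgSp.IsQuasiAffineMor f.hom := by
  have hqs : IsQuasiSeparatedMor f.hom := repWith_mono closedImmersion_le_quasiCompact hsep
  obtain ⟨U, p, hpe, hps⟩ := Y.property.atlas
  have hst := stable_of_isRelNormalization f.hom Y.property X.property hqc hqs Y'.property ν.hom
    f'.hom hn
  have hwe : ∀ i : U.left.affineOpens, RepWith @Etale ((yon S).map (overOpenι U i.1) ≫ p) :=
    fun i => repWith_etale_comp_yon _ (by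
      change Etale (i.1 : U.left.Opens).ι
      infer_instance) hpe
  have hcover := isFpqcCover_of_etale_cover Y.property
    (fun i : U.left.affineOpens => (yon S).obj (overOpen U i.1)) (fun i => IsAlgSpace.yon_obj _)
    (fun i => (yon S).map (overOpenι U i.1) ≫ p) hwe
    (fun T x => coverSieve_affine_mem p hpe hps x)
  choose d _ using fun i : U.left.affineOpens =>
    (⟨BC.std hst.1 _, trivial⟩ : ∃ _ : BC f.hom ν.hom f'.hom
      ((yon S).map (overOpenι U i.1) ≫ p), True)
  have hNC : ∀ i, IsAlgSpace (d i).NC := fun i =>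
    isAlgSpace_of_isIntegralMor (IsAlgSpace.yon_obj _)
      (isIntegralMor_of_isPullback (d i).sq2 hst.2.1)
  have hYC : ∀ i, IsAlgSpace (d i).YC := fun i =>
    isAlgSpace_pullback Y.property.diag X.property (IsAlgSpace.yon_obj _) (d i).sq1
  have hcover' : IsFpqcCover (fun i => (d i).NC) (fun i => (d i).b) :=
    Groth.Agent.H3.AlgSpCov.isFpqcCover_of_isPullback Y.property Y'.property ν.hom _
      (fun i => IsAlgSpace.yon_obj _) _ _ _ (fun i => (d i).νC) (fun i => (d i).sq2) hcover
  have h1 : RepWith @IsOpenImmersion f'.hom :=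
    (Groth.Agent.H3.AlgSpCov.isLocalOnBase_fpqc_isOpenImmersion
      (fun i => (d i).NC) (fun i => (d i).b) Y'.property hNC hcover'
      f'.hom X.property (fun i => (d i).YC) (fun i => (d i).f'C) (fun i => (d i).a) hYC
      (fun i => (d i).sq3 hst.1)).2 (fun i =>
        repWith_isOpenImmersion_chart X.property Y.property f.hom hqf hqc hsep ν.hom f'.hom hst
          (isAffine_overOpen U i.1 i.2) _ (hwe i) (d i))
  have h2 : IsQuasiCompactMor f'.hom :=
    isQuasiCompactMor_of_comp_of_isQuasiSeparatedMor X.property Y'.property Y.property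
      (by rw [hn.1]; exact hqc)
      (repWith_mono closedImmersion_le_quasiCompact (isSeparatedMor_of_isIntegralMor hn.2.1))
  refine ⟨h1, h2, ?_⟩
  rw [← hn.1]
  exact isQuasiAffineMor_comp_of_isOpenImmersion_of_isIntegralMor h1 h2 hn.2.1

end Groth.Agent.H7.NAS
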