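import Groth.Agent.Lib.Helper7.NASA9
import Mathlib

/-!
# Relative normalization of algebraic spaces: smooth base change between affine bases
(the proofs of `NASA8`, `NASA9` with `Etale` replaced by `Smooth`)
-/

set_option autoImplicit false

universe u

open CategoryTheory CategoryTheory.Limits AlgebraicGeometry Opposite TensorProduct

namespace Groth.Agent.H7.NAS

open _root_.AlgSp Groth.Agent.H5.AlgSp

variable {S : Scheme.{u}}

/-- Base change of the characterization of the normalization, for schemes. -/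
theorem char_baseChange_smooth {W W₁ V V₂ N V₁ V₂₁ N₁ : Scheme.{u}} [IsAffine W] [IsAffine W₁]
    [IsAffine V] [IsAffine N] [IsAffine V₁] [IsAffine N₁] [CompactSpace V₂]
    [QuasiSeparatedSpace V₂] (e : W₁ ⟶ W) [Smooth e] (ν : N ⟶ W) (c : V ⟶ N) (d₀ d₁ : V₂ ⟶ V)
    (hd : d₁ ≫ c ≫ ν = d₀ ≫ c ≫ ν)
    (pr₁ : V₁ ⟶ V) (pr₂ : V₁ ⟶ W₁) (sqV : IsPullback pr₁ pr₂ (c ≫ ν) e)
    (b₁ : N₁ ⟶ N) (ν₁ : N₁ ⟶ W₁) (sqN : IsPullback b₁ ν₁ ν e)
    (q : V₂₁ ⟶ V₂) (d₀₁ d₁₁ : V₂₁ ⟶ V₁) (sq0 : IsPullback q d₀₁ d₀ pr₁)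
    (h1 : d₁₁ ≫ pr₁ = q ≫ d₁) (h1' : d₁₁ ≫ pr₂ = d₀₁ ≫ pr₂)
    (c₁ : V₁ ⟶ N₁) (hc1 : c₁ ≫ b₁ = pr₁ ≫ c) (hc2 : c₁ ≫ ν₁ = pr₂)
    (hinj : Function.Injective c.appTop.hom)
    (hsurj : ∀ b : Γ(V, ⊤), d₀.appTop.hom b = d₁.appTop.hom b →
      (c ≫ ν).appTop.hom.IsIntegralElem b → b ∈ Set.range c.appTop.hom) :
    Function.Injective c₁.appTop.hom ∧
      ∀ b : Γ(V₁, ⊤), d₀₁.appTop.hom b = d₁₁.appTop.hom b →
        pr₂.appTop.hom.IsIntegralElem b → b ∈ Set.range c₁.appTop.hom := by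
  letI iA₁ : Algebra Γ(W, ⊤) Γ(W₁, ⊤) := e.appTop.hom.toAlgebra
  letI iB : Algebra Γ(W, ⊤) Γ(V, ⊤) := (c ≫ ν).appTop.hom.toAlgebra
  letI iB₂ : Algebra Γ(W, ⊤) Γ(V₂, ⊤) := (d₀ ≫ c ≫ ν).appTop.hom.toAlgebra
  letI iC : Algebra Γ(W, ⊤) Γ(N, ⊤) := ν.appTop.hom.toAlgebra
  let δ₀ : Γ(V, ⊤) →ₐ[Γ(W, ⊤)] Γ(V₂, ⊤) :=
    { d₀.appTop.hom with
      commutes' := fun r => (congrArg (fun ψ => ψ r) (comp_appTop_hom d₀ (c ≫ ν))).symm }
  let δ₁ : Γ(V, ⊤) →ₐ[Γ(W, ⊤)] Γ(V₂, ⊤) :=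
    { d₁.appTop.hom with
      commutes' := fun r => ((congrArg (fun ψ => ψ r) (comp_appTop_hom d₁ (c ≫ ν))).symm).trans
        (congrArg (fun ψ => ψ r) (appTop_hom_congr hd)) }
  let κ : Γ(N, ⊤) →ₐ[Γ(W, ⊤)] Γ(V, ⊤) :=
    { c.appTop.hom with
      commutes' := fun r => (congrArg (fun ψ => ψ r) (comp_appTop_hom c ν)).symm }
  have hsm : Algebra.Smooth Γ(W, ⊤) Γ(W₁, ⊤) := by
    have h1 : RingHom.Smooth e.appTop.hom :=
      (HasRingHomProperty.iff_of_isAffine (P := @Smooth)).1 inferInstance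
    exact h1
  obtain ⟨ψB, hψB⟩ := exists_ringEquiv_top sqV (f := e) rfl rfl
  obtain ⟨ψC, hψC⟩ := exists_ringEquiv_top sqN (f := e) rfl rfl
  obtain ⟨ψB₂, hψB₂⟩ := exists_ringEquiv_top (sq0.paste_vert sqV) (f := e) rfl rfl
  have key := ring_bc δ₀ δ₁ κ pr₂.appTop.hom pr₁.appTop.hom ψB hψB
    (d₀₁ ≫ pr₂).appTop.hom q.appTop.hom ψB₂ hψB₂ ν₁.appTop.hom b₁.appTop.hom ψC hψC
    d₀₁.appTop.hom d₁₁.appTop.hom
    (comp_appTop_hom d₀₁ pr₂).symm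
    ((comp_appTop_hom d₀₁ pr₁).symm.trans ((appTop_hom_congr sq0.w.symm).trans
      (comp_appTop_hom q d₀)))
    ((comp_appTop_hom d₁₁ pr₂).symm.trans (appTop_hom_congr h1'))
    ((comp_appTop_hom d₁₁ pr₁).symm.trans ((appTop_hom_congr h1).trans
      (comp_appTop_hom q d₁)))
    c₁.appTop.hom
    ((comp_appTop_hom c₁ ν₁).symm.trans (appTop_hom_congr hc2))
    ((comp_appTop_hom c₁ b₁).symm.trans ((appTop_hom_congr hc1).trans (comp_appTop_hom pr₁ c)))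
    hinj (fun b hb hbi => hsurj b hb hbi)
  exact key


/-- **Smooth base change of the normalization between affine bases**, for normalizations
satisfying the characterization. -/
theorem isRelNormalization_baseChange_of_char_smooth {W W₁ N : Over S} (hW : IsAffine W.left)
    (hW₁ : IsAffine W₁.left) (e : W₁ ⟶ W) (he : Smooth e.left) (hN : IsAffine N.left)
    {Y : Sp S} (P : Pres Y) (f : Y ⟶ (yon S).obj W) (ν : N ⟶ W) (hν : IsIntegralHom ν.left)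
    (f' : Y ⟶ (yon S).obj N) (hfac : f' ≫ (yon S).map ν = f) (c : P.V ⟶ N)
    (hc : (yon S).map c = P.v ≫ f')
    (hinj : Function.Injective c.left.appTop.hom)
    (hsurj : ∀ b : Γ(P.V.left, ⊤), P.d₀.left.appTop.hom b = P.d₁.left.appTop.hom b →
      (c ≫ ν).left.appTop.hom.IsIntegralElem b → b ∈ Set.range c.left.appTop.hom)
    (d : BC f ((yon S).map ν) f' ((yon S).map e)) :
    IsRelNormalization d.fC d.νC d.f'C := by
  have : IsAffine W.left := hW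
  have : IsAffine W₁.left := hW₁
  have : IsAffine N.left := hN
  have : IsAffine P.V.left := P.aff
  have : CompactSpace P.V₂.left := P.qc
  have : QuasiSeparatedSpace P.V₂.left := P.qs
  have : Smooth e.left := he
  have hgV : (yon S).map (c ≫ ν) = P.v ≫ f := by
    rw [Functor.map_comp, hc, Category.assoc, hfac]
  -- the base changes of `V` and `N`
  have sqV₁ : IsPullback (pullback.fst (c ≫ ν) e) (pullback.snd (c ≫ ν) e) (c ≫ ν) e :=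
    IsPullback.of_hasPullback _ _
  have sqN₁ : IsPullback (pullback.fst ν e) (pullback.snd ν e) ν e :=
    IsPullback.of_hasPullback _ _
  obtain ⟨V₁, pr₁, pr₂, sqV₁⟩ : ∃ (V₁ : Over S) (pr₁ : V₁ ⟶ P.V) (pr₂ : V₁ ⟶ W₁),
      IsPullback pr₁ pr₂ (c ≫ ν) e := ⟨_, _, _, sqV₁⟩
  obtain ⟨N₁, b₁, ν₁, sqN₁⟩ : ∃ (N₁ : Over S) (b₁ : N₁ ⟶ N) (ν₁ : N₁ ⟶ W₁),
      IsPullback b₁ ν₁ ν e := ⟨_, _, _, sqN₁⟩
  have hV₁ : IsAffine V₁.left := IsAffine.of_isPullback (isPullback_left sqV₁)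
  have hN₁ : IsAffine N₁.left := IsAffine.of_isPullback (isPullback_left sqN₁)
  have hν₁ : IsIntegralHom ν₁.left :=
    MorphismProperty.of_isPullback (P := @IsIntegralHom) (isPullback_left sqN₁) hν
  obtain ⟨c₁, hc1, hc2⟩ : ∃ c₁ : V₁ ⟶ N₁, c₁ ≫ b₁ = pr₁ ≫ c ∧ c₁ ≫ ν₁ = pr₂ :=
    ⟨sqN₁.lift (pr₁ ≫ c) pr₂ (by rw [Category.assoc, sqV₁.w]), sqN₁.lift_fst _ _ _,
      sqN₁.lift_snd _ _ _⟩
  -- the presentation of the base change of `Y`
  have hw : ((yon S).map pr₁ ≫ P.v) ≫ f = (yon S).map pr₂ ≫ (yon S).map e := by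
    rw [Category.assoc, ← hgV, ← Functor.map_comp, ← Functor.map_comp, sqV₁.w]
  obtain ⟨v₁, hv1, hv2⟩ : ∃ v₁ : (yon S).obj V₁ ⟶ d.YC, v₁ ≫ d.a = (yon S).map pr₁ ≫ P.v ∧
      v₁ ≫ d.fC = (yon S).map pr₂ := ⟨d.sq1.lift _ _ hw, d.sq1.lift_fst _ _ _, d.sq1.lift_snd _ _ _⟩
  have sqv₁ : IsPullback ((yon S).map pr₁) v₁ P.v d.a := by
    have s : IsPullback (v₁ ≫ d.fC) ((yon S).map pr₁) ((yon S).map e) (P.v ≫ f) := by
      rw [hv2, ← hgV]
      exact (isPullback_yon sqV₁).flip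
    exact (IsPullback.of_right s hv1 d.sq1.flip).flip
  obtain ⟨V₂₁, q, d₀₁, d₁₁, sq0, h1, kp₁, hsj, hqc, hqs⟩ :=
    P.exists_baseChange d.a pr₁ v₁ sqv₁ hV₁
  have h1' : d₁₁ ≫ pr₂ = d₀₁ ≫ pr₂ := by
    apply (yon S).map_injective
    rw [Functor.map_comp, Functor.map_comp, ← hv2, ← Category.assoc, ← Category.assoc, kp₁.w]
  -- the concrete base change data
  have sqN₁y := isPullback_yon sqN₁
  obtain ⟨f'₁, hf'1, hf'2⟩ : ∃ f'₁ : d.YC ⟶ (yon S).obj N₁, f'₁ ≫ (yon S).map b₁ = d.a ≫ f' ∧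
      f'₁ ≫ (yon S).map ν₁ = d.fC :=
    ⟨sqN₁y.lift (d.a ≫ f') d.fC (by rw [Category.assoc, hfac, d.sq1.w]), sqN₁y.lift_fst _ _ _,
      sqN₁y.lift_snd _ _ _⟩
  let d' : BC f ((yon S).map ν) f' ((yon S).map e) :=
    { YC := d.YC, NC := (yon S).obj N₁, a := d.a, fC := d.fC, sq1 := d.sq1,
      b := (yon S).map b₁, νC := (yon S).map ν₁, sq2 := sqN₁y, f'C := f'₁, c1 := hf'2,
      c2 := hf'1 }
  refine BC.isRelNormalization_congr d' d ?_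
  change IsRelNormalization d.fC ((yon S).map ν₁) f'₁
  -- the characterization
  have hd : P.d₁.left ≫ c.left ≫ ν.left = P.d₀.left ≫ c.left ≫ ν.left := by
    have : P.d₁ ≫ c ≫ ν = P.d₀ ≫ c ≫ ν := by
      apply (yon S).map_injective
      rw [(yon S).map_comp P.d₁, (yon S).map_comp P.d₀, hgV, ← Category.assoc, ← Category.assoc,
        P.d₀_v]
    exact congrArg (fun m => m.left) this
  have key := char_baseChange_smooth e.left ν.left c.left P.d₀.left P.d₁.left hd pr₁.left pr₂.left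
    (isPullback_left sqV₁) b₁.left ν₁.left (isPullback_left sqN₁) q.left d₀₁.left d₁₁.left
    (isPullback_left sq0) (congrArg (fun m => m.left) h1) (congrArg (fun m => m.left) h1')
    c₁.left (congrArg (fun m => m.left) hc1) (congrArg (fun m => m.left) hc2) hinj hsurj
  have hc₁ : (yon S).map c₁ = v₁ ≫ f'₁ := by
    apply sqN₁y.hom_ext
    · rw [← Functor.map_comp, hc1, Functor.map_comp, hc, Category.assoc, hf'1, ← Category.assoc,
        ← Category.assoc, hv1]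
    · rw [← Functor.map_comp, hc2, Category.assoc, hf'2, hv2]
  refine isRelNormalization_of_char hW₁ hN₁
    (⟨V₁, V₂₁, v₁, d₀₁, d₁₁, kp₁, hsj, hV₁, hqc, hqs⟩ : Pres d.YC) d.fC ν₁ hν₁ f'₁ hf'2 c₁ hc₁
    key.1 ?_
  intro b hb hbi
  refine key.2 b hb ?_
  have : (c₁ ≫ ν₁).left = pr₂.left := congrArg (fun m => m.left) hc2
  rw [this] at hbi
  exact hbi

end Groth.Agent.H7.NAS
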