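import Groth.Agent.Lib.Helper7.NASE1
import Groth.Agent.Lib.Helper7.NAS13
import Mathlib

/-!
# Normalization commutes with smooth base change: S10612
-/

set_option autoImplicit false

universe u

open CategoryTheory CategoryTheory.Limits AlgebraicGeometry Opposite

namespace Groth.Agent.H7.NAS

open _root_.AlgSp Groth.Agent.H5.AlgSp

variable {S : Scheme.{u}}

/-- Smooth base change of a normalization between affine bases. -/
theorem isRelNormalization_baseChange_affine_smooth {W W₁ : Over S} (hW : IsAffine W.left)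
    (hW₁ : IsAffine W₁.left) (e : W₁ ⟶ W) (he : Smooth e.left) {Y N : Sp S}
    (hY : IsAlgSpace Y) (hN : IsAlgSpace N) (f : Y ⟶ (yon S).obj W) (hqc : IsQuasiCompactMor f)
    (hqs : IsQuasiSeparatedMor f) (ν : N ⟶ (yon S).obj W) (f' : Y ⟶ N)
    (hn : IsRelNormalization f ν f') (d : BC f ν f' ((yon S).map e)) :
    IsRelNormalization d.fC d.νC d.f'C := by
  obtain ⟨P⟩ := exists_pres hW hY f hqc hqs
  obtain ⟨N₀, ν₀, f'₀, c, hN₀, hν₀, hfac, hc, hinj, hsurj⟩ := exists_char hW P f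
  have hn₀ := isRelNormalization_of_char hW hN₀ P f ν₀ hν₀ f'₀ hfac c hc hinj hsurj
  obtain ⟨i, hi1, hi2⟩ := IsRelNormalization.exists_iso hN (IsAlgSpace.yon_obj N₀) hn hn₀
  exact isRelNormalization_baseChange_of_char_smooth hW hW₁ e he hN₀ P f ν₀ hν₀ f'₀ hfac c hc hinj
    hsurj (d.ofIso i hi1 hi2)

/-- The charts of the source of a smooth morphism adapted to it: affine étale charts lying over
affine étale charts of the target through a smooth morphism of schemes. -/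
def smMem {X₂ X : Sp S} (φ : X₂ ⟶ X) (W₂ : Over S) (w₂ : (yon S).obj W₂ ⟶ X₂) : Prop :=
  IsAffine W₂.left ∧ RepWith @Etale w₂ ∧
    ∃ (W₁ : Over S) (w₁ : (yon S).obj W₁ ⟶ X) (s : W₂ ⟶ W₁),
      IsAffine W₁.left ∧ RepWith @Etale w₁ ∧ Smooth s.left ∧ w₂ ≫ φ = (yon S).map s ≫ w₁

/-- The restriction of a smooth morphism over `S` between opens is smooth. -/
lemma smooth_of_overOpen_lift {R U : Over S} (g : R ⟶ U) (hg : Smooth g.left) (V₂ : R.left.Opens)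
    (V₁ : U.left.Opens) (s : overOpen R V₂ ⟶ overOpen U V₁)
    (hs : s ≫ overOpenι U V₁ = overOpenι R V₂ ≫ g) : Smooth s.left := by
  have : Smooth g.left := hg
  have h1 : s.left ≫ V₁.ι = V₂.ι ≫ g.left := congrArg (fun m => m.left) hs
  have hle : V₂ ≤ g.left ⁻¹ᵁ V₁ := by
    intro x hx
    have := congrArg (fun m => m.base ⟨x, hx⟩) h1
    simp only [Scheme.Hom.comp_base, TopCat.comp_app] at this
    change g.left.base x ∈ V₁
    have h2 : (V₂.ι.base ⟨x, hx⟩ : R.left) = x := rfl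
    rw [h2] at this
    rw [← this]
    exact (s.left.base ⟨x, hx⟩).2
  have h2 : s.left = g.left.resLE V₁ V₂ hle := by
    rw [← cancel_mono V₁.ι, h1, Scheme.Hom.resLE_comp_ι]
  rw [h2]
  infer_instance

theorem chartSieve_smMem_mem {X₂ X : Sp S} (hX₂ : IsAlgSpace X₂) (hX : IsAlgSpace X)
    (φ : X₂ ⟶ X) (hφ : LocP @Smooth φ) {T : Over S} (x : (yon S).obj T ⟶ X₂) :
    chartSieve (smMem φ) x ∈ J S T := by
  obtain ⟨U₂, p₂, hpe₂, hps₂⟩ := hX₂.atlas
  obtain ⟨U₁, p₁, hpe₁, hps₁⟩ := hX.atlas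
  obtain ⟨R, pr₁, pr₂, sq⟩ : ∃ (R : Over S) (pr₁ : R ⟶ U₂) (pr₂ : R ⟶ U₁),
      IsPullback ((yon S).map pr₂) ((yon S).map pr₁) p₁ (p₂ ≫ φ) := by
    have hrep := hX.representable_from_yon p₁
    have sq := hrep.isPullback (p₂ ≫ φ)
    obtain ⟨pr₂, hpr₂⟩ := (yon S).map_surjective (hrep.fst (p₂ ≫ φ))
    rw [← hpr₂] at sq
    exact ⟨_, _, _, sq⟩
  have he1 : RepWith @Etale ((yon S).map pr₁) :=
    MorphismProperty.of_isPullback (P := RepWith @Etale) sq hpe₁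
  have hs1 : RepWith @Surjective ((yon S).map pr₁) :=
    MorphismProperty.of_isPullback (P := RepWith @Surjective) sq hps₁
  have he2 : RepWith @Etale ((yon S).map pr₁ ≫ p₂) := (RepWith @Etale).comp_mem _ _ he1 hpe₂
  have hsm : Smooth pr₂.left := hφ ((yon S).map pr₁ ≫ p₂) p₁ pr₂ he2 hpe₁
    (by rw [Category.assoc, sq.w])
  have := isLocallySurjective_of_etale_surjective p₂ hpe₂ hps₂
  have := isLocallySurjective_of_etale_surjective _ he1 hs1
  refine (J S).transitive (liftSieve_mem p₂ x) _ ?_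
  rintro T' a ⟨τ, hτ⟩
  refine (J S).transitive (liftSieve_mem ((yon S).map pr₁) τ) _ ?_
  rintro T'' a' ⟨τ', hτ'⟩
  obtain ⟨r, rfl⟩ := (yon S).map_surjective τ'
  choose V₁ hV₁aff hV₁mem using fun s : T''.left =>
    exists_isAffineOpen_mem U₁.left (pr₂.left (r.left s))
  choose V₂ hV₂aff hV₂mem hV₂le using fun s : T''.left =>
    exists_isAffineOpen_mem_and_subset (X := R.left) (x := r.left s) (U := pr₂.left ⁻¹ᵁ V₁ s)
      (hV₁mem s)
  apply mem_J_of_openCover (fun s : T''.left => r.left ⁻¹ᵁ V₂ s) (fun s => ⟨s, hV₂mem s⟩)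
  intro s
  obtain ⟨b₃, hb₃⟩ := exists_overOpen_lift (V₂ s) (overOpenι T'' (r.left ⁻¹ᵁ V₂ s) ≫ r)
    (fun t'' => t''.2)
  obtain ⟨s', hs'⟩ := exists_overOpen_lift (V₁ s) (overOpenι R (V₂ s) ≫ pr₂)
    (fun t'' => hV₂le s t''.2)
  refine ⟨overOpen R (V₂ s), (yon S).map (overOpenι R (V₂ s)) ≫ (yon S).map pr₁ ≫ p₂,
    ⟨isAffine_overOpen _ _ (hV₂aff s), repWith_etale_comp_yon _ ?_ he2,
      overOpen U₁ (V₁ s), (yon S).map (overOpenι U₁ (V₁ s)) ≫ p₁, s',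
      isAffine_overOpen _ _ (hV₁aff s), repWith_etale_comp_yon _ ?_ hpe₁,
      smooth_of_overOpen_lift pr₂ hsm _ _ s' hs', ?_⟩, b₃, ?_⟩
  · change Etale (V₂ s).ι
    infer_instance
  · change Etale (V₁ s).ι
    infer_instance
  · rw [← Category.assoc ((yon S).map s'), ← Functor.map_comp, hs', Functor.map_comp]
    simp only [Category.assoc]
    rw [sq.w]
  · rw [← Category.assoc, ← Functor.map_comp, hb₃, Functor.map_comp, Category.assoc,
      ← Category.assoc ((yon S).map r), hτ', Category.assoc, hτ]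
    simp only [Functor.map_comp, Category.assoc]

/-- The chart class of adapted charts. -/
def smClass {X₂ X : Sp S} (hX₂ : IsAlgSpace X₂) (hX : IsAlgSpace X) (φ : X₂ ⟶ X)
    (hφ : LocP @Smooth φ) : ChartClass X₂ :=
  ChartClass.ofRefine (smMem φ) (fun _ _ h => h.2.1)
    (fun W₂ w₂ h W' e hW' he => by
      obtain ⟨-, h2, W₁, w₁, s, h3, h4, h5, h6⟩ := h
      refine ⟨hW', repWith_etale_comp_yon e he h2, W₁, w₁, e ≫ s, h3, h4, ?_, ?_⟩
      · have : Etale e.left := he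
        have : Smooth s.left := h5
        change Smooth (e.left ≫ s.left)
        infer_instance
      · rw [Category.assoc, h6, Functor.map_comp, Category.assoc])
    (fun _ x => chartSieve_smMem_mem hX₂ hX φ hφ x)

/-- **Normalization commutes with smooth base change.** -/
theorem isRelNormalization_baseChange_smooth {Y X N : Sp S} (hX : IsAlgSpace X)
    (hY : IsAlgSpace Y) (hN : IsAlgSpace N) {f : Y ⟶ X} {ν : N ⟶ X} {f' : Y ⟶ N}
    (hqc : IsQuasiCompactMor f) (hqs : IsQuasiSeparatedMor f) (hn : IsRelNormalization f ν f')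
    {X₂ : Sp S} (hX₂ : IsAlgSpace X₂) {φ : X₂ ⟶ X} (hφ : LocP @Smooth φ) (d : BC f ν f' φ) :
    IsRelNormalization d.fC d.νC d.f'C := by
  have hst := stable_of_isRelNormalization f hX hY hqc hqs hN ν f' hn
  refine isRelNormalization_of_chartClass (smClass hX₂ hX φ hφ) d.c1
    (isIntegralMor_of_isPullback d.sq2 hst.2.1) (fun _ w => BC.std d.c1 w) ?_
  rintro W₂ w₂ ⟨hW₂, hw₂, W₁, w₁, s, hW₁, hw₁, hs, hcomm⟩
  -- the normalization over the chart `W₁`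
  obtain ⟨d₁, -⟩ : ∃ d₁ : BC f ν f' w₁, True := ⟨BC.std hst.1 w₁, trivial⟩
  have hn₁ : IsRelNormalization d₁.fC d₁.νC d₁.f'C := hst.2.2 W₁ hW₁ w₁ hw₁ d₁
  have hY₁ : IsAlgSpace d₁.YC := isAlgSpace_pullback hX.diag hY (IsAlgSpace.yon_obj W₁) d₁.sq1
  have hN₁ : IsAlgSpace d₁.NC := isAlgSpace_of_isIntegralMor (IsAlgSpace.yon_obj W₁) hn₁.2.1
  obtain ⟨d', -⟩ : ∃ d' : BC d₁.fC d₁.νC d₁.f'C ((yon S).map s), True :=
    ⟨BC.std d₁.c1 _, trivial⟩
  have hn' : IsRelNormalization d'.fC d'.νC d'.f'C :=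
    isRelNormalization_baseChange_affine_smooth hW₁ hW₂ s hs hY₁ hN₁ d₁.fC
      (isQuasiCompactMor_of_isPullback d₁.sq1 hqc) (repWith_diag_of_isPullback d₁.sq1 hqs)
      d₁.νC d₁.f'C hn₁ d'
  exact BC.isRelNormalization_congr' hcomm.symm (d₁.comp d') (d.comp (BC.std d.c1 w₂)) hn'

theorem S10612_main {X₁ X₂ Y₁ Y₂ X₁' P : AlgSp.Space S}
    (f₁ : Y₁ ⟶ X₁) (φ : X₂ ⟶ X₁) (f₂ : Y₂ ⟶ X₂) (ψ : Y₂ ⟶ Y₁)
    (hsq : IsPullback ψ.hom f₂.hom f₁.hom φ.hom)
    (hqc : AlgSp.IsQuasiCompactMor f₁.hom) (hqs : AlgSp.IsQuasiSeparatedMor f₁.hom)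
    (hφ : AlgSp.LocP @Smooth φ.hom)
    (ν₁ : X₁' ⟶ X₁) (f₁' : Y₁ ⟶ X₁') (hn : AlgSp.IsRelNormalization f₁.hom ν₁.hom f₁'.hom)
    (ν₂ : P ⟶ X₂) (ρ : P ⟶ X₁') (hP : IsPullback ρ.hom ν₂.hom ν₁.hom φ.hom)
    (f₂' : Y₂ ⟶ P) (w₁ : f₂' ≫ ν₂ = f₂) (w₂ : f₂' ≫ ρ = ψ ≫ f₁') :
    AlgSp.IsRelNormalization f₂.hom ν₂.hom f₂'.hom := by
  let d : BC f₁.hom ν₁.hom f₁'.hom φ.hom :=
    { YC := Y₂.obj, NC := P.obj, a := ψ.hom, fC := f₂.hom, sq1 := hsq, b := ρ.hom,
      νC := ν₂.hom, sq2 := hP, f'C := f₂'.hom,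
      c1 := congrArg (fun m => m.hom) w₁, c2 := congrArg (fun m => m.hom) w₂ }
  exact isRelNormalization_baseChange_smooth X₁.property Y₁.property X₁'.property hqc hqs hn
    X₂.property hφ d

end Groth.Agent.H7.NAS
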