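import Groth.Agent.Lib.Helper7.NASE2
import Groth.Agent.Lib.Helper7.FinCoprod
import Groth.Agent.Lib.Helper5.AlgSp.OpenSub
import Groth.Agent.Lib.Helper5.AlgSp.OpenSubspace
import Groth.Agent.Lib.Helper5.AlgSp.Coprod
import Groth.Agent.Lib.Helper3.AlgSpCov.LargestOpen
import Mathlib

/-!
# Open and closed decompositions of sheaves and the normalization
-/

set_option autoImplicit false

universe u

open CategoryTheory CategoryTheory.Limits AlgebraicGeometry Opposite

namespace Groth.Agent.H7.NAS

open _root_.AlgSp Groth.Agent.H5.AlgSp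

variable {S : Scheme.{u}}

/-- A scheme mapping to two complementary open subspaces is empty. -/
lemma isEmpty_of_openSub_compl {X : Sp S} (A : Set (Points X)) {T : Over S}
    (x : (yon S).obj T ⟶ openSub X A) (y : (yon S).obj T ⟶ openSub X Aᶜ)
    (h : x ≫ openSubι X A = y ≫ openSubι X Aᶜ) : IsEmpty T.left := by
  refine ⟨fun t => ?_⟩
  have h1 : Points.ofPt (x ≫ openSubι X A) t ∈ A :=
    (factors_openSubι_iff X A (x ≫ openSubι X A)).1 ⟨x, rfl⟩ t
  have h2 : Points.ofPt (y ≫ openSubι X Aᶜ) t ∈ Aᶜ :=
    (factors_openSubι_iff X Aᶜ (y ≫ openSubι X Aᶜ)).1 ⟨y, rfl⟩ t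
  rw [h] at h1
  exact h2 h1

/-- A sheaf is the coproduct of an open and closed subspace and its complement. -/
theorem isColimit_binaryCofan_of_clopen (X : Sp S) (A : Set (Points X)) (hAo : IsOpen A)
    (hAc : IsClosed A) :
    Nonempty (IsColimit (BinaryCofan.mk (openSubι X A) (openSubι X Aᶜ))) := by
  have hmA : Mono (openSubι X A) :=
    Groth.Agent.H3.AlgSpCov.mono_of_isOpenImmersion (repWith_openSubι hAo)
  have hmC : Mono (openSubι X Aᶜ) :=
    Groth.Agent.H3.AlgSpCov.mono_of_isOpenImmersion (repWith_openSubι hAc.isOpen_compl)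
  -- the covering family indexed by `Bool`
  let F : Bool → Sp S := fun b => if b then openSub X A else openSub X Aᶜ
  let a : ∀ b, F b ⟶ X := fun b => match b with
    | true => openSubι X A
    | false => openSubι X Aᶜ
  have hcov : ∀ (T : Over S) (x : (yon S).obj T ⟶ X), jointLiftSieve a x ∈ J S T := by
    intro T x
    apply mem_J_of_openCover
      (fun b : Bool => if b then preimageOpens hAo x else preimageOpens hAc.isOpen_compl x)
    · intro t
      by_cases ht : Points.ofPt x t ∈ A
      · exact ⟨true, ht⟩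
      · exact ⟨false, ht⟩
    · intro b
      cases b
      · obtain ⟨fst, hfst⟩ := exists_fst_openSub hAc.isOpen_compl x
        exact ⟨false, fst, hfst⟩
      · obtain ⟨fst, hfst⟩ := exists_fst_openSub hAo x
        exact ⟨true, fst, hfst⟩
  have key : ∀ {G : Sp S} (p : openSub X A ⟶ G) (q : openSub X Aᶜ ⟶ G),
      ∃! m : X ⟶ G, openSubι X A ≫ m = p ∧ openSubι X Aᶜ ≫ m = q := by
    intro G p q
    let g : ∀ b, F b ⟶ G := fun b => match b with
      | true => p
      | false => q
    obtain ⟨m, hm, hmu⟩ := existsUnique_hom_of_cover a hcov g (by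
      intro b b' T x y hxy
      cases b <;> cases b'
      · have : x = y := (cancel_mono (openSubι X Aᶜ)).1 hxy
        rw [this]
      · haveI := isEmpty_of_openSub_compl A y x hxy.symm
        exact hom_ext_of_isEmpty G T _ _
      · haveI := isEmpty_of_openSub_compl A x y hxy
        exact hom_ext_of_isEmpty G T _ _
      · have : x = y := (cancel_mono (openSubι X A)).1 hxy
        rw [this])
    refine ⟨m, ⟨hm true, hm false⟩, fun m' hm' => hmu m' ?_⟩
    intro b
    cases b
    · exact hm'.2
    · exact hm'.1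
  choose d hd hdu using @key
  exact ⟨BinaryCofan.IsColimit.mk _ (fun p q => d p q) (fun p q => (hd p q).1)
    (fun p q => (hd p q).2) (fun p q m h1 h2 => hdu p q m ⟨h1, h2⟩)⟩


/-- A binary coproduct of finite morphisms is finite. -/
theorem isFiniteMor_coprod_desc {V B' Y : Sp S} (hV : IsAlgSpace V) (hB' : IsAlgSpace B')
    (hY : IsAlgSpace Y) (a : V ⟶ Y) (b : B' ⟶ Y) (ha : IsFiniteMor a) (hb : IsFiniteMor b) :
    IsFiniteMor (coprod.desc a b) := by
  let Xs : Fin 2 → AlgSp.Space S := fun j => match j with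
    | 0 => ⟨V, hV⟩
    | 1 => ⟨B', hB'⟩
  let gs : ∀ j, Xs j ⟶ (⟨Y, hY⟩ : AlgSp.Space S) := fun j => match j with
    | 0 => ObjectProperty.homMk a
    | 1 => ObjectProperty.homMk b
  let c : Cofan fun j => (Xs j).obj := Cofan.mk (V ⨿ B') (fun j => match j with
    | 0 => coprod.inl
    | 1 => coprod.inr)
  have hc : IsColimit c := mkCofanColimit c (fun s => coprod.desc (s.inj 0) (s.inj 1))
    (by
      intro s j
      fin_cases j
      · exact coprod.inl_desc _ _
      · exact coprod.inr_desc _ _)
    (by
      intro s m hm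
      apply coprod.hom_ext
      · rw [coprod.inl_desc]
        exact hm 0
      · rw [coprod.inr_desc]
        exact hm 1)
  refine Groth.Agent.H7.FinCoprod.S10325_main Xs ⟨Y, hY⟩ gs ?_ c hc (coprod.desc a b) ?_
  · intro j
    fin_cases j
    · exact ha
    · exact hb
  · intro j
    fin_cases j
    · exact coprod.inl_desc _ _
    · exact coprod.inr_desc _ _

end Groth.Agent.H7.NAS
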