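import Groth.Agent.Lib.Helper7.NASF1
import Groth.Agent.Lib.Helper5.AlgSp.IntegralMor
import Mathlib

/-!
# A finite open and closed part of the source embeds in the normalization
-/

set_option autoImplicit false

universe u

open CategoryTheory CategoryTheory.Limits AlgebraicGeometry Opposite

namespace Groth.Agent.H7.NAS

open _root_.AlgSp Groth.Agent.H5.AlgSp

variable {S : Scheme.{u}}

lemma isFiniteMor_id (B : Sp S) : IsFiniteMor (𝟙 B) := by
  rw [isFiniteMor_iff_repWith]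
  exact (RepWith @IsFinite).id_mem B

/-- **An open and closed part of the source which is finite over the base is an open and closed
part of the normalization.** -/
theorem isOpenImmersion_of_clopen_finite {B X N : Sp S} (hB : IsAlgSpace B) (hX : IsAlgSpace X)
    (g : X ⟶ B) (ν : N ⟶ B) (f' : X ⟶ N) (hn : IsRelNormalization g ν f')
    (A : Set (Points X)) (hAo : IsOpen A) (hAc : IsClosed A)
    (hfin : IsFiniteMor (openSubι X A ≫ g)) :
    RepWith @IsOpenImmersion (openSubι X A ≫ f') ∧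
      IsPullback (openSubι X A) (𝟙 _) f' (openSubι X A ≫ f') := by
  obtain ⟨hcX⟩ := isColimit_binaryCofan_of_clopen X A hAo hAc
  have hV : IsAlgSpace (openSub X A) := isAlgSpace_openSub hX hAo
  obtain ⟨i, hi⟩ : ∃ i : openSub X A ⟶ X, i = openSubι X A := ⟨_, rfl⟩
  obtain ⟨r, hr⟩ : ∃ r : openSub X Aᶜ ⟶ X, r = openSubι X Aᶜ := ⟨_, rfl⟩
  rw [← hi] at hfin ⊢
  rw [← hi, ← hr] at hcX
  -- the target `Z = V ⨿ B`
  have hπ : IsFiniteMor (coprod.desc (i ≫ g) (𝟙 B)) :=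
    isFiniteMor_coprod_desc hV hB hB _ _ hfin (isFiniteMor_id B)
  have hπi : IsIntegralMor (coprod.desc (i ≫ g) (𝟙 B)) := isIntegralMor_of_isFiniteMor hπ
  have hZ : IsAlgSpace (openSub X A ⨿ B) := isAlgSpace_of_isIntegralMor hB hπi
  obtain ⟨G, hG1, hG2⟩ : ∃ G : X ⟶ openSub X A ⨿ B, i ≫ G = coprod.inl ∧
      r ≫ G = r ≫ g ≫ coprod.inr :=
    ⟨hcX.desc (BinaryCofan.mk coprod.inl (r ≫ g ≫ coprod.inr)),
      hcX.fac _ ⟨WalkingPair.left⟩, hcX.fac _ ⟨WalkingPair.right⟩⟩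
  have hGπ : G ≫ coprod.desc (i ≫ g) (𝟙 B) = g := by
    apply BinaryCofan.IsColimit.hom_ext hcX
    · change i ≫ G ≫ _ = i ≫ g
      rw [← Category.assoc, hG1, coprod.inl_desc]
    · change r ≫ G ≫ _ = r ≫ g
      rw [← Category.assoc, hG2, Category.assoc, Category.assoc, coprod.inr_desc,
        Category.comp_id]
  obtain ⟨h, ⟨hh1, hh2⟩, -⟩ := hn.2.2 hZ _ G hπi hGπ
  -- van Kampen
  have hVK : ∀ (X' Y' : Sp S) (c' : BinaryCofan X' Y') (αX : X' ⟶ openSub X A) (αY : Y' ⟶ B)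
      (f : c'.pt ⟶ openSub X A ⨿ B), αX ≫ coprod.inl = c'.inl ≫ f →
      αY ≫ coprod.inr = c'.inr ≫ f →
      (Nonempty (IsColimit c') ↔
        IsPullback c'.inl αX f coprod.inl ∧ IsPullback c'.inr αY f coprod.inr) :=
    fun X' Y' c' αX αY f h1 h2 => (BinaryCofan.isVanKampen_iff _).1
      (FinitaryExtensive.vanKampen _ (coprodIsCoprod (openSub X A) B)) c' αX αY f h1 h2
  have hXpb := (hVK _ _ (BinaryCofan.mk i r) (𝟙 _) (r ≫ g) G
    (by rw [Category.id_comp]; exact hG1.symm) (by rw [Category.assoc]; exact hG2.symm)).1 ⟨hcX⟩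
  have hX1 : IsPullback i (𝟙 _) G coprod.inl := hXpb.1
  -- the decomposition of `N`
  have sqV := IsPullback.of_hasPullback h (coprod.inl : openSub X A ⟶ openSub X A ⨿ B)
  have sqB := IsPullback.of_hasPullback h (coprod.inr : B ⟶ openSub X A ⨿ B)
  obtain ⟨NV, nV, pV, sqV⟩ : ∃ (NV : Sp S) (nV : NV ⟶ N) (pV : NV ⟶ openSub X A),
      IsPullback nV pV h coprod.inl := ⟨_, _, _, sqV⟩
  obtain ⟨NB, nB, pB, sqB⟩ : ∃ (NB : Sp S) (nB : NB ⟶ N) (pB : NB ⟶ B),
      IsPullback nB pB h coprod.inr := ⟨_, _, _, sqB⟩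
  obtain ⟨hcN⟩ := (hVK _ _ (BinaryCofan.mk nV nB) pV pB h sqV.w.symm sqB.w.symm).2 ⟨sqV, sqB⟩
  -- the lifts of `V` and `R`
  obtain ⟨s, hs1, hs2⟩ : ∃ s : openSub X A ⟶ NV, s ≫ nV = i ≫ f' ∧ s ≫ pV = 𝟙 _ :=
    ⟨sqV.lift (i ≫ f') (𝟙 _) (by rw [Category.assoc, hh1, hG1, Category.id_comp]),
      sqV.lift_fst _ _ _, sqV.lift_snd _ _ _⟩
  obtain ⟨t, ht1, -⟩ : ∃ t : openSub X Aᶜ ⟶ NB, t ≫ nB = r ≫ f' ∧ t ≫ pB = r ≫ g :=
    ⟨sqB.lift (r ≫ f') (r ≫ g) (by rw [Category.assoc, hh1, hG2, Category.assoc]),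
      sqB.lift_fst _ _ _, sqB.lift_snd _ _ _⟩
  -- `nV ≫ ν = pV ≫ i ≫ g`
  have hνV : nV ≫ ν = pV ≫ i ≫ g := by
    rw [← hh2, ← Category.assoc, sqV.w, Category.assoc, coprod.inl_desc]
  -- the endomorphism
  obtain ⟨φ, hφ1, hφ2⟩ : ∃ φ : N ⟶ N, nV ≫ φ = pV ≫ i ≫ f' ∧ nB ≫ φ = nB :=
    ⟨hcN.desc (BinaryCofan.mk (pV ≫ i ≫ f') nB), hcN.fac _ ⟨WalkingPair.left⟩,
      hcN.fac _ ⟨WalkingPair.right⟩⟩
  have hφf : f' ≫ φ = f' := by
    apply BinaryCofan.IsColimit.hom_ext hcX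
    · change i ≫ f' ≫ φ = i ≫ f'
      rw [← Category.assoc, ← hs1, Category.assoc, hφ1, ← Category.assoc, hs2, Category.id_comp]
      exact hs1.symm
    · change r ≫ f' ≫ φ = r ≫ f'
      rw [← Category.assoc, ← ht1, Category.assoc, hφ2]
  have hφν : φ ≫ ν = ν := by
    apply BinaryCofan.IsColimit.hom_ext hcN
    · change nV ≫ φ ≫ ν = nV ≫ ν
      rw [← Category.assoc, hφ1, Category.assoc, Category.assoc, hn.1, hνV]
    · change nB ≫ φ ≫ ν = nB ≫ ν
      rw [← Category.assoc, hφ2]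
  have hφid : φ = 𝟙 N := by
    obtain ⟨k, -, hku⟩ := hn.2.2 (isAlgSpace_of_isIntegralMor hB hn.2.1) ν f' hn.2.1 hn.1
    rw [hku φ ⟨hφf, hφν⟩, hku (𝟙 N) ⟨Category.comp_id _, Category.id_comp _⟩]
  -- `nV` is an open immersion, `s` is an isomorphism
  have hnVo : RepWith @IsOpenImmersion nV := by
    have hinl : RepWith (@IsOpenImmersion ⊓ @IsClosedImmersion)
        (coprod.inl : openSub X A ⟶ openSub X A ⨿ B) :=
      repWith_clopen_cofan_inj (c := (BinaryCofan.mk coprod.inl coprod.inr :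
        BinaryCofan (openSub X A) B)) (coprodIsCoprod (openSub X A) B) WalkingPair.left
    exact MorphismProperty.of_isPullback (P := RepWith @IsOpenImmersion) sqV.flip
      (repWith_mono inf_le_left hinl)
  have hnVm : Mono nV := Groth.Agent.H3.AlgSpCov.mono_of_isOpenImmersion hnVo
  have hps : pV ≫ s = 𝟙 _ := by
    rw [← cancel_mono nV, Category.assoc, hs1, Category.id_comp, ← hφ1, hφid, Category.comp_id]
  have hsiso : IsIso s := ⟨pV, hs2, hps⟩
  refine ⟨?_, ?_⟩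
  · rw [← hs1]
    exact (MorphismProperty.cancel_left_of_respectsIso (RepWith @IsOpenImmersion) s nV).2 hnVo
  · -- the pullback square
    have h1 : IsPullback i s f' nV := by
      have hs : IsPullback i (s ≫ pV) (f' ≫ h) coprod.inl := by
        rw [hs2, hh1]
        exact hX1
      exact IsPullback.of_bot hs hs1.symm sqV
    have h2 : IsPullback (𝟙 (openSub X A)) (𝟙 _) s s := IsPullback.of_horiz_isIso ⟨rfl⟩
    have h3 := h2.paste_vert h1.flip
    -- h3 : IsPullback (𝟙) (𝟙 ≫ i) (s ≫ nV) f'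
    rw [Category.id_comp, hs1] at h3
    exact h3.flip

end Groth.Agent.H7.NAS
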