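import Mathlib
import Groth.Prelude.Def_AlgSp4
import Groth.Prelude.Def_AlgSpInf
import Groth.Agent.Lib.Helper7.Thick
import Groth.Agent.Lib.Helper5.AlgSp.OpenSub
import Groth.Agent.Lib.Helper5.AlgSp.OpenSubspace
import Groth.Agent.Lib.Helper5.AlgSp.LocalRep
import Groth.Agent.Lib.Helper5.AlgSp.ImmersionTop

set_option autoImplicit false
universe u
open CategoryTheory CategoryTheory.Limits AlgebraicGeometry Opposite Topology

namespace Groth.Agent.H7.ThickOpen

open _root_.AlgSp Groth.Agent.H5.AlgSp Groth.Agent.H7.Thick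

variable {S : Scheme.{u}}

/-- Two open subspaces with the same points are isomorphic. -/
lemma exists_iso_of_range_eq {F A B : Sp S} (a : A ⟶ F) (b : B ⟶ F)
    (ha : RepWith @IsOpenImmersion a) (hb : RepWith @IsOpenImmersion b)
    (h : Set.range (Points.map a) = Set.range (Points.map b)) :
    ∃ (r : A ⟶ B) (s : B ⟶ A), r ≫ b = a ∧ s ≫ a = b ∧ r ≫ s = 𝟙 _ ∧ s ≫ r = 𝟙 _ := by
  have hma : Mono a := mono_of_repWith LocalRep.isOpenImmersion_le_mono ha
  have hmb : Mono b := mono_of_repWith LocalRep.isOpenImmersion_le_mono hb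
  obtain ⟨r, hr⟩ := (factors_through_open_iff b hb a).2 h.le
  obtain ⟨s, hs⟩ := (factors_through_open_iff a ha b).2 h.ge
  refine ⟨r, s, hr, hs, ?_, ?_⟩
  · rw [← cancel_mono a, Category.assoc, hs, hr, Category.id_comp]
  · rw [← cancel_mono b, Category.assoc, hr, hs, Category.id_comp]

lemma isOpenImmersion_le_etale :
    (@IsOpenImmersion : MorphismProperty Scheme.{u}) ≤ @Etale := fun _ _ f hf => by
  have : IsOpenImmersion f := hf
  exact (inferInstance : Etale f)

theorem isOpenMap_points_map_of_isThickMor {F G : Sp S} {t : F ⟶ G} (ht : IsThickMor t) :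
    IsOpenMap (Points.map t) :=
  isOpenMap_points_map_of_repWith (P := thick) (fun φ hφ => by
      have h1 : IsClosedImmersion φ := hφ.1
      have h2 : Surjective φ := hφ.2
      exact (φ.isClosedEmbedding.toIsEmbedding.toHomeomorphOfSurjective h2.surj).isOpenMap) ht

/-- The range on points of a pulled back open subspace. -/
lemma range_of_isPullback {X X' U U₁ : Sp S} {i : X ⟶ X'} {u : U ⟶ X} {u₁ : U₁ ⟶ X'}
    {k₁ : U ⟶ U₁} (hi : IsThickMor i) (sq : IsPullback u k₁ i u₁) :
    Set.range (Points.map u₁) = Points.map i '' Set.range (Points.map u) := by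
  ext y
  constructor
  · rintro ⟨z, rfl⟩
    obtain ⟨x, hx⟩ := isSurjectiveMor_of_isThickMor hi (Points.map u₁ z)
    obtain ⟨w, hw1, -⟩ := points_pullback_surjective sq x z hx
    exact ⟨x, ⟨w, hw1⟩, hx⟩
  · rintro ⟨_, ⟨w, rfl⟩, rfl⟩
    refine ⟨Points.map k₁ w, ?_⟩
    rw [← Points.map_comp, ← sq.w, Points.map_comp]

theorem S10583_main {X X' U : AlgSp.Space S} (i : X ⟶ X')
    (hi : AlgSp.IsThickMor i.hom)
    (u : U ⟶ X) (hu : AlgSp.RepWith @IsOpenImmersion u.hom) :
    (∃ (U' : AlgSp.Space S) (u' : U' ⟶ X') (k : U ⟶ U'),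
      AlgSp.RepWith @IsOpenImmersion u'.hom ∧ IsPullback u.hom k.hom i.hom u'.hom) ∧
    (∀ (U₁ U₂ : AlgSp.Space S) (u₁ : U₁ ⟶ X') (u₂ : U₂ ⟶ X') (k₁ : U ⟶ U₁) (k₂ : U ⟶ U₂),
      AlgSp.RepWith @IsOpenImmersion u₁.hom → IsPullback u.hom k₁.hom i.hom u₁.hom →
      AlgSp.RepWith @IsOpenImmersion u₂.hom → IsPullback u.hom k₂.hom i.hom u₂.hom →
      ∃ e : U₁ ≅ U₂, e.hom ≫ u₂ = u₁) := by
  have hmi : Mono i.hom := mono_of_isThickMor hi
  have hmu : Mono u.hom := mono_of_repWith LocalRep.isOpenImmersion_le_mono hu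
  constructor
  · -- the open subspace on the image of `|U|`
    have hUo : IsOpen (Set.range (Points.map u.hom)) :=
      (isOpenMap_points_map_of_etale (repWith_mono isOpenImmersion_le_etale hu)).isOpen_range
    have hW : IsOpen (Points.map i.hom '' Set.range (Points.map u.hom)) :=
      isOpenMap_points_map_of_isThickMor hi _ hUo
    obtain ⟨W, hWdef⟩ : ∃ W : Set (Points X'.obj),
        W = Points.map i.hom '' Set.range (Points.map u.hom) := ⟨_, rfl⟩
    rw [← hWdef] at hW
    have hu' : RepWith @IsOpenImmersion (openSubι X'.obj W) := repWith_openSubι hW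
    have hmu' : Mono (openSubι X'.obj W) :=
      mono_of_repWith LocalRep.isOpenImmersion_le_mono hu'
    obtain ⟨k, hk⟩ := (factors_through_open_iff (openSubι X'.obj W) hu' (u.hom ≫ i.hom)).2 (by
      rw [range_points_map_openSubι, hWdef]
      rintro _ ⟨z, rfl⟩
      exact ⟨Points.map u.hom z, ⟨z, rfl⟩, (Points.map_comp _ _ z).symm⟩)
    refine ⟨⟨openSub X'.obj W, isAlgSpace_openSub X'.property hW⟩,
      ObjectProperty.homMk (openSubι X'.obj W), ObjectProperty.homMk k, hu', ?_⟩
    change IsPullback u.hom k i.hom (openSubι X'.obj W)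
    -- the inverse of the comparison map
    obtain ⟨r, hr⟩ := (factors_through_open_iff u.hom hu
      (pullback.fst i.hom (openSubι X'.obj W))).2 (by
        rintro _ ⟨z, rfl⟩
        have h1 : Points.map i.hom (Points.map (pullback.fst i.hom (openSubι X'.obj W)) z) ∈ W := by
          rw [← Points.map_comp, pullback.condition, Points.map_comp]
          exact (Set.ext_iff.1 (range_points_map_openSubι (F := X'.obj) W) _).1 ⟨_, rfl⟩
        obtain ⟨x, hx, hxe⟩ := (Set.ext_iff.1 hWdef _).1 h1
        have := points_map_injective_of_mono i.hom hxe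
        rw [← this]
        exact hx)
    have hrk : r ≫ k = pullback.snd i.hom (openSubι X'.obj W) := by
      rw [← cancel_mono (openSubι X'.obj W), Category.assoc, hk, ← Category.assoc, hr,
        pullback.condition]
    let e : U.obj ≅ pullback i.hom (openSubι X'.obj W) :=
      { hom := pullback.lift u.hom k hk.symm
        inv := r
        hom_inv_id := by
          rw [← cancel_mono u.hom, Category.assoc, hr, pullback.lift_fst, Category.id_comp]
        inv_hom_id := by
          apply pullback.hom_ext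
          · rw [Category.assoc, pullback.lift_fst, hr, Category.id_comp]
          · rw [Category.assoc, pullback.lift_snd, hrk, Category.id_comp] }
    exact IsPullback.of_iso_pullback ⟨hk.symm⟩ e (pullback.lift_fst _ _ _) (pullback.lift_snd _ _ _)
  · intro U₁ U₂ u₁ u₂ k₁ k₂ hu₁ sq₁ hu₂ sq₂
    have hr : Set.range (Points.map u₁.hom) = Set.range (Points.map u₂.hom) := by
      rw [range_of_isPullback hi sq₁, range_of_isPullback hi sq₂]
    obtain ⟨r, s, h1, h2, h3, h4⟩ := exists_iso_of_range_eq u₁.hom u₂.hom hu₁ hu₂ hr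
    refine ⟨⟨ObjectProperty.homMk r, ObjectProperty.homMk s, ObjectProperty.hom_ext _ h3,
      ObjectProperty.hom_ext _ h4⟩, ObjectProperty.hom_ext _ h1⟩

end Groth.Agent.H7.ThickOpen
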