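import Groth.Agent.Lib.Helper7.NASF2
import Groth.Agent.Lib.Helper7.QFin17
import Groth.Agent.Lib.Helper7.ThickOpen
import Groth.Agent.Lib.Helper5.AlgSp.RedInduced
import Mathlib

/-!
# The étale local structure at a quasi-finite point, over an affine chart
-/

set_option autoImplicit false

universe u

open CategoryTheory CategoryTheory.Limits AlgebraicGeometry Opposite

namespace Groth.Agent.H7.NAS

open _root_.AlgSp Groth.Agent.H5.AlgSp Groth.Agent.H7.QFinSp

variable {S : Scheme.{u}}

lemma isOpenImmersion_le_etale' :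
    (@IsOpenImmersion : MorphismProperty Scheme.{u}) ≤ @Etale :=
  fun _ _ g (_ : IsOpenImmersion g) => (inferInstance : Etale g)

lemma isIso_le_etale :
    (MorphismProperty.isomorphisms Scheme.{u}) ≤ @Etale :=
  fun _ _ g (_ : IsIso g) => (inferInstance : Etale g)

/-- The points of an open part of a base change to an affine étale chart which is finite over the
chart are quasi-finite points. -/
theorem mem_qfSet_of_finite_open {X Y XW : Sp S} (f : X ⟶ Y) {W : Over S} (hW : IsAffine W.left)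
    (w : (yon S).obj W ⟶ Y) (hw : RepWith @Etale w) (a : XW ⟶ X) (fW : XW ⟶ (yon S).obj W)
    (sq : IsPullback a fW f w) {V : Sp S} (j : V ⟶ XW) (hj : RepWith @IsOpenImmersion j)
    (hfin : IsFiniteMor (j ≫ fW)) (v : Points V) : Points.map (j ≫ a) v ∈ qfSet f := by
  obtain ⟨V₀, i₀, fst, sqV, hV₀, hi₀⟩ := hfin hW (𝟙 _)
  have hiso : IsIso fst := sqV.isIso_fst_of_isIso
  have hae : RepWith @Etale a := MorphismProperty.of_isPullback (P := RepWith @Etale) sq.flip hw
  have hfe : RepWith @Etale fst := by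
    have : fst = (asIso fst).hom := rfl
    rw [this]
    exact (RepWith @Etale).of_isIso _
  have hche : RepWith @Etale (fst ≫ j ≫ a) :=
    (RepWith @Etale).comp_mem _ _ hfe
      ((RepWith @Etale).comp_mem _ _ (repWith_mono isOpenImmersion_le_etale' hj) hae)
  have hcomm : (fst ≫ j ≫ a) ≫ f = (yon S).map i₀ ≫ w := by
    have := sqV.w
    rw [Category.comp_id] at this
    rw [Category.assoc, Category.assoc, sq.w, ← Category.assoc j, ← Category.assoc fst, this]
  -- the point
  obtain ⟨v₀, hv₀⟩ : ∃ v₀ : V₀.left, Points.ofPt fst v₀ = v := by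
    refine ⟨(Points.schemeEquiv V₀).symm (Points.map (inv fst) v), ?_⟩
    rw [Points.ofPt_eq_map_ofScheme]
    change Points.map fst (Points.schemeEquiv V₀ _) = v
    rw [Equiv.apply_symm_apply, ← Points.map_comp, IsIso.inv_hom_id, Points.map_id]
  refine ⟨V₀, W, fst ≫ j ≫ a, w, i₀, v₀, hche, hw, hcomm, ?_, ⊤, trivial, ?_⟩
  · rw [← hv₀, Points.map_ofPt]
  · have : IsFinite i₀.left := hi₀
    constructor
    · change LocallyQuasiFinite ((⊤ : V₀.left.Opens).ι ≫ i₀.left)
      infer_instance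
    · change LocallyOfFiniteType ((⊤ : V₀.left.Opens).ι ≫ i₀.left)
      infer_instance


/-- **The étale local structure at a quasi-finite point, over an affine chart**: some affine étale
chart of the target over which an open and closed part of the base change, through the point, is
finite. -/
theorem exists_clopen_finite_chart {X Y : Sp S} (hX : IsAlgSpace X) (hY : IsAlgSpace Y)
    (f : X ⟶ Y) (hlft : LocP @LocallyOfFiniteType f) (hsep : IsSeparatedMor f) (x : Points X)
    (hx : x ∈ qfSet f) :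
    ∃ (W : Over S) (w : (yon S).obj W ⟶ Y), IsAffine W.left ∧ RepWith @Etale w ∧
      ∀ (XW : Sp S) (a : XW ⟶ X) (fW : XW ⟶ (yon S).obj W), IsPullback a fW f w →
        ∃ A : Set (Points XW), IsOpen A ∧ IsClosed A ∧ IsFiniteMor (openSubι XW A ≫ fW) ∧
          ∃ z ∈ A, Points.map a z = x := by
  obtain ⟨U, a₀, u, hae, hau, H⟩ := S10677_main (X := ⟨X, hX⟩) (Y := ⟨Y, hY⟩)
    (ObjectProperty.homMk f) x hlft hsep hx
  -- an affine étale chart of `U` at `u`
  obtain ⟨U₀, p, hpe, hps⟩ := U.property.atlas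
  obtain ⟨u₀, hu₀⟩ := ofPt_surjective_of_repWith hps u
  obtain ⟨W₀, hW₀aff, hu₀W⟩ := exists_isAffineOpen_mem U₀.left u₀
  obtain ⟨ω, hωdef⟩ : ∃ ω : (yon S).obj (overOpen U₀ W₀) ⟶ U.obj,
      ω = (yon S).map (overOpenι U₀ W₀) ≫ p := ⟨_, rfl⟩
  have hω : RepWith @Etale ω := by
    rw [hωdef]
    exact repWith_etale_comp_yon _ (by
      change Etale W₀.ι
      infer_instance) hpe
  have huω : Points.map ω (Points.ofScheme (overOpen U₀ W₀) ⟨u₀, hu₀W⟩) = u := by
    rw [← Points.ofPt_eq_map_ofScheme, hωdef, ofPt_restrict]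
    exact hu₀
  refine ⟨overOpen U₀ W₀, ω ≫ a₀.hom, isAffine_overOpen _ _ hW₀aff, hae ω hω, ?_⟩
  intro XW a fW sq
  have sqP := IsPullback.of_hasPullback f a₀.hom
  have hP : IsAlgSpace (pullback f a₀.hom) := isAlgSpace_pullback hY.diag hX U.property sqP
  obtain ⟨V, jV, hjo, hjc, hjfin, v, hv1, hv2⟩ := H ⟨pullback f a₀.hom, hP⟩
    (ObjectProperty.homMk (pullback.fst f a₀.hom)) (ObjectProperty.homMk (pullback.snd f a₀.hom))
    sqP
  have hjfin' : IsFiniteMor (jV.hom ≫ pullback.snd f a₀.hom) := hjfin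
  have hv1' : Points.map (jV.hom ≫ pullback.fst f a₀.hom) v = x := hv1
  have hv2' : Points.map (jV.hom ≫ pullback.snd f a₀.hom) v = u := hv2
  -- the map to `P`
  obtain ⟨κ, hκ1, hκ2⟩ : ∃ κ : XW ⟶ pullback f a₀.hom, κ ≫ pullback.fst f a₀.hom = a ∧
      κ ≫ pullback.snd f a₀.hom = fW ≫ ω :=
    ⟨pullback.lift a (fW ≫ ω) (by rw [Category.assoc]; exact sq.w), pullback.lift_fst _ _ _,
      pullback.lift_snd _ _ _⟩
  have sqκ : IsPullback κ fW (pullback.snd f a₀.hom) ω := by
    have s : IsPullback (κ ≫ pullback.fst f a₀.hom) fW f (ω ≫ a₀.hom) := by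
      rw [hκ1]
      exact sq
    exact IsPullback.of_right s hκ2 sqP
  -- the base change of `V`
  have sqV := IsPullback.of_hasPullback jV.hom κ
  obtain ⟨VW, q, j', sqV⟩ : ∃ (VW : Sp S) (q : VW ⟶ V.obj) (j' : VW ⟶ XW),
      IsPullback q j' jV.hom κ := ⟨_, _, _, sqV⟩
  have hj'o : RepWith @IsOpenImmersion j' :=
    MorphismProperty.of_isPullback (P := RepWith @IsOpenImmersion) sqV hjo
  have hj'c : RepWith @IsClosedImmersion j' :=
    MorphismProperty.of_isPullback (P := RepWith @IsClosedImmersion) sqV hjc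
  have hXW : IsAlgSpace XW := isAlgSpace_pullback hY.diag hX (IsAlgSpace.yon_obj _) sq
  have hAo : IsOpen (Set.range (Points.map j')) :=
    Groth.Agent.H7.QFinSp.isOpen_range_points_map_of_openImm hj'o
  have hAc : IsClosed (Set.range (Points.map j')) :=
    isClosed_range_points_map_of_isClosedImmersion hXW j' hj'c
  have big : IsPullback q (j' ≫ fW) (jV.hom ≫ pullback.snd f a₀.hom) ω := sqV.paste_vert sqκ
  have hfin' : IsFiniteMor (j' ≫ fW) := by
    rw [isFiniteMor_iff_repWith] at hjfin' ⊢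
    exact MorphismProperty.of_isPullback (P := RepWith @IsFinite) big hjfin'
  obtain ⟨r, s, hr, hs, hrs, hsr⟩ := Groth.Agent.H7.ThickOpen.exists_iso_of_range_eq j'
    (openSubι XW (Set.range (Points.map j'))) hj'o (repWith_openSubι hAo)
    (range_points_map_openSubι _).symm
  refine ⟨Set.range (Points.map j'), hAo, hAc, ?_, ?_⟩
  · have hsiso : IsIso s := ⟨r, hsr, hrs⟩
    rw [← hs, Category.assoc, isFiniteMor_iff_repWith]
    rw [isFiniteMor_iff_repWith] at hfin'
    exact (MorphismProperty.cancel_left_of_respectsIso (RepWith @IsFinite) s _).2 hfin'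
  · obtain ⟨z', hz'1, -⟩ := points_pullback_surjective big v
      (Points.ofScheme (overOpen U₀ W₀) ⟨u₀, hu₀W⟩) (by rw [hv2', huω])
    refine ⟨Points.map j' z', ⟨z', rfl⟩, ?_⟩
    rw [← Points.map_comp, ← hκ1, ← Category.assoc, ← sqV.w, Category.assoc, Points.map_comp, hz'1]
    exact hv1'

end Groth.Agent.H7.NAS
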