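import Groth.Agent.Lib.Helper7.NASF3
import Groth.Agent.Lib.Helper7.NASD2
import Groth.Agent.Lib.Helper3.AlgSpCov.Covers
import Groth.Agent.Lib.Helper3.AlgSpCov.IsoBase
import Groth.Agent.Lib.Helper5.AlgSp.ImmersionTop
import Groth.Agent.Lib.Helper5.AlgSp.Cover
import Mathlib

/-!
# Zariski's main theorem for algebraic spaces, quasi-finite locus form: S10646
-/

set_option autoImplicit false

universe u

open CategoryTheory CategoryTheory.Limits AlgebraicGeometry Opposite

namespace Groth.Agent.H7.NAS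

open _root_.AlgSp Groth.Agent.H5.AlgSp Groth.Agent.H7.QFinSp

variable {S : Scheme.{u}}

/-- The chart at a quasi-finite point: an étale morphism `e : V ⟶ N` to the normalization whose
inverse image in the source is `V` itself, embedded in the quasi-finite locus. -/
theorem exists_chart_data {X Y N : Sp S} (hX : IsAlgSpace X) (hY : IsAlgSpace Y)
    (f : X ⟶ Y) (ν : N ⟶ Y) (f' : X ⟶ N) (hst : Stable f ν f')
    (hlft : LocP @LocallyOfFiniteType f) (hsep : IsSeparatedMor f) (x : Points X)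
    (hx : x ∈ qfSet f) :
    ∃ (V : Sp S) (α : V ⟶ X) (e : V ⟶ N), IsAlgSpace V ∧ RepWith @Etale e ∧
      IsPullback α (𝟙 V) f' e ∧ (∀ v : Points V, Points.map α v ∈ qfSet f) ∧
      x ∈ Set.range (Points.map α) := by
  obtain ⟨W, w, hW, hw, H⟩ := exists_clopen_finite_chart hX hY f hlft hsep x hx
  obtain ⟨d, -⟩ : ∃ d : BC f ν f' w, True := ⟨BC.std hst.1 w, trivial⟩
  obtain ⟨A, hAo, hAc, hfin, z, hzA, hzx⟩ := H d.YC d.a d.fC d.sq1
  have hnd : IsRelNormalization d.fC d.νC d.f'C := hst.2.2 W hW w hw d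
  have hYC : IsAlgSpace d.YC := isAlgSpace_pullback hY.diag hX (IsAlgSpace.yon_obj W) d.sq1
  obtain ⟨hko, hkpb⟩ := isOpenImmersion_of_clopen_finite (IsAlgSpace.yon_obj W) hYC d.fC d.νC
    d.f'C hnd A hAo hAc hfin
  have hbe : RepWith @Etale d.b :=
    MorphismProperty.of_isPullback (P := RepWith @Etale) d.sq2.flip hw
  refine ⟨openSub d.YC A, openSubι d.YC A ≫ d.a, (openSubι d.YC A ≫ d.f'C) ≫ d.b,
    isAlgSpace_openSub hYC hAo,
    (RepWith @Etale).comp_mem _ _ (repWith_mono isOpenImmersion_le_etale' hko) hbe,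
    hkpb.paste_horiz (d.sq3 hst.1), ?_, ?_⟩
  · intro v
    exact mem_qfSet_of_finite_open f hW w hw d.a d.fC d.sq1 (openSubι d.YC A)
      (repWith_openSubι hAo) hfin v
  · have : z ∈ Set.range (Points.map (openSubι d.YC A)) := by
      rw [range_points_map_openSubι]
      exact hzA
    obtain ⟨z', hz'⟩ := this
    exact ⟨z', by rw [Points.map_comp, hz', hzx]⟩

theorem S10646_main {X Y Y' : AlgSp.Space S} (f : X ⟶ Y) (ν : Y' ⟶ Y) (f' : X ⟶ Y')
    (hf1 : AlgSp.IsFiniteTypeMor f.hom) (hf2 : AlgSp.IsSeparatedMor f.hom)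
    (hn : AlgSp.IsRelNormalization f.hom ν.hom f'.hom) :
    ∃ (U' : AlgSp.Space S) (j : U' ⟶ Y'), AlgSp.RepWith @IsOpenImmersion j.hom ∧
      ∀ (P : AlgSp.Space S) (fst : P ⟶ X) (snd : P ⟶ U'),
        IsPullback fst.hom snd.hom f'.hom j.hom →
        IsIso snd.hom ∧
          Set.range (AlgSp.Points.map fst.hom) = {x | AlgSp.HasAtMor (fun U _ h u =>
            ∃ W : U.Opens, u ∈ W ∧ LocallyQuasiFinite (W.ι ≫ h) ∧
              LocallyOfFiniteType (W.ι ≫ h)) f.hom x} := by
  have hqs : IsQuasiSeparatedMor f.hom := repWith_mono closedImmersion_le_quasiCompact hf2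
  have hst := stable_of_isRelNormalization f.hom Y.property X.property hf1.2 hqs Y'.property
    ν.hom f'.hom hn
  obtain ⟨UX, pX, hpXe, hpXs⟩ := X.property.atlas
  have hpXsurj := ofPt_surjective_of_repWith hpXs
  -- the charts
  choose V α e hV hee hpb hαq hxα using fun i : {u₀ : UX.left // Points.ofPt pX u₀ ∈ qfSet f.hom} =>
    exists_chart_data X.property Y.property f.hom ν.hom f'.hom hst hf1.1 hf2 _ i.2
  have hαe : ∀ i v, Points.map (e i) v = Points.map f'.hom (Points.map (α i) v) := by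
    intro i v
    rw [← Points.map_comp, (hpb i).w, Category.id_comp]
  -- the open set
  obtain ⟨Ω, hΩ⟩ : ∃ Ω : Set (Points Y'.obj), Ω = Points.map f'.hom '' qfSet f.hom := ⟨_, rfl⟩
  have hUeq : Ω = ⋃ i, Set.range (Points.map (e i)) := by
    rw [hΩ]
    ext y
    constructor
    · rintro ⟨x, hx, rfl⟩
      obtain ⟨u₀, rfl⟩ := hpXsurj x
      obtain ⟨v, hv⟩ := hxα ⟨u₀, hx⟩
      refine Set.mem_iUnion.2 ⟨⟨u₀, hx⟩, v, ?_⟩
      rw [hαe, hv]
    · intro hy
      obtain ⟨i, v, rfl⟩ := Set.mem_iUnion.1 hy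
      exact ⟨Points.map (α i) v, hαq i v, (hαe i v).symm⟩
  have hUo : IsOpen Ω := by
    rw [hUeq]
    exact isOpen_iUnion fun i => (isOpenMap_points_map_of_etale (hee i)).isOpen_range
  have hjo : RepWith @IsOpenImmersion (openSubι Y'.obj Ω) :=
    repWith_openSubι hUo
  have hjm : Mono (openSubι Y'.obj Ω) :=
    Groth.Agent.H3.AlgSpCov.mono_of_isOpenImmersion hjo
  have hU' : IsAlgSpace (openSub Y'.obj Ω) :=
    isAlgSpace_openSub Y'.property hUo
  refine ⟨⟨_, hU'⟩, ObjectProperty.homMk (openSubι Y'.obj _), hjo, ?_⟩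
  intro P fst snd sq
  have sq' : IsPullback fst.hom snd.hom f'.hom
      (openSubι Y'.obj Ω) := sq
  refine ⟨?_, ?_⟩
  · -- the charts factor through the open subspace
    have hfac : ∀ i, ∃ et : V i ⟶ openSub Y'.obj Ω,
        et ≫ openSubι Y'.obj _ = e i := by
      intro i
      refine (factors_through_open_iff _ hjo (e i)).2 ?_
      rw [range_points_map_openSubι, hUeq]
      exact Set.subset_iUnion (fun i => Set.range (Points.map (e i))) i
    choose et het using hfac
    have hete : ∀ i, RepWith @Etale (et i) := by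
      intro i
      refine repWith_etale_of_comp (b := openSubι Y'.obj _) ?_
        (repWith_mono isOpenImmersion_le_etale' hjo)
      rw [het]
      exact hee i
    have hcov : IsFpqcCover V et := by
      refine Groth.Agent.H3.AlgSpCov.isFpqcCover_of_isFppfCover hU' V hV et
        ⟨fun i => ⟨locP_of_repWith etale_le_flat (repWith_mono etale_le_flat (hete i)),
          locP_of_repWith etale_le_lfp (repWith_mono etale_le_lfp (hete i))⟩, fun y => ?_⟩
      have hy : Points.map (openSubι Y'.obj Ω) y ∈ Ω := by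
        have : Points.map (openSubι Y'.obj Ω) y ∈
            Set.range (Points.map (openSubι Y'.obj Ω)) :=
          ⟨y, rfl⟩
        rwa [range_points_map_openSubι] at this
      obtain ⟨i, v, hv⟩ := Set.mem_iUnion.1 (hUeq.subset hy)
      refine ⟨i, v, ?_⟩
      apply points_map_injective_of_mono (openSubι Y'.obj Ω)
      rw [← Points.map_comp, het, hv]
    -- the pullback squares over the charts
    have hq : ∀ i, ∃ q : V i ⟶ P.obj, q ≫ fst.hom = α i ∧ q ≫ snd.hom = et i := by
      intro i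
      exact ⟨sq'.lift (α i) (et i) (by rw [het, (hpb i).w, Category.id_comp]),
        sq'.lift_fst _ _ _, sq'.lift_snd _ _ _⟩
    choose q hq1 hq2 using hq
    have hsqi : ∀ i, IsPullback (q i) (𝟙 (V i)) snd.hom (et i) := by
      intro i
      have s : IsPullback (q i ≫ fst.hom) (𝟙 (V i)) f'.hom
          (et i ≫ openSubι Y'.obj Ω) := by
        rw [hq1, het]
        exact hpb i
      exact IsPullback.of_right s (by rw [hq2, Category.id_comp]) sq'
    exact (Groth.Agent.H3.AlgSpCov.isLocalOnBase_fpqc_isomorphisms V et hU' hV hcov snd.hom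
      P.property V (fun i => 𝟙 (V i)) q hV hsqi).2 (fun i => (inferInstance : IsIso (𝟙 (V i))))
  · rw [range_points_map_fst sq', range_points_map_openSubι, hΩ]
    ext x
    constructor
    · rintro ⟨x₀, hx₀, hxx⟩
      obtain ⟨u₀, rfl⟩ := hpXsurj x₀
      obtain ⟨v, hv⟩ := hxα ⟨u₀, hx₀⟩
      obtain ⟨v', hv'1, -⟩ := points_pullback_surjective (hpb ⟨u₀, hx₀⟩) x v (by
        rw [← hxx, ← hv]
        exact (hαe _ v).symm)
      rw [← hv'1]
      exact hαq _ v'
    · intro hx
      exact ⟨x, hx, rfl⟩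

end Groth.Agent.H7.NAS
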