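import Mathlib
import Groth.Agent.Lib.Helper7.Neron2
import Groth.Prelude.Def_NonAbH2

open CategoryTheory Limits AlgebraicGeometry MonoidalCategory CartesianMonoidalCategory

namespace Groth.Agent.H7.Neron

universe v u

section general
variable {C : Type u} [Category.{v} C] [HasPullbacks C]

/-- A morphism between objects with the mapping property which is an isomorphism after restriction
is an isomorphism. -/
lemma isIso_of_nmpAt {S S₀ : C} (j : S₀ ⟶ S) {P Q : Over S} (φ : P ⟶ Q)
    (hPQ : NMPAt j P Q) (hPP : NMPAt j P P) (hQQ : NMPAt j Q Q)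
    (h0 : IsIso ((Over.pullback j).map φ)) : IsIso φ := by
  obtain ⟨ψ, hψ⟩ := hPQ.2 (inv ((Over.pullback j).map φ))
  dsimp only at hψ
  refine ⟨ψ, hPP.1 ?_, hQQ.1 ?_⟩
  · dsimp only
    rw [Functor.map_comp, hψ, IsIso.hom_inv_id, CategoryTheory.Functor.map_id]
  · dsimp only
    rw [Functor.map_comp, hψ, IsIso.inv_hom_id, CategoryTheory.Functor.map_id]

end general

section cart
variable {D : Type u} [Category.{v} D] [CartesianMonoidalCategory D]

lemma bijective_precomp_tensor {N M W Z : D} (p : W ⟶ Z)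
    (hN : Function.Bijective (fun g : Z ⟶ N => p ≫ g))
    (hM : Function.Bijective (fun g : Z ⟶ M => p ≫ g)) :
    Function.Bijective (fun g : Z ⟶ N ⊗ M => p ≫ g) := by
  constructor
  · intro g g' hgg'
    dsimp only at hgg'
    apply CartesianMonoidalCategory.hom_ext
    · exact hN.1 (by
        dsimp only
        rw [← Category.assoc, ← Category.assoc, hgg'])
    · exact hM.1 (by
        dsimp only
        rw [← Category.assoc, ← Category.assoc, hgg'])
  · intro h
    obtain ⟨a, ha⟩ := hN.2 (h ≫ fst N M)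
    obtain ⟨b, hb⟩ := hM.2 (h ≫ snd N M)
    dsimp only at ha hb
    refine ⟨lift a b, ?_⟩
    dsimp only
    apply CartesianMonoidalCategory.hom_ext
    · rw [Category.assoc, lift_fst, ha]
    · rw [Category.assoc, lift_snd, hb]

end cart

lemma nmpAt_tensor {S : Scheme.{u}} {S₀ : Scheme.{u}} (j : S₀ ⟶ S) (N M Z : Over S)
    (hN : NMPAt j N Z) (hM : NMPAt j M Z) : NMPAt j (N ⊗ M) Z := by
  rw [nmpAt_iff_counit] at hN hM ⊢
  exact bijective_precomp_tensor _ hN hM

instance smooth_tensor_hom {S : Scheme.{u}} (N M : Over S) [Smooth N.hom] [Smooth M.hom] :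
    Smooth (N ⊗ M).hom := by
  rw [Over.tensorObj_hom]
  infer_instance

theorem S13430_main {S : Scheme.{u}} (S₀ : S.Opens)
    (G : Over S) [GrpObj G] [Smooth G.hom]
    (hG : ∀ Z : Over S, Smooth Z.hom →
      Function.Bijective (fun g : Z ⟶ G => (Over.pullback S₀.ι).map g))
    (N : Over S) [Smooth N.hom]
    (hN : ∀ Z : Over S, Smooth Z.hom →
      Function.Bijective (fun g : Z ⟶ N => (Over.pullback S₀.ι).map g))
    (a : AlgGrp.Action G N)
    (h0 : IsIso ((Over.pullback S₀.ι).map (lift a.act (snd G N)))) :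
    NonAbH1.IsPseudoTorsorSch a := by
  have hGN : ∀ Z : Over S, Smooth Z.hom → NMPAt S₀.ι (G ⊗ N) Z := fun Z hZ =>
    nmpAt_tensor _ _ _ _ (hG Z hZ) (hN Z hZ)
  have hNN : ∀ Z : Over S, Smooth Z.hom → NMPAt S₀.ι (N ⊗ N) Z := fun Z hZ =>
    nmpAt_tensor _ _ _ _ (hN Z hZ) (hN Z hZ)
  exact isIso_of_nmpAt S₀.ι (lift a.act (snd G N)) (hGN _ inferInstance) (hGN _ inferInstance)
    (hNN _ inferInstance) h0

end Groth.Agent.H7.Neron
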