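import Mathlib
import Groth.Agent.Lib.Helper7.Neron3
import Groth.Prelude.Def_Neron

open CategoryTheory Limits AlgebraicGeometry

namespace Groth.Agent.H7.Neron

universe u

theorem exists_isPullback_genPt (R R' : Type u) [CommRing R] [IsDomain R] [CommRing R'] [IsDomain R']
    [Algebra R R'] [FaithfulSMul R R'] [Algebra.IsAlgebraic R R'] :
    ∃ t : Spec (CommRingCat.of (FractionRing R')) ⟶ Spec (CommRingCat.of (FractionRing R)),
      IsPullback t (_root_.Neron.genPt R') (_root_.Neron.genPt R)
        (Spec.map (CommRingCat.ofHom (algebraMap R R'))) := by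
  letI := FractionRing.liftAlgebra R (FractionRing R')
  haveI := FractionRing.isScalarTower_liftAlgebra R (FractionRing R')
  haveI : IsLocalization (Algebra.algebraMapSubmonoid R' (nonZeroDivisors R)) (FractionRing R') :=
    inferInstance
  haveI : Algebra.IsPushout R R' (FractionRing R) (FractionRing R') :=
    Algebra.isPushout_of_isLocalization (nonZeroDivisors R) _ _ _
  have := CommRingCat.isPushout_of_isPushout R R' (FractionRing R) (FractionRing R')
  exact ⟨_, (isPullback_SpecMap_of_isPushout _ _ _ _ this).flip⟩


lemma faithfulSMul_of_flat (R R' : Type u) [CommRing R] [IsDomain R] [CommRing R'] [Nontrivial R']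
    [Algebra R R'] [Module.Flat R R'] : FaithfulSMul R R' := by
  rw [faithfulSMul_iff_algebraMap_injective, injective_iff_map_eq_zero]
  intro r hr
  by_contra hne
  have hinj : Function.Injective (fun x : R => r * x) := mul_right_injective₀ hne
  have h2 : Function.Injective (fun x : R' => r • x) := by
    have := Module.Flat.lTensor_preserves_injective_linearMap (M := R')
      (LinearMap.mulLeft R r) hinj
    intro a b hab
    have h1 : (LinearMap.lTensor R' (LinearMap.mulLeft R r)) (a ⊗ₜ[R] (1 : R)) =
        (LinearMap.lTensor R' (LinearMap.mulLeft R r)) (b ⊗ₜ[R] (1 : R)) := by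
      simp only [LinearMap.lTensor_tmul, LinearMap.mulLeft_apply, mul_one]
      have : ∀ c : R', c ⊗ₜ[R] r = (r • c) ⊗ₜ[R] (1 : R) := fun c => by
        rw [TensorProduct.smul_tmul, smul_eq_mul, mul_one]
      rw [this a, this b]
      exact congrArg (fun x => x ⊗ₜ[R] (1 : R)) hab
    have h3 := this h1
    have h4 := congrArg (TensorProduct.rid R R') h3
    simpa using h4
  have : (r • (1 : R')) = r • (0 : R') := by
    rw [Algebra.smul_def, mul_one, hr, smul_zero]
  exact one_ne_zero (h2 this)

theorem S11103_main (R R' : Type u) [CommRing R] [IsDedekindDomain R]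
    [CommRing R'] [IsDedekindDomain R'] [Algebra R R'] [Module.Finite R R'] [Algebra.Etale R R']
    (N : Over (Spec (CommRingCat.of R)))
    (hN : _root_.Neron.IsNeronModelOf R N ((_root_.Neron.genericFibre R).obj N) (Iso.refl _)) :
    _root_.Neron.IsNeronModelOf R'
      ((Over.pullback (Spec.map (CommRingCat.ofHom (algebraMap R R')))).obj N)
      ((_root_.Neron.genericFibre R').obj
        ((Over.pullback (Spec.map (CommRingCat.ofHom (algebraMap R R')))).obj N))
      (Iso.refl _) := by
  obtain ⟨h1, h2, h3, h4, h5⟩ := hN
  haveI := h1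
  haveI := h2
  haveI := h3
  haveI := h4
  haveI : FaithfulSMul R R' := faithfulSMul_of_flat R R'
  haveI : Algebra.IsAlgebraic R R' := Algebra.IsIntegral.isAlgebraic
  obtain ⟨t, ht⟩ := exists_isPullback_genPt R R'
  haveI hg : Etale (Spec.map (CommRingCat.ofHom (algebraMap R R'))) := by
    rw [HasRingHomProperty.Spec_iff (P := @Etale)]
    exact RingHom.etale_algebraMap.mpr inferInstance
  refine ⟨?_, ?_, ?_, ?_, ?_⟩
  · change Smooth (pullback.snd _ _)
    infer_instance
  · change IsSeparated (pullback.snd _ _)
    infer_instance
  · change LocallyOfFiniteType (pullback.snd _ _)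
    infer_instance
  · change QuasiCompact (pullback.snd _ _)
    infer_instance
  · intro Y' hY'
    have key : NMPAt (_root_.Neron.genPt R')
        ((Over.pullback (Spec.map (CommRingCat.ofHom (algebraMap R R')))).obj N) Y' := by
      refine nmpAt_baseChange _ (_root_.Neron.genPt R) (_root_.Neron.genPt R') t ht N Y' ?_
      have := h5 ((Over.map (Spec.map (CommRingCat.ofHom (algebraMap R R')))).obj Y') (by
        haveI := hY'
        change Smooth (Y'.hom ≫ Spec.map (CommRingCat.ofHom (algebraMap R R')))
        infer_instance)
      simpa [NMPAt] using this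
    simpa [NMPAt] using key

end Groth.Agent.H7.Neron
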