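import Mathlib
import Groth.Agent.Lib.Helper7.Neron3
import Groth.Prelude.Def_NonAbH2

open CategoryTheory Limits AlgebraicGeometry MonoidalCategory CartesianMonoidalCategory

namespace Groth.Agent.H7.Neron

universe u

section descent

variable {S : Scheme.{u}}

lemma exists_desc_over {Z' Z X : Over S} (c : Z' ⟶ Z) [EffectiveEpi c.left] (e : Z' ⟶ X)
    (h : pullback.fst c.left c.left ≫ e.left = pullback.snd c.left c.left ≫ e.left) :
    ∃ u : Z ⟶ X, c ≫ u = e := by
  have hd : ∀ {T : Scheme.{u}} (g₁ g₂ : T ⟶ Z'.left), g₁ ≫ c.left = g₂ ≫ c.left →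
      g₁ ≫ e.left = g₂ ≫ e.left := by
    intro T g₁ g₂ hg
    have h1 : g₁ = pullback.lift g₁ g₂ hg ≫ pullback.fst c.left c.left :=
      (pullback.lift_fst _ _ _).symm
    have h2 : g₂ = pullback.lift g₁ g₂ hg ≫ pullback.snd c.left c.left :=
      (pullback.lift_snd _ _ _).symm
    rw [h1, Category.assoc, h, ← Category.assoc, ← h2]
  have hfac : c.left ≫ EffectiveEpi.desc c.left e.left hd = e.left := EffectiveEpi.fac _ _ _
  refine ⟨Over.homMk (EffectiveEpi.desc c.left e.left hd) ?_, ?_⟩
  · rw [← cancel_epi c.left, ← Category.assoc, hfac, Over.w e, Over.w c]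
  · ext
    simp [hfac]

end descent

section transfer

variable {S S₀ : Scheme.{u}} (j : S₀ ⟶ S)

/-- restriction endofunctor and its counit -/
noncomputable abbrev Rf : Over S ⥤ Over S := Over.pullback j ⋙ Over.map j

noncomputable abbrev eps (Z : Over S) : (Rf j).obj Z ⟶ Z := (Over.mapPullbackAdj j).counit.app Z

lemma eps_naturality {W Z : Over S} (f : W ⟶ Z) : (Rf j).map f ≫ eps j Z = eps j W ≫ f :=
  (Over.mapPullbackAdj j).counit.naturality f

lemma isPullback_Rf_map {W Z : Over S} (c : W ⟶ Z) :
    IsPullback ((Rf j).map c).left (eps j W).left (eps j Z).left c.left := by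
  have hA : IsPullback (pullback.snd W.hom j) (pullback.fst W.hom j) j W.hom :=
    (IsPullback.of_hasPullback W.hom j).flip
  have hB : IsPullback (pullback.snd Z.hom j) (pullback.fst Z.hom j) j Z.hom :=
    (IsPullback.of_hasPullback Z.hom j).flip
  have hc : c.left ≫ Z.hom = W.hom := Over.w c
  have h1 : ((Rf j).map c).left ≫ pullback.snd Z.hom j = pullback.snd W.hom j := by
    simp only [Functor.comp_map, Over.map_map_left, Over.pullback_map_left]
    exact pullback.lift_snd _ _ _
  have h2 : ((Rf j).map c).left ≫ (eps j Z).left = (eps j W).left ≫ c.left :=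
    congrArg (fun x => x.left) (eps_naturality j c)
  have h3 : (eps j Z).left = pullback.fst Z.hom j := by simp
  have h4 : (eps j W).left = pullback.fst W.hom j := by simp
  rw [h3, h4] at h2 ⊢
  refine IsPullback.of_right ?_ h2 hB
  rw [h1, hc]
  exact hA

lemma epi_of_smooth_surjective_left {W Z : Over S} (c : W ⟶ Z) [Smooth c.left] [Surjective c.left] :
    Epi c := by
  haveI : Epi c.left := inferInstance
  exact Over.epi_of_epi_left c

theorem nmp_transfer (N A B : Over S) [Smooth N.hom] [Surjective N.hom]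
    (β : ∀ (T : Over S) (_ : T ⟶ N), (T ⟶ A) ≃ (T ⟶ B))
    (hβ : ∀ (T T' : Over S) (h : T' ⟶ T) (v : T ⟶ N) (g : T ⟶ A),
      h ≫ β T v g = β T' (h ≫ v) (h ≫ g))
    (hA : ∀ Z : Over S, Smooth Z.hom → PreBij A (eps j Z)) :
    ∀ Z : Over S, Smooth Z.hom → PreBij B (eps j Z) := by
  have hβ' : ∀ (T T' : Over S) (h : T' ⟶ T) (v : T ⟶ N) (y : T ⟶ B),
      h ≫ (β T v).symm y = (β T' (h ≫ v)).symm (h ≫ y) := by
    intro T T' h v y
    apply (β T' (h ≫ v)).injective
    rw [← hβ, Equiv.apply_symm_apply, Equiv.apply_symm_apply]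
  -- injectivity
  have hinj : ∀ Z : Over S, Smooth Z.hom →
      Function.Injective (fun u : Z ⟶ B => eps j Z ≫ u) := by
    intro Z hZ u₁ u₂ hu
    dsimp only at hu
    haveI := hZ
    let Z' : Over S := Z ⊗ N
    let c : Z' ⟶ Z := fst Z N
    let v : Z' ⟶ N := snd Z N
    have hZ' : Smooth Z'.hom := inferInstance
    haveI : Smooth c.left := by
      change Smooth (pullback.fst Z.hom N.hom)
      infer_instance
    haveI : Surjective c.left := by
      change Surjective (pullback.fst Z.hom N.hom)
      infer_instance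
    haveI : Epi c := epi_of_smooth_surjective_left c
    have key : ∀ u : Z ⟶ B, eps j Z' ≫ c ≫ u = (Rf j).map c ≫ eps j Z ≫ u := fun u => by
      rw [← Category.assoc, ← eps_naturality j c, Category.assoc]
    have h1 : eps j Z' ≫ (β Z' v).symm (c ≫ u₁) = eps j Z' ≫ (β Z' v).symm (c ≫ u₂) := by
      rw [hβ', hβ', key, key, hu]
    have h2 := (hA Z' hZ').1 h1
    have h3 := (β Z' v).symm.injective h2
    exact (cancel_epi c).1 h3
  intro Z hZ
  refine ⟨hinj Z hZ, ?_⟩
  intro u₀
  haveI := hZ
  let Z' : Over S := Z ⊗ N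
  let c : Z' ⟶ Z := fst Z N
  let v : Z' ⟶ N := snd Z N
  have hZ' : Smooth Z'.hom := inferInstance
  haveI : Smooth c.left := by
    change Smooth (pullback.fst Z.hom N.hom)
    infer_instance
  haveI : Surjective c.left := by
    change Surjective (pullback.fst Z.hom N.hom)
    infer_instance
  haveI : Epi c := epi_of_smooth_surjective_left c
  -- `R(c)` is an epimorphism
  have sq := (isPullback_Rf_map j c).flip
  haveI : Smooth ((Rf j).map c).left := MorphismProperty.of_isPullback (P := @Smooth) sq inferInstance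
  haveI : Surjective ((Rf j).map c).left :=
    MorphismProperty.of_isPullback (P := @Surjective) sq inferInstance
  haveI : Epi ((Rf j).map c) := epi_of_smooth_surjective_left _
  -- extend on `Z'`
  obtain ⟨a, ha⟩ := (hA Z' hZ').2 ((β _ (eps j Z' ≫ v)).symm ((Rf j).map c ≫ u₀))
  dsimp only at ha
  let u' : Z' ⟶ B := β Z' v a
  have hu' : eps j Z' ≫ u' = (Rf j).map c ≫ u₀ := by
    rw [hβ, ha, Equiv.apply_symm_apply]
  -- the kernel pair
  let K : Over S := Over.mk (pullback.fst c.left c.left ≫ Z'.hom)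
  let p₁ : K ⟶ Z' := Over.homMk (pullback.fst c.left c.left) rfl
  have hc : c.left ≫ Z.hom = Z'.hom := Over.w c
  let p₂ : K ⟶ Z' := Over.homMk (pullback.snd c.left c.left) (by
    change pullback.snd c.left c.left ≫ Z'.hom = pullback.fst c.left c.left ≫ Z'.hom
    rw [← hc, ← Category.assoc, ← Category.assoc, pullback.condition])
  have hp : p₁ ≫ c = p₂ ≫ c := by
    ext
    exact pullback.condition
  have hK : Smooth K.hom := by
    change Smooth (pullback.fst c.left c.left ≫ Z'.hom)
    infer_instance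
  have key2 : ∀ p : K ⟶ Z', eps j K ≫ p ≫ u' = (Rf j).map (p ≫ c) ≫ u₀ := fun p => by
    rw [← Category.assoc, ← eps_naturality j p, Category.assoc, hu', ← Category.assoc,
      ← Functor.map_comp]
  have hpu : p₁ ≫ u' = p₂ ≫ u' := hinj K hK (by
    dsimp only
    rw [key2, key2, hp])
  haveI : EffectiveEpi c.left := inferInstance
  obtain ⟨u, hu⟩ := exists_desc_over c u' (congrArg (fun x => x.left) hpu)
  refine ⟨u, ?_⟩
  dsimp only
  rw [← cancel_epi ((Rf j).map c), ← Category.assoc, eps_naturality, Category.assoc, hu, hu']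

end transfer

section torsor

variable {S : Scheme.{u}} {G N : Over S} [GrpObj G] (a : AlgGrp.Action G N)

/-- For a pseudo-torsor and a point `v` of `N`, `g ↦ g • v` is a bijection. -/
noncomputable def torsorEquiv (ha : NonAbH1.IsPseudoTorsorSch a) (T : Over S) (v : T ⟶ N) :
    (T ⟶ G) ≃ (T ⟶ N) :=
  haveI : IsIso (lift a.act (snd G N)) := ha
  { toFun := fun g => lift g v ≫ a.act
    invFun := fun y => lift y v ≫ inv (lift a.act (snd G N)) ≫ fst G N
    left_inv := fun g => by
      have h1 : lift g v ≫ lift a.act (snd G N) = lift (lift g v ≫ a.act) v := by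
        rw [comp_lift, lift_snd]
      have h2 : lift (lift g v ≫ a.act) v ≫ inv (lift a.act (snd G N)) = lift g v := by
        rw [← h1, Category.assoc, IsIso.hom_inv_id, Category.comp_id]
      dsimp only
      rw [← Category.assoc, h2, lift_fst]
    right_inv := fun y => by
      dsimp only
      have h0 : inv (lift a.act (snd G N)) ≫ snd G N = snd N N := by
        rw [IsIso.inv_comp_eq, lift_snd]
      have h1 : (lift y v ≫ inv (lift a.act (snd G N))) ≫ snd G N = v := by
        rw [Category.assoc, h0, lift_snd]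
      have h2 : lift ((lift y v ≫ inv (lift a.act (snd G N))) ≫ fst G N) v =
          lift y v ≫ inv (lift a.act (snd G N)) := by
        apply CartesianMonoidalCategory.hom_ext
        · rw [lift_fst]
        · rw [lift_snd, h1]
      have h3 : lift a.act (snd G N) ≫ fst N N = a.act := lift_fst _ _
      rw [← Category.assoc, h2]
      calc (lift y v ≫ inv (lift a.act (snd G N))) ≫ a.act
          = (lift y v ≫ inv (lift a.act (snd G N))) ≫ lift a.act (snd G N) ≫ fst N N := by
            rw [h3]
        _ = y := by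
            rw [Category.assoc, IsIso.inv_hom_id_assoc, lift_fst] }

lemma torsorEquiv_naturality (ha : NonAbH1.IsPseudoTorsorSch a) (T T' : Over S) (h : T' ⟶ T)
    (v : T ⟶ N) (g : T ⟶ G) :
    h ≫ torsorEquiv a ha T v g = torsorEquiv a ha T' (h ≫ v) (h ≫ g) := by
  change h ≫ lift g v ≫ a.act = lift (h ≫ g) (h ≫ v) ≫ a.act
  rw [comp_lift_assoc]

theorem S13431_main {S₀ : Scheme.{u}} (j : S₀ ⟶ S) [Smooth N.hom] [Surjective N.hom]
    (ha : NonAbH1.IsPseudoTorsorSch a) :
    (∀ Z : Over S, Smooth Z.hom →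
      Function.Bijective (fun g : Z ⟶ G => (Over.pullback j).map g)) ↔
    (∀ Z : Over S, Smooth Z.hom →
      Function.Bijective (fun g : Z ⟶ N => (Over.pullback j).map g)) := by
  constructor
  · intro hG Z hZ
    exact (nmpAt_iff_counit j N Z).2 (nmp_transfer j N G N (torsorEquiv a ha)
      (torsorEquiv_naturality a ha) (fun Z hZ => (nmpAt_iff_counit j G Z).1 (hG Z hZ)) Z hZ)
  · intro hN Z hZ
    refine (nmpAt_iff_counit j G Z).2 (nmp_transfer j N N G
      (fun T v => (torsorEquiv a ha T v).symm) ?_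
      (fun Z hZ => (nmpAt_iff_counit j N Z).1 (hN Z hZ)) Z hZ)
    intro T T' h v y
    apply (torsorEquiv a ha T' (h ≫ v)).injective
    rw [Equiv.apply_symm_apply, ← torsorEquiv_naturality, Equiv.apply_symm_apply]

end torsor

end Groth.Agent.H7.Neron
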