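import Mathlib
import Groth.Agent.Lib.Helper7.Neron4

open CategoryTheory Limits AlgebraicGeometry

namespace Groth.Agent.H7.Neron

universe u

lemma preBij_of_closedImmersion {S : Scheme.{u}} {X G : Over S} (i : G ⟶ X)
    [IsClosedImmersion i.left] {W Z : Over S} (p : W ⟶ Z) [IsSchemeTheoreticallyDominant p.left]
    (hX : PreBij X p) : PreBij G p := by
  haveI : Mono i.left := inferInstance
  haveI : Mono i := Over.mono_of_mono_left i
  constructor
  · intro g₁ g₂ h
    dsimp only at h
    have : g₁ ≫ i = g₂ ≫ i := hX.1 (by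
      dsimp only
      rw [← Category.assoc, ← Category.assoc, h])
    exact (cancel_mono i).1 this
  · intro h
    obtain ⟨v, hv⟩ := hX.2 (h ≫ i)
    dsimp only at hv
    have hvl : p.left ≫ v.left = h.left ≫ i.left := congrArg (fun x => x.left) hv
    have hker : i.left.ker ≤ v.left.ker := by
      have h1 : i.left.ker ≤ (h.left ≫ i.left).ker := Scheme.Hom.le_ker_comp _ _
      rw [← hvl, Scheme.Hom.ker_comp, Scheme.Hom.ker_eq_bot p.left, Scheme.IdealSheafData.map_bot] at h1
      exact h1
    have hfac : IsClosedImmersion.lift i.left v.left hker ≫ i.left = v.left :=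
      IsClosedImmersion.lift_fac _ _ _
    refine ⟨Over.homMk (IsClosedImmersion.lift i.left v.left hker) ?_, ?_⟩
    · rw [← Over.w i, ← Category.assoc, hfac, Over.w v]
    · dsimp only
      rw [← cancel_mono i, Category.assoc, ← hv]
      congr 1
      ext
      simp [hfac]

lemma isSchemeTheoreticallyDominant_Spec_map {A B : CommRingCat.{u}} (φ : A ⟶ B)
    (hφ : Function.Injective φ.hom) : IsSchemeTheoreticallyDominant (Spec.map φ) := by
  rw [isSchemeTheoreticallyDominant_iff, Scheme.ker_of_isAffine]
  have : RingHom.ker (Spec.map φ).appTop.hom = ⊥ := by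
    rw [← RingHom.injective_iff_ker_eq_bot]
    have h := Scheme.ΓSpecIso_naturality φ
    have h2 : (Spec.map φ).appTop = (Scheme.ΓSpecIso A).hom ≫ φ ≫ (Scheme.ΓSpecIso B).inv := by
      rw [← Category.assoc, ← h, Category.assoc, Iso.hom_inv_id, Category.comp_id]
    rw [h2]
    simp only [CommRingCat.hom_comp, RingHom.coe_comp]
    exact ((ConcreteCategory.bijective_of_isIso (Scheme.ΓSpecIso B).inv).1.comp hφ).comp
      (ConcreteCategory.bijective_of_isIso (Scheme.ΓSpecIso A).hom).1
  rw [this]
  apply Scheme.IdealSheafData.ext_of_isAffine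
  simp

theorem S18484_main (R : Type u) [CommRing R] [IsDedekindDomain R]
    (X G : Over (Spec (CommRingCat.of R)))
    (hX : _root_.Neron.IsNeronModelOf R X ((_root_.Neron.genericFibre R).obj X) (Iso.refl _))
    (i : G ⟶ X) [IsClosedImmersion i.left] [Smooth G.hom] :
    _root_.Neron.IsNeronModelOf R G ((_root_.Neron.genericFibre R).obj G) (Iso.refl _) := by
  obtain ⟨h1, h2, h3, h4, h5⟩ := hX
  haveI := h1
  haveI := h2
  haveI := h3
  haveI := h4
  have hw : i.left ≫ X.hom = G.hom := Over.w i
  refine ⟨inferInstance, ?_, inferInstance, ?_, ?_⟩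
  · rw [← hw]
    infer_instance
  · rw [← hw]
    infer_instance
  · intro Y hY
    haveI := hY
    haveI : IsSchemeTheoreticallyDominant (_root_.Neron.genPt R) :=
      isSchemeTheoreticallyDominant_Spec_map _
        (FaithfulSMul.algebraMap_injective R (FractionRing R))
    haveI : IsSchemeTheoreticallyDominant
        ((Over.mapPullbackAdj (_root_.Neron.genPt R)).counit.app Y).left := by
      have : ((Over.mapPullbackAdj (_root_.Neron.genPt R)).counit.app Y).left =
          pullback.fst Y.hom (_root_.Neron.genPt R) := by simp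
      rw [this]
      infer_instance
    have hXY : NMPAt (_root_.Neron.genPt R) X Y := by
      simpa [NMPAt] using h5 Y hY
    have key : NMPAt (_root_.Neron.genPt R) G Y :=
      (nmpAt_iff_counit _ _ _).2 (preBij_of_closedImmersion i _ ((nmpAt_iff_counit _ _ _).1 hXY))
    simpa [NMPAt] using key

end Groth.Agent.H7.Neron
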