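import Mathlib
import Groth.Agent.Lib.Helper7.Neron5
import Groth.Prelude.Def_AlgGrp

open CategoryTheory Limits AlgebraicGeometry MonoidalCategory CartesianMonoidalCategory MonObj

universe u

namespace Groth.Agent.H7.Neron

/-- If `f ≫ g` is locally of finite presentation and `g` is locally of finite type, then `f` is
locally of finite presentation. -/
lemma lfp_of_comp {X Y Z : Scheme.{u}} (f : X ⟶ Y) (g : Y ⟶ Z)
    (h : LocallyOfFinitePresentation (f ≫ g)) (hg : LocallyOfFiniteType g) :
    LocallyOfFinitePresentation f := by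
  wlog hZ : IsAffine Z generalizing X Y Z
  · rw [IsZariskiLocalAtTarget.iff_of_iSup_eq_top (P := @LocallyOfFinitePresentation) _
      (g.iSup_preimage_eq_top (iSup_affineOpens_eq_top Z))]
    intro U
    have H := IsZariskiLocalAtTarget.restrict h U.1
    rw [morphismRestrict_comp] at H
    exact this _ _ H (IsZariskiLocalAtTarget.restrict hg U.1) inferInstance
  wlog hY : IsAffine Y generalizing X Y
  · rw [IsZariskiLocalAtTarget.iff_of_iSup_eq_top (P := @LocallyOfFinitePresentation) _
      (iSup_affineOpens_eq_top Y)]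
    intro U
    have H := MorphismProperty.comp_mem @LocallyOfFinitePresentation (f ⁻¹ᵁ U.1).ι (f ≫ g)
      inferInstance h
    rw [← morphismRestrict_ι_assoc] at H
    exact this (f ∣_ U.1) (U.1.ι ≫ g) H inferInstance inferInstance
  wlog hX : IsAffine X generalizing X
  · rw [IsZariskiLocalAtSource.iff_of_iSup_eq_top (P := @LocallyOfFinitePresentation) _
      (iSup_affineOpens_eq_top X)]
    intro U
    have H := MorphismProperty.comp_mem @LocallyOfFinitePresentation U.1.ι (f ≫ g)
      inferInstance h
    rw [← Category.assoc] at H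
    exact this _ H inferInstance
  rw [HasRingHomProperty.iff_of_isAffine (P := @LocallyOfFinitePresentation)] at h ⊢
  rw [HasRingHomProperty.iff_of_isAffine (P := @LocallyOfFiniteType)] at hg
  rw [Scheme.Hom.comp_appTop, CommRingCat.hom_comp] at h
  exact RingHom.FinitePresentation.of_comp_finiteType _ h hg

section grp

variable {C : Type*} [Category C] [CartesianMonoidalCategory C]

/-- For a kernel `i : N ⟶ G` of `q : G ⟶ Q`, the map `G ⊗ N ⟶ G ×_Q G`, `(g, n) ↦ (g, g * i n)`
is an isomorphism, written as a pullback square. -/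
lemma isPullback_torsor_of_isKernel {N G Q : C} [GrpObj N] [GrpObj G] [GrpObj Q] (i : N ⟶ G)
    (q : G ⟶ Q) [IsMonHom i] [IsMonHom q] (hker : IsPullback i (toUnit N) q η[Q]) :
    IsPullback (fst G N) (fst G N * (snd G N ≫ i)) q q := by
  have w : fst G N ≫ q = (fst G N * (snd G N ≫ i)) ≫ q := by
    rw [MonObj.mul_comp, Category.assoc, hker.w, ← Category.assoc]
    have : (snd G N ≫ toUnit N) ≫ η[Q] = (1 : G ⊗ N ⟶ Q) := by
      rw [Hom.one_def]
      congr 1
      exact toUnit_unique _ _
    rw [this, _root_.mul_one]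
  refine ⟨⟨w⟩, ⟨PullbackCone.IsLimit.mk _ (fun s => lift s.fst
    (hker.lift (s.fst⁻¹ * s.snd) (toUnit _) ?_)) ?_ ?_ ?_⟩⟩
  · rw [MonObj.mul_comp, GrpObj.inv_comp, s.condition, inv_mul_cancel, Hom.one_def]
  · intro s
    simp
  · intro s
    rw [MonObj.comp_mul, lift_fst, ← Category.assoc, lift_snd, hker.lift_fst, mul_inv_cancel_left]
  · intro s m h1 h2
    apply CartesianMonoidalCategory.hom_ext
    · simpa using h1
    · rw [lift_snd]
      apply hker.hom_ext
      · rw [hker.lift_fst, Category.assoc, ← h1, ← h2, MonObj.comp_mul, inv_mul_cancel_left]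
      · exact toUnit_unique _ _

end grp

section ext

variable {S : Scheme.{u}}

/-- A flat surjective homomorphism of smooth group schemes with smooth kernel is smooth. -/
lemma smooth_of_isKernel (G' G G'' : Over S) [GrpObj G'] [GrpObj G] [GrpObj G'']
    [Smooth G'.hom] [Smooth G.hom] [LocallyOfFiniteType G''.hom]
    (i : G' ⟶ G) (q : G ⟶ G'') [IsMonHom i] [IsMonHom q]
    (hker : AlgGrp.IsKernel i q) [Flat q.left] [Surjective q.left] : Smooth q.left := by
  have sq : IsPullback (fst G G').left (fst G G' * (snd G G' ≫ i)).left q.left q.left :=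
    (isPullback_torsor_of_isKernel i q hker).map (Over.forget S)
  have hlfp : LocallyOfFinitePresentation q.left := by
    refine lfp_of_comp q.left G''.hom ?_ inferInstance
    rw [Over.w q]
    infer_instance
  have h1 : Smooth (fst G G').left := by
    change Smooth (pullback.fst G.hom G'.hom)
    infer_instance
  exact MorphismProperty.of_isPullback_of_descendsAlong (P := @Smooth)
    (Q := @Surjective ⊓ @Flat ⊓ @LocallyOfFinitePresentation) sq
    ⟨⟨inferInstance, inferInstance⟩, hlfp⟩ h1

variable {S₀ : Scheme.{u}} (j : S₀ ⟶ S)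

/-- Extensions: if `G'` and `G''` have the Néron mapping property (for `j`, tested on smooth
objects), then so does an extension `G` of `G''` by `G'`. -/
theorem nmp_extension (G' G G'' : Over S) [GrpObj G'] [GrpObj G] [GrpObj G'']
    (i : G' ⟶ G) (q : G ⟶ G'') [IsMonHom i] [IsMonHom q]
    (hker : AlgGrp.IsKernel i q) [Smooth q.left] [Surjective q.left]
    (hG' : ∀ Z : Over S, Smooth Z.hom → PreBij G' (eps j Z))
    (hG'' : ∀ Z : Over S, Smooth Z.hom → PreBij G'' (eps j Z)) :
    ∀ Z : Over S, Smooth Z.hom → PreBij G (eps j Z) := by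
  have hker' : IsPullback i (toUnit G') q η[G''] := hker
  haveI hmono : Mono i := ⟨fun a b hab => hker'.hom_ext hab (toUnit_unique _ _)⟩
  have hinj : ∀ Z : Over S, Smooth Z.hom →
      Function.Injective (fun u : Z ⟶ G => eps j Z ≫ u) := by
    intro Z hZ u₁ u₂ hu
    dsimp only at hu
    have hq : u₁ ≫ q = u₂ ≫ q := (hG'' Z hZ).1 (by
      dsimp only
      rw [← Category.assoc, hu, Category.assoc])
    have hd : (u₁ / u₂) ≫ q = toUnit Z ≫ η[G''] := by
      rw [GrpObj.div_comp, hq, div_self', Hom.one_def]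
    let d' : Z ⟶ G' := hker'.lift (u₁ / u₂) (toUnit Z) hd
    have hd' : d' ≫ i = u₁ / u₂ := hker'.lift_fst _ _ _
    have h1 : eps j Z ≫ d' = eps j Z ≫ (1 : Z ⟶ G') := by
      rw [← cancel_mono i, Category.assoc, hd', GrpObj.comp_div, hu, div_self', Category.assoc,
        MonObj.one_comp, MonObj.comp_one]
    have h2 : d' = 1 := (hG' Z hZ).1 h1
    have h3 : u₁ / u₂ = 1 := by rw [← hd', h2, MonObj.one_comp]
    exact div_eq_one.1 h3
  intro Z hZ
  refine ⟨hinj Z hZ, ?_⟩
  intro h₀
  haveI := hZ
  obtain ⟨s, hs⟩ := (hG'' Z hZ).2 (h₀ ≫ q)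
  dsimp only at hs
  let P : Over S := Over.mk (pullback.fst s.left q.left ≫ Z.hom)
  let c : P ⟶ Z := Over.homMk (pullback.fst s.left q.left) rfl
  let t : P ⟶ G := Over.homMk (pullback.snd s.left q.left) (by
    change pullback.snd s.left q.left ≫ G.hom = pullback.fst s.left q.left ≫ Z.hom
    rw [← Over.w q, ← Category.assoc, ← pullback.condition, Category.assoc, Over.w s])
  have hct : c ≫ s = t ≫ q := by
    ext
    exact pullback.condition
  haveI : Smooth c.left := by
    change Smooth (pullback.fst s.left q.left)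
    infer_instance
  haveI : Surjective c.left := by
    change Surjective (pullback.fst s.left q.left)
    infer_instance
  have hP : Smooth P.hom := by
    change Smooth (pullback.fst s.left q.left ≫ Z.hom)
    infer_instance
  haveI : Epi c := epi_of_smooth_surjective_left c
  have sq := (isPullback_Rf_map j c).flip
  haveI : Smooth ((Rf j).map c).left := MorphismProperty.of_isPullback (P := @Smooth) sq inferInstance
  haveI : Surjective ((Rf j).map c).left :=
    MorphismProperty.of_isPullback (P := @Surjective) sq inferInstance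
  haveI : Epi ((Rf j).map c) := epi_of_smooth_surjective_left _
  -- the difference over `S₀`
  have hδq : (((Rf j).map c ≫ h₀) / (eps j P ≫ t)) ≫ q = toUnit _ ≫ η[G''] := by
    have e1 : ((Rf j).map c ≫ h₀) ≫ q = (eps j P ≫ t) ≫ q := by
      rw [Category.assoc, ← hs, ← Category.assoc, eps_naturality, Category.assoc, hct,
        Category.assoc]
    rw [GrpObj.div_comp, e1, div_self', Hom.one_def]
  let δ₀' : (Rf j).obj P ⟶ G' := hker'.lift _ (toUnit _) hδq
  have hδ₀' : δ₀' ≫ i = ((Rf j).map c ≫ h₀) / (eps j P ≫ t) := hker'.lift_fst _ _ _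
  obtain ⟨δ', hδ'⟩ := (hG' P hP).2 δ₀'
  dsimp only at hδ'
  let u' : P ⟶ G := (δ' ≫ i) * t
  have hu' : eps j P ≫ u' = (Rf j).map c ≫ h₀ := by
    change eps j P ≫ ((δ' ≫ i) * t) = _
    rw [MonObj.comp_mul, ← Category.assoc, hδ', hδ₀', div_mul_cancel]
  -- the kernel pair
  let K : Over S := Over.mk (pullback.fst c.left c.left ≫ P.hom)
  let p₁ : K ⟶ P := Over.homMk (pullback.fst c.left c.left) rfl
  have hc : c.left ≫ Z.hom = P.hom := Over.w c
  let p₂ : K ⟶ P := Over.homMk (pullback.snd c.left c.left) (by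
    change pullback.snd c.left c.left ≫ P.hom = pullback.fst c.left c.left ≫ P.hom
    rw [← hc, ← Category.assoc, ← Category.assoc, pullback.condition])
  have hp : p₁ ≫ c = p₂ ≫ c := by
    ext
    exact pullback.condition
  have hK : Smooth K.hom := by
    change Smooth (pullback.fst c.left c.left ≫ P.hom)
    infer_instance
  have key2 : ∀ p : K ⟶ P, eps j K ≫ p ≫ u' = (Rf j).map (p ≫ c) ≫ h₀ := fun p => by
    rw [← Category.assoc, ← eps_naturality j p, Category.assoc, hu', ← Category.assoc,
      ← Functor.map_comp]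
  have hpu : p₁ ≫ u' = p₂ ≫ u' := hinj K hK (by
    dsimp only
    rw [key2, key2, hp])
  haveI : EffectiveEpi c.left := inferInstance
  obtain ⟨u, hu⟩ := exists_desc_over c u' (congrArg (fun x => x.left) hpu)
  refine ⟨u, ?_⟩
  dsimp only
  rw [← cancel_epi ((Rf j).map c), ← Category.assoc, eps_naturality, Category.assoc, hu, hu']

theorem S15958_main (G' G G'' : Over S) [GrpObj G'] [GrpObj G] [GrpObj G'']
    [Smooth G'.hom] [Smooth G.hom] [Smooth G''.hom]
    (i : G' ⟶ G) (q : G ⟶ G'') [IsMonHom i] [IsMonHom q]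
    (hker : AlgGrp.IsKernel i q) [Flat q.left] [Surjective q.left]
    (hG' : ∀ Y : Over S, Smooth Y.hom →
        Function.Bijective (fun g : Y ⟶ G' => (Over.pullback j).map g))
    (hG'' : ∀ Y : Over S, Smooth Y.hom →
        Function.Bijective (fun g : Y ⟶ G'' => (Over.pullback j).map g)) :
    ∀ Y : Over S, Smooth Y.hom →
        Function.Bijective (fun g : Y ⟶ G => (Over.pullback j).map g) := by
  haveI : Smooth q.left := smooth_of_isKernel G' G G'' i q hker
  intro Y hY
  exact (nmpAt_iff_counit j G Y).2 (nmp_extension j G' G G'' i q hker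
    (fun Z hZ => (nmpAt_iff_counit j G' Z).1 (hG' Z hZ))
    (fun Z hZ => (nmpAt_iff_counit j G'' Z).1 (hG'' Z hZ)) Y hY)

end ext

end Groth.Agent.H7.Neron
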