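import Mathlib
import Groth.Agent.Lib.Helper7.Neron3

open CategoryTheory Limits AlgebraicGeometry MonoidalCategory CartesianMonoidalCategory MonObj

namespace Groth.Agent.H7.Neron

universe v u

section general

variable {C : Type u} [Category.{v} C]

/-- Precomposition with `p` is injective on morphisms to `N`. -/
def PreInj {S : C} (N : Over S) {W Z : Over S} (p : W ⟶ Z) : Prop :=
  Function.Injective (fun g : Z ⟶ N => p ≫ g)

lemma preInj_iff_of_iso {S : C} (N : Over S) {W W' Z : Over S} (p : W ⟶ Z) (p' : W' ⟶ Z)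
    (e : W ≅ W') (h : e.hom ≫ p' = p) : PreInj N p ↔ PreInj N p' := by
  have hb : Function.Injective (fun g : W' ⟶ N => e.hom ≫ g) :=
    fun a b hab => by simpa using hab
  have : (fun g : Z ⟶ N => p ≫ g) = (fun g : W' ⟶ N => e.hom ≫ g) ∘ (fun g : Z ⟶ N => p' ≫ g) := by
    funext g
    simp [← h]
  unfold PreInj
  rw [this]
  exact Function.Injective.of_comp_iff hb _

variable [HasPullbacks C]

/-- The uniqueness half of the Néron-type mapping property of `N` tested on `Z`. -/
def NMPInjAt {S S₀ : C} (j : S₀ ⟶ S) (N Z : Over S) : Prop :=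
  Function.Injective (fun g : Z ⟶ N => (Over.pullback j).map g)

lemma nmpInjAt_iff_counit {S S₀ : C} (j : S₀ ⟶ S) (N Z : Over S) :
    NMPInjAt j N Z ↔ PreInj N ((Over.mapPullbackAdj j).counit.app Z) := by
  have h : (fun g : Z ⟶ N => (Over.pullback j).map g) =
      (fun a => ((Over.mapPullbackAdj j).homEquiv _ _) a) ∘
        (fun g : Z ⟶ N => (Over.mapPullbackAdj j).counit.app Z ≫ g) := by
    funext g
    simp only [Function.comp_apply, Adjunction.homEquiv_unit, Functor.map_comp]
    rw [← Category.assoc]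
    erw [(Over.mapPullbackAdj j).right_triangle_components]
    simp
  unfold NMPInjAt PreInj
  rw [h]
  exact Function.Injective.of_comp_iff (Equiv.injective _) _

lemma preInj_pullback_iff {S S' : C} (g : S' ⟶ S) (N : Over S) {W Z : Over S'} (p : W ⟶ Z) :
    PreInj ((Over.pullback g).obj N) p ↔ PreInj N ((Over.map g).map p) := by
  have h : (fun a : Z ⟶ (Over.pullback g).obj N => p ≫ a) ∘
        (fun a => ((Over.mapPullbackAdj g).homEquiv Z N) a) =
      (fun a => ((Over.mapPullbackAdj g).homEquiv W N) a) ∘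
        (fun a : (Over.map g).obj Z ⟶ N => (Over.map g).map p ≫ a) := by
    funext a
    simp only [Function.comp_apply]
    rw [Adjunction.homEquiv_naturality_left]
  unfold PreInj
  rw [← Function.Injective.of_comp_iff' _ (Equiv.bijective ((Over.mapPullbackAdj g).homEquiv Z N)),
    h]
  exact Function.Injective.of_comp_iff (Equiv.injective _) _

lemma nmpInjAt_iff_of_isPullback {S S₀ : C} (j : S₀ ⟶ S) (N Z : Over S) {W : Over S} (p : W ⟶ Z)
    (q : W.left ⟶ S₀) (h : IsPullback p.left q Z.hom j) :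
    NMPInjAt j N Z ↔ PreInj N p := by
  rw [nmpInjAt_iff_counit]
  refine preInj_iff_of_iso N _ _ (Over.isoMk h.isoPullback.symm ?_) ?_
  · dsimp
    rw [← Over.w p, ← Category.assoc, h.isoPullback_inv_fst, pullback.condition]
  · ext
    dsimp
    simp

/-- Base change of the uniqueness half. -/
lemma nmpInjAt_baseChange {S S' U U' : C} (g : S' ⟶ S) (j : U ⟶ S) (j' : U' ⟶ S') (t : U' ⟶ U)
    (h : IsPullback t j' j g) (N : Over S) (Y' : Over S')
    (hN : NMPInjAt j N ((Over.map g).obj Y')) :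
    NMPInjAt j' ((Over.pullback g).obj N) Y' := by
  rw [nmpInjAt_iff_counit, preInj_pullback_iff]
  refine (nmpInjAt_iff_of_isPullback j N ((Over.map g).obj Y') _ (pullback.snd Y'.hom j' ≫ t) ?_).1 hN
  have h1 : IsPullback (pullback.snd Y'.hom j') (pullback.fst Y'.hom j') j' Y'.hom :=
    (IsPullback.of_hasPullback _ _).flip
  have h2 := (h1.paste_horiz h).flip
  simpa using h2

end general

section grp

variable {D : Type*} [Category D] [CartesianMonoidalCategory D]

/-- A multiplicative morphism between group objects is a homomorphism. -/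
lemma isMonHom_of_mul_hom {H G : D} [GrpObj H] [GrpObj G] (f : H ⟶ G)
    (hf : μ[H] ≫ f = (f ⊗ₘ f) ≫ μ[G]) : IsMonHom f := by
  have hmul : ∀ {T : D} (a b : T ⟶ H), (a * b) ≫ f = (a ≫ f) * (b ≫ f) := by
    intro T a b
    rw [Hom.mul_def, Hom.mul_def, Category.assoc, hf, ← Category.assoc, lift_map]
  have h1 : ((1 : 𝟙_ D ⟶ H) ≫ f) * ((1 : 𝟙_ D ⟶ H) ≫ f) = (1 : 𝟙_ D ⟶ H) ≫ f := by
    rw [← hmul, _root_.mul_one]
  have h2 : (1 : 𝟙_ D ⟶ H) ≫ f = 1 := mul_eq_left.1 h1
  refine ⟨?_, hf⟩
  have e1 : (1 : 𝟙_ D ⟶ H) = η[H] := by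
    rw [Hom.one_def, toUnit_unique (toUnit (𝟙_ D)) (𝟙 _), Category.id_comp]
  have e2 : (1 : 𝟙_ D ⟶ G) = η[G] := by
    rw [Hom.one_def, toUnit_unique (toUnit (𝟙_ D)) (𝟙 _), Category.id_comp]
  rw [← e1, ← e2]
  exact h2

end grp

section schemes

theorem S17731_main {S S' : Scheme.{u}} (g : S' ⟶ S) [Smooth g] (U : S.Opens) (N : Over S)
    (hN : ∀ Y : Over S, Smooth Y.hom →
      Function.Injective (fun f : Y ⟶ N => (Over.pullback U.ι).map f))
    (Y' : Over S') [Smooth Y'.hom] :
    Function.Injective (fun f : Y' ⟶ (Over.pullback g).obj N =>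
      (Over.pullback (g ⁻¹ᵁ U).ι).map f) := by
  refine nmpInjAt_baseChange g U.ι (g ⁻¹ᵁ U).ι (g ∣_ U) (isPullback_morphismRestrict g U) N Y'
    (hN _ ?_)
  change Smooth (Y'.hom ≫ g)
  infer_instance

theorem S19557_main {S S₀ : Scheme.{u}} (j : S₀ ⟶ S)
    (G H : Over S) [GrpObj G] [GrpObj H] [Smooth H.hom]
    (hG : ∀ Z : Over S, Smooth Z.hom →
      Function.Injective (fun g : Z ⟶ G => (Over.pullback j).map g))
    (f : H ⟶ G)
    (hf : (Over.pullback j).map (μ[H] ≫ f) = (Over.pullback j).map ((f ⊗ₘ f) ≫ μ[G])) :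
    IsMonHom f :=
  isMonHom_of_mul_hom f (hG (H ⊗ H) inferInstance hf)

end schemes

end Groth.Agent.H7.Neron
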