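import Mathlib
import Groth.Prelude.Def_AlgSp
import Groth.Prelude.Def_AlgSp3
import Groth.Agent.Lib.Helper5.AlgSp.ProdSp
import Groth.Agent.Lib.Helper5.AlgSp.Presentation

set_option autoImplicit false

universe u

open CategoryTheory CategoryTheory.Limits AlgebraicGeometry Opposite

namespace Groth.Agent.H7.NeronSp

open _root_.AlgSp Groth.Agent.H5.AlgSp

variable {S : Scheme.{u}}

/-- Descent of the mapping property along an etale surjective chart. -/
theorem bijective_of_chart (X N' F : Sp S) (V R : Over S) (p : (yon S).obj V ⟶ F)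
    (a b : (yon S).obj R ⟶ (yon S).obj V)
    (sq : IsPullback a b p p) (hpe : RepWith @Etale p) (hps : RepWith @Surjective p)
    (hV : Function.Bijective (fun φ : (yon S).obj V ⟶ N' =>
      (prod.fst : (yon S).obj V ⨯ X ⟶ (yon S).obj V) ≫ φ))
    (hR : Function.Injective (fun φ : (yon S).obj R ⟶ N' =>
      (prod.fst : (yon S).obj R ⨯ X ⟶ (yon S).obj R) ≫ φ)) :
    Function.Bijective (fun φ : F ⟶ N' => (prod.fst : F ⨯ X ⟶ F) ≫ φ) := by
  haveI : Sheaf.IsLocallySurjective p := isLocallySurjective_of_etale_surjective p hpe hps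
  haveI : Epi p := inferInstance
  have hpe' : RepWith @Etale (prod.map p (𝟙 X)) :=
    MorphismProperty.of_isPullback (P := RepWith @Etale) (IsPullback.of_prod_fst_with_id p X) hpe
  have hps' : RepWith @Surjective (prod.map p (𝟙 X)) :=
    MorphismProperty.of_isPullback (P := RepWith @Surjective) (IsPullback.of_prod_fst_with_id p X) hps
  haveI : Sheaf.IsLocallySurjective (prod.map p (𝟙 X)) :=
    isLocallySurjective_of_repWith _ (repWith_mono etale_le_flat hpe') (repWith_mono etale_le_lfp hpe') hps'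
  haveI : Epi (prod.map p (𝟙 X)) := inferInstance
  obtain ⟨hcolim⟩ := nonempty_isColimit_cofork_of_isLocallySurjective p sq
  constructor
  · intro φ₁ φ₂ h
    dsimp only at h
    rw [← cancel_epi p]
    apply hV.1
    dsimp only
    rw [← Category.assoc, ← Category.assoc, ← prod.map_fst p (𝟙 X), Category.assoc, Category.assoc, h]
  · intro ψ
    obtain ⟨φV, hφV⟩ := hV.2 (prod.map p (𝟙 X) ≫ ψ)
    dsimp only at hφV
    have hab : a ≫ φV = b ≫ φV := by
      apply hR
      dsimp only
      have h1 : ∀ c : (yon S).obj R ⟶ (yon S).obj V,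
          (prod.fst : (yon S).obj R ⨯ X ⟶ _) ≫ c ≫ φV = prod.map (c ≫ p) (𝟙 X) ≫ ψ := by
        intro c
        rw [← Category.assoc, ← prod.map_fst c (𝟙 X), Category.assoc, hφV, ← Category.assoc,
          prod.map_map, Category.id_comp]
      rw [h1, h1, sq.w]
    let φ : F ⟶ N' := Cofork.IsColimit.desc hcolim φV hab
    have hφ : p ≫ φ = φV := Cofork.IsColimit.π_desc hcolim
    refine ⟨φ, ?_⟩
    dsimp only
    rw [← cancel_epi (prod.map p (𝟙 X)), ← Category.assoc, prod.map_fst, Category.assoc, hφ, hφV]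


/-- Translation of the scheme mapping property to representable sheaves. -/
lemma bijective_yon_of_nmp (U : S.Opens) (N Y : Over S)
    (h : Function.Bijective (fun g : Y ⟶ N => (Over.mapPullbackAdj U.ι).counit.app Y ≫ g)) :
    Function.Bijective (fun φ : (yon S).obj Y ⟶ (yon S).obj N =>
      (prod.fst : (yon S).obj Y ⨯ (yon S).obj (Over.mk U.ι) ⟶ (yon S).obj Y) ≫ φ) := by
  let Z : Over S := Over.mk U.ι
  let W : Over S := (Over.map U.ι).obj ((Over.pullback U.ι).obj Y)
  let c : W ⟶ Y := (Over.mapPullbackAdj U.ι).counit.app Y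
  have hcl : c.left = pullback.fst Y.hom U.ι := by simp [c]
  have hW : W.hom = pullback.snd Y.hom U.ι ≫ U.ι := by simp [W]
  let e₀ : W ≅ Y ⨯ Z := Over.isoMk (Over.prodLeftIsoPullback Y Z).symm (by
    rw [hW, ← Over.w (prod.snd : Y ⨯ Z ⟶ Z)]
    change (Over.prodLeftIsoPullback Y Z).inv ≫ (prod.snd : Y ⨯ Z ⟶ Z).left ≫ U.ι = _
    rw [← Category.assoc, Over.prodLeftIsoPullback_inv_snd]
    rfl)
  have he₀ : e₀.hom ≫ prod.fst = c := by
    ext
    change (Over.prodLeftIsoPullback Y Z).inv ≫ (prod.fst : Y ⨯ Z ⟶ Y).left = c.left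
    rw [Over.prodLeftIsoPullback_inv_fst, hcl]
    rfl
  let e : (yon S).obj W ≅ (yon S).obj Y ⨯ (yon S).obj Z :=
    (yon S).mapIso e₀ ≪≫ PreservesLimitPair.iso (yon S) Y Z
  have he : e.hom ≫ prod.fst = (yon S).map c := by
    change ((yon S).map e₀.hom ≫ (PreservesLimitPair.iso (yon S) Y Z).hom) ≫ prod.fst = _
    rw [PreservesLimitPair.iso_hom, Category.assoc, prodComparison_fst, ← Functor.map_comp, he₀]
  constructor
  · intro φ₁ φ₂ h12
    dsimp only at h12
    obtain ⟨g₁, rfl⟩ := (yon S).map_surjective φ₁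
    obtain ⟨g₂, rfl⟩ := (yon S).map_surjective φ₂
    have h3 : (yon S).map (c ≫ g₁) = (yon S).map (c ≫ g₂) := by
      rw [Functor.map_comp, Functor.map_comp, ← he, Category.assoc, Category.assoc, h12]
    have h4 : c ≫ g₁ = c ≫ g₂ := (yon S).map_injective h3
    rw [h.1 h4]
  · intro ψ
    obtain ⟨k, hk⟩ := (yon S).map_surjective (e.hom ≫ ψ)
    obtain ⟨g, hg⟩ := h.2 k
    dsimp only at hg
    refine ⟨(yon S).map g, ?_⟩
    dsimp only
    rw [← cancel_epi e.hom, ← Category.assoc, he, ← Functor.map_comp, hg, hk]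

theorem S13209_main (U : S.Opens) (N : Over S)
    (hN : ∀ Y : Over S, Smooth Y.hom →
      Function.Bijective (fun g : Y ⟶ N => (Over.mapPullbackAdj U.ι).counit.app Y ≫ g))
    (F : Sp S) (hF : IsAlgSpace F)
    (sF : F ⟶ (yon S).obj (Over.mk (𝟙 S))) (hsm : LocP @Smooth sF) :
    Function.Bijective (fun φ : F ⟶ (yon S).obj N =>
      (prod.fst : F ⨯ (yon S).obj (Over.mk U.ι) ⟶ F) ≫ φ) := by
  obtain ⟨V, p, hpe, hps⟩ := hF.atlas
  have hr := hpe.rep
  have sq : IsPullback (hr.fst p) ((yon S).map (hr.snd p)) p p := hr.isPullback p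
  have hVsm : Smooth V.hom := by
    have h0 : p ≫ sF = (yon S).map (Over.homMk V.hom : V ⟶ Over.mk (𝟙 S)) ≫ 𝟙 _ := by
      obtain ⟨k, hk⟩ := (yon S).map_surjective (p ≫ sF)
      rw [← hk, Category.comp_id]
      congr 1
      exact Over.mkIdTerminal.hom_ext _ _
    have := hsm p (𝟙 _) (Over.homMk V.hom : V ⟶ Over.mk (𝟙 S)) hpe (repWith_id _ _) h0
    simpa using this
  have hs : Etale (hr.snd p).left := hpe.property_snd p
  have hRsm : Smooth (hr.pullback p).hom := by
    rw [← Over.w (hr.snd p)]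
    infer_instance
  exact bijective_of_chart _ _ F V (hr.pullback p) p _ _ sq hpe hps
    (bijective_yon_of_nmp U N V (hN V hVsm))
    (bijective_yon_of_nmp U N _ (hN _ hRsm)).1

end Groth.Agent.H7.NeronSp
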