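import Groth.Agent.Lib.Helper7.EtLift
import Mathlib

/-!
# Lifting along surjections with nil kernel: etale algebras, and maps from smooth algebras
-/

set_option autoImplicit false
universe u v

namespace Groth.Agent.H7.NilLift

open MvPolynomial Algebra Groth.Agent.H7.EtLift

theorem isUnit_of_map_of_ker_le_nilradical {R S : Type*} [CommRing R] [CommRing S] (f : R →+* S)
    (hf : Function.Surjective f) (hN : RingHom.ker f ≤ nilradical R) {x : R}
    (hx : IsUnit (f x)) : IsUnit x := by
  obtain ⟨y', hy'⟩ := hx.exists_right_inv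
  obtain ⟨y, rfl⟩ := hf y'
  have h1 : x * y - 1 ∈ RingHom.ker f := by
    rw [RingHom.mem_ker, map_sub, map_mul, hy', map_one, sub_self]
  have h2 : IsNilpotent (x * y - 1) := hN h1
  have h3 : IsUnit (x * y) := by
    have := h2.isUnit_add_one
    rwa [sub_add_cancel] at this
  exact isUnit_of_mul_isUnit_left h3

theorem map_le_nilradical {R S : Type*} [CommRing R] [CommRing S] (f : R →+* S) (I : Ideal R)
    (hI : I ≤ nilradical R) : Ideal.map f I ≤ nilradical S := by
  rw [Ideal.map_le_iff_le_comap]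
  intro a ha
  rw [Ideal.mem_comap, mem_nilradical]
  exact (mem_nilradical.mp (hI ha)).map f

section
variable {A' A : Type v} [CommRing A'] [CommRing A] (π : A' →+* A) (hπ : Function.Surjective π)
  (E : Type v) [CommRing E] [Algebra A E]
  {ι σ : Type} [Finite ι] [Finite σ] (P : SubmersivePresentation A E ι σ)

theorem isUnit_jacobian_nil (hN : RingHom.ker π ≤ nilradical A') :
    IsUnit (preP' π hπ E P).jacobian := by
  apply isUnit_of_map_of_ker_le_nilradical (πE π hπ E P) (πE_surjective π hπ E P)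
  · rw [ker_πE]
    exact map_le_nilradical _ _ hN
  · rw [πE_jacobian]; exact P.jacobian_isUnit

/-- the lifted submersive presentation -/
noncomputable def P'nil (hN : RingHom.ker π ≤ nilradical A') :
    SubmersivePresentation A' (E' π hπ E P) ι σ where
  __ := preP' π hπ E P
  jacobian_isUnit := isUnit_jacobian_nil π hπ E P hN

end

/-- **Étale algebras lift along surjections with nil kernel.** -/
theorem exists_etale_lift_nil {A' A : Type v} [CommRing A'] [CommRing A] (π : A' →+* A)
    (hπ : Function.Surjective π) (hN : RingHom.ker π ≤ nilradical A')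
    (E : Type v) [CommRing E] [Algebra A E] [Algebra.Etale A E] :
    ∃ (E' : Type v) (_ : CommRing E') (_ : Algebra A' E') (_ : Algebra.Etale A' E')
      (πE : E' →+* E), Function.Surjective πE ∧
        RingHom.ker πE = Ideal.map (algebraMap A' E') (RingHom.ker π) ∧
        ∀ a, πE (algebraMap A' E' a) = algebraMap A E (π a) := by
  have h0 : IsStandardSmoothOfRelativeDimension 0 A E :=
    Etale.iff_isStandardSmoothOfRelativeDimension_zero.mp inferInstance
  obtain ⟨ι, σ, hσ, hι, P, hP⟩ := h0.out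
  refine ⟨E' π hπ E P, inferInstance, inferInstance, ?_, πE π hπ E P, πE_surjective π hπ E P,
    ker_πE π hπ E P, πE_algebraMap π hπ E P⟩
  rw [Etale.iff_isStandardSmoothOfRelativeDimension_zero]
  exact (P'nil π hπ E P hN).isStandardSmoothOfRelativeDimension hP

end Groth.Agent.H7.NilLift

namespace Groth.Agent.H7.NilLift

open MvPolynomial

/-- **maps from smooth algebras lift along surjections with nil kernel.** -/
theorem exists_smooth_lift_nil {R C B B₀ : Type u} [CommRing R] [CommRing C] [CommRing B]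
    [CommRing B₀] [Algebra R C] [Algebra R B] [Algebra R B₀] [Algebra.Smooth R C]
    (π : B →ₐ[R] B₀) (hπ : Function.Surjective π)
    (hN : RingHom.ker (π : B →+* B₀) ≤ nilradical B) (α : C →ₐ[R] B₀) :
    ∃ l : C →ₐ[R] B, π.comp l = α := by
  obtain ⟨n, f, hf, hfg⟩ := Algebra.FinitePresentation.out (R := R) (A := C)
  choose b hb using fun i : Fin n => hπ (α (f (X i)))
  let ψ : MvPolynomial (Fin n) R →ₐ[R] B := MvPolynomial.aeval b
  have hψ : π.comp ψ = α.comp f := by
    apply MvPolynomial.algHom_ext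
    intro i
    simp [ψ, hb]
  let J₀ : Ideal B := Ideal.map (ψ : MvPolynomial (Fin n) R →+* B) (RingHom.ker f.toRingHom)
  have hJ₀le : J₀ ≤ RingHom.ker (π : B →+* B₀) := by
    rw [Ideal.map_le_iff_le_comap]
    intro x hx
    rw [Ideal.mem_comap, RingHom.mem_ker]
    have h1 := congrArg (fun m : MvPolynomial (Fin n) R →ₐ[R] B₀ => m x) hψ
    have h2 : f x = 0 := hx
    simpa [h2] using h1
  have hJ₀nil : IsNilpotent J₀ :=
    (Ideal.FG.isNilpotent_iff_le_nilradical (hfg.map _)).2 (hJ₀le.trans hN)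
  have hker : ∀ x : MvPolynomial (Fin n) R, x ∈ RingHom.ker f →
      ((Ideal.Quotient.mkₐ R J₀).comp ψ) x = 0 := by
    intro x hx
    change Ideal.Quotient.mk J₀ (ψ x) = 0
    rw [Ideal.Quotient.eq_zero_iff_mem]
    exact Ideal.mem_map_of_mem _ hx
  let ψ₀ : C →ₐ[R] B ⧸ J₀ :=
    (Ideal.Quotient.liftₐ (RingHom.ker f) ((Ideal.Quotient.mkₐ R J₀).comp ψ) hker).comp
      (Ideal.quotientKerAlgEquivOfSurjective hf).symm.toAlgHom
  have hψ₀ : ∀ x, ψ₀ (f x) = Ideal.Quotient.mk J₀ (ψ x) := by
    intro x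
    change (Ideal.Quotient.liftₐ (RingHom.ker f) ((Ideal.Quotient.mkₐ R J₀).comp ψ) hker)
      ((Ideal.quotientKerAlgEquivOfSurjective hf).symm (f x)) = _
    rw [Ideal.quotientKerAlgEquivOfSurjective_symm_apply]
    rfl
  refine ⟨Algebra.FormallySmooth.lift J₀ hJ₀nil ψ₀, ?_⟩
  ext c
  obtain ⟨x, rfl⟩ := hf c
  have h1 : Ideal.Quotient.mk J₀ (Algebra.FormallySmooth.lift J₀ hJ₀nil ψ₀ (f x)) =
      Ideal.Quotient.mk J₀ (ψ x) := by
    rw [Algebra.FormallySmooth.mk_lift, hψ₀]
  rw [Ideal.Quotient.eq] at h1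
  have h2 := hJ₀le h1
  rw [RingHom.mem_ker, map_sub, sub_eq_zero] at h2
  have h3 := congrArg (fun m : MvPolynomial (Fin n) R →ₐ[R] B₀ => m x) hψ
  exact h2.trans h3

/-- ring hom version. -/
theorem exists_smooth_lift_nil' {R C B B₀ : Type u} [CommRing R] [CommRing C] [CommRing B]
    [CommRing B₀] (h : R →+* C) (hh : h.Smooth) (β : R →+* B) (α : C →+* B₀) (π : B →+* B₀)
    (hπ : Function.Surjective π) (hN : RingHom.ker π ≤ nilradical B)
    (w : π.comp β = α.comp h) : ∃ l : C →+* B, l.comp h = β ∧ π.comp l = α := by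
  letI : Algebra R C := h.toAlgebra
  letI : Algebra R B := β.toAlgebra
  letI : Algebra R B₀ := (π.comp β).toAlgebra
  haveI : Algebra.Smooth R C := hh
  let π' : B →ₐ[R] B₀ := { π with commutes' := fun r => rfl }
  let α' : C →ₐ[R] B₀ := { α with commutes' := fun r => (congrArg (fun m => m r) w).symm }
  obtain ⟨l, hl⟩ := exists_smooth_lift_nil π' hπ hN α'
  refine ⟨l, ?_, ?_⟩
  · ext r
    exact l.commutes r
  · ext c
    exact congrArg (fun m : C →ₐ[R] B₀ => m c) hl

end Groth.Agent.H7.NilLift
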