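import Groth.Agent.Lib.Helper7.NilLift
import Groth.Prelude.Def_AlgSpInf
import Mathlib

/-!
# Scheme-level lifting along affine thickenings (surjective closed immersions)
-/

set_option autoImplicit false
universe u

open AlgebraicGeometry CategoryTheory Limits

namespace Groth.Agent.H7.NilLiftSch

open Groth.Agent.H7.NilLift

/-- a surjection `A → A₀` and a surjection `E' → E` with kernel generated by `ker (A → A₀)` exhibit
a pushout. -/
theorem isPushout_of_ker_eq' {A A₀ E' E : Type u} [CommRing A] [CommRing A₀] [CommRing E']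
    [CommRing E] (π : A →+* A₀) (hπs : Function.Surjective π) (α : A →+* E') (πE : E' →+* E)
    (φ : A₀ →+* E) (hπ : Function.Surjective πE)
    (hker : RingHom.ker πE = Ideal.map α (RingHom.ker π))
    (hcomm : ∀ a, πE (α a) = φ (π a)) :
    IsPushout (CommRingCat.ofHom α) (CommRingCat.ofHom π)
      (CommRingCat.ofHom πE) (CommRingCat.ofHom φ) := by
  have w : CommRingCat.ofHom α ≫ CommRingCat.ofHom πE =
      CommRingCat.ofHom π ≫ CommRingCat.ofHom φ := by
    ext a
    exact hcomm a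
  have hkill : ∀ (s : PushoutCocone (CommRingCat.ofHom α) (CommRingCat.ofHom π)),
      RingHom.ker πE ≤ RingHom.ker s.inl.hom := by
    intro s
    rw [hker, Ideal.map_le_iff_le_comap]
    intro a ha
    rw [Ideal.mem_comap, RingHom.mem_ker]
    have h1 := congrArg (fun m => m.hom a) s.condition
    simp only [CommRingCat.hom_comp, CommRingCat.hom_ofHom, RingHom.comp_apply] at h1
    rw [h1, (RingHom.mem_ker).1 ha, map_zero]
  refine ⟨⟨w⟩, ⟨PushoutCocone.IsColimit.mk w
    (fun s => CommRingCat.ofHom (πE.liftOfSurjective hπ ⟨s.inl.hom, hkill s⟩)) ?_ ?_ ?_⟩⟩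
  · intro s
    ext x
    exact RingHom.liftOfSurjective_comp_apply πE hπ ⟨s.inl.hom, hkill s⟩ x
  · intro s
    ext a₀
    obtain ⟨a, rfl⟩ := hπs a₀
    have h1 := congrArg (fun m => m.hom a) s.condition
    simp only [CommRingCat.hom_comp, CommRingCat.hom_ofHom, RingHom.comp_apply] at h1
    change (πE.liftOfSurjective hπ ⟨s.inl.hom, hkill s⟩) (φ (π a)) = _
    rw [← hcomm, RingHom.liftOfSurjective_comp_apply]
    exact h1
  · intro s m hm _
    ext y
    obtain ⟨x, rfl⟩ := hπ y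
    change m.hom (πE x) = (πE.liftOfSurjective hπ ⟨s.inl.hom, hkill s⟩) (πE x)
    rw [RingHom.liftOfSurjective_comp_apply]
    exact congrArg (fun k => k.hom x) hm

/-- a ring map inducing a surjective closed immersion on spectra is surjective with nil kernel. -/
theorem surjective_and_ker_le_of_thick {A A₀ : CommRingCat.{u}} (π : A ⟶ A₀)
    (h : AlgSp.thick (Spec.map π)) :
    Function.Surjective π.hom ∧ RingHom.ker π.hom ≤ nilradical A := by
  haveI : IsClosedImmersion (Spec.map π) := h.1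
  haveI : Surjective (Spec.map π) := h.2
  constructor
  · have h1 := (IsClosedImmersion.isAffine_surjective_of_isAffine (Spec.map π)).2
    have h2 : π = (Scheme.ΓSpecIso A).inv ≫ (Spec.map π).appTop ≫ (Scheme.ΓSpecIso A₀).hom := by
      rw [Scheme.ΓSpecIso_naturality, Iso.inv_hom_id_assoc]
    rw [h2]
    simp only [CommRingCat.hom_comp, RingHom.coe_comp]
    exact ((Scheme.ΓSpecIso A₀).commRingCatIsoToRingEquiv.surjective.comp h1).comp
      (Scheme.ΓSpecIso A).commRingCatIsoToRingEquiv.symm.surjective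
  · rw [nilradical_eq_sInf]
    apply le_sInf
    intro p hp
    haveI : p.IsPrime := hp
    obtain ⟨q, hq⟩ := (Spec.map π).surjective ⟨p, hp⟩
    have h3 : p = Ideal.comap π.hom q.asIdeal := by
      have := congrArg PrimeSpectrum.asIdeal hq
      exact this.symm
    rw [h3]
    exact Ideal.ker_le_comap _

end Groth.Agent.H7.NilLiftSch

namespace Groth.Agent.H7.NilLiftSch

open Groth.Agent.H7.NilLift

/-- **smooth morphisms of affine schemes have the lifting property along affine thickenings.** -/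
theorem exists_affine_smooth_lift {U Y V V₀ : Scheme.{u}} [IsAffine U] [IsAffine Y] [IsAffine V]
    (h : U ⟶ Y) [Smooth h] (i₀ : V₀ ⟶ V) (hi : AlgSp.thick i₀) (α : V₀ ⟶ U) (β : V ⟶ Y)
    (w : i₀ ≫ β = α ≫ h) : ∃ l : V ⟶ U, l ≫ h = β ∧ i₀ ≫ l = α := by
  haveI : IsClosedImmersion i₀ := hi.1
  haveI : Surjective i₀ := hi.2
  haveI : IsAffine V₀ := isAffine_of_isAffineHom i₀
  obtain ⟨φh, hφh⟩ := Spec.map_surjective (U.isoSpec.inv ≫ h ≫ Y.isoSpec.hom)
  obtain ⟨φβ, hφβ⟩ := Spec.map_surjective (V.isoSpec.inv ≫ β ≫ Y.isoSpec.hom)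
  obtain ⟨φα, hφα⟩ := Spec.map_surjective (V₀.isoSpec.inv ≫ α ≫ U.isoSpec.hom)
  obtain ⟨φπ, hφπ⟩ := Spec.map_surjective (V₀.isoSpec.inv ≫ i₀ ≫ V.isoSpec.hom)
  have hsm : φh.hom.Smooth := by
    rw [← HasRingHomProperty.Spec_iff (P := @Smooth), hφh]
    infer_instance
  have hth : AlgSp.thick (Spec.map φπ) := by
    rw [hφπ]
    exact ⟨inferInstance, inferInstance⟩
  obtain ⟨hπs, hπn⟩ := surjective_and_ker_le_of_thick φπ hth
  have hw : φβ ≫ φπ = φh ≫ φα := by
    apply Spec.map_injective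
    rw [Spec.map_comp, Spec.map_comp, hφβ, hφπ, hφh, hφα]
    simp only [Category.assoc, Iso.hom_inv_id_assoc]
    rw [reassoc_of% w]
  have hw' : φπ.hom.comp φβ.hom = φα.hom.comp φh.hom := by
    have := congrArg CommRingCat.Hom.hom hw
    simpa using this
  obtain ⟨l, hl1, hl2⟩ := exists_smooth_lift_nil' φh.hom hsm φβ.hom φα.hom φπ.hom hπs hπn hw'
  refine ⟨V.isoSpec.hom ≫ Spec.map (CommRingCat.ofHom l) ≫ U.isoSpec.inv, ?_, ?_⟩
  · have e1 : U.isoSpec.inv ≫ h = Spec.map φh ≫ Y.isoSpec.inv := by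
      rw [hφh]; simp
    have e2 : CommRingCat.ofHom l = CommRingCat.ofHom l := rfl
    have e3 : φh ≫ CommRingCat.ofHom l = φβ := by
      ext x
      exact congrArg (fun m => m x) hl1
    rw [Category.assoc, Category.assoc, e1, ← Spec.map_comp_assoc, e3, hφβ]
    simp
  · have e1 : i₀ ≫ V.isoSpec.hom = V₀.isoSpec.hom ≫ Spec.map φπ := by
      rw [hφπ]; simp
    have e3 : CommRingCat.ofHom l ≫ φπ = φα := by
      ext x
      exact congrArg (fun m => m x) hl2
    rw [reassoc_of% e1, ← Spec.map_comp_assoc, e3, hφα]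
    simp

end Groth.Agent.H7.NilLiftSch

namespace Groth.Agent.H7.NilLiftSch

open Groth.Agent.H7.NilLift

/-- **local lifting of etale schemes along thickenings of affine schemes.** -/
theorem exists_local_etale_lift_thick {W W' P : Scheme.{u}} [IsAffine W'] (t : W ⟶ W')
    (ht : AlgSp.thick t) (p : P ⟶ W) [Etale p] (x : P) :
    ∃ (V V₀ : Scheme.{u}) (q : V ⟶ W') (i₀ : V₀ ⟶ V) (r : V₀ ⟶ P),
      IsAffine V ∧ IsAffine V₀ ∧ Etale q ∧ IsOpenImmersion r ∧ x ∈ Set.range r ∧
      IsPullback i₀ (r ≫ p) q t := by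
  haveI : IsClosedImmersion t := ht.1
  haveI : Surjective t := ht.2
  haveI : IsAffine W := isAffine_of_isAffineHom t
  let k := P.affineCover.idx x
  let W₀ := P.affineCover.X k
  let E : CommRingCat.{u} := Γ(W₀, ⊤)
  let r : Spec E ⟶ P := W₀.isoSpec.inv ≫ P.affineCover.f k
  obtain ⟨φ, hφ⟩ := Spec.map_surjective (r ≫ p ≫ W.isoSpec.hom)
  obtain ⟨π, hπ⟩ := Spec.map_surjective (W.isoSpec.inv ≫ t ≫ W'.isoSpec.hom)
  have hre : Etale (r ≫ p ≫ W.isoSpec.hom) := inferInstance
  rw [← hφ, HasRingHomProperty.Spec_iff (P := @Etale)] at hre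
  letI : Algebra Γ(W, ⊤) E := φ.hom.toAlgebra
  haveI : Algebra.Etale Γ(W, ⊤) E := hre
  have hth : AlgSp.thick (Spec.map π) := by
    rw [hπ]
    exact ⟨inferInstance, inferInstance⟩
  obtain ⟨hπs, hπn⟩ := surjective_and_ker_le_of_thick π hth
  obtain ⟨E', _, _, hE', πE, hπE, hker, hcomm⟩ := exists_etale_lift_nil π.hom hπs hπn E
  have hpo := isPushout_of_ker_eq' π.hom hπs (algebraMap Γ(W', ⊤) E') πE φ.hom hπE hker hcomm
  have hpb := isPullback_SpecMap_of_isPushout _ _ _ _ hpo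
  refine ⟨Spec (.of E'), Spec E, Spec.map (CommRingCat.ofHom (algebraMap Γ(W', ⊤) E')) ≫
    W'.isoSpec.inv, Spec.map (CommRingCat.ofHom πE), r, inferInstance, inferInstance, ?_,
    inferInstance, ?_, ?_⟩
  · haveI : Etale (Spec.map (CommRingCat.ofHom (algebraMap Γ(W', ⊤) E'))) := by
      rw [HasRingHomProperty.Spec_iff (P := @Etale)]
      exact RingHom.etale_algebraMap.2 hE'
    infer_instance
  · obtain ⟨y, hy⟩ := P.affineCover.covers x
    refine ⟨W₀.isoSpec.hom y, ?_⟩
    change (W₀.isoSpec.inv ≫ P.affineCover.f k) (W₀.isoSpec.hom y) = x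
    rw [← Scheme.Hom.comp_apply, Iso.hom_inv_id_assoc]
    exact hy
  · refine IsPullback.of_iso hpb (Iso.refl _) (Iso.refl _) W.isoSpec.symm W'.isoSpec.symm
      ?_ ?_ ?_ ?_
    · exact (Category.comp_id _).trans (Category.id_comp _).symm
    · change Spec.map φ ≫ W.isoSpec.inv = 𝟙 _ ≫ r ≫ p
      rw [hφ]; simp
    · exact (Category.id_comp _).symm
    · change Spec.map π ≫ W'.isoSpec.inv = W.isoSpec.inv ≫ t
      rw [hπ]; simp

end Groth.Agent.H7.NilLiftSch
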