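import Groth.Agent.Lib.Helper3.Decent.FinComp
import Groth.Agent.Lib.Helper3.Decent.Sober
import Groth.Agent.Lib.Helper3.AlgSpMor.LocFinIrrSp
import Groth.Agent.Lib.Helper3.AlgSpMor.LocFinIrr
import Groth.Agent.Lib.Helper5.AlgSp.DecentGen
import Groth.Agent.Lib.Helper5.AlgSp.Points
import Groth.Agent.Lib.Helper9.Misc.FinBir
import Mathlib

/-!
# Normal integral algebraic spaces: integral normal affine étale charts (S10492)
-/

set_option autoImplicit false
universe u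

open AlgebraicGeometry CategoryTheory Limits TopologicalSpace

namespace Groth.Agent.H7.NormIntSp

open _root_.AlgSp Groth.Agent.H5.AlgSp Groth.Agent.H3.Decent Groth.Agent.H3.LocFinIrr


variable {S : Scheme.{u}}

/-- maximal points (points without proper generizations) of an affine étale chart of a decent
space with irreducible space of points are finite in number. -/
theorem finite_gen_of_affine_chart {X : Sp S} (hX : IsAlgSpace X) (hd : IsDecent X)
    [IrreducibleSpace (Points X)] {U : Over S} [IsAffine U.left] {φ : (yon S).obj U ⟶ X}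
    (hφ : RepWith @Etale φ) : {ξ : ↥U.left | ∀ ξ' : ↥U.left, ξ' ⤳ ξ → ξ' = ξ}.Finite := by
  haveI := quasiSober_points_of_isDecent hX hd
  obtain ⟨p, hp, -, hq⟩ := hd (genericPoint (Points X))
  have hpm : Points.mk (fpOfHom p.str p.toHom) = genericPoint (Points X) := by
    rw [toHom_eq_fpHom, fpOfHom_fpHom]
    exact hp
  have hfin := finite_fibre_of_quasiCompact_point hφ p.str p.toHom hq
  refine hfin.subset ?_
  intro ξ hξ
  have hspec : Points.mk (fpOfHom p.str p.toHom) ⤳ Points.ofPt φ ξ := by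
    rw [hpm]
    exact genericPoint_specializes _
  obtain ⟨ξ', hξ', hξ'x⟩ := exists_specializes_of_quasiCompact_point hφ p.str p.toHom hq ξ hspec
  change Points.ofPt φ ξ = _
  rw [← hξ'x, hξ ξ' hξ']


/-- In a scheme whose local rings are domains, a point has at most one maximal generization. -/
theorem gen_unique_of_isDomain_stalk {V : Scheme.{u}} (v : V) [IsDomain (V.presheaf.stalk v)]
    {ξ₁ ξ₂ : V} (h₁ : ξ₁ ∈ Gen V) (h₂ : ξ₂ ∈ Gen V) (hs₁ : ξ₁ ⤳ v) (hs₂ : ξ₂ ⤳ v) : ξ₁ = ξ₂ := by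
  have key : ∀ ξ : V, ξ ∈ Gen V → ξ ⤳ v →
      ξ = V.fromSpecStalk v (⊥ : PrimeSpectrum (V.presheaf.stalk v)) := by
    intro ξ hξ hs
    have hr : ξ ∈ Set.range (V.fromSpecStalk v) := by
      rw [Scheme.range_fromSpecStalk]; exact hs
    obtain ⟨q, rfl⟩ := hr
    have hbq : (⊥ : PrimeSpectrum (V.presheaf.stalk v)) ⤳ q := by
      rw [← PrimeSpectrum.le_iff_specializes]
      exact bot_le
    have h1 := hbq.map (V.fromSpecStalk v).continuous
    exact ((hξ _ h1).antisymm h1).eq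
  rw [key ξ₁ h₁ hs₁, key ξ₂ h₂ hs₂]

/-- A point of an open `W` with finitely many maximal points in a scheme whose local rings are
domains has an integral affine open neighbourhood inside `W`. -/
theorem exists_integral_affine_nbhd {V : Scheme.{u}}
    (hdom : ∀ v : V, IsDomain (V.presheaf.stalk v))
    (W : V.Opens) (hfin : {ξ : ↥W | ∀ ξ' : ↥W, ξ' ⤳ ξ → ξ' = ξ}.Finite) (v : V) (hv : v ∈ W) :
    ∃ O : V.Opens, IsAffineOpen O ∧ v ∈ O ∧ O ≤ W ∧ IsIntegral O.toScheme := by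
  have hTfin : (Subtype.val '' {ξ : ↥W | ∀ ξ' : ↥W, ξ' ⤳ ξ → ξ' = ξ}).Finite := hfin.image _
  have hmax : ∀ ξ : V, ξ ∈ W → ξ ∈ Gen V →
      ξ ∈ Subtype.val '' {ξ : ↥W | ∀ ξ' : ↥W, ξ' ⤳ ξ → ξ' = ξ} := by
    intro ξ hξW hξ
    refine ⟨⟨ξ, hξW⟩, ?_, rfl⟩
    intro ξ' hξ'
    have h1 : (ξ' : V) ⤳ ξ := (subtype_specializes_iff _ _).1 hξ'
    exact Subtype.ext ((h1.antisymm (hξ _ h1)).eq)
  obtain ⟨ξ₀, hξ₀, hξ₀v⟩ := exists_gen_specializes v
  haveI := hdom
  have huniq : ∀ ξ : V, ξ ∈ Gen V → ξ ⤳ v → ξ = ξ₀ := fun ξ hξ hs =>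
    gen_unique_of_isDomain_stalk v hξ hξ₀ hs hξ₀v
  obtain ⟨C, hC⟩ : ∃ C : Set V, C = ⋃ ξ ∈ (Subtype.val '' {ξ : ↥W | ∀ ξ' : ↥W, ξ' ⤳ ξ → ξ' = ξ}) \ {ξ₀},
      closure {ξ} := ⟨_, rfl⟩
  have hCcl : IsClosed C := by
    rw [hC]
    exact (hTfin.subset Set.sdiff_subset).isClosed_biUnion fun _ _ => isClosed_closure
  have hvC : v ∉ C := by
    rw [hC]
    intro h
    obtain ⟨ξ, ⟨hξT, hξne⟩, hvξ⟩ := Set.mem_iUnion₂.1 h
    obtain ⟨w, hw, rfl⟩ := hξT
    apply hξne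
    have hs : (w : V) ⤳ v := specializes_iff_mem_closure.2 hvξ
    have hg : (w : V) ∈ Gen V := by
      intro y hy
      have hyW : y ∈ W := hy.mem_open W.2 w.2
      have := hw ⟨y, hyW⟩ ((subtype_specializes_iff _ _).2 hy)
      rw [← this]
    exact huniq _ hg hs
  obtain ⟨O₁, hO₁⟩ : ∃ O₁ : V.Opens, O₁ = W ⊓ ⟨Cᶜ, hCcl.isOpen_compl⟩ := ⟨_, rfl⟩
  have hvO₁ : v ∈ O₁ := by
    rw [hO₁]; exact ⟨hv, hvC⟩
  have hO₁sub : (O₁ : Set V) ⊆ closure {ξ₀} := by
    intro y hy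
    rw [hO₁] at hy
    obtain ⟨hyW, hyC⟩ := hy
    obtain ⟨ξ, hξ, hξy⟩ := exists_gen_specializes y
    have hξW : ξ ∈ W := hξy.mem_open W.2 hyW
    have hξT := hmax ξ hξW hξ
    by_cases hne : ξ = ξ₀
    · rw [← hne]; exact specializes_iff_mem_closure.1 hξy
    · exfalso
      apply hyC
      rw [hC]
      exact Set.mem_iUnion₂.2 ⟨ξ, ⟨hξT, hne⟩, specializes_iff_mem_closure.1 hξy⟩
  obtain ⟨O, hOaff, hvO, hOsub⟩ := exists_isAffineOpen_mem_and_subset (x := v) (U := O₁) hvO₁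
  have hOW : O ≤ W := by
    intro y hy
    have := hOsub hy
    rw [hO₁] at this
    exact this.1
  refine ⟨O, hOaff, hvO, hOW, ?_⟩
  have hpre : IsPreirreducible (O : Set V) :=
    (isIrreducible_singleton (x := ξ₀)).closure.isPreirreducible.open_subset O.2
      (hOsub.trans hO₁sub)
  have hirr : IsIrreducible (O : Set V) := ⟨⟨v, hvO⟩, hpre⟩
  haveI : IrreducibleSpace ↥O.toScheme := Subtype.irreducibleSpace hirr
  haveI : IsReduced V := isReduced_of_isReduced_stalk V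
  haveI : IsReduced O.toScheme := isReduced_of_isOpenImmersion O.ι
  exact isIntegral_of_irreducibleSpace_of_isReduced _


theorem S10492_main {S : Scheme.{u}} (X : AlgSp.Space S)
    (hXi : AlgSp.IsIntegralSp X.obj)
    (hXn : AlgSp.EtaleLocally (fun U => ∀ u : ↥U, IsDomain ↥(U.presheaf.stalk u) ∧
      IsIntegrallyClosed ↥(U.presheaf.stalk u)) X.obj)
    (x : AlgSp.Points X.obj) :
    ∃ (U : Over S) (a : (AlgSp.yon S).obj U ⟶ X.obj), AlgSp.RepWith @Etale a ∧ IsAffine U.left ∧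
      IsIntegral U.left ∧ IsIntegrallyClosed ↥Γ(U.left, ⊤) ∧ x ∈ Set.range (AlgSp.Points.ofPt a) := by
  obtain ⟨hXr, hd, hirr⟩ := hXi
  haveI := hirr
  obtain ⟨V, p, hpe, hps, hst⟩ := hXn
  obtain ⟨v, rfl⟩ := ofPt_surjective_of_repWith hps x
  obtain ⟨W, hWaff, hvW, -⟩ := exists_isAffineOpen_mem_and_subset (x := v) (U := ⊤) trivial
  have hchart := open_chart p hpe W
  haveI : IsAffine (Over.mk (W.ι ≫ V.hom)).left := hWaff
  have hfin := finite_gen_of_affine_chart X.property hd hchart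
  obtain ⟨O, hOaff, hvO, hOW, hOint⟩ :=
    exists_integral_affine_nbhd (fun v => (hst v).1) W hfin v hvW
  refine ⟨Over.mk (O.ι ≫ V.hom), (yon S).map (Over.homMk O.ι rfl) ≫ p, open_chart p hpe O,
    hOaff, hOint, ?_, ⟨⟨v, hvO⟩, ?_⟩⟩
  · haveI : IsIntegral O.toScheme := hOint
    haveI : IsAffine O.toScheme := hOaff
    refine Groth.Agent.H9.FinBir.intClosed_sections (Y := O.toScheme) ?_ ⊤ (isAffineOpen_top _)
    intro y
    haveI := (hst y.1).2
    exact IsIntegrallyClosed.of_equiv (O.stalkIso y).commRingCatIsoToRingEquiv.symm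
  · rw [ofPt_yon_map_comp]
    rfl

end Groth.Agent.H7.NormIntSp
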