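import Mathlib
import Groth.Prelude.Def_Curves
import Groth.Agent.Lib.Helper7.C1Br
import Groth.Agent.Lib.Helper7.FinCyc
import Groth.Agent.Lib.Helper1.CiFields

/-!
# Norms in finite Galois extensions of `C₁` fields: surjectivity and the kernel (`Ĥ⁻¹ = 0`)
-/

set_option autoImplicit false

namespace Groth.Agent.H7.NormKer
universe u
open MvPolynomial

/-- over a `C₁` field the norm of every finite extension is surjective. -/
theorem norm_surjective_of_isCr {K L : Type u} [Field K] [Field L] [Algebra K L]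
    [FiniteDimensional K L] (hK : Curves.IsCr K 1) :
    Function.Surjective (Algebra.norm K : L → K) := by
  classical
  intro a
  by_cases ha : a = 0
  · exact ⟨0, by rw [Algebra.norm_zero, ha]⟩
  set n := Module.finrank K L with hn
  have hnpos : 0 < n := Module.finrank_pos
  let b : Module.Basis (Fin n) K L := Module.finBasis K L
  let ρ : L →ₐ[K] Matrix (Fin n) (Fin n) K := Algebra.leftMulMatrix b
  let F : MvPolynomial (Fin n) K := (C1Br.genMat ρ b).det
  have hF : F.IsHomogeneous n := C1Br.isHomogeneous_det_genMat ρ b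
  have hFe : ∀ z : Fin n → K, eval z F = Algebra.norm K (∑ i, z i • b i) := by
    intro z
    have := C1Br.eval_det_genMat ρ b z
    rw [Algebra.norm_eq_matrix_det b]
    exact this
  let G : MvPolynomial (Fin (n + 1)) K := rename Fin.castSucc F - C a * X (Fin.last n) ^ n
  have hG : G.IsHomogeneous n := by
    apply IsHomogeneous.sub
    · exact hF.rename_isHomogeneous
    · have := (isHomogeneous_X_pow (R := K) (Fin.last n) n).C_mul a
      exact this
  obtain ⟨z, hz0, hz⟩ := hK (n + 1) n G hG hnpos (by rw [pow_one]; exact Nat.lt_succ_self n)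
  have hz' : Algebra.norm K (∑ i, z (Fin.castSucc i) • b i) = a * z (Fin.last n) ^ n := by
    have : eval z G = 0 := hz
    simp only [G, map_sub, map_mul, map_pow, eval_C, eval_X, eval_rename] at this
    rw [← hFe]
    exact sub_eq_zero.mp this
  by_cases ht : z (Fin.last n) = 0
  · exfalso
    rw [ht, zero_pow hnpos.ne', mul_zero, Algebra.norm_eq_zero_iff] at hz'
    have h1 : ∀ i, z (Fin.castSucc i) = 0 := by
      have := Fintype.linearIndependent_iff.mp b.linearIndependent (fun i => z (Fin.castSucc i)) hz'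
      exact this
    apply hz0
    funext j
    refine Fin.lastCases ?_ (fun i => ?_) j
    · exact ht
    · exact h1 i
  · refine ⟨(∑ i, z (Fin.castSucc i) • b i) * (algebraMap K L (z (Fin.last n)))⁻¹, ?_⟩
    rw [map_mul, Algebra.norm_inv, Algebra.norm_algebraMap, hz', ← hn, mul_assoc,
      mul_inv_cancel₀ (pow_ne_zero _ ht), mul_one]


section H90
variable {K L : Type*} [Field K] [Field L] [Algebra K L] [FiniteDimensional K L] [IsGalois K L]

/-- partial norms along a cyclic generator. -/
noncomputable def pn (g : L ≃ₐ[K] L) (x : L) (i : ℕ) : L := ∏ j ∈ Finset.range i, (g ^ j) x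

omit [FiniteDimensional K L] [IsGalois K L] in
theorem pn_zero (g : L ≃ₐ[K] L) (x : L) : pn g x 0 = 1 := by
  simp [pn]

omit [FiniteDimensional K L] [IsGalois K L] in
theorem pn_succ (g : L ≃ₐ[K] L) (x : L) (i : ℕ) : pn g x (i + 1) = x * g (pn g x i) := by
  unfold pn
  rw [Finset.prod_range_succ', map_prod, pow_zero, AlgEquiv.one_apply, mul_comm]
  congr 1
  apply Finset.prod_congr rfl
  intro j _
  rw [pow_succ', AlgEquiv.mul_apply]

theorem prod_aut_eq (g : L ≃ₐ[K] L) (hg : ∀ σ : L ≃ₐ[K] L, σ ∈ Subgroup.zpowers g) (f : (L ≃ₐ[K] L) → L) :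
    ∏ σ : L ≃ₐ[K] L, f σ = ∏ j ∈ Finset.range (orderOf g), f (g ^ j) := by
  classical
  have hfin : IsOfFinOrder g := isOfFinOrder_of_finite g
  have himg : (Finset.univ : Finset (L ≃ₐ[K] L)) = (Finset.range (orderOf g)).image (fun j => g ^ j) := by
    ext σ
    simp only [Finset.mem_univ, Finset.mem_image, Finset.mem_range, true_iff]
    have h1 := hg σ
    rw [← mem_powers_iff_mem_zpowers, mem_powers_iff_mem_range_orderOf] at h1
    simpa using h1
  rw [himg, Finset.prod_image]
  intro i hi j hj hij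
  exact pow_injOn_Iio_orderOf (by simpa using hi) (by simpa using hj) hij

theorem pn_orderOf (g : L ≃ₐ[K] L) (hg : ∀ σ : L ≃ₐ[K] L, σ ∈ Subgroup.zpowers g) (x : L)
    (hx : Algebra.norm K x = 1) : pn g x (orderOf g) = 1 := by
  unfold pn
  rw [← prod_aut_eq g hg (fun σ => σ x), ← Algebra.norm_eq_prod_automorphisms, hx, map_one]

/-- Hilbert 90 for cyclic extensions (universe polymorphic). -/
theorem hilbert90_cyclic (g : L ≃ₐ[K] L) (hg : ∀ σ : L ≃ₐ[K] L, σ ∈ Subgroup.zpowers g) (x : L)
    (hx : Algebra.norm K x = 1) : ∃ y : L, y ≠ 0 ∧ x * g y = y := by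
  classical
  obtain ⟨n, hn⟩ : ∃ n, n = orderOf g := ⟨_, rfl⟩
  have hnpos : 0 < n := hn ▸ orderOf_pos g
  have hgn : g ^ n = 1 := hn ▸ pow_orderOf_eq_one g
  have hcn : pn g x n = 1 := hn ▸ pn_orderOf g hg x hx
  let R : L → L := fun z => ∑ i ∈ Finset.range n, pn g x i * (g ^ i) z
  have hR : ∀ z, x * g (R z) = R z := by
    intro z
    show x * g (∑ i ∈ Finset.range n, pn g x i * (g ^ i) z) = ∑ i ∈ Finset.range n, pn g x i * (g ^ i) z
    rw [map_sum, Finset.mul_sum]
    have h1 : ∀ i ∈ Finset.range n, x * g (pn g x i * (g ^ i) z) = pn g x (i + 1) * (g ^ (i + 1)) z := by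
      intro i _
      rw [map_mul, ← mul_assoc, ← pn_succ, pow_succ', AlgEquiv.mul_apply]
    rw [Finset.sum_congr rfl h1]
    have h2 := Finset.sum_range_succ' (fun i => pn g x i * (g ^ i) z) n
    have h3 := Finset.sum_range_succ (fun i => pn g x i * (g ^ i) z) n
    simp only [pn_zero, pow_zero, AlgEquiv.one_apply, one_mul] at h2
    rw [hcn, hgn, AlgEquiv.one_apply, one_mul] at h3
    have h4 := h2.symm.trans h3
    exact add_right_cancel h4
  have hex : ∃ z, R z ≠ 0 := by
    by_contra hcon
    push Not at hcon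
    let v : Fin n → (L →* L) := fun i => ((g ^ (i : ℕ) : L ≃ₐ[K] L) : L →* L)
    have hvinj : Function.Injective v := by
      intro i j hij
      have h1 : (g ^ (i : ℕ) : L ≃ₐ[K] L) = g ^ (j : ℕ) := by
        ext z
        exact DFunLike.congr_fun hij z
      apply Fin.ext
      exact pow_injOn_Iio_orderOf (by simpa [← hn] using i.2) (by simpa [← hn] using j.2) h1
    have hli : LinearIndependent L (fun i : Fin n => (v i : L → L)) :=
      (linearIndependent_monoidHom L L).comp v hvinj
    have hsum : ∑ i : Fin n, pn g x i • (v i : L → L) = 0 := by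
      funext z
      rw [Finset.sum_apply, Pi.zero_apply, ← hcon z]
      show _ = ∑ i ∈ Finset.range n, pn g x i * (g ^ i) z
      rw [← Fin.sum_univ_eq_sum_range (fun i => pn g x i * (g ^ i) z) n]
      rfl
    have h0 := Fintype.linearIndependent_iff.mp hli (fun i => pn g x i) hsum ⟨0, hnpos⟩
    simp only [pn_zero] at h0
    exact one_ne_zero h0
  obtain ⟨z, hz⟩ := hex
  exact ⟨R z, hz, hR z⟩

end H90


section Defs
variable (K L : Type*) [Field K] [Field L] [Algebra K L]

/-- the subgroup generated by the `w / g w`. -/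
def Iker : Subgroup Lˣ :=
  Subgroup.closure {v : Lˣ | ∃ (w : Lˣ) (g : L ≃ₐ[K] L), (v : L) = (w : L) / g (w : L)}

/-- norm-one units are products of `w / g w`. -/
def Claim : Prop := ∀ u : Lˣ, Algebra.norm K (u : L) = 1 → u ∈ Iker K L

variable {K L}

theorem div_mem_Iker (w : Lˣ) (g : L ≃ₐ[K] L) :
    w / Units.map (g : L →* L) w ∈ Iker K L := by
  apply Subgroup.subset_closure
  exact ⟨w, g, by rw [Units.val_div_eq_div_val]; rfl⟩

theorem norm_eq_one_of_mem_Iker [FiniteDimensional K L] (u : Lˣ) (hu : u ∈ Iker K L) :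
    Algebra.norm K (u : L) = 1 := by
  induction hu using Subgroup.closure_induction with
  | mem v hv =>
    obtain ⟨w, g, hw⟩ := hv
    have h1 : Algebra.norm K (g (w : L)) = Algebra.norm K (w : L) :=
      (Algebra.norm_eq_of_algEquiv g (w : L))
    rw [hw, div_eq_mul_inv, map_mul, Algebra.norm_inv, h1, mul_inv_cancel₀]
    rw [Ne, Algebra.norm_eq_zero_iff]
    exact w.ne_zero
  | one => simp
  | mul a b _ _ ha hb => rw [Units.val_mul, map_mul, ha, hb, one_mul]
  | inv a _ ha => rw [Units.val_inv_eq_inv_val, Algebra.norm_inv, ha, inv_one]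

theorem claim_of_cyclic [FiniteDimensional K L] [IsGalois K L] [IsCyclic (L ≃ₐ[K] L)] :
    Claim K L := by
  intro u hu
  obtain ⟨g, hg⟩ := IsCyclic.exists_generator (α := L ≃ₐ[K] L)
  obtain ⟨y, hy0, hy⟩ := hilbert90_cyclic g hg (u : L) hu
  apply Subgroup.subset_closure
  refine ⟨Units.mk0 y hy0, g, ?_⟩
  rw [Units.val_mk0]
  have hgy : g y ≠ 0 := by
    rw [Ne, map_eq_zero_iff g g.injective]; exact hy0
  rw [eq_div_iff hgy, hy]

end Defs

section Trans
variable (K L : Type u) [Field K] [Field L] [Algebra K L] [FiniteDimensional K L] [IsGalois K L]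

theorem Iker_le_of_tower (M : IntermediateField K L) : 
    Iker M L ≤ Iker K L := by
  unfold Iker
  rw [Subgroup.closure_le]
  rintro v ⟨w, h, hw⟩
  apply Subgroup.subset_closure
  exact ⟨w, h.restrictScalars K, hw⟩

theorem claim_trans (H : Subgroup (L ≃ₐ[K] L)) [H.Normal]
    (hM : Claim K (IntermediateField.fixedField H))
    (hL : Claim (IntermediateField.fixedField H) L)
    (hsurj : Function.Surjective
      (Algebra.norm (IntermediateField.fixedField H) : L → IntermediateField.fixedField H)) :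
    Claim K L := by
  obtain ⟨M, hMdef⟩ : ∃ M, M = IntermediateField.fixedField H := ⟨_, rfl⟩
  rw [← hMdef] at hM hL hsurj
  haveI : IsGalois K M := hMdef ▸ IsGalois.of_fixedField_normal_subgroup H
  let ν : Lˣ →* Mˣ := Units.map (Algebra.norm M : L →* M)
  have key : ∀ v' ∈ Iker K M, ∃ z ∈ Iker K L, ν z = v' := by
    intro v' hv'
    induction hv' using Subgroup.closure_induction with
    | mem v hv =>
      obtain ⟨w, gbar, hw⟩ := hv
      obtain ⟨z₀, hz₀⟩ := hsurj (w : M)
      have hz₀0 : z₀ ≠ 0 := by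
        rintro rfl
        rw [Algebra.norm_zero] at hz₀
        exact w.ne_zero hz₀.symm
      obtain ⟨g, hg⟩ := AlgEquiv.restrictNormalHom_surjective L gbar
      refine ⟨Units.mk0 z₀ hz₀0 / Units.map (g : L →* L) (Units.mk0 z₀ hz₀0), div_mem_Iker _ g, ?_⟩
      apply Units.ext
      rw [map_div, Units.val_div_eq_div_val, hw]
      have h1 : Algebra.norm M (g z₀) = gbar (Algebra.norm M z₀) := by
        have he : RingHom.comp (algebraMap M L) ((gbar : M ≃+* M) : M →+* M)
            = RingHom.comp ((g : L ≃+* L) : L →+* L) (algebraMap M L) := by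
          ext m
          simp only [RingHom.coe_comp, RingHom.coe_coe, Function.comp_apply]
          rw [← hg]
          exact AlgEquiv.restrictNormal_commutes g M m
        have := Algebra.norm_eq_of_equiv_equiv (gbar : M ≃+* M) (g : L ≃+* L) he z₀
        rw [this]
        simp
      show (Algebra.norm M z₀) / (Algebra.norm M (g z₀)) = _
      rw [h1, hz₀]
    | one => exact ⟨1, Subgroup.one_mem _, map_one ν⟩
    | mul a b _ _ ha hb =>
      obtain ⟨za, hza, hza'⟩ := ha
      obtain ⟨zb, hzb, hzb'⟩ := hb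
      exact ⟨za * zb, Subgroup.mul_mem _ hza hzb, by rw [map_mul, hza', hzb']⟩
    | inv a _ ha =>
      obtain ⟨za, hza, hza'⟩ := ha
      exact ⟨za⁻¹, Subgroup.inv_mem _ hza, by rw [map_inv, hza']⟩
  intro u hu
  have hv : Algebra.norm K ((ν u : Mˣ) : M) = 1 := by
    show Algebra.norm K (Algebra.norm M (u : L)) = 1
    rw [Algebra.norm_norm, hu]
  obtain ⟨z, hz, hzν⟩ := key (ν u) (hM (ν u) hv)
  have h1 : Algebra.norm M ((u / z : Lˣ) : L) = 1 := by
    have : ν (u / z) = 1 := by rw [map_div, hzν, div_self']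
    exact congrArg Units.val this
  have h2 := Iker_le_of_tower K L M (hL (u / z) h1)
  have h3 : u = (u / z) * z := by rw [div_mul_cancel]
  rw [h3]
  exact Subgroup.mul_mem _ h2 hz

end Trans


section Transfer
variable (K L : Type u) [Field K] [Field L] [Algebra K L] [FiniteDimensional K L] [IsGalois K L]

/-- coset decomposition `H × G/H ≃ G`, `(h, q) ↦ h * (out q)⁻¹`. -/
theorem coset_bij {G : Type*} [Group G] (H : Subgroup G) :
    Function.Bijective (fun p : H × (G ⧸ H) => (p.1 : G) * (Quotient.out p.2)⁻¹) := by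
  constructor
  · rintro ⟨h, q⟩ ⟨h', q'⟩ heq
    simp only at heq
    have h1 : (Quotient.out q' : G) = Quotient.out q * ((h : G)⁻¹ * h') := by
      have : (Quotient.out q : G)⁻¹ = (h : G)⁻¹ * h' * (Quotient.out q')⁻¹ := by
        rw [mul_assoc, ← heq, inv_mul_cancel_left]
      have h2 := congrArg (fun t => t⁻¹) this
      simp only [inv_inv, mul_inv_rev] at h2
      rw [h2]
      group
    have h2 : q' = q := by
      have : ((Quotient.out q : G) : G ⧸ H) = ((Quotient.out q' : G) : G ⧸ H) := by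
        rw [QuotientGroup.eq, h1, inv_mul_cancel_left]
        exact H.mul_mem (H.inv_mem h.2) h'.2
      rw [QuotientGroup.out_eq', QuotientGroup.out_eq'] at this
      exact this.symm
    subst h2
    have h3 : (h : G) = h' := mul_right_cancel heq
    exact Prod.ext (Subtype.ext h3) rfl
  · intro g
    have hmem : g * Quotient.out ((g⁻¹ : G) : G ⧸ H) ∈ H := by
      have : ((Quotient.out ((g⁻¹ : G) : G ⧸ H) : G) : G ⧸ H) = ((g⁻¹ : G) : G ⧸ H) :=
        Quotient.out_eq' _
      rw [eq_comm, QuotientGroup.eq, inv_inv] at this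
      exact this
    exact ⟨(⟨_, hmem⟩, ((g⁻¹ : G) : G ⧸ H)), by simp⟩

theorem prod_fixing_eq (H : Subgroup (L ≃ₐ[K] L)) [Fintype H] (x : L) :
    ∏ τ : L ≃ₐ[IntermediateField.fixedField H] L, τ x = ∏ h : H, (h : L ≃ₐ[K] L) x := by
  let e : (L ≃ₐ[IntermediateField.fixedField H] L) ≃ H :=
    ((IntermediateField.fixingSubgroupEquiv (IntermediateField.fixedField H)).symm.toEquiv).trans
      (Equiv.setCongr (congrArg (fun S : Subgroup (L ≃ₐ[K] L) => (S : Set (L ≃ₐ[K] L)))
        (IntermediateField.fixingSubgroup_fixedField H)))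
  apply Fintype.prod_equiv e
  intro τ
  rfl

theorem pow_index_mem (H : Subgroup (L ≃ₐ[K] L)) (hL : Claim (IntermediateField.fixedField H) L)
    (u : Lˣ) (hu : Algebra.norm K (u : L) = 1) : u ^ H.index ∈ Iker K L := by
  classical
  haveI : Fintype H := Fintype.ofFinite H
  let r : (L ≃ₐ[K] L) ⧸ H → (L ≃ₐ[K] L) := fun q => (Quotient.out q)⁻¹
  let uH : Lˣ := ∏ q : (L ≃ₐ[K] L) ⧸ H, Units.map ((r q : L ≃ₐ[K] L) : L →* L) u
  -- (a) uH ≡ u ^ index
  have ha : uH = u ^ H.index * ∏ q : (L ≃ₐ[K] L) ⧸ H, (u / Units.map ((r q : L ≃ₐ[K] L) : L →* L) u)⁻¹ := by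
    have h1 : ∀ q : (L ≃ₐ[K] L) ⧸ H, Units.map ((r q : L ≃ₐ[K] L) : L →* L) u
        = u * (u / Units.map ((r q : L ≃ₐ[K] L) : L →* L) u)⁻¹ := by
      intro q
      rw [inv_div, mul_div_cancel]
    show ∏ q : (L ≃ₐ[K] L) ⧸ H, Units.map ((r q : L ≃ₐ[K] L) : L →* L) u = _
    rw [Finset.prod_congr rfl (fun q _ => h1 q), Finset.prod_mul_distrib, Finset.prod_const,
      Finset.card_univ, Subgroup.index_eq_card, Nat.card_eq_fintype_card]
  have hmem : ∏ q : (L ≃ₐ[K] L) ⧸ H, (u / Units.map ((r q : L ≃ₐ[K] L) : L →* L) u)⁻¹ ∈ Iker K L :=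
    Subgroup.prod_mem _ fun q _ => Subgroup.inv_mem _ (div_mem_Iker u (r q))
  -- (b) the norm of uH over the fixed field is one
  have hb : Algebra.norm (IntermediateField.fixedField H) ((uH : Lˣ) : L) = 1 := by
    apply (algebraMap (IntermediateField.fixedField H) L).injective
    rw [Algebra.norm_eq_prod_automorphisms, prod_fixing_eq, map_one]
    have h2 : algebraMap K L (Algebra.norm K (u : L)) = 1 := by rw [hu, map_one]
    rw [Algebra.norm_eq_prod_automorphisms] at h2
    rw [← h2]
    have h3 := Fintype.prod_bijective _ (coset_bij H)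
      (fun p : H × ((L ≃ₐ[K] L) ⧸ H) => ((p.1 : L ≃ₐ[K] L) * (Quotient.out p.2)⁻¹) (u : L))
      (fun σ => σ (u : L)) (fun p => rfl)
    rw [← h3, Fintype.prod_prod_type]
    apply Finset.prod_congr rfl
    intro h _
    show (h : L ≃ₐ[K] L) ((∏ q : (L ≃ₐ[K] L) ⧸ H, Units.map ((r q : L ≃ₐ[K] L) : L →* L) u : Lˣ) : L) = _
    rw [Units.coe_prod, map_prod]
    rfl
  have hc := Iker_le_of_tower K L _ (hL uH hb)
  have : u ^ H.index = uH * (∏ q : (L ≃ₐ[K] L) ⧸ H, (u / Units.map ((r q : L ≃ₐ[K] L) : L →* L) u)⁻¹)⁻¹ := by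
    rw [ha, mul_inv_cancel_right]
  rw [this]
  exact Subgroup.mul_mem _ hc (Subgroup.inv_mem _ hmem)

end Transfer


section Ind

theorem card_aut_fixedField (K L : Type u) [Field K] [Field L] [Algebra K L]
    [FiniteDimensional K L] [IsGalois K L] (H : Subgroup (L ≃ₐ[K] L)) :
    Nat.card (L ≃ₐ[IntermediateField.fixedField H] L) = Nat.card H := by
  rw [IsGalois.card_aut_eq_finrank, IntermediateField.finrank_fixedField_eq_card]

theorem claim_pgroup (p : ℕ) [Fact p.Prime] : ∀ (k : ℕ) (K L : Type u) [Field K] [Field L]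
    [Algebra K L] [FiniteDimensional K L] [IsGalois K L], Curves.IsCi K 1 →
    Nat.card (L ≃ₐ[K] L) = p ^ k → Claim K L := by
  intro k
  induction k using Nat.strong_induction_on with
  | _ k ih =>
    intro K L _ _ _ _ _ hK hcard
    have hp : p.Prime := Fact.out
    rcases Nat.lt_or_ge k 2 with hk | hk
    · -- cyclic
      haveI : IsCyclic (L ≃ₐ[K] L) := by
        interval_cases k
        · rw [pow_zero] at hcard
          haveI : Subsingleton (L ≃ₐ[K] L) := (Nat.card_eq_one_iff_unique.mp hcard).1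
          exact isCyclic_of_subsingleton
        · rw [pow_one] at hcard
          exact isCyclic_of_prime_card hcard
      exact claim_of_cyclic
    · -- a central subgroup of order `p`
      have hG : IsPGroup p (L ≃ₐ[K] L) := IsPGroup.of_card hcard
      haveI : Nontrivial (L ≃ₐ[K] L) := by
        rw [← Finite.one_lt_card_iff_nontrivial, hcard]
        exact Nat.one_lt_pow (by omega) hp.one_lt
      haveI := hG.center_nontrivial
      have hdvd : p ∣ Nat.card (Subgroup.center (L ≃ₐ[K] L)) := by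
        obtain ⟨n, hn0, hn⟩ := (hG.to_subgroup (Subgroup.center (L ≃ₐ[K] L))).nontrivial_iff_card.mp
          inferInstance
        rw [hn]
        exact dvd_pow_self p hn0.ne'
      obtain ⟨x, hx⟩ := exists_prime_orderOf_dvd_card' p hdvd
      let z : L ≃ₐ[K] L := x
      have hz : orderOf z = p := by rw [← hx]; exact Subgroup.orderOf_coe x
      let H : Subgroup (L ≃ₐ[K] L) := Subgroup.zpowers z
      haveI : H.Normal := by
        constructor
        intro n hn g
        obtain ⟨i, rfl⟩ := Subgroup.mem_zpowers_iff.mp hn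
        have hc : z ^ i ∈ Subgroup.center (L ≃ₐ[K] L) := Subgroup.zpow_mem _ x.2 i
        rw [Subgroup.mem_center_iff] at hc
        rw [hc g, mul_inv_cancel_right]
        exact Subgroup.zpow_mem_zpowers z i
      have hHcard : Nat.card H = p := by rw [Nat.card_zpowers, hz]
      -- the two smaller extensions
      have hk1 : 1 < k := by omega
      have hcardL : Nat.card (L ≃ₐ[IntermediateField.fixedField H] L) = p ^ 1 := by
        rw [card_aut_fixedField, hHcard, pow_one]
      have hKM : Curves.IsCi (IntermediateField.fixedField H) 1 := H1.CiFields.isCi_of_finite hK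
      have hL := ih 1 hk1 (IntermediateField.fixedField H) L hKM hcardL
      have hcardM : Nat.card ((IntermediateField.fixedField H) ≃ₐ[K] (IntermediateField.fixedField H))
          = p ^ (k - 1) := by
        rw [← Nat.card_congr (IsGalois.normalAutEquivQuotient H).toEquiv]
        have h1 := Subgroup.card_eq_card_quotient_mul_card_subgroup H
        rw [hcard, hHcard] at h1
        have h2 : p ^ k = p ^ (k - 1) * p := by
          rw [← pow_succ]; congr 1; omega
        rw [h2] at h1
        exact (Nat.eq_of_mul_eq_mul_right hp.pos h1).symm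
      have hM := ih (k - 1) (by omega) K (IntermediateField.fixedField H) hK hcardM
      exact claim_trans K L H hM hL (norm_surjective_of_isCr (FinCyc.isCr_of_isCi hKM))

theorem claim_general (K L : Type u) [Field K] [Field L]
    [Algebra K L] [FiniteDimensional K L] [IsGalois K L] (hK : Curves.IsCi K 1) : Claim K L := by
  intro u hu
  -- the class of `u` modulo `Iker`
  let Q := Lˣ ⧸ Iker K L
  let ubar : Q := (u : Q)
  have hpow : ∀ (p : ℕ) [Fact p.Prime] (P : Sylow p (L ≃ₐ[K] L)), ubar ^ (P : Subgroup (L ≃ₐ[K] L)).index = 1 := by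
    intro p _ P
    have hcardP : Nat.card (L ≃ₐ[IntermediateField.fixedField (P : Subgroup (L ≃ₐ[K] L))] L)
        = p ^ (Nat.card (L ≃ₐ[K] L)).factorization p := by
      rw [card_aut_fixedField, ← P.card_eq_multiplicity]
    have hKM : Curves.IsCi (IntermediateField.fixedField (P : Subgroup (L ≃ₐ[K] L))) 1 :=
      H1.CiFields.isCi_of_finite hK
    have hL := claim_pgroup p _ (IntermediateField.fixedField (P : Subgroup (L ≃ₐ[K] L))) L hKM hcardP
    have := pow_index_mem K L (P : Subgroup (L ≃ₐ[K] L)) hL u hu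
    show ((u : Q)) ^ _ = 1
    rw [← QuotientGroup.mk_pow, QuotientGroup.eq_one_iff]
    exact this
  have hord : orderOf ubar = 1 := by
    by_contra hne
    have h0 : orderOf ubar ≠ 0 := by
      haveI : Fact (2 : ℕ).Prime := ⟨Nat.prime_two⟩
      obtain ⟨P⟩ : Nonempty (Sylow 2 (L ≃ₐ[K] L)) := inferInstance
      have h1 := orderOf_dvd_of_pow_eq_one (hpow 2 P)
      intro h
      rw [h, zero_dvd_iff] at h1
      exact (Subgroup.index_ne_zero_of_finite (H := (P : Subgroup (L ≃ₐ[K] L)))) h1
    obtain ⟨q, hq, hqd⟩ := Nat.exists_prime_and_dvd hne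
    haveI : Fact q.Prime := ⟨hq⟩
    obtain ⟨P⟩ : Nonempty (Sylow q (L ≃ₐ[K] L)) := inferInstance
    have h1 := orderOf_dvd_of_pow_eq_one (hpow q P)
    exact P.not_dvd_index (hqd.trans h1)
  have h1 : ubar = 1 := orderOf_eq_one_iff.mp hord
  exact (QuotientGroup.eq_one_iff u).mp h1

end Ind


/-- S16333 -/
theorem main (k : Type u) [Field k] [IsAlgClosed k] (K L : Type u) [Field K] [Field L]
    [Algebra k K] [Algebra K L] [FiniteDimensional K L] [IsGalois K L]
    (htr : Algebra.trdeg k K = 1) :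
    Function.Surjective (Algebra.norm K : L → K) ∧
      ∀ u : Lˣ, Algebra.norm K (u : L) = 1 ↔
        u ∈ Subgroup.closure {v : Lˣ | ∃ (w : Lˣ) (g : L ≃ₐ[K] L), (v : L) = (w : L) / g (w : L)} := by
  have hK : Curves.IsCi K 1 := H1.CiFields.tsen_lang k K 1 (by rw [htr]; simp)
  refine ⟨norm_surjective_of_isCr (FinCyc.isCr_of_isCi hK), fun u => ⟨fun hu => ?_, fun hu => ?_⟩⟩
  · exact claim_general K L hK u hu
  · exact norm_eq_one_of_mem_Iker u hu

end Groth.Agent.H7.NormKer
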