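import Mathlib

set_option autoImplicit false
universe u
open Polynomial

namespace Groth.Agent.H7.NormalLoc

/-- monic polynomial with lower coefficients divisible by `π` and root `a`: `π ∣ a ^ deg`. -/
theorem dvd_pow_of_root {A : Type*} [CommRing A] (π a : A) (q : A[X]) (hq : q.Monic)
    (hdiv : ∀ i < q.natDegree, π ∣ q.coeff i) (hroot : q.eval a = 0) :
    π ∣ a ^ q.natDegree := by
  have h1 := hq.as_sum
  have h2 : q.eval a = a ^ q.natDegree + ∑ i ∈ Finset.range q.natDegree, q.coeff i * a ^ i := by
    conv_lhs => rw [h1]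
    simp [eval_finsetSum]
  rw [hroot] at h2
  have h3 : a ^ q.natDegree = -∑ i ∈ Finset.range q.natDegree, q.coeff i * a ^ i := by
    linear_combination -h2
  rw [h3, dvd_neg]
  apply Finset.dvd_sum
  intro i hi
  exact Dvd.dvd.mul_right (hdiv i (Finset.mem_range.mp hi)) _

theorem normal_of_loc (A B : Type u) [CommRing A] [CommRing B] [Algebra A B] (M : Submonoid A)
    [IsLocalization M B] [IsDomain B] [IsIntegrallyClosed B] (π : A)
    (hM : ∀ m ∈ M, ∃ n : ℕ, ∃ u : A, IsUnit u ∧ m = u * π ^ n)
    (hreg : π ∈ nonZeroDivisors A) (hred : ∀ (a : A) (n : ℕ), π ∣ a ^ n → π ∣ a) :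
    IsDomain A ∧ IsIntegrallyClosed A := by
  classical
  have hMle : M ≤ nonZeroDivisors A := by
    intro m hm
    obtain ⟨n, u, hu, rfl⟩ := hM m hm
    exact mul_mem (IsUnit.mem_nonZeroDivisors hu) (pow_mem hreg n)
  have hinj : Function.Injective (algebraMap A B) := IsLocalization.injective B hMle
  haveI : IsDomain A := hinj.isDomain (algebraMap A B)
  refine ⟨inferInstance, ?_⟩
  let K := FractionRing A
  have hunits : ∀ m : M, IsUnit (algebraMap A K (m : A)) := by
    intro m
    apply IsUnit.mk0
    intro h0
    have : (m : A) = 0 := (IsFractionRing.injective A K) (by rw [h0, map_zero])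
    exact (nonZeroDivisors.ne_zero (hMle m.2)) this
  letI : Algebra B K := RingHom.toAlgebra (IsLocalization.lift (M := M) (g := algebraMap A K) hunits)
  haveI : IsScalarTower A B K := IsScalarTower.of_algebraMap_eq (fun a => by
    rw [RingHom.algebraMap_toAlgebra, IsLocalization.lift_eq])
  haveI : IsFractionRing B K := IsFractionRing.isFractionRing_of_isDomain_of_isLocalization M B K
  have hπ0 : π ≠ 0 := nonZeroDivisors.ne_zero hreg
  have hπK : algebraMap A K π ≠ 0 := by
    intro h0
    exact hπ0 ((IsFractionRing.injective A K) (by rw [h0, map_zero]))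
  rw [isIntegrallyClosed_iff K]
  intro x hx
  -- x comes from B
  have hxB : IsIntegral B x := hx.tower_top
  obtain ⟨b, hb⟩ := (isIntegrallyClosed_iff K).mp (inferInstance : IsIntegrallyClosed B) hxB
  -- some power of π moves x into A
  have hex : ∃ n : ℕ, ∃ a : A, algebraMap A K a = algebraMap A K π ^ n * x := by
    obtain ⟨a, m, rfl⟩ := IsLocalization.exists_mk'_eq M b
    obtain ⟨n, u, hu, hm⟩ := hM m m.2
    obtain ⟨v, hv⟩ := hu.exists_right_inv
    refine ⟨n, v * a, ?_⟩
    rw [← hb]
    have h1 : algebraMap B K (IsLocalization.mk' B a m) * algebraMap A K (m : A) = algebraMap A K a := by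
      rw [IsScalarTower.algebraMap_apply A B K, IsScalarTower.algebraMap_apply A B K, ← map_mul,
        IsLocalization.mk'_spec]
    rw [map_mul, ← h1, hm]
    simp only [map_mul, map_pow]
    have hv' : algebraMap A K u * algebraMap A K v = 1 := by rw [← map_mul, hv, map_one]
    linear_combination (algebraMap B K (IsLocalization.mk' B a m) * algebraMap A K π ^ n) * hv'
  have hmin := Nat.find_spec hex
  set n := Nat.find hex with hn
  obtain ⟨a, ha⟩ := hmin
  rcases Nat.eq_zero_or_pos n with h0 | hpos
  · refine ⟨a, ?_⟩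
    rw [ha, h0, pow_zero, one_mul]
  · exfalso
    obtain ⟨p, hp, hpx⟩ := hx
    -- a is a root of scaleRoots p (π ^ n)
    set q := scaleRoots p (π ^ n) with hq
    have hqm : q.Monic := (monic_scaleRoots_iff _).mpr hp
    have hqdeg : q.natDegree = p.natDegree := natDegree_scaleRoots p _
    have hroot : q.eval a = 0 := by
      apply IsFractionRing.injective A K
      rw [map_zero, ← Polynomial.eval₂_at_apply, ha, ← map_pow, hq]
      exact scaleRoots_eval₂_eq_zero (algebraMap A K) hpx
    have hdiv : ∀ i < q.natDegree, π ∣ q.coeff i := by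
      intro i hi
      rw [hq, coeff_scaleRoots]
      apply Dvd.dvd.mul_left
      rw [← pow_mul]
      apply dvd_pow_self
      have : 0 < p.natDegree - i := by omega
      exact (Nat.mul_pos hpos this).ne'
    have h1 := dvd_pow_of_root π a q hqm hdiv hroot
    obtain ⟨a', ha'⟩ := hred a _ h1
    have hlt : n - 1 < n := by omega
    apply Nat.find_min hex hlt
    refine ⟨a', ?_⟩
    have h2 : algebraMap A K π * algebraMap A K a' = algebraMap A K π * (algebraMap A K π ^ (n - 1) * x) := by
      rw [← map_mul, ← ha', ha, ← mul_assoc, ← pow_succ']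
      congr 2
      omega
    exact mul_left_cancel₀ hπK h2

end Groth.Agent.H7.NormalLoc
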