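import Mathlib
import Groth.Prelude.Def_SGA4a
import Groth.Agent.Lib.Helper7.OC1

open CategoryTheory CategoryTheory.Limits Opposite

universe u

namespace Groth.Agent.H7.OC

open Groth.Agent.H7.ShCoprod Groth.Agent.H7.DetectFam

variable {C : Type u} [SmallCategory C] {J : GrothendieckTopology C} (U : Sheaf J (Type u))

/-- the presheaf-level closed-complement reflector: `Q P (c) = (c ∉ U → P c)` -/
def Q : (Cᵒᵖ ⥤ Type u) ⥤ (Cᵒᵖ ⥤ Type u) where
  obj P :=
    { obj := fun c => (IsEmpty (U.obj.obj c) → P.obj c)
      map := fun {c c'} f => ↾fun φ h' =>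
        P.map f (φ (@Function.isEmpty _ _ h' (U.obj.map f)))
      map_id := by
        intro c
        ext φ h
        show P.map (𝟙 c) (φ _) = φ h
        rw [Functor.map_id_apply]
      map_comp := by
        intro c c' c'' f g
        ext φ h
        show P.map (f ≫ g) (φ _) = P.map g (P.map f (φ _))
        rw [Functor.map_comp_apply] }
  map α :=
    { app := fun c => ↾fun φ h => α.app c (φ h)
      naturality := by
        intro c c' f
        ext φ h
        exact NatTrans.naturality_apply α f _ }
  map_id := by
    intro P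
    rfl
  map_comp := by
    intro P P' P'' α β
    rfl

/-- the unit `P ⟶ Q P` -/
def η : 𝟭 (Cᵒᵖ ⥤ Type u) ⟶ Q U where
  app P := { app := fun c => ↾fun x _ => x
             naturality := by
               intro c c' f
               rfl }
  naturality := by
    intro P P' α
    rfl


/-- presheaves which are singletons on objects of `U` -/
def IsF (Y : Cᵒᵖ ⥤ Type u) : Prop :=
  ∀ c : Cᵒᵖ, Nonempty (U.obj.obj c) → Nonempty (Unique (Y.obj c))

theorem Q_isF (P : Cᵒᵖ ⥤ Type u) : IsF U ((Q U).obj P) := by
  intro c hc
  haveI : IsEmpty (IsEmpty (U.obj.obj c)) := ⟨fun h => (not_isEmpty_iff.mpr hc) h⟩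
  exact ⟨⟨⟨fun h => isEmptyElim h⟩, fun φ => funext fun h => isEmptyElim h⟩⟩

variable {U}

/-- extension of a map into an `IsF` presheaf along `η` -/
noncomputable def extend {P Y : Cᵒᵖ ⥤ Type u} (hY : IsF U Y) (f : P ⟶ Y) : (Q U).obj P ⟶ Y where
  app c := ↾fun φ => by
    classical
    exact if h : IsEmpty (U.obj.obj c) then f.app c (φ h)
      else (hY c (not_isEmpty_iff.mp h)).some.default
  naturality := by
    intro c c' g
    ext φ
    classical
    by_cases h' : IsEmpty (U.obj.obj c')
    · have h : IsEmpty (U.obj.obj c) := @Function.isEmpty _ _ h' (U.obj.map g)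
      show (if h : IsEmpty (U.obj.obj c') then f.app c' (((Q U).obj P).map g φ h)
        else (hY c' (not_isEmpty_iff.mp h)).some.default) =
        Y.map g (if h : IsEmpty (U.obj.obj c) then f.app c (φ h)
          else (hY c (not_isEmpty_iff.mp h)).some.default)
      rw [dif_pos h', dif_pos h]
      exact NatTrans.naturality_apply f g _
    · have u := (hY c' (not_isEmpty_iff.mp h')).some
      exact (u.uniq _).trans (u.uniq _).symm

theorem η_extend {P Y : Cᵒᵖ ⥤ Type u} (hY : IsF U Y) (f : P ⟶ Y) :
    (η U).app P ≫ extend hY f = f := by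
  apply NatTrans.ext
  funext c
  ext x
  classical
  by_cases h : IsEmpty (U.obj.obj c)
  · show (if h : IsEmpty (U.obj.obj c) then f.app c (((η U).app P).app c x h)
        else (hY c (not_isEmpty_iff.mp h)).some.default) = f.app c x
    rw [dif_pos h]
    rfl
  · have u := (hY c (not_isEmpty_iff.mp h)).some
    exact (u.uniq _).trans (u.uniq _).symm

theorem extend_unique {P Y : Cᵒᵖ ⥤ Type u} (hY : IsF U Y) (g g' : (Q U).obj P ⟶ Y)
    (h : (η U).app P ≫ g = (η U).app P ≫ g') : g = g' := by
  apply NatTrans.ext
  funext c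
  ext φ
  by_cases hc : IsEmpty (U.obj.obj c)
  · have e : φ = ((η U).app P).app c (φ hc) := by
      funext h'
      rfl
    rw [e]
    exact congrArg (fun t => t.app c (φ hc)) h
  · have u := (hY c (not_isEmpty_iff.mp hc)).some
    exact (u.uniq _).trans (u.uniq _).symm

/-- the sheafification of a presheaf which is a singleton below `c` is a singleton at `c` -/
theorem unique_sheafify (P : Cᵒᵖ ⥤ Type u) (c : C)
    (hP : ∀ (c' : C) (_ : c' ⟶ c), Nonempty (Unique (P.obj (op c')))) :
    Nonempty (Unique ((sheafify J P).obj (op c))) := by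
  have hsh : Presieve.IsSheaf J (sheafify J P) :=
    (isSheaf_iff_isSheaf_of_type _ _).mp ((presheafToSheaf J (Type u)).obj P).property
  have u₀ := (hP c (𝟙 c)).some
  refine ⟨⟨⟨(toSheafify J P).app (op c) u₀.default⟩, fun s => ?_⟩⟩
  have h1 := Presheaf.imageSieve_mem J (toSheafify J P) (U := op c) s
  apply (hsh.isSeparated _ h1).ext
  intro c' f hf
  obtain ⟨p, hp⟩ := hf
  have u := (hP c' f).some
  have h2 : (sheafify J P).map f.op ((toSheafify J P).app (op c) u₀.default) =
      (toSheafify J P).app (op c') (P.map f.op u₀.default) :=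
    (NatTrans.naturality_apply (toSheafify J P) f.op _).symm
  calc (sheafify J P).map f.op s = (toSheafify J P).app (op c') p := hp.symm
    _ = (toSheafify J P).app (op c') (P.map f.op u₀.default) := by
      congr 1
      exact (u.uniq _).trans (u.uniq _).symm
    _ = (sheafify J P).map f.op ((toSheafify J P).app (op c) u₀.default) := h2.symm

end Groth.Agent.H7.OC
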