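import Mathlib
import Groth.Prelude.Def_SGA4a
import Groth.Agent.Lib.Helper7.OC2

open CategoryTheory CategoryTheory.Limits Opposite

universe u

namespace Groth.Agent.H7.OC

open Groth.Agent.H7.ShCoprod Groth.Agent.H7.DetectFam

variable {C : Type u} [SmallCategory C] {J : GrothendieckTopology C} (U : Sheaf J (Type u))

/-- the reflector as an endofunctor of sheaves -/
noncomputable def L₁ : Sheaf J (Type u) ⥤ Sheaf J (Type u) :=
  sheafToPresheaf J (Type u) ⋙ Q U ⋙ presheafToSheaf J (Type u)

variable (hU : SGA4.IsOpen U)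

include hU in
theorem L₁_mem (X : Sheaf J (Type u)) : SGA4.closedCompl U ((L₁ U).obj X) := by
  rw [mem_closedCompl_iff U hU]
  intro c hc
  apply unique_sheafify
  intro c' f
  apply Q_isF
  exact hc.map (U.obj.map f.op)

/-- the reflector into the closed complement -/
noncomputable def L₀ : Sheaf J (Type u) ⥤ (SGA4.closedCompl U).FullSubcategory :=
  ObjectProperty.lift _ (L₁ U) (L₁_mem U hU)

/-- the unit -/
noncomputable def unit₁ : 𝟭 (Sheaf J (Type u)) ⟶ L₁ U where
  app X := ⟨(η U).app X.obj ≫ toSheafify J _⟩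
  naturality := by
    intro X Y m
    apply Sheaf.hom_ext
    show m.hom ≫ (η U).app Y.obj ≫ toSheafify J _ =
      ((η U).app X.obj ≫ toSheafify J _) ≫ ((presheafToSheaf J (Type u)).map ((Q U).map m.hom)).hom
    rw [Category.assoc, ← toSheafify_naturality, ← Category.assoc, ← Category.assoc]
    congr 1

include hU in
theorem isF_of_mem (Y : Sheaf J (Type u)) (hY : SGA4.closedCompl U Y) : IsF U Y.obj := by
  intro c hc
  exact (mem_closedCompl_iff U hU Y).mp hY c.unop hc

/-- the hom-set bijection -/
noncomputable def homEquiv (X : Sheaf J (Type u)) (Y : (SGA4.closedCompl U).FullSubcategory) :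
    ((L₀ U hU).obj X ⟶ Y) ≃ (X ⟶ Y.obj) where
  toFun g := (unit₁ U).app X ≫ g.hom
  invFun f := ⟨⟨sheafifyLift J (extend (isF_of_mem U hU Y.obj Y.property) f.hom) Y.obj.property⟩⟩
  left_inv g := by
    apply ObjectProperty.hom_ext
    apply Sheaf.hom_ext
    apply sheafify_hom_ext _ _ _ Y.obj.property
    rw [toSheafify_sheafifyLift]
    apply extend_unique (isF_of_mem U hU Y.obj Y.property)
    rw [η_extend]
    rfl
  right_inv f := by
    apply Sheaf.hom_ext
    show ((η U).app X.obj ≫ toSheafify J _) ≫ sheafifyLift J _ Y.obj.property = f.hom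
    rw [Category.assoc, toSheafify_sheafifyLift, η_extend]

/-- the adjunction `L₀ ⊣ ι` -/
noncomputable def adj₀ : L₀ U hU ⊣ (SGA4.closedCompl U).ι :=
  Adjunction.mkOfHomEquiv
    { homEquiv := homEquiv U hU
      homEquiv_naturality_left_symm := by
        intro X' X Y f g
        apply (homEquiv U hU X' Y).injective
        rw [Equiv.apply_symm_apply]
        show f ≫ g = (unit₁ U).app X' ≫ ((L₁ U).map f ≫ ((homEquiv U hU X Y).symm g).hom)
        rw [← Category.assoc, ← (unit₁ U).naturality f]
        show f ≫ g = (f ≫ (unit₁ U).app X) ≫ ((homEquiv U hU X Y).symm g).hom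
        rw [Category.assoc]
        congr 1
        exact ((homEquiv U hU X Y).apply_symm_apply g).symm
      homEquiv_naturality_right := by
        intro X Y Y' f g
        show (unit₁ U).app X ≫ (f ≫ g).hom = ((unit₁ U).app X ≫ f.hom) ≫ g.hom
        rw [Category.assoc]
        rfl }

end Groth.Agent.H7.OC
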