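import Mathlib
import Groth.Prelude.Def_SGA4a
import Groth.Agent.Lib.Helper7.OC3

open CategoryTheory CategoryTheory.Limits Opposite

universe u

namespace Groth.Agent.H7.OC

open Groth.Agent.H7.ShCoprod Groth.Agent.H7.DetectFam

variable {C : Type u} [SmallCategory C] {J : GrothendieckTopology C} (U : Sheaf J (Type u))

/-- objectwise, `Q` is a corepresentable functor -/
def QevIso (c : Cᵒᵖ) : Q U ⋙ (evaluation Cᵒᵖ (Type u)).obj c ≅
    (evaluation Cᵒᵖ (Type u)).obj c ⋙
      coyoneda.obj (op (ULift.{u} (PLift (IsEmpty (U.obj.obj c))))) :=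
  NatIso.ofComponents (fun P =>
    { hom := ↾fun φ => ↾fun a => φ a.down.down
      inv := ↾fun (ψ : ULift.{u} (PLift (IsEmpty (U.obj.obj c))) ⟶ P.obj c) => fun h =>
        ConcreteCategory.hom ψ ⟨⟨h⟩⟩
      hom_inv_id := rfl
      inv_hom_id := rfl })
    (by
      intro P P' α
      rfl)

instance : PreservesFiniteLimits (Q U) := by
  apply preservesFiniteLimits_of_evaluation
  intro c
  exact ⟨fun K _ _ => preservesLimitsOfShape_of_natIso (QevIso U c).symm⟩

instance : PreservesFiniteLimits (L₁ U) := by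
  unfold L₁
  haveI : PreservesFiniteLimits (Q U ⋙ presheafToSheaf J (Type u)) := comp_preservesFiniteLimits _ _
  exact comp_preservesFiniteLimits _ _

theorem L₀_lex (hU : SGA4.IsOpen U) : PreservesFiniteLimits (L₀ U hU) := by
  constructor
  intro K _ _
  haveI : PreservesLimitsOfShape K (L₀ U hU ⋙ (SGA4.closedCompl U).ι) :=
    (inferInstance : PreservesLimitsOfShape K (L₁ U))
  exact preservesLimitsOfShape_of_reflects_of_preserves (L₀ U hU) (SGA4.closedCompl U).ι


variable {U}

theorem cond_iff {X Z : Sheaf J (Type u)} (f : U ⟶ Z) (g : X ⟶ Z) :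
    (prod.fst : U ⨯ X ⟶ U) ≫ f = prod.snd ≫ g ↔
      ∀ (c : C) (a : U.obj.obj (op c)) (x : X.obj.obj (op c)),
        f.hom.app (op c) a = g.hom.app (op c) x := by
  constructor
  · intro h c a x
    have h1 : f.hom.app (op c) ((prod.fst : U ⨯ X ⟶ U).hom.app (op c) (pairEl a x)) =
        g.hom.app (op c) ((prod.snd : U ⨯ X ⟶ X).hom.app (op c) (pairEl a x)) :=
      congrArg (fun t => t.hom.app (op c) (pairEl a x)) h
    rw [fst_pairEl, snd_pairEl] at h1
    exact h1
  · intro h
    apply hom_ext_el
    intro c p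
    exact h c _ _

/-- two maps into an object of the closed complement from an object living over `U` agree -/
theorem hom_ext_of_isF {T Y : Sheaf J (Type u)} (hY : IsF U Y.obj)
    (hT : ∀ c : C, T.obj.obj (op c) → Nonempty (U.obj.obj (op c))) (f g : T ⟶ Y) : f = g := by
  apply hom_ext_el
  intro c t
  have u := (hY (op c) (hT c t)).some
  exact (u.uniq _).trans (u.uniq _).symm

variable (U) (hU : SGA4.IsOpen U)

/-- the map `U ⟶ L₁ X` -/
noncomputable def uU (X : Sheaf J (Type u)) : U ⟶ (L₁ U).obj X :=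
  haveI : IsIso (prod.fst : U ⨯ (L₁ U).obj X ⟶ U) := L₁_mem U hU X
  inv (prod.fst : U ⨯ (L₁ U).obj X ⟶ U) ≫ prod.snd

/-- the descent map on presheaves -/
noncomputable def d₀ {X Z : Sheaf J (Type u)} (f : U ⟶ Z) (g : X ⟶ Z)
    (h : ∀ (c : C) (a : U.obj.obj (op c)) (x : X.obj.obj (op c)),
        f.hom.app (op c) a = g.hom.app (op c) x) : (Q U).obj X.obj ⟶ Z.obj where
  app c := ↾fun φ => by
    classical
    exact if hc : IsEmpty (U.obj.obj c) then g.hom.app c (φ hc)
      else f.hom.app c (not_isEmpty_iff.mp hc).some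
  naturality := by
    haveI := sub_of_open U hU
    intro c c' k
    ext φ
    classical
    show (if hc : IsEmpty (U.obj.obj c') then g.hom.app c' (((Q U).obj X.obj).map k φ hc)
        else f.hom.app c' (not_isEmpty_iff.mp hc).some) =
      Z.obj.map k (if hc : IsEmpty (U.obj.obj c) then g.hom.app c (φ hc)
        else f.hom.app c (not_isEmpty_iff.mp hc).some)
    by_cases h' : IsEmpty (U.obj.obj c')
    · have h0 : IsEmpty (U.obj.obj c) := @Function.isEmpty _ _ h' (U.obj.map k)
      rw [dif_pos h', dif_pos h0]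
      exact NatTrans.naturality_apply g.hom k _
    · rw [dif_neg h']
      by_cases h0 : IsEmpty (U.obj.obj c)
      · rw [dif_pos h0]
        have e1 := h c'.unop (not_isEmpty_iff.mp h').some (X.obj.map k (φ h0))
        refine e1.trans ?_
        exact NatTrans.naturality_apply g.hom k _
      · rw [dif_neg h0]
        have e1 : f.hom.app c' (U.obj.map k (not_isEmpty_iff.mp h0).some) =
            Z.obj.map k (f.hom.app c (not_isEmpty_iff.mp h0).some) :=
          NatTrans.naturality_apply f.hom k _
        rw [← e1]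
        congr 1
        obtain ⟨c'⟩ := c'
        exact Subsingleton.elim _ _

end Groth.Agent.H7.OC
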