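import Mathlib
import Groth.Prelude.Def_SGA4a
import Groth.Agent.Lib.Helper7.OC4

open CategoryTheory CategoryTheory.Limits Opposite

universe u

namespace Groth.Agent.H7.OC

open Groth.Agent.H7.ShCoprod Groth.Agent.H7.DetectFam

variable {C : Type u} [SmallCategory C] {J : GrothendieckTopology C} (U : Sheaf J (Type u))
  (hU : SGA4.IsOpen U)

include hU in
/-- sections of `L₁ X` over objects of `U` are unique -/
theorem L₁_unique (X : Sheaf J (Type u)) (c : Cᵒᵖ) (hc : Nonempty (U.obj.obj c)) :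
    Nonempty (Unique (((L₁ U).obj X).obj.obj c)) :=
  isF_of_mem U hU _ (L₁_mem U hU X) c hc

theorem d₀_η {X Z : Sheaf J (Type u)} (f : U ⟶ Z) (g : X ⟶ Z)
    (h : ∀ (c : C) (a : U.obj.obj (op c)) (x : X.obj.obj (op c)),
        f.hom.app (op c) a = g.hom.app (op c) x) :
    (η U).app X.obj ≫ d₀ U hU f g h = g.hom := by
  apply NatTrans.ext
  funext c
  ext x
  classical
  show (if hc : IsEmpty (U.obj.obj c) then g.hom.app c (((η U).app X.obj).app c x hc)
        else f.hom.app c (not_isEmpty_iff.mp hc).some) = g.hom.app c x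
  by_cases hc : IsEmpty (U.obj.obj c)
  · rw [dif_pos hc]
    rfl
  · rw [dif_neg hc]
    exact h c.unop _ _

theorem isPushout (X : Sheaf J (Type u)) :
    IsPushout (prod.fst : U ⨯ X ⟶ U) prod.snd (uU U hU X) ((unit₁ U).app X) := by
  haveI := sub_of_open U hU
  have hF := isF_of_mem U hU _ (L₁_mem U hU X)
  have hw : (prod.fst : U ⨯ X ⟶ U) ≫ uU U hU X = prod.snd ≫ (unit₁ U).app X := by
    apply hom_ext_of_isF hF
    intro c p
    exact ⟨(prod.fst : U ⨯ X ⟶ U).hom.app (op c) p⟩
  -- key: on objects of U, uU hits toSheafify of anything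
  have key : ∀ (c : Cᵒᵖ) (a : U.obj.obj c) (φ : ((Q U).obj X.obj).obj c),
      (uU U hU X).hom.app c a = (toSheafify J ((Q U).obj X.obj)).app c φ := by
    intro c a φ
    have u := (L₁_unique U hU X c ⟨a⟩).some
    exact (u.uniq _).trans (u.uniq _).symm
  refine ⟨⟨hw⟩, ⟨PushoutCocone.IsColimit.mk hw
    (fun s => ⟨sheafifyLift J (d₀ U hU s.inl s.inr ((cond_iff _ _).mp s.condition)) s.pt.property⟩)
    ?_ ?_ ?_⟩⟩
  · intro s
    apply hom_ext_el
    intro c a
    classical
    have hne : ¬ IsEmpty (U.obj.obj (op c)) := not_isEmpty_iff.mpr ⟨a⟩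
    let φ : ((Q U).obj X.obj).obj (op c) := fun h => (hne h).elim
    show (sheafifyLift J _ s.pt.property).app (op c) ((uU U hU X).hom.app (op c) a) = _
    rw [key (op c) a φ]
    have h2 := congrArg (fun t => t.app (op c) φ)
      (toSheafify_sheafifyLift J (d₀ U hU s.inl s.inr ((cond_iff _ _).mp s.condition))
        s.pt.property)
    refine h2.trans ?_
    show (if hc : IsEmpty (U.obj.obj (op c)) then s.inr.hom.app (op c) (φ hc)
        else s.inl.hom.app (op c) (not_isEmpty_iff.mp hc).some) = _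
    rw [dif_neg hne]
    congr 1
    exact Subsingleton.elim _ _
  · intro s
    apply Sheaf.hom_ext
    show ((η U).app X.obj ≫ toSheafify J _) ≫ sheafifyLift J _ s.pt.property = s.inr.hom
    rw [Category.assoc, toSheafify_sheafifyLift, d₀_η]
  · intro s m hm1 hm2
    apply Sheaf.hom_ext
    apply sheafify_hom_ext _ _ _ s.pt.property
    rw [toSheafify_sheafifyLift]
    apply NatTrans.ext
    funext c
    ext φ
    classical
    show m.hom.app c ((toSheafify J ((Q U).obj X.obj)).app c φ) =
      (if hc : IsEmpty (U.obj.obj c) then s.inr.hom.app c (φ hc)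
        else s.inl.hom.app c (not_isEmpty_iff.mp hc).some)
    by_cases hc : IsEmpty (U.obj.obj c)
    · rw [dif_pos hc]
      have e : φ = ((η U).app X.obj).app c (φ hc) := by
        funext h'
        rfl
      rw [← hm2, e]
      rfl
    · rw [dif_neg hc, ← hm1]
      rw [← key c (not_isEmpty_iff.mp hc).some φ]
      rfl

/-- the value of the reflector is the pushout -/
noncomputable def isoPushout (X : Sheaf J (Type u)) :
    (SGA4.closedCompl U).ι.obj ((L₀ U hU).obj X) ≅
      pushout (prod.fst : U ⨯ X ⟶ U) (prod.snd : U ⨯ X ⟶ X) :=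
  (isPushout U hU X).isoPushout

include hU in
theorem S3083_main :
    ∃ (L : Sheaf J (Type u) ⥤ (SGA4.closedCompl U).FullSubcategory)
      (_ : L ⊣ (SGA4.closedCompl U).ι),
      PreservesFiniteLimits L ∧
      ∀ X : Sheaf J (Type u), Nonempty (((SGA4.closedCompl U).ι).obj (L.obj X) ≅
        pushout (prod.fst : U ⨯ X ⟶ U) (prod.snd : U ⨯ X ⟶ X)) :=
  ⟨L₀ U hU, adj₀ U hU, L₀_lex U hU, fun X => ⟨isoPushout U hU X⟩⟩

end Groth.Agent.H7.OC
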