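import Mathlib
import Groth.Prelude.Def_SGA4a
import Groth.Agent.Lib.Helper7.OC5

open CategoryTheory CategoryTheory.Limits Opposite

universe u

namespace Groth.Agent.H7.OC

open Groth.Agent.H7.ShCoprod Groth.Agent.H7.DetectFam

variable {C : Type u} [SmallCategory C] {J : GrothendieckTopology C} (U : Sheaf J (Type u))

/-- if `U × m` is an iso then `m` is bijective on sections over objects of `U` -/
theorem bij_of_isIso_prodMap {X Y : Sheaf J (Type u)} (m : X ⟶ Y)
    [IsIso (prod.map (𝟙 U) m)] (c : C) (a : U.obj.obj (op c)) :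
    Function.Bijective (m.hom.app (op c)) := by
  have hsnd : ∀ p : (U ⨯ X).obj.obj (op c),
      (prod.snd : U ⨯ Y ⟶ Y).hom.app (op c) ((prod.map (𝟙 U) m).hom.app (op c) p) =
        m.hom.app (op c) ((prod.snd : U ⨯ X ⟶ X).hom.app (op c) p) := by
    intro p
    exact congrArg (fun t => t.hom.app (op c) p) (prod.map_snd (𝟙 U) m)
  have hfst : ∀ p : (U ⨯ X).obj.obj (op c),
      (prod.fst : U ⨯ Y ⟶ U).hom.app (op c) ((prod.map (𝟙 U) m).hom.app (op c) p) =
        (prod.fst : U ⨯ X ⟶ U).hom.app (op c) p := by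
    intro p
    have := congrArg (fun t => t.hom.app (op c) p) (prod.map_fst (𝟙 U) m)
    exact this
  have hinj : Function.Injective ((prod.map (𝟙 U) m).hom.app (op c)) := by
    intro p q hpq
    have e : ∀ p, (inv (prod.map (𝟙 U) m)).hom.app (op c)
        ((prod.map (𝟙 U) m).hom.app (op c) p) = p := fun p =>
      congrArg (fun t => t.hom.app (op c) p) (IsIso.hom_inv_id (prod.map (𝟙 U) m))
    rw [← e p, ← e q, hpq]
  constructor
  · intro x x' hx
    have : pairEl a x = pairEl a x' := by
      apply hinj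
      apply prod_el_ext
      · rw [hfst, hfst, fst_pairEl, fst_pairEl]
      · rw [hsnd, hsnd, snd_pairEl, snd_pairEl, hx]
    have h2 := congrArg ((prod.snd : U ⨯ X ⟶ X).hom.app (op c)) this
    rw [snd_pairEl, snd_pairEl] at h2
    exact h2
  · intro y
    let p := (inv (prod.map (𝟙 U) m)).hom.app (op c) (pairEl a y)
    refine ⟨(prod.snd : U ⨯ X ⟶ X).hom.app (op c) p, ?_⟩
    rw [← hsnd]
    have e : (prod.map (𝟙 U) m).hom.app (op c) p = pairEl a y :=
      congrArg (fun t => t.hom.app (op c) (pairEl a y)) (IsIso.inv_hom_id (prod.map (𝟙 U) m))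
    rw [e, snd_pairEl]

theorem iso_of_both {X Y : Sheaf J (Type u)} (m : X ⟶ Y)
    (h1 : IsIso (prod.map (𝟙 U) m)) (h2 : IsIso ((L₁ U).map m)) : IsIso m := by
  have hW : J.W ((Q U).map m.hom) := (J.W_iff _).mpr h2
  haveI := hW.isLocallyInjective
  haveI := hW.isLocallySurjective
  rw [← Sheaf.isLocallyBijective_iff_isIso (A := Type u)]
  constructor
  · constructor
    intro c x x' hx
    have h3 : ((Q U).map m.hom).app c (((η U).app X.obj).app c x) =
        ((Q U).map m.hom).app c (((η U).app X.obj).app c x') := by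
      funext h'
      exact hx
    refine J.superset_covering ?_ (Presheaf.equalizerSieve_mem J ((Q U).map m.hom) _ _ h3)
    intro c' k hk
    have hk' : ((Q U).obj X.obj).map k.op (((η U).app X.obj).app c x) =
        ((Q U).obj X.obj).map k.op (((η U).app X.obj).app c x') := hk
    show X.obj.map k.op x = X.obj.map k.op x'
    by_cases hc : IsEmpty (U.obj.obj (op c'))
    · exact congrFun hk' hc
    · obtain ⟨a⟩ := not_isEmpty_iff.mp hc
      apply (bij_of_isIso_prodMap U m c' a).1
      have n1 : m.hom.app (op c') (X.obj.map k.op x) = Y.obj.map k.op (m.hom.app c x) :=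
        NatTrans.naturality_apply m.hom k.op x
      have n2 : m.hom.app (op c') (X.obj.map k.op x') = Y.obj.map k.op (m.hom.app c x') :=
        NatTrans.naturality_apply m.hom k.op x'
      rw [n1, n2, hx]
  · constructor
    intro c y
    refine J.superset_covering ?_
      (Presheaf.imageSieve_mem J ((Q U).map m.hom) (U := op c) (((η U).app Y.obj).app (op c) y))
    intro c' k hk
    obtain ⟨φ, hφ⟩ := hk
    by_cases hc : IsEmpty (U.obj.obj (op c'))
    · exact ⟨φ hc, congrFun hφ hc⟩
    · obtain ⟨a⟩ := not_isEmpty_iff.mp hc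
      exact (bij_of_isIso_prodMap U m c' a).2 _

theorem S3084_main (hU : SGA4.IsOpen U)
    (L : Sheaf J (Type u) ⥤ (SGA4.closedCompl U).FullSubcategory) (adj : L ⊣ (SGA4.closedCompl U).ι)
    {X Y : Sheaf J (Type u)} (m : X ⟶ Y) :
    IsIso m ↔ IsIso ((Over.star U).map m) ∧ IsIso (L.map m) := by
  constructor
  · intro h
    exact ⟨inferInstance, inferInstance⟩
  · rintro ⟨h1, h2⟩
    have e : L ≅ L₀ U hU := adj.leftAdjointUniq (adj₀ U hU)
    have h2' : IsIso ((L₀ U hU).map m) := (NatIso.isIso_map_iff e m).mp h2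
    have h2'' : IsIso ((L₁ U).map m) :=
      (inferInstance : IsIso ((SGA4.closedCompl U).ι.map ((L₀ U hU).map m)))
    have h1' : IsIso (prod.map (𝟙 U) m) := by
      have : IsIso ((Over.forget U).map ((Over.star U).map m)) := inferInstance
      have e2 : (Over.forget U).map ((Over.star U).map m) = prod.map (𝟙 U) m := by simp
      exact e2 ▸ this
    exact iso_of_both U m h1' h2''

end Groth.Agent.H7.OC
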