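import Mathlib
import Groth.Prelude.Def_SGA4a
import Groth.Agent.Lib.Helper7.OC6

open CategoryTheory CategoryTheory.Limits Opposite

universe u

namespace Groth.Agent.H7.OC

open Groth.Agent.H7.ShCoprod Groth.Agent.H7.DetectFam

variable {C : Type u} [SmallCategory C] {J : GrothendieckTopology C}

theorem pullback_el_ext {X Y Z : Sheaf J (Type u)} (f : X ⟶ Z) (g : Y ⟶ Z) {c : C}
    (p q : (pullback f g).obj.obj (op c))
    (h1 : (pullback.fst f g).hom.app (op c) p = (pullback.fst f g).hom.app (op c) q)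
    (h2 : (pullback.snd f g).hom.app (op c) p = (pullback.snd f g).hom.app (op c) q) :
    p = q := by
  apply (elEquiv J c (pullback f g)).symm.injective
  apply pullback.hom_ext
  · apply (elEquiv J c X).injective
    rw [elEquiv_naturality_right, elEquiv_naturality_right, Equiv.apply_symm_apply,
      Equiv.apply_symm_apply]
    exact h1
  · apply (elEquiv J c Y).injective
    rw [elEquiv_naturality_right, elEquiv_naturality_right, Equiv.apply_symm_apply,
      Equiv.apply_symm_apply]
    exact h2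

/-- a sectionwise bijective morphism of sheaves is an isomorphism -/
theorem isIso_of_bij {X Y : Sheaf J (Type u)} (m : X ⟶ Y)
    (h : ∀ c : C, Function.Bijective (m.hom.app (op c))) : IsIso m := by
  rw [← isIso_iff_of_reflects_iso _ (sheafToPresheaf _ _), NatTrans.isIso_iff_isIso_app]
  intro c
  rw [isIso_iff_bijective]
  obtain ⟨c⟩ := c
  exact h c

variable (U : Sheaf J (Type u))

theorem isIso_prodMap_of_bij {X Y : Sheaf J (Type u)} (m : X ⟶ Y)
    (h : ∀ c : C, U.obj.obj (op c) → Function.Bijective (m.hom.app (op c))) :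
    IsIso (prod.map (𝟙 U) m) := by
  have hsnd : ∀ (c : C) (p : (U ⨯ X).obj.obj (op c)),
      (prod.snd : U ⨯ Y ⟶ Y).hom.app (op c) ((prod.map (𝟙 U) m).hom.app (op c) p) =
        m.hom.app (op c) ((prod.snd : U ⨯ X ⟶ X).hom.app (op c) p) := by
    intro c p
    exact congrArg (fun t => t.hom.app (op c) p) (prod.map_snd (𝟙 U) m)
  have hfst : ∀ (c : C) (p : (U ⨯ X).obj.obj (op c)),
      (prod.fst : U ⨯ Y ⟶ U).hom.app (op c) ((prod.map (𝟙 U) m).hom.app (op c) p) =
        (prod.fst : U ⨯ X ⟶ U).hom.app (op c) p := by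
    intro c p
    have := congrArg (fun t => t.hom.app (op c) p) (prod.map_fst (𝟙 U) m)
    exact this
  apply isIso_of_bij
  intro c
  constructor
  · intro p q hpq
    have a := (prod.fst : U ⨯ X ⟶ U).hom.app (op c) p
    apply prod_el_ext
    · rw [← hfst, ← hfst, hpq]
    · apply (h c a).1
      rw [← hsnd, ← hsnd, hpq]
  · intro p
    have a := (prod.fst : U ⨯ Y ⟶ U).hom.app (op c) p
    obtain ⟨x, hx⟩ := (h c a).2 ((prod.snd : U ⨯ Y ⟶ Y).hom.app (op c) p)
    refine ⟨pairEl ((prod.fst : U ⨯ Y ⟶ U).hom.app (op c) p) x, ?_⟩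
    apply prod_el_ext
    · rw [hfst, fst_pairEl]
    · rw [hsnd, snd_pairEl, hx]

variable (hU : SGA4.IsOpen U)

theorem adj₀_unit (X : Sheaf J (Type u)) : (adj₀ U hU).unit.app X = (unit₁ U).app X := by
  show (unit₁ U).app X ≫ 𝟙 _ = _
  rw [Category.comp_id]

include hU in
theorem isIso_L₁_unit (X : Sheaf J (Type u)) : IsIso ((L₁ U).map ((unit₁ U).app X)) := by
  have h : IsIso ((L₀ U hU).map ((adj₀ U hU).unit.app X)) :=
    (inferInstance : IsIso ((Functor.whiskerRight (adj₀ U hU).unit (L₀ U hU)).app X))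
  rw [adj₀_unit] at h
  exact @Functor.map_isIso _ _ _ _ _ _ (SGA4.closedCompl U).ι _ h

include hU in
theorem uU_map {X X' : Sheaf J (Type u)} (m : X ⟶ X') :
    uU U hU X ≫ (L₁ U).map m = uU U hU X' := by
  apply hom_ext_of_isF (isF_of_mem U hU _ (L₁_mem U hU X'))
  intro c a
  exact ⟨a⟩

include hU in
/-- the reflection square is cartesian iff `m` is an iso over `U` -/
theorem isPullback_iff {X X' : Sheaf J (Type u)} (m : X ⟶ X') :
    IsPullback m ((unit₁ U).app X) ((unit₁ U).app X') ((L₁ U).map m) ↔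
      IsIso (prod.map (𝟙 U) m) := by
  constructor
  · intro hP
    have hc : (prod.snd : U ⨯ X' ⟶ X') ≫ (unit₁ U).app X' =
        ((prod.fst : U ⨯ X' ⟶ U) ≫ uU U hU X) ≫ (L₁ U).map m := by
      apply hom_ext_of_isF (isF_of_mem U hU _ (L₁_mem U hU X'))
      intro c p
      exact ⟨(prod.fst : U ⨯ X' ⟶ U).hom.app (op c) p⟩
    let g : U ⨯ X' ⟶ X := hP.lift prod.snd ((prod.fst : U ⨯ X' ⟶ U) ≫ uU U hU X) hc
    have hg1 : g ≫ m = prod.snd := hP.lift_fst _ _ _
    have hg2 : g ≫ (unit₁ U).app X = prod.fst ≫ uU U hU X := hP.lift_snd _ _ _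
    have hg3 : prod.map (𝟙 U) m ≫ g = prod.snd := by
      apply hP.hom_ext
      · rw [Category.assoc, hg1, prod.map_snd]
      · rw [Category.assoc, hg2, ← Category.assoc, prod.map_fst, Category.comp_id]
        exact (isPushout U hU X).w
    refine ⟨⟨prod.lift prod.fst g, ?_, ?_⟩⟩
    · apply prod.hom_ext
      · rw [Category.assoc, prod.lift_fst, prod.map_fst, Category.comp_id, Category.id_comp]
      · rw [Category.assoc, prod.lift_snd, hg3, Category.id_comp]
    · apply prod.hom_ext
      · rw [Category.assoc, prod.map_fst, Category.comp_id, prod.lift_fst, Category.id_comp]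
      · rw [Category.assoc, prod.map_snd, ← Category.assoc, prod.lift_snd, hg1, Category.id_comp]
  · intro hm
    have hw : m ≫ (unit₁ U).app X' = (unit₁ U).app X ≫ (L₁ U).map m :=
      (unit₁ U).naturality m
    let P := pullback ((unit₁ U).app X') ((L₁ U).map m)
    let cmp : X ⟶ P := pullback.lift m ((unit₁ U).app X) hw
    have hP : IsPullback (pullback.fst ((unit₁ U).app X') ((L₁ U).map m))
        (pullback.snd ((unit₁ U).app X') ((L₁ U).map m)) ((unit₁ U).app X') ((L₁ U).map m) :=
      IsPullback.of_hasPullback _ _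
    suffices h : IsIso cmp by
      refine IsPullback.of_iso hP (asIso cmp).symm (Iso.refl _) (Iso.refl _) (Iso.refl _)
        ?_ ?_ ?_ ?_
      · rw [Iso.symm_hom, asIso_inv, IsIso.eq_inv_comp, Iso.refl_hom, Category.comp_id]
        exact pullback.lift_fst _ _ _
      · rw [Iso.symm_hom, asIso_inv, IsIso.eq_inv_comp, Iso.refl_hom, Category.comp_id]
        exact pullback.lift_snd _ _ _
      · simp
      · simp
    apply iso_of_both U cmp
    · -- over U
      apply isIso_prodMap_of_bij
      intro c a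
      have hmb := bij_of_isIso_prodMap U m c a
      have e : ∀ x, (pullback.fst ((unit₁ U).app X') ((L₁ U).map m)).hom.app (op c)
          (cmp.hom.app (op c) x) = m.hom.app (op c) x := by
        intro x
        exact congrArg (fun t => t.hom.app (op c) x)
          (pullback.lift_fst m ((unit₁ U).app X) hw)
      have hinj : Function.Injective
          ((pullback.fst ((unit₁ U).app X') ((L₁ U).map m)).hom.app (op c)) := by
        intro p q hpq
        apply pullback_el_ext _ _ _ _ hpq
        have u := (L₁_unique U hU X (op c) ⟨a⟩).some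
        exact (u.uniq _).trans (u.uniq _).symm
      constructor
      · intro x x' hx
        apply hmb.1
        rw [← e, ← e, hx]
      · intro p
        obtain ⟨x, hx⟩ := hmb.2
          ((pullback.fst ((unit₁ U).app X') ((L₁ U).map m)).hom.app (op c) p)
        refine ⟨x, ?_⟩
        apply hinj
        rw [e, hx]
    · -- on the closed complement
      have hP' := hP.map (L₁ U)
      haveI := isIso_L₁_unit U hU X'
      haveI := isIso_L₁_unit U hU X
      haveI : IsIso ((L₁ U).map (pullback.snd ((unit₁ U).app X') ((L₁ U).map m))) :=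
        hP'.isIso_snd_of_isIso
      have e : (L₁ U).map cmp ≫ (L₁ U).map (pullback.snd ((unit₁ U).app X') ((L₁ U).map m)) =
          (L₁ U).map ((unit₁ U).app X) := by
        rw [← Functor.map_comp, pullback.lift_snd]
      haveI : IsIso ((L₁ U).map cmp ≫
          (L₁ U).map (pullback.snd ((unit₁ U).app X') ((L₁ U).map m))) := by
        rw [e]; infer_instance
      exact IsIso.of_isIso_comp_right _
        ((L₁ U).map (pullback.snd ((unit₁ U).app X') ((L₁ U).map m)))

include hU in
theorem S12107_main {X X' : Sheaf J (Type u)} (m : X ⟶ X')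
    (k : pushout (prod.fst : U ⨯ X ⟶ U) (prod.snd : U ⨯ X ⟶ X) ⟶
      pushout (prod.fst : U ⨯ X' ⟶ U) (prod.snd : U ⨯ X' ⟶ X'))
    (hk₁ : pushout.inl (prod.fst : U ⨯ X ⟶ U) (prod.snd : U ⨯ X ⟶ X) ≫ k =
      pushout.inl (prod.fst : U ⨯ X' ⟶ U) (prod.snd : U ⨯ X' ⟶ X'))
    (hk₂ : pushout.inr (prod.fst : U ⨯ X ⟶ U) (prod.snd : U ⨯ X ⟶ X) ≫ k =
      m ≫ pushout.inr (prod.fst : U ⨯ X' ⟶ U) (prod.snd : U ⨯ X' ⟶ X')) :
    IsPullback m (pushout.inr (prod.fst : U ⨯ X ⟶ U) (prod.snd : U ⨯ X ⟶ X))
        (pushout.inr (prod.fst : U ⨯ X' ⟶ U) (prod.snd : U ⨯ X' ⟶ X')) k ↔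
      IsIso (prod.map (𝟙 U) m) := by
  rw [← isPullback_iff U hU m]
  have hX := isPushout U hU X
  have hX' := isPushout U hU X'
  have e1 : (unit₁ U).app X ≫ hX.isoPushout.hom = pushout.inr _ _ := hX.inr_isoPushout_hom
  have e1' : (unit₁ U).app X' ≫ hX'.isoPushout.hom = pushout.inr _ _ := hX'.inr_isoPushout_hom
  have e2 : uU U hU X ≫ hX.isoPushout.hom = pushout.inl _ _ := hX.inl_isoPushout_hom
  have e2' : uU U hU X' ≫ hX'.isoPushout.hom = pushout.inl _ _ := hX'.inl_isoPushout_hom
  have hk : hX.isoPushout.hom ≫ k = (L₁ U).map m ≫ hX'.isoPushout.hom := by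
    apply hX.hom_ext
    · rw [← Category.assoc, e2, hk₁, ← Category.assoc, uU_map U hU m, e2']
    · rw [← Category.assoc, e1, hk₂, ← Category.assoc, ← (unit₁ U).naturality m]
      show _ = (m ≫ (unit₁ U).app X') ≫ _
      rw [Category.assoc, e1']
  constructor
  · intro h
    refine IsPullback.of_iso h (Iso.refl _) (Iso.refl _) hX.isoPushout.symm hX'.isoPushout.symm
      ?_ ?_ ?_ ?_
    · simp
    · rw [Iso.symm_hom, Iso.comp_inv_eq, Iso.refl_hom, Category.id_comp, e1]
    · rw [Iso.symm_hom, Iso.comp_inv_eq, Iso.refl_hom, Category.id_comp, e1']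
    · rw [Iso.symm_hom, Iso.symm_hom, Iso.comp_inv_eq, Category.assoc, ← hk,
        Iso.inv_hom_id_assoc]
  · intro h
    refine IsPullback.of_iso h (Iso.refl _) (Iso.refl _) hX.isoPushout hX'.isoPushout
      ?_ ?_ ?_ ?_
    · simp
    · rw [Iso.refl_hom, Category.id_comp, e1]
    · rw [Iso.refl_hom, Category.id_comp, e1']
    · exact hk.symm

end Groth.Agent.H7.OC
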