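import Mathlib
import Groth.Prelude.Def_SGA4a
import Groth.Agent.Lib.Helper7.OC7
import Groth.Agent.Lib.Helper7.Glue

open CategoryTheory CategoryTheory.Limits Opposite

universe u

namespace Groth.Agent.H7.OC

open Groth.Agent.H7.ShCoprod Groth.Agent.H7.DetectFam

variable {C : Type u} [SmallCategory C] {J : GrothendieckTopology C} (U : Sheaf J (Type u))
  (hU : SGA4.IsOpen U)

/-- for a subterminal object, the forgetful functor from the slice is fully faithful -/
noncomputable def forgetFF {E : Type*} [Category E] [HasTerminal E] (U : E)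
    [Mono (terminal.from U)] : (Over.forget U).FullyFaithful where
  preimage {X Y} f := Over.homMk f (by
    rw [← cancel_mono (terminal.from U)]
    exact Subsingleton.elim _ _)
  map_preimage _ := rfl
  preimage_map _ := by
    apply Over.OverMorphism.ext
    rfl

theorem ht_star {Y Y' : (SGA4.closedCompl U).FullSubcategory} (f : Y ⟶ Y') :
    IsIso ((Over.star U).map ((SGA4.closedCompl U).ι.map f)) := by
  haveI h1 : IsIso (prod.fst : U ⨯ Y.obj ⟶ U) := Y.property
  haveI h2 : IsIso (prod.fst : U ⨯ Y'.obj ⟶ U) := Y'.property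
  let m : Y.obj ⟶ Y'.obj := (SGA4.closedCompl U).ι.map f
  have e2 : (Over.forget U).map ((Over.star U).map m) = prod.map (𝟙 U) m := by simp
  have e3 : prod.map (𝟙 U) m = (prod.fst : U ⨯ Y.obj ⟶ U) ≫ inv (prod.fst : U ⨯ Y'.obj ⟶ U) := by
    rw [IsIso.eq_comp_inv, prod.map_fst, Category.comp_id]
  have h3 : IsIso ((Over.forget U).map ((Over.star U).map m)) := by
    rw [e2, e3]
    exact @IsIso.comp_isIso _ _ _ _ _ _ _ h1 (@IsIso.inv_isIso _ _ _ _ _ h2)
  exact isIso_of_reflects_iso _ (Over.forget U)

include hU in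
theorem S3085_main [(Over.star U).IsLeftAdjoint]
    (L : Sheaf J (Type u) ⥤ (SGA4.closedCompl U).FullSubcategory)
    (adj : L ⊣ (SGA4.closedCompl U).ι) :
    Nonempty (Sheaf J (Type u) ≌
      Comma (𝟭 (SGA4.closedCompl U).FullSubcategory) ((Over.star U).rightAdjoint ⋙ L)) := by
  let adj₂ : Over.star U ⊣ (Over.star U).rightAdjoint := Adjunction.ofIsLeftAdjoint _
  haveI : Mono (terminal.from U) := hU
  let t : Adjunction.Triple (Over.forget U) (Over.star U) (Over.star U).rightAdjoint :=
    ⟨Over.forgetAdjStar U, adj₂⟩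
  have hR : (Over.star U).rightAdjoint.FullyFaithful := t.fullyFaithfulEquiv (forgetFF U)
  haveI := hR.full
  haveI := hR.faithful
  have e : L ≅ L₀ U hU := adj.leftAdjointUniq (adj₀ U hU)
  haveI : PreservesFiniteLimits (L₀ U hU) := L₀_lex U hU
  haveI : PreservesFiniteLimits L := preservesFiniteLimits_of_natIso e.symm
  exact Glue.main adj adj₂
    (fun m h1 h2 => (S3084_main U hU L adj m).mpr ⟨h1, h2⟩)
    (fun f => ht_star U f)

end Groth.Agent.H7.OC
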