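import Mathlib

/-! Off-diagonal residue-field tensor images have closure meeting the diagonal: the linear-algebra
core. -/

universe u

namespace Groth.Agent.H7.OffDiag

open TensorProduct

/-- Finitely many field extensions of `k` embed in a common field over `k`. -/
theorem exists_common_field (k : Type u) [Field k] (K : ℕ → Type u) [∀ n, Field (K n)]
    [∀ n, Algebra k (K n)] (N : ℕ) :
    ∃ (Ω : Type u) (_ : Field Ω) (_ : Algebra k Ω), ∀ n ≤ N, Nonempty (K n →ₐ[k] Ω) := by
  induction N with
  | zero =>
    refine ⟨K 0, inferInstance, inferInstance, ?_⟩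
    intro n hn
    obtain rfl : n = 0 := Nat.le_zero.1 hn
    exact ⟨AlgHom.id k _⟩
  | succ N ih =>
    obtain ⟨Ω, hF, hA, hσ⟩ := ih
    letI := hF
    letI := hA
    haveI : Nontrivial (Ω ⊗[k] K (N + 1)) :=
      (Algebra.TensorProduct.includeLeft_injective (R := k) (S := k) (A := Ω) (B := K (N + 1))
        (algebraMap k (K (N + 1))).injective).nontrivial
    obtain ⟨M, hM⟩ := Ideal.exists_maximal (Ω ⊗[k] K (N + 1))
    letI : Field ((Ω ⊗[k] K (N + 1)) ⧸ M) := Ideal.Quotient.field M
    refine ⟨(Ω ⊗[k] K (N + 1)) ⧸ M, inferInstance, inferInstance, ?_⟩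
    intro n hn
    rcases Nat.lt_or_ge n (N + 1) with h | h
    · obtain ⟨σ⟩ := hσ n (Nat.lt_succ_iff.1 h)
      exact ⟨(Ideal.Quotient.mkₐ k M).comp
        ((Algebra.TensorProduct.includeLeft (R := k) (S := k) (A := Ω) (B := K (N + 1))).comp σ)⟩
    · obtain rfl : n = N + 1 := le_antisymm hn h
      exact ⟨(Ideal.Quotient.mkₐ k M).comp
        (Algebra.TensorProduct.includeRight (R := k) (A := Ω) (B := K (N + 1)))⟩

/-- Linear algebra: there are no `r + 1` vectors in an `r`-dimensional space admitting dual
vectors. -/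
theorem no_dual_family {Ω : Type u} [Field Ω] {ι : Type u} [Fintype ι]
    (u v : Fin (Fintype.card ι + 1) → ι → Ω)
    (h : ∀ n m, ∑ s, u n s * v m s = if n = m then 1 else 0) : False := by
  have hli : LinearIndependent Ω u := by
    rw [Fintype.linearIndependent_iff]
    intro c hc m
    have h1 : ∑ s, (∑ n, c n • u n) s * v m s = 0 := by
      rw [hc]
      simp
    have h2 : ∑ s, (∑ n, c n • u n) s * v m s = ∑ n, c n * ∑ s, u n s * v m s := by
      simp only [Finset.sum_apply, Pi.smul_apply, smul_eq_mul, Finset.sum_mul, Finset.mul_sum]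
      rw [Finset.sum_comm]
      refine Finset.sum_congr rfl fun n _ => Finset.sum_congr rfl fun s _ => ?_
      ring
    rw [h2] at h1
    simp only [h] at h1
    simpa using h1
  have h3 := hli.fintype_card_le_finrank
  rw [Module.finrank_fintype_fun_eq_card, Fintype.card_fin] at h3
  omega

end Groth.Agent.H7.OffDiag
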