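import Mathlib
import Groth.Agent.Lib.Helper7.OffDiag

universe u

namespace Groth.Agent.H7.OffDiag

open TensorProduct

theorem main (A : Type u) [CommRing A] (k : Type u) [Field k]
    (K : ℕ → Type u) [∀ n, Field (K n)]
    [∀ n, Algebra A (K n)] [∀ n, Algebra k (K n)] :
    (closure (⋃ (n : ℕ) (m : ℕ) (_ : n ≠ m),
        Set.range (PrimeSpectrum.comap
          (Algebra.TensorProduct.lift
            ((Algebra.TensorProduct.includeLeft (R := k) (S := ℤ) (A := K n) (B := K m)).toRingHom.toIntAlgHom.comp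
              (Algebra.ofId A (K n)).toRingHom.toIntAlgHom)
            ((Algebra.TensorProduct.includeRight (R := k) (A := K n) (B := K m)).toRingHom.toIntAlgHom.comp
              (Algebra.ofId A (K m)).toRingHom.toIntAlgHom)
            (fun _ _ => Commute.all _ _)).toRingHom)) ∩
      Set.range (PrimeSpectrum.comap (Algebra.TensorProduct.lmul' (S := A) ℤ).toRingHom)).Nonempty := by
  by_contra hne
  rw [Set.not_nonempty_iff_eq_empty] at hne
  have hsurj : Function.Surjective (Algebra.TensorProduct.lmul' (S := A) ℤ).toRingHom := by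
    intro a
    exact ⟨a ⊗ₜ 1, by simp⟩
  rw [range_comap_of_surjective _ _ hsurj,
    ← PrimeSpectrum.zeroLocus_vanishingIdeal_eq_closure, ← PrimeSpectrum.zeroLocus_sup,
    PrimeSpectrum.zeroLocus_empty_iff_eq_top] at hne
  have h1 : (1 : A ⊗[ℤ] A) ∈ _ ⊔ _ := hne ▸ Submodule.mem_top
  obtain ⟨f, hf, g, hg, hfg⟩ := Submodule.mem_sup.1 h1
  have hμ : Algebra.TensorProduct.lmul' (S := A) ℤ f = 1 := by
    have h2 : Algebra.TensorProduct.lmul' (S := A) ℤ g = 0 := hg
    have h3 := congrArg (Algebra.TensorProduct.lmul' (S := A) ℤ) hfg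
    rw [map_add, h2, add_zero, map_one] at h3
    exact h3
  obtain ⟨S, hS⟩ := TensorProduct.exists_finset f
  obtain ⟨Ω, hF, hAlg, hσ⟩ := exists_common_field k K (Fintype.card S)
  letI := hF
  letI := hAlg
  let σ : ∀ i : Fin (Fintype.card S + 1), K i.val →ₐ[k] Ω :=
    fun i => (hσ i.val (Nat.lt_succ_iff.1 i.isLt)).some
  let u : Fin (Fintype.card S + 1) → S → Ω := fun i s => σ i (algebraMap A (K i.val) s.1.1)
  let v : Fin (Fintype.card S + 1) → S → Ω := fun i s => σ i (algebraMap A (K i.val) s.1.2)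
  apply no_dual_family u v
  intro n m
  split_ifs with hnm
  · subst hnm
    have e1 : ∑ s : S, u n s * v n s =
        σ n (algebraMap A (K n.val) (Algebra.TensorProduct.lmul' (S := A) ℤ f)) := by
      rw [hS, map_sum, map_sum, map_sum, ← Finset.sum_coe_sort S]
      refine Finset.sum_congr rfl fun s _ => ?_
      rw [Algebra.TensorProduct.lmul'_apply_tmul, map_mul, map_mul]
    rw [e1, hμ, map_one, map_one]
  · have hnm' : n.val ≠ m.val := Fin.val_ne_of_ne hnm
    let ψ : K n.val ⊗[k] K m.val →ₐ[k] Ω := Algebra.TensorProduct.productMap (σ n) (σ m)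
    let q : PrimeSpectrum (K n.val ⊗[k] K m.val) := ⟨RingHom.ker ψ, RingHom.ker_isPrime ψ⟩
    let φ : A ⊗[ℤ] A →+* K n.val ⊗[k] K m.val :=
      (Algebra.TensorProduct.lift
        ((Algebra.TensorProduct.includeLeft (R := k) (S := ℤ) (A := K n.val)
          (B := K m.val)).toRingHom.toIntAlgHom.comp
            (Algebra.ofId A (K n.val)).toRingHom.toIntAlgHom)
        ((Algebra.TensorProduct.includeRight (R := k) (A := K n.val)
          (B := K m.val)).toRingHom.toIntAlgHom.comp
            (Algebra.ofId A (K m.val)).toRingHom.toIntAlgHom)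
        (fun _ _ => Commute.all _ _)).toRingHom
    have hmemT : PrimeSpectrum.comap φ q ∈ (⋃ (n : ℕ) (m : ℕ) (_ : n ≠ m),
        Set.range (PrimeSpectrum.comap
          (Algebra.TensorProduct.lift
            ((Algebra.TensorProduct.includeLeft (R := k) (S := ℤ) (A := K n)
              (B := K m)).toRingHom.toIntAlgHom.comp
              (Algebra.ofId A (K n)).toRingHom.toIntAlgHom)
            ((Algebra.TensorProduct.includeRight (R := k) (A := K n)
              (B := K m)).toRingHom.toIntAlgHom.comp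
              (Algebra.ofId A (K m)).toRingHom.toIntAlgHom)
            (fun _ _ => Commute.all _ _)).toRingHom)) := by
      simp only [Set.mem_iUnion]
      exact ⟨n.val, m.val, hnm', q, rfl⟩
    have h2 : f ∈ (PrimeSpectrum.comap φ q).asIdeal :=
      (PrimeSpectrum.mem_vanishingIdeal _ _).1 hf _ hmemT
    have h3 : ψ (φ f) = 0 := h2
    have e2 : ψ (φ f) = ∑ s : S, u n s * v m s := by
      rw [hS, map_sum, map_sum, ← Finset.sum_coe_sort S]
      refine Finset.sum_congr rfl fun s _ => ?_
      show ψ (φ (s.1.1 ⊗ₜ[ℤ] s.1.2)) = _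
      have e3 : φ (s.1.1 ⊗ₜ[ℤ] s.1.2) =
          algebraMap A (K n.val) s.1.1 ⊗ₜ[k] algebraMap A (K m.val) s.1.2 := by
        simp [φ, Algebra.ofId_apply]
      rw [e3]
      exact Algebra.TensorProduct.productMap_apply_tmul _ _ _ _
    rw [← e2, h3]

end Groth.Agent.H7.OffDiag
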