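import Mathlib
import Groth.Prelude.Def_EtOpen
import Groth.Prelude.Def_EtShriek2

/-!
# The slice of the étale topos over an open subscheme (part 1)
-/

set_option autoImplicit false

universe u
open CategoryTheory CategoryTheory.Limits AlgebraicGeometry Opposite

namespace Groth.Agent.H7.OpSl

lemma exists_of_mem_smallEtaleTopology {Y : Scheme.{u}} {T : Y.Etale} (S : Sieve T)
    (hS : S ∈ Y.smallEtaleTopology T) (x : T.left) :
    ∃ (T' : Y.Etale) (p : T' ⟶ T) (y : T'.left), S p ∧ p.left.base y = x := by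
  have eY : Y.smallEtaleTopology =
      (Y.smallPretopology (P := EtCoh.etaleMP) (Q := EtCoh.etaleMP)).toGrothendieck :=
    Scheme.smallGrothendieckTopology_eq_toGrothendieck_smallPretopology Y le_rfl
  rw [eY] at hS
  obtain ⟨T', p, y, hp, -, hy⟩ := (Scheme.mem_toGrothendieck_smallPretopology T S).1 hS x
  exact ⟨T', p, y, hp, hy⟩

variable {X : Scheme.{u}} (U : X.Opens)

/-- The comparison functor of sites. -/
noncomputable abbrev cc : (U : Scheme.{u}).Etale ⥤ X.Etale := EtShriek.compEtale U.ι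

/-- the adjunction `c ⊣ bc`. -/
noncomputable def adj0 : cc U ⊣ EtCoh.bc U.ι :=
  MorphismProperty.Over.mapPullbackAdj EtCoh.etaleMP.{u} ⊤ U.ι
    (inferInstanceAs (Etale U.ι)) trivial

/-- Restriction of sheaves of sets. -/
noncomputable abbrev RR : EtDesc.Sh X ⥤ EtDesc.Sh (U : Scheme.{u}) :=
  (cc U).sheafPushforwardContinuous (Type (u + 1)) (U : Scheme.{u}).smallEtaleTopology
    X.smallEtaleTopology

/-- `R ⊣ j_*`. -/
noncomputable def adjR : RR U ⊣ EtDesc.pushSh U.ι :=
  Adjunction.restrictFullyFaithful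
    (Adjunction.whiskerLeft (Type (u + 1)) (adj0 U).op)
    (fullyFaithfulSheafToPresheaf _ _) (fullyFaithfulSheafToPresheaf _ _)
    (Iso.refl _) (Iso.refl _)

/-- inverse image along an open immersion is restriction. -/
noncomputable def pullIso : EtDesc.pullSh U.ι ≅ RR U :=
  (EtDesc.adjSh U.ι).leftAdjointUniq (adjR U)

/-- The representable presheaf. -/
noncomputable abbrev PP : X.Etaleᵒᵖ ⥤ Type (u + 1) :=
  yoneda.obj (EtDesc.ofOpen U) ⋙ uliftFunctor.{u + 1, u}

instance subsingleton_hom (W : X.Etale) : Subsingleton (W ⟶ EtDesc.ofOpen U) := by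
  refine ⟨fun f g => ?_⟩
  apply MorphismProperty.Over.Hom.ext
  have hf : f.left ≫ U.ι = W.hom := MorphismProperty.Over.w f
  have hg : g.left ≫ U.ι = W.hom := MorphismProperty.Over.w g
  exact (cancel_mono U.ι).1 (hf.trans hg.symm)

instance subsingleton_PP (W : X.Etaleᵒᵖ) : Subsingleton ((PP U).obj W) := by
  refine ⟨fun a b => ?_⟩
  cases a with
  | up a =>
    cases b with
    | up b =>
      exact congrArg ULift.up (Subsingleton.elim (α := W.unop ⟶ EtDesc.ofOpen U) a b)

/-- A morphism to the open from a range condition. -/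
noncomputable def homOfRange (W : X.Etale) (h : Set.range W.hom.base ⊆ (U : Set X)) :
    W ⟶ EtDesc.ofOpen U :=
  have h' : Set.range W.hom.base ⊆ Set.range (U.ι : (U : Scheme.{u}) ⟶ X).base :=
    h.trans (Scheme.Opens.range_ι U).ge
  let l : W.left ⟶ (U : Scheme.{u}) := IsOpenImmersion.lift U.ι W.hom h'
  have hl : l ≫ U.ι = W.hom := IsOpenImmersion.lift_fac _ _ _
  MorphismProperty.Over.homMk l hl

lemma range_subset_of_hom {W : X.Etale} (f : W ⟶ EtDesc.ofOpen U) :
    Set.range W.hom.base ⊆ (U : Set X) := by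
  rintro _ ⟨w, rfl⟩
  have hf : f.left ≫ U.ι = W.hom := MorphismProperty.Over.w f
  rw [← hf]
  exact (f.left.base w).2

lemma isSheaf_PP : Presieve.IsSheaf X.smallEtaleTopology (PP U) := by
  intro W S hS x hx
  have hr : Set.range W.hom.base ⊆ (U : Set X) := by
    rintro _ ⟨w, rfl⟩
    obtain ⟨W', p, y, hp, hy⟩ := exists_of_mem_smallEtaleTopology S hS w
    have f : W' ⟶ EtDesc.ofOpen U := (x p hp).down
    have hw : p.left ≫ W.hom = W'.hom := MorphismProperty.Over.w p
    rw [← hy]
    have := range_subset_of_hom U f ⟨y, rfl⟩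
    rw [← hw] at this
    exact this
  refine ⟨⟨homOfRange U W hr⟩, ?_, ?_⟩
  · intro W' p hp
    exact Subsingleton.elim _ _
  · intro t _
    exact Subsingleton.elim _ _

lemma isSheaf_PP' : Presheaf.IsSheaf X.smallEtaleTopology (PP U) :=
  (isSheaf_iff_isSheaf_of_type _ _).2 (isSheaf_PP U)

/-- The sheaf attached to the open. -/
noncomputable abbrev hU : EtDesc.Sh X := EtDesc.repSh (EtDesc.ofOpen U)

/-- its presheaf of sections is the representable presheaf. -/
noncomputable def hUIso : (hU U).obj ≅ PP U :=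
  haveI := isIso_toSheafify X.smallEtaleTopology (isSheaf_PP' U)
  (asIso (toSheafify X.smallEtaleTopology (PP U))).symm

instance subsingleton_hU (W : X.Etaleᵒᵖ) : Subsingleton ((hU U).obj.obj W) :=
  ((hUIso U).app W).toEquiv.subsingleton

/-- an element of `hU` from a morphism. -/
noncomputable def hUofHom {W : X.Etale} (f : W ⟶ EtDesc.ofOpen U) : (hU U).obj.obj (op W) :=
  ((hUIso U).app (op W)).inv ⟨f⟩

/-- a morphism from an element of `hU`. -/
noncomputable def homOfhU {W : X.Etale} (t : (hU U).obj.obj (op W)) : W ⟶ EtDesc.ofOpen U :=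
  (((hUIso U).app (op W)).hom t).down

/-- the structure morphism of `c V`. -/
noncomputable def homC (V : (U : Scheme.{u}).Etale) : (cc U).obj V ⟶ EtDesc.ofOpen U :=
  MorphismProperty.Over.homMk V.hom rfl

/-- the canonical point of `hU (c V)`. -/
noncomputable def ptC (V : (U : Scheme.{u}).Etale) : (hU U).obj.obj (op ((cc U).obj V)) :=
  hUofHom U (homC U V)

/-- an object over the open comes from the open. -/
noncomputable def liftObj {W : X.Etale} (f : W ⟶ EtDesc.ofOpen U) : (U : Scheme.{u}).Etale :=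
  MorphismProperty.Over.mk ⊤ f.left (by
    have hf : f.left ≫ U.ι = W.hom := MorphismProperty.Over.w f
    have hW : EtCoh.etaleMP (f.left ≫ U.ι) := by rw [hf]; exact W.prop
    exact EtCoh.etaleMP.of_postcomp (W' := EtCoh.etaleMP) f.left U.ι
      (inferInstanceAs (Etale U.ι)) hW)

/-- the comparison isomorphism. -/
noncomputable def liftIso {W : X.Etale} (f : W ⟶ EtDesc.ofOpen U) :
    (cc U).obj (liftObj U f) ≅ W :=
  MorphismProperty.Over.isoMk (Iso.refl _) (by
    have hf : f.left ≫ U.ι = W.hom := MorphismProperty.Over.w f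
    exact (Category.id_comp _).trans hf.symm)


section equiv

/-- The functor in question (with restriction in place of inverse image). -/
noncomputable abbrev GG : Over (hU U) ⥤ EtDesc.Sh (U : Scheme.{u}) :=
  Over.forget (hU U) ⋙ RR U

lemma map_iso_cancel (P : X.Etaleᵒᵖ ⥤ Type (u + 1)) {W W' : X.Etale} (e : W' ≅ W)
    (x : P.obj (op W)) : P.map e.inv.op (P.map e.hom.op x) = x := by
  rw [← Functor.map_comp_apply, ← op_comp, e.inv_hom_id, op_id, Functor.map_id_apply]

lemma map_iso_injective (P : X.Etaleᵒᵖ ⥤ Type (u + 1)) {W W' : X.Etale} (e : W' ≅ W) :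
    Function.Injective (P.map e.hom.op) := by
  intro x y h
  have := congrArg (P.map e.inv.op) h
  rwa [map_iso_cancel, map_iso_cancel] at this

lemma hom_hU_ext {F : EtDesc.Sh X} (a b : F ⟶ hU U) : a = b := by
  apply Sheaf.hom_ext
  ext W s
  exact Subsingleton.elim _ _

variable {U}

/-- the morphism to the open attached to a section. -/
noncomputable def secHom (A : Over (hU U)) {W : X.Etale} (s : A.left.obj.obj (op W)) :
    W ⟶ EtDesc.ofOpen U :=
  homOfhU U (A.hom.hom.app (op W) s)

lemma faithful_aux {A B : Over (hU U)} (φ ψ : A ⟶ B) (h : (GG U).map φ = (GG U).map ψ) :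
    φ = ψ := by
  apply Over.OverMorphism.ext
  apply Sheaf.hom_ext
  ext ⟨W⟩ s
  let e := liftIso U (secHom A s)
  have hV : ∀ t : A.left.obj.obj (op ((cc U).obj (liftObj U (secHom A s)))),
      φ.left.hom.app (op ((cc U).obj (liftObj U (secHom A s)))) t =
      ψ.left.hom.app (op ((cc U).obj (liftObj U (secHom A s)))) t := by
    intro t
    exact congrArg (fun θ : (GG U).obj A ⟶ (GG U).obj B =>
      θ.hom.app (op (liftObj U (secHom A s))) t) h
  apply map_iso_injective B.left.obj e
  have n1 := NatTrans.naturality_apply φ.left.hom e.hom.op s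
  have n2 := NatTrans.naturality_apply ψ.left.hom e.hom.op s
  exact n1.symm.trans ((hV _).trans n2)

section full

variable {A B : Over (hU U)} (θ : (GG U).obj A ⟶ (GG U).obj B)

/-- the components of `θ`, with plain types. -/
noncomputable def thApp (V : (U : Scheme.{u}).Etale) (x : A.left.obj.obj (op ((cc U).obj V))) :
    B.left.obj.obj (op ((cc U).obj V)) :=
  θ.hom.app (op V) x

lemma theta_nat {V V' : (U : Scheme.{u}).Etale} (g : (cc U).obj V' ⟶ (cc U).obj V)
    (x : A.left.obj.obj (op ((cc U).obj V))) :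
    thApp θ V' (A.left.obj.map g.op x) = B.left.obj.map g.op (thApp θ V x) := by
  obtain ⟨k, rfl⟩ := (cc U).map_surjective g
  exact NatTrans.naturality_apply θ.hom k.op x

/-- the extension of `θ` to all sections. -/
noncomputable def phiFun (W : X.Etale) (s : A.left.obj.obj (op W)) : B.left.obj.obj (op W) :=
  B.left.obj.map (liftIso U (secHom A s)).inv.op
    (thApp θ (liftObj U (secHom A s))
      (A.left.obj.map (liftIso U (secHom A s)).hom.op s))

lemma phiFun_spec (W : X.Etale) (s : A.left.obj.obj (op W)) {V' : (U : Scheme.{u}).Etale}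
    (g : (cc U).obj V' ⟶ W) :
    B.left.obj.map g.op (phiFun θ W s) = thApp θ V' (A.left.obj.map g.op s) := by
  have h1 : B.left.obj.map g.op (phiFun θ W s) =
      B.left.obj.map (g ≫ (liftIso U (secHom A s)).inv).op
        (thApp θ (liftObj U (secHom A s))
          (A.left.obj.map (liftIso U (secHom A s)).hom.op s)) := by
    unfold phiFun
    rw [op_comp, Functor.map_comp_apply]
  have h2 : A.left.obj.map (g ≫ (liftIso U (secHom A s)).inv).op
      (A.left.obj.map (liftIso U (secHom A s)).hom.op s) = A.left.obj.map g.op s := by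
    rw [← Functor.map_comp_apply, ← op_comp, Category.assoc, Iso.inv_hom_id, Category.comp_id]
  rw [h1, ← theta_nat, h2]

lemma phiFun_nat {W W' : X.Etale} (f : W' ⟶ W) (s : A.left.obj.obj (op W)) :
    phiFun θ W' (A.left.obj.map f.op s) = B.left.obj.map f.op (phiFun θ W s) := by
  apply map_iso_injective B.left.obj (liftIso U (secHom A (A.left.obj.map f.op s)))
  have h1 := phiFun_spec θ W' (A.left.obj.map f.op s)
    (liftIso U (secHom A (A.left.obj.map f.op s))).hom
  have h2 := phiFun_spec θ W s ((liftIso U (secHom A (A.left.obj.map f.op s))).hom ≫ f)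
  have h3 : B.left.obj.map ((liftIso U (secHom A (A.left.obj.map f.op s))).hom ≫ f).op
      (phiFun θ W s) = B.left.obj.map (liftIso U (secHom A (A.left.obj.map f.op s))).hom.op
        (B.left.obj.map f.op (phiFun θ W s)) := by
    rw [op_comp, Functor.map_comp_apply]
  have h4 : A.left.obj.map ((liftIso U (secHom A (A.left.obj.map f.op s))).hom ≫ f).op s =
      A.left.obj.map (liftIso U (secHom A (A.left.obj.map f.op s))).hom.op
        (A.left.obj.map f.op s) := by
    rw [op_comp, Functor.map_comp_apply]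
  rw [h1, ← h3, h2, h4]

lemma phiFun_c (V : (U : Scheme.{u}).Etale) (x : A.left.obj.obj (op ((cc U).obj V))) :
    phiFun θ ((cc U).obj V) x = thApp θ V x := by
  have := phiFun_spec θ ((cc U).obj V) x (𝟙 ((cc U).obj V))
  rwa [op_id, Functor.map_id_apply, Functor.map_id_apply] at this

/-- the morphism of sheaves. -/
noncomputable def phiSh : A.left ⟶ B.left :=
  ⟨{ app := fun W => ↾(phiFun θ W.unop)
     naturality := fun W W' f => by
       ext s
       exact phiFun_nat θ f.unop s }⟩

/-- the morphism over `hU`. -/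
noncomputable def phiOver : A ⟶ B := Over.homMk (phiSh θ) (hom_hU_ext U _ _)

lemma map_phiOver : (GG U).map (phiOver θ) = θ := by
  apply Sheaf.hom_ext
  ext ⟨V⟩ x
  exact phiFun_c θ V x

end full


section esssurj

variable (U) (G₀ : EtDesc.Sh (U : Scheme.{u}))

omit U in
lemma isSheaf_prod {P Q : X.Etaleᵒᵖ ⥤ Type (u + 1)}
    (hP : Presieve.IsSheaf X.smallEtaleTopology P) (hQ : Presieve.IsSheaf X.smallEtaleTopology Q) :
    Presieve.IsSheaf X.smallEtaleTopology (FunctorToTypes.prod P Q) := by
  intro W S hS x hx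
  have hx1 : Presieve.FamilyOfElements.Compatible (P := P) (R := S.arrows)
      (fun W' f hf => (x f hf).1) := by
    intro Y₁ Y₂ Z g₁ g₂ f₁ f₂ h₁ h₂ comm
    exact congrArg Prod.fst (hx g₁ g₂ h₁ h₂ comm)
  have hx2 : Presieve.FamilyOfElements.Compatible (P := Q) (R := S.arrows)
      (fun W' f hf => (x f hf).2) := by
    intro Y₁ Y₂ Z g₁ g₂ f₁ f₂ h₁ h₂ comm
    exact congrArg Prod.snd (hx g₁ g₂ h₁ h₂ comm)
  obtain ⟨t1, ht1, hu1⟩ := hP S hS _ hx1
  obtain ⟨t2, ht2, hu2⟩ := hQ S hS _ hx2
  refine ⟨(t1, t2), ?_, ?_⟩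
  · intro W' f hf
    exact Prod.ext (ht1 f hf) (ht2 f hf)
  · intro t ht
    exact Prod.ext (hu1 t.1 (fun W' f hf => congrArg Prod.fst (ht f hf)))
      (hu2 t.2 (fun W' f hf => congrArg Prod.snd (ht f hf)))

/-- extension by the empty set. -/
noncomputable def F0 : EtDesc.Sh X :=
  ⟨FunctorToTypes.prod ((EtDesc.pushSh U.ι).obj G₀).obj (hU U).obj,
    (isSheaf_iff_isSheaf_of_type _ _).2 (isSheaf_prod
      ((isSheaf_iff_isSheaf_of_type _ _).1 ((EtDesc.pushSh U.ι).obj G₀).property)
      ((isSheaf_iff_isSheaf_of_type _ _).1 (hU U).property))⟩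

/-- as an object over `hU`. -/
noncomputable def A0 : Over (hU U) :=
  Over.mk (⟨FunctorToTypes.prod.snd⟩ : F0 U G₀ ⟶ hU U)

instance isIso_unit (V : (U : Scheme.{u}).Etale) : IsIso ((adj0 U).unit.app V) := inferInstance

lemma map_unit_cancel (V : (U : Scheme.{u}).Etale)
    (x : G₀.obj.obj (op ((EtCoh.bc U.ι).obj ((cc U).obj V)))) :
    G₀.obj.map (inv ((adj0 U).unit.app V)).op (G₀.obj.map ((adj0 U).unit.app V).op x) = x := by
  rw [← Functor.map_comp_apply, ← op_comp, IsIso.inv_hom_id, op_id, Functor.map_id_apply]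

lemma map_unit_cancel' (V : (U : Scheme.{u}).Etale) (y : G₀.obj.obj (op V)) :
    G₀.obj.map ((adj0 U).unit.app V).op (G₀.obj.map (inv ((adj0 U).unit.app V)).op y) = y := by
  rw [← Functor.map_comp_apply, ← op_comp, IsIso.hom_inv_id, op_id, Functor.map_id_apply]

/-- sections of the extension over objects of `U`. -/
noncomputable def eqv (V : (U : Scheme.{u}).Etale) :
    (G₀.obj.obj (op ((EtCoh.bc U.ι).obj ((cc U).obj V))) ×
      (hU U).obj.obj (op ((cc U).obj V))) ≃ G₀.obj.obj (op V) where
  toFun p := G₀.obj.map ((adj0 U).unit.app V).op p.1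
  invFun y := (G₀.obj.map (inv ((adj0 U).unit.app V)).op y, ptC U V)
  left_inv p := Prod.ext (map_unit_cancel U G₀ V p.1) (Subsingleton.elim _ _)
  right_inv y := map_unit_cancel' U G₀ V y

/-- the presheaf isomorphism. -/
noncomputable def isoPre : ((GG U).obj (A0 U G₀)).obj ≅ G₀.obj :=
  NatIso.ofComponents (fun V => (eqv U G₀ V.unop).toIso) (by
    intro V V' k
    ext p
    have hnat : ((EtCoh.bc U.ι).map ((cc U).map k.unop)).op ≫ ((adj0 U).unit.app V'.unop).op =
        ((adj0 U).unit.app V.unop).op ≫ k := by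
      apply Quiver.Hom.unop_inj
      exact ((adj0 U).unit.naturality k.unop).symm
    show G₀.obj.map ((adj0 U).unit.app V'.unop).op
        (G₀.obj.map ((EtCoh.bc U.ι).map ((cc U).map k.unop)).op p.1) =
      G₀.obj.map k (G₀.obj.map ((adj0 U).unit.app V.unop).op p.1)
    rw [← Functor.map_comp_apply, ← Functor.map_comp_apply, hnat])

/-- the isomorphism of sheaves. -/
noncomputable def isoSh : (GG U).obj (A0 U G₀) ≅ G₀ :=
  (fullyFaithfulSheafToPresheaf _ _).preimageIso (isoPre U G₀)

end esssurj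

instance faithful_GG : (GG U).Faithful := ⟨fun {_ _} φ ψ h => faithful_aux φ ψ h⟩

instance full_GG : (GG U).Full := ⟨fun {_ _} θ => ⟨phiOver θ, map_phiOver θ⟩⟩

instance essSurj_GG : (GG U).EssSurj := ⟨fun G₀ => ⟨A0 U G₀, ⟨isoSh U G₀⟩⟩⟩

end equiv

theorem main (X : Scheme.{u}) (U : X.Opens) :
    (Over.forget (EtDesc.repSh (EtDesc.ofOpen U)) ⋙ EtDesc.pullSh U.ι).IsEquivalence := by
  haveI : (GG U).IsEquivalence := {}
  exact Functor.isEquivalence_of_iso (Functor.isoWhiskerLeft (Over.forget (hU U)) (pullIso U)).symm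

end Groth.Agent.H7.OpSl
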