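import Mathlib
open CategoryTheory CategoryTheory.Limits Opposite TopologicalSpace
universe u
namespace Groth.Agent.H7.OpenEmbCounit

theorem ff {U X : TopCat.{u}} (j : U ⟶ X) (hj : Topology.IsOpenEmbedding j) :
    ((Opens.map j).sheafPushforwardContinuous (Type u) (Opens.grothendieckTopology X)
      (Opens.grothendieckTopology U)).Faithful ∧
    ((Opens.map j).sheafPushforwardContinuous (Type u) (Opens.grothendieckTopology X)
      (Opens.grothendieckTopology U)).Full := by
  have e : ∀ V : Opens U, (Opens.map j).obj (hj.isOpenMap.functor.obj V) = V := fun V =>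
    Opens.ext (Set.preimage_image_eq _ hj.injective)
  constructor
  · refine ⟨fun {F G} α β hαβ => ?_⟩
    apply Sheaf.hom_ext
    apply NatTrans.ext
    funext ⟨V⟩
    obtain ⟨W, rfl⟩ : ∃ W, V = (Opens.map j).obj W := ⟨_, (e V).symm⟩
    have h1 := congrArg (fun t => t.hom.app (op W)) hαβ
    exact h1
  · refine ⟨fun {F G} γ => ?_⟩
    obtain ⟨γ', hγ', hγ⟩ : ∃ γ' : ∀ W : Opens X, F.obj.obj (op ((Opens.map j).obj W)) ⟶
        G.obj.obj (op ((Opens.map j).obj W)), (∀ W, γ' W = γ.hom.app (op W)) ∧
        ∀ (W W' : Opens X) (hle : W' ≤ W),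
        F.obj.map ((Opens.map j).map (homOfLE hle)).op ≫ γ' W' =
        γ' W ≫ G.obj.map ((Opens.map j).map (homOfLE hle)).op :=
      ⟨fun W => γ.hom.app (op W), fun W => rfl, fun W W' hle => γ.hom.naturality (homOfLE hle).op⟩
    let β : F ⟶ G :=
      ⟨{ app := fun V => F.obj.map (eqToHom (e V.unop)).op ≫
            γ' (hj.isOpenMap.functor.obj V.unop) ≫
            G.obj.map (eqToHom (e V.unop).symm).op
         naturality := by
          intro V V' f
          have hle : hj.isOpenMap.functor.obj V'.unop ≤ hj.isOpenMap.functor.obj V.unop :=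
            (hj.isOpenMap.functor.map f.unop).le
          have hn := hγ _ _ hle
          simp only [Category.assoc]
          have h1 : F.obj.map f ≫ F.obj.map (eqToHom (e V'.unop)).op =
              F.obj.map (eqToHom (e V.unop)).op ≫
                F.obj.map ((Opens.map j).map (homOfLE hle)).op := by
            rw [← F.obj.map_comp, ← F.obj.map_comp]
            congr 1
          have h2 : G.obj.map ((Opens.map j).map (homOfLE hle)).op ≫
              G.obj.map (eqToHom (e V'.unop).symm).op =
              G.obj.map (eqToHom (e V.unop).symm).op ≫ G.obj.map f := by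
            rw [← G.obj.map_comp, ← G.obj.map_comp]
            congr 1
          rw [reassoc_of% h1, reassoc_of% hn, h2] }⟩
    refine ⟨β, ?_⟩
    apply Sheaf.hom_ext
    apply NatTrans.ext
    funext ⟨W⟩
    have hle' : hj.isOpenMap.functor.obj ((Opens.map j).obj W) ≤ W := by
      rintro _ ⟨x, hx, rfl⟩
      exact hx
    have hn := hγ _ _ hle'
    rw [← hγ' W]
    show F.obj.map (eqToHom (e ((Opens.map j).obj W))).op ≫
        γ' (hj.isOpenMap.functor.obj ((Opens.map j).obj W)) ≫
        G.obj.map (eqToHom (e ((Opens.map j).obj W)).symm).op = γ' W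
    have h1 : F.obj.map (eqToHom (e ((Opens.map j).obj W))).op =
        F.obj.map ((Opens.map j).map (homOfLE hle')).op := by
      congr 1
    have h2 : G.obj.map ((Opens.map j).map (homOfLE hle')).op ≫
        G.obj.map (eqToHom (e ((Opens.map j).obj W)).symm).op = 𝟙 _ := by
      rw [← G.obj.map_comp]
      have : (((Opens.map j).map (homOfLE hle')).op ≫ (eqToHom (e ((Opens.map j).obj W)).symm).op) =
          𝟙 _ := Subsingleton.elim _ _
      rw [this, G.obj.map_id]
    rw [h1, reassoc_of% hn, h2]
    exact Category.comp_id _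

theorem main {U X : TopCat.{u}} (j : U ⟶ X) (hj : Topology.IsOpenEmbedding j)
    (F : U.Sheaf (Type u)) :
    IsIso ((TopCat.Sheaf.pullbackPushforwardAdjunction (Type u) j).counit.app F) := by
  haveI : (TopCat.Sheaf.pushforward (Type u) j).Faithful := (ff j hj).1
  haveI : (TopCat.Sheaf.pushforward (Type u) j).Full := (ff j hj).2
  infer_instance

end Groth.Agent.H7.OpenEmbCounit
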