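import Mathlib
import Groth.Prelude.Def_AzInv
import Groth.Prelude.Def_W4c2azumayainvolQEt
import Groth.Agent.Lib.Helper7.SameKind
import Groth.Agent.Lib.Helper7.Conn
import Groth.Agent.Lib.Helper7.RInvT1

/-! Every involution is ordinary (everywhere ramified with 2 invertible, or quadratic étale). -/

set_option autoImplicit false
open scoped TensorProduct
open AzInv

namespace Groth.Agent.H7.Ordin

universe u v w u'

section Alg

variable {R : Type v} [CommRing R] {n k : ℕ} (σ : Fin 2 × Fin k ≃ Fin n)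

/-- the standard alternating matrix in the indexing `σ`. -/
def Jn : Matrix (Fin n) (Fin n) R := fun a b =>
  if σ.symm b = SympStd.flip (Fin k) (σ.symm a) then ((SympStd.sgJ (Fin k) (σ.symm a) : ℤ) : R)
  else 0

theorem Jn_apply (p q : Fin 2 × Fin k) :
    (Jn σ : Matrix (Fin n) (Fin n) R) (σ p) (σ q) =
      if q = SympStd.flip (Fin k) p then ((SympStd.sgJ (Fin k) p : ℤ) : R) else 0 := by
  unfold Jn
  rw [Equiv.symm_apply_apply, Equiv.symm_apply_apply]

theorem Jn_eq_sum : (Jn σ : Matrix (Fin n) (Fin n) R) =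
    ∑ p : Fin 2 × Fin k, SympStd.sgJ (Fin k) p •
      Matrix.single (σ p) (σ (SympStd.flip (Fin k) p)) (1 : R) := by
  ext a b
  obtain ⟨p, rfl⟩ := σ.surjective a
  obtain ⟨q, rfl⟩ := σ.surjective b
  rw [Jn_apply, Matrix.sum_apply, Finset.sum_eq_single p]
  · rw [Matrix.smul_apply, Matrix.single_apply]
    by_cases h : q = SympStd.flip (Fin k) p
    · rw [if_pos h, if_pos ⟨rfl, by rw [h]⟩, zsmul_eq_mul, mul_one]
    · rw [if_neg h, if_neg, smul_zero]
      rintro ⟨-, h'⟩
      exact h (σ.injective h').symm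
  · intro p' _ hp'
    rw [Matrix.smul_apply, Matrix.single_apply, if_neg, smul_zero]
    rintro ⟨h', -⟩
    exact hp' (σ.injective h')
  · intro h; exact absurd (Finset.mem_univ _) h

theorem Jn_mul_Jn : (Jn σ : Matrix (Fin n) (Fin n) R) * Jn σ = -1 := by
  ext a c
  obtain ⟨p, rfl⟩ := σ.surjective a
  obtain ⟨r, rfl⟩ := σ.surjective c
  rw [Matrix.mul_apply, Finset.sum_eq_single (σ (SympStd.flip (Fin k) p))]
  · rw [Jn_apply, Jn_apply, if_pos rfl, SympStd.flip_flip, Matrix.neg_apply, Matrix.one_apply]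
    by_cases h : r = p
    · subst h
      rw [if_pos rfl, if_pos rfl, ← Int.cast_mul, SympStd.sgJ_flip]
      have := SympStd.sgJ_mul_self (Fin k) r
      rw [show SympStd.sgJ (Fin k) r * (-1 * SympStd.sgJ (Fin k) r) =
        -(SympStd.sgJ (Fin k) r * SympStd.sgJ (Fin k) r) by ring, this]
      simp
    · rw [if_neg h, if_neg, mul_zero, neg_zero]
      intro h'
      exact h (σ.injective h'.symm)
  · intro b _ hb
    obtain ⟨q, rfl⟩ := σ.surjective b
    rw [Jn_apply, if_neg, zero_mul]
    intro h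
    exact hb (by rw [h])
  · intro h; exact absurd (Finset.mem_univ _) h

theorem Jn_transpose_map (φ : R →+* R) :
    (fun i j => φ ((Jn σ : Matrix (Fin n) (Fin n) R) j i)) = -(Jn σ : Matrix (Fin n) (Fin n) R) := by
  ext a b
  obtain ⟨p, rfl⟩ := σ.surjective a
  obtain ⟨q, rfl⟩ := σ.surjective b
  show φ ((Jn σ : Matrix (Fin n) (Fin n) R) (σ q) (σ p)) = -(Jn σ : Matrix (Fin n) (Fin n) R) (σ p) (σ q)
  rw [Jn_apply, Jn_apply]
  by_cases h : q = SympStd.flip (Fin k) p
  · have h' : p = SympStd.flip (Fin k) q := by rw [h, SympStd.flip_flip]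
    rw [if_pos h, if_pos h', map_intCast, h, SympStd.sgJ_flip]
    simp
  · have h' : ¬ p = SympStd.flip (Fin k) q := by
      intro h'
      apply h
      rw [h', SympStd.flip_flip]
    rw [if_neg h, if_neg h', map_zero, neg_zero]

end Alg

section Model

variable (S : Type u) (R : Type v) [CommRing S] [CommRing R] [Algebra S R]
  (lam : R ≃ₐ[S] R) (hlam : ∀ r, lam (lam r) = r) (n : ℕ)
  (w : (Matrix (Fin n) (Fin n) R)ˣ) (e : R)
  (hw : LamInv.transpose lam (Fin n) hlam (↑w : Matrix (Fin n) (Fin n) R) =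
    e • (↑w : Matrix (Fin n) (Fin n) R))
  (he : lam e * e = 1)
  (C : Type u') [CommRing C] [Algebra S C]
  {ι : Type} [Fintype ι] [DecidableEq ι] (σ : ι ≃ Fin n) (π : ι → ι) (sg : ι → ℤ)

theorem isMU_std : StdP.IsMU (fun a b : Fin n =>
    ((1 : C) ⊗ₜ[S] Matrix.single a b (1 : R) : C ⊗[S] Matrix (Fin n) (Fin n) R)) := by
  constructor
  · intro i j k l
    rw [Algebra.TensorProduct.tmul_mul_tmul, one_mul]
    split_ifs with h
    · subst h
      rw [Matrix.single_mul_single_same, mul_one]
    · rw [Matrix.single_mul_single_of_ne (c := (1 : R)) i j k h (1 : R), TensorProduct.tmul_zero]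
  · rw [← TensorProduct.tmul_sum, Algebra.TensorProduct.one_def]
    congr 1
    ext a b
    rw [Matrix.sum_apply, Matrix.one_apply]
    simp only [Matrix.single_apply]
    split_ifs with h
    · subst h
      simp
    · apply Finset.sum_eq_zero
      intro c _
      rw [if_neg]
      rintro ⟨rfl, rfl⟩
      exact h rfl

/-- the model `x ↦ w (lam-transpose x) w⁻¹` is in the normal form prescribed by the shape of
`w` over `C`. -/
theorem model_conj (hπ : ∀ i, π (π i) = i) (η : ℤ) (hη : ∀ i, sg (π i) = η * sg i)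
    (hsg : ∀ i, sg i * sg i = 1) (hηη : η * η = 1)
    (hwC : (1 : C) ⊗ₜ[S] (↑w : Matrix (Fin n) (Fin n) R) =
      ∑ i, sg i • ((1 : C) ⊗ₜ[S] Matrix.single (σ i) (σ (π i)) (1 : R))) :
    StdP.StdOverP S R lam (Matrix (Fin n) (Fin n) R)
      ((LamInv.transpose lam (Fin n) hlam).conj w e hw he) π sg C := by
  have hE := (isMU_std S R n C).reindex σ
  have htr : ∀ a b : Fin n, LamInv.transpose lam (Fin n) hlam (Matrix.single a b (1 : R)) =
      Matrix.single b a (1 : R) := by
    intro a b
    ext i j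
    rw [LamInv.transpose_apply, Matrix.single_apply, Matrix.single_apply]
    split_ifs with h1 h2 h2
    · exact map_one _
    · exact absurd ⟨h1.2, h1.1⟩ h2
    · exact absurd ⟨h2.2, h2.1⟩ h1
    · exact map_zero _
  refine StdP.stdOverP_of_unit S R lam hlam (Matrix (Fin n) (Fin n) R)
    ((LamInv.transpose lam (Fin n) hlam).conj w e hw he) π sg C
    (fun i j => (1 : C) ⊗ₜ[S] Matrix.single (σ i) (σ j) (1 : R)) hE
    ((1 : C) ⊗ₜ[S] (↑w : Matrix (Fin n) (Fin n) R))
    ((1 : C) ⊗ₜ[S] (↑w⁻¹ : Matrix (Fin n) (Fin n) R)) ?_ ?_ hπ η hη hsg hηη 1 1 (one_mul 1)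
    (one_mul 1) ?_
  · rw [Algebra.TensorProduct.tmul_mul_tmul, one_mul, Units.mul_inv, Algebra.TensorProduct.one_def]
  · intro i j
    rw [LamInv.bc_tmul, LamInv.conj_apply, htr, Algebra.TensorProduct.tmul_mul_tmul,
      Algebra.TensorProduct.tmul_mul_tmul, one_mul, one_mul]
  · rw [AzQE.bc_one, mul_one, one_mul, ← hwC, Algebra.TensorProduct.tmul_mul_tmul, one_mul,
      Units.mul_inv, Algebra.TensorProduct.one_def]

end Model

section Main

variable (S : Type u) (R : Type v) [CommRing S] [CommRing R] [Algebra S R]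
  (lam : R ≃ₐ[S] R) (hlam : ∀ r, lam (lam r) = r)
  (hfix : RInv.IsFixedRing S R lam.toRingEquiv)
  (A : Type w) [Ring A] [Algebra S A] [Algebra R A] [IsScalarTower S R A]
  (t : LamInv R A lam) (n : ℕ)

theorem isoAt_refl (q : PrimeSpectrum S) : IsoOv.IsoAt S R lam A A t t q :=
  ⟨S, inferInstance, inferInstance, inferInstance, ⟨q, rfl⟩, AlgEquiv.refl, fun _ _ => rfl,
    fun _ => rfl⟩

theorem isAzumayaDeg_matrixR (hn : 0 < n) : IsAzumayaDeg R (Matrix (Fin n) (Fin n) R) n := by
  haveI : Nonempty (Fin n) := ⟨⟨0, hn⟩⟩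
  refine ⟨IsAzumaya.matrix R (Fin n), fun p => ?_⟩
  haveI : Nontrivial R := p.nontrivial
  rw [Module.rankAtStalk_eq_finrank_of_free]
  simp [Module.finrank_matrix, pow_two]

/-- if the involution is standard étale-locally everywhere, it is ordinary with `w = 1`. -/
theorem ordinary_of_stdAt (hn : 0 < n) (hA : IsAzumayaDeg R A n)
    (h : ∀ q, StdInv.StdAt S R lam A t n q) :
    ∃ (w : (Matrix (Fin n) (Fin n) R)ˣ) (e : R)
      (hw : LamInv.transpose lam (Fin n) hlam (↑w : Matrix (Fin n) (Fin n) R) =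
        e • (↑w : Matrix (Fin n) (Fin n) R))
      (he : lam e * e = 1),
      LocIsoEt S lam t ((LamInv.transpose lam (Fin n) hlam).conj w e hw he) := by
  have hw : LamInv.transpose lam (Fin n) hlam
      (((1 : (Matrix (Fin n) (Fin n) R)ˣ) : Matrix (Fin n) (Fin n) R)) =
      (1 : R) • (((1 : (Matrix (Fin n) (Fin n) R)ˣ) : Matrix (Fin n) (Fin n) R)) := by
    rw [Units.val_one, one_smul]
    exact (LamInv.transpose lam (Fin n) hlam).map_one
  have he : lam (1 : R) * 1 = 1 := by rw [map_one, mul_one]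
  refine ⟨1, 1, hw, he, ?_⟩
  have heq : (LamInv.transpose lam (Fin n) hlam).conj 1 1 hw he =
      (LamInv.self lam hlam).matrix (Fin n) := by
    apply LamInv.ext
    intro M
    rw [LamInv.conj_apply]
    simp only [Units.val_one, inv_one, one_mul, mul_one]
    rfl
  rw [heq]
  exact StdInv.locIsoEt_of_stdAt S R lam hlam A t n hn hA h

theorem algebraMap_away_eq_one (ε f : S) (h1 : ε * f = 0) (h2 : ε + f = 1) :
    algebraMap S (Localization.Away ε) ε = 1 ∧ algebraMap S (Localization.Away ε) f = 0 := by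
  have hu : IsUnit (algebraMap S (Localization.Away ε) ε) :=
    IsLocalization.Away.algebraMap_isUnit ε
  have h3 : algebraMap S (Localization.Away ε) ε * algebraMap S (Localization.Away ε) f = 0 := by
    rw [← map_mul, h1, map_zero]
  have h4 : algebraMap S (Localization.Away ε) f = 0 := (hu.mul_right_eq_zero).mp h3
  refine ⟨?_, h4⟩
  have h5 : algebraMap S (Localization.Away ε) ε + algebraMap S (Localization.Away ε) f = 1 := by
    rw [← map_add, h2, map_one]
  rw [h4, add_zero] at h5
  exact h5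

include hlam hfix in
/-- the everywhere ramified case with `2` invertible. -/
theorem ordinary_ram (h2 : IsUnit (2 : S)) (hsq : OddStd.HasSqrt S)
    (hram : ∀ q : PrimeSpectrum S, RInvB.RamP lam q.asIdeal)
    (hn : 0 < n) (hA : IsAzumayaDeg R A n) :
    ∃ (w : (Matrix (Fin n) (Fin n) R)ˣ) (e : R)
      (hw : LamInv.transpose lam (Fin n) hlam (↑w : Matrix (Fin n) (Fin n) R) =
        e • (↑w : Matrix (Fin n) (Fin n) R))
      (he : lam e * e = 1),
      LocIsoEt S lam t ((LamInv.transpose lam (Fin n) hlam).conj w e hw he) := by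
  have hL1 := fun q => RamStd.L1 S R lam hlam hfix A t n h2 hsq hn hA q
  by_cases hk : 2 * (n / 2) = n
  swap
  · apply ordinary_of_stdAt S R lam hlam A t n hn hA
    intro q
    rcases hL1 q with h | ⟨κ, _, _, hκ, -⟩
    · exact h
    · exfalso
      omega
  set k := n / 2 with hkdef
  have hkpos : 0 < k := by omega
  have hA' : IsAzumayaDeg R A (2 * k) := by rw [hk]; exact hA
  set U : Set (PrimeSpectrum S) := {q | StdP.StdAtP S R lam A t (ι := Fin n) id (fun _ => 1) q}
    with hU
  set V : Set (PrimeSpectrum S) := {q | StdP.StdAtP S R lam A t (SympStd.flip (Fin k))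
    (SympStd.sgJ (Fin k)) q} with hV
  have hUopen : IsOpen U := Conn.isOpen_etAt S _
  have hVopen : IsOpen V := Conn.isOpen_etAt S _
  have hUV : ∀ q, q ∈ U ∨ q ∈ V := by
    intro q
    rcases hL1 q with h | ⟨κ, _, _, hκ, h⟩
    · exact Or.inl (StdP.stdAtP_of_stdAt S R _ _ _ n q h)
    · exact Or.inr (SameKind.kmAt_of_flip S R _ _ _ κ k (by omega) q h)
  have hA₁ : IsAzumayaDeg R (Matrix (Fin 1) (Fin 1) A) n := by
    have := Ampl.isAzumayaDeg_matrix R A 1 n one_pos hA
    rwa [one_mul] at this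
  have hdisj : ∀ q, q ∈ U → q ∈ V → False := by
    intro q hqU hqV
    exact SameKind.false_of_kp_km S R lam hlam hfix A A t t h2 q (hram q) n k 1 1 hn hkpos
      one_pos one_pos hA hA' hqU hqV (isoAt_refl S R lam _ _ q)
  have hUc : Uᶜ = V := by
    ext q
    constructor
    · intro hq
      rcases hUV q with h | h
      · exact absurd h hq
      · exact h
    · intro hq hq'
      exact hdisj q hq' hq
  have hUclosed : IsClosed U := by
    rw [← isOpen_compl_iff, hUc]
    exact hVopen
  obtain ⟨ε, f, hεf, hεf1, hUε⟩ := PrimeSpectrum.isClopen_iff_mul_add.mp ⟨hUclosed, hUopen⟩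
  have hfε : f * ε = 0 := by rw [mul_comm]; exact hεf
  have hfε1 : f + ε = 1 := by rw [add_comm]; exact hεf1
  have hmemU : ∀ q : PrimeSpectrum S, q ∈ U ↔ ε ∉ q.asIdeal := by
    intro q
    rw [hUε]
    exact PrimeSpectrum.mem_basicOpen ε q
  -- the global matrix
  let σ : Fin 2 × Fin k ≃ Fin n := finProdFinEquiv.trans (finCongr hk)
  set a : R := algebraMap S R ε with ha
  set b : R := algebraMap S R f with hb
  have hab : a * b = 0 := by rw [ha, hb, ← map_mul, hεf, map_zero]
  have hab1 : a + b = 1 := by rw [ha, hb, ← map_add, hεf1, map_one]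
  have haa : a * a = a := by
    have : a * a = a * (a + b) - a * b := by ring
    rw [this, hab1, hab, mul_one, sub_zero]
  have hbb : b * b = b := by
    have : b * b = (a + b) * b - a * b := by ring
    rw [this, hab1, hab, one_mul, sub_zero]
  have hlama : lam a = a := lam.commutes ε
  have hlamb : lam b = b := lam.commutes f
  set W : Matrix (Fin n) (Fin n) R := a • (1 : Matrix (Fin n) (Fin n) R) + b • Jn σ with hW
  set W' : Matrix (Fin n) (Fin n) R := a • (1 : Matrix (Fin n) (Fin n) R) - b • Jn σ with hW'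
  have hXX : (a • (1 : Matrix (Fin n) (Fin n) R)) * (a • (1 : Matrix (Fin n) (Fin n) R)) =
      a • (1 : Matrix (Fin n) (Fin n) R) := by
    rw [smul_mul_smul_comm, one_mul, haa]
  have hXY : (a • (1 : Matrix (Fin n) (Fin n) R)) * (b • Jn σ) = 0 := by
    rw [smul_mul_smul_comm, hab, zero_smul]
  have hYX : (b • (Jn σ : Matrix (Fin n) (Fin n) R)) * (a • (1 : Matrix (Fin n) (Fin n) R)) = 0 := by
    rw [smul_mul_smul_comm, mul_comm b a, hab, zero_smul]
  have hYY : (b • (Jn σ : Matrix (Fin n) (Fin n) R)) * (b • Jn σ) =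
      -(b • (1 : Matrix (Fin n) (Fin n) R)) := by
    rw [smul_mul_smul_comm, hbb, Jn_mul_Jn, smul_neg]
  have hWW' : W * W' = 1 := by
    rw [hW, hW', add_mul, mul_sub, mul_sub, hXX, hXY, hYX, hYY, sub_zero, zero_sub, neg_neg,
      ← add_smul, hab1, one_smul]
  have hW'W : W' * W = 1 := by
    rw [hW, hW', sub_mul, mul_add, mul_add, hXX, hXY, hYX, hYY, add_zero, zero_add, sub_neg_eq_add,
      ← add_smul, hab1, one_smul]
  let w : (Matrix (Fin n) (Fin n) R)ˣ := ⟨W, W', hWW', hW'W⟩
  have htrJ : LamInv.transpose lam (Fin n) hlam (Jn σ : Matrix (Fin n) (Fin n) R) = -Jn σ :=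
    Jn_transpose_map σ (lam : R →+* R)
  have hw : LamInv.transpose lam (Fin n) hlam (↑w : Matrix (Fin n) (Fin n) R) =
      (a - b) • (↑w : Matrix (Fin n) (Fin n) R) := by
    show LamInv.transpose lam (Fin n) hlam W = (a - b) • W
    rw [hW, LamInv.map_add, LamInv.map_smul, LamInv.map_smul, LamInv.map_one, htrJ, hlama, hlamb,
      smul_add, smul_smul, smul_smul, sub_mul, sub_mul, haa, hbb, hab, mul_comm b a, hab, sub_zero,
      zero_sub, neg_smul, smul_neg]
  have he : lam (a - b) * (a - b) = 1 := by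
    rw [map_sub, hlama, hlamb]
    have : (a - b) * (a - b) = (a + b) * (a + b) - 4 * (a * b) := by ring
    rw [this, hab1, hab, mul_zero, sub_zero, one_mul]
  refine ⟨w, a - b, hw, he, ?_⟩
  apply IsoOv.locIsoEt_of_isoAt
  intro q
  have hAM := isAzumayaDeg_matrixR R n hn
  have hsm : ∀ (C : Type u) [CommRing C] [Algebra S C] (s : S) (M : Matrix (Fin n) (Fin n) R),
      (1 : C) ⊗ₜ[S] (algebraMap S R s • M) = algebraMap S C s • ((1 : C) ⊗ₜ[S] M) := by
    intro C _ _ s M
    rw [algebraMap_smul, TensorProduct.tmul_smul, algebraMap_smul]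
  by_cases hq : q ∈ U
  · have hεq : ε ∉ q.asIdeal := (hmemU q).mp hq
    haveI : Algebra.Etale S (Localization.Away ε) := Algebra.Etale.of_isLocalizationAway ε
    obtain ⟨h1, h0⟩ := algebraMap_away_eq_one S ε f hεf hεf1
    have hmodel : StdP.StdOverP S R lam (Matrix (Fin n) (Fin n) R)
        ((LamInv.transpose lam (Fin n) hlam).conj w (a - b) hw he) (ι := Fin n) id (fun _ => 1)
        (Localization.Away ε) := by
      apply model_conj S R lam hlam n w (a - b) hw he (Localization.Away ε) (Equiv.refl (Fin n))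
        id (fun _ => 1) (fun _ => rfl) 1 (fun _ => by simp) (fun _ => by simp) (by simp)
      show (1 : Localization.Away ε) ⊗ₜ[S] W = _
      rw [hW, TensorProduct.tmul_add, ha, hb, hsm, hsm, h1, h0, one_smul, zero_smul, add_zero]
      simp only [one_smul, id, Equiv.refl_apply]
      rw [← TensorProduct.tmul_sum]
      congr 1
      ext i j
      rw [Matrix.sum_apply, Matrix.one_apply]
      simp only [Matrix.single_apply]
      split_ifs with h
      · subst h
        simp
      · symm
        apply Finset.sum_eq_zero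
        intro c _
        rw [if_neg]
        rintro ⟨rfl, rfl⟩
        exact h rfl
    have hqr : q ∈ Set.range (PrimeSpectrum.comap (algebraMap S (Localization.Away ε))) := by
      rw [PrimeSpectrum.localization_away_comap_range (Localization.Away ε) ε]
      exact hεq
    obtain ⟨q₁, hq₁⟩ := hqr
    exact SameKind.isoAt_of_stdAtP S R lam A (Matrix (Fin n) (Fin n) R) t _ n hn hA hAM
      (Fintype.card_fin n) id (fun _ => 1) q hq
      ⟨Localization.Away ε, inferInstance, inferInstance, inferInstance, ⟨q₁, hq₁⟩, hmodel⟩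
  · have hqV : q ∈ V := by
      rcases hUV q with h | h
      · exact absurd h hq
      · exact h
    have hεq : ε ∈ q.asIdeal := by
      by_contra h
      exact hq ((hmemU q).mpr h)
    have hfq : f ∉ q.asIdeal := by
      intro hf
      have : (1 : S) ∈ q.asIdeal := by rw [← hεf1]; exact q.asIdeal.add_mem hεq hf
      exact q.isPrime.ne_top ((Ideal.eq_top_iff_one _).mpr this)
    haveI : Algebra.Etale S (Localization.Away f) := Algebra.Etale.of_isLocalizationAway f
    obtain ⟨h1, h0⟩ := algebraMap_away_eq_one S f ε hfε hfε1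
    have hmodel : StdP.StdOverP S R lam (Matrix (Fin n) (Fin n) R)
        ((LamInv.transpose lam (Fin n) hlam).conj w (a - b) hw he) (SympStd.flip (Fin k))
        (SympStd.sgJ (Fin k)) (Localization.Away f) := by
      apply model_conj S R lam hlam n w (a - b) hw he (Localization.Away f) σ
        (SympStd.flip (Fin k)) (SympStd.sgJ (Fin k)) (SympStd.flip_flip (Fin k)) (-1)
        (SympStd.sgJ_flip (Fin k)) (SympStd.sgJ_mul_self (Fin k)) (by simp)
      show (1 : Localization.Away f) ⊗ₜ[S] W = _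
      rw [hW, TensorProduct.tmul_add, ha, hb, hsm, hsm, h1, h0, one_smul, zero_smul, zero_add,
        Jn_eq_sum, TensorProduct.tmul_sum]
      refine Finset.sum_congr rfl fun p _ => ?_
      exact map_zsmul (TensorProduct.mk S (Localization.Away f) (Matrix (Fin n) (Fin n) R) 1) _ _
    have hqr : q ∈ Set.range (PrimeSpectrum.comap (algebraMap S (Localization.Away f))) := by
      rw [PrimeSpectrum.localization_away_comap_range (Localization.Away f) f]
      exact hfq
    obtain ⟨q₁, hq₁⟩ := hqr
    have hι : Fintype.card (Fin 2 × Fin k) = n := by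
      rw [Fintype.card_prod, Fintype.card_fin, Fintype.card_fin, hk]
    exact SameKind.isoAt_of_stdAtP S R lam A (Matrix (Fin n) (Fin n) R) t _ n hn hA hAM
      hι (SympStd.flip (Fin k)) (SympStd.sgJ (Fin k)) q hqV
      ⟨Localization.Away f, inferInstance, inferInstance, inferInstance, ⟨q₁, hq₁⟩, hmodel⟩

end Main

end Groth.Agent.H7.Ordin
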