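import Mathlib
set_option autoImplicit false
universe u
open Finset

namespace Groth.Agent.H7.PBasisDVR

variable (p : ℕ) [hp : Fact p.Prime] {R : Type u} [CommRing R]
    [IsDomain R] [IsDiscreteValuationRing R] [CharP R p] (π : R) (hπ : Irreducible π)

/-- the form `Σ π^i b_i^p` -/
noncomputable def F (b : Fin p → R) : R := ∑ i : Fin p, π ^ (i : ℕ) * b i ^ p

include hπ in
lemma dvd_of_pow_dvd_F (b : Fin p → R) (h : π ^ p ∣ F p π b) : ∀ i, π ∣ b i := by
  have hprime : Prime π := hπ.prime
  have key : ∀ n : ℕ, ∀ i : Fin p, (i : ℕ) = n → π ∣ b i := by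
    intro n
    induction n using Nat.strong_induction_on with
    | _ n ih =>
      intro i hi
      have hdvd_other : π ^ (n + 1) ∣ ∑ j ∈ (univ : Finset (Fin p)).erase i, π ^ (j : ℕ) * b j ^ p := by
        refine Finset.dvd_sum fun j hj => ?_
        have hji : j ≠ i := (Finset.mem_erase.mp hj).1
        rcases lt_or_gt_of_ne (fun h : (j : ℕ) = i => hji (Fin.ext h)) with hlt | hgt
        · obtain ⟨c, hc⟩ := ih j (hi ▸ hlt) j rfl
          rw [hc, mul_pow]
          refine Dvd.dvd.mul_left (Dvd.dvd.mul_right (pow_dvd_pow π ?_) _) _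
          have := i.2
          omega
        · refine Dvd.dvd.mul_right (pow_dvd_pow π ?_) _
          omega
      have htot : π ^ (n + 1) ∣ F p π b := (pow_dvd_pow π (by have := i.2; omega)).trans h
      unfold F at htot
      rw [← Finset.add_sum_erase _ _ (Finset.mem_univ i)] at htot
      have h3 : π ^ (n + 1) ∣ π ^ (i : ℕ) * b i ^ p := (dvd_add_left hdvd_other).mp htot
      rw [hi, pow_succ] at h3
      have h4 : π ∣ b i ^ p := (mul_dvd_mul_iff_left (pow_ne_zero n hπ.ne_zero)).mp h3
      exact hprime.dvd_of_dvd_pow h4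
  exact fun i => key i i rfl

lemma F_smul (b : Fin p → R) : F p π (fun i => π * b i) = π ^ p * F p π b := by
  unfold F
  rw [Finset.mul_sum]
  refine Finset.sum_congr rfl fun i _ => ?_
  ring

include hπ in
lemma F_eq_zero (b : Fin p → R) (h : F p π b = 0) : b = 0 := by
  have key : ∀ m : ℕ, ∀ b : Fin p → R, F p π b = 0 → ∀ i, π ^ m ∣ b i := by
    intro m
    induction m with
    | zero => intro b _ i; simp
    | succ m ih =>
      intro b hb i
      have h1 := dvd_of_pow_dvd_F p π hπ b (hb ▸ dvd_zero _)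
      choose c hc using h1
      have hb' : b = fun i => π * c i := funext hc
      rw [hb', F_smul] at hb
      have hc0 : F p π c = 0 := by
        rcases mul_eq_zero.mp hb with h | h
        · exact absurd (pow_eq_zero_iff (hp.out.ne_zero) |>.mp h) hπ.ne_zero
        · exact h
      rw [hc i, pow_succ']
      exact mul_dvd_mul_left π (ih c hc0 i)
  funext i
  by_contra hne
  have hfin : FiniteMultiplicity π (b i) := FiniteMultiplicity.of_not_isUnit hπ.not_isUnit hne
  obtain ⟨n, hn⟩ := FiniteMultiplicity.def.mp hfin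
  exact hn (key (n + 1) b h i)

lemma F_sub (b c : Fin p → R) : F p π (b - c) = F p π b - F p π c := by
  unfold F
  rw [← Finset.sum_sub_distrib]
  refine Finset.sum_congr rfl fun i _ => ?_
  rw [Pi.sub_apply, sub_pow_char, mul_sub]

lemma F_add (b c : Fin p → R) : F p π (b + c) = F p π b + F p π c := by
  unfold F
  rw [← Finset.sum_add_distrib]
  refine Finset.sum_congr rfl fun i _ => ?_
  rw [Pi.add_apply, add_pow_char, mul_add]

include hπ in
lemma F_injective : Function.Injective (F p π : (Fin p → R) → R) := by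
  intro b c h
  have := F_eq_zero p π hπ (b - c) (by rw [F_sub, h, sub_self])
  exact sub_eq_zero.mp this

include hπ in
lemma exists_of_scaled (m : ℕ) : ∀ (r : R) (b : Fin p → R), π ^ (p * m) * r = F p π b →
    ∃ c : Fin p → R, r = F p π c := by
  induction m with
  | zero => intro r b h; exact ⟨b, by simpa using h⟩
  | succ m ih =>
    intro r b h
    have h1 := dvd_of_pow_dvd_F p π hπ b (h ▸ Dvd.intro_left _ (by
      show π ^ (p * m) * r * π ^ p = _
      rw [mul_add, mul_one, pow_add]; ring) : π ^ p ∣ F p π b)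
    choose c hc using h1
    have hb' : b = fun i => π * c i := funext hc
    rw [hb', F_smul, mul_add, mul_one, pow_add, mul_comm (π ^ (p * m)), mul_assoc] at h
    exact ih r c (mul_left_cancel₀ (pow_ne_zero p hπ.ne_zero) h)


section frac
variable {p}
local notation "K" => FractionRing R

include hπ in
lemma exists_denom (x : K) : ∃ (m : ℕ) (b : R), x * (algebraMap R K π) ^ m = algebraMap R K b := by
  obtain ⟨a, s, hs, rfl⟩ := IsFractionRing.div_surjective (A := R) x
  have hs0 : s ≠ 0 := nonZeroDivisors.ne_zero hs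
  obtain ⟨k, u, hu⟩ := IsDiscreteValuationRing.eq_unit_mul_pow_irreducible hs0 hπ
  refine ⟨k, a * ((u⁻¹ : Rˣ) : R), ?_⟩
  have hπ0 : algebraMap R K π ≠ 0 := by
    simpa using hπ.ne_zero
  have hu0 : algebraMap R K (u : R) ≠ 0 := by
    simpa using u.ne_zero
  have huinv : algebraMap R K ((u⁻¹ : Rˣ) : R) = (algebraMap R K (u : R))⁻¹ := by
    refine eq_inv_of_mul_eq_one_left ?_
    rw [← map_mul, Units.inv_mul, map_one]
  rw [hu, map_mul, map_mul, map_pow, huinv]
  field_simp

include hπ in
lemma exists_common_denom (a : Fin p → K) :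
    ∃ (m : ℕ) (b : Fin p → R), ∀ i, a i * (algebraMap R K π) ^ m = algebraMap R K (b i) := by
  choose m b h using fun i => exists_denom π hπ (a i)
  refine ⟨∑ i, m i, fun i => b i * π ^ ((∑ j, m j) - m i), fun i => ?_⟩
  have hle : m i ≤ ∑ j, m j := Finset.single_le_sum (f := m) (fun _ _ => Nat.zero_le _) (Finset.mem_univ i)
  rw [map_mul, ← h i, map_pow, mul_assoc, ← pow_add, Nat.add_sub_cancel' hle]

include hπ in
/-- key: from a `kp`-combination of powers of π to an `F`-identity in `R`. -/
lemma scaled_of_comb (kp : Subfield (FractionRing R))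
    (hkp : ∀ x : FractionRing R, x ∈ kp ↔ ∃ y : FractionRing R, y ^ p = x) (g : Fin p → ↥kp) (r : R)
    (h : ∑ i : Fin p, g i • (algebraMap R K π) ^ (i : ℕ) = algebraMap R K r) :
    ∃ (m : ℕ) (b : Fin p → R), π ^ (p * m) * r = F p π b ∧
      ∀ i, (g i : K) * (algebraMap R K π) ^ (p * m) = algebraMap R K (b i) ^ p := by
  have hy : ∀ i, ∃ y : K, y ^ p = (g i : K) := fun i => (hkp _).mp (g i).2
  choose y hy using hy
  obtain ⟨m, b, hb⟩ := exists_common_denom π hπ y
  refine ⟨m, b, ?_, ?_⟩
  · apply IsFractionRing.injective R K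
    rw [map_mul, ← h, Finset.mul_sum, F, map_sum]
    refine Finset.sum_congr rfl fun i _ => ?_
    rw [Subfield.smul_def, smul_eq_mul, ← hy i, map_mul, map_pow, map_pow, map_pow, ← hb i, mul_pow,
      ← pow_mul, mul_comm m p]
    ring
  · intro i
    rw [← hy i, ← hb i, mul_pow, ← pow_mul, mul_comm m p]

include hπ in
lemma linearIndependent_pow (kp : Subfield (FractionRing R))
    (hkp : ∀ x : FractionRing R, x ∈ kp ↔ ∃ y : FractionRing R, y ^ p = x) :
    LinearIndependent ↥kp (fun i : Fin p => (algebraMap R K π) ^ (i : ℕ)) := by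
  rw [Fintype.linearIndependent_iff]
  intro g hg i
  obtain ⟨m, b, h1, h2⟩ := scaled_of_comb π hπ kp hkp g 0 (by rw [hg, map_zero])
  rw [mul_zero] at h1
  have hb0 := F_eq_zero p π hπ b h1.symm
  have h3 := h2 i
  have hπ0 : algebraMap R K π ≠ 0 := by
    simpa using hπ.ne_zero
  rw [hb0, Pi.zero_apply, map_zero, zero_pow hp.out.ne_zero] at h3
  rcases mul_eq_zero.mp h3 with h | h
  · exact Subtype.ext h
  · exact absurd h (pow_ne_zero _ hπ0)

include hπ in
lemma exists_F (kp : Subfield (FractionRing R))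
    (hkp : ∀ x : FractionRing R, x ∈ kp ↔ ∃ y : FractionRing R, y ^ p = x) (hdeg : Module.finrank kp K = p) (r : R) : ∃ c : Fin p → R, r = F p π c := by
  haveI : Module.Finite kp K := Module.finite_of_finrank_pos (by rw [hdeg]; exact hp.out.pos)
  have hspan := (linearIndependent_pow π hπ kp hkp).span_eq_top_of_card_eq_finrank'
    (by rw [Fintype.card_fin, hdeg])
  have hmem : algebraMap R K r ∈ Submodule.span kp (Set.range fun i : Fin p => (algebraMap R K π) ^ (i : ℕ)) := by
    rw [hspan]; trivial
  obtain ⟨g, hg⟩ := (Submodule.mem_span_range_iff_exists_fun kp).mp hmem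
  obtain ⟨m, b, h1, -⟩ := scaled_of_comb π hπ kp hkp g r hg
  exact exists_of_scaled p π hπ m r b h1

end frac


section deriv
variable {p} (hF : Function.Bijective (F p π : (Fin p → R) → R))

/-- `k π^(k-1)` -/
def dpow (k : ℕ) : R := (k : R) * π ^ (k - 1)

omit [IsDomain R] [IsDiscreteValuationRing R] [CharP R p] hp in
lemma dpow_add (i j : ℕ) : dpow π (i + j) = π ^ i * dpow π j + π ^ j * dpow π i := by
  unfold dpow
  rcases i with _ | i
  · simp
  rcases j with _ | j
  · simp
  have e1 : i + 1 + (j + 1) - 1 = i + j + 1 := by omega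
  rw [e1]
  simp only [Nat.add_sub_cancel]
  push_cast
  ring

/-- decomposition -/
noncomputable def dec (r : R) : Fin p → R := (Equiv.ofBijective _ hF).symm r

lemma F_dec (r : R) : F p π (dec π hF r) = r := (Equiv.ofBijective _ hF).apply_symm_apply r

lemma dec_F (c : Fin p → R) : dec π hF (F p π c) = c := (Equiv.ofBijective _ hF).symm_apply_apply c

lemma dec_add (r s : R) : dec π hF (r + s) = dec π hF r + dec π hF s := by
  apply hF.1
  rw [F_dec, F_add, F_dec, F_dec]

/-- the derivation as a function -/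
noncomputable def δ (r : R) : R := ∑ i : Fin p, dpow π (i : ℕ) * dec π hF r i ^ p

lemma δ_add (r s : R) : δ π hF (r + s) = δ π hF r + δ π hF s := by
  unfold δ
  rw [dec_add, ← Finset.sum_add_distrib]
  refine Finset.sum_congr rfl fun i _ => ?_
  rw [Pi.add_apply, add_pow_char, mul_add]

omit [IsDomain R] [IsDiscreteValuationRing R] [CharP R p] in
lemma F_single (i : Fin p) (x : R) : F p π (Pi.single i x) = π ^ (i : ℕ) * x ^ p := by
  unfold F
  rw [Finset.sum_eq_single i]
  · simp
  · intro j _ hji
    rw [Pi.single_eq_of_ne hji, zero_pow hp.out.ne_zero, mul_zero]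
  · simp

lemma δ_monomial (k : ℕ) (e : R) : δ π hF (π ^ k * e ^ p) = dpow π k * e ^ p := by
  have hpos : 0 < p := hp.out.pos
  let i : Fin p := ⟨k % p, Nat.mod_lt _ hpos⟩
  have hk : k = (i : ℕ) + p * (k / p) := (Nat.mod_add_div k p).symm
  have h1 : π ^ k * e ^ p = F p π (Pi.single i (π ^ (k / p) * e)) := by
    rw [F_single, mul_pow, ← pow_mul, mul_comm (k / p) p, ← mul_assoc, ← pow_add, ← hk]
  unfold δ
  rw [h1, dec_F, Finset.sum_eq_single i]
  · rw [Pi.single_eq_same, mul_pow, ← pow_mul, mul_comm (k / p) p, ← mul_assoc]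
    congr 1
    unfold dpow
    have hcast : (k : R) = ((i : ℕ) : R) := by
      conv_lhs => rw [hk]
      push_cast
      rw [CharP.cast_eq_zero R p, zero_mul, add_zero]
    rw [hcast]
    rcases Nat.eq_zero_or_pos (i : ℕ) with h0 | h0
    · rw [h0]; simp
    · rw [mul_assoc, ← pow_add]
      congr 2
      omega
  · intro j _ hji
    rw [Pi.single_eq_of_ne hji, zero_pow hp.out.ne_zero, mul_zero]
  · simp

lemma δ_sum {ι : Type*} (s : Finset ι) (f : ι → R) : δ π hF (∑ i ∈ s, f i) = ∑ i ∈ s, δ π hF (f i) := by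
  classical
  induction s using Finset.induction_on with
  | empty =>
    simp only [Finset.sum_empty]
    have := δ_add π hF 0 0
    rw [add_zero] at this
    exact left_eq_add.mp this
  | insert a s ha ih =>
    rw [Finset.sum_insert ha, Finset.sum_insert ha, δ_add, ih]

lemma δ_mul (r s : R) : δ π hF (r * s) = r * δ π hF s + s * δ π hF r := by
  rw [mul_comm s]
  have hr : r = ∑ i : Fin p, π ^ (i : ℕ) * dec π hF r i ^ p := (F_dec π hF r).symm
  have hs : s = ∑ j : Fin p, π ^ (j : ℕ) * dec π hF s j ^ p := (F_dec π hF s).symm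
  have hrs : r * s = ∑ i : Fin p, ∑ j : Fin p,
      π ^ ((i : ℕ) + (j : ℕ)) * (dec π hF r i * dec π hF s j) ^ p := by
    conv_lhs => rw [hr, hs]
    rw [Finset.sum_mul_sum]
    refine Finset.sum_congr rfl fun i _ => Finset.sum_congr rfl fun j _ => ?_
    ring
  have hδr : δ π hF r = ∑ i : Fin p, dpow π (i : ℕ) * dec π hF r i ^ p := rfl
  have hδs : δ π hF s = ∑ j : Fin p, dpow π (j : ℕ) * dec π hF s j ^ p := rfl
  rw [hrs, δ_sum]
  simp_rw [δ_sum, δ_monomial, dpow_add]
  conv_rhs => rw [hδr, hδs]
  conv_rhs => enter [1]; rw [hr]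
  conv_rhs => enter [2]; rw [hs]
  rw [Finset.sum_mul_sum, Finset.sum_mul_sum, ← Finset.sum_add_distrib]
  refine Finset.sum_congr rfl fun i _ => ?_
  rw [← Finset.sum_add_distrib]
  refine Finset.sum_congr rfl fun j _ => ?_
  ring

lemma δ_π : δ π hF π = 1 := by
  have := δ_monomial π hF 1 1
  simpa [dpow] using this

/-- the derivation -/
noncomputable def der : Derivation ℤ R R :=
  Derivation.mk' (AddMonoidHom.toIntLinearMap
    { toFun := δ π hF
      map_zero' := by
        have := δ_add π hF 0 0
        rw [add_zero] at this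
        exact left_eq_add.mp this
      map_add' := δ_add π hF })
    (fun a b => by
      show δ π hF (a * b) = a • δ π hF b + b • δ π hF a
      rw [smul_eq_mul, smul_eq_mul, δ_mul])

lemma der_π : der π hF π = 1 := δ_π π hF

include hF in
lemma bijective_smul_D : Function.Bijective (fun r : R => r • KaehlerDifferential.D ℤ R π) := by
  constructor
  · intro r s h
    have := congrArg (der π hF).liftKaehlerDifferential h
    simpa [der_π] using this
  · intro ω
    have hω : ω ∈ Submodule.span R (Set.range (KaehlerDifferential.D ℤ R)) := by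
      rw [KaehlerDifferential.span_range_derivation]; trivial
    have hle : Submodule.span R (Set.range (KaehlerDifferential.D ℤ R)) ≤
        Submodule.span R {KaehlerDifferential.D ℤ R π} := by
      rw [Submodule.span_le]
      rintro _ ⟨r, rfl⟩
      rw [← F_dec π hF r, F, map_sum]
      refine Submodule.sum_mem _ fun i _ => ?_
      rw [Derivation.leibniz, Derivation.leibniz_pow, Derivation.leibniz_pow]
      have hp0 : (p : R) = 0 := CharP.cast_eq_zero R p
      have : (p • dec π hF r i ^ (p - 1) • (KaehlerDifferential.D ℤ R) (dec π hF r i)) = 0 := by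
        rw [← Nat.cast_smul_eq_nsmul R, hp0, zero_smul]
      rw [this, smul_zero, zero_add]
      refine Submodule.smul_mem _ _ (Submodule.smul_of_tower_mem _ _ (Submodule.smul_mem _ _ ?_))
      exact Submodule.mem_span_singleton_self _
    obtain ⟨r, hr⟩ := Submodule.mem_span_singleton.mp (hle hω)
    exact ⟨r, hr⟩

end deriv

theorem main (p : ℕ) [Fact p.Prime] {R : Type u} [CommRing R]
    [IsDomain R] [IsDiscreteValuationRing R] [CharP R p]
    (kp : Subfield (FractionRing R)) (hkp : ∀ x : FractionRing R, x ∈ kp ↔ ∃ y : FractionRing R, y ^ p = x)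
    (hdeg : Module.finrank kp (FractionRing R) = p)
    (π : R) (hπ : Irreducible π) :
    (∀ r : R, ∃! c : Fin p → R, r = ∑ i : Fin p, π ^ (i : ℕ) * c i ^ p) ∧
      Function.Bijective (fun r : R => r • KaehlerDifferential.D ℤ R π) := by
  have hF : Function.Bijective (F p π : (Fin p → R) → R) :=
    ⟨F_injective p π hπ, fun r => by
      obtain ⟨c, hc⟩ := exists_F π hπ kp hkp hdeg r
      exact ⟨c, hc.symm⟩⟩
  refine ⟨fun r => ?_, bijective_smul_D π hF⟩
  obtain ⟨c, hc⟩ := hF.2 r
  refine ⟨c, hc.symm, fun c' hc' => hF.1 (by rw [hc]; exact hc'.symm)⟩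

end Groth.Agent.H7.PBasisDVR
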