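import Mathlib
import Groth.Prelude.Def_ProEtS

/-!
# Helper7: PE2 — open immersions on the pro-étale site: `j_!`, `j_*` fully faithful (S0742)
-/

set_option autoImplicit false

universe u

open CategoryTheory CategoryTheory.Limits Opposite AlgebraicGeometry MorphismProperty

namespace Groth.Agent.H7.PE2

variable {U X : Scheme.{u}} (j : U ⟶ X) [hj : WeaklyEtale j]

/-- `V ↦ (V → U → X)` is left adjoint to base change along `j` on pro-étale sites -/
noncomputable def compBcAdjP : ProEtS.compP j ⊣ ProEtS.bcP j :=
  MorphismProperty.Over.mapPullbackAdj (@WeaklyEtale) ⊤ j hj trivial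

set_option backward.isDefEq.respectTransparency false in
instance isIso_unit_app [Mono j] (V : U.ProEt) : IsIso ((compBcAdjP j).unit.app V) := by
  haveI h1 : IsIso ((MorphismProperty.Over.forget (@WeaklyEtale) ⊤ U).map
      ((compBcAdjP j).unit.app V)) := by
    haveI : IsIso ((CategoryTheory.Over.forget U).map
        ((MorphismProperty.Over.forget (@WeaklyEtale) ⊤ U).map ((compBcAdjP j).unit.app V))) := by
      change IsIso (pullback.lift (𝟙 V.left) V.hom _)
      refine ⟨pullback.fst _ _, pullback.lift_fst _ _ _, ?_⟩
      apply pullback.hom_ext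
      · simp
      · rw [Category.assoc, pullback.lift_snd, Category.id_comp]
        have := pullback.condition (f := V.hom ≫ j) (g := j)
        rw [← Category.assoc] at this
        exact (cancel_mono j).1 this
    exact isIso_of_reflects_iso _ (CategoryTheory.Over.forget U)
  haveI : (MorphismProperty.Over.forget (@WeaklyEtale) ⊤ U).ReflectsIsomorphisms :=
    inferInstanceAs ((MorphismProperty.Comma.forget _ _ _ _ _).ReflectsIsomorphisms)
  exact isIso_of_reflects_iso _ (MorphismProperty.Over.forget (@WeaklyEtale) ⊤ U)

variable [ProEtS.JPCont j] [ProEtS.PCont j]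

/-- restriction along `j` is left adjoint to `j_*` -/
noncomputable def restrPushAdjP : ProEtS.restrP j ⊣ ProEtS.pushP j :=
  (compBcAdjP j).sheafPushforwardContinuous (E := AddCommGrpCat.{u + 1})
    (Scheme.ProEt.topology U) (Scheme.ProEt.topology X)

instance isIso_counit_restrPushAdjP [Mono j] : IsIso (restrPushAdjP j).counit := by
  haveI : ∀ G, IsIso ((restrPushAdjP j).counit.app G) := by
    intro G
    haveI : IsIso ((sheafToPresheaf _ _).map ((restrPushAdjP j).counit.app G)) := by
      rw [NatTrans.isIso_iff_isIso_app]
      intro V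
      change IsIso (G.obj.map ((compBcAdjP j).unit.app V.unop).op)
      infer_instance
    exact isIso_of_reflects_iso _ (sheafToPresheaf _ _)
  exact NatIso.isIso_of_isIso_app _

/-- the adjoint triple `j_! ⊣ j⁻¹ ⊣ j_*` -/
noncomputable def triple : Adjunction.Triple (ProEtS.extZeroP j) (ProEtS.restrP j) (ProEtS.pushP j) where
  adj₁ := ProEtS.extZeroPAdj j
  adj₂ := restrPushAdjP j

theorem S0742_main [Mono j] (F G : ProEtS.AbP U) :
    IsIso ((ProEtS.extZeroPAdj j).unit.app F) ∧ IsIso ((ProEtS.pullPushAdjP j).counit.app G) := by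
  constructor
  · haveI : IsIso (ProEtS.extZeroPAdj j).unit :=
      (triple j).isIso_unit_iff_isIso_counit.mpr (isIso_counit_restrPushAdjP j)
    infer_instance
  · -- `j_*` is fully faithful
    haveI : (ProEtS.pushP j).Full := (restrPushAdjP j).fullyFaithfulROfIsIsoCounit.full
    haveI : (ProEtS.pushP j).Faithful := (restrPushAdjP j).fullyFaithfulROfIsIsoCounit.faithful
    infer_instance

end Groth.Agent.H7.PE2
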