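import Groth.Agent.Lib.Helper7.GT1
import Groth.Agent.Lib.Helper7.BS4
import Groth.Prelude.Def_ProEtS

/-! # Restriction from the big pro-étale site to small pro-étale sites (helper7). -/

set_option autoImplicit false
universe u
open CategoryTheory CategoryTheory.Limits AlgebraicGeometry Opposite

namespace Groth.Agent.H7.PEB

/-- `Over.map f` preserves connected limits. -/
instance preservesLimitsOfShape_overMap {C : Type*} [Category C] {X Y : C} (f : X ⟶ Y)
    (J : Type*) [Category J] [IsConnected J] : PreservesLimitsOfShape J (Over.map f) := by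
  constructor
  intro K
  haveI : PreservesLimit K (Over.map f ⋙ Over.forget Y) :=
    inferInstanceAs (PreservesLimit K (Over.forget X))
  exact preservesLimit_of_reflects_of_preserves (Over.map f) (Over.forget Y)

theorem S7295_main {T S : Scheme.{u}} (f : T ⟶ S)
    [(Scheme.ProEt.forget T ⋙ Over.map f).IsContinuous (Scheme.ProEt.topology T)
      (Scheme.proetaleTopology.over S)]
    (I : Sheaf (Scheme.proetaleTopology.over S) AddCommGrpCat.{u + 1}) [Injective I] :
    Injective (((Scheme.ProEt.forget T ⋙ Over.map f).sheafPushforwardContinuous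
      AddCommGrpCat.{u + 1} (Scheme.ProEt.topology T) (Scheme.proetaleTopology.over S)).obj I) := by
  haveI : AB5OfSize.{u, u + 1} AddCommGrpCat.{u + 1} :=
    AB5OfSize_of_univLE.{u, u + 1, u + 1, u + 1} AddCommGrpCat.{u + 1}
  haveI : PreservesFiniteLimits ((Scheme.ProEt.forget T ⋙ Over.map f).sheafPullback
      AddCommGrpCat.{u + 1} (Scheme.ProEt.topology T) (Scheme.proetaleTopology.over S)) :=
    Groth.Agent.H7.GT.sheafPullback_preservesFiniteLimits _ _ _ _
  exact Injective.injective_of_adjoint ((Scheme.ProEt.forget T ⋙ Over.map f).sheafAdjunctionContinuous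
    AddCommGrpCat.{u + 1} (Scheme.ProEt.topology T) (Scheme.proetaleTopology.over S)) I

theorem isCocontinuous_forget (S : Scheme.{u}) :
    (Scheme.ProEt.forget S).IsCocontinuous (Scheme.ProEt.topology S)
      (Scheme.proetaleTopology.over S) := by
  have h : Scheme.ProEt.topology S =
      (Scheme.ProEt.forget S).restrictedTopology (Scheme.proetaleTopology.over S) :=
    MorphismProperty.toGrothendieck_comap_forget_eq_restrictedTopology _
      Scheme.proetalePrecoverage_le_precoverage_weaklyEtale
  rw [h]
  infer_instance

set_option backward.isDefEq.respectTransparency false in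
theorem S7296_main (S : Scheme.{u})
    [((Scheme.ProEt.forget S).sheafPushforwardContinuous AddCommGrpCat.{u + 1}
      (Scheme.ProEt.topology S) (Scheme.proetaleTopology.over S)).Additive]
    [HasInjectiveResolutions (Sheaf (Scheme.proetaleTopology.over S) AddCommGrpCat.{u + 1})]
    (F : ProEtS.AbP S) :
    IsIso (((Scheme.ProEt.forget S).sheafAdjunctionContinuous AddCommGrpCat.{u + 1}
      (Scheme.ProEt.topology S) (Scheme.proetaleTopology.over S)).unit.app F) ∧
    ∀ q : ℕ, 0 < q →
      IsZero ((((Scheme.ProEt.forget S).sheafPushforwardContinuous AddCommGrpCat.{u + 1}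
        (Scheme.ProEt.topology S) (Scheme.proetaleTopology.over S)).rightDerived q).obj
        (((Scheme.ProEt.forget S).sheafPullback AddCommGrpCat.{u + 1} (Scheme.ProEt.topology S)
          (Scheme.proetaleTopology.over S)).obj F)) := by
  haveI := isCocontinuous_forget S
  let t : Adjunction.Triple
      ((Scheme.ProEt.forget S).sheafPullback AddCommGrpCat.{u + 1} (Scheme.ProEt.topology S)
        (Scheme.proetaleTopology.over S))
      ((Scheme.ProEt.forget S).sheafPushforwardContinuous AddCommGrpCat.{u + 1}
        (Scheme.ProEt.topology S) (Scheme.proetaleTopology.over S))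
      ((Scheme.ProEt.forget S).sheafPushforwardCocontinuous AddCommGrpCat.{u + 1}
        (Scheme.ProEt.topology S) (Scheme.proetaleTopology.over S)) :=
    ⟨(Scheme.ProEt.forget S).sheafAdjunctionContinuous AddCommGrpCat.{u + 1}
      (Scheme.ProEt.topology S) (Scheme.proetaleTopology.over S),
     (Scheme.ProEt.forget S).sheafAdjunctionCocontinuous AddCommGrpCat.{u + 1}
      (Scheme.ProEt.topology S) (Scheme.proetaleTopology.over S)⟩
  have hcounit : IsIso t.adj₂.counit := by
    haveI : ∀ G, IsIso (t.adj₂.counit.app G) := by
      intro G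
      haveI : IsIso ((sheafToPresheaf _ _).map (t.adj₂.counit.app G)) := by
        change IsIso (t.adj₂.counit.app G).hom
        rw [Functor.sheafAdjunctionCocontinuous_counit_app_hom]
        infer_instance
      exact isIso_of_reflects_iso _ (sheafToPresheaf _ _)
    exact NatIso.isIso_of_isIso_app _
  have hunit : IsIso t.adj₁.unit := t.isIso_unit_iff_isIso_counit.2 hcounit
  refine ⟨inferInstanceAs (IsIso (t.adj₁.unit.app F)), ?_⟩
  intro q hq
  obtain ⟨n, rfl⟩ := Nat.exists_eq_succ_of_ne_zero hq.ne'
  haveI : PreservesLimitsOfSize.{0, 0} ((Scheme.ProEt.forget S).sheafPushforwardContinuous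
      AddCommGrpCat.{u + 1} (Scheme.ProEt.topology S) (Scheme.proetaleTopology.over S)) :=
    t.adj₁.rightAdjoint_preservesLimits
  haveI : PreservesColimitsOfSize.{0, 0} ((Scheme.ProEt.forget S).sheafPushforwardContinuous
      AddCommGrpCat.{u + 1} (Scheme.ProEt.topology S) (Scheme.proetaleTopology.over S)) :=
    t.adj₂.leftAdjoint_preservesColimits
  haveI : PreservesFiniteLimits ((Scheme.ProEt.forget S).sheafPushforwardContinuous
      AddCommGrpCat.{u + 1} (Scheme.ProEt.topology S) (Scheme.proetaleTopology.over S)) :=
    PreservesLimitsOfSize.preservesFiniteLimits _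
  haveI : PreservesFiniteColimits ((Scheme.ProEt.forget S).sheafPushforwardContinuous
      AddCommGrpCat.{u + 1} (Scheme.ProEt.topology S) (Scheme.proetaleTopology.over S)) :=
    PreservesColimitsOfSize.preservesFiniteColimits _
  exact Groth.Agent.H7.BS.isZero_rightDerived_succ_of_exact _ _ n

end Groth.Agent.H7.PEB
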