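import Mathlib
import Groth.Prelude.Def_ProEtS

/-!
# Helper7: PEps1 — continuity of `ε : X_ét → X_proét` (S0729)
-/

set_option autoImplicit false

universe u

open CategoryTheory CategoryTheory.Limits Opposite AlgebraicGeometry

namespace Groth.Agent.H7.PE

open ProEtS

variable (X : Scheme.{u})

set_option backward.isDefEq.respectTransparency.types false in
noncomputable instance preservesFiniteLimits_eps : PreservesFiniteLimits (eps X) := by
  have h : PreservesFiniteLimits (eps X ⋙ Scheme.ProEt.forget X) :=
    inferInstanceAs (PreservesFiniteLimits (Scheme.Etale.forget X))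
  exact preservesFiniteLimits_of_reflects_of_preserves (eps X) (Scheme.ProEt.forget X)

noncomputable instance representablyFlat_eps : RepresentablyFlat (eps X) :=
  flat_of_preservesFiniteLimits _

set_option backward.isDefEq.respectTransparency.types false in
theorem coverPreserving_eps :
    CoverPreserving X.smallEtaleTopology (Scheme.ProEt.topology X) (eps X) := by
  constructor
  intro U S hS
  obtain ⟨𝒰, h𝒰, hp, hle⟩ := (Scheme.mem_smallGrothendieckTopology (P := @Etale) U S).1 hS
  -- the generating presieve
  let R : Presieve ((eps X).obj U) :=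
    Presieve.ofArrows (fun j => (eps X).obj ((𝒰.X j).asOverProp X (hp j)))
      (fun j => (eps X).map ((𝒰.f j).asOverProp X))
  have hR : R ∈ Scheme.ProEt.precoverage X ((eps X).obj U) := by
    change R.map (Scheme.ProEt.forget X ⋙ Over.forget X) ∈ Scheme.proetalePrecoverage _
    rw [Presieve.map_ofArrows]
    exact Scheme.etalePrecoverage_le_proetalePrecoverage _ 𝒰.mem₀
  refine GrothendieckTopology.superset_covering _ ?_
    (Precoverage.generate_mem_toGrothendieck hR)
  rw [Sieve.generate_le_iff]
  rintro - - ⟨j⟩
  exact Sieve.image_mem_functorPushforward _ _ (hle _ _ ⟨j⟩)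

theorem S0729_main : ProEtS.EpsCont X :=
  Functor.isContinuous_of_coverPreserving (compatiblePreservingOfFlat _ _) (coverPreserving_eps X)

end Groth.Agent.H7.PE
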