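import Mathlib
import Groth.Prelude.Def_ProEtS

/-!
# Helper7: PEps2 — continuity of base change `Y_proét → X_proét` (S0730)
-/

set_option autoImplicit false

universe u

open CategoryTheory CategoryTheory.Limits Opposite AlgebraicGeometry

namespace Groth.Agent.H7.PE

open ProEtS

variable {X Y : Scheme.{u}} (f : X ⟶ Y)

set_option backward.isDefEq.respectTransparency.types false in
noncomputable instance preservesFiniteLimits_bcP : PreservesFiniteLimits (bcP f) := by
  have h : PreservesFiniteLimits (bcP f ⋙ Scheme.ProEt.forget X) := by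
    let e : bcP f ⋙ Scheme.ProEt.forget X ≅ Scheme.ProEt.forget Y ⋙ Over.pullback f :=
      MorphismProperty.Over.pullbackCompForgetIso (P := @WeaklyEtale) (Q := ⊤) f
    exact preservesFiniteLimits_of_natIso e.symm
  exact preservesFiniteLimits_of_reflects_of_preserves (bcP f) (Scheme.ProEt.forget X)

set_option backward.isDefEq.respectTransparency.types false in
/-- For `g : V ⟶ U` in `Y.ProEt`, the square with corners `V ×_Y X, U ×_Y X, V, U` is cartesian. -/
theorem isPullback_bcP_map {U V : Y.ProEt} (g : V ⟶ U) :
    IsPullback ((bcP f).map g).left (pullback.fst V.hom f : ((bcP f).obj V).left ⟶ V.left)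
      (pullback.fst U.hom f : ((bcP f).obj U).left ⟶ U.left) g.left := by
  have e1 : ((bcP f).map g).left ≫ pullback.snd U.hom f = pullback.snd V.hom f := by
    dsimp [bcP]
    exact pullback.lift_snd _ _ _
  have e2 : g.left ≫ U.hom = V.hom := Over.w g.hom
  refine IsPullback.of_right (h₁₂ := pullback.snd U.hom f) (v₁₃ := f) (h₂₂ := U.hom) ?_ ?_
    (IsPullback.of_hasPullback U.hom f).flip
  · exact (congrArg₂ (fun a d => IsPullback a (pullback.fst V.hom f) f d) e1 e2).mpr
      (IsPullback.of_hasPullback V.hom f).flip
  · dsimp [bcP]
    exact pullback.lift_fst _ _ _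

set_option backward.isDefEq.respectTransparency.types false in
theorem precoverage_le_comap :
    Scheme.ProEt.precoverage Y ≤ (Scheme.ProEt.precoverage X).comap (bcP f) := by
  intro U R hR
  obtain ⟨ι, V, g, rfl⟩ := R.exists_eq_ofArrows
  change (Presieve.ofArrows V g).map (Scheme.ProEt.forget Y ⋙ Over.forget Y) ∈
    Scheme.proetalePrecoverage _ at hR
  change ((Presieve.ofArrows V g).map (bcP f)).map (Scheme.ProEt.forget X ⋙ Over.forget X) ∈
    Scheme.proetalePrecoverage _
  rw [Presieve.map_ofArrows] at hR ⊢
  rw [Presieve.map_ofArrows]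
  exact Precoverage.mem_coverings_of_isPullback _ hR
    (pullback.fst U.hom f : ((bcP f).obj U).left ⟶ U.left) _
    (fun i => (pullback.fst (V i).hom f : ((bcP f).obj (V i)).left ⟶ (V i).left))
    (fun i => isPullback_bcP_map f (g i))

set_option backward.isDefEq.respectTransparency.types false in
instance isStableUnderBaseChange_precoverage (S : Scheme.{u}) :
    (Scheme.ProEt.precoverage S).IsStableUnderBaseChange := by
  unfold Scheme.ProEt.precoverage
  infer_instance

set_option backward.isDefEq.respectTransparency.types false in
theorem S0730_main : ProEtS.PCont f :=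
  Functor.isContinuous_toGrothendieck_of_pullbacksPreservedBy (F := bcP f)
    (Scheme.ProEt.precoverage Y) (Scheme.ProEt.precoverage X) (precoverage_le_comap f)

end Groth.Agent.H7.PE
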