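import Mathlib
import Groth.Prelude.Def_AlgSpPerf
import Groth.Agent.Lib.Helper7.ASm3
import Groth.Agent.Lib.Helper7.ACI2
import Groth.Agent.Lib.Helper5.PullbackRange

/-! # Perfect objects on a quasi-compact algebraic space are bounded above -/

set_option autoImplicit false
set_option linter.style.haveILetI false
set_option linter.unusedVariables false
set_option linter.unusedSectionVars false
set_option maxHeartbeats 800000
universe w₁ w₂ v₁ v₂ u₁ u₂ u
open CategoryTheory CategoryTheory.Limits AlgebraicGeometry Opposite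
attribute [local instance] HasDerivedCategory.standard

set_option backward.isDefEq.respectTransparency false

namespace Groth.Agent.H7.PFD

open AlgSp Groth.Agent.H7.ASm Groth.Agent.H7.ACI

section general

variable {C₁ : Type u₁} [Category.{v₁} C₁] [Abelian C₁] [HasDerivedCategory.{w₁} C₁]
  {C₂ : Type u₂} [Category.{v₂} C₂] [Abelian C₂] [HasDerivedCategory.{w₂} C₂]
  (F : C₁ ⥤ C₂) [F.Additive] [PreservesFiniteLimits F] [PreservesFiniteColimits F]

/-- cohomology objects commute with the functor induced on derived categories by an exact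
functor. -/
theorem nonempty_homology_mapDerivedCategory_iso (K : DerivedCategory C₁) (j : ℤ) :
    Nonempty ((DerivedCategory.homologyFunctor C₂ j).obj (F.mapDerivedCategory.obj K) ≅
      F.obj ((DerivedCategory.homologyFunctor C₁ j).obj K)) := by
  let K' := DerivedCategory.Q.objPreimage K
  let e : DerivedCategory.Q.obj K' ≅ K := DerivedCategory.Q.objObjPreimageIso K
  let i1 := (DerivedCategory.homologyFunctor C₂ j).mapIso (F.mapDerivedCategory.mapIso e.symm)
  let i2 := (DerivedCategory.homologyFunctor C₂ j).mapIso (F.mapDerivedCategoryFactors.app K')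
  let i3 := (DerivedCategory.homologyFunctorFactors C₂ j).app
    ((F.mapHomologicalComplex (ComplexShape.up ℤ)).obj K')
  let i4 : ((F.mapHomologicalComplex (ComplexShape.up ℤ)).obj K').homology j ≅
      F.obj (K'.homology j) := (K'.sc j).mapHomologyIso F
  let i5 := F.mapIso ((DerivedCategory.homologyFunctorFactors C₁ j).app K').symm
  let i6 := F.mapIso ((DerivedCategory.homologyFunctor C₁ j).mapIso e)
  exact ⟨i1 ≪≫ i2 ≪≫ i3 ≪≫ i4 ≪≫ i5 ≪≫ i6⟩

theorem isZero_homology_Q_of_isZero_X (E : CochainComplex C₁ ℤ) (j : ℤ) (h : IsZero (E.X j)) :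
    IsZero ((DerivedCategory.homologyFunctor C₁ j).obj (DerivedCategory.Q.obj E)) := by
  have h1 : IsZero (E.homology j) := (HomologicalComplex.ExactAt.of_isZero h).isZero_homology
  exact h1.of_iso ((DerivedCategory.homologyFunctorFactors C₁ j).app E)

end general

section sheaves

variable {C : Type*} [Category C] {J : GrothendieckTopology C} {R : Sheaf J RingCat.{u}}

lemma subsingleton_sections_of_isZero (N : SheafOfModules.{u} R) (h : IsZero N) (Y : Cᵒᵖ) :
    Subsingleton (N.val.obj Y) := by
  have h0 : (𝟙 N : N ⟶ N) = 0 := h.eq_of_src _ _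
  have h1 : (𝟙 N : N ⟶ N).val = 0 := by
    rw [h0]; exact (SheafOfModules.forget R).map_zero _ _
  have hx : ∀ z : N.val.obj Y, z = 0 := fun z => by
    have := congrArg (fun f : N.val ⟶ N.val => (f.app Y).hom z) h1
    simpa using this
  exact ⟨fun x y => (hx x).trans (hx y).symm⟩

lemma isZero_of_sections (M : SheafOfModules.{u} R)
    (h : ∀ W : C, Subsingleton (M.val.obj (op W))) : IsZero M := by
  rw [IsZero.iff_id_eq_zero]
  apply SheafOfModules.hom_ext
  apply PresheafOfModules.hom_ext
  intro W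
  ext x
  haveI := h W.unop
  exact Subsingleton.elim _ _

end sheaves

variable {S : Scheme.{u}} {X : AlgSp.Sp S}

/-- a module on the small étale site vanishes if it vanishes on a covering family of a surjective
chart. -/
theorem isZero_of_isZero_res (M : ModEt X) {U₀ : Over S} (p₀ : (yon S).obj U₀ ⟶ X)
    (hp₀ : RepWith @Etale p₀) (hs₀ : RepWith @Surjective p₀) {ι : Type*} (V : ι → EtOver X)
    (g : ∀ i, V i ⟶ EtOver.mk p₀ hp₀)
    (hg : ∀ u : ↥U₀.left, ∃ i, u ∈ Set.range (g i).hom.left.left)
    (h : ∀ i, IsZero ((resModEt (V i)).obj M)) : IsZero M := by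
  have key : ∀ (i : ι) (T : EtOver X) (k : T ⟶ V i), Subsingleton (M.val.obj (op T)) :=
    fun i T k => subsingleton_sections_of_isZero _ (h i) (op (Over.mk k))
  apply isZero_of_sections
  intro W
  let E₀ := EtOver.mk p₀ hp₀
  let R : Sieve W :=
    { arrows := fun T f => ∃ i, Nonempty (T ⟶ V i)
      downward_closed := by
        rintro T T' f ⟨i, ⟨k⟩⟩ q
        exact ⟨i, ⟨q ≫ k⟩⟩ }
  have hR : R ∈ etTop X W := by
    refine sieve_mem_of_jointly_surjective _ (fun w => ?_)
    obtain ⟨t₁, ht₁⟩ := surjective_prodFst p₀ hp₀ hs₀ W w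
    let π₂ := EtOver.prodSnd W E₀
    obtain ⟨i, v, hv⟩ := hg (π₂.hom.left.left t₁)
    have hpb : IsPullback (EtOver.pullbackFst π₂ (g i)).hom.left.left
        (EtOver.pullbackSnd π₂ (g i)).hom.left.left π₂.hom.left.left (g i).hom.left.left :=
      (IsPullback.of_hasPullback π₂.hom.left (g i).hom.left).map (Over.forget S)
    obtain ⟨t₂, ht₂, -⟩ := Groth.Agent.H5.IsPullback.exists_preimage hpb t₁ v hv.symm
    refine ⟨EtOver.pullbackObj π₂ (g i), EtOver.pullbackFst π₂ (g i) ≫ EtOver.prodFst W E₀,
      ⟨i, ⟨EtOver.pullbackSnd π₂ (g i)⟩⟩, t₂, ?_⟩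
    have e1 : (EtOver.pullbackFst π₂ (g i) ≫ EtOver.prodFst W E₀).hom.left.left =
        (EtOver.pullbackFst π₂ (g i)).hom.left.left ≫ (EtOver.prodFst W E₀).hom.left.left := rfl
    rw [e1, Scheme.Hom.comp_apply]
    exact (congrArg (fun t => (EtOver.prodFst W E₀).hom.left.left t) ht₂).trans ht₁
  refine ⟨fun x y => M.isSheaf.isSeparated W R hR x y ?_⟩
  rintro T f ⟨i, ⟨k⟩⟩
  exact @Subsingleton.elim _ (key i T k) _ _

end Groth.Agent.H7.PFD
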