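import Mathlib
import Groth.Agent.Lib.Helper7.PFD1

/-! # S10779: morphisms from negative shifts of a perfect object into truncations -/

set_option autoImplicit false
set_option linter.style.haveILetI false
set_option linter.unusedVariables false
set_option linter.unusedSectionVars false
set_option maxHeartbeats 800000
universe u
open CategoryTheory CategoryTheory.Limits AlgebraicGeometry Opposite
attribute [local instance] HasDerivedCategory.standard

set_option backward.isDefEq.respectTransparency false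

namespace Groth.Agent.H7.PFD

open AlgSp Groth.Agent.H7.ASm Groth.Agent.H7.ACI

variable {S : Scheme.{u}} {X : AlgSp.Sp S}

/-- a perfect object on a quasi-compact algebraic space is bounded above. -/
theorem exists_isLE_of_isPerfect (hXc : IsQuasiCompactSp X) (P : DModEt X) (hP : IsPerfectEtD P) :
    ∃ d : ℤ, (DerivedCategory.TStructure.t :
      Triangulated.TStructure (DModEt X)).IsLE P d := by
  obtain ⟨U₀, p₀, hp₀, hs₀, hc⟩ := hXc
  haveI : CompactSpace ↥U₀.left := hc
  let E₀ := EtOver.mk p₀ hp₀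
  haveI : CompactSpace ↥E₀.obj.left.left := hc
  obtain ⟨ι, V, g, hcov, hV⟩ := hP E₀
  have hsurj := (ofArrows_mem_etPre_iff V g).1 hcov
  choose Ecx hEcx using hV
  have hb : ∀ i, ∃ b : ℤ, ∀ j : ℤ, b < j → IsZero ((Ecx i).X j) := fun i => by
    obtain ⟨⟨a, b, hab⟩, -⟩ := (hEcx i).1
    exact ⟨b, fun j hj => hab j (Or.inr hj)⟩
  choose b hb using hb
  have hopen : ∀ i, IsOpen (Set.range (g i).hom.left.left) := fun i => by
    haveI : Etale (g i).hom.left.left := EtOver.etale_left (g i)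
    exact (g i).hom.left.left.isOpenMap.isOpen_range
  obtain ⟨t, ht⟩ := isCompact_univ.elim_finite_subcover
    (fun i => Set.range (g i).hom.left.left) hopen (fun u _ => by
      obtain ⟨i, hi⟩ := hsurj u
      exact Set.mem_iUnion.2 ⟨i, hi⟩)
  obtain ⟨d, hd⟩ := (t.image b).exists_le
  refine ⟨d, (DerivedCategory.isLE_iff P d).2 (fun j hj => ?_)⟩
  refine isZero_of_isZero_res _ p₀ hp₀ hs₀ (fun i : t => V i.1) (fun i => g i.1)
    (fun u => ?_) (fun i => ?_)
  · have hu := ht (Set.mem_univ u)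
    simp only [Set.mem_iUnion] at hu
    obtain ⟨i, hi, hu⟩ := hu
    exact ⟨⟨i, hi⟩, hu⟩
  · obtain ⟨e⟩ := (hEcx i.1).2
    obtain ⟨e'⟩ := nonempty_homology_mapDerivedCategory_iso (resModEt (V i.1)) P j
    refine IsZero.of_iso ?_ e'.symm
    refine IsZero.of_iso (isZero_homology_Q_of_isZero_X (Ecx i.1) j (hb i.1 j ?_))
      ((DerivedCategory.homologyFunctor _ j).mapIso e)
    exact lt_of_le_of_lt (hd _ (Finset.mem_image_of_mem b i.2)) hj

theorem S10779_main [QuasiSeparatedSpace ↥S] (X : AlgSp.Space S)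
    (hXc : AlgSp.IsQuasiCompactSp X.obj) (hXs : AlgSp.IsQuasiSeparatedSp X.obj)
    (P : AlgSp.DModEt X.obj) (hP : AlgSp.IsPerfectEtD P)
    (E : AlgSp.DModEt X.obj) (hE : DCoh.IsQCohDMod (AlgSp.OEtRing X.obj) E) (a : ℤ) :
    (∃ N : ℤ, ∀ i : ℤ, i ≤ N → ∀ φ : P⟦-i⟧ ⟶ E, φ = 0) ↔
      (∃ N : ℤ, ∀ i : ℤ, i ≤ N → ∀ φ : P⟦-i⟧ ⟶ ((DerivedCategory.TStructure.t :
        CategoryTheory.Triangulated.TStructure (AlgSp.DModEt X.obj)).truncLE a).obj E, φ = 0) := by
  obtain ⟨d, hd⟩ := exists_isLE_of_isPerfect hXc P hP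
  let t : Triangulated.TStructure (DModEt X.obj) := DerivedCategory.TStructure.t
  haveI : t.IsLE P d := hd
  have hshift : ∀ i : ℤ, i ≤ a - d → t.IsLE (P⟦-i⟧) a := fun i hi => by
    haveI : t.IsLE (P⟦-i⟧) (d + i) := t.isLE_shift P d (-i) (d + i) (by ring)
    exact t.isLE_of_le _ (d + i) a (by omega)
  constructor
  · rintro ⟨N, hN⟩
    refine ⟨min N (a - d), fun i hi φ => ?_⟩
    haveI := hshift i (le_trans hi (min_le_right _ _))
    apply t.to_truncLE_obj_ext
    rw [hN i (le_trans hi (min_le_left _ _)) (φ ≫ (t.truncLEι a).app E), zero_comp]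
  · rintro ⟨N, hN⟩
    refine ⟨min N (a - d), fun i hi φ => ?_⟩
    haveI := hshift i (le_trans hi (min_le_right _ _))
    rw [← t.liftTruncLE_ι φ a, hN i (le_trans hi (min_le_left _ _)) (t.liftTruncLE φ a), zero_comp]

end Groth.Agent.H7.PFD
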