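import Groth.Agent.Lib.Helper7.Hil2
import Groth.Agent.Lib.Helper7.Old.CE4
import Groth.Agent.Lib.Helper5.FunFld.Geometric
import Mathlib.FieldTheory.PurelyInseparable.Tower
import Mathlib.FieldTheory.PrimitiveElement

/-! Places in purely inseparable extensions and in constant extensions with purely inseparable
residue field (helper7). -/

set_option autoImplicit false
set_option linter.unusedSectionVars false

attribute [-instance] IsLocalRing.instModuleResidueFieldOfAlgebra

namespace Groth.Agent.H7.PI

open FunFld WithZero Polynomial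

section A

variable {k K K' : Type*} [Field k] [Field K] [Field K'] [Algebra k K] [Algebra K K'] [Algebra k K']
  [IsScalarTower k K K']

/-- In a purely inseparable extension there is at most one place over a given place. -/
theorem eq_of_isPurelyInseparable [IsPurelyInseparable K K'] {Q Q' : Place k K'} {P : Place k K}
    (hQ : IsOver Q P) (hQ' : IsOver Q' P) : Q = Q' := by
  obtain ⟨e, he⟩ := hQ
  obtain ⟨e', he'⟩ := hQ'
  apply Place.eq_of_O_le
  intro y hy
  obtain ⟨n, a, ha⟩ := IsPurelyInseparable.pow_mem K (ringExpChar K) y
  have hpos := (expChar_pow_pos K (ringExpChar K) n).ne'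
  have h1 : P.1 a ≤ 1 := by
    rw [← he.v_le_one_iff a, ha, map_pow]
    exact (pow_le_one_iff hpos).2 hy
  rw [← he'.v_le_one_iff a, ha, map_pow] at h1
  exact (pow_le_one_iff hpos).1 h1

end A

section C

universe u v

variable {k k' : Type u} {K K' : Type v} [Field k] [Field k'] [Field K] [Field K']
  [Algebra k k'] [FiniteDimensional k k'] [Algebra k K] [Algebra K K'] [Algebra k' K'] [Algebra k K']
  [IsScalarTower k k' K'] [IsScalarTower k K K']

/-- If a `q`-power of every constant lies in the intermediate field `E`, the same holds for all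
of `K' = k' K`. -/
theorem exists_pow_mem_of_const (h : Function.Bijective (Algebra.TensorProduct.productMap
      (IsScalarTower.toAlgHom k k' K') (IsScalarTower.toAlgHom k K K')))
    (q : ℕ) [ExpChar K' q] (E : IntermediateField K K')
    (hE : ∀ c : k', ∃ n : ℕ, (algebraMap k' K' c) ^ q ^ n ∈ E) (y : K') :
    ∃ n : ℕ, y ^ q ^ n ∈ E := by
  obtain ⟨a, rfl⟩ := Groth.Agent.H7.CE.exists_coeff_K h y
  choose n hn using fun i => hE (Module.finBasis k k' i)
  refine ⟨∑ i, n i, ?_⟩
  rw [sum_pow_char_pow]
  refine sum_mem (fun i _ => ?_)
  rw [Algebra.smul_def, mul_pow]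
  refine mul_mem ?_ ?_
  · rw [← map_pow]; exact E.algebraMap_mem _
  · have : ∑ j, n j = n i + (∑ j, n j - n i) :=
      (Nat.add_sub_cancel' (Finset.single_le_sum (fun _ _ => Nat.zero_le _)
        (Finset.mem_univ i))).symm
    rw [this, pow_add, pow_mul]
    exact pow_mem (hn i) _

/-- `k' K / E` is purely inseparable if `q`-powers of all constants lie in `E`. -/
theorem isPurelyInseparable_of_const (h : Function.Bijective (Algebra.TensorProduct.productMap
      (IsScalarTower.toAlgHom k k' K') (IsScalarTower.toAlgHom k K K')))
    (q : ℕ) [ExpChar K' q] (E : IntermediateField K K')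
    (hE : ∀ c : k', ∃ n : ℕ, (algebraMap k' K' c) ^ q ^ n ∈ E) : IsPurelyInseparable E K' := by
  have : ExpChar E q := (algebraMap E K').expChar (algebraMap E K').injective q
  rw [isPurelyInseparable_iff_pow_mem E q]
  intro y
  obtain ⟨n, hn⟩ := exists_pow_mem_of_const h q E hE y
  exact ⟨n, ⟨⟨_, hn⟩, rfl⟩⟩

/-- `k' K / K` is purely inseparable if `k'/k` is. -/
theorem isPurelyInseparable_constExt [IsPurelyInseparable k k']
    (h : Function.Bijective (Algebra.TensorProduct.productMap
      (IsScalarTower.toAlgHom k k' K') (IsScalarTower.toAlgHom k K K'))) :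
    IsPurelyInseparable K K' := by
  set q := ringExpChar k with hq
  have : ExpChar k' q := expChar_of_injective_algebraMap (algebraMap k k').injective q
  have : ExpChar K q := expChar_of_injective_algebraMap (algebraMap k K).injective q
  have : ExpChar K' q := expChar_of_injective_algebraMap (algebraMap K K').injective q
  rw [isPurelyInseparable_iff_pow_mem K q]
  intro y
  obtain ⟨n, hn⟩ := exists_pow_mem_of_const h q (⊥ : IntermediateField K K') (fun c => by
    obtain ⟨n, a, ha⟩ := IsPurelyInseparable.pow_mem k q c
    refine ⟨n, ?_⟩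
    rw [← map_pow, ← ha, ← IsScalarTower.algebraMap_apply, IsScalarTower.algebraMap_apply k K K']
    exact (⊥ : IntermediateField K K').algebraMap_mem _) y
  rw [IntermediateField.mem_bot] at hn
  obtain ⟨a, ha⟩ := hn
  exact ⟨n, a, ha⟩

end C

section B

variable {k K K' : Type*} [Field k] [Field K] [Field K'] [Algebra k K] [Algebra K K'] [Algebra k K']
  [IsScalarTower k K K']

/-- residue map as a `k`-algebra hom -/
noncomputable def resHom (R : Place k K') : R.O →ₐ[k] IsLocalRing.ResidueField R.O :=
  { IsLocalRing.residue R.O with commutes' := fun _ => rfl }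

/-- inclusion of the valuation ring as a `k`-algebra hom -/
noncomputable def valHom (R : Place k K') : R.O →ₐ[k] K' :=
  { R.O.subtype with commutes' := fun _ => rfl }

/-- If `F_P/k` is purely inseparable and `K' = K(α)` with `α` separable algebraic over `k`, then
every place over `P` has degree at least `[K':K] deg P`. -/
theorem deg_ge_of_sep_generator (hK : IsFunctionField k K) [FiniteDimensional K K'] (P : Place k K)
    [IsPurelyInseparable k (IsLocalRing.ResidueField P.O)]
    (α : K') (hα : IsSeparable k α) (hn : Module.finrank K K' = (minpoly k α).natDegree)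
    {R : Place k K'} (hR : IsOver R P) : Module.finrank K K' * P.deg ≤ R.deg := by
  have hint : IsIntegral k α := hα.isIntegral
  have hintK : IsIntegral K α := hint.tower_top
  have hK' : IsFF1 k K' := hK.isFF1.of_finite
  have hfin : FiniteDimensional k (IsLocalRing.ResidueField R.O) :=
    W.Place.finiteDimensional_residueField R hK'
  -- α in O_R
  have hαR : R.1 α ≤ 1 := by
    rcases eq_or_ne α 0 with h0 | h0
    · rw [h0, map_zero]; exact zero_le_one
    · exact (v_eq_one_of_isAlgebraic R.1 R.v_algebraMap_le h0 hint.isAlgebraic).le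
  set αO : R.O := ⟨α, R.mem_O_iff.2 hαR⟩ with hαO
  set αb : IsLocalRing.ResidueField R.O := resHom R αO with hαb
  have hroot : aeval αb (minpoly k α) = 0 := by
    rw [hαb, aeval_algHom_apply]
    have : aeval αO (minpoly k α) = 0 := by
      apply Subtype.ext
      have h1 := aeval_algHom_apply (valHom R) αO (minpoly k α)
      change aeval α (minpoly k α) = valHom R (aeval αO (minpoly k α)) at h1
      rw [minpoly.aeval] at h1
      exact h1.symm
    rw [this, map_zero]
  have hirr : Irreducible (minpoly k α) := minpoly.irreducible hint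
  have hmin : minpoly k α = minpoly k αb :=
    minpoly.eq_of_irreducible_of_monic hirr hroot (minpoly.monic hint)
  have hsepb : IsSeparable k αb := by
    change (minpoly k αb).Separable
    rw [← hmin]; exact hα
  -- the image of `F_P`
  have hpi : IsPurelyInseparable k (Groth.Agent.H7.Hil.F0 hR) :=
    AlgEquiv.isPurelyInseparable (AlgEquiv.ofInjectiveField (Groth.Agent.H7.Hil.resAlg hR))
  have hmap := minpoly.map_eq_of_isSeparable_of_isPurelyInseparable
    (Groth.Agent.H7.Hil.F0 hR) αb hsepb
  have hdeg : (minpoly (Groth.Agent.H7.Hil.F0 hR) αb).natDegree = Module.finrank K K' := by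
    rw [← hmap, natDegree_map, ← hmin, hn]
  have hle := minpoly.natDegree_le (A := Groth.Agent.H7.Hil.F0 hR) αb
  rw [hdeg] at hle
  rw [← Groth.Agent.H7.Hil.finrank_F0_mul hR]
  exact Nat.mul_le_mul_right _ hle

/-- If `F_P/k` is purely inseparable and `K' = K(α)` with `α` separable algebraic over `k`, there
is at most one place over `P`. -/
theorem eq_of_sep_generator (hK : IsFunctionField k K) [FiniteDimensional K K'] (P : Place k K)
    [IsPurelyInseparable k (IsLocalRing.ResidueField P.O)]
    (α : K') (hα : IsSeparable k α) (hn : Module.finrank K K' = (minpoly k α).natDegree)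
    {Q Q' : Place k K'} (hQ : IsOver Q P) (hQ' : IsOver Q' P) : Q = Q' := by
  classical
  by_contra hne
  have hfin := finite_isOver (K' := K') hK.isFF1 P
  have hsum := FunFld.sum_ramIdx_mul_deg (K' := K') hK P hfin.toFinset
    (fun Q => by rw [Set.Finite.mem_toFinset]; rfl)
  have hM : 0 < Module.finrank K K' * P.deg :=
    Nat.mul_pos Module.finrank_pos (W.Place.deg_pos P hK.isFF1)
  have h1 := deg_ge_of_sep_generator hK P α hα hn hQ
  have h2 := deg_ge_of_sep_generator hK P α hα hn hQ'
  have hmemQ : Q ∈ hfin.toFinset := by rw [Set.Finite.mem_toFinset]; exact hQ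
  have hmemQ' : Q' ∈ hfin.toFinset := by rw [Set.Finite.mem_toFinset]; exact hQ'
  have hsub : ({Q, Q'} : Finset (Place k K')) ⊆ hfin.toFinset := by
    intro x hx
    rw [Finset.mem_insert, Finset.mem_singleton] at hx
    rcases hx with rfl | rfl
    · exact hmemQ
    · exact hmemQ'
  have h3 := Finset.sum_le_sum_of_subset (f := fun Q => ramIdx Q P * Q.deg) hsub
  rw [Finset.sum_pair hne, hsum] at h3
  have e1 := hQ.ramIdx_pos
  have e2 := hQ'.ramIdx_pos
  have h4 : Q.deg ≤ ramIdx Q P * Q.deg := Nat.le_mul_of_pos_left _ e1
  have h5 : Q'.deg ≤ ramIdx Q' P * Q'.deg := Nat.le_mul_of_pos_left _ e2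
  omega

/-- a place over `P` exists in a finite extension -/
theorem exists_isOver (hK : IsFunctionField k K) [FiniteDimensional K K'] (P : Place k K) :
    ∃ Q : Place k K', IsOver Q P := by
  classical
  by_contra hne
  push Not at hne
  have hfin := finite_isOver (K' := K') hK.isFF1 P
  have hsum := FunFld.sum_ramIdx_mul_deg (K' := K') hK P hfin.toFinset
    (fun Q => by rw [Set.Finite.mem_toFinset]; rfl)
  have hM : 0 < Module.finrank K K' * P.deg :=
    Nat.mul_pos Module.finrank_pos (W.Place.deg_pos P hK.isFF1)
  have hempty : hfin.toFinset = ∅ := by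
    rw [Finset.eq_empty_iff_forall_notMem]
    intro Q hQ
    rw [Set.Finite.mem_toFinset] at hQ
    exact hne Q hQ
  rw [hempty, Finset.sum_empty] at hsum
  omega

end B

section main

universe u v

variable {k k' : Type u} {K K' : Type v} [Field k] [Field k'] [Field K] [Field K']
  [Algebra k k'] [FiniteDimensional k k'] [Algebra k K] [Algebra K K'] [Algebra k' K'] [Algebra k K']
  [IsScalarTower k k' K'] [IsScalarTower k K K']

open Groth.Agent.H7.Hil

theorem unique_of_res_pi (h : Function.Bijective (Algebra.TensorProduct.productMap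
      (IsScalarTower.toAlgHom k k' K') (IsScalarTower.toAlgHom k K K')))
    (hK : IsFunctionField k K) (P : Place k K)
    [IsPurelyInseparable k (IsLocalRing.ResidueField P.O)]
    {Q Q' : Place k K'} (hQ : IsOver Q P) (hQ' : IsOver Q' P) : Q = Q' := by
  have hfd : FiniteDimensional K K' := Groth.Agent.H7.FF.finiteDimensional_constExt h
  set q := ringExpChar k with hq
  have : ExpChar k' q := expChar_of_injective_algebraMap (algebraMap k k').injective q
  have : ExpChar K q := expChar_of_injective_algebraMap (algebraMap k K).injective q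
  have : ExpChar K' q := expChar_of_injective_algebraMap (algebraMap K K').injective q
  obtain ⟨α, hα⟩ := Field.exists_primitive_element k (separableClosure k k')
  have : ExpChar (separableClosure k k') q :=
    expChar_of_injective_algebraMap (algebraMap k (separableClosure k k')).injective q
  set α' : K' := algebraMap k' K' (α : k') with hα'
  have hsepα : IsSeparable k (α : k') := mem_separableClosure_iff.1 α.2
  have hsepα' : IsSeparable k α' := by
    change (minpoly k α').Separable
    have : minpoly k α' = minpoly k (α : k') :=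
      minpoly.algHom_eq (IsScalarTower.toAlgHom k k' K') (algebraMap k' K').injective (α : k')
    rw [this]; exact hsepα
  set E : IntermediateField K K' := IntermediateField.adjoin K {α'} with hEdef
  have hαE : α' ∈ E := IntermediateField.subset_adjoin K _ (Set.mem_singleton _)
  -- constants of the separable closure land in `E`
  let φ : (separableClosure k k') →ₐ[k] K' :=
    (IsScalarTower.toAlgHom k k' K').comp (separableClosure k k').val
  have hT : ∀ b : separableClosure k k', algebraMap k' K' (b : k') ∈ E := by
    intro b
    have h1 : IntermediateField.adjoin k {α} ≤ (E.restrictScalars k).comap φ := by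
      rw [IntermediateField.adjoin_simple_le_iff]
      exact hαE
    have h2 : b ∈ IntermediateField.adjoin k {α} := by rw [hα]; trivial
    exact h1 h2
  have hEpow : ∀ c : k', ∃ n : ℕ, (algebraMap k' K' c) ^ q ^ n ∈ E := by
    intro c
    obtain ⟨n, b, hb⟩ := IsPurelyInseparable.pow_mem (separableClosure k k') q c
    refine ⟨n, ?_⟩
    rw [← map_pow, ← hb]
    exact hT b
  have hpiE : IsPurelyInseparable E K' := isPurelyInseparable_of_const h q E hEpow
  -- places of E
  have hE : IsFF1 k E := hK.isFF1.of_finite
  obtain ⟨QE, e1, he1⟩ := exists_isOverWith hE Q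
  obtain ⟨QE', e1', he1'⟩ := exists_isOverWith hE Q'
  have hover : ∀ (R : Place k K') (RE : Place k E) (e : ℕ), IsOver R P → IsOverWith R RE e →
      IsOver RE P := by
    intro R RE e hR hRE
    obtain ⟨P1, e2, he2⟩ := exists_isOverWith hK.isFF1 RE
    have h3 : IsOver R P1 := ⟨_, hRE.trans he2⟩
    have h4 : P = P1 := hR.unique h3
    rw [h4]
    exact ⟨e2, he2⟩
  have hQE := hover Q QE e1 hQ he1
  have hQE' := hover Q' QE' e1' hQ' he1'
  -- generator in E
  have hintα' : IsIntegral k α' := hsepα'.isIntegral
  let αE : E := ⟨α', hαE⟩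
  have hminE : minpoly k αE = minpoly k α' :=
    (minpoly.algHom_eq (E.val.restrictScalars k) E.val.injective αE).symm
  have hsepE : IsSeparable k αE := by
    change (minpoly k αE).Separable
    rw [hminE]; exact hsepα'
  have hnE : Module.finrank K E = (minpoly k αE).natDegree := by
    rw [hminE, hEdef, IntermediateField.adjoin.finrank hintα'.tower_top,
      ← minpoly_map_eq_of_algClosedIn hK.2 hintα', natDegree_map]
  have heq : QE = QE' := eq_of_sep_generator hK P αE hsepE hnE hQE hQE'
  rw [← heq] at he1'
  exact eq_of_isPurelyInseparable (K := E) ⟨e1, he1⟩ ⟨e1', he1'⟩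

theorem existsUnique_over (h : Function.Bijective (Algebra.TensorProduct.productMap
      (IsScalarTower.toAlgHom k k' K') (IsScalarTower.toAlgHom k K K')))
    (hK : IsFunctionField k K) (P : Place k K)
    (hpi : IsPurelyInseparable k k' ∨ IsPurelyInseparable k (IsLocalRing.ResidueField P.O)) :
    ∃! Q : Place k K', IsOver Q P := by
  have hfd : FiniteDimensional K K' := Groth.Agent.H7.FF.finiteDimensional_constExt h
  obtain ⟨Q, hQ⟩ := exists_isOver (K' := K') hK P
  refine ⟨Q, hQ, fun Q' hQ' => ?_⟩
  rcases hpi with hpi | hpi
  · have := isPurelyInseparable_constExt (K := K) h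
    exact eq_of_isPurelyInseparable hQ' hQ
  · exact unique_of_res_pi h hK P hQ' hQ

end main

end Groth.Agent.H7.PI
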