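import Mathlib
open Polynomial
universe u v

namespace Groth.Agent.H7.PInsepUnits

/-- commutative core -/
theorem comm_core (K : Type u) [Field K] [Infinite K] (p : ℕ) (hp0 : 0 < p)
    (L : Type v) [CommRing L] [IsDomain L] [Algebra K L]
    (hpow : ∀ x : L, ∃ c : K, x ^ p = algebraMap K L c)
    (w : L) (hind : ∀ a b : K, algebraMap K L a + b • w = 0 → a = 0 ∧ b = 0) (N : ℕ) :
    ∃ H : Subgroup Lˣ, (Units.map (algebraMap K L : K →* L)).range ≤ H ∧
      N < ((Units.map (algebraMap K L : K →* L)).range).relIndex H := by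
  set Z : Subgroup Lˣ := (Units.map (algebraMap K L : K →* L)).range with hZ
  have hinj : Function.Injective (algebraMap K L) := (algebraMap K L).injective
  -- nonzero elements are units
  have hunit : ∀ x : L, x ≠ 0 → IsUnit x := by
    intro x hx
    obtain ⟨c, hc⟩ := hpow x
    have hc0 : c ≠ 0 := by
      rintro rfl
      rw [map_zero] at hc
      exact hx (pow_eq_zero_iff hp0.ne' |>.mp hc)
    refine IsUnit.of_mul_eq_one (x ^ (p - 1) * algebraMap K L c⁻¹) ?_
    rw [← mul_assoc, ← pow_succ', Nat.sub_add_cancel hp0, hc, ← map_mul, mul_inv_cancel₀ hc0, map_one]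
  -- p-th powers land in Z
  have hpZ : ∀ g : Lˣ, g ^ p ∈ Z := by
    intro g
    obtain ⟨c, hc⟩ := hpow (g : L)
    have hc0 : c ≠ 0 := by
      rintro rfl
      rw [map_zero] at hc
      exact (g ^ p).ne_zero (by rw [Units.val_pow_eq_pow_val]; exact hc)
    refine ⟨Units.mk0 c hc0, ?_⟩
    apply Units.ext
    rw [Units.coe_map, Units.val_pow_eq_pow_val, hc]
    rfl
  -- the elements
  let c : ℕ → K := Infinite.natEmbedding K
  have hcinj : Function.Injective c := (Infinite.natEmbedding K).injective
  have hx0 : ∀ j : ℕ, (1 : L) + c j • w ≠ 0 := by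
    intro j h0
    have := hind 1 (c j) (by rw [map_one]; exact h0)
    exact one_ne_zero this.1
  let uu : ℕ → Lˣ := fun j => (hunit _ (hx0 j)).unit
  have huu : ∀ j, ((uu j : Lˣ) : L) = 1 + c j • w := fun j => rfl
  let π := QuotientGroup.mk' Z
  have hπinj : ∀ i j : ℕ, π (uu i) = π (uu j) → i = j := by
    intro i j hij
    have h1 : (uu i)⁻¹ * uu j ∈ Z := QuotientGroup.eq.mp hij
    obtain ⟨z, hz⟩ := h1
    have h2 : uu j = uu i * Units.map (algebraMap K L : K →* L) z := by
      rw [hz]; group
    have h3 : (1 : L) + c j • w = (1 + c i • w) * algebraMap K L (z : K) := by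
      have := congrArg (fun t : Lˣ => (t : L)) h2
      simpa [huu] using this
    have h4 : algebraMap K L (1 - (z : K)) + (c j - c i * (z : K)) • w = 0 := by
      have e1 : (1 + c i • w) * algebraMap K L (z : K) = algebraMap K L (z : K) + (c i * (z : K)) • w := by
        rw [add_mul, one_mul, mul_comm (c i) (z : K), mul_smul, Algebra.smul_def (z : K), mul_comm]
      rw [e1] at h3
      rw [map_sub, map_one, sub_smul]
      linear_combination h3
    obtain ⟨h5, h6⟩ := hind _ _ h4
    have hz1 : (z : K) = 1 := (sub_eq_zero.mp h5).symm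
    rw [hz1, mul_one, sub_eq_zero] at h6
    exact (hcinj h6).symm
  -- the subgroup of the quotient
  let S : Set (Lˣ ⧸ Z) := Set.range fun j : Fin (N + 1) => π (uu j)
  let HQ : Subgroup (Lˣ ⧸ Z) := Subgroup.closure S
  haveI : Finite S := Set.finite_range _
  haveI : Group.FG HQ := Group.closure_finite_fg S
  have htors : IsMulTorsion HQ := by
    intro h
    rw [isOfFinOrder_iff_pow_eq_one]
    refine ⟨p, hp0, ?_⟩
    obtain ⟨g, hg⟩ := QuotientGroup.mk'_surjective Z (h : Lˣ ⧸ Z)
    apply Subtype.ext
    rw [Subgroup.coe_pow, ← hg, ← map_pow]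
    exact (QuotientGroup.eq_one_iff _).mpr (hpZ g)
  haveI : Finite HQ := @CommGroup.finite_of_fg_isMulTorsion HQ _ _ htors
  have hcard : N + 1 ≤ Nat.card HQ := by
    have hinj' : Function.Injective (fun j : Fin (N + 1) =>
        (⟨π (uu j), Subgroup.subset_closure ⟨j, rfl⟩⟩ : HQ)) := by
      intro i j hij
      have := congrArg Subtype.val hij
      exact Fin.ext (hπinj _ _ this)
    have := Nat.card_le_card_of_injective _ hinj'
    simpa using this
  refine ⟨HQ.comap π, ?_, ?_⟩
  · intro z hz
    show π z ∈ HQ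
    have h1 : π z = 1 := (QuotientGroup.eq_one_iff z).mpr hz
    rw [h1]
    exact one_mem _
  · have hZker : (⊥ : Subgroup (Lˣ ⧸ Z)).comap π = Z := by
      ext z
      rw [Subgroup.mem_comap, Subgroup.mem_bot]
      exact QuotientGroup.eq_one_iff z
    have h2 : ((⊥ : Subgroup (Lˣ ⧸ Z)).comap π).relIndex (HQ.comap π) = Nat.card HQ := by
      rw [Subgroup.relIndex_comap, Subgroup.map_comap_eq_self_of_surjective
        (QuotientGroup.mk'_surjective Z), Subgroup.relIndex_bot_left]
    rw [hZker] at h2
    rw [h2]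
    omega

theorem main
    (K : Type u) [Field K] (p : ℕ) [Fact p.Prime] [CharP K p]
    (A : Type v) [DivisionRing A] [Algebra K A] [Algebra.IsCentral K A] [FiniteDimensional K A]
    (w : A) (hw : w ^ p ∈ (algebraMap K A).range) (hwK : w ∉ (algebraMap K A).range) (N : ℕ) :
    ∃ H : Subgroup Aˣ, (Units.map (algebraMap K A : K →* A)).range ≤ H ∧
      N < ((Units.map (algebraMap K A : K →* A)).range).relIndex H := by
  have hp0 : 0 < p := (Fact.out : p.Prime).pos
  -- K infinite
  haveI : Infinite K := by
    by_contra hfin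
    rw [not_infinite_iff_finite] at hfin
    haveI : Finite A := Module.finite_of_finite K
    have hcomm : ∀ x y : A, x * y = y * x := fun x y => (littleWedderburn A).mul_comm x y
    have hwc : w ∈ Subalgebra.center K A := by
      rw [Subalgebra.mem_center_iff]
      intro b
      exact hcomm b w
    rw [Algebra.IsCentral.center_eq_bot K A, Algebra.mem_bot] at hwc
    exact hwK hwc
  obtain ⟨a, ha⟩ := hw
  let φ : K[X] →ₐ[K] A := aeval w
  let L := K[X] ⧸ RingHom.ker φ
  let ψ : L →ₐ[K] A := Ideal.kerLiftAlg φ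
  have hψinj : Function.Injective ψ := Ideal.kerLiftAlg_injective φ
  haveI : (RingHom.ker φ).IsPrime := RingHom.ker_isPrime φ
  have hpow : ∀ x : L, ∃ c : K, x ^ p = algebraMap K L c := by
    intro x
    obtain ⟨f, rfl⟩ := Ideal.Quotient.mk_surjective x
    refine ⟨eval a (f.map (frobenius K p)), ?_⟩
    apply hψinj
    rw [map_pow, AlgHom.commutes]
    show (φ f) ^ p = _
    rw [← map_pow, ← map_frobenius_expand, map_expand]
    show aeval w _ = _
    rw [expand_aeval, ← ha, aeval_algebraMap_apply]
    rfl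
  let w' : L := Ideal.Quotient.mk _ X
  have hw' : ψ w' = w := by
    show φ X = w
    exact aeval_X w
  have hind : ∀ a b : K, algebraMap K L a + b • w' = 0 → a = 0 ∧ b = 0 := by
    intro a b hab
    have h1 : algebraMap K A a + b • w = 0 := by
      have := congrArg ψ hab
      rwa [map_add, map_smul, AlgHom.commutes, hw', map_zero] at this
    have hb : b = 0 := by
      by_contra hb
      apply hwK
      refine ⟨-(b⁻¹ * a), ?_⟩
      have h2 : b • w = -algebraMap K A a := eq_neg_of_add_eq_zero_right h1
      have h3 : w = b⁻¹ • (b • w) := by rw [smul_smul, inv_mul_cancel₀ hb, one_smul]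
      rw [h3, h2, map_neg, map_mul, smul_neg, Algebra.smul_def]
    subst hb
    rw [zero_smul, add_zero] at h1
    exact ⟨(map_eq_zero _).mp h1, rfl⟩
  obtain ⟨H, hZH, hN⟩ := comm_core K p hp0 L hpow w' hind N
  let ι : Lˣ →* Aˣ := Units.map (ψ : L →* A)
  have hιinj : Function.Injective ι := Units.map_injective hψinj
  have hZ : (Units.map (algebraMap K A : K →* A)).range =
      ((Units.map (algebraMap K L : K →* L)).range).map ι := by
    rw [MonoidHom.map_range]
    congr 1
    ext z
    simp [ι]
  refine ⟨H.map ι, ?_, ?_⟩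
  · rw [hZ]
    exact Subgroup.map_mono hZH
  · rw [hZ, Subgroup.relIndex_map_map_of_injective _ _ hιinj]
    exact hN

end Groth.Agent.H7.PInsepUnits
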