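import Groth.Agent.Lib.Helper7.SigLinFrob

/-! A subspace of `End V` closed under `p`-th powers contains a `p`-closed line (helper7). -/

set_option autoImplicit false

namespace Groth.Agent.H7.SigLin

/-- **S17325** -/
theorem exists_pline (k : Type*) [Field k] [IsAlgClosed k]
    (p : ℕ) [Fact p.Prime] [CharP k p] (V : Type*) [AddCommGroup V] [Module k V]
    [FiniteDimensional k V]
    (g : Submodule k (Module.End k V)) (hg : ∀ u ∈ g, u ^ p ∈ g) (hne : g ≠ ⊥) :
    ∃ u ∈ g, u ≠ 0 ∧ ∃ c : k, u ^ p = c • u := by
  obtain ⟨u₀, hu₀g, hu₀⟩ := (Submodule.ne_bot_iff g).1 hne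
  haveI : Nontrivial (Module.End k V) := ⟨⟨u₀, 0, hu₀⟩⟩
  haveI : CharP (Module.End k V) p :=
    charP_of_injective_algebraMap (algebraMap k (Module.End k V)).injective p
  set A : Subalgebra k (Module.End k V) := Algebra.adjoin k {u₀} with hA
  have hcomm : ∀ a b : A, Commute (a : Module.End k V) (b : Module.End k V) := by
    intro a b
    refine Algebra.commute_of_mem_adjoin_of_forall_mem_commute b.2 ?_
    intro c hc
    rw [Set.mem_singleton_iff] at hc
    subst hc
    exact (Algebra.commute_of_mem_adjoin_self a.2).symm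
  let T : A →ₛₗ[frobenius k p] A :=
    { toFun := fun a => a ^ p
      map_add' := by
        intro a b
        apply Subtype.ext
        change ((a : Module.End k V) + b) ^ p = (a : Module.End k V) ^ p + (b : Module.End k V) ^ p
        exact add_pow_char_of_commute p (hcomm a b)
      map_smul' := by
        intro l a
        change (l • a) ^ p = frobenius k p l • a ^ p
        rw [smul_pow, frobenius_def] }
  have hT : ∀ a : A, ((T a : A) : Module.End k V) = (a : Module.End k V) ^ p := fun a => rfl
  let e : A := ⟨u₀, Algebra.self_mem_adjoin_singleton k u₀⟩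
  have he0 : e ≠ 0 := by
    intro h
    exact hu₀ (congrArg Subtype.val h)
  have hiter : ∀ m : ℕ, (((⇑T)^[m] e : A) : Module.End k V) ∈ g := by
    intro m
    induction m with
    | zero => exact hu₀g
    | succ m ih =>
      rw [Function.iterate_succ_apply', hT]
      exact hg _ ih
  by_cases hcase : ∀ m : ℕ, (⇑T)^[m] e ≠ 0
  · obtain ⟨v, hv, hv0, hTv⟩ := exists_fixed T (H2_frobenius p k) e hcase
    refine ⟨(v : Module.End k V), ?_, fun h => hv0 (Subtype.ext h), 1, ?_⟩
    · have hle : Submodule.span k (Set.range (fun m : ℕ => (⇑T)^[m] e)) ≤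
          g.comap A.val.toLinearMap := by
        rw [Submodule.span_le]
        rintro _ ⟨m, rfl⟩
        exact hiter m
      exact hle hv
    · rw [one_smul, ← hT, hTv]
  · push Not at hcase
    classical
    have hm := Nat.find_spec hcase
    have hmin := fun n => Nat.find_min hcase (m := n)
    set m := Nat.find hcase with hmdef
    have hm0 : m ≠ 0 := by
      intro h
      rw [h] at hm
      exact he0 hm
    obtain ⟨m', hm'⟩ : ∃ m', m = m' + 1 := ⟨m - 1, by omega⟩
    have hw0 : (⇑T)^[m'] e ≠ 0 := hmin m' (by omega)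
    have hTw : T ((⇑T)^[m'] e) = 0 := by
      have h1 : (⇑T)^[m' + 1] e = T ((⇑T)^[m'] e) := Function.iterate_succ_apply' _ _ _
      rw [← h1, ← hm']
      exact hm
    refine ⟨(((⇑T)^[m'] e : A) : Module.End k V), hiter m', fun h => hw0 (Subtype.ext h), 0, ?_⟩
    rw [zero_smul, ← hT, hTw]
    rfl

end Groth.Agent.H7.SigLin
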