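import Mathlib
import Groth.Agent.Lib.Helper7.PSm1

/-! # The quasi-compact quasi-separated objects form a `Basis` of the small model of the
étale site. -/

set_option autoImplicit false
set_option linter.style.haveILetI false
set_option linter.unusedVariables false
set_option linter.unusedSectionVars false
universe u
open CategoryTheory CategoryTheory.Limits AlgebraicGeometry Opposite

namespace Groth.Agent.H7.PSm

open Groth.Agent.LD.Colim Groth.Agent.H7.PWC

set_option backward.isDefEq.respectTransparency false in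
/-- a finite jointly surjective family of quasi-compact objects over a quasi-separated object
generates a covering sieve -/
lemma generate_ofArrows_mem_topology' {X : Scheme.{u}} (V : X.ProEt) {ι : Type*} [Finite ι]
    (W : ι → X.ProEt)
    (g : ∀ k, W k ⟶ V) [∀ k, CompactSpace (W k).left] [QuasiSeparatedSpace V.left]
    (hcov : ∀ x : V.left, ∃ k, x ∈ Set.range (g k).left) :
    Sieve.generate (Presieve.ofArrows W g) ∈ Scheme.ProEt.topology X V := by
  apply Precoverage.generate_mem_toGrothendieck
  rw [Scheme.ProEt.precoverage, Precoverage.mem_comap_iff, Presieve.map_ofArrows]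
  refine ⟨?_, ?_⟩
  · let E : PreZeroHypercover V.left := ⟨ι, fun k => (W k).left, fun k => (g k).left⟩
    change E.presieve₀ ∈ Scheme.qcPrecoverage V.left
    rw [Scheme.presieve₀_mem_qcPrecoverage_iff]
    refine ⟨fun {U} hU => ?_⟩
    refine .of_finite_of_isSpectralMap (fun k => ((g k).left).isSpectralMap) ?_ U.2 hU.isCompact
    intro x _
    exact hcov x
  · rw [Scheme.ofArrows_mem_precoverage_iff]
    refine ⟨fun x => ?_, fun k => ?_⟩
    · obtain ⟨k, hk⟩ := hcov x
      exact ⟨k, hk⟩
    · exact inferInstanceAs (WeaklyEtale (g k).left)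

variable (X : Scheme.{u})

/-- the underlying scheme functor. -/
noncomputable abbrev Ψ : SC X ⥤ Scheme.{u} :=
  (eqv X).inverse ⋙ Scheme.ProEt.forget X ⋙ Over.forget X

variable {X}

lemma mem_topo_iff {U : SC X} (T : Sieve U) :
    T ∈ topo X U ↔ T.functorPushforward (eqv X).inverse ∈
      Scheme.ProEt.topology X ((eqv X).inverse.obj U) := by
  rw [Functor.mem_inducedTopology_iff_of_isCoverDense]

variable (X)

/-- quasi-compact quasi-separated objects. -/
def Bq : Set (SC X) :=
  {U | CompactSpace ↥((Ψ X).obj U) ∧ QuasiSeparatedSpace ↥((Ψ X).obj U)}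

/-- finite jointly surjective families of qcqs objects over a qcqs object. -/
def Covq (U : SC X) (ι : Type (u + 1)) (Y : ι → Over U) : Prop :=
  Finite ι ∧ U ∈ Bq X ∧ (∀ i, (Y i).left ∈ Bq X) ∧
    ∀ x : ↥((Ψ X).obj U), ∃ (i : ι) (y : ↥((Ψ X).obj (Y i).left)), (Ψ X).map (Y i).hom y = x

/-- objects quasi-compact and quasi-separated over `U`. -/
def Good {U : SC X} (W : Over U) : Prop :=
  QuasiCompact ((Ψ X).map W.hom) ∧ QuasiSeparated ((Ψ X).map W.hom)

variable {X}

lemma good_of_mem {U : SC X} (hU : U ∈ Bq X) (W : Over U) (hW : W.left ∈ Bq X) : Good X W := by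
  haveI := hU.2
  haveI := hW.1
  haveI := hW.2
  exact ⟨inferInstance, inferInstance⟩

lemma mem_of_good {U : SC X} (hU : U ∈ Bq X) (W : Over U) (hW : Good X W) : W.left ∈ Bq X := by
  haveI := hU.1
  haveI := hU.2
  haveI := hW.1
  haveI := hW.2
  exact ⟨QuasiCompact.compactSpace_of_compactSpace ((Ψ X).map W.hom),
    quasiSeparatedSpace_of_quasiSeparated ((Ψ X).map W.hom)⟩

lemma good_of_iso {U : SC X} {W W' : Over U} (e : W ≅ W') (hW : Good X W) : Good X W' := by
  have hw : W'.hom = e.inv.left ≫ W.hom := (Over.w e.inv).symm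
  haveI := hW.1
  haveI := hW.2
  haveI : IsIso e.inv.left := inferInstance
  haveI : IsIso ((Ψ X).map e.inv.left) := inferInstance
  unfold Good
  rw [hw, Functor.map_comp]
  exact ⟨inferInstance, inferInstance⟩

lemma good_of_isLimit_binaryFan {U : SC X} {Y Z : Over U} (hY : Good X Y) (hZ : Good X Z)
    (c : BinaryFan Y Z) (hc : IsLimit c) : Good X c.pt := by
  have sq := (Over.isPullback_of_binaryFan_isLimit c hc).map (Ψ X)
  have hw : c.pt.hom = c.fst.left ≫ Y.hom := (Over.w c.fst).symm
  haveI := hY.1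
  haveI := hY.2
  have h1 : QuasiCompact ((Ψ X).map c.fst.left) :=
    MorphismProperty.of_isPullback (P := @QuasiCompact) sq.flip hZ.1
  have h2 : QuasiSeparated ((Ψ X).map c.fst.left) :=
    MorphismProperty.of_isPullback (P := @QuasiSeparated) sq.flip hZ.2
  unfold Good
  rw [hw, Functor.map_comp]
  exact ⟨MorphismProperty.comp_mem (W := @QuasiCompact) _ _ h1 hY.1,
    MorphismProperty.comp_mem (W := @QuasiSeparated) _ _ h2 hY.2⟩

lemma good_of_isLimit_fan : ∀ (n : ℕ) {U : SC X} (f : Fin n → Over U), (∀ i, Good X (f i)) →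
    ∀ (c : Fan f), IsLimit c → Good X c.pt
  | 0, U, f, _, c, hc => by
    -- the apex is terminal
    let t : Fan f := Fan.mk (Over.mk (𝟙 U)) (fun i => Fin.elim0 i)
    let σ : Over.mk (𝟙 U) ⟶ c.pt := hc.lift t
    have h1 : σ.left ≫ c.pt.hom = 𝟙 U := Over.w σ
    have h2 : (Over.homMk c.pt.hom : c.pt ⟶ Over.mk (𝟙 U)) ≫ σ = 𝟙 c.pt :=
      hc.hom_ext (fun j => Fin.elim0 j.as)
    have h3 : c.pt.hom ≫ σ.left = 𝟙 c.pt.left := congrArg (fun m => m.left) h2
    haveI : IsIso c.pt.hom := ⟨σ.left, h3, h1⟩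
    haveI : IsIso ((Ψ X).map c.pt.hom) := inferInstance
    exact ⟨inferInstance, inferInstance⟩
  | n + 1, U, f, hf, c, hc => by
    let c₁ : Fan (fun i : Fin n => f i.succ) := Fan.mk _ (Pi.π (fun i : Fin n => f i.succ))
    have t₁ : IsLimit c₁ := productIsProduct _
    have g₁ : Good X c₁.pt := good_of_isLimit_fan n _ (fun i => hf i.succ) c₁ t₁
    let c₂ : BinaryFan (f 0) c₁.pt := BinaryFan.mk prod.fst prod.snd
    have t₂ : IsLimit c₂ := prodIsProd _ _
    have g₂ : Good X c₂.pt := good_of_isLimit_binaryFan (hf 0) g₁ c₂ t₂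
    have t₃ := extendFanIsLimit f t₁ t₂
    exact good_of_iso (t₃.conePointUniqueUpToIso hc) g₂

theorem basis_q : Basis (topo X) (Bq X) (Covq X) where
  h1 := by
    rintro U ι Yf ⟨hfin, hU, hY, hcov⟩
    refine ⟨hfin, hU, ?_, ?_⟩
    · rw [mem_topo_iff]
      haveI := hfin
      haveI : QuasiSeparatedSpace ↥((eqv X).inverse.obj U).left := hU.2
      haveI : ∀ i, CompactSpace ↥((eqv X).inverse.obj (Yf i).left).left := fun i => (hY i).1
      refine (Scheme.ProEt.topology X).superset_covering ?_
        (generate_ofArrows_mem_topology' ((eqv X).inverse.obj U)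
          (fun i => (eqv X).inverse.obj (Yf i).left) (fun i => (eqv X).inverse.map (Yf i).hom) ?_)
      · rintro W f ⟨W', h, g, ⟨i⟩, rfl⟩
        exact ⟨(Yf i).left, (Yf i).hom, h, Sieve.ofArrows_mk _ _ i, rfl⟩
      · intro x
        obtain ⟨i, y, hy⟩ := hcov x
        exact ⟨i, y, hy⟩
    · intro p a
      apply mem_of_good hU
      exact good_of_isLimit_fan (p + 1) (fun k => Yf (a k))
        (fun k => good_of_mem hU _ (hY (a k))) _ (productIsProduct _)
  h2 := by
    rintro U hU T hT
    haveI : CompactSpace ↥((eqv X).inverse.obj U).left := hU.1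
    obtain ⟨n, V, g, haff, hin, hcov⟩ :=
      exists_finite_affine_refinement ((eqv X).inverse.obj U) _ ((mem_topo_iff T).mp hT)
    refine ⟨ULift.{u + 1} (Fin n), fun i => Over.mk
      ((eqv X).functor.map (g i.down) : (eqv X).functor.obj (V i.down) ⟶ U),
      ⟨inferInstance, hU, ?_, ?_⟩, ?_⟩
    · intro i
      haveI : IsAffine (V i.down).left := haff i.down
      exact ⟨inferInstanceAs (CompactSpace ↥(V i.down).left),
        inferInstanceAs (QuasiSeparatedSpace ↥(V i.down).left)⟩
    · intro z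
      obtain ⟨i, y, hy⟩ := hcov z
      exact ⟨⟨i⟩, y, hy⟩
    · intro i
      obtain ⟨Z, t, h, hTt, hg⟩ := hin i.down
      have h1 : (eqv X).functor.map (g i.down) = (eqv X).functor.map h ≫ t := by
        rw [hg, Functor.map_comp]
        rfl
      have h2 : T.arrows ((eqv X).functor.map h ≫ t) := T.downward_closed hTt _
      exact Eq.mpr (congrArg (fun m : (eqv X).functor.obj (V i.down) ⟶ U => T.arrows m) h1) h2

end Groth.Agent.H7.PSm
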