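import Mathlib
import Groth.Agent.Lib.Helper7.PSm2

/-! # Étale cohomology of a qcqs scheme commutes with filtered colimits. -/

set_option autoImplicit false
set_option linter.style.haveILetI false
set_option linter.unusedVariables false
set_option linter.unusedSectionVars false
universe u
open CategoryTheory CategoryTheory.Limits AlgebraicGeometry Opposite Abelian

namespace Groth.Agent.H7.PSm

open Groth.Agent.LD.Colim Groth.Agent.LD.CH

variable (X : Scheme.{u}) [CompactSpace X] [QuasiSeparatedSpace X]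

lemma topS_mem : topS X ∈ Bq X :=
  ⟨inferInstanceAs (CompactSpace X), inferInstanceAs (QuasiSeparatedSpace X)⟩

variable {I : Type (u + 1)} [SmallCategory I] [IsFiltered I]

/-- the image of the colimit cocone in the small model. -/
noncomputable abbrev cocΦ (D : I ⥤ ProEtS.AbP X) : Cocone (D ⋙ (Φ X).functor) :=
  (Φ X).functor.mapCocone (colimit.cocone D)

/-- it is a colimit cocone. -/
noncomputable def cocΦIsColimit (D : I ⥤ ProEtS.AbP X) : IsColimit (cocΦ X D) :=
  isColimitOfPreserves (Φ X).functor (colimit.isColimit D)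

theorem surjP_zero (D : I ⥤ ProEtS.AbP X) : SurjP (constZ X) 0 D := by
  intro x
  obtain ⟨φ, rfl⟩ := (Ext.mk₀_bijective _ _).surjective x
  obtain ⟨i, t, ht⟩ := sec_surj basis_q (cocΦIsColimit X D) (topS_mem X)
    (constEquiv X (colimit D) φ)
  refine ⟨i, Ext.mk₀ ((constEquiv X (D.obj i)).symm t), ?_⟩
  unfold pc
  rw [Ext.mk₀_comp_mk₀]
  congr 1
  apply (constEquiv X _).injective
  rw [constEquiv_comp, Equiv.apply_symm_apply]
  exact ht

theorem injP_zero (D : I ⥤ ProEtS.AbP X) : InjP (constZ X) 0 D := by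
  intro i y hy
  obtain ⟨ψ, rfl⟩ := (Ext.mk₀_bijective _ _).surjective y
  unfold pc at hy ⊢
  rw [Ext.mk₀_comp_mk₀, Ext.mk₀_eq_zero_iff] at hy
  have h1 : (colimit.ι D i).hom.app (op (ptop X)) (constEquiv X _ ψ) = 0 := by
    rw [← constEquiv_comp, hy]
    exact ((Ext.addEquiv₀ (X := constZ X) (Y := colimit D)).symm.trans
      (Sheaf.H.equiv₀ (colimit D) (ptopIsTerminal X))).map_zero
  obtain ⟨j, g, hg⟩ := sec_inj basis_q (cocΦIsColimit X D) (topS_mem X) i
    (constEquiv X (D.obj i) ψ) h1
  refine ⟨j, g, ?_⟩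
  rw [Ext.mk₀_comp_mk₀, Ext.mk₀_eq_zero_iff]
  apply (constEquiv X _).injective
  rw [constEquiv_comp]
  refine Eq.trans hg ?_
  exact (((Ext.addEquiv₀ (X := constZ X) (Y := D.obj j)).symm.trans
    (Sheaf.H.equiv₀ (D.obj j) (ptopIsTerminal X))).map_zero).symm

/-- a filtered colimit of injective abelian pro-étale sheaves on a qcqs scheme is acyclic. -/
theorem subsingleton_ext_colimit_injective (E : I ⥤ ProEtS.AbP X)
    (hE : ∀ i, Injective (E.obj i)) (q : ℕ) :
    Subsingleton (Ext.{u + 1} (constZ X) (colimit E) (q + 1)) := by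
  obtain ⟨e⟩ := nonempty_ext_equiv X (colimit E) (q + 1)
  have h : Subsingleton (Ext.{u + 1} (LD.SC.ZU (topo X) (topS X))
      ((Φ X).functor.obj (colimit E)) (q + 1)) := by
    refine subsingleton_ext_colimit basis_q (cocΦIsColimit X E) ?_ (topS_mem X) q
    intro i V ι Y _ p
    haveI : Injective ((E ⋙ (Φ X).functor).obj i) := by
      haveI := hE i
      exact (Φ X).functor.injective_obj (E.obj i)
    exact isZero_cechO_of_injective Y _ p
  exact e.toEquiv.subsingleton

theorem surjP_injP (q : ℕ) :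
    ∀ D : I ⥤ ProEtS.AbP X, SurjP (constZ X) q D ∧ InjP (constZ X) q D := by
  induction q with
  | zero => exact fun D => ⟨surjP_zero X D, injP_zero X D⟩
  | succ q ih =>
    intro D
    have hS := embSC_shortExact D
    have h1 : ∀ i, Subsingleton (Ext.{u + 1} (constZ X) ((embSC D).X₂.obj i) (q + 1)) := fun i =>
      haveI : Injective ((embSC D).X₂.obj i) := inferInstanceAs (Injective ((emb D).obj i))
      ⟨fun a b => by rw [Ext.eq_zero_of_injective a, Ext.eq_zero_of_injective b]⟩
    have h2 : Subsingleton (Ext.{u + 1} (constZ X) (colimit (embSC D).X₂) (q + 1)) :=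
      subsingleton_ext_colimit_injective X (embSC D).X₂
        (fun i => inferInstanceAs (Injective ((emb D).obj i))) q
    exact ⟨shift_surj (embSC D) hS q h2 (ih _).1, shift_inj (embSC D) hS q h1 (ih _).1 (ih _).2⟩

/-- **`H^q(X_proét, -)` commutes with filtered colimits** (index categories in `Type (u+1)`). -/
theorem preservesColimit_HF (q : ℕ) (D : I ⥤ ProEtS.AbP X) :
    PreservesColimit D (ProEtS.HPF X q) :=
  preservesColimit_ext (constZ X) q D (surjP_injP X q D).1 (surjP_injP X q D).2

end Groth.Agent.H7.PSm
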