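import Mathlib
import Groth.Agent.Lib.Helper7.PSm3
import Groth.Agent.Lib.Helper7.FpInd2

/-! # Pro-étale cohomology of a qcqs scheme commutes with filtered colimits (small index
categories in the universe of the scheme) and with direct sums (S0724). -/

set_option autoImplicit false
set_option linter.style.haveILetI false
universe u
open CategoryTheory CategoryTheory.Limits AlgebraicGeometry Opposite

namespace Groth.Agent.H7.PSm

/-- a copy of a `u`-small category in `Type (u+1)`. -/
abbrev LiftCat (J : Type u) [SmallCategory J] : Type (u + 1) := AsSmall.{u + 1} J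

noncomputable instance (J : Type u) [SmallCategory J] : SmallCategory (LiftCat J) :=
  inferInstanceAs (SmallCategory (AsSmall.{u + 1} J))

/-- the equivalence with the lifted copy. -/
noncomputable abbrev liftEquiv (J : Type u) [SmallCategory J] : J ≌ LiftCat J := AsSmall.equiv

instance (J : Type u) [SmallCategory J] [IsFiltered J] : IsFiltered (LiftCat J) :=
  IsFiltered.of_equivalence (liftEquiv J)

theorem preservesColimitsOfShape_HPF (X : Scheme.{u}) [CompactSpace X] [QuasiSeparatedSpace X]
    (n : ℕ) (J : Type u) [SmallCategory J] [IsFiltered J] :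
    PreservesColimitsOfShape J (ProEtS.HPF X n) := by
  haveI : PreservesColimitsOfShape (LiftCat J) (ProEtS.HPF X n) :=
    ⟨fun {D} => preservesColimit_HF X n D⟩
  exact preservesColimitsOfShape_of_equiv (liftEquiv J).symm (ProEtS.HPF X n)

instance (X : Scheme.{u}) (n : ℕ) : (ProEtS.HPF X n).Additive := by
  unfold ProEtS.HPF
  infer_instance

theorem S724_main (X : Scheme.{u}) [CompactSpace X] [QuasiSeparatedSpace X] (n : ℕ)
    (ι : Type u) : PreservesColimitsOfShape (Discrete ι) (ProEtS.HPF X n) := by
  haveI : PreservesColimitsOfShape (Finset (Discrete ι)) (ProEtS.HPF X n) :=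
    preservesColimitsOfShape_HPF X n _
  exact Groth.Agent.H7.FpInd.preservesColimitsOfShape_discrete (ProEtS.HPF X n)

end Groth.Agent.H7.PSm
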