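import Groth.Agent.Lib.Helper7.FinDense
import Groth.Agent.Lib.Helper3.AlgSpMor.Unramified
import Groth.Agent.Lib.Helper5.AlgSp.Permanence
import Groth.Agent.Lib.Helper5.AlgSp.SepMor
import Groth.Prelude.Def_AlgSpGpd
import Mathlib

/-!
# S10118: unramifiedness and local quasi-finiteness pass from a group space to its pseudo-torsors
-/

set_option autoImplicit false
universe u

open AlgebraicGeometry CategoryTheory Limits MonoidalCategory CartesianMonoidalCategory

namespace Groth.Agent.H7.PTors

open _root_.AlgSp Groth.Agent.H5.AlgSp Groth.Agent.H1.AlgSpDim Groth.Agent.H7.QFinSp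
open Groth.Agent.H3.QFinFibre (QF FD0 hasAtMor_QF_iff)
open Groth.Agent.H7.FinDense

variable {S : Scheme.{u}}

/-- the key square: for a morphism `q : X ⟶ B` whose kernel pair is isomorphic over `X` to the base
change of `p : G ⟶ B`, the second projection of the kernel pair is a base change of `p`. -/
theorem isPullback_of_iso_snd {B G X : Sp S} (p : G ⟶ B) (q : X ⟶ B)
    (Φ : pullback p q ⟶ pullback q q) [IsIso Φ]
    (hΦ : Φ ≫ pullback.snd q q = pullback.snd p q) :
    IsPullback (inv Φ ≫ pullback.fst p q) (pullback.snd q q) p q :=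
  IsPullback.of_iso (IsPullback.of_hasPullback p q) (asIso Φ) (Iso.refl _) (Iso.refl _)
    (Iso.refl _) (by simp) (by simp [hΦ]) (by simp) (by simp)

/-- local quasi-finiteness descends from the second projection of the kernel pair. -/
theorem lqf_of_lqf_snd {B X : Sp S} (hB : IsAlgSpace B) (hX : IsAlgSpace X) (q : X ⟶ B)
    (hq : LocP @LocallyOfFiniteType q)
    (h : LocP ((@LocallyQuasiFinite : MorphismProperty Scheme.{u}) ⊓ @LocallyOfFiniteType)
      (pullback.snd q q)) :
    LocP ((@LocallyQuasiFinite : MorphismProperty Scheme.{u}) ⊓ @LocallyOfFiniteType) q := by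
  have sq := IsPullback.of_hasPullback q q
  have hP : IsAlgSpace (pullback q q) := isAlgSpace_pullback hB.diag hX hX sq
  refine lqf_of_forall_hasAtMor_FD0 hX hB q hq fun x => ?_
  have h1 := hasAtMor_FD0_of_lqf hP hX (pullback.snd q q) h
    (Points.map (pullback.diagonal q) x)
  have h2 := (hasAtMor_base_change
    (etLocal_fibreDimAt_pred (fun e => e ≤ ((0 : ℕ) : WithBot ℕ∞)))
    (bcLocal_fibreDimAt_pred (fun e => e ≤ ((0 : ℕ) : WithBot ℕ∞)))
    hX hB hX sq hq (Points.map (pullback.diagonal q) x)).1 h1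
  rwa [← Points.map_comp, pullback.diagonal_fst, Points.map_id] at h2

theorem S10118_main (S : Scheme.{u}) (B : AlgSp.Sp S) (hB : AlgSp.IsAlgSpace B)
    (G X : Over B) [GrpObj G] (hG : AlgSp.IsAlgSpace G.left) (hX : AlgSp.IsAlgSpace X.left)
    (a : AlgSp.GAction G X) (ha : a.IsPseudoTorsor)
    (hGt : AlgSp.LocP @LocallyOfFiniteType G.hom) (hXt : AlgSp.LocP @LocallyOfFiniteType X.hom) :
    (AlgSp.LocP (@LocallyOfFiniteType ⊓ @FormallyUnramified) G.hom →
        AlgSp.LocP (@LocallyOfFiniteType ⊓ @FormallyUnramified) X.hom) ∧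
      (AlgSp.LocP (@LocallyQuasiFinite ⊓ @LocallyOfFiniteType) G.hom →
        AlgSp.LocP (@LocallyQuasiFinite ⊓ @LocallyOfFiniteType) X.hom) := by
  haveI : IsIso (lift a.act (snd G X)) := ha
  haveI : IsIso (lift a.act (snd G X)).left :=
    inferInstanceAs (IsIso ((Over.forget B).map (lift a.act (snd G X))))
  have hΦ : (lift a.act (snd G X)).left ≫ pullback.snd X.hom X.hom = pullback.snd G.hom X.hom :=
    congrArg CommaMorphism.left (lift_snd a.act (snd G X))
  have sq' := isPullback_of_iso_snd G.hom X.hom (lift a.act (snd G X)).left hΦ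
  constructor
  · intro hGu
    have hΔG := Groth.Agent.H3.AlgSpProp.repWith_isOpenImmersion_diagonal_of_unramified hG hB
      G.hom hGu
    have hΔs : RepWith @IsOpenImmersion (pullback.diagonal (pullback.snd X.hom X.hom)) :=
      repWith_diag_of_isPullback sq' hΔG
    have hΔX : RepWith @IsOpenImmersion (pullback.diagonal X.hom) := by
      refine repWith_of_comp_of_diag (b := pullback.snd X.hom X.hom) ?_ hΔs
      rw [pullback.diagonal_snd]
      exact (RepWith @IsOpenImmersion).id_mem X.left
    exact Groth.Agent.H3.AlgSpProp.locP_unramified_of_diagonal hX X.hom hXt hΔX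
  · intro hGl
    have h1 : LocP ((@LocallyQuasiFinite : MorphismProperty Scheme.{u}) ⊓ @LocallyOfFiniteType)
        (pullback.snd X.hom X.hom) :=
      locP_of_isPullback etale_le_lqf_lft sq' hG hB hX hGl
    exact lqf_of_lqf_snd hB hX X.hom hXt h1

end Groth.Agent.H7.PTors
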