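import Mathlib
import Groth.Agent.Lib.Helper7.PWC3

/-!
# Helper7: PWC4 — weakly contractible affine objects of the small pro-étale site
(S0715, S0725, S0757)
-/

set_option autoImplicit false

universe u

open CategoryTheory CategoryTheory.Limits Opposite AlgebraicGeometry

namespace Groth.Agent.H7.PWC

variable {X : Scheme.{u}}

/-- split ⇒ weakly contractible object -/
theorem isWC_of_split (U : X.ProEt)
    (h : ∀ R ∈ Scheme.ProEt.topology X U, Split U R) : ProEtS.IsWC U := by
  intro F G φ hφ t
  haveI : Sheaf.IsLocallySurjective φ := (Sheaf.isLocallySurjective_iff_epi φ).mpr hφ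
  have hS := Presheaf.imageSieve_mem (Scheme.ProEt.topology X) φ.hom t
  obtain ⟨n, W, hclopen, hdisj, hcov, hW⟩ := h _ hS
  choose s hs using hW
  have hF : Presieve.IsSheaf (Scheme.ProEt.topology X) F.obj :=
    (isSheaf_iff_isSheaf_of_type _ _).mp F.2
  have hG : Presieve.IsSheaf (Scheme.ProEt.topology X) G.obj :=
    (isSheaf_iff_isSheaf_of_type _ _).mp G.2
  obtain ⟨s0, hs0, -⟩ := existsUnique_glue U W hF hcov hdisj s
  refine ⟨s0, ?_⟩
  obtain ⟨t0, ht0, huniq⟩ := existsUnique_glue U W hG hcov hdisj
    (fun k => G.obj.map (pieceι U W k).op t)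
  rw [huniq (φ.hom.app (op U) s0) ?_, huniq t (fun k => rfl)]
  intro k
  have := NatTrans.naturality_apply φ.hom (pieceι U W k).op s0
  rw [← this, hs0 k]
  exact hs k

set_option backward.isDefEq.respectTransparency false in
/-- weakly contractible affine object ⇒ w-contractible ring of functions -/
theorem isWContractible_of_isWC (U : X.ProEt) [IsAffine U.left] (hU : ProEtS.IsWC U) :
    EtPBC.IsWContractible Γ(U.left, ⊤) := by
  apply isWContractible_of_sections
  intro V _ p _ _
  let V' : X.ProEt := Scheme.ProEt.mk (p ≫ U.hom)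
  let g : V' ⟶ U := MorphismProperty.Over.homMk p
  have hgen : Sieve.generate (Presieve.singleton g) ∈ Scheme.ProEt.topology X U := by
    apply Precoverage.generate_mem_toGrothendieck
    rw [Scheme.ProEt.precoverage, Precoverage.mem_comap_iff, Presieve.map_singleton]
    change Presieve.singleton p ∈ Scheme.proetalePrecoverage U.left
    exact Scheme.Hom.singleton_mem_propQCPrecoverage (inferInstanceAs (WeaklyEtale p))
  let φ := (GrothendieckTopology.uliftYoneda.{u + 1} (Scheme.ProEt.topology X)).map g
  haveI : Sheaf.IsLocallySurjective φ := by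
    constructor
    intro Z t
    refine (Scheme.ProEt.topology X).superset_covering ?_
      ((Scheme.ProEt.topology X).pullback_stable t.down hgen)
    intro Z' h hh
    obtain ⟨Y, k, l, ⟨⟩, hkl⟩ := hh
    exact ⟨ULift.up k, congrArg ULift.up hkl⟩
  obtain ⟨s, hs⟩ := hU _ _ φ inferInstance (ULift.up (𝟙 U))
  refine ⟨s.down.left, ?_⟩
  have : s.down ≫ g = 𝟙 U := congrArg ULift.down hs
  exact congrArg (fun t => t.left) this

/-- a presheaf of sets turning finite disjoint unions into products has the same sections as its
sheafification on an object all of whose covering sieves split -/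
theorem sheafify_bijective_of_split (F : X.ProEtᵒᵖ ⥤ Type (u + 1)) [PreservesFiniteProducts F]
    (W : X.ProEt) (h : ∀ R ∈ Scheme.ProEt.topology X W, Split W R) :
    Function.Bijective ((toSheafify (Scheme.ProEt.topology X) F).app (op W)) := by
  have hsh : Presieve.IsSheaf (Scheme.ProEt.topology X)
      (sheafify (Scheme.ProEt.topology X) F) :=
    (isSheaf_iff_isSheaf_of_type _ _).mp
      ((presheafToSheaf (Scheme.ProEt.topology X) (Type (u + 1))).obj F).2
  constructor
  · intro a b hab
    have hS := Presheaf.equalizerSieve_mem (Scheme.ProEt.topology X)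
      (toSheafify (Scheme.ProEt.topology X) F) (X := op W) a b hab
    obtain ⟨n, Wk, hclopen, hdisj, hcov, hW⟩ := h _ hS
    obtain ⟨t, ht, hu⟩ := existsUnique_of_preservesFiniteProducts W Wk F hcov hdisj
      (fun k => F.map (pieceι W Wk k).op b)
    rw [hu a (fun k => hW k), hu b (fun k => rfl)]
  · intro s
    have hS := Presheaf.imageSieve_mem (Scheme.ProEt.topology X)
      (toSheafify (Scheme.ProEt.topology X) F) s
    obtain ⟨n, Wk, hclopen, hdisj, hcov, hW⟩ := h _ hS
    choose t ht using hW
    obtain ⟨t0, ht0, -⟩ := existsUnique_of_preservesFiniteProducts W Wk F hcov hdisj t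
    refine ⟨t0, ?_⟩
    obtain ⟨s0, hs0, huniq⟩ := existsUnique_glue W Wk hsh hcov hdisj
      (fun k => (sheafify (Scheme.ProEt.topology X) F).map (pieceι W Wk k).op s)
    rw [huniq ((toSheafify (Scheme.ProEt.topology X) F).app (op W) t0) ?_,
      huniq s (fun k => rfl)]
    intro k
    have := NatTrans.naturality_apply (toSheafify (Scheme.ProEt.topology X) F)
      (pieceι W Wk k).op t0
    rw [← this, ht0 k]
    exact ht k

end Groth.Agent.H7.PWC
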