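import Mathlib
import Groth.Agent.Lib.Helper7.PWC4
import Groth.Agent.Lib.Helper7.PEps2

/-!
# Helper7: PWC5 — finite coproducts in the small pro-étale site, and sheafification on split objects
for presheaves satisfying the product property on clopen decompositions
-/

set_option autoImplicit false

universe w u

open CategoryTheory CategoryTheory.Limits Opposite AlgebraicGeometry

namespace Groth.Agent.H7.PWC

variable {X : Scheme.{u}}

/-- variant of `sheafify_bijective_of_split` with the product property only on clopen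
decompositions of `W` -/
theorem sheafify_bijective_of_split' (F : X.ProEtᵒᵖ ⥤ Type (u + 1)) (W : X.ProEt)
    (hF : ∀ {n : ℕ} (Wk : Fin n → W.left.Opens),
      (⋃ k, (Wk k : Set ↥W.left)) = Set.univ →
      Pairwise (fun k l => Disjoint (Wk k : Set ↥W.left) (Wk l)) →
      ∀ x : ∀ k, F.obj (op (piece W Wk k)),
        ∃! t : F.obj (op W), ∀ k, F.map (pieceι W Wk k).op t = x k)
    (h : ∀ R ∈ Scheme.ProEt.topology X W, Split W R) :
    Function.Bijective ((toSheafify (Scheme.ProEt.topology X) F).app (op W)) := by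
  have hsh : Presieve.IsSheaf (Scheme.ProEt.topology X)
      (sheafify (Scheme.ProEt.topology X) F) :=
    (isSheaf_iff_isSheaf_of_type _ _).mp
      ((presheafToSheaf (Scheme.ProEt.topology X) (Type (u + 1))).obj F).2
  constructor
  · intro a b hab
    have hS := Presheaf.equalizerSieve_mem (Scheme.ProEt.topology X)
      (toSheafify (Scheme.ProEt.topology X) F) (X := op W) a b hab
    obtain ⟨n, Wk, hclopen, hdisj, hcov, hW⟩ := h _ hS
    obtain ⟨t, ht, hu⟩ := hF Wk hcov hdisj (fun k => F.map (pieceι W Wk k).op b)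
    rw [hu a (fun k => hW k), hu b (fun k => rfl)]
  · intro s
    have hS := Presheaf.imageSieve_mem (Scheme.ProEt.topology X)
      (toSheafify (Scheme.ProEt.topology X) F) s
    obtain ⟨n, Wk, hclopen, hdisj, hcov, hW⟩ := h _ hS
    choose t ht using hW
    obtain ⟨t0, ht0, -⟩ := hF Wk hcov hdisj t
    refine ⟨t0, ?_⟩
    obtain ⟨s0, hs0, huniq⟩ := existsUnique_glue W Wk hsh hcov hdisj
      (fun k => (sheafify (Scheme.ProEt.topology X) F).map (pieceι W Wk k).op s)
    rw [huniq ((toSheafify (Scheme.ProEt.topology X) F).app (op W) t0) ?_,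
      huniq s (fun k => rfl)]
    intro k
    have := NatTrans.naturality_apply (toSheafify (Scheme.ProEt.topology X) F)
      (pieceι W Wk k).op t0
    rw [← this, ht0 k]
    exact ht k

section Coprod

variable {n : ℕ} (V : Fin n → X.ProEt)

/-- the underlying schemes of a family -/
abbrev sigmaFam : Fin n → Scheme.{u} := fun k => (V k).left

/-- the coproduct of a finite family of objects of the small pro-étale site -/
noncomputable def sigmaObj : X.ProEt :=
  haveI : WeaklyEtale (Sigma.desc (fun k => (V k).hom) : (∐ sigmaFam V : Scheme.{u}) ⟶ X) :=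
    IsZariskiLocalAtSource.sigmaDesc (fun k => inferInstance)
  Scheme.ProEt.mk (Sigma.desc (fun k => (V k).hom) : (∐ sigmaFam V : Scheme.{u}) ⟶ X)

/-- the coproduct inclusions -/
noncomputable def sigmaInc (k : Fin n) : V k ⟶ sigmaObj V :=
  MorphismProperty.Over.homMk (Sigma.ι (sigmaFam V) k) (Sigma.ι_desc _ _)

instance isOpenImmersion_sigmaι (k : Fin n) : IsOpenImmersion (Sigma.ι (sigmaFam V) k) := by
  unfold sigmaFam
  infer_instance

/-- the opens of the coproduct -/
noncomputable def sigmaOpens (k : Fin n) : (sigmaObj V).left.Opens :=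
  (Sigma.ι (sigmaFam V) k).opensRange

lemma sigmaOpens_cov : (⋃ k, (sigmaOpens V k : Set ↥(sigmaObj V).left)) = Set.univ := by
  rw [Set.eq_univ_iff_forall]
  intro x
  obtain ⟨l, y, hy⟩ := exists_sigmaι_eq (sigmaFam V) x
  exact Set.mem_iUnion.mpr ⟨l, y, hy⟩

lemma sigmaOpens_disj :
    Pairwise (fun k l => Disjoint (sigmaOpens V k : Set ↥(sigmaObj V).left) (sigmaOpens V l)) := by
  intro k l hkl
  have := disjoint_opensRange_sigmaι (sigmaFam V) k l hkl
  rw [Set.disjoint_left]
  intro x hx hx'
  have h1 : x ∈ (Sigma.ι (sigmaFam V) k).opensRange ⊓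
      (Sigma.ι (sigmaFam V) l).opensRange := ⟨hx, hx'⟩
  rw [disjoint_iff.mp this] at h1
  exact h1

set_option backward.isDefEq.respectTransparency false in
/-- the pieces of the coproduct are the summands -/
noncomputable def sigmaPieceIso (k : Fin n) :
    V k ≅ piece (sigmaObj V) (sigmaOpens V) k :=
  MorphismProperty.Over.isoMk (Sigma.ι (sigmaFam V) k).isoOpensRange (by
    change (Sigma.ι (sigmaFam V) k).isoOpensRange.hom ≫
      ((Sigma.ι (sigmaFam V) k).opensRange.ι ≫
        Sigma.desc (fun k => (V k).hom)) = (V k).hom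
    rw [← Category.assoc, Scheme.Hom.isoOpensRange_hom_ι, Sigma.ι_desc])

lemma sigmaPieceIso_hom_pieceι (k : Fin n) :
    (sigmaPieceIso V k).hom ≫ pieceι (sigmaObj V) (sigmaOpens V) k = sigmaInc V k := by
  apply MorphismProperty.Over.Hom.ext
  exact Scheme.Hom.isoOpensRange_hom_ι (Sigma.ι (sigmaFam V) k)

theorem existsUnique_sigma {G : X.ProEtᵒᵖ ⥤ Type w}
    (hG : Presieve.IsSheaf (Scheme.ProEt.topology X) G) (s : ∀ k, G.obj (op (V k))) :
    ∃! t : G.obj (op (sigmaObj V)), ∀ k, G.map (sigmaInc V k).op t = s k := by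
  obtain ⟨t, ht, hu⟩ := existsUnique_glue (sigmaObj V) (sigmaOpens V) hG (sigmaOpens_cov V)
    (sigmaOpens_disj V) (fun k => G.map (sigmaPieceIso V k).inv.op (s k))
  have key : ∀ (t' : G.obj (op (sigmaObj V))) (k : Fin n),
      G.map (sigmaInc V k).op t' =
        G.map (sigmaPieceIso V k).hom.op
          (G.map (pieceι (sigmaObj V) (sigmaOpens V) k).op t') := by
    intro t' k
    rw [← FunctorToTypes.map_comp_apply, ← op_comp, sigmaPieceIso_hom_pieceι]
  refine ⟨t, fun k => ?_, fun t' ht' => hu t' (fun k => ?_)⟩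
  · rw [key, ht k, ← FunctorToTypes.map_comp_apply, ← op_comp, Iso.hom_inv_id, op_id,
      FunctorToTypes.map_id_apply]
  · rw [← ht' k, key, ← FunctorToTypes.map_comp_apply, ← op_comp, Iso.inv_hom_id, op_id,
      FunctorToTypes.map_id_apply]

/-- the universal property of the coproduct -/
theorem existsUnique_sigmaDesc (T : X.ProEt) (a : ∀ k, V k ⟶ T) :
    ∃! b : sigmaObj V ⟶ T, ∀ k, sigmaInc V k ≫ b = a k :=
  existsUnique_sigma V (G := yoneda.obj T)
    (GrothendieckTopology.Subcanonical.isSheaf_of_isRepresentable _) a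

end Coprod

end Groth.Agent.H7.PWC
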