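import Mathlib
import Groth.Agent.Lib.Helper7.PWC5

/-!
# Helper7: PWC6 — the left Kan extension presheaf along base change of small pro-étale sites has the
product property on clopen decompositions (S7285)
-/

set_option autoImplicit false

universe u

open CategoryTheory CategoryTheory.Limits Opposite AlgebraicGeometry

namespace Groth.Agent.H7.PWC

open Groth.Agent.H7.PE

variable {X Y : Scheme.{u}} (f : X ⟶ Y) (F : Sheaf (Scheme.ProEt.topology Y) (Type (u + 1)))

set_option backward.isDefEq.respectTransparency.types false in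
instance representablyFlat_bcP : RepresentablyFlat (ProEtS.bcP f) :=
  flat_of_preservesFiniteLimits _

instance isFiltered_costructuredArrow (Z : X.ProEt) :
    IsFiltered (CostructuredArrow (ProEtS.bcP f).op (op Z)) :=
  RepresentablyCoflat.filtered (op Z)

/-- the left Kan extension presheaf -/
noncomputable abbrev lanP : X.ProEtᵒᵖ ⥤ Type (u + 1) := (ProEtS.bcP f).op.lan.obj F.obj

/-- the unit -/
noncomputable abbrev lanη : F.obj ⟶ (ProEtS.bcP f).op ⋙ lanP f F :=
  (ProEtS.bcP f).op.leftKanExtensionUnit F.obj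

/-- the class of a section -/
noncomputable def cl {Z : X.ProEt} {V : Y.ProEt} (a : Z ⟶ (ProEtS.bcP f).obj V)
    (s : F.obj.obj (op V)) : (lanP f F).obj (op Z) :=
  (lanP f F).map a.op ((lanη f F).app (op V) s)

lemma map_cl {Z' Z : X.ProEt} (g : Z' ⟶ Z) {V : Y.ProEt} (a : Z ⟶ (ProEtS.bcP f).obj V)
    (s : F.obj.obj (op V)) : (lanP f F).map g.op (cl f F a s) = cl f F (g ≫ a) s := by
  unfold cl
  rw [op_comp, Functor.map_comp]
  rfl

lemma cl_comp_map {Z : X.ProEt} {V' V : Y.ProEt} (h : V' ⟶ V)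
    (a' : Z ⟶ (ProEtS.bcP f).obj V') (s : F.obj.obj (op V)) :
    cl f F (a' ≫ (ProEtS.bcP f).map h) s = cl f F a' (F.obj.map h.op s) := by
  unfold cl
  have := NatTrans.naturality_apply (lanη f F) h.op s
  rw [this, op_comp, Functor.map_comp]
  rfl

lemma exists_cl {Z : X.ProEt} (t : (lanP f F).obj (op Z)) :
    ∃ (V : Y.ProEt) (a : Z ⟶ (ProEtS.bcP f).obj V) (s : F.obj.obj (op V)), cl f F a s = t := by
  obtain ⟨j, y, hy⟩ := Types.jointly_surjective_of_isColimit
    ((ProEtS.bcP f).op.isPointwiseLeftKanExtensionLeftKanExtensionUnit F.obj (op Z)) t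
  exact ⟨j.left.unop, j.hom.unop, y, hy⟩

lemma exists_of_cl_eq {Z : X.ProEt} {V V' : Y.ProEt} (a : Z ⟶ (ProEtS.bcP f).obj V)
    (a' : Z ⟶ (ProEtS.bcP f).obj V') (s : F.obj.obj (op V)) (s' : F.obj.obj (op V'))
    (h : cl f F a s = cl f F a' s') :
    ∃ (V'' : Y.ProEt) (b : Z ⟶ (ProEtS.bcP f).obj V'') (h₁ : V'' ⟶ V) (h₂ : V'' ⟶ V'),
      b ≫ (ProEtS.bcP f).map h₁ = a ∧ b ≫ (ProEtS.bcP f).map h₂ = a' ∧
      F.obj.map h₁.op s = F.obj.map h₂.op s' := by
  let i : CostructuredArrow (ProEtS.bcP f).op (op Z) :=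
    CostructuredArrow.mk (Y := op V) a.op
  let i' : CostructuredArrow (ProEtS.bcP f).op (op Z) :=
    CostructuredArrow.mk (Y := op V') a'.op
  obtain ⟨k, φ, φ', hk⟩ := (Types.FilteredColimit.isColimit_eq_iff _
    ((ProEtS.bcP f).op.isPointwiseLeftKanExtensionLeftKanExtensionUnit F.obj (op Z))
    (i := i) (j := i') (xi := s) (xj := s')).mp h
  refine ⟨k.left.unop, k.hom.unop, φ.left.unop, φ'.left.unop, ?_, ?_, hk⟩
  · exact congrArg Quiver.Hom.unop (CostructuredArrow.w φ)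
  · exact congrArg Quiver.Hom.unop (CostructuredArrow.w φ')

theorem lanP_existsUnique (W : X.ProEt) {n : ℕ} (Wk : Fin n → W.left.Opens)
    (hcov : (⋃ k, (Wk k : Set ↥W.left)) = Set.univ)
    (hdisj : Pairwise (fun k l => Disjoint (Wk k : Set ↥W.left) (Wk l)))
    (x : ∀ k, (lanP f F).obj (op (piece W Wk k))) :
    ∃! t : (lanP f F).obj (op W), ∀ k, (lanP f F).map (pieceι W Wk k).op t = x k := by
  have hFsh : Presieve.IsSheaf (Scheme.ProEt.topology Y) F.obj :=
    (isSheaf_iff_isSheaf_of_type _ _).mp F.2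
  have hc := isColimitCofan W Wk hcov hdisj
  choose V a s hx using fun k => exists_cl f F (x k)
  obtain ⟨s0, hs0, -⟩ := existsUnique_sigma V hFsh s
  let a0 : W ⟶ (ProEtS.bcP f).obj (sigmaObj V) :=
    Cofan.IsColimit.desc hc (fun k => a k ≫ (ProEtS.bcP f).map (sigmaInc V k))
  have ha0 : ∀ k, pieceι W Wk k ≫ a0 = a k ≫ (ProEtS.bcP f).map (sigmaInc V k) :=
    fun k => Cofan.IsColimit.fac hc _ k
  refine ⟨cl f F a0 s0, fun k => ?_, ?_⟩
  · rw [map_cl, ha0, cl_comp_map, hs0 k, hx k]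
  · intro t' ht'
    obtain ⟨V', a', s', rfl⟩ := exists_cl f F t'
    have h1 : ∀ k, cl f F (pieceι W Wk k ≫ a') s' = cl f F (a k) (s k) := by
      intro k
      rw [← map_cl, ht' k, hx k]
    choose V'' b h₁ h₂ hb₁ hb₂ hF using fun k =>
      exists_of_cl_eq f F (pieceι W Wk k ≫ a') (a k) s' (s k) (h1 k)
    obtain ⟨g₁, hg₁, -⟩ := existsUnique_sigmaDesc V'' V' h₁
    obtain ⟨g₂, hg₂, -⟩ := existsUnique_sigmaDesc V'' (sigmaObj V)
      (fun k => h₂ k ≫ sigmaInc V k)
    let b0 : W ⟶ (ProEtS.bcP f).obj (sigmaObj V'') :=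
      Cofan.IsColimit.desc hc (fun k => b k ≫ (ProEtS.bcP f).map (sigmaInc V'' k))
    have hb0 : ∀ k, pieceι W Wk k ≫ b0 = b k ≫ (ProEtS.bcP f).map (sigmaInc V'' k) :=
      fun k => Cofan.IsColimit.fac hc _ k
    have e1 : b0 ≫ (ProEtS.bcP f).map g₁ = a' := by
      apply Cofan.IsColimit.hom_ext hc
      intro k
      change pieceι W Wk k ≫ b0 ≫ (ProEtS.bcP f).map g₁ = pieceι W Wk k ≫ a'
      rw [← Category.assoc, hb0, Category.assoc, ← Functor.map_comp, hg₁ k, hb₁ k]
    have e2 : b0 ≫ (ProEtS.bcP f).map g₂ = a0 := by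
      apply Cofan.IsColimit.hom_ext hc
      intro k
      change pieceι W Wk k ≫ b0 ≫ (ProEtS.bcP f).map g₂ = pieceι W Wk k ≫ a0
      rw [← Category.assoc, hb0, Category.assoc, ← Functor.map_comp, hg₂ k, Functor.map_comp,
        ← Category.assoc, hb₂ k, ha0]
    have e3 : F.obj.map g₁.op s' = F.obj.map g₂.op s0 := by
      obtain ⟨t0, -, hu⟩ := existsUnique_sigma V'' hFsh (fun k => F.obj.map (h₁ k).op s')
      rw [hu (F.obj.map g₁.op s') ?_, hu (F.obj.map g₂.op s0) ?_]
      · intro k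
        rw [← FunctorToTypes.map_comp_apply, ← op_comp, hg₂ k, op_comp,
          FunctorToTypes.map_comp_apply, hs0 k]
        exact (hF k).symm
      · intro k
        rw [← FunctorToTypes.map_comp_apply, ← op_comp, hg₁ k]
    rw [← e1, cl_comp_map, e3, ← cl_comp_map, e2]

/-- **S7285** -/
theorem S7285_main [ProEtS.PCont f] (W : X.ProEt) [IsAffine W.left] (hW : ProEtS.IsWC W) :
    Function.Bijective
      ((toSheafify (Scheme.ProEt.topology X) ((ProEtS.bcP f).op.lan.obj F.obj)).app (op W)) :=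
  sheafify_bijective_of_split' _ W
    (fun Wk hcov hdisj x => lanP_existsUnique f F W Wk hcov hdisj x)
    (fun R hR => split_of_isWContractible W (isWContractible_of_isWC W hW) R hR)

end Groth.Agent.H7.PWC
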