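import Mathlib
import Groth.Agent.Lib.Helper7.RelFrob

/-! Étale algebras over perfect rings are perfect; the perfect closure of an étale algebra is the
base change of the perfect closure of the base. -/

set_option autoImplicit false
open scoped TensorProduct

namespace Groth.Agent.H7.PerfEt

universe u

open FrobAlg

section Perfect

theorem bijective_frobenius_of_etale (p : ℕ) [hp : Fact p.Prime] (A' : Type u) [CommRing A']
    [CharP A' p] [PerfectRing A' p] (C : Type u) [CommRing C] [Algebra A' C] [CharP C p]
    [Algebra.Etale A' C] : Function.Bijective (frobenius C p) := by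
  have hL : Function.Bijective (Algebra.linearMap A' (Twist p A')) := by
    have : (Algebra.linearMap A' (Twist p A') : A' → Twist p A') =
        (toTwist p A') ∘ (frobenius A' p) := by
      funext a
      rfl
    rw [this]
    exact (toTwist p A').bijective.comp (_root_.bijective_frobenius A' p)
  let L : A' ≃ₗ[A'] Twist p A' := LinearEquiv.ofBijective _ hL
  let ι : C ≃ₗ[A'] BaseChange p A' C :=
    (TensorProduct.rid A' C).symm.trans (TensorProduct.congr (LinearEquiv.refl A' C) L)
  have hι : ∀ c : C, ι c = c ⊗ₜ[A'] (1 : Twist p A') := by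
    intro c
    simp only [ι, LinearEquiv.trans_apply, TensorProduct.rid_symm_apply, TensorProduct.congr_tmul,
      LinearEquiv.refl_apply]
    congr 1
    exact map_one (algebraMap A' (Twist p A'))
  have hcomp : (frobenius C p : C → C) = (relFrob p A' C) ∘ ι := by
    funext c
    rw [Function.comp_apply, hι, RelFrob.relFrob_tmul, map_one, map_one, mul_one, frobenius_def]
  rw [hcomp]
  exact (RelFrob.relFrob_bijective_of_etale p A' C).comp ι.bijective

end Perfect

section Closure

variable (p : ℕ) [hp : Fact p.Prime]
  (A B A' : Type u) [CommRing A] [CommRing B] [CommRing A'] [CharP A p] [CharP B p] [CharP A' p]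
  [PerfectRing A' p] [Algebra A B] [Module.Flat A B] [Algebra A A']
  [IsPerfectClosure (algebraMap A A') p]

theorem isPRadical_includeRight [CharP (A' ⊗[A] B) p] :
    IsPRadical ((Algebra.TensorProduct.includeRight : B →ₐ[A] A' ⊗[A] B) : B →+* A' ⊗[A] B) p := by
  constructor
  · intro x
    induction x using TensorProduct.induction_on with
    | zero =>
      refine ⟨0, 0, ?_⟩
      simp
    | tmul a' b =>
      obtain ⟨n, a, ha⟩ := IsPRadical.pow_mem (algebraMap A A') p a'
      refine ⟨n, a • b ^ p ^ n, ?_⟩
      change (1 : A') ⊗ₜ[A] (a • b ^ p ^ n) = _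
      rw [Algebra.TensorProduct.tmul_pow, ← ha, ← TensorProduct.smul_tmul,
        Algebra.algebraMap_eq_smul_one]
    | add x y hx hy =>
      obtain ⟨n, u, hu⟩ := hx
      obtain ⟨m, v, hv⟩ := hy
      refine ⟨n + m, u ^ p ^ m + v ^ p ^ n, ?_⟩
      rw [add_pow_char_pow, map_add, map_pow, map_pow, hu, hv, ← pow_mul, ← pow_mul, ← pow_add,
        ← pow_add, add_comm m n]
  · intro b hb
    rw [pNilradical_prime hp.out, mem_nilradical]
    rw [RingHom.mem_ker] at hb
    change (1 : A') ⊗ₜ[A] b = 0 at hb
    set K : Ideal A := RingHom.ker (algebraMap A A') with hK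
    let j : (A ⧸ K) →ₗ[A] A' :=
      Submodule.liftQ K (Algebra.linearMap A A') (fun a ha => by
        rw [LinearMap.mem_ker, Algebra.linearMap_apply]
        exact ha)
    have hj : Function.Injective j := by
      rw [← LinearMap.ker_eq_bot]
      apply Submodule.ker_liftQ_eq_bot
      intro a ha
      rw [LinearMap.mem_ker, Algebra.linearMap_apply] at ha
      exact ha
    have hj' := Module.Flat.rTensor_preserves_injective_linearMap (M := B) j hj
    have h1 : ((1 : A ⧸ K) ⊗ₜ[A] b : (A ⧸ K) ⊗[A] B) = 0 := by
      apply hj'
      rw [LinearMap.rTensor_tmul, map_zero]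
      have : j 1 = 1 := by
        change j (Submodule.Quotient.mk 1) = 1
        rw [Submodule.liftQ_apply, Algebra.linearMap_apply, map_one]
      rw [this, hb]
    have h2 : b ∈ K • (⊤ : Submodule A B) := by
      have := congrArg (TensorProduct.quotTensorEquivQuotSMul B K) h1
      rw [TensorProduct.quotTensorEquivQuotSMul_mk_one_tmul, map_zero,
        Submodule.Quotient.mk_eq_zero] at this
      exact this
    have hKnil : ∀ k ∈ K, IsNilpotent k := by
      intro k hk
      have := IsPRadical.ker_le (algebraMap A A') p hk
      rw [pNilradical_prime hp.out, mem_nilradical] at this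
      exact this
    refine Submodule.smul_induction_on (p := fun x => IsNilpotent x) h2 ?_ ?_
    · intro k hk m _
      rw [Algebra.smul_def]
      exact (Commute.all _ _).isNilpotent_mul_right ((hKnil k hk).map (algebraMap A B))
    · intro x y hx hy
      exact (Commute.all x y).isNilpotent_add hx hy

end Closure

section Main

theorem main (p : ℕ) [hp : Fact p.Prime]
    (A B A' B' : Type u) [CommRing A] [CommRing B] [CommRing A'] [CommRing B']
    [CharP A p] [CharP B p] [CharP A' p] [CharP B' p] [PerfectRing A' p] [PerfectRing B' p]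
    [Algebra A B] [Algebra.Etale A B] [Algebra A A'] [Algebra B B'] [Algebra A B']
    [IsScalarTower A B B']
    [IsPerfectClosure (algebraMap A A') p] [IsPerfectClosure (algebraMap B B') p]
    (φ' : A' →ₐ[A] B') :
    Function.Bijective (Algebra.TensorProduct.lift φ' (IsScalarTower.toAlgHom A B B')
      (fun a b => Commute.all (φ' a) (IsScalarTower.toAlgHom A B B' b))) := by
  set Φ := Algebra.TensorProduct.lift φ' (IsScalarTower.toAlgHom A B B')
      (fun a b => Commute.all (φ' a) (IsScalarTower.toAlgHom A B B' b)) with hΦ
  haveI : Nontrivial B' := CharP.nontrivial_of_char_ne_one (R := B') hp.out.ne_one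
  rcases subsingleton_or_nontrivial (A' ⊗[A] B) with hsub | hnt
  · exfalso
    have : (1 : B') = 0 := by
      rw [← map_one Φ, ← map_zero Φ]
      congr 1
      exact Subsingleton.elim _ _
    exact one_ne_zero this
  haveI : CharP (A' ⊗[A] B) p := by
    apply (CharP.charP_iff_prime_eq_zero hp.out).mpr
    have : ((p : ℕ) : A' ⊗[A] B) = algebraMap A' (A' ⊗[A] B) ((p : ℕ) : A') := by
      rw [map_natCast]
    rw [this, CharP.cast_eq_zero, map_zero]
  haveI : PerfectRing (A' ⊗[A] B) p :=
    ⟨by
      have := bijective_frobenius_of_etale p A' (A' ⊗[A] B)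
      exact this⟩
  haveI := isPRadical_includeRight p A B A'
  let i : B →+* A' ⊗[A] B := ((Algebra.TensorProduct.includeRight : B →ₐ[A] A' ⊗[A] B) :
    B →+* A' ⊗[A] B)
  let e := IsPerfectClosure.equiv i (algebraMap B B') p
  have h1 : (Φ : A' ⊗[A] B →+* B').comp i = algebraMap B B' := by
    ext b
    simp [Φ, i]
  have h2 : (e : A' ⊗[A] B →+* B').comp i = algebraMap B B' :=
    IsPerfectClosure.equiv_comp i _ p
  have h3 : (Φ : A' ⊗[A] B →+* B') = (e : A' ⊗[A] B →+* B') :=
    IsPRadical.injective_comp_of_perfect i p (M := B') (h1.trans h2.symm)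
  have h4 : (Φ : A' ⊗[A] B → B') = e := by
    funext x
    exact congrArg (fun f : A' ⊗[A] B →+* B' => f x) h3
  rw [h4]
  exact e.bijective

end Main

end Groth.Agent.H7.PerfEt
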