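import Mathlib
import Groth.Agent.Lib.Helper2.TorFiltered
import Groth.Agent.Lib.Helper2.TorBalLES
import Groth.Agent.Lib.Helper2.TorBalOne

/-! Filtered-colimit vanishing criterion for functors on module categories. -/

universe u

namespace Groth.Agent.H7.PerfTor

open CategoryTheory CategoryTheory.Limits

variable {A : Type u} [CommRing A]

/-- A cocone over a filtered diagram of modules which is jointly surjective and whose kernels die
eventually is a colimit cocone. -/
noncomputable def isColimitOfElementwise {J : Type u} [SmallCategory J] [IsFiltered J]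
    (F : J ⥤ ModuleCat.{u} A) (c : Cocone F)
    (hsurj : ∀ x : c.pt, ∃ (j : J) (y : F.obj j), (c.ι.app j).hom y = x)
    (hinj : ∀ (j : J) (y : F.obj j), (c.ι.app j).hom y = 0 →
      ∃ (k : J) (f : j ⟶ k), (F.map f).hom y = 0) : IsColimit c := by
  apply isColimitOfReflects (forget (ModuleCat.{u} A))
  apply Types.FilteredColimit.isColimitOf'
  · intro x
    obtain ⟨j, y, hy⟩ := hsurj x
    exact ⟨j, y, hy.symm⟩
  · intro i x y hxy
    have h0 : (c.ι.app i).hom ((x : F.obj i) - (y : F.obj i)) = 0 := by
      rw [map_sub, sub_eq_zero]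
      exact hxy
    obtain ⟨k, f, hf⟩ := hinj i _ h0
    refine ⟨k, f, ?_⟩
    rw [map_sub, sub_eq_zero] at hf
    exact hf

/-- A functor preserving filtered colimits vanishes on the colimit of a diagram of objects on
which it vanishes. -/
theorem isZero_of_isColimit {J : Type u} [SmallCategory J] [IsFiltered J]
    (F : J ⥤ ModuleCat.{u} A) (c : Cocone F) (hc : IsColimit c)
    (T : ModuleCat.{u} A ⥤ ModuleCat.{u} A) [PreservesColimitsOfShape J T]
    (h : ∀ j, IsZero (T.obj (F.obj j))) : IsZero (T.obj c.pt) := by
  have hc' := isColimitOfPreserves T hc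
  have hsub : Subsingleton (T.obj c.pt) := by
    refine ⟨fun a b => ?_⟩
    have h0 : ∀ z : T.obj c.pt, z = 0 := by
      intro z
      obtain ⟨j, y, hy⟩ := Concrete.isColimit_exists_rep (F ⋙ T) hc' z
      have hsub' : Subsingleton (T.obj (F.obj j)) := ModuleCat.subsingleton_of_isZero (h j)
      have hy0 : y = (0 : T.obj (F.obj j)) := Subsingleton.elim (α := T.obj (F.obj j)) y 0
      rw [← hy, hy0]
      exact map_zero (T.map (c.ι.app j)).hom
    rw [h0 a, h0 b]
  exact ModuleCat.isZero_of_subsingleton _

end Groth.Agent.H7.PerfTor
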