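import Mathlib

/-! Perfect rings of characteristic `p` (allowing the zero ring): basics. -/

universe u

namespace Groth.Agent.H7.PerfTor

open TensorProduct

variable (p : ℕ) [hp : Fact p.Prime]

/-- `p = 0` in `R` and the `p`-th power map is bijective. -/
structure IsPerf (R : Type*) [CommRing R] : Prop where
  char : (p : R) = 0
  bij : Function.Bijective (fun x : R => x ^ p)

/-- Frobenius as a ring homomorphism on a ring in which `p = 0` (the zero ring is allowed). -/
def frob (R : Type*) [CommRing R] (h : (p : R) = 0) : R →+* R where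
  toFun x := x ^ p
  map_one' := one_pow p
  map_mul' x y := mul_pow x y p
  map_zero' := zero_pow hp.out.ne_zero
  map_add' x y := by
    obtain ⟨r, hr⟩ := exists_add_pow_prime_eq hp.out x y
    rw [hr, h]; ring

@[simp] lemma frob_apply (R : Type*) [CommRing R] (h : (p : R) = 0) (x : R) :
    frob p R h x = x ^ p := rfl

variable {p}

namespace IsPerf

variable {R : Type*} [CommRing R] (h : IsPerf p R)
include h

/-- Frobenius as a ring automorphism. -/
noncomputable def frobEquiv : R ≃+* R := RingEquiv.ofBijective (frob p R h.char) h.bij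

@[simp] lemma frobEquiv_apply (x : R) : h.frobEquiv x = x ^ p := rfl

lemma root_pow (x : R) : (h.frobEquiv.symm x) ^ p = x := h.frobEquiv.apply_symm_apply x

lemma root_of_pow (x : R) : h.frobEquiv.symm (x ^ p) = x := h.frobEquiv.symm_apply_apply x

lemma eq_zero_of_pow_p (x : R) (hx : x ^ p = 0) : x = 0 := by
  apply h.bij.1
  show x ^ p = 0 ^ p
  rw [hx, zero_pow hp.out.ne_zero]

lemma eq_zero_of_pow_p_pow (n : ℕ) (x : R) (hx : x ^ (p ^ n) = 0) : x = 0 := by
  induction n with
  | zero => simpa using hx
  | succ n ih =>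
    apply ih
    apply h.eq_zero_of_pow_p
    rw [← pow_mul, ← pow_succ]
    exact hx

lemma eq_zero_of_pow (k : ℕ) (x : R) (hx : x ^ k = 0) : x = 0 := by
  apply h.eq_zero_of_pow_p_pow k
  have hk : k ≤ p ^ k := (Nat.lt_pow_self hp.out.one_lt).le
  obtain ⟨m, hm⟩ := Nat.exists_eq_add_of_le hk
  rw [hm, pow_add, hx, zero_mul]

/-- The sequence of iterated `p`-th roots. -/
noncomputable def rseq (f : R) (n : ℕ) : R := (h.frobEquiv.symm)^[n] f

@[simp] lemma rseq_zero (f : R) : h.rseq f 0 = f := rfl

lemma rseq_succ_pow (f : R) (n : ℕ) : (h.rseq f (n + 1)) ^ p = h.rseq f n := by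
  unfold rseq
  rw [Function.iterate_succ_apply']
  exact h.root_pow _

lemma root_rseq (f : R) (n : ℕ) : h.frobEquiv.symm (h.rseq f n) = h.rseq f (n + 1) := by
  unfold rseq
  rw [Function.iterate_succ_apply']

lemma rseq_pow (f : R) (n : ℕ) : (h.rseq f n) ^ (p ^ n) = f := by
  induction n with
  | zero => simp
  | succ n ih => rw [pow_succ', pow_mul, rseq_succ_pow, ih]

/-- Roots commute with algebra maps. -/
lemma root_algebraMap {A : Type*} [CommRing A] [Algebra A R] (hA : IsPerf p A) (a : A) :
    h.frobEquiv.symm (algebraMap A R a) = algebraMap A R (hA.frobEquiv.symm a) := by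
  rw [RingEquiv.symm_apply_eq, frobEquiv_apply, ← map_pow, hA.root_pow]

lemma root_smul {A : Type*} [CommRing A] [Algebra A R] (hA : IsPerf p A) (a : A) (x : R) :
    h.frobEquiv.symm (a • x) = hA.frobEquiv.symm a • h.frobEquiv.symm x := by
  rw [Algebra.smul_def, map_mul, h.root_algebraMap hA, Algebra.smul_def]

/-- A quotient by an ideal closed under `p`-th roots is perfect. -/
lemma quotient (J : Ideal R) (hJ : ∀ x : R, x ^ p ∈ J → x ∈ J) : IsPerf p (R ⧸ J) where
  char := by rw [← map_natCast (Ideal.Quotient.mk J), h.char, map_zero]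
  bij := by
    constructor
    · intro x y hxy
      obtain ⟨x, rfl⟩ := Ideal.Quotient.mk_surjective x
      obtain ⟨y, rfl⟩ := Ideal.Quotient.mk_surjective y
      simp only [← map_pow] at hxy
      rw [Ideal.Quotient.eq] at hxy ⊢
      apply hJ
      have : (x - y) ^ p = x ^ p - y ^ p := by
        have := map_sub (frob p R h.char) x y
        simpa using this
      rw [this]
      exact hxy
    · intro y
      obtain ⟨y, rfl⟩ := Ideal.Quotient.mk_surjective y
      refine ⟨Ideal.Quotient.mk J (h.frobEquiv.symm y), ?_⟩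
      show (Ideal.Quotient.mk J (h.frobEquiv.symm y)) ^ p = _
      rw [← map_pow, h.root_pow]

/-- The kernel of a surjection onto a perfect ring is closed under `p`-th roots. -/
lemma mem_ker_of_pow {B : Type*} [CommRing B] (hB : IsPerf p B) (π : R →+* B) (x : R)
    (hx : x ^ p ∈ RingHom.ker π) : x ∈ RingHom.ker π := by
  rw [RingHom.mem_ker] at hx ⊢
  rw [map_pow] at hx
  exact hB.eq_zero_of_pow_p _ hx

end IsPerf

/-- The monoid algebra of the multiplicative monoid of a perfect ring over a perfect ring is
perfect. -/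
theorem IsPerf.monoidAlgebra {A B : Type*} [CommRing A] [CommRing B] (hA : IsPerf p A)
    (hB : IsPerf p B) : IsPerf p (MonoidAlgebra A B) := by
  have hchar : (p : MonoidAlgebra A B) = 0 := by
    rw [← map_natCast (algebraMap A (MonoidAlgebra A B)), hA.char, map_zero]
  refine ⟨hchar, ?_⟩
  let e : MonoidAlgebra A B ≃+* MonoidAlgebra A B :=
    (MonoidAlgebra.mapRingEquiv B hA.frobEquiv).trans
      (MonoidAlgebra.mapDomainRingEquiv A hB.frobEquiv.toMulEquiv)
  have he : frob p (MonoidAlgebra A B) hchar = e.toRingHom := by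
    apply MonoidAlgebra.ringHom_ext
    · intro r
      simp [e, MonoidAlgebra.single_pow]
    · intro m
      simp [e, MonoidAlgebra.single_pow]
  have : (fun x : MonoidAlgebra A B => x ^ p) = e := by
    funext x
    have := congrArg (fun f => f x) he
    simpa using this
  rw [this]
  exact e.bijective

/-- Frobenius is injective on a tensor product of perfect rings over a perfect ring. -/
theorem IsPerf.tensor_injective {A R C : Type*} [CommRing A] [CommRing R] [CommRing C]
    [Algebra A R] [Algebra A C] (hA : IsPerf p A) (hR : IsPerf p R) (hC : IsPerf p C) :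
    Function.Injective (fun z : R ⊗[A] C => z ^ p) := by
  have hchar : (p : R ⊗[A] C) = 0 := by
    rw [← map_natCast (algebraMap A (R ⊗[A] C)), hA.char, map_zero]
  let f : R →+ C →+ R ⊗[A] C :=
    { toFun := fun r =>
        { toFun := fun c => hR.frobEquiv.symm r ⊗ₜ[A] hC.frobEquiv.symm c
          map_zero' := by simp
          map_add' := by intro c c'; simp [TensorProduct.tmul_add] }
      map_zero' := by ext c; simp
      map_add' := by intro r r'; ext c; simp [TensorProduct.add_tmul] }
  let ψ : R ⊗[A] C →+ R ⊗[A] C := TensorProduct.liftAddHom f (by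
    intro a r c
    show hR.frobEquiv.symm (a • r) ⊗ₜ[A] hC.frobEquiv.symm c =
      hR.frobEquiv.symm r ⊗ₜ[A] hC.frobEquiv.symm (a • c)
    rw [hR.root_smul hA, hC.root_smul hA, TensorProduct.smul_tmul])
  have hψ : ∀ z : R ⊗[A] C, ψ (z ^ p) = z := by
    intro z
    induction z using TensorProduct.induction_on with
    | zero => rw [zero_pow hp.out.ne_zero, map_zero]
    | tmul r c =>
      rw [Algebra.TensorProduct.tmul_pow]
      show hR.frobEquiv.symm (r ^ p) ⊗ₜ[A] hC.frobEquiv.symm (c ^ p) = _
      rw [hR.root_of_pow, hC.root_of_pow]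
    | add x y hx hy =>
      have : (x + y) ^ p = x ^ p + y ^ p := map_add (frob p (R ⊗[A] C) hchar) x y
      rw [this, map_add, hx, hy]
  intro z w hzw
  have := congrArg ψ hzw
  simpa [hψ] using this

end Groth.Agent.H7.PerfTor
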