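import Mathlib
import Groth.Agent.Lib.Helper7.PerfTor1
import Groth.Agent.Lib.Helper7.PerfTor2
import Groth.Agent.Lib.Helper2.TorBalLin
import Groth.Agent.Lib.Helper2.TorBalOne
import Groth.Agent.Lib.Helper2.TorFiltered

/-! The inductive step: killing a compatible system of `p`-power roots preserves Tor-vanishing. -/

universe u

namespace Groth.Agent.H7.PerfTor

open CategoryTheory CategoryTheory.Limits TensorProduct Groth.Agent.H2.TorBal

/-- A copy of `ℕ` in universe `u`. -/
structure UNat : Type u where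
  n : ℕ

namespace UNat

instance : Preorder UNat.{u} := Preorder.lift UNat.n

instance : Nonempty UNat.{u} := ⟨⟨0⟩⟩

instance : IsDirected UNat.{u} (· ≤ ·) :=
  ⟨fun a b => ⟨⟨max a.n b.n⟩, le_max_left a.n b.n, le_max_right a.n b.n⟩⟩

/-- The projection to `ℕ` as a functor. -/
def proj : UNat.{u} ⥤ ℕ := Monotone.functor (f := UNat.n) (fun _ _ h => h)

end UNat

section Seq

variable {A : Type u} [CommRing A] (X K : Type u) [AddCommGroup X] [Module A X]
  [AddCommGroup K] [Module A K] (g : ℕ → X →ₗ[A] X) (lam : ℕ → X →ₗ[A] K)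

/-- The sequential diagram `X → X → X → ⋯`. -/
noncomputable def seqFunctor : ℕ ⥤ ModuleCat.{u} A :=
  Functor.ofSequence (X := fun _ => ModuleCat.of A X) (fun n => ModuleCat.ofHom (g n))

/-- The cocone with vertex `K`. -/
noncomputable def seqCocone (hcomp : ∀ n, (lam (n + 1)).comp (g n) = lam n) :
    Cocone (seqFunctor X g) where
  pt := ModuleCat.of A K
  ι := NatTrans.ofSequence (F := seqFunctor X g) (G := (Functor.const ℕ).obj (ModuleCat.of A K))
    (fun n => ModuleCat.ofHom (lam n)) (by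
    intro n
    dsimp only [seqFunctor]
    rw [Functor.ofSequence_map_homOfLE_succ]
    simp only [Functor.const_obj_obj, Functor.const_obj_map, Category.comp_id]
    ext x
    exact LinearMap.congr_fun (hcomp n) x)

theorem isZero_of_sequential (hcomp : ∀ n, (lam (n + 1)).comp (g n) = lam n)
    (hsurj : ∀ k : K, ∃ n x, lam n x = k) (hker : ∀ n x, lam n x = 0 → g n x = 0)
    (T : ModuleCat.{u} A ⥤ ModuleCat.{u} A) [PreservesColimitsOfShape UNat.{u} T]
    (h : IsZero (T.obj (ModuleCat.of A X))) : IsZero (T.obj (ModuleCat.of A K)) := by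
  let c := (seqCocone X K g lam hcomp).whisker UNat.proj.{u}
  have hc : IsColimit c := by
    refine isColimitOfElementwise _ c ?_ ?_
    · intro x
      obtain ⟨n, y, hy⟩ := hsurj x
      exact ⟨⟨n⟩, y, hy⟩
    · intro j y hy
      have hle : j ≤ (⟨j.n + 1⟩ : UNat.{u}) := Nat.le_succ j.n
      refine ⟨⟨j.n + 1⟩, homOfLE hle, ?_⟩
      have h1 : (UNat.proj.{u} ⋙ seqFunctor X g).map (homOfLE hle) =
          ModuleCat.ofHom (g j.n) := by
        show (seqFunctor X g).map (UNat.proj.map (homOfLE hle)) = _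
        rw [Subsingleton.elim (UNat.proj.map (homOfLE hle)) (homOfLE (Nat.le_add_right j.n 1))]
        exact Functor.ofSequence_map_homOfLE_succ _ _
      rw [h1]
      exact hker j.n y hy
  exact isZero_of_isColimit _ c hc T (fun j => h)

end Seq

section Step

variable {p : ℕ} [hp : Fact p.Prime]

lemma pow_pred_mul_eq_zero {R' : Type*} [CommRing R'] (hred : ∀ x : R', x ^ p = 0 → x = 0)
    (s t x : R') (hts : t ^ p = s) (hx : s * x = 0) : t ^ (p - 1) * x = 0 := by
  apply hred
  have h2 : 2 ≤ p := hp.out.two_le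
  have e1 : s ^ (p - 1) = s * s ^ (p - 2) := by
    rw [← pow_succ']
    congr 1
    omega
  have e2 : x ^ p = x * x ^ (p - 1) := by
    rw [← pow_succ']
    congr 1
    omega
  calc (t ^ (p - 1) * x) ^ p = (t ^ p) ^ (p - 1) * x ^ p := by
        rw [mul_pow, ← pow_mul, ← pow_mul, Nat.mul_comm (p - 1) p]
    _ = s ^ (p - 1) * x ^ p := by rw [hts]
    _ = (s * x) * (s ^ (p - 2) * x ^ (p - 1)) := by rw [e1, e2]; ring
    _ = 0 := by rw [hx, zero_mul]

lemma rTensor_mulLeft {A : Type*} [CommRing A] {R C : Type*} [CommRing R] [CommRing C]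
    [Algebra A R] [Algebra A C] (a : R) (w : R ⊗[A] C) :
    (LinearMap.mulLeft A a).rTensor C w = (a ⊗ₜ[A] (1 : C)) * w := by
  induction w using TensorProduct.induction_on with
  | zero => simp
  | tmul x c => simp [Algebra.TensorProduct.tmul_mul_tmul]
  | add x y hx hy => rw [map_add, hx, hy, mul_add]

variable {A : Type u} [CommRing A] {R C : Type u} [CommRing R] [CommRing C]
  [Algebra A R] [Algebra A C]

theorem step (hA : IsPerf p A) (hR : IsPerf p R) (hC : IsPerf p C) (r : ℕ → R)
    (hr : ∀ n, r (n + 1) ^ p = r n)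
    (hT : ∀ i, IsZero (torObj (i + 1) (ModuleCat.of A R) (ModuleCat.of A C))) (i : ℕ) :
    IsZero (torObj (i + 1) (ModuleCat.of A (R ⧸ Ideal.span (Set.range r)))
      (ModuleCat.of A C)) := by
  let J : Ideal R := Ideal.span (Set.range r)
  let JA : Submodule A R := J.restrictScalars A
  have hrJ : ∀ n x, r n * x ∈ JA := fun n x => J.mul_mem_right x (Ideal.subset_span ⟨n, rfl⟩)
  let lam : ℕ → R →ₗ[A] JA := fun n => (LinearMap.mulLeft A (r n)).codRestrict JA (hrJ n)
  let g : ℕ → R →ₗ[A] R := fun n => LinearMap.mulLeft A (r (n + 1) ^ (p - 1))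
  have hpp : p - 1 + 1 = p := Nat.sub_add_cancel hp.out.one_le
  have hrr : ∀ n, r (n + 1) * r (n + 1) ^ (p - 1) = r n := by
    intro n
    rw [← pow_succ', hpp, hr]
  have hcomp : ∀ n, (lam (n + 1)).comp (g n) = lam n := by
    intro n
    ext x
    show r (n + 1) * (r (n + 1) ^ (p - 1) * x) = r n * x
    rw [← mul_assoc, hrr]
  have hmul : ∀ n k, ∃ c, r n = r (n + k) * c := by
    intro n k
    induction k with
    | zero => exact ⟨1, by simp⟩
    | succ k ih =>
      obtain ⟨c, hc⟩ := ih
      refine ⟨r (n + k + 1) ^ (p - 1) * c, ?_⟩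
      rw [← mul_assoc]
      show r n = r (n + k + 1) * r (n + k + 1) ^ (p - 1) * c
      rw [hrr, ← hc]
  have hmem : ∀ x ∈ J, ∃ n y, r n * y = x := by
    intro x hx
    induction hx using Submodule.span_induction with
    | mem x hx =>
      obtain ⟨n, rfl⟩ := hx
      exact ⟨n, 1, mul_one _⟩
    | zero => exact ⟨0, 0, mul_zero _⟩
    | add x y _ _ hx hy =>
      obtain ⟨n, a, rfl⟩ := hx
      obtain ⟨m, b, rfl⟩ := hy
      obtain ⟨c, hc⟩ := hmul n m
      obtain ⟨d, hd⟩ := hmul m n
      rw [add_comm m n] at hd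
      refine ⟨n + m, c * a + d * b, ?_⟩
      rw [mul_add, ← mul_assoc, ← mul_assoc, ← hc, ← hd]
    | smul a x _ hx =>
      obtain ⟨n, y, rfl⟩ := hx
      exact ⟨n, a * y, by rw [smul_eq_mul]; ring⟩
  have hsurj : ∀ k : JA, ∃ n x, lam n x = k := by
    rintro ⟨k, hk⟩
    obtain ⟨n, y, hy⟩ := hmem k hk
    exact ⟨n, y, Subtype.ext hy⟩
  have hker : ∀ n x, lam n x = 0 → g n x = 0 := by
    intro n x hx
    have h0 : r n * x = 0 := congrArg Subtype.val hx
    exact pow_pred_mul_eq_zero hR.eq_zero_of_pow_p (r n) (r (n + 1)) x (hr n) h0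
  have hK : ∀ i, IsZero (torObj (i + 1) (ModuleCat.of A JA) (ModuleCat.of A C)) := by
    intro i
    haveI := preservesColimitsOfShape_tor_flip (ModuleCat.of A C) (i + 1) UNat.{u}
    exact isZero_of_sequential R JA g lam hcomp hsurj hker
      ((Tor (ModuleCat.{u} A) (i + 1)).flip.obj (ModuleCat.of A C)) (hT i)
  let f : JA →ₗ[A] R := JA.subtype
  let gq : R →ₗ[A] R ⧸ J := (Ideal.Quotient.mkₐ A J).toLinearMap
  have hexact : Function.Exact f gq := by
    intro y
    constructor
    · intro hy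
      have : y ∈ J := Ideal.Quotient.eq_zero_iff_mem.1 hy
      exact ⟨⟨y, this⟩, rfl⟩
    · rintro ⟨⟨z, hz⟩, rfl⟩
      exact Ideal.Quotient.eq_zero_iff_mem.2 hz
  have hS := scOfLinearMaps_shortExact f gq Subtype.val_injective hexact
    Ideal.Quotient.mk_surjective
  cases i with
  | succ i =>
    exact isZero_tor_X₃_left (scOfLinearMaps f gq hexact) hS (ModuleCat.of A C) (i + 1)
      (hT (i + 1)) (hK i)
  | zero =>
    obtain ⟨e⟩ := nonempty_tor_one_linearEquiv_ker (scOfLinearMaps f gq hexact) hS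
      (ModuleCat.of A C) (hT 0)
    have hshift : ∀ n k (w : R ⊗[A] C), ∃ w', (lam (n + k)).rTensor C w' = (lam n).rTensor C w := by
      intro n k
      induction k with
      | zero => exact fun w => ⟨w, rfl⟩
      | succ k ih =>
        intro w
        obtain ⟨w', hw'⟩ := ih w
        refine ⟨(g (n + k)).rTensor C w', ?_⟩
        rw [← hw', ← hcomp (n + k), LinearMap.rTensor_comp_apply]
        rfl
    have hrep : ∀ z : JA ⊗[A] C, ∃ n w, (lam n).rTensor C w = z := by
      intro z
      induction z using TensorProduct.induction_on with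
      | zero => exact ⟨0, 0, map_zero _⟩
      | tmul j c =>
        obtain ⟨n, y, hy⟩ := hsurj j
        exact ⟨n, y ⊗ₜ c, by rw [LinearMap.rTensor_tmul, hy]⟩
      | add x y hx hy =>
        obtain ⟨n, w, rfl⟩ := hx
        obtain ⟨m, w', rfl⟩ := hy
        obtain ⟨v, hv⟩ := hshift n m w
        obtain ⟨v', hv'⟩ := hshift m n w'
        rw [add_comm m n] at hv'
        exact ⟨n + m, v + v', by rw [map_add, hv, hv']⟩
    have hredT : ∀ x : R ⊗[A] C, x ^ p = 0 → x = 0 := by
      intro x hx
      apply IsPerf.tensor_injective hA hR hC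
      show x ^ p = 0 ^ p
      rw [hx, zero_pow hp.out.ne_zero]
    have hinj : Function.Injective (LinearMap.rTensor C f) := by
      rw [injective_iff_map_eq_zero]
      intro z hz
      obtain ⟨n, w, rfl⟩ := hrep z
      have h1 : (LinearMap.mulLeft A (r n)).rTensor C w = 0 := by
        rw [← hz, ← LinearMap.rTensor_comp_apply]
        rfl
      rw [rTensor_mulLeft] at h1
      have h2 := pow_pred_mul_eq_zero hredT (r n ⊗ₜ[A] (1 : C)) (r (n + 1) ⊗ₜ[A] (1 : C)) w
        (by rw [Algebra.TensorProduct.tmul_pow, one_pow, hr]) h1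
      rw [Algebra.TensorProduct.tmul_pow, one_pow, ← rTensor_mulLeft] at h2
      rw [← hcomp n, LinearMap.rTensor_comp_apply]
      show (lam (n + 1)).rTensor C ((g n).rTensor C w) = 0
      show (lam (n + 1)).rTensor C ((LinearMap.mulLeft A (r (n + 1) ^ (p - 1))).rTensor C w) = 0
      rw [h2, map_zero]
    have hker0 : LinearMap.ker (LinearMap.rTensor (ModuleCat.of A C)
        (scOfLinearMaps f gq hexact).f.hom) = ⊥ := LinearMap.ker_eq_bot.2 hinj
    rw [hker0] at e
    refine @ModuleCat.isZero_of_subsingleton _ _ _ ?_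
    exact e.toEquiv.subsingleton

end Step

end Groth.Agent.H7.PerfTor
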