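import Mathlib
import Groth.Agent.Lib.Helper7.PerfTor3
import Groth.Agent.Lib.Helper2.TorBalApps

/-! Tor-independence of perfect rings of characteristic `p`. -/

universe u

namespace Groth.Agent.H7.PerfTor

open CategoryTheory CategoryTheory.Limits TensorProduct Groth.Agent.H2.TorBal

variable {p : ℕ} [hp : Fact p.Prime]

lemma isZero_tor_of_linearEquiv {A : Type u} [CommRing A] {M N : Type u} [AddCommGroup M]
    [Module A M] [AddCommGroup N] [Module A N] (e : M ≃ₗ[A] N) (C : ModuleCat.{u} A) (i : ℕ)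
    (h : IsZero (torObj i (ModuleCat.of A M) C)) : IsZero (torObj i (ModuleCat.of A N) C) :=
  h.of_iso (((Tor (ModuleCat.{u} A) i).mapIso e.toModuleIso).app C).symm

section Ideals

variable {P : Type u} [CommRing P] (hP : IsPerf p P) (I : Ideal P)

/-- The ideal generated by all `p`-power roots of finitely many elements of `I`. -/
noncomputable def Jd (S : Finset I) : Ideal P :=
  ⨆ f ∈ S, Ideal.span (Set.range (hP.rseq (f : P)))

lemma rseq_mem_Jd (S : Finset I) (f : I) (hf : f ∈ S) (n : ℕ) : hP.rseq (f : P) n ∈ Jd hP I S :=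
  (le_iSup₂ (f := fun (f : I) (_ : f ∈ S) => Ideal.span (Set.range (hP.rseq (f : P)))) f hf)
    (Ideal.subset_span ⟨n, rfl⟩)

lemma Jd_mono {S S' : Finset I} (h : S ≤ S') : Jd hP I S ≤ Jd hP I S' :=
  biSup_mono (fun _ hf => h hf)

lemma Jd_le (hI : ∀ x : P, x ^ p ∈ I → x ∈ I) (S : Finset I) : Jd hP I S ≤ I := by
  have hI' : ∀ (n : ℕ) (x : P), x ^ (p ^ n) ∈ I → x ∈ I := by
    intro n
    induction n with
    | zero => intro x hx; simpa using hx
    | succ n ih =>
      intro x hx
      apply ih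
      apply hI
      rw [← pow_mul, ← pow_succ]
      exact hx
  refine iSup₂_le fun f _ => ?_
  rw [Ideal.span_le]
  rintro _ ⟨n, rfl⟩
  apply hI' n
  rw [hP.rseq_pow]
  exact f.2

lemma Jd_perf (S : Finset I) (x : P) (hx : x ^ p ∈ Jd hP I S) : x ∈ Jd hP I S := by
  have hle : Jd hP I S ≤ (Jd hP I S).comap hP.frobEquiv.symm.toRingHom := by
    refine iSup₂_le fun f hf => ?_
    rw [Ideal.span_le]
    rintro _ ⟨n, rfl⟩
    show hP.frobEquiv.symm (hP.rseq (f : P) n) ∈ Jd hP I S
    rw [hP.root_rseq]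
    exact rseq_mem_Jd hP I S f hf (n + 1)
  have := hle hx
  rw [Ideal.mem_comap] at this
  have h2 : hP.frobEquiv.symm.toRingHom (x ^ p) = x := hP.root_of_pow x
  rwa [h2] at this

lemma mem_Jd_singleton (x : P) (hx : x ∈ I) : x ∈ Jd hP I {⟨x, hx⟩} := by
  have h := rseq_mem_Jd hP I {⟨x, hx⟩} ⟨x, hx⟩ (Finset.mem_singleton_self _) 0
  rw [hP.rseq_zero] at h
  exact h

lemma Jd_empty : Jd hP I ∅ = ⊥ := by
  simp [Jd]

lemma Jd_insert [DecidableEq I] (f : I) (S : Finset I) :
    Jd hP I (insert f S) = Jd hP I S ⊔ Ideal.span (Set.range (hP.rseq (f : P))) := by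
  unfold Jd
  rw [Finset.iSup_insert, sup_comm]

end Ideals

section Main

variable {A : Type u} [CommRing A] {P C : Type u} [CommRing P] [CommRing C]
  [Algebra A P] [Algebra A C]

theorem isZero_tor_quot_Jd (hA : IsPerf p A) (hP : IsPerf p P) (hC : IsPerf p C)
    [Module.Flat A P] (I : Ideal P) (S : Finset I) :
    ∀ i, IsZero (torObj (i + 1) (ModuleCat.of A (P ⧸ Jd hP I S)) (ModuleCat.of A C)) := by
  classical
  induction S using Finset.induction_on with
  | empty =>
    intro i
    let e : (P ⧸ Jd hP I ∅) ≃ₗ[A] P :=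
      ((Ideal.quotientEquivAlgOfEq A (Jd_empty hP I)).trans (AlgEquiv.quotientBot A P)).toLinearEquiv
    haveI : Module.Flat A (P ⧸ Jd hP I ∅) := Module.Flat.of_linearEquiv e
    exact isZero_tor_succ_of_flat_left (ModuleCat.of A (P ⧸ Jd hP I ∅)) (ModuleCat.of A C) i
  | insert f S hfS ih =>
    have hR : IsPerf p (P ⧸ Jd hP I S) := hP.quotient (Jd hP I S) (Jd_perf hP I S)
    let r : ℕ → P ⧸ Jd hP I S := fun n => Ideal.Quotient.mk (Jd hP I S) (hP.rseq (f : P) n)
    have hr : ∀ n, r (n + 1) ^ p = r n := by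
      intro n
      show (Ideal.Quotient.mk (Jd hP I S) (hP.rseq (f : P) (n + 1))) ^ p = _
      rw [← map_pow, hP.rseq_succ_pow]
    have hstep := step hA hR hC r hr ih
    have hmap : (Ideal.span (Set.range (hP.rseq (f : P)))).map (Ideal.Quotient.mkₐ A (Jd hP I S)) =
        Ideal.span (Set.range r) := by
      rw [Ideal.map_span, ← Set.range_comp]
      rfl
    let e1 := Ideal.quotientEquivAlgOfEq A hmap.symm
    let e2 := DoubleQuot.quotQuotEquivQuotSupₐ A (Jd hP I S)
      (Ideal.span (Set.range (hP.rseq (f : P))))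
    let e3 := Ideal.quotientEquivAlgOfEq A (Jd_insert hP I f S).symm
    intro i
    exact isZero_tor_of_linearEquiv ((e1.trans e2).trans e3).toLinearEquiv _ _ (hstep i)

end Main

end Groth.Agent.H7.PerfTor

namespace Groth.Agent.H7.PerfTor

open CategoryTheory CategoryTheory.Limits TensorProduct Groth.Agent.H2.TorBal

variable {p : ℕ} [hp : Fact p.Prime]

section Final

variable {A : Type u} [CommRing A] {P : Type u} [CommRing P] [Algebra A P]
  (hP : IsPerf p P) (I : Ideal P)

omit hp in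
lemma factor_comp_factor {J₁ J₂ J₃ : Ideal P} (h12 : J₁ ≤ J₂) (h23 : J₂ ≤ J₃) :
    (Ideal.Quotient.factorₐ A h23).toLinearMap ∘ₗ (Ideal.Quotient.factorₐ A h12).toLinearMap =
      (Ideal.Quotient.factorₐ A (h12.trans h23)).toLinearMap := by
  apply LinearMap.ext
  intro x
  obtain ⟨x, rfl⟩ := Ideal.Quotient.mk_surjective x
  rfl

omit hp in
lemma factor_self (J₁ : Ideal P) :
    (Ideal.Quotient.factorₐ A (le_refl J₁)).toLinearMap = LinearMap.id := by
  apply LinearMap.ext
  intro x
  obtain ⟨x, rfl⟩ := Ideal.Quotient.mk_surjective x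
  rfl

/-- The diagram of quotients `P ⧸ Jd S`. -/
noncomputable def quotFunctor : Finset I ⥤ ModuleCat.{u} A where
  obj S := ModuleCat.of A (P ⧸ Jd hP I S)
  map φ := ModuleCat.ofHom (Ideal.Quotient.factorₐ A (Jd_mono hP I (leOfHom φ))).toLinearMap
  map_id S := by
    apply ModuleCat.hom_ext
    rw [ModuleCat.hom_ofHom, ModuleCat.hom_id]
    exact factor_self _
  map_comp φ ψ := by
    apply ModuleCat.hom_ext
    rw [ModuleCat.hom_comp, ModuleCat.hom_ofHom, ModuleCat.hom_ofHom, ModuleCat.hom_ofHom]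
    exact (factor_comp_factor _ _).symm

/-- The cocone with vertex `P ⧸ I`. -/
noncomputable def quotCocone (hI : ∀ x : P, x ^ p ∈ I → x ∈ I) :
    Cocone (quotFunctor (A := A) hP I) where
  pt := ModuleCat.of A (P ⧸ I)
  ι :=
    { app := fun S => ModuleCat.ofHom (Ideal.Quotient.factorₐ A (Jd_le hP I hI S)).toLinearMap
      naturality := by
        intro S S' φ
        apply ModuleCat.hom_ext
        simp only [Functor.const_obj_obj, Functor.const_obj_map, Category.comp_id]
        show ((ModuleCat.ofHom (Ideal.Quotient.factorₐ A (Jd_mono hP I (leOfHom φ))).toLinearMap) ≫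
          ModuleCat.ofHom (Ideal.Quotient.factorₐ A (Jd_le hP I hI S')).toLinearMap).hom = _
        rw [ModuleCat.hom_comp, ModuleCat.hom_ofHom, ModuleCat.hom_ofHom]
        exact factor_comp_factor _ _ }

/-- `P ⧸ I` is the filtered colimit of the `P ⧸ Jd S`. -/
noncomputable def quotIsColimit (hI : ∀ x : P, x ^ p ∈ I → x ∈ I) :
    IsColimit (quotCocone (A := A) hP I hI) := by
  classical
  refine isColimitOfElementwise _ _ ?_ ?_
  · intro x
    obtain ⟨y, rfl⟩ := Ideal.Quotient.mk_surjective x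
    exact ⟨∅, Ideal.Quotient.mk _ y, rfl⟩
  · intro S y hy
    obtain ⟨z, rfl⟩ := Ideal.Quotient.mk_surjective y
    have hz : z ∈ I := Ideal.Quotient.eq_zero_iff_mem.1 hy
    have hle : S ≤ S ∪ {⟨z, hz⟩} := Finset.subset_union_left
    refine ⟨S ∪ {⟨z, hz⟩}, homOfLE hle, ?_⟩
    show Ideal.Quotient.mk (Jd hP I (S ∪ {⟨z, hz⟩})) z = 0
    rw [Ideal.Quotient.eq_zero_iff_mem]
    exact Jd_mono hP I (show ({⟨z, hz⟩} : Finset I) ≤ S ∪ {⟨z, hz⟩} from
      Finset.subset_union_right) (mem_Jd_singleton hP I z hz)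

end Final

/-- **Tor-independence of perfect rings.** -/
theorem isZero_tor_of_isPerf {A B C : Type u} [CommRing A] [CommRing B] [CommRing C]
    [Algebra A B] [Algebra A C] (hA : IsPerf p A) (hB : IsPerf p B) (hC : IsPerf p C) (i : ℕ) :
    IsZero (torObj (i + 1) (ModuleCat.of A B) (ModuleCat.of A C)) := by
  have hP : IsPerf p (MonoidAlgebra A B) := IsPerf.monoidAlgebra hA hB
  let π : MonoidAlgebra A B →ₐ[A] B := MonoidAlgebra.lift A B B (MonoidHom.id B)
  have hπ : Function.Surjective π := fun b => ⟨MonoidAlgebra.single b 1, by simp [π]⟩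
  have hI : ∀ x : MonoidAlgebra A B, x ^ p ∈ RingHom.ker π → x ∈ RingHom.ker π := by
    intro x hx
    rw [RingHom.mem_ker] at hx ⊢
    rw [map_pow] at hx
    exact hB.eq_zero_of_pow_p _ hx
  have h1 : IsZero (torObj (i + 1) (ModuleCat.of A (MonoidAlgebra A B ⧸ RingHom.ker π))
      (ModuleCat.of A C)) := by
    haveI := preservesColimitsOfShape_tor_flip (ModuleCat.of A C) (i + 1)
      (Finset (RingHom.ker π))
    exact isZero_of_isColimit (quotFunctor (A := A) hP (RingHom.ker π))
      (quotCocone hP (RingHom.ker π) hI) (quotIsColimit hP (RingHom.ker π) hI)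
      ((Tor (ModuleCat.{u} A) (i + 1)).flip.obj (ModuleCat.of A C))
      (fun S => isZero_tor_quot_Jd hA hP hC (RingHom.ker π) S i)
  exact isZero_tor_of_linearEquiv (Ideal.quotientKerAlgEquivOfSurjective hπ).toLinearEquiv _ _ h1

end Groth.Agent.H7.PerfTor
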