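import Mathlib

namespace Groth.Agent.H7.PermConj

theorem main
    (n k : ℕ) (a : Fin k → Finset (Fin n)) (R : Set (Fin n))
    (τ : Equiv.Perm (Fin n)) (hτ : ∀ j : Fin n, τ j ∈ R ↔ j ∈ R)
    (τ' : Equiv.Perm (Fin k))
    (h1 : ∀ (i : Fin k) (j : Fin n), a i = {j} → a (τ' i) = {τ j})
    (h2 : ∀ i : Fin k, (∀ j : Fin n, a i ≠ {j}) → τ' i = i)
    (g : Equiv.Perm (Fin k))
    (hg1 : ∀ (i : Fin k) (r : Fin n), r ∈ R → a i = {r} → a (g i) = {r})
    (hg2 : ∀ i : Fin k, (∀ r : Fin n, r ∈ R → a i ≠ {r}) → g i = i) :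
    (∀ (i : Fin k) (r : Fin n), r ∈ R → a i = {r} → a ((τ' * g * τ'⁻¹) i) = {r}) ∧
      (∀ i : Fin k, (∀ r : Fin n, r ∈ R → a i ≠ {r}) → (τ' * g * τ'⁻¹) i = i) := by
  constructor
  · intro i r hr hi
    rw [Equiv.Perm.mul_apply, Equiv.Perm.mul_apply]
    set i' := τ'⁻¹ i with hi'
    have hti : τ' i' = i := by rw [hi']; simp
    by_cases hs : ∃ j, a i' = {j}
    · obtain ⟨j, hj⟩ := hs
      have e1 := h1 i' j hj
      rw [hti, hi] at e1
      have e2 : τ j = r := (Finset.singleton_injective e1).symm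
      have hjR : j ∈ R := (hτ j).mp (by rw [e2]; exact hr)
      have e3 := hg1 i' j hjR hj
      have e4 := h1 (g i') j e3
      rw [e4, e2]
    · push Not at hs
      have := h2 i' hs
      rw [hti] at this
      exact absurd (this ▸ hi) (hs r)
  · intro i hi
    rw [Equiv.Perm.mul_apply, Equiv.Perm.mul_apply]
    set i' := τ'⁻¹ i with hi'
    have hti : τ' i' = i := by rw [hi']; simp
    have hgi : g i' = i' := by
      apply hg2
      intro r hr hcon
      have e1 := h1 i' r hcon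
      rw [hti] at e1
      exact hi (τ r) ((hτ r).mpr hr) e1
    rw [hgi, hti]

end Groth.Agent.H7.PermConj
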