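import Mathlib
open Polynomial
namespace Groth.Agent.H7.PolySys

variable (k : Type*) [Field k]

lemma finrank_degreeLT (n : ℕ) : Module.finrank k ↥(degreeLT k n) = n := by
  rw [(degreeLTEquiv k n).finrank_eq, Module.finrank_fin_fun]

instance (n : ℕ) : FiniteDimensional k ↥(degreeLT k n) :=
  Module.Finite.equiv (degreeLTEquiv k n).symm

/-- multiples of `Q` of degree at most `deg Q + m` form a space of dimension at most `m+1`. -/
lemma finrank_span_inf_degreeLE_le (Q : k[X]) (hQ : Q ≠ 0) (m n : ℕ) (hn : n = Q.natDegree + m) :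
    FiniteDimensional k ↥((Ideal.span {Q}).restrictScalars k ⊓ degreeLE k (n : WithBot ℕ)) ∧
    Module.finrank k ↥((Ideal.span {Q}).restrictScalars k ⊓ degreeLE k (n : WithBot ℕ)) ≤ m + 1 := by
  set M : Submodule k k[X] := (degreeLT k (m + 1)).map (LinearMap.mulLeft k Q) with hM
  haveI : FiniteDimensional k ↥M := by rw [hM]; infer_instance
  have hle : (Ideal.span {Q}).restrictScalars k ⊓ degreeLE k (n : WithBot ℕ) ≤ M := by
    rintro G ⟨hG1, hG2⟩
    rw [SetLike.mem_coe, Submodule.restrictScalars_mem, Ideal.mem_span_singleton] at hG1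
    obtain ⟨H, rfl⟩ := hG1
    rw [SetLike.mem_coe, mem_degreeLE] at hG2
    refine ⟨H, ?_, rfl⟩
    rw [SetLike.mem_coe, mem_degreeLT]
    by_cases hH : H = 0
    · rw [hH, degree_zero]; exact WithBot.bot_lt_coe _
    · rw [degree_mul, degree_eq_natDegree hQ, degree_eq_natDegree hH, hn] at hG2
      rw [degree_eq_natDegree hH]
      have : Q.natDegree + H.natDegree ≤ Q.natDegree + m := by exact_mod_cast hG2
      have : H.natDegree < m + 1 := by omega
      exact_mod_cast this
  refine ⟨Submodule.finiteDimensional_of_le hle, ?_⟩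
  calc Module.finrank k ↥((Ideal.span {Q}).restrictScalars k ⊓ degreeLE k (n : WithBot ℕ))
      ≤ Module.finrank k ↥M := Submodule.finrank_mono hle
    _ ≤ Module.finrank k ↥(degreeLT k (m + 1)) := Submodule.finrank_map_le _ _
    _ = m + 1 := finrank_degreeLT k _

/-- members of `V` take the same value at `0` and `-1` and have degree at most `a+1`. -/
lemma V_le (a : ℕ) :
    Submodule.span k {(1 : k[X])} ⊔
      ((Ideal.span {(X : k[X]) * (X + 1)}).restrictScalars k ⊓ degreeLE k ((a + 1 : ℕ) : WithBot ℕ)) ≤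
    degreeLE k ((a + 1 : ℕ) : WithBot ℕ) ⊓ LinearMap.ker (leval (0 : k) - leval (-1 : k)) := by
  apply sup_le
  · rw [Submodule.span_singleton_le_iff_mem]
    refine ⟨?_, ?_⟩
    · rw [SetLike.mem_coe, mem_degreeLE, degree_one]; exact_mod_cast Nat.zero_le _
    · simp [leval]
  · rintro G ⟨hG1, hG2⟩
    refine ⟨hG2, ?_⟩
    rw [SetLike.mem_coe, Submodule.restrictScalars_mem, Ideal.mem_span_singleton] at hG1
    obtain ⟨H, rfl⟩ := hG1
    simp [leval]

theorem main [CharZero k] (a : ℕ) (ha : 0 < a)
    (V : Submodule k (Polynomial k))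
    (hV : V = Submodule.span k {(1 : Polynomial k)} ⊔
      ((Ideal.span {(X : Polynomial k) * (X + 1)}).restrictScalars k ⊓ Polynomial.degreeLE k ↑(a + 1))) :
    (∀ p : k, Module.finrank k ↥(V ⊓ (Ideal.span {(X - C p) ^ a}).restrictScalars k) ≤ 1) ∧
      Module.finrank k ↥(V ⊓ Polynomial.degreeLT k 2) ≤ 1 := by
  have hVle := V_le k a
  rw [← hV] at hVle
  have hVmem : ∀ G ∈ V, G.degree ≤ ((a + 1 : ℕ) : WithBot ℕ) ∧ G.eval 0 = G.eval (-1) := by
    intro G hG
    obtain ⟨h1, h2⟩ := hVle hG
    refine ⟨mem_degreeLE.mp h1, ?_⟩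
    have : (leval (0 : k) - leval (-1 : k)) G = 0 := h2
    simpa [leval, sub_eq_zero] using this
  constructor
  · intro p
    have hQ : ((X - C p) ^ a : k[X]) ≠ 0 := pow_ne_zero _ (X_sub_C_ne_zero p)
    have hdeg : ((X - C p) ^ a : k[X]).natDegree = a := by
      rw [natDegree_pow, natDegree_X_sub_C, mul_one]
    obtain ⟨hfd, hfr⟩ := finrank_span_inf_degreeLE_le k _ hQ 1 (a + 1) (by rw [hdeg])
    set P' := (Ideal.span {(X - C p) ^ a}).restrictScalars k ⊓ degreeLE k ((a + 1 : ℕ) : WithBot ℕ)
    have hle : V ⊓ (Ideal.span {(X - C p) ^ a}).restrictScalars k ≤ P' := by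
      rintro G ⟨hG1, hG2⟩
      exact ⟨hG2, mem_degreeLE.mpr (hVmem G hG1).1⟩
    -- witness
    obtain ⟨G₀, hG₀P, hG₀V⟩ : ∃ G₀ : k[X], G₀ ∈ P' ∧ G₀ ∉ V := by
      by_cases hp : p = -1
      · refine ⟨(X - C p) ^ a * (X + 1), ⟨?_, ?_⟩, ?_⟩
        · rw [SetLike.mem_coe, Submodule.restrictScalars_mem, Ideal.mem_span_singleton]
          exact dvd_mul_right _ _
        · rw [SetLike.mem_coe, mem_degreeLE]
          refine (degree_mul_le _ _).trans ?_
          rw [degree_pow, degree_X_sub_C, nsmul_one]
          have : ((X : k[X]) + 1).degree = 1 := degree_X_add_C 1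
          rw [show ((X : k[X]) + 1) = X + C 1 by simp, degree_X_add_C]
          push_cast; rfl
        · intro hmem
          have := (hVmem _ hmem).2
          rw [hp] at this
          simp [ha.ne'] at this
      · refine ⟨(X - C p) ^ a * X, ⟨?_, ?_⟩, ?_⟩
        · rw [SetLike.mem_coe, Submodule.restrictScalars_mem, Ideal.mem_span_singleton]
          exact dvd_mul_right _ _
        · rw [SetLike.mem_coe, mem_degreeLE]
          refine (degree_mul_le _ _).trans ?_
          rw [degree_pow, degree_X_sub_C, nsmul_one, degree_X]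
          push_cast; rfl
        · intro hmem
          have := (hVmem _ hmem).2
          simp at this
          have h2 : -1 - p = 0 := this.1
          apply hp
          linear_combination -h2
    have hlt : V ⊓ (Ideal.span {(X - C p) ^ a}).restrictScalars k < P' := by
      refine lt_of_le_of_ne hle ?_
      intro heq
      rw [← heq] at hG₀P
      exact hG₀V hG₀P.1
    have := Submodule.finrank_lt_finrank_of_lt hlt
    omega
  · have hlt : V ⊓ degreeLT k 2 < degreeLT k 2 := by
      refine lt_of_le_of_ne inf_le_right ?_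
      intro heq
      have hX : (X : k[X]) ∈ degreeLT k 2 := by
        rw [mem_degreeLT, degree_X]; norm_num
      rw [← heq] at hX
      have := (hVmem _ hX.1).2
      simp at this
    have := Submodule.finrank_lt_finrank_of_lt hlt
    rw [finrank_degreeLT] at this
    omega

end Groth.Agent.H7.PolySys
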