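import Mathlib
import Groth.Agent.Lib.Helper7.PolySys
open Polynomial
namespace Groth.Agent.H7.PolySys

variable (k : Type*) [Field k]

lemma map_le_span_inf_degreeLE (Q : k[X]) (hQ : Q ≠ 0) (m n : ℕ) (hn : n = Q.natDegree + m) :
    (degreeLT k (m + 1)).map (LinearMap.mulLeft k Q) ≤
      (Ideal.span {Q}).restrictScalars k ⊓ degreeLE k (n : WithBot ℕ) := by
  rintro _ ⟨H, hH, rfl⟩
  rw [SetLike.mem_coe, mem_degreeLT] at hH
  refine ⟨?_, ?_⟩
  · rw [SetLike.mem_coe, Submodule.restrictScalars_mem, Ideal.mem_span_singleton]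
    exact dvd_mul_right _ _
  · rw [SetLike.mem_coe, mem_degreeLE]
    show (Q * H).degree ≤ _
    by_cases hH0 : H = 0
    · rw [hH0, mul_zero, degree_zero]; exact bot_le
    · rw [degree_mul, degree_eq_natDegree hQ, degree_eq_natDegree hH0, hn]
      rw [degree_eq_natDegree hH0] at hH
      have : H.natDegree < m + 1 := by exact_mod_cast hH
      have : Q.natDegree + H.natDegree ≤ Q.natDegree + m := by omega
      exact_mod_cast this

lemma finrank_map_mulLeft (Q : k[X]) (hQ : Q ≠ 0) (m : ℕ) :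
    Module.finrank k ↥((degreeLT k (m + 1)).map (LinearMap.mulLeft k Q)) = m + 1 := by
  have hinj : Function.Injective (LinearMap.mulLeft k Q) := by
    intro x y hxy
    exact mul_left_cancel₀ hQ hxy
  rw [← (Submodule.equivMapOfInjective _ hinj (degreeLT k (m + 1))).finrank_eq, finrank_degreeLT]

theorem main2 [CharZero k] (a i j : ℕ) (hi : 0 < i) (hj : 0 < j) (hij : i + j + 1 = a)
    (V : Submodule k (Polynomial k))
    (hV : V = Submodule.span k {(1 : Polynomial k)} ⊔
      ((Ideal.span {(X : Polynomial k) * (X + 1)}).restrictScalars k ⊓ Polynomial.degreeLE k ↑(a + 1)))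
    (p q : k) :
    3 ≤ Module.finrank k ↥(V ⊓ (Ideal.span {(X - C p) ^ i * (X - C q) ^ j}).restrictScalars k) ↔
      (p = 0 ∧ q = -1) ∨ (p = -1 ∧ q = 0) := by
  have hVle := V_le k a
  rw [← hV] at hVle
  have hVmem : ∀ G ∈ V, G.degree ≤ ((a + 1 : ℕ) : WithBot ℕ) ∧ G.eval 0 = G.eval (-1) := by
    intro G hG
    obtain ⟨h1, h2⟩ := hVle hG
    refine ⟨mem_degreeLE.mp h1, ?_⟩
    have : (leval (0 : k) - leval (-1 : k)) G = 0 := h2
    simpa [leval, sub_eq_zero] using this
  set Q : k[X] := (X - C p) ^ i * (X - C q) ^ j with hQdef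
  have hQ : Q ≠ 0 := mul_ne_zero (pow_ne_zero _ (X_sub_C_ne_zero p)) (pow_ne_zero _ (X_sub_C_ne_zero q))
  have hdeg : Q.natDegree = i + j := by
    rw [hQdef, natDegree_mul (pow_ne_zero _ (X_sub_C_ne_zero p)) (pow_ne_zero _ (X_sub_C_ne_zero q)),
      natDegree_pow, natDegree_pow, natDegree_X_sub_C, natDegree_X_sub_C, mul_one, mul_one]
  have hn : a + 1 = Q.natDegree + 2 := by rw [hdeg]; omega
  obtain ⟨hfd, hfr⟩ := finrank_span_inf_degreeLE_le k Q hQ 2 (a + 1) hn
  have hMle := map_le_span_inf_degreeLE k Q hQ 2 (a + 1) hn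
  have hMfr := finrank_map_mulLeft k Q hQ 2
  set P' := (Ideal.span {Q}).restrictScalars k ⊓ degreeLE k ((a + 1 : ℕ) : WithBot ℕ) with hP'
  set M := (degreeLT k (2 + 1)).map (LinearMap.mulLeft k Q) with hM
  have hle : V ⊓ (Ideal.span {Q}).restrictScalars k ≤ P' := by
    rintro G ⟨hG1, hG2⟩
    exact ⟨hG2, mem_degreeLE.mpr (hVmem G hG1).1⟩
  haveI : FiniteDimensional k ↥(V ⊓ (Ideal.span {Q}).restrictScalars k) :=
    Submodule.finiteDimensional_of_le hle
  constructor
  · intro h3
    have heq : V ⊓ (Ideal.span {Q}).restrictScalars k = P' :=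
      Submodule.eq_of_le_of_finrank_le hle (by omega)
    have hQH : ∀ H : k[X], H.degree < ((2 + 1 : ℕ) : WithBot ℕ) → (Q * H).eval 0 = (Q * H).eval (-1) := by
      intro H hH
      have h1 : Q * H ∈ M := ⟨H, mem_degreeLT.mpr hH, rfl⟩
      have h2 : Q * H ∈ P' := hMle h1
      rw [← heq] at h2
      exact (hVmem _ h2.1).2
    have h0 := hQH X (by rw [degree_X]; norm_num)
    have h1 := hQH (X + 1) (by
      rw [show ((X : k[X]) + 1) = X + C 1 by simp, degree_X_add_C]; norm_num)
    simp only [eval_mul, eval_X, eval_add, eval_one, mul_zero, zero_add, mul_one,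
      neg_add_cancel] at h0 h1
    -- h0 : 0 = Q(-1) * -1 ; h1 : Q(0) = 0
    have hQ1 : Q.eval (-1) = 0 := by linear_combination h0
    have hQ0 : Q.eval 0 = 0 := h1
    rw [hQdef] at hQ0 hQ1
    simp only [eval_mul, eval_pow, eval_sub, eval_X, eval_C, zero_sub] at hQ0 hQ1
    rcases mul_eq_zero.mp hQ0 with h | h
    · have hp0 : p = 0 := by
        have := pow_eq_zero_iff hi.ne' |>.mp h
        linear_combination -this
      rcases mul_eq_zero.mp hQ1 with h' | h'
      · have := pow_eq_zero_iff hi.ne' |>.mp h'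
        rw [hp0] at this
        norm_num at this
      · have := pow_eq_zero_iff hj.ne' |>.mp h'
        left
        exact ⟨hp0, by linear_combination -this⟩
    · have hq0 : q = 0 := by
        have := pow_eq_zero_iff hj.ne' |>.mp h
        linear_combination -this
      rcases mul_eq_zero.mp hQ1 with h' | h'
      · have := pow_eq_zero_iff hi.ne' |>.mp h'
        right
        exact ⟨by linear_combination -this, hq0⟩
      · have := pow_eq_zero_iff hj.ne' |>.mp h'
        rw [hq0] at this
        norm_num at this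
  · intro hpq
    have hdvd : (X : k[X]) * (X + 1) ∣ Q := by
      rcases hpq with ⟨rfl, rfl⟩ | ⟨rfl, rfl⟩
      · rw [hQdef]
        simp only [C_0, sub_zero, C_neg, C_1, sub_neg_eq_add]
        exact mul_dvd_mul (dvd_pow_self _ hi.ne') (dvd_pow_self _ hj.ne')
      · rw [hQdef]
        simp only [C_0, sub_zero, C_neg, C_1, sub_neg_eq_add]
        rw [mul_comm (X : k[X]) (X + 1)]
        exact mul_dvd_mul (dvd_pow_self _ hi.ne') (dvd_pow_self _ hj.ne')
    have hMS : M ≤ V ⊓ (Ideal.span {Q}).restrictScalars k := by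
      intro G hG
      have hGP := hMle hG
      refine ⟨?_, hGP.1⟩
      rw [hV]
      apply Submodule.mem_sup_right
      refine ⟨?_, hGP.2⟩
      have h1 : G ∈ (Ideal.span {Q}).restrictScalars k := hGP.1
      rw [Submodule.restrictScalars_mem, Ideal.mem_span_singleton] at h1
      rw [SetLike.mem_coe, Submodule.restrictScalars_mem, Ideal.mem_span_singleton]
      exact hdvd.trans h1
    calc 3 = Module.finrank k ↥M := hMfr.symm
      _ ≤ _ := Submodule.finrank_mono hMS

end Groth.Agent.H7.PolySys
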