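import Mathlib
import Groth.Agent.Lib.Helper7.PolySys
import Groth.Agent.Lib.Helper7.HypGeo
open Polynomial
namespace Groth.Agent.H7.PolySys

variable (k : Type*) [Field k]

/-- `R = (X+1)^i (X-q)^J` -/
noncomputable def RR (i J : ℕ) (q : k) : k[X] := (X + 1) ^ i * (X - C q) ^ J

lemma RR_monic (i J : ℕ) (q : k) : (RR k i J q).Monic := by
  unfold RR
  have h1 : ((X : k[X]) + 1).Monic := by
    have := monic_X_add_C (1 : k); simpa using this
  exact (h1.pow i).mul ((monic_X_sub_C q).pow J)

lemma RR_natDegree (i J : ℕ) (q : k) : (RR k i J q).natDegree = i + J := by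
  unfold RR
  have h1 : ((X : k[X]) + 1).Monic := by
    have := monic_X_add_C (1 : k); simpa using this
  rw [((h1.pow i)).natDegree_mul ((monic_X_sub_C q).pow J), (h1).natDegree_pow,
    (monic_X_sub_C q).natDegree_pow, natDegree_X_sub_C]
  have : ((X : k[X]) + 1).natDegree = 1 := by
    have := natDegree_X_add_C (1 : k); simpa using this
  rw [this]; ring

lemma RR_ode (i J : ℕ) (q : k) :
    (X + 1) * (X - C q) * derivative (RR k i J q) =
      (C (i : k) * (X - C q) + C (J : k) * (X + 1)) * RR k i J q := by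
  unfold RR
  have d1 : derivative (((X : k[X]) + 1) ^ i) * (X + 1) = C (i : k) * (X + 1) ^ i := by
    rcases i with _ | i
    · simp
    · rw [derivative_pow]
      simp only [derivative_add, derivative_X, derivative_one, add_zero, mul_one]
      rw [Nat.add_sub_cancel, pow_succ]
      push_cast
      ring
  have d2 : derivative (((X : k[X]) - C q) ^ J) * (X - C q) = C (J : k) * (X - C q) ^ J := by
    rcases J with _ | J
    · simp
    · rw [derivative_pow]
      simp only [derivative_sub, derivative_X, derivative_C, sub_zero, mul_one]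
      rw [Nat.add_sub_cancel, pow_succ]
      push_cast
      ring
  rw [derivative_mul]
  linear_combination ((X : k[X]) - C q) ^ (J + 1) * d1 + ((X : k[X]) + 1) ^ (i + 1) * d2

variable [CharZero k]

lemma RR_rec (i J : ℕ) (q : k) (t : ℕ) :
    -q * ((t : k) + 2) * (RR k i J q).coeff (t + 2) =
      ((i : k) + J - t) * (RR k i J q).coeff t +
      (((J : k) - i * q) - (1 - q) * ((t : k) + 1)) * (RR k i J q).coeff (t + 1) := by
  have h := RR_ode k i J q
  set R := RR k i J q
  have h2 : X * (X * derivative R) + C (1 - q) * (X * derivative R) - C q * derivative R =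
      C ((i : k) + J) * (X * R) + C ((J : k) - i * q) * R := by
    simp only [C_sub, C_add, C_mul, C_1]
    linear_combination h
  have h3 := congrArg (fun p => p.coeff (t + 1)) h2
  simp only [coeff_add, coeff_sub, coeff_C_mul, coeff_X_mul, HypGeo.coeff_theta,
    coeff_derivative] at h3
  push_cast at h3
  linear_combination h3

lemma no_consec (i J : ℕ) (q : k) (hq : q ≠ 0) (t : ℕ) (ht : t ≤ i + J) :
    ¬ ((RR k i J q).coeff t = 0 ∧ (RR k i J q).coeff (t + 1) = 0) := by
  rintro ⟨h0, h1⟩
  have key : ∀ s, (RR k i J q).coeff (t + s) = 0 ∧ (RR k i J q).coeff (t + s + 1) = 0 := by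
    intro s
    induction s with
    | zero => exact ⟨h0, h1⟩
    | succ s ih =>
      refine ⟨ih.2, ?_⟩
      have := RR_rec k i J q (t + s)
      rw [ih.1, ih.2, mul_zero, mul_zero, add_zero] at this
      have hne : -q * (((t + s : ℕ) : k) + 2) ≠ 0 := by
        apply mul_ne_zero (neg_ne_zero.mpr hq)
        have : (((t + s : ℕ) : k) + 2) = ((t + s + 2 : ℕ) : k) := by push_cast; ring
        rw [this]
        exact Nat.cast_ne_zero.mpr (by omega)
      exact (mul_eq_zero.mp this).resolve_left hne
  have h2 := (key (i + J - t)).1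
  rw [Nat.add_sub_cancel' ht] at h2
  have h3 := (RR_monic k i J q).coeff_natDegree
  rw [RR_natDegree] at h3
  rw [h3] at h2
  exact one_ne_zero h2

theorem main3 (a b i : ℕ) (ha : 0 < a) (hb : 0 < b) (hi : 0 < i) (hiab : i < a + b)
    (V : Submodule k (Polynomial k))
    (hV : V = Polynomial.degreeLE k ↑(a + b - i) ⊓
      LinearMap.ker ((Polynomial.lcoeff k a).comp (LinearMap.mulLeft k (((X : Polynomial k) + 1) ^ i))))
    (q : k) (hq : q ≠ 0) :
    Module.finrank k ↥(V ⊓ (Ideal.span {(X - C q) ^ (a + b - i - 1)}).restrictScalars k) ≤ 1 := by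
  set J := a + b - i - 1 with hJ
  set Q : k[X] := (X - C q) ^ J with hQdef
  have hQ : Q ≠ 0 := pow_ne_zero _ (X_sub_C_ne_zero q)
  have hdeg : Q.natDegree = J := by
    rw [hQdef, natDegree_pow, natDegree_X_sub_C, mul_one]
  have hn : a + b - i = Q.natDegree + 1 := by rw [hdeg]; omega
  obtain ⟨hfd, hfr⟩ := finrank_span_inf_degreeLE_le k Q hQ 1 (a + b - i) hn
  set P' := (Ideal.span {Q}).restrictScalars k ⊓ degreeLE k ((a + b - i : ℕ) : WithBot ℕ) with hP'
  have hVmem : ∀ G : k[X], G ∈ V ↔ G.degree ≤ ((a + b - i : ℕ) : WithBot ℕ) ∧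
      (((X : k[X]) + 1) ^ i * G).coeff a = 0 := by
    intro G
    rw [hV, Submodule.mem_inf, mem_degreeLE, LinearMap.mem_ker, LinearMap.comp_apply,
      LinearMap.mulLeft_apply, lcoeff_apply]
  have hle : V ⊓ (Ideal.span {Q}).restrictScalars k ≤ P' := by
    rintro G ⟨hG1, hG2⟩
    exact ⟨hG2, mem_degreeLE.mpr ((hVmem G).mp hG1).1⟩
  have hiJ : i + J = a + b - 1 := by omega
  obtain ⟨G₀, hG₀P, hG₀V⟩ : ∃ G₀ : k[X], G₀ ∈ P' ∧ G₀ ∉ V := by
    by_cases hca : (RR k i J q).coeff a = 0
    · have hca1 : (RR k i J q).coeff (a - 1) ≠ 0 := by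
        intro h0
        apply no_consec k i J q hq (a - 1) (by omega)
        refine ⟨h0, ?_⟩
        rw [Nat.sub_add_cancel ha]
        exact hca
      refine ⟨Q * X, ⟨?_, ?_⟩, ?_⟩
      · rw [SetLike.mem_coe, Submodule.restrictScalars_mem, Ideal.mem_span_singleton]
        exact dvd_mul_right _ _
      · rw [SetLike.mem_coe, mem_degreeLE]
        refine (degree_mul_le _ _).trans ?_
        rw [hQdef, degree_pow, degree_X_sub_C, nsmul_one, degree_X]
        have : J + 1 = a + b - i := by omega
        rw [← this]; push_cast; rfl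
      · intro hmem
        have := ((hVmem _).mp hmem).2
        rw [← mul_assoc] at this
        have h2 : ((X : k[X]) + 1) ^ i * Q = RR k i J q := rfl
        rw [h2] at this
        have h3 : a = (a - 1) + 1 := by omega
        rw [h3, coeff_mul_X] at this
        exact hca1 this
    · refine ⟨Q, ⟨?_, ?_⟩, ?_⟩
      · rw [SetLike.mem_coe, Submodule.restrictScalars_mem, Ideal.mem_span_singleton]
      · rw [SetLike.mem_coe, mem_degreeLE, hQdef, degree_pow, degree_X_sub_C, nsmul_one]
        have : J ≤ a + b - i := by omega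
        exact_mod_cast this
      · intro hmem
        exact hca ((hVmem _).mp hmem).2
  have hlt : V ⊓ (Ideal.span {Q}).restrictScalars k < P' := by
    refine lt_of_le_of_ne hle ?_
    intro heq
    rw [← heq] at hG₀P
    exact hG₀V hG₀P.1
  have := Submodule.finrank_lt_finrank_of_lt hlt
  omega

end Groth.Agent.H7.PolySys
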