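import Mathlib

/-! Bounds on power sums force bounds on the summands (helper7, S15524). -/

set_option autoImplicit false
open Filter Topology

namespace Groth.Agent.H7.PowerSumRH

theorem strictMono_add_le (φ : ℕ → ℕ) (hφ : StrictMono φ) (a b : ℕ) : φ a + b ≤ φ (a + b) := by
  induction b with
  | zero => simp
  | succ b ih =>
    have := hφ (show a + b < a + (b + 1) by omega)
    omega

/-- simultaneous recurrence of powers of unit complex numbers -/
theorem exists_pow_near_one {ι : Type*} [Fintype ι] (w : ι → ℂ) (hw : ∀ i, ‖w i‖ = 1)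
    (ε : ℝ) (hε : 0 < ε) (L : ℕ) : ∃ N : ℕ, L < N ∧ ∀ i, ‖w i ^ N - 1‖ < ε := by
  let x : ℕ → (ι → ℂ) := fun n i => w i ^ n
  have hx : ∀ n, x n ∈ Metric.closedBall (0 : ι → ℂ) 1 := by
    intro n
    rw [mem_closedBall_zero_iff, pi_norm_le_iff_of_nonneg zero_le_one]
    intro i
    simp [x, hw i]
  obtain ⟨a, -, φ, hφ, hlim⟩ := tendsto_subseq_of_bounded Metric.isBounded_closedBall hx
  have hc : CauchySeq (x ∘ φ) := hlim.cauchySeq
  rw [Metric.cauchySeq_iff] at hc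
  obtain ⟨K, hK⟩ := hc ε hε
  have h1 := hK K le_rfl (K + (L + 1)) (by omega)
  have hle := strictMono_add_le φ hφ K (L + 1)
  refine ⟨φ (K + (L + 1)) - φ K, by omega, fun i => ?_⟩
  have h2 : dist (x (φ K) i) (x (φ (K + (L + 1))) i) < ε :=
    lt_of_le_of_lt (dist_le_pi_dist _ _ i) h1
  have h3 : w i ^ φ (K + (L + 1)) = w i ^ φ K * w i ^ (φ (K + (L + 1)) - φ K) := by
    rw [← pow_add]; congr 1; omega
  simp only [x] at h2
  rw [dist_comm, dist_eq_norm, h3, ← mul_sub_one, norm_mul, norm_pow, hw i, one_pow, one_mul] at h2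
  exact h2

theorem norm_le_of_powerSum_le {ι : Type*} [Fintype ι] (β : ι → ℂ) (hβ : ∀ i, β i ≠ 0)
    (R : ℝ) (hR : 0 < R) (C : ℝ) (h : ∀ N : ℕ, 1 ≤ N → ‖∑ i, β i ^ N‖ ≤ C * R ^ N) (i₀ : ι) :
    ‖β i₀‖ ≤ R := by
  by_contra hlt
  push Not at hlt
  have hρ : 1 < ‖β i₀‖ / R := by rwa [one_lt_div hR]
  have htend := tendsto_pow_atTop_atTop_of_one_lt hρ
  obtain ⟨L, hL⟩ := eventually_atTop.mp (htend.eventually_gt_atTop (2 * C))
  let w : ι → ℂ := fun i => β i / (‖β i‖ : ℂ)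
  have hnorm : ∀ i, (‖β i‖ : ℂ) ≠ 0 := fun i => by
    exact_mod_cast (norm_pos_iff.mpr (hβ i)).ne'
  have hw : ∀ i, ‖w i‖ = 1 := by
    intro i
    simp only [w, norm_div, Complex.norm_real, norm_norm]
    exact div_self (norm_pos_iff.mpr (hβ i)).ne'
  obtain ⟨N, hLN, hN⟩ := exists_pow_near_one w hw (1 / 2) (by norm_num) L
  have hN1 : 1 ≤ N := by omega
  have hβw : ∀ i, β i ^ N = ((‖β i‖ ^ N : ℝ) : ℂ) * w i ^ N := by
    intro i
    simp only [w]
    rw [div_pow, Complex.ofReal_pow, mul_div_cancel₀]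
    exact pow_ne_zero _ (hnorm i)
  have hre : ∀ i, (1 : ℝ) / 2 ≤ (w i ^ N).re := by
    intro i
    have h1 := Complex.abs_re_le_norm (w i ^ N - 1)
    have h2 := hN i
    rw [Complex.sub_re, Complex.one_re] at h1
    have := abs_lt.mp (lt_of_le_of_lt h1 h2)
    linarith [this.1]
  have hsum : ‖β i₀‖ ^ N / 2 ≤ (∑ i, β i ^ N).re := by
    rw [Complex.re_sum]
    calc ‖β i₀‖ ^ N / 2 ≤ ∑ i, ‖β i‖ ^ N / 2 :=
          Finset.single_le_sum (f := fun i => ‖β i‖ ^ N / 2)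
            (fun i _ => by positivity) (Finset.mem_univ i₀)
      _ ≤ ∑ i, (β i ^ N).re := by
          apply Finset.sum_le_sum
          intro i _
          rw [hβw i, Complex.re_ofReal_mul]
          have := hre i
          have hp : 0 ≤ ‖β i‖ ^ N := by positivity
          nlinarith
  have h4 : ‖β i₀‖ ^ N / 2 ≤ C * R ^ N :=
    hsum.trans ((Complex.re_le_norm _).trans (h N hN1))
  have h5 := hL N hLN.le
  rw [div_pow] at h5
  have hRN : 0 < R ^ N := pow_pos hR N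
  rw [lt_div_iff₀ hRN] at h5
  linarith


theorem norm_sq_eq {g : ℕ} (q : ℕ) (hq : 0 < q)
    (α : Fin (2 * g) → ℂ) (σ : Equiv.Perm (Fin (2 * g))) (hσ : ∀ i, α (σ i) * α i = q)
    (d : ℕ) (hd : 0 < d) (C : ℝ)
    (hC : ∀ N : ℕ, 1 ≤ N → ‖∑ i, α i ^ (d * N)‖ ≤ C * (q : ℝ) ^ ((d : ℝ) * N / 2))
    (i : Fin (2 * g)) : ‖α i‖ ^ 2 = q := by
  have hq0 : (0 : ℝ) < q := by exact_mod_cast hq
  have hα : ∀ i, α i ≠ 0 := by
    intro i h0
    have := hσ i
    rw [h0, mul_zero] at this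
    have h1 : (q : ℂ) ≠ 0 := by exact_mod_cast hq.ne'
    exact h1 this.symm
  set r : ℝ := (q : ℝ) ^ ((1 : ℝ) / 2) with hr
  have hr0 : 0 < r := Real.rpow_pos_of_pos hq0 _
  have hr2 : r ^ 2 = q := by
    rw [hr, ← Real.rpow_natCast, ← Real.rpow_mul hq0.le]
    norm_num
  have hpow : ∀ N : ℕ, (q : ℝ) ^ ((d : ℝ) * N / 2) = (r ^ d) ^ N := by
    intro N
    rw [← pow_mul, hr, ← Real.rpow_natCast, ← Real.rpow_mul hq0.le]
    congr 1
    push_cast
    ring
  have hbound : ∀ i, ‖α i‖ ≤ r := by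
    intro i
    have h1 := norm_le_of_powerSum_le (fun i => α i ^ d) (fun i => pow_ne_zero _ (hα i)) (r ^ d)
      (pow_pos hr0 d) C (by
        intro N hN
        have := hC N hN
        rw [hpow] at this
        simpa only [← pow_mul] using this) i
    rw [norm_pow] at h1
    exact (pow_le_pow_iff_left₀ (norm_nonneg _) hr0.le hd.ne').mp h1
  have hprod : ‖α (σ i)‖ * ‖α i‖ = r ^ 2 := by
    rw [← norm_mul, hσ i, hr2]
    simp
  have h1 := hbound i
  have h2 := hbound (σ i)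
  have h3 : 0 < ‖α (σ i)‖ := norm_pos_iff.mpr (hα _)
  have h4 : r ≤ ‖α i‖ := by
    by_contra hlt
    push Not at hlt
    have : ‖α (σ i)‖ * ‖α i‖ < r * r := by
      calc ‖α (σ i)‖ * ‖α i‖ < ‖α (σ i)‖ * r := by
            apply mul_lt_mul_of_pos_left hlt h3
        _ ≤ r * r := by
            apply mul_le_mul_of_nonneg_right h2 hr0.le
    rw [hprod] at this
    nlinarith
  have h5 : ‖α i‖ = r := le_antisymm h1 h4
  rw [h5, hr2]

end Groth.Agent.H7.PowerSumRH
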