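import Mathlib

set_option autoImplicit false

namespace Groth.Agent.H7.ProdVal

/-- In a valuation ring, a nonempty finite family has an element dividing all others. -/
theorem exists_dvd_all {α : Type*} [CommRing α] [IsDomain α] [ValuationRing α] {κ : Type*}
    (s : Finset κ) (hs : s.Nonempty) (x : κ → α) : ∃ l ∈ s, ∀ l' ∈ s, x l ∣ x l' := by
  induction hs using Finset.Nonempty.cons_induction with
  | singleton a =>
    exact ⟨a, Finset.mem_singleton_self a, fun l' hl' => by rw [Finset.mem_singleton.mp hl']⟩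
  | cons a s ha hs ih =>
    obtain ⟨l₀, hl₀, h⟩ := ih
    rcases ValuationRing.dvd_total (x a) (x l₀) with h1 | h1
    · refine ⟨a, Finset.mem_cons_self a s, fun l' hl' => ?_⟩
      rcases Finset.mem_cons.mp hl' with rfl | hl'
      · exact dvd_rfl
      · exact h1.trans (h l' hl')
    · refine ⟨l₀, Finset.mem_cons.mpr (Or.inr hl₀), fun l' hl' => ?_⟩
      rcases Finset.mem_cons.mp hl' with rfl | hl'
      · exact h1
      · exact h l' hl'

/-- every ideal of a product of valuation domains is flat -/
theorem flat_ideal {ι : Type*} (W : ι → Type*) [∀ i, CommRing (W i)] [∀ i, IsDomain (W i)]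
    [∀ i, ValuationRing (W i)] (I : Ideal (∀ i, W i)) : Module.Flat (∀ i, W i) I := by
  classical
  apply Module.Flat.of_forall_isTrivialRelation
  intro n f x hfx
  rcases Nat.eq_zero_or_pos n with rfl | hn
  · exact ⟨0, fun i => Fin.elim0 i, Fin.elim0, fun i => Fin.elim0 i, fun j => Fin.elim0 j⟩
  haveI : Nonempty (Fin n) := ⟨⟨0, hn⟩⟩
  have h1 : ∀ i : ι, ∃ l : Fin n, ∀ l' : Fin n, (x l).1 i ∣ (x l').1 i := by
    intro i
    obtain ⟨l, -, hl⟩ := exists_dvd_all Finset.univ Finset.univ_nonempty (fun l => (x l).1 i)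
    exact ⟨l, fun l' => hl l' (Finset.mem_univ _)⟩
  choose l hl using h1
  choose y hy using hl
  let d : ∀ i, W i := fun i => (x (l i)).1 i
  have hd : d ∈ I := by
    have : d = ∑ l' : Fin n, (fun i => if l i = l' then (1 : W i) else 0) * (x l').1 := by
      ext i
      simp [d, Finset.sum_apply]
    rw [this]
    exact I.sum_mem (fun l' _ => I.mul_mem_left _ (x l').2)
  have hfx' : ∀ i, ∑ l' : Fin n, f l' i * (x l').1 i = 0 := by
    intro i
    have := congrArg (fun z : I => z.1 i) hfx
    simpa [Finset.sum_apply] using this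
  refine ⟨1, fun l' _ => (fun i => if d i = 0 then 0 else y i l'), fun _ => ⟨d, hd⟩,
    fun l' => ?_, fun _ => ?_⟩
  · apply Subtype.ext
    ext i
    simp only [Fin.sum_univ_one, SetLike.mk_smul_mk, smul_eq_mul, Pi.mul_apply]
    by_cases hdi : d i = 0
    · rw [if_pos hdi, zero_mul, hy i l']
      change d i * y i l' = 0
      rw [hdi, zero_mul]
    · rw [if_neg hdi, hy i l', mul_comm]
  · ext i
    simp only [Finset.sum_apply, Pi.mul_apply, Pi.zero_apply]
    by_cases hdi : d i = 0
    · simp [hdi]
    · simp only [if_neg hdi]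
      have h2 : (∑ l' : Fin n, f l' i * y i l') * d i = 0 := by
        rw [Finset.sum_mul, ← hfx' i]
        refine Finset.sum_congr rfl fun l' _ => ?_
        rw [hy i l']
        change _ = f l' i * (d i * y i l')
        ring
      exact (mul_eq_zero.mp h2).resolve_right hdi

section loc

variable {ι : Type*} {K : Type*} [Field K] (W : ι → ValuationSubring K)

/-- the inclusion `∏ W_i → ∏ K` -/
def incl : (∀ i, W i) →+* (ι → K) :=
  Pi.ringHom (fun i => (W i).subtype.comp (Pi.evalRingHom (fun i => W i) i))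

@[simp] theorem incl_apply (v : ∀ i, W i) (i : ι) : incl W v i = (v i : K) := rfl

theorem incl_injective : Function.Injective (incl W) := by
  intro v w h
  ext i
  exact congrFun h i

/-- the submonoid of everywhere nonzero elements -/
def S : Submonoid (∀ i, W i) where
  carrier := {v | ∀ i, v i ≠ 0}
  one_mem' := fun _ => one_ne_zero
  mul_mem' := fun ha hb i => mul_ne_zero (ha i) (hb i)

theorem isLocalization :
    @IsLocalization _ _ (S W) (ι → K) _ (incl W).toAlgebra := by
  letI := (incl W).toAlgebra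
  have halg : ∀ v, algebraMap (∀ i, W i) (ι → K) v = incl W v := fun _ => rfl
  refine ⟨?_, ?_, ?_⟩
  · rintro ⟨y, hy⟩
    rw [halg, Pi.isUnit_iff]
    intro i
    rw [incl_apply, isUnit_iff_ne_zero]
    exact fun h => hy i (Subtype.ext h)
  · intro z
    have h1 : ∀ i, ∃ a s : W i, s ≠ 0 ∧ z i * (s : K) = (a : K) := by
      intro i
      rcases (W i).mem_or_inv_mem (z i) with h | h
      · exact ⟨⟨z i, h⟩, 1, one_ne_zero, by simp⟩
      · by_cases hz : z i = 0
        · exact ⟨0, 1, one_ne_zero, by simp [hz]⟩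
        · refine ⟨1, ⟨(z i)⁻¹, h⟩, fun h0 => ?_, by simp [hz]⟩
          have := congrArg Subtype.val h0
          simp [hz] at this
    choose a s hs has using h1
    refine ⟨(a, ⟨s, hs⟩), ?_⟩
    ext i
    simp only [halg, Pi.mul_apply, incl_apply]
    exact has i
  · intro x y hxy
    exact ⟨1, by rw [incl_injective W hxy]⟩

end loc

universe u

theorem main (A K : Type u) [CommRing A] [IsDomain A] [Field K] [Algebra A K]
    [IsFractionRing A K] [IsIntegrallyClosed A] :
    ∃ (V L : Type u) (_ : CommRing V) (_ : CommRing L) (f : A →+* V) (g : V →+* L) (h : K →+* L),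
      g.comp f = h.comp (algebraMap A K) ∧
      (∀ I : Ideal V, Module.Flat V I) ∧ g.Flat ∧ Function.Injective g ∧
      CategoryTheory.Epi (CommRingCat.ofHom g) ∧
      ∀ (v : V) (k : K), g v = h k → ∃! a : A, f a = v ∧ algebraMap A K a = k := by
  let R : Subring K := (algebraMap A K).range
  haveI : IsIntegrallyClosedIn R K := by
    rw [isIntegrallyClosedIn_iff]
    refine ⟨Subtype.val_injective, fun {x} hx => ?_⟩
    obtain ⟨p, hpm, hpx⟩ := hx
    have hsurj : Function.Surjective (algebraMap A K).rangeRestrict :=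
      (algebraMap A K).rangeRestrict_surjective
    have hp : p ∈ Polynomial.lifts (algebraMap A K).rangeRestrict :=
      (Polynomial.lifts_iff_coeff_lifts p).mpr (fun n => hsurj _)
    obtain ⟨q, hq, -, hqm⟩ := Polynomial.lifts_and_natDegree_eq_and_monic hp hpm
    have hxA : IsIntegral A x := ⟨q, hqm, by
      rw [← hq, Polynomial.eval₂_map] at hpx
      exact hpx⟩
    obtain ⟨a, rfl⟩ := IsIntegrallyClosed.isIntegral_iff.mp hxA
    exact ⟨⟨_, a, rfl⟩, rfl⟩
  let ι := {V : ValuationSubring K // R ≤ V.toSubring}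
  let W : ι → ValuationSubring K := fun i => i.1
  let f : A →+* (∀ i, W i) := Pi.ringHom (fun i =>
    (algebraMap A K).codRestrict (W i).toSubring (fun a => i.2 ⟨a, rfl⟩))
  let h : K →+* (ι → K) := Pi.ringHom (fun _ => RingHom.id K)
  refine ⟨∀ i, W i, ι → K, inferInstance, inferInstance, f, incl W, h, ?_, ?_, ?_, ?_, ?_, ?_⟩
  · ext a i
    rfl
  · exact fun I => flat_ideal (fun i => W i) I
  · letI := (incl W).toAlgebra
    haveI := isLocalization W
    exact IsLocalization.flat (ι → K) (S W)
  · exact incl_injective W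
  · letI := (incl W).toAlgebra
    haveI := isLocalization W
    exact IsLocalization.epi (S W) (ι → K)
  · intro v k hvk
    have hk : ∀ i : ι, (v i : K) = k := fun i => congrFun hvk i
    have hkR : k ∈ R := by
      rw [Subring.eq_iInf_of_isIntegrallyClosedIn (R := R)]
      rw [Subring.mem_iInf]
      intro i
      rw [← hk i]
      exact (v i).2
    obtain ⟨a, rfl⟩ := hkR
    refine ⟨a, ⟨?_, rfl⟩, fun b hb => IsFractionRing.injective A K hb.2⟩
    ext i
    exact (hk i).symm

end Groth.Agent.H7.ProdVal
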