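import Mathlib
import Groth.Agent.Lib.Helper7.ProdVal

set_option autoImplicit false

namespace Groth.Agent.H7.ProdVal

universe u

theorem main2 {J : Type u} (A : J → Type u) [∀ j, CommRing (A j)] [∀ j, IsDomain (A j)]
    [∀ j, ValuationRing (A j)] (K : J → Type u) [∀ j, Field (K j)] [∀ j, Algebra (A j) (K j)]
    [∀ j, IsFractionRing (A j) (K j)] :
    (∀ I : Ideal (∀ j, A j), Module.Flat (∀ j, A j) I) ∧
      IsLocalization (nonZeroDivisors (∀ j, A j)) (∀ j, K j) := by
  classical
  refine ⟨fun I => flat_ideal A I, ?_⟩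
  have hnzd : ∀ y : ∀ j, A j, y ∈ nonZeroDivisors (∀ j, A j) ↔ ∀ j, y j ≠ 0 := by
    intro y
    constructor
    · intro hy j hj
      have h1 : (Pi.single j (1 : A j) : ∀ j, A j) * y = 0 := by
        ext i
        by_cases hij : i = j
        · subst hij; simp [hj]
        · simp [Pi.single_eq_of_ne hij]
      have h2 := (mem_nonZeroDivisors_iff.mp hy).2 _ h1
      have := congrFun h2 j
      simp at this
    · intro hy
      rw [mem_nonZeroDivisors_iff]
      refine ⟨fun z hz => ?_, fun z hz => ?_⟩
      · ext j
        have := congrFun hz j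
        simp only [Pi.mul_apply, Pi.zero_apply] at this
        exact (mul_eq_zero.mp this).resolve_left (hy j)
      · ext j
        have := congrFun hz j
        simp only [Pi.mul_apply, Pi.zero_apply] at this
        exact (mul_eq_zero.mp this).resolve_right (hy j)
  have halg : ∀ (v : ∀ j, A j) (j : J),
      algebraMap (∀ j, A j) (∀ j, K j) v j = algebraMap (A j) (K j) (v j) := fun _ _ => rfl
  refine ⟨?_, ?_, ?_⟩
  · rintro ⟨y, hy⟩
    rw [Pi.isUnit_iff]
    intro j
    rw [halg, isUnit_iff_ne_zero]
    exact fun h => (hnzd y).mp hy j ((IsFractionRing.injective (A j) (K j))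
      (h.trans (map_zero _).symm))
  · intro z
    have h1 : ∀ j, ∃ x : A j × nonZeroDivisors (A j),
        z j * algebraMap (A j) (K j) x.2 = algebraMap (A j) (K j) x.1 :=
      fun j => IsLocalization.surj (nonZeroDivisors (A j)) (z j)
    choose x hx using h1
    refine ⟨(fun j => (x j).1, ⟨fun j => ((x j).2 : A j), (hnzd _).mpr
      (fun j => nonZeroDivisors.ne_zero (x j).2.2)⟩), ?_⟩
    ext j
    simp only [Pi.mul_apply, halg]
    exact hx j
  · intro x y hxy
    refine ⟨1, ?_⟩
    have : x = y := by
      ext j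
      exact IsFractionRing.injective (A j) (K j) (by rw [← halg, ← halg, hxy])
    rw [this]

end Groth.Agent.H7.ProdVal
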