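import Mathlib

/-! Hilbert 90 (multiplicative and additive) for locally constant cocycles of the Galois group of a
(possibly infinite) Galois extension. -/

set_option autoImplicit false

namespace Groth.Agent.H7.ProfH90

universe u v

variable {K : Type u} {L : Type v} [Field K] [Field L] [Algebra K L] [IsGalois K L]

/-- a neighbourhood of `1` contains the fixing subgroup of a finite normal subextension -/
theorem exists_finite_normal (s : Set (L ≃ₐ[K] L)) (hs : s ∈ nhds (1 : L ≃ₐ[K] L)) :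
    ∃ E : IntermediateField K L, FiniteDimensional K E ∧ Normal K E ∧
      ∀ τ ∈ E.fixingSubgroup, τ ∈ s := by
  obtain ⟨E, h1, h2, h3⟩ := (krullTopology_mem_nhds_one_iff_of_normal K L s).mp hs
  exact ⟨E, h1, h2, fun τ hτ => h3 hτ⟩

section Common

variable (E : IntermediateField K L) [FiniteDimensional K E] [Normal K E]

/-- a function on the Galois group which is right-invariant under the fixing subgroup of `E`
factors through the restriction to `E` -/
theorem exists_factor {X : Type*} (a : (L ≃ₐ[K] L) → X)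
    (hU : ∀ σ : L ≃ₐ[K] L, ∀ τ ∈ E.fixingSubgroup, a (σ * τ) = a σ) :
    ∃ a' : (E ≃ₐ[K] E) → X, ∀ σ, a σ = a' (AlgEquiv.restrictNormalHom E σ) := by
  have hr : Function.Surjective (AlgEquiv.restrictNormalHom (F := K) (K₁ := L) E) :=
    AlgEquiv.restrictNormalHom_surjective L
  refine ⟨fun ρ => a (Function.surjInv hr ρ), fun σ => ?_⟩
  set σ' := Function.surjInv hr (AlgEquiv.restrictNormalHom E σ) with hσ'
  have h1 : AlgEquiv.restrictNormalHom E σ' = AlgEquiv.restrictNormalHom E σ :=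
    Function.surjInv_eq hr _
  have h2 : σ⁻¹ * σ' ∈ E.fixingSubgroup := by
    rw [← IntermediateField.restrictNormalHom_ker, MonoidHom.mem_ker, map_mul, map_inv, h1,
      inv_mul_cancel]
  have h3 := hU σ _ h2
  rw [mul_inv_cancel_left] at h3
  exact h3.symm

theorem apply_coe (τ : L ≃ₐ[K] L) (ρ : E ≃ₐ[K] E) (z : E) :
    τ ((ρ z : E) : L) = (((AlgEquiv.restrictNormalHom E τ * ρ) z : E) : L) := by
  rw [AlgEquiv.mul_apply, AlgEquiv.restrictNormalHom_apply]

end Common

/-- multiplicative Hilbert 90 for locally constant cocycles -/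
theorem mul_coboundary (a : (L ≃ₐ[K] L) → L) (ha0 : ∀ σ, a σ ≠ 0)
    (ha : ∀ σ τ : L ≃ₐ[K] L, a (σ * τ) = a σ * σ (a τ)) (hlc : IsLocallyConstant a) :
    ∃ c : L, c ≠ 0 ∧ ∀ σ : L ≃ₐ[K] L, a σ * c = σ c := by
  classical
  have h1 : a 1 = 1 := by
    have := ha 1 1
    rw [mul_one, AlgEquiv.one_apply] at this
    exact (mul_right_cancel₀ (ha0 1) (by rw [one_mul]; exact this)).symm
  obtain ⟨E, hfin, hnorm, hE⟩ := exists_finite_normal (a ⁻¹' {a 1})
    ((hlc.isOpen_fiber (a 1)).mem_nhds rfl)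
  have hU : ∀ σ : L ≃ₐ[K] L, ∀ τ ∈ E.fixingSubgroup, a (σ * τ) = a σ := by
    intro σ τ hτ
    have : a τ = 1 := (hE τ hτ).trans h1
    rw [ha, this, map_one, mul_one]
  obtain ⟨a', ha'⟩ := exists_factor E a hU
  -- Dedekind independence
  let χ : (E ≃ₐ[K] E) → (E →* L) := fun ρ =>
    ((algebraMap E L : E →* L)).comp (ρ : E →* E)
  have hχinj : Function.Injective χ := by
    intro ρ₁ ρ₂ h
    ext z
    have := congrArg (fun f : E →* L => f z) h
    exact this
  have hli := (linearIndependent_monoidHom E L).comp χ hχinj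
  have hne : ∃ z : E, ∑ ρ : E ≃ₐ[K] E, a' ρ * ((ρ z : E) : L) ≠ 0 := by
    by_contra hcon
    push_neg at hcon
    have h0 : ∑ ρ : E ≃ₐ[K] E, a' ρ • (fun f : E →* L => (f : E → L)) (χ ρ) = 0 := by
      funext z
      rw [Finset.sum_apply]
      exact hcon z
    have := Fintype.linearIndependent_iff.mp hli a' h0 1
    have hr : Function.Surjective (AlgEquiv.restrictNormalHom (F := K) (K₁ := L) E) :=
      AlgEquiv.restrictNormalHom_surjective L
    obtain ⟨σ, hσ⟩ := hr 1
    exact ha0 σ (by rw [ha' σ, hσ]; exact this)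
  obtain ⟨z, hz⟩ := hne
  set b := ∑ ρ : E ≃ₐ[K] E, a' ρ * ((ρ z : E) : L) with hb
  have key : ∀ τ : L ≃ₐ[K] L, a τ * τ b = b := by
    intro τ
    rw [hb, map_sum, Finset.mul_sum]
    have hterm : ∀ ρ : E ≃ₐ[K] E, a τ * τ (a' ρ * ((ρ z : E) : L)) =
        a' (AlgEquiv.restrictNormalHom E τ * ρ) *
          (((AlgEquiv.restrictNormalHom E τ * ρ) z : E) : L) := by
      intro ρ
      have hr : Function.Surjective (AlgEquiv.restrictNormalHom (F := K) (K₁ := L) E) :=
        AlgEquiv.restrictNormalHom_surjective L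
      obtain ⟨σ, rfl⟩ := hr ρ
      rw [map_mul, apply_coe, ← mul_assoc, ← ha' σ, ← ha, ha' (τ * σ), map_mul]
    rw [Finset.sum_congr rfl (fun ρ _ => hterm ρ)]
    exact Fintype.sum_bijective (fun ρ => AlgEquiv.restrictNormalHom E τ * ρ)
      (Group.mulLeft_bijective _) _ _ (fun ρ => rfl)
  refine ⟨b⁻¹, inv_ne_zero hz, fun σ => ?_⟩
  have h2 := key σ
  have hσb : σ b ≠ 0 := by
    intro h
    rw [h, mul_zero] at h2
    exact hz h2.symm
  rw [map_inv₀]
  field_simp
  exact h2

/-- additive Hilbert 90 for locally constant cocycles -/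
theorem add_coboundary (a : (L ≃ₐ[K] L) → L)
    (ha : ∀ σ τ : L ≃ₐ[K] L, a (σ * τ) = a σ + σ (a τ)) (hlc : IsLocallyConstant a) :
    ∃ y : L, ∀ σ : L ≃ₐ[K] L, a σ = σ y - y := by
  classical
  have h1 : a 1 = 0 := by
    have := ha 1 1
    rw [mul_one, AlgEquiv.one_apply] at this
    exact left_eq_add.mp this
  obtain ⟨E, hfin, hnorm, hE⟩ := exists_finite_normal (a ⁻¹' {a 1})
    ((hlc.isOpen_fiber (a 1)).mem_nhds rfl)
  have hU : ∀ σ : L ≃ₐ[K] L, ∀ τ ∈ E.fixingSubgroup, a (σ * τ) = a σ := by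
    intro σ τ hτ
    have : a τ = 0 := (hE τ hτ).trans h1
    rw [ha, this, map_zero, add_zero]
  obtain ⟨a', ha'⟩ := exists_factor E a hU
  haveI : Algebra.IsSeparable K E := inferInstance
  haveI : IsGalois K E := ⟨⟩
  obtain ⟨θ, hθ⟩ := Algebra.trace_surjective K E 1
  have hsum : ∑ ρ : E ≃ₐ[K] E, ((ρ θ : E) : L) = 1 := by
    have := trace_eq_sum_automorphisms (K := K) (L := E) θ
    rw [hθ, map_one] at this
    have h2 := congrArg (algebraMap E L) this
    rw [map_one, map_sum] at h2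
    exact h2.symm
  set y' := ∑ ρ : E ≃ₐ[K] E, a' ρ * ((ρ θ : E) : L) with hy'
  have key : ∀ τ : L ≃ₐ[K] L, τ y' = y' - a τ := by
    intro τ
    rw [hy', map_sum]
    have hterm : ∀ ρ : E ≃ₐ[K] E, τ (a' ρ * ((ρ θ : E) : L)) =
        a' (AlgEquiv.restrictNormalHom E τ * ρ) *
          (((AlgEquiv.restrictNormalHom E τ * ρ) θ : E) : L) -
        a τ * (((AlgEquiv.restrictNormalHom E τ * ρ) θ : E) : L) := by
      intro ρ
      have hr : Function.Surjective (AlgEquiv.restrictNormalHom (F := K) (K₁ := L) E) :=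
        AlgEquiv.restrictNormalHom_surjective L
      obtain ⟨σ, rfl⟩ := hr ρ
      rw [map_mul, apply_coe, ← ha' σ, ← map_mul, ← ha' (τ * σ), ha]
      ring
    rw [Finset.sum_congr rfl (fun ρ _ => hterm ρ), Finset.sum_sub_distrib, ← Finset.mul_sum]
    have e1 := Fintype.sum_bijective (fun ρ => AlgEquiv.restrictNormalHom E τ * ρ)
      (Group.mulLeft_bijective _) (fun ρ => a' (AlgEquiv.restrictNormalHom E τ * ρ) *
          (((AlgEquiv.restrictNormalHom E τ * ρ) θ : E) : L))
      (fun ρ => a' ρ * ((ρ θ : E) : L)) (fun ρ => rfl)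
    have e2 := Fintype.sum_bijective (fun ρ => AlgEquiv.restrictNormalHom E τ * ρ)
      (Group.mulLeft_bijective _) (fun ρ => (((AlgEquiv.restrictNormalHom E τ * ρ) θ : E) : L))
      (fun ρ => ((ρ θ : E) : L)) (fun ρ => rfl)
    rw [e1, e2, hsum, mul_one]
  refine ⟨-y', fun σ => ?_⟩
  rw [map_neg, key σ]
  ring

end Groth.Agent.H7.ProfH90
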