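import Mathlib
import Groth.Prelude.Def_EtBase
import Groth.Prelude.Def_BigSite
import Groth.Prelude.Def_SGA4b
import Groth.Agent.Lib.Helper7.ES12
import Groth.Agent.Lib.Helper7.ST7
import Groth.Agent.Lib.Helper7.PropB1

/-!
# Helper7: PropC2 — condition (C) + closed ⟹ base change is almost cocontinuous
-/

set_option autoImplicit false

open CategoryTheory Limits AlgebraicGeometry Opposite

namespace Groth.Agent.H7.PropABC

universe u

variable {X Y : Scheme.{u}} (f : X ⟶ Y)

theorem S6632_main
    (hC : ∀ (V : Scheme.{u}) (v : V ⟶ Y) [Etale v], BigSite.PropC (pullback.snd f v))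
    (hcl : ∀ (V : Scheme.{u}) (v : V ⟶ Y) [Etale v], IsClosedMap (pullback.snd f v).base) :
    BigSite.IsAlmostCocontinuous (EtCoh.bc f) Y.smallEtaleTopology X.smallEtaleTopology := by
  intro U R hR
  haveI : Etale U.hom := U.prop
  let B : X.Etale := (EtCoh.bc f).obj U
  let σ : pullback U.hom f ⟶ pullback f U.hom := (pullbackSymmetry U.hom f).hom
  have hσ : σ ≫ pullback.fst f U.hom = pullback.snd U.hom f :=
    pullbackSymmetry_hom_comp_fst U.hom f
  have hσ2 : σ ≫ pullback.snd f U.hom = pullback.fst U.hom f :=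
    pullbackSymmetry_hom_comp_snd U.hom f
  have hpt := exists_of_sieve_mem R hR
  choose T p y hp hy using hpt
  haveI : ∀ x, Etale (T x).hom := fun x => (T x).prop
  let pl : ∀ x : B.left, (T x).left ⟶ pullback U.hom f := fun x => (p x).left
  have hpl : ∀ x, pl x ≫ pullback.snd U.hom f = (T x).hom := fun x =>
    MorphismProperty.Over.w (p x)
  haveI : Etale (pullback.snd U.hom f) := inferInstance
  haveI : ∀ x, Etale (pl x) := fun x =>
    MorphismProperty.of_postcomp (W := @Etale) (W' := @Etale) (pl x) (pullback.snd U.hom f)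
      inferInstance (by rw [hpl x]; exact (T x).prop)
  have hCx := fun x : B.left => hC U.left U.hom (T x).left (pl x ≫ σ)
  choose V v hv h hh hsurj using hCx
  haveI := hv
  -- the closed image
  let Z : Set U.left := Set.range (pullback.snd f U.hom).base
  have hZ : IsClosed Z := (hcl U.left U.hom).isClosed_range
  let V0 : U.left.Opens := ⟨Zᶜ, hZ.isOpen_compl⟩
  let Vx : B.left → Y.Etale := fun x => Scheme.Etale.mk (v x ≫ U.hom)
  let πx : ∀ x, Vx x ⟶ U := fun x => MorphismProperty.Over.homMk (v x) rfl
  let V0' : Y.Etale := Scheme.Etale.mk (V0.ι ≫ U.hom)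
  let π0 : V0' ⟶ U := MorphismProperty.Over.homMk V0.ι rfl
  refine ⟨Sieve.ofArrows Vx πx ⊔ Sieve.generate (Presieve.singleton π0), ?_, ?_⟩
  · -- covering
    refine ES.sieve_mem_of_jointly_surjective _ (fun u => ?_)
    by_cases hu : u ∈ Z
    · obtain ⟨x', hx'⟩ := hu
      obtain ⟨x, rfl⟩ := (pullbackSymmetry U.hom f).hom.homeomorph.surjective x'
      obtain ⟨z, hz⟩ := (hsurj x).surj (y x)
      refine ⟨Vx x, πx x, (pullback.snd (pullback.snd f U.hom) (v x)).base z,
        Or.inl (Sieve.ofArrows_mk Vx πx x), ?_⟩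
      change (v x).base _ = u
      rw [← hx', ← Scheme.Hom.comp_apply, ← pullback.condition, ← hh x, Scheme.Hom.comp_apply,
        Scheme.Hom.comp_apply, Scheme.Hom.comp_apply, hz]
      exact congrArg (fun w => (pullback.snd f U.hom).base (σ.base w)) (hy x)
    · refine ⟨V0', π0, ⟨u, hu⟩, Or.inr ⟨_, 𝟙 _, π0, Presieve.singleton.mk, Category.id_comp _⟩, rfl⟩
  · rintro W g (⟨W', k, g', ⟨x⟩, rfl⟩ | ⟨W', k, g', hg', rfl⟩)
    · right
      rw [Functor.map_comp]
      apply R.downward_closed
      -- factor through `p x`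
      let a : pullback (v x ≫ U.hom) f ⟶ pullback f U.hom :=
        pullback.lift (pullback.snd _ f) (pullback.fst _ f ≫ v x) (by
          rw [Category.assoc, ← pullback.condition])
      let θ : pullback (v x ≫ U.hom) f ⟶ pullback (pullback.snd f U.hom) (v x) :=
        pullback.lift a (pullback.fst _ f) (pullback.lift_snd _ _ _)
      let bcl : pullback (v x ≫ U.hom) f ⟶ pullback U.hom f := ((EtCoh.bc f).map (πx x)).left
      have hb1 : bcl ≫ pullback.fst U.hom f = pullback.fst (v x ≫ U.hom) f ≫ v x :=
        bc_map_left_fst f (πx x)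
      have hb2 : bcl ≫ pullback.snd U.hom f = pullback.snd (v x ≫ U.hom) f :=
        bc_map_left_snd f (πx x)
      have ha : bcl ≫ σ = a := by
        apply pullback.hom_ext
        · rw [Category.assoc, hσ, hb2]; exact (pullback.lift_fst _ _ _).symm
        · rw [Category.assoc, hσ2, hb1]; exact (pullback.lift_snd _ _ _).symm
      have hθ : θ ≫ pullback.fst (pullback.snd f U.hom) (v x) = a := pullback.lift_fst _ _ _
      have hm : (θ ≫ h x) ≫ pl x = bcl := by
        haveI : Mono σ := inferInstanceAs (Mono (pullbackSymmetry U.hom f).hom)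
        rw [← cancel_mono σ, Category.assoc, Category.assoc, hh x, hθ, ha]
      have hm2 : (θ ≫ h x) ≫ (T x).hom = pullback.snd (v x ≫ U.hom) f :=
        (congrArg (fun t => (θ ≫ h x) ≫ t) (hpl x).symm).trans
          ((Category.assoc _ _ _).symm.trans
            ((congrArg (fun t => t ≫ pullback.snd U.hom f) hm).trans hb2))
      let m : (EtCoh.bc f).obj (Vx x) ⟶ T x := MorphismProperty.Over.homMk (θ ≫ h x) hm2
      have hfac : (EtCoh.bc f).map (πx x) = m ≫ p x := by
        apply MorphismProperty.Over.Hom.ext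
        exact hm.symm
      rw [hfac]
      exact R.downward_closed (hp x) m
    · left
      obtain ⟨⟩ := hg'
      haveI : IsEmpty ((EtCoh.bc f).obj W).left := ⟨fun z => by
        let bcl : pullback W.hom f ⟶ pullback U.hom f := ((EtCoh.bc f).map (k ≫ π0)).left
        have hb1 : bcl ≫ pullback.fst U.hom f = pullback.fst W.hom f ≫ (k ≫ π0).left :=
          bc_map_left_fst f (k ≫ π0)
        have h1 : (pullback.fst U.hom f).base (bcl.base z) ∈ Z := by
          rw [← hσ2, Scheme.Hom.comp_apply]
          exact ⟨_, rfl⟩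
        have h2 : (pullback.fst U.hom f).base (bcl.base z) ∉ Z := by
          rw [← Scheme.Hom.comp_apply, hb1, Scheme.Hom.comp_apply]
          change (k.left ≫ V0.ι).base _ ∉ Z
          rw [Scheme.Hom.comp_apply]
          exact (k.left.base _).2
        exact h2 h1⟩
      exact ST.bot_mem_of_isEmpty _

end Groth.Agent.H7.PropABC
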