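import Mathlib
import Groth.Prelude.Def_AlgSp4
import Groth.Agent.Lib.Helper5.AlgSp.Proper
import Groth.Agent.Lib.Helper5.AlgSp.Points

set_option autoImplicit false
universe u
open CategoryTheory CategoryTheory.Limits AlgebraicGeometry Opposite

namespace Groth.Agent.H7.PropCl

open _root_.AlgSp Groth.Agent.H5.AlgSp

theorem S10761_main {S : Scheme.{u}} {X Y X' Y' Z Z' : AlgSp.Space S}
    (f : X ⟶ Y) (g : Y' ⟶ Y) (f' : X' ⟶ Y') (g' : X' ⟶ X)
    (hsq : IsPullback g'.hom f'.hom f.hom g.hom)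
    (hf : AlgSp.LocP @LocallyOfFiniteType f.hom)
    (i : Z ⟶ X) (hi : AlgSp.RepWith @IsClosedImmersion i.hom) (hZ : AlgSp.IsProperMor (i ≫ f).hom)
    (i' : Z' ⟶ X') (q : Z' ⟶ Z) (hsq' : IsPullback q.hom i'.hom i.hom g'.hom) :
    AlgSp.IsProperMor (i' ≫ f').hom ∧
      Set.range (AlgSp.Points.map i'.hom) = AlgSp.Points.map g'.hom ⁻¹' Set.range (AlgSp.Points.map i.hom) := by
  constructor
  · have sq : IsPullback q.hom (i'.hom ≫ f'.hom) (i.hom ≫ f.hom) g.hom := hsq'.paste_vert hsq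
    exact isProperMor_of_isPullback sq Z.property Y.property Y'.property hZ
  · ext x'
    constructor
    · rintro ⟨z', rfl⟩
      refine ⟨Points.map q.hom z', ?_⟩
      rw [← Points.map_comp, ← Points.map_comp, hsq'.w]
    · rintro ⟨z, hz⟩
      obtain ⟨z', -, hz'⟩ := points_pullback_surjective hsq' z x' hz
      exact ⟨z', hz'⟩

end Groth.Agent.H7.PropCl
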