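import Mathlib
import Groth.Prelude.Def_AlgSp4
import Groth.Agent.Lib.Helper5.AlgSp.Proper
import Groth.Agent.Lib.Helper5.AlgSp.Points

set_option autoImplicit false
universe u
open CategoryTheory CategoryTheory.Limits AlgebraicGeometry Opposite

namespace Groth.Agent.H7.PropCl2

open _root_.AlgSp Groth.Agent.H5.AlgSp

theorem S10764_main {S : Scheme.{u}} {X Y B Z Z' : AlgSp.Space S}
    (a : X ⟶ B) (b : Y ⟶ B) (f : X ⟶ Y) (hcomm : f ≫ b = a)
    (hfp : AlgSp.IsProperMor f.hom)
    (i : Z ⟶ Y) (hZ : AlgSp.IsProperMor (i ≫ b).hom)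
    (i' : Z' ⟶ X) (q : Z' ⟶ Z) (hsq : IsPullback q.hom i'.hom i.hom f.hom) :
    AlgSp.IsProperMor (i' ≫ a).hom ∧
      Set.range (AlgSp.Points.map i'.hom) = AlgSp.Points.map f.hom ⁻¹' Set.range (AlgSp.Points.map i.hom) := by
  constructor
  · have hq : IsProperMor q.hom :=
      isProperMor_of_isPullback hsq.flip X.property Y.property Z.property hfp
    have h := isProperMor_comp Z'.property Z.property B.property hq hZ
    have e : (i' ≫ a).hom = q.hom ≫ (i ≫ b).hom := by
      subst hcomm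
      change i'.hom ≫ f.hom ≫ b.hom = q.hom ≫ i.hom ≫ b.hom
      rw [← Category.assoc, ← hsq.w, Category.assoc]
    rw [e]; exact h
  · ext x'
    constructor
    · rintro ⟨z', rfl⟩
      refine ⟨Points.map q.hom z', ?_⟩
      rw [← Points.map_comp, ← Points.map_comp, hsq.w]
    · rintro ⟨z, hz⟩
      obtain ⟨z', -, hz'⟩ := points_pullback_surjective hsq z x' hz
      exact ⟨z', hz'⟩

end Groth.Agent.H7.PropCl2
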