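import Mathlib
import Groth.Prelude.Def_AlgSp4
import Groth.Prelude.Def_AlgSpSub
import Groth.Agent.Lib.Helper5.AlgSp.Proper
import Groth.Agent.Lib.Helper5.AlgSp.Points
import Groth.Agent.Lib.Helper5.AlgSp.SchImageProper
import Groth.Agent.Lib.Helper5.AlgSp.UnivClosed2
import Groth.Agent.Lib.Helper5.AlgSp.RedInduced

set_option autoImplicit false
universe u
open CategoryTheory CategoryTheory.Limits AlgebraicGeometry Opposite

namespace Groth.Agent.H7.PropCl3

open _root_.AlgSp Groth.Agent.H5.AlgSp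

variable {S : Scheme.{u}}

/-- Image of a space proper over `B` under a universally closed morphism to a space locally of
finite type over `B`: the scheme theoretic image is proper over `B` and the source surjects
onto it. -/
theorem image_proper_of_univClosed {Z Y B : Sp S} (hZ : IsAlgSpace Z) (hY : IsAlgSpace Y)
    (hB : IsAlgSpace B) (h : Z ⟶ Y) (b : Y ⟶ B) (hb : LocP @LocallyOfFiniteType b)
    (hp : IsProperMor (h ≫ b)) (hh : IsUnivClosedMor h) :
    ∃ (Z' : Sp S) (_ : IsAlgSpace Z') (i' : Z' ⟶ Y), RepWith @IsClosedImmersion i' ∧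
      Set.range (Points.map i') = Set.range (Points.map h) ∧ IsProperMor (i' ≫ b) := by
  have hqc : IsQuasiCompactMor h := isQuasiCompactMor_of_isUnivClosedMor hZ hY hh
  have hc := hasQCCovers_of_isQuasiCompactMor h hqc
  have hZ' : IsAlgSpace (schImg hc) := isAlgSpace_schImg hc hY
  have hZi : IsSchImage h (schImgι hc) := isSchImage_schImgι hc hY
  obtain ⟨h', fac⟩ := exists_fac_schImg hc
  have hi := hZi.1
  have him : Mono (schImgι hc) := mono_of_repWith_isClosedImmersion hi
  have hip : IsProperMor (schImgι hc) := isProperMor_of_isClosedImmersion hi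
  have hcl : IsClosedMap (Points.map h) :=
    hh hY (𝟙 Y) (𝟙 Z) h (IsPullback.of_horiz_isIso ⟨by simp⟩)
  have hs : IsSurjectiveMor h' := by
    intro z
    have hz := range_subset_closure_of_isSchImage hY hqc hZi ⟨z, rfl⟩
    rw [hcl.isClosed_range.closure_eq] at hz
    obtain ⟨x, hx⟩ := hz
    refine ⟨x, points_map_injective_of_mono (schImgι hc) ?_⟩
    rw [← Points.map_comp, fac, hx]
  -- `h'` is universally closed, as a base change of `h` along the monomorphism `i'`
  have sq : IsPullback (𝟙 Z) h' h (schImgι hc) := by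
    refine ⟨⟨by rw [Category.id_comp, fac]⟩, ⟨PullbackCone.IsLimit.mk _ (fun s => s.fst) ?_ ?_ ?_⟩⟩
    · intro s; simp
    · intro s
      rw [← cancel_mono (schImgι hc), Category.assoc, fac]
      exact s.condition
    · intro s m hm _
      simpa using hm
  have hh' : IsUnivClosedMor h' := univSp_of_isPullback sq hh
  have e : h' ≫ schImgι hc ≫ b = h ≫ b := by rw [← Category.assoc, fac]
  refine ⟨schImg hc, hZ', schImgι hc, hi, ?_, ?_, ⟨?_, ?_⟩, ?_⟩
  · apply Set.Subset.antisymm
    · rintro _ ⟨z', rfl⟩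
      obtain ⟨z, rfl⟩ := hs z'
      refine ⟨z, ?_⟩
      have := Points.map_comp h' (schImgι hc) z
      rw [fac] at this
      exact this
    · rintro _ ⟨z, rfl⟩
      exact ⟨Points.map h' z, by rw [← Points.map_comp, fac]⟩
  · apply isSeparatedMor_of_surjective_univClosed hZ hZ' hB hs hh'
    rw [e]; exact hp.1
  · exact locP_comp etale_le_lft hZ' hY hB hip.2.1.1 hb
  · apply isQuasiCompactMor_of_comp_surjective hZ' hB hs
    rw [e]; exact hp.2.1.2
  · apply isUnivClosedMor_of_comp_surjective hs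
    rw [e]; exact hp.2.2

theorem range_comp {X Y Z : Sp S} (i : Z ⟶ X) (f : X ⟶ Y) :
    Set.range (Points.map (i ≫ f)) = Points.map f '' Set.range (Points.map i) := by
  ext y
  constructor
  · rintro ⟨z, rfl⟩
    exact ⟨Points.map i z, ⟨z, rfl⟩, (Points.map_comp i f z).symm⟩
  · rintro ⟨_, ⟨z, rfl⟩, rfl⟩
    exact ⟨z, Points.map_comp i f z⟩

theorem main {X Y B Z : AlgSp.Space S}
    (a : X ⟶ B) (b : Y ⟶ B) (f : X ⟶ Y) (hcomm : f ≫ b = a)
    (hb : AlgSp.LocP @LocallyOfFiniteType b.hom)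
    (i : Z ⟶ X) (hZ : AlgSp.IsProperMor (i ≫ a).hom)
    (hh : IsUnivClosedMor (i ≫ f).hom) :
    IsClosed (AlgSp.Points.map f.hom '' Set.range (AlgSp.Points.map i.hom)) ∧
      ∃ (Z' : AlgSp.Space S) (i' : Z' ⟶ Y), AlgSp.RepWith @IsClosedImmersion i'.hom ∧
        Set.range (AlgSp.Points.map i'.hom) = AlgSp.Points.map f.hom '' Set.range (AlgSp.Points.map i.hom) ∧
        AlgSp.IsProperMor (i' ≫ b).hom := by
  have hp : IsProperMor ((i ≫ f).hom ≫ b.hom) := by
    subst hcomm
    exact hZ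
  obtain ⟨Z', hZ', i', hi', hr, hpr⟩ :=
    image_proper_of_univClosed Z.property Y.property B.property (i ≫ f).hom b.hom hb hp hh
  have hr' : Set.range (Points.map i') = Points.map f.hom '' Set.range (Points.map i.hom) := by
    rw [hr]; exact range_comp i.hom f.hom
  refine ⟨?_, ⟨Z', hZ'⟩, ObjectProperty.homMk i', hi', hr', hpr⟩
  rw [← hr']
  exact isClosed_range_points_map_of_isClosedImmersion Y.property i' hi'

theorem S10762_main {X Y B Z : AlgSp.Space S}
    (a : X ⟶ B) (b : Y ⟶ B) (f : X ⟶ Y) (hcomm : f ≫ b = a)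
    (hb : AlgSp.LocP @LocallyOfFiniteType b.hom)
    (hbs : AlgSp.IsSeparatedMor b.hom)
    (i : Z ⟶ X) (hZ : AlgSp.IsProperMor (i ≫ a).hom) :
    IsClosed (AlgSp.Points.map f.hom '' Set.range (AlgSp.Points.map i.hom)) ∧
      ∃ (Z' : AlgSp.Space S) (i' : Z' ⟶ Y), AlgSp.RepWith @IsClosedImmersion i'.hom ∧
        Set.range (AlgSp.Points.map i'.hom) = AlgSp.Points.map f.hom '' Set.range (AlgSp.Points.map i.hom) ∧
        AlgSp.IsProperMor (i' ≫ b).hom := by
  refine main a b f hcomm hb i hZ ?_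
  have : IsProperMor (i ≫ f).hom :=
    isProperMor_of_comp_of_isSeparatedMor Z.property Y.property B.property hbs (by
      subst hcomm
      exact hZ)
  exact this.2.2

theorem S10763_main {X Y B Z : AlgSp.Space S}
    (a : X ⟶ B) (b : Y ⟶ B) (f : X ⟶ Y) (hcomm : f ≫ b = a)
    (hb : AlgSp.LocP @LocallyOfFiniteType b.hom)
    (hfc : AlgSp.IsUnivClosedMor f.hom)
    (i : Z ⟶ X) (hi : AlgSp.RepWith @IsClosedImmersion i.hom) (hZ : AlgSp.IsProperMor (i ≫ a).hom) :
    IsClosed (AlgSp.Points.map f.hom '' Set.range (AlgSp.Points.map i.hom)) ∧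
      ∃ (Z' : AlgSp.Space S) (i' : Z' ⟶ Y), AlgSp.RepWith @IsClosedImmersion i'.hom ∧
        Set.range (AlgSp.Points.map i'.hom) = AlgSp.Points.map f.hom '' Set.range (AlgSp.Points.map i.hom) ∧
        AlgSp.IsProperMor (i' ≫ b).hom := by
  refine main a b f hcomm hb i hZ ?_
  exact isUnivClosedMor_comp X.property Y.property (isProperMor_of_isClosedImmersion hi).2.2 hfc

end Groth.Agent.H7.PropCl3
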