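import Mathlib
import Groth.Prelude.Def_AlgSp4
import Groth.Agent.Lib.Helper5.AlgSp.Proper
import Groth.Agent.Lib.Helper5.AlgSp.Points
import Groth.Agent.Lib.Helper5.AlgSp.UnivClosed2
import Groth.Agent.Lib.Helper5.AlgSp.FibreProduct

set_option autoImplicit false
universe u
open CategoryTheory CategoryTheory.Limits AlgebraicGeometry Opposite

namespace Groth.Agent.H7.PropCl4

open _root_.AlgSp Groth.Agent.H5.AlgSp

variable {S : Scheme.{u}}

/-- Properness descends along a surjective closed immersion (more generally a surjective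
universally closed morphism) when the target is locally of finite type. -/
theorem isProperMor_of_surjective_univClosed {W Z Y : Sp S} (hW : IsAlgSpace W)
    (hZ : IsAlgSpace Z) (hY : IsAlgSpace Y) {p : W ⟶ Z} {g : Z ⟶ Y} (hs : IsSurjectiveMor p)
    (hc : IsUnivClosedMor p) (hg : LocP @LocallyOfFiniteType g) (hp : IsProperMor (p ≫ g)) :
    IsProperMor g :=
  ⟨isSeparatedMor_of_surjective_univClosed hW hZ hY hs hc hp.1,
    ⟨hg, isQuasiCompactMor_of_comp_surjective hZ hY hs hp.2.1.2⟩,
    isUnivClosedMor_of_comp_surjective hs hp.2.2⟩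

theorem S10760_sp {X Y Z Z' : Sp S} (hX : IsAlgSpace X) (hY : IsAlgSpace Y) (hZ : IsAlgSpace Z)
    (hZ' : IsAlgSpace Z')
    (f : X ⟶ Y) (hf : AlgSp.LocP @LocallyOfFiniteType f)
    (i : Z ⟶ X) (i' : Z' ⟶ X)
    (hi : AlgSp.RepWith @IsClosedImmersion i) (hi' : AlgSp.RepWith @IsClosedImmersion i')
    (heq : Set.range (AlgSp.Points.map i) = Set.range (AlgSp.Points.map i'))
    (hZp : AlgSp.IsProperMor (i ≫ f)) :
    AlgSp.IsProperMor (i' ≫ f) := by
  have sq := IsPullback.of_hasPullback i i'
  have hW : IsAlgSpace (pullback i i') := isAlgSpace_pullback hX.diag hZ hZ' sq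
  have h1 : RepWith @IsClosedImmersion (pullback.fst i i') :=
    MorphismProperty.of_isPullback (P := RepWith @IsClosedImmersion) sq.flip hi'
  have h2 : RepWith @IsClosedImmersion (pullback.snd i i') :=
    MorphismProperty.of_isPullback (P := RepWith @IsClosedImmersion) sq hi
  have hs : IsSurjectiveMor (pullback.snd i i') := by
    intro z'
    have : Points.map i' z' ∈ Set.range (Points.map i) := by rw [heq]; exact ⟨z', rfl⟩
    obtain ⟨z, hz⟩ := this
    obtain ⟨w, -, hw⟩ := points_pullback_surjective sq z z' hz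
    exact ⟨w, hw⟩
  have hp1 : IsProperMor (pullback.fst i i' ≫ i ≫ f) :=
    isProperMor_comp hW hZ hY (isProperMor_of_isClosedImmersion h1) hZp
  have e : pullback.snd i i' ≫ i' ≫ f = pullback.fst i i' ≫ i ≫ f := by
    rw [← Category.assoc, ← pullback.condition, Category.assoc]
  have hi'p := isProperMor_of_isClosedImmersion hi'
  refine isProperMor_of_surjective_univClosed hW hZ' hY hs
    (isProperMor_of_isClosedImmersion h2).2.2
    (locP_comp etale_le_lft hZ' hX hY hi'p.2.1.1 hf) ?_
  rw [e]; exact hp1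

theorem S10760_main {X Y Z Z' : AlgSp.Space S}
    (f : X ⟶ Y) (hf : AlgSp.LocP @LocallyOfFiniteType f.hom)
    (i : Z ⟶ X) (i' : Z' ⟶ X)
    (hi : AlgSp.RepWith @IsClosedImmersion i.hom) (hi' : AlgSp.RepWith @IsClosedImmersion i'.hom)
    (heq : Set.range (AlgSp.Points.map i.hom) = Set.range (AlgSp.Points.map i'.hom))
    (hZ : AlgSp.IsProperMor (i ≫ f).hom) :
    AlgSp.IsProperMor (i' ≫ f).hom :=
  S10760_sp X.property Y.property Z.property Z'.property f.hom hf i.hom i'.hom hi hi' heq hZ

end Groth.Agent.H7.PropCl4
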