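import Groth.Agent.Lib.Helper7.QFib7
import Groth.Agent.Lib.Helper7.LimAffB
import Groth.Agent.Lib.Helper5.AlgSp.SchImageProper
import Groth.Agent.Lib.Helper5.AlgSp.SchImageQC
import Groth.Agent.Lib.Helper5.AlgSp.Permanence
import Groth.Agent.Lib.Helper5.AlgSp.SepMor
import Mathlib

/-!
# S10651: the image of a proper space with finite fibre over a point lies in a closed subspace
finite over a neighbourhood of the point
-/

set_option autoImplicit false
universe u

open AlgebraicGeometry CategoryTheory Limits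

namespace Groth.Agent.H7.PropImg

open _root_.AlgSp Groth.Agent.H5.AlgSp Groth.Agent.H1.AlgSpDim Groth.Agent.H7.QFinSp
open Groth.Agent.H3.QFinFibre (QF FD0 hasAtMor_QF_iff)
open Groth.Agent.H7.QFib

variable {S : Scheme.{u}}

/-- every point of `Spec k` over a field point maps to the class of the field point. -/
theorem map_toHom_eq {B : Sp S} (k : FieldPt B) (t : Points ((yon S).obj k.pt)) :
    Points.map k.toHom t = Points.mk k := by
  rw [← Points.ofScheme_toScheme k.pt t, ← Points.ofPt_eq_map_ofScheme, Points.ofPt_toHom]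

/-- a separated morphism locally of finite type is quasi-finite at all points over `b` as soon as
one fibre over a field point in the class of `b` has finitely many points. -/
theorem hasAtMor_QF_of_finite_fieldFibre {Z B : Sp S} (hZ : IsAlgSpace Z) (hB : IsAlgSpace B)
    (q : Z ⟶ B) (hsep : IsSeparatedMor q) (hlft : LocP @LocallyOfFiniteType q)
    (k : FieldPt B) [Finite (Points (pullback q k.toHom))] (z : Points Z)
    (hz : Points.map q z = Points.mk k) : HasAtMor QF q z := by
  have sq := IsPullback.of_hasPullback q k.toHom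
  have hZk : IsAlgSpace (pullback q k.toHom) :=
    isAlgSpace_pullback hB.diag hZ (IsAlgSpace.yon_obj _) sq
  have hlft' : LocP @LocallyOfFiniteType (pullback.snd q k.toHom) :=
    locP_of_isPullback Groth.Agent.H5.AlgSp.etale_le_lft sq hZ hB (IsAlgSpace.yon_obj _) hlft
  have hqs : IsQuasiSeparatedMor (pullback.snd q k.toHom) :=
    repWith_diag_of_isPullback sq (repWith_mono isClosedImmersion_le_quasiCompact hsep)
  haveI : IsAffine k.pt.left := by
    show IsAffine (Spec (CommRingCat.of k.K))
    infer_instance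
  have hqsp : IsQuasiSeparatedSp (pullback q k.toHom) :=
    isQuasiSeparatedSp_of_isQuasiSeparatedMor hqs
      (Groth.Agent.H7.LimAff.isQuasiSeparatedSp_yon_of_isAffine k.pt)
  have hd : IsDecent (pullback q k.toHom) :=
    Groth.Agent.H3.Decent.isDecent_of_isQuasiSeparatedSp hZk hqsp
  haveI : DiscreteTopology (Points (pullback q k.toHom)) :=
    discreteTopology_of_finite_of_isDecent k.str (pullback.snd q k.toHom) hZk hd hlft'
  obtain ⟨zt, hzt, -⟩ := points_pullback_surjective sq z
    (Points.ofScheme k.pt (IsLocalRing.closedPoint k.K))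
    (by rw [← Points.ofPt_eq_map_ofScheme, Points.ofPt_toHom, hz])
  rw [← hzt]
  exact (hasAtMor_QF_iff_isOpen_singleton' hZ hB q hlft k _ _ sq zt).2 (isOpen_discrete _)

end Groth.Agent.H7.PropImg

namespace Groth.Agent.H7.PropImg

open _root_.AlgSp Groth.Agent.H5.AlgSp Groth.Agent.H1.AlgSpDim Groth.Agent.H7.QFinSp
open Groth.Agent.H3.QFinFibre (QF FD0 hasAtMor_QF_iff)
open Groth.Agent.H7.QFib

variable {S : Scheme.{u}}

/-- the core of S10651, for a given closed subspace `Z` of `Y` proper over `B` onto which `X`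
surjects. -/
theorem S10651_core {X Y B : AlgSp.Space S} (h : X ⟶ Y) (f : X ⟶ B) (g : Y ⟶ B)
    (hcomm : h.hom ≫ g.hom = f.hom)
    (b : AlgSp.Points B.obj) (k : AlgSp.FieldPt B.obj) (hk : AlgSp.Points.mk k = b)
    (h3 : (∀ (Yk : AlgSp.Sp S) (gY : Yk ⟶ Y.obj) (sY : Yk ⟶ (AlgSp.yon S).obj k.pt),
            IsPullback gY sY g.hom k.toHom →
            ∀ (Xk : AlgSp.Sp S) (gX : Xk ⟶ X.obj) (hk' : Xk ⟶ Yk), IsPullback gX hk' h.hom gY →
              (Set.range (AlgSp.Points.map hk')).Finite) ∨
          ((AlgSp.Points.map h.hom '' (AlgSp.Points.map f.hom ⁻¹' {b})).Finite ∧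
            AlgSp.IsDecent B.obj))
    {Z : Sp S} (hZ : IsAlgSpace Z) (i : Z ⟶ Y.obj) (hi : RepWith @IsClosedImmersion i)
    (h' : X.obj ⟶ Z) (fac : h' ≫ i = h.hom) (hZp : IsProperMor (i ≫ g.hom))
    (hs : IsSurjectiveMor h') :
    ∃ (B' : AlgSp.Space S) (j : B' ⟶ B), AlgSp.RepWith @IsOpenImmersion j.hom ∧
      b ∈ Set.range (AlgSp.Points.map j.hom) ∧
        ∀ (YB : AlgSp.Space S) (gY : YB ⟶ Y) (sY : YB ⟶ B'), IsPullback gY.hom sY.hom g.hom j.hom →
          ∀ (XB : AlgSp.Space S) (gX : XB ⟶ X) (hB : XB ⟶ YB),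
            IsPullback gX.hom hB.hom h.hom gY.hom →
            ∃ (Z : AlgSp.Space S) (i : Z ⟶ YB) (e : XB ⟶ Z),
              AlgSp.RepWith @IsClosedImmersion i.hom ∧
              AlgSp.IsFiniteMor (i ≫ sY).hom ∧ e ≫ i = hB := by
  have hX := X.property
  have hY := Y.property
  have hBa := B.property
  haveI him : Mono i := mono_of_repWith_isClosedImmersion hi
  have hfacp : ∀ x : Points X.obj, Points.map h.hom x = Points.map i (Points.map h' x) := by
    intro x
    rw [← Points.map_comp, fac]
  -- a field point in the class of `b` with finite fibre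
  obtain ⟨k₁, hk₁, hfin⟩ : ∃ k₁ : FieldPt B.obj, Points.mk k₁ = b ∧
      Finite (Points (pullback (i ≫ g.hom) k₁.toHom)) := by
    rcases h3 with h3 | ⟨hT, hBd⟩
    · refine ⟨k, hk, ?_⟩
      have hfinR := h3 _ _ _ (IsPullback.of_hasPullback g.hom k.toHom) _ _ _
        (IsPullback.of_hasPullback h.hom (pullback.fst g.hom k.toHom))
      let φ : pullback (i ≫ g.hom) k.toHom ⟶ pullback g.hom k.toHom :=
        pullback.lift (pullback.fst (i ≫ g.hom) k.toHom ≫ i) (pullback.snd (i ≫ g.hom) k.toHom)
          (by rw [Category.assoc]; exact pullback.condition)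
      have hφ1 : φ ≫ pullback.fst g.hom k.toHom = pullback.fst (i ≫ g.hom) k.toHom ≫ i :=
        pullback.lift_fst _ _ _
      have hφ2 : φ ≫ pullback.snd g.hom k.toHom = pullback.snd (i ≫ g.hom) k.toHom :=
        pullback.lift_snd _ _ _
      haveI : Mono φ := by
        constructor
        intro T a c hac
        apply pullback.hom_ext
        · rw [← cancel_mono i, Category.assoc, Category.assoc, ← hφ1, ← Category.assoc,
            ← Category.assoc, hac]
        · rw [← hφ2, ← Category.assoc, ← Category.assoc, hac]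
      have hmem : ∀ z : Points (pullback (i ≫ g.hom) k.toHom),
          Points.map φ z ∈ Set.range (Points.map
            (pullback.snd h.hom (pullback.fst g.hom k.toHom))) := by
        intro z
        obtain ⟨x, hx⟩ := hs (Points.map (pullback.fst (i ≫ g.hom) k.toHom) z)
        obtain ⟨w, -, hw⟩ := points_pullback_surjective
          (IsPullback.of_hasPullback h.hom (pullback.fst g.hom k.toHom)) x (Points.map φ z) (by
            rw [hfacp, hx, ← Points.map_comp, ← Points.map_comp, hφ1])
        exact ⟨w, hw⟩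
      haveI := hfinR.to_subtype
      exact Finite.of_injective (fun z => (⟨Points.map φ z, hmem z⟩ :
        ↥(Set.range (Points.map (pullback.snd h.hom (pullback.fst g.hom k.toHom)))))) (by
          intro z z' hzz'
          exact points_map_injective_of_mono φ (Subtype.ext_iff.1 hzz'))
    · obtain ⟨k₁, hk₁, hmono, -⟩ := hBd b
      refine ⟨k₁, hk₁, ?_⟩
      haveI := hmono
      have hmem : ∀ z : Points (pullback (i ≫ g.hom) k₁.toHom),
          Points.map i (Points.map (pullback.fst (i ≫ g.hom) k₁.toHom) z) ∈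
            Points.map h.hom '' (Points.map f.hom ⁻¹' {b}) := by
        intro z
        obtain ⟨x, hx⟩ := hs (Points.map (pullback.fst (i ≫ g.hom) k₁.toHom) z)
        refine ⟨x, ?_, ?_⟩
        · show Points.map f.hom x = b
          rw [← hcomm, Points.map_comp, hfacp, hx, ← Points.map_comp, ← Points.map_comp,
            pullback.condition, Points.map_comp, map_toHom_eq, hk₁]
        · rw [hfacp, hx]
      haveI := hT.to_subtype
      exact Finite.of_injective (fun z => (⟨_, hmem z⟩ :
        ↥(Points.map h.hom '' (Points.map f.hom ⁻¹' {b})))) (by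
          intro z z' hzz'
          exact points_map_injective_of_mono (pullback.fst (i ≫ g.hom) k₁.toHom)
            (points_map_injective_of_mono i (Subtype.ext_iff.1 hzz')))
  haveI := hfin
  -- quasi-finiteness over `b`
  have hqlft : LocP @LocallyOfFiniteType (i ≫ g.hom) := hZp.2.1.1
  have hQF : ∀ z : Points Z, Points.map (i ≫ g.hom) z = b → HasAtMor QF (i ≫ g.hom) z :=
    fun z hz => hasAtMor_QF_of_finite_fieldFibre hZ hBa (i ≫ g.hom) hZp.1 hqlft k₁ z
      (hz.trans hk₁.symm)
  -- the neighbourhood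
  let Zs : AlgSp.Space S := ⟨Z, hZ⟩
  let qs : Zs ⟶ B := ObjectProperty.homMk (i ≫ g.hom)
  obtain ⟨B', j, hj, hbj, hfinB⟩ := S10650_main qs b hZp hQF
  refine ⟨B', j, hj, hbj, ?_⟩
  intro YB gY sY sqY XB gX hB sqX
  have sqZ := IsPullback.of_hasPullback i gY.hom
  have hZ' : IsAlgSpace (pullback i gY.hom) :=
    isAlgSpace_pullback hY.diag hZ YB.property sqZ
  let Z's : AlgSp.Space S := ⟨pullback i gY.hom, hZ'⟩
  let i' : Z's ⟶ YB := ObjectProperty.homMk (pullback.snd i gY.hom)
  let e : XB ⟶ Z's := ObjectProperty.homMk (pullback.lift (gX.hom ≫ h') hB.hom (by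
    rw [Category.assoc, fac]; exact sqX.w))
  refine ⟨Z's, i', e, ?_, ?_, ?_⟩
  · exact MorphismProperty.of_isPullback (P := RepWith @IsClosedImmersion) sqZ hi
  · have hpaste : IsPullback (pullback.fst i gY.hom) (pullback.snd i gY.hom ≫ sY.hom)
        (i ≫ g.hom) j.hom := sqZ.paste_vert sqY
    exact hfinB Z's (ObjectProperty.homMk (pullback.fst i gY.hom)) (i' ≫ sY) hpaste
  · apply ObjectProperty.hom_ext
    exact pullback.lift_snd _ _ _

theorem S10651_main {X Y B : AlgSp.Space S} (h : X ⟶ Y) (f : X ⟶ B) (g : Y ⟶ B) (hc : h ≫ g = f)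
    (b : AlgSp.Points B.obj) (k : AlgSp.FieldPt B.obj) (hk : AlgSp.Points.mk k = b)
    (hf : AlgSp.IsProperMor f.hom) (hg1 : AlgSp.IsSeparatedMor g.hom)
    (hg2 : AlgSp.LocP @LocallyOfFiniteType g.hom)
    (h3 : (∀ (Yk : AlgSp.Sp S) (gY : Yk ⟶ Y.obj) (sY : Yk ⟶ (AlgSp.yon S).obj k.pt),
            IsPullback gY sY g.hom k.toHom →
            ∀ (Xk : AlgSp.Sp S) (gX : Xk ⟶ X.obj) (hk' : Xk ⟶ Yk), IsPullback gX hk' h.hom gY →
              (Set.range (AlgSp.Points.map hk')).Finite) ∨
          ((AlgSp.Points.map h.hom '' (AlgSp.Points.map f.hom ⁻¹' {b})).Finite ∧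
            AlgSp.IsDecent B.obj)) :
    ∃ (B' : AlgSp.Space S) (j : B' ⟶ B), AlgSp.RepWith @IsOpenImmersion j.hom ∧
      b ∈ Set.range (AlgSp.Points.map j.hom) ∧
        ∀ (YB : AlgSp.Space S) (gY : YB ⟶ Y) (sY : YB ⟶ B'), IsPullback gY.hom sY.hom g.hom j.hom →
          ∀ (XB : AlgSp.Space S) (gX : XB ⟶ X) (hB : XB ⟶ YB),
            IsPullback gX.hom hB.hom h.hom gY.hom →
            ∃ (Z : AlgSp.Space S) (i : Z ⟶ YB) (e : XB ⟶ Z),
              AlgSp.RepWith @IsClosedImmersion i.hom ∧
              AlgSp.IsFiniteMor (i ≫ sY).hom ∧ e ≫ i = hB := by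
  have hX := X.property
  have hY := Y.property
  have hBa := B.property
  have hcomm : h.hom ≫ g.hom = f.hom := by rw [← hc]; rfl
  have hhp : IsProperMor h.hom :=
    isProperMor_of_comp_of_isSeparatedMor hX hY hBa hg1 (by rw [hcomm]; exact hf)
  have hcov := hasQCCovers_of_isQuasiCompactMor h.hom hhp.2.1.2
  have hZ : IsAlgSpace (schImg hcov) := isAlgSpace_schImg hcov hY
  have hi : RepWith @IsClosedImmersion (schImgι hcov) := repWith_isClosedImmersion_schImgι hcov hY
  obtain ⟨h', fac⟩ := exists_fac_schImg hcov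
  obtain ⟨hZp, hs⟩ := isProperMor_schImage_of_isProperMor hX hY hZ hBa h.hom f.hom g.hom hcomm hf
    hg1 hg2 (schImgι hcov) (isSchImage_schImgι hcov hY) h' fac
  exact S10651_core h f g hcomm b k hk h3 hZ (schImgι hcov) hi h' fac hZp hs

end Groth.Agent.H7.PropImg
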