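import Mathlib
import Groth.Prelude.Def_AlgSp4
import Groth.Prelude.Def_AlgSpSub
import Groth.Agent.Lib.Helper5.AlgSp.Proper
import Groth.Agent.Lib.Helper5.AlgSp.Points
import Groth.Agent.Lib.Helper5.AlgSp.UnivClosed2
import Groth.Agent.Lib.Helper5.AlgSp.RedInduced
import Groth.Agent.Lib.Helper5.AlgSp.FibreProduct
import Groth.Agent.Lib.Helper7.PropCl4

set_option autoImplicit false
universe u
open CategoryTheory CategoryTheory.Limits AlgebraicGeometry Opposite

namespace Groth.Agent.H7.PropUnion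

open _root_.AlgSp Groth.Agent.H5.AlgSp

variable {S : Scheme.{u}}

section Family

variable {ι : Type*} {Z : ι → Sp S} {W : Sp S} (p : ∀ k, Z k ⟶ W)

/-- The family `p` is jointly surjective on points. -/
def JS : Prop := ∀ w : Points W, ∃ k, ∃ z : Points (Z k), Points.map (p k) z = w

variable {p}

lemma js_pullback {W' : Sp S} (a : W' ⟶ W) (hs : JS p) :
    JS (fun k => pullback.snd (p k) a) := by
  intro w'
  obtain ⟨k, z, hz⟩ := hs (Points.map a w')
  obtain ⟨t, -, ht⟩ := points_pullback_surjective (IsPullback.of_hasPullback (p k) a) z w' hz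
  exact ⟨k, t, ht⟩

lemma isClosedMap_of_js [Finite ι] {V : Sp S} {f : W ⟶ V} (hs : JS p)
    (h : ∀ k, IsClosedMap (Points.map (p k ≫ f))) : IsClosedMap (Points.map f) := by
  intro C hC
  have : Points.map f '' C = ⋃ k, Points.map (p k ≫ f) '' (Points.map (p k) ⁻¹' C) := by
    ext y
    simp only [Set.mem_image, Set.mem_iUnion, Set.mem_preimage]
    constructor
    · rintro ⟨x, hx, rfl⟩
      obtain ⟨k, z, rfl⟩ := hs x
      exact ⟨k, z, hx, Points.map_comp (p k) f z⟩
    · rintro ⟨k, z, hz, rfl⟩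
      exact ⟨Points.map (p k) z, hz, (Points.map_comp (p k) f z).symm⟩
  rw [this]
  exact isClosed_iUnion_of_finite fun k => h k _ (hC.preimage (Points.continuous_map (p k)))

theorem isUnivClosedMor_of_js [Finite ι] {V : Sp S} {g : W ⟶ V} (hs : JS p)
    (h : ∀ k, IsUnivClosedMor (p k ≫ g)) : IsUnivClosedMor g := by
  intro A A' hA a fst snd sq
  have big : ∀ k, IsPullback (pullback.fst (p k) fst) (pullback.snd (p k) fst ≫ snd) (p k ≫ g) a :=
    fun k => (IsPullback.of_hasPullback (p k) fst).paste_vert sq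
  have h1 : ∀ k, IsClosedMap (Points.map (pullback.snd (p k) fst ≫ snd)) :=
    fun k => h k hA a _ _ (big k)
  exact isClosedMap_of_js (p := fun k => pullback.snd (p k) fst) (js_pullback fst hs) h1

theorem isQuasiCompactMor_of_js [Finite ι] {V : Sp S} (hZ : ∀ k, IsAlgSpace (Z k))
    (hW : IsAlgSpace W) (hV : IsAlgSpace V) {g : W ⟶ V} (hs : JS p)
    (h : ∀ k, IsQuasiCompactMor (p k ≫ g)) : IsQuasiCompactMor g := by
  intro A A' hA hAc a fst snd sq
  have hA' : IsAlgSpace A' := isAlgSpace_pullback hV.diag hW hA sq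
  have big : ∀ k, IsPullback (pullback.fst (p k) fst) (pullback.snd (p k) fst ≫ snd) (p k ≫ g) a :=
    fun k => (IsPullback.of_hasPullback (p k) fst).paste_vert sq
  have h1 : ∀ k, IsQuasiCompactSp (pullback (p k) fst) := fun k => h k hA hAc a _ _ (big k)
  have hP : ∀ k, IsAlgSpace (pullback (p k) fst) := fun k =>
    isAlgSpace_pullback hW.diag (hZ k) hA' (IsPullback.of_hasPullback _ _)
  have hc : ∀ k, CompactSpace (Points (pullback (p k) fst)) := fun k =>
    (isQuasiCompactSp_iff_compactSpace (hP k)).1 (h1 k)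
  rw [isQuasiCompactSp_iff_compactSpace hA']
  constructor
  have hun : (Set.univ : Set (Points A')) =
      ⋃ k, Set.range (Points.map (pullback.snd (p k) fst)) := by
    ext w
    simp only [Set.mem_univ, Set.mem_iUnion, Set.mem_range, true_iff]
    exact js_pullback fst hs w
  rw [hun]
  exact isCompact_iUnion fun k => isCompact_range (Points.continuous_map _)

theorem isSeparatedMor_of_js [Finite ι] {V : Sp S} (hZ : ∀ k, IsAlgSpace (Z k))
    (hW : IsAlgSpace W) (hV : IsAlgSpace V) {g : W ⟶ V} (hs : JS p)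
    (hc : ∀ k, IsUnivClosedMor (p k)) (h : ∀ k, IsSeparatedMor (p k ≫ g)) :
    IsSeparatedMor g := by
  obtain ⟨hrep, h1, h2, h3, -⟩ := repWith_relDiag_of_isAlgSpace hW g
  have hYY : IsAlgSpace (pullback g g) :=
    isAlgSpace_pullback hV.diag hW hW (IsPullback.of_hasPullback _ _)
  have hk : ∀ k, IsUnivClosedMor (p k ≫ pullback.diagonal g) := by
    intro k
    have hXX : IsAlgSpace (pullback (p k ≫ g) (p k ≫ g)) :=
      isAlgSpace_pullback hV.diag (hZ k) (hZ k) (IsPullback.of_hasPullback _ _)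
    have hΔp : IsUnivClosedMor (pullback.diagonal (p k ≫ g)) :=
      isUnivClosedMor_of_repWith (repWith_mono (fun _ _ g hg => by
        have : IsClosedImmersion g := hg
        exact (inferInstance : UniversallyClosed g)) (h k))
    have hcomp := isUnivClosedMor_comp hXX hYY hΔp (isUnivClosedMor_map_map (hZ k) hW hV g (hc k))
    rw [diagonal_comp_map_map] at hcomp
    exact hcomp
  have hΔq : IsUnivClosedMor (pullback.diagonal g) := isUnivClosedMor_of_js hs hk
  exact repWith_isClosedImmersion_of_univClosed h1 h2 h3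
    ((repWith_universallyClosed_iff hrep).2 hΔq)

end Family


theorem S10765_sp {X Y : Sp S} (hX : IsAlgSpace X) (hY : IsAlgSpace Y)
    (f : X ⟶ Y) (hf : AlgSp.LocP @LocallyOfFiniteType f)
    {n : ℕ} (Z : Fin n → Sp S) (hZa : ∀ k, IsAlgSpace (Z k)) (i : ∀ k, Z k ⟶ X)
    (hi : ∀ k, AlgSp.RepWith @IsClosedImmersion (i k)) (hZ : ∀ k, AlgSp.IsProperMor (i k ≫ f)) :
    ∃ (W : Sp S) (_ : IsAlgSpace W) (j : W ⟶ X), AlgSp.RepWith @IsClosedImmersion j ∧
      Set.range (AlgSp.Points.map j) = ⋃ k, Set.range (AlgSp.Points.map (i k)) ∧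
      AlgSp.IsProperMor (j ≫ f) := by
  -- reduced structures on the pieces
  have hTk : ∀ k, IsClosed (Set.range (Points.map (i k))) := fun k =>
    isClosed_range_points_map_of_isClosedImmersion hX (i k) (hi k)
  choose Z' i' hZ'a hi' using fun k => exists_isRedInduced hX _ (hTk k)
  have hi'p : ∀ k, IsProperMor (i' k ≫ f) := fun k =>
    Groth.Agent.H7.PropCl4.S10760_sp hX hY (hZa k) (hZ'a k) f hf (i k) (i' k) (hi k) (hi' k).1
      (hi' k).2.1.symm (hZ k)
  -- the union
  have hT : IsClosed (⋃ k, Set.range (Points.map (i k))) := isClosed_iUnion_of_finite hTk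
  obtain ⟨W, j, hWa, hj, hjr, -⟩ := exists_isRedInduced hX _ hT
  have hjm : Mono j := mono_of_repWith_isClosedImmersion hj
  have hsub : ∀ k, Set.range (Points.map (i' k)) ⊆ Set.range (Points.map j) := by
    intro k
    rw [hjr, (hi' k).2.1]
    exact Set.subset_iUnion (fun k => Set.range (Points.map (i k))) k
  choose p hp using fun k => exists_lift_closed_of_isReducedSp j hj (hi' k).2.2 (i' k) (hsub k)
  have hs : JS p := by
    intro w
    have : Points.map j w ∈ ⋃ k, Set.range (Points.map (i k)) := by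
      rw [← hjr]; exact ⟨w, rfl⟩
    obtain ⟨k, hk⟩ := Set.mem_iUnion.1 this
    rw [← (hi' k).2.1] at hk
    obtain ⟨z, hz⟩ := hk
    refine ⟨k, z, points_map_injective_of_mono j ?_⟩
    rw [← Points.map_comp, hp k, hz]
  -- `p k` is a closed immersion, as a base change of `i' k` along the monomorphism `j`
  have hpc : ∀ k, RepWith @IsClosedImmersion (p k) := by
    intro k
    have sq : IsPullback (𝟙 (Z' k)) (p k) (i' k) j := by
      refine ⟨⟨by rw [Category.id_comp, hp k]⟩,
        ⟨PullbackCone.IsLimit.mk _ (fun s => s.fst) ?_ ?_ ?_⟩⟩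
      · intro s; simp
      · intro s
        rw [← cancel_mono j, Category.assoc, hp k]
        exact s.condition
      · intro s m hm _
        simpa using hm
    exact (RepWith @IsClosedImmersion).of_isPullback sq (hi' k).1
  have e : ∀ k, p k ≫ j ≫ f = i' k ≫ f := fun k => by rw [← Category.assoc, hp k]
  refine ⟨W, hWa, j, hj, hjr, ?_, ⟨?_, ?_⟩, ?_⟩
  · apply isSeparatedMor_of_js hZ'a hWa hY hs
      (fun k => (isProperMor_of_isClosedImmersion (hpc k)).2.2)
    intro k; rw [e k]; exact (hi'p k).1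
  · exact locP_comp etale_le_lft hWa hX hY (isProperMor_of_isClosedImmersion hj).2.1.1 hf
  · apply isQuasiCompactMor_of_js hZ'a hWa hY hs
    intro k; rw [e k]; exact (hi'p k).2.1.2
  · apply isUnivClosedMor_of_js hs
    intro k; rw [e k]; exact (hi'p k).2.2

theorem S10765_main {X Y : AlgSp.Space S}
    (f : X ⟶ Y) (hf : AlgSp.LocP @LocallyOfFiniteType f.hom)
    {n : ℕ} (Z : Fin n → AlgSp.Space S) (i : ∀ k, Z k ⟶ X)
    (hi : ∀ k, AlgSp.RepWith @IsClosedImmersion (i k).hom) (hZ : ∀ k, AlgSp.IsProperMor (i k ≫ f).hom) :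
    ∃ (W : AlgSp.Space S) (j : W ⟶ X), AlgSp.RepWith @IsClosedImmersion j.hom ∧
      Set.range (AlgSp.Points.map j.hom) = ⋃ k, Set.range (AlgSp.Points.map (i k).hom) ∧
      AlgSp.IsProperMor (j ≫ f).hom := by
  obtain ⟨W, hW, j, hj, hr, hp⟩ := S10765_sp X.property Y.property f.hom hf (fun k => (Z k).obj)
    (fun k => (Z k).property) (fun k => (i k).hom) hi hZ
  exact ⟨⟨W, hW⟩, ObjectProperty.homMk j, hj, hr, hp⟩

end Groth.Agent.H7.PropUnion
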