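import Mathlib

/-! The Cartier coefficient identity `[y^{pm-1}] (F^{p-1} F') = m (F_m)^p` in characteristic `p`
(helper7). -/

set_option autoImplicit false

namespace Groth.Agent.H7.PthRoot

open Polynomial

section lift

variable (p : ℕ) [hp : Fact p.Prime]

/-- over a `p`-torsion-free domain: `[y^{pm-1}] (G^{p-1} G') = [y^{pm}] (G^p) * m` -/
lemma coeff_lift {Z : Type*} [CommRing Z] [IsDomain Z] [CharZero Z] (G : Z[X]) (m : ℕ)
    (hm : 1 ≤ m) :
    (G ^ (p - 1) * derivative G).coeff (p * m - 1) = (G ^ p).coeff (p * m) * (m : Z) := by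
  have hp0 : (p : Z) ≠ 0 := by exact_mod_cast hp.out.ne_zero
  apply mul_left_cancel₀ hp0
  have hpm : 1 ≤ p * m := Nat.one_le_iff_ne_zero.2 (Nat.mul_ne_zero hp.out.ne_zero (by omega))
  have h1 : (derivative (G ^ p)).coeff (p * m - 1) = (G ^ p).coeff (p * m) * ((p : Z) * (m : Z)) := by
    rw [coeff_derivative, Nat.sub_add_cancel hpm]
    congr 1
    have : ((p * m - 1 : ℕ) : Z) + 1 = ((p * m - 1 + 1 : ℕ) : Z) := by push_cast; ring
    rw [this, Nat.sub_add_cancel hpm]
    push_cast
    ring
  have h2 : derivative (G ^ p) = C (p : Z) * (G ^ (p - 1) * derivative G) := by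
    rw [derivative_pow, mul_assoc]
  rw [h2, coeff_C_mul] at h1
  rw [h1]
  ring

variable (R : Type*) [CommRing R] [CharP R p]

/-- the Cartier coefficient identity -/
theorem coeff_pow_mul_derivative (F : R[X]) (m : ℕ) (hm : 1 ≤ m) :
    (F ^ (p - 1) * derivative F).coeff (p * m - 1) = (F.coeff m) ^ p * (m : R) := by
  -- universal lift
  let ev : MvPolynomial R ℤ →+* R := MvPolynomial.eval₂Hom (Int.castRingHom R) id
  have hev : Function.Surjective ev := fun r => ⟨MvPolynomial.X r, by simp [ev]⟩
  obtain ⟨G, rfl⟩ := Polynomial.map_surjective ev hev F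
  have key := coeff_lift p G m hm
  have := congrArg ev key
  rw [← coeff_map, Polynomial.map_mul, Polynomial.map_pow, ← derivative_map, map_mul, ← coeff_map,
    Polynomial.map_pow, map_natCast] at this
  rw [this]
  congr 1
  haveI : ExpChar R p := ExpChar.prime hp.out
  rw [← map_frobenius_expand, coeff_map, coeff_expand_mul' hp.out.pos, frobenius_def]

end lift

end Groth.Agent.H7.PthRoot
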