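import Groth.Agent.Lib.Helper7.PthRoot1

/-! Trace for `R[x]/(x^p - a)` on differentials (helper7). -/

set_option autoImplicit false

universe u

namespace Groth.Agent.H7.PthRoot

open Polynomial

section theta

variable {p : ℕ} [hp : Fact p.Prime] {R : Type u} [CommRing R] [CharP R p] (c : R)

/-- the functional `f ↦ T (f(y) dy)` on polynomials -/
noncomputable def Θ (T : Ω[AdjoinRoot (X ^ p - C c : R[X])⁄R] →ₗ[R] Ω[R⁄ℤ]) (f : R[X]) : Ω[R⁄ℤ] :=
  T (AdjoinRoot.mk (X ^ p - C c) f •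
    KaehlerDifferential.D R (AdjoinRoot (X ^ p - C c : R[X])) (AdjoinRoot.root (X ^ p - C c)))

variable {c} (T : Ω[AdjoinRoot (X ^ p - C c : R[X])⁄R] →ₗ[R] Ω[R⁄ℤ])

lemma Θ_add (f g : R[X]) : Θ c T (f + g) = Θ c T f + Θ c T g := by
  simp only [Θ, map_add, add_smul]

lemma Θ_zero : Θ c T 0 = 0 := by
  simp only [Θ, map_zero, zero_smul]

lemma Θ_sum {ι : Type*} (s : Finset ι) (f : ι → R[X]) :
    Θ c T (∑ i ∈ s, f i) = ∑ i ∈ s, Θ c T (f i) := by
  classical
  induction s using Finset.induction_on with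
  | empty => simp [Θ_zero]
  | insert i s hi ih => rw [Finset.sum_insert hi, Finset.sum_insert hi, Θ_add, ih]

lemma Θ_C_mul (r : R) (f : R[X]) : Θ c T (C r * f) = r • Θ c T f := by
  simp only [Θ]
  rw [map_mul, AdjoinRoot.mk_C, ← AdjoinRoot.algebraMap_eq, ← Algebra.smul_def, smul_assoc,
    map_smul]

lemma mk_X_pow_p : AdjoinRoot.mk (X ^ p - C c : R[X]) (X ^ p) = AdjoinRoot.of _ c := by
  have := AdjoinRoot.mk_self (f := (X ^ p - C c : R[X]))
  rw [map_sub, sub_eq_zero, AdjoinRoot.mk_C] at this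
  exact this

lemma Θ_pow_mul (P : R[X]) (u : R) (hP : AdjoinRoot.mk (X ^ p - C c : R[X]) P = AdjoinRoot.of _ u)
    (q : ℕ) (f : R[X]) : Θ c T (P ^ q * f) = u ^ q • Θ c T f := by
  simp only [Θ]
  rw [map_mul, map_pow, hP, ← map_pow, ← AdjoinRoot.algebraMap_eq, ← Algebra.smul_def, smul_assoc,
    map_smul]

variable (hT : ∀ i : ℕ, i + 2 ≤ p →
      T (AdjoinRoot.root (X ^ p - C c) ^ i • KaehlerDifferential.D R _ (AdjoinRoot.root (X ^ p - C c))) = 0)
    (hT' : T (AdjoinRoot.root (X ^ p - C c) ^ (p - 1) •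
      KaehlerDifferential.D R _ (AdjoinRoot.root (X ^ p - C c))) = KaehlerDifferential.D ℤ R c)

include hT in
lemma Θ_X_pow_of_lt {r : ℕ} (hr : r + 2 ≤ p) : Θ c T (X ^ r) = 0 := by
  simp only [Θ]
  rw [map_pow, AdjoinRoot.mk_X]
  exact hT r hr

include hT' in
lemma Θ_X_pow_pred : Θ c T (X ^ (p - 1)) = KaehlerDifferential.D ℤ R c := by
  simp only [Θ]
  rw [map_pow, AdjoinRoot.mk_X]
  exact hT'

include hT hT' in
lemma Θ_X_pow (q r : ℕ) (hr : r < p) :
    Θ c T (X ^ (p * q + r)) = if r = p - 1 then c ^ q • KaehlerDifferential.D ℤ R c else 0 := by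
  rw [pow_add, pow_mul, Θ_pow_mul T (X ^ p) c mk_X_pow_p]
  split_ifs with h
  · rw [h, Θ_X_pow_pred T hT']
  · rw [Θ_X_pow_of_lt T hT (by omega), smul_zero]

lemma sum_range_mul {M : Type*} [AddCommMonoid M] (g : ℕ → M) (K : ℕ) :
    ∑ n ∈ Finset.range (p * K), g n = ∑ q ∈ Finset.range K, ∑ r ∈ Finset.range p, g (p * q + r) := by
  induction K with
  | zero => simp
  | succ K ih =>
    rw [Finset.sum_range_succ, ← ih, Nat.mul_succ, Finset.sum_range_add]

include hT hT' in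
/-- the formula for `Θ` -/
theorem Θ_eq (f : R[X]) (K : ℕ) (hK : f.natDegree < p * K) :
    Θ c T f = ∑ q ∈ Finset.range K, (f.coeff (p * q + (p - 1)) * c ^ q) • KaehlerDifferential.D ℤ R c := by
  have hp1 : p - 1 < p := Nat.sub_lt hp.out.pos Nat.one_pos
  conv_lhs => rw [f.as_sum_range_C_mul_X_pow' hK]
  rw [Θ_sum, sum_range_mul]
  refine Finset.sum_congr rfl (fun q _ => ?_)
  rw [Finset.sum_eq_single (p - 1)]
  · rw [Θ_C_mul, Θ_X_pow T hT hT' q (p - 1) hp1, if_pos rfl, smul_smul]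
  · intro r hr hne
    rw [Θ_C_mul, Θ_X_pow T hT hT' q r (Finset.mem_range.1 hr), if_neg hne, smul_zero]
  · intro h
    exact absurd (Finset.mem_range.2 hp1) h

include hT hT' in
/-- derivatives are killed -/
theorem Θ_derivative (G : R[X]) : Θ c T (derivative G) = 0 := by
  rw [Θ_eq T hT hT' (derivative G) (G.natDegree + 1)]
  · refine Finset.sum_eq_zero (fun q _ => ?_)
    rw [coeff_derivative]
    have : ((p * q + (p - 1) : ℕ) : R) + 1 = 0 := by
      have h1 : p * q + (p - 1) + 1 = p * (q + 1) := by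
        have := hp.out.pos
        rw [Nat.mul_succ]; omega
      have : ((p * q + (p - 1) : ℕ) : R) + 1 = ((p * q + (p - 1) + 1 : ℕ) : R) := by push_cast; ring
      rw [this, h1, Nat.cast_mul, CharP.cast_eq_zero, zero_mul]
    rw [this, mul_zero, zero_mul, zero_smul]
  · have h1 := natDegree_derivative_le G
    have := hp.out.two_le
    calc (derivative G).natDegree ≤ G.natDegree := h1.trans (Nat.sub_le _ _)
      _ < 1 * (G.natDegree + 1) := by omega
      _ ≤ p * (G.natDegree + 1) := Nat.mul_le_mul_right _ (by omega)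

end theta

end Groth.Agent.H7.PthRoot
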