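import Groth.Agent.Lib.Helper7.PthRoot2

/-! Trace for `R[x]/(x^p - a)` on differentials is independent of the presentation (helper7). -/

set_option autoImplicit false

universe u

namespace Groth.Agent.H7.PthRoot

open Polynomial

section inj

variable {p : ℕ} [hp : Fact p.Prime] {R : Type u} [CommRing R] (c : R)

lemma of_injective : Function.Injective (AdjoinRoot.of (X ^ p - C c : R[X])) := by
  rcases subsingleton_or_nontrivial R with hR | hR
  · intro u v _; exact Subsingleton.elim _ _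
  intro u v huv
  rw [← AdjoinRoot.mk_C, ← AdjoinRoot.mk_C, AdjoinRoot.mk_eq_mk, ← C_sub] at huv
  by_contra hne
  have hmonic : (X ^ p - C c : R[X]).Monic := monic_X_pow_sub_C c hp.out.ne_zero
  refine hmonic.not_dvd_of_natDegree_lt ?_ ?_ huv
  · rw [Ne, C_eq_zero, sub_eq_zero]; exact hne
  · rw [natDegree_C, natDegree_X_pow_sub_C]; exact hp.out.pos

end inj

section main

variable {p : ℕ} [hp : Fact p.Prime] {R : Type u} [CommRing R] [CharP R p] {a b : R}
  (φ : AdjoinRoot (X ^ p - C a : R[X]) →ₐ[R] AdjoinRoot (X ^ p - C b : R[X]))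
  (P : R[X]) (hP : AdjoinRoot.mk (X ^ p - C b) P = φ (AdjoinRoot.root (X ^ p - C a)))

include hP in
lemma mk_P_pow : AdjoinRoot.mk (X ^ p - C b : R[X]) (P ^ p) = AdjoinRoot.of _ a := by
  rw [map_pow, hP, ← map_pow, ← AdjoinRoot.mk_X, ← map_pow, mk_X_pow_p, ← AdjoinRoot.algebraMap_eq,
    φ.commutes, AdjoinRoot.algebraMap_eq]

include hP in
lemma a_eq : a = eval b (P.map (frobenius R p)) := by
  haveI : ExpChar R p := ExpChar.prime hp.out
  apply of_injective (p := p) b
  rw [← mk_P_pow φ P hP, ← map_frobenius_expand p P, map_expand, ← AdjoinRoot.aeval_eq, expand_aeval,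
    ← AdjoinRoot.mk_X, ← map_pow, mk_X_pow_p, ← AdjoinRoot.algebraMap_eq,
    aeval_algebraMap_apply_eq_algebraMap_eval]

lemma D_pow_p (u : R) : KaehlerDifferential.D ℤ R (u ^ p) = 0 := by
  rw [Derivation.leibniz_pow, ← Nat.cast_smul_eq_nsmul R, CharP.cast_eq_zero, zero_smul]

include hP in
lemma D_a : KaehlerDifferential.D ℤ R a =
    ∑ q ∈ Finset.range P.natDegree,
      ((P.coeff (q + 1)) ^ p * ((q + 1 : ℕ) : R) * b ^ q) • KaehlerDifferential.D ℤ R b := by
  have hdeg : (P.map (frobenius R p)).natDegree < P.natDegree + 1 :=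
    Nat.lt_succ_of_le natDegree_map_le
  rw [a_eq φ P hP, eval_eq_sum_range' hdeg, map_sum, Finset.sum_range_succ']
  have h0 : KaehlerDifferential.D ℤ R ((P.map (frobenius R p)).coeff 0 * b ^ 0) = 0 := by
    rw [pow_zero, mul_one, coeff_map, frobenius_def, D_pow_p (p := p)]
  rw [h0, add_zero]
  refine Finset.sum_congr rfl (fun q _ => ?_)
  rw [Derivation.leibniz, coeff_map, frobenius_def, D_pow_p (p := p) (P.coeff (q + 1)), smul_zero, add_zero,
    Derivation.leibniz_pow, Nat.add_sub_cancel, ← Nat.cast_smul_eq_nsmul R, smul_smul, smul_smul]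

variable (Ty : Ω[AdjoinRoot (X ^ p - C b : R[X])⁄R] →ₗ[R] Ω[R⁄ℤ])
    (hTy : ∀ i : ℕ, i + 2 ≤ p →
      Ty (AdjoinRoot.root (X ^ p - C b) ^ i • KaehlerDifferential.D R _ (AdjoinRoot.root (X ^ p - C b))) = 0)
    (hTy' : Ty (AdjoinRoot.root (X ^ p - C b) ^ (p - 1) • KaehlerDifferential.D R _ (AdjoinRoot.root (X ^ p - C b))) =
      KaehlerDifferential.D ℤ R b)

include hP hTy hTy' in
/-- the case `r = p - 1` -/
lemma Θ_cartier : Θ b Ty (P ^ (p - 1) * derivative P) = KaehlerDifferential.D ℤ R a := by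
  have hp2 := hp.out.two_le
  have hdeg : (P ^ (p - 1) * derivative P).natDegree < p * (P.natDegree + 1) := by
    have h1 : (P ^ (p - 1)).natDegree ≤ (p - 1) * P.natDegree := natDegree_pow_le
    have h2 : (derivative P).natDegree ≤ P.natDegree :=
      (natDegree_derivative_le P).trans (Nat.sub_le _ _)
    have h3 := natDegree_mul_le (p := P ^ (p - 1)) (q := derivative P)
    have h4 : (p - 1) * P.natDegree + P.natDegree = p * P.natDegree := by
      conv_lhs => rw [← Nat.succ_mul]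
      congr 1
      omega
    rw [Nat.mul_succ]
    omega
  rw [Θ_eq Ty hTy hTy' _ _ hdeg, Finset.sum_range_succ, D_a φ P hP]
  have hlast : (P ^ (p - 1) * derivative P).coeff (p * P.natDegree + (p - 1)) = 0 := by
    have h1 : p * P.natDegree + (p - 1) = p * (P.natDegree + 1) - 1 := by
      rw [Nat.mul_succ]; omega
    rw [h1, coeff_pow_mul_derivative p R P _ (Nat.succ_pos _).nat_succ_le,
      coeff_eq_zero_of_natDegree_lt (Nat.lt_succ_self _), zero_pow hp.out.ne_zero, zero_mul]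
  rw [hlast, zero_mul, zero_smul, add_zero]
  refine Finset.sum_congr rfl (fun q _ => ?_)
  have h1 : p * q + (p - 1) = p * (q + 1) - 1 := by
    rw [Nat.mul_succ]; omega
  rw [h1, coeff_pow_mul_derivative p R P _ (Nat.succ_pos _).nat_succ_le]

include hTy hTy' in
/-- the case `r ≤ p - 2` -/
lemma Θ_small {r : ℕ} (hr : r + 2 ≤ p) : Θ b Ty (P ^ r * derivative P) = 0 := by
  have hunit : IsUnit ((r + 1 : ℕ) : R) := by
    rw [CharP.isUnit_natCast_iff (p := p) hp.out]
    intro hdvd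
    have := Nat.le_of_dvd (Nat.succ_pos _) hdvd
    omega
  have h0 : ((r + 1 : ℕ) : R) • Θ b Ty (P ^ r * derivative P) = 0 := by
    rw [← Θ_C_mul, ← mul_assoc]
    have : C ((r + 1 : ℕ) : R) * P ^ r * derivative P = derivative (P ^ (r + 1)) := by
      rw [derivative_pow_succ]; push_cast; rfl
    rw [this, Θ_derivative Ty hTy hTy']
  obtain ⟨u, hu⟩ := hunit
  rw [← hu] at h0
  have := congrArg (fun ω => (↑u⁻¹ : R) • ω) h0
  simpa [smul_smul] using this

variable (Tx : Ω[AdjoinRoot (X ^ p - C a : R[X])⁄R] →ₗ[R] Ω[R⁄ℤ])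
    (hTx : ∀ i : ℕ, i + 2 ≤ p →
      Tx (AdjoinRoot.root (X ^ p - C a) ^ i • KaehlerDifferential.D R _ (AdjoinRoot.root (X ^ p - C a))) = 0)
    (hTx' : Tx (AdjoinRoot.root (X ^ p - C a) ^ (p - 1) • KaehlerDifferential.D R _ (AdjoinRoot.root (X ^ p - C a))) =
      KaehlerDifferential.D ℤ R a)

include hP hTx hTx' hTy hTy' in
lemma Θ_comp_X_pow (n : ℕ) : Θ a Tx (X ^ n) = Θ b Ty (P ^ n * derivative P) := by
  have hp0 := hp.out.pos
  obtain ⟨q, r, hr, rfl⟩ : ∃ q r, r < p ∧ n = p * q + r :=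
    ⟨n / p, n % p, Nat.mod_lt _ hp0, (Nat.div_add_mod n p).symm⟩
  rw [Θ_X_pow Tx hTx hTx' q r hr, pow_add, pow_mul, mul_assoc,
    Θ_pow_mul Ty (P ^ p) a (mk_P_pow φ P hP)]
  split_ifs with h
  · rw [h, Θ_cartier φ P hP Ty hTy hTy']
  · rw [Θ_small P Ty hTy hTy' (by omega), smul_zero]

include hP hTx hTx' hTy hTy' in
lemma Θ_comp (f : R[X]) : Θ a Tx f = Θ b Ty (f.comp P * derivative P) := by
  induction f using Polynomial.induction_on' with
  | add f g hf hg => rw [Θ_add, hf, hg, add_comp, add_mul, Θ_add]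
  | monomial n r =>
    rw [← C_mul_X_pow_eq_monomial, Θ_C_mul, mul_comp, C_comp, X_pow_comp, mul_assoc, Θ_C_mul,
      Θ_comp_X_pow φ P hP Ty hTy hTy' Tx hTx hTx']

include hTx hTx' hTy hTy' in
/-- **S7340** -/
theorem trace_well_defined (s t : AdjoinRoot (X ^ p - C a : R[X])) :
    Tx (s • KaehlerDifferential.D R _ t) = Ty (φ s • KaehlerDifferential.D R _ (φ t)) := by
  obtain ⟨P, hP⟩ := AdjoinRoot.mk_surjective (φ (AdjoinRoot.root (X ^ p - C a)))
  obtain ⟨g, rfl⟩ := AdjoinRoot.mk_surjective s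
  obtain ⟨h, rfl⟩ := AdjoinRoot.mk_surjective t
  have hφ : ∀ f : R[X], φ (AdjoinRoot.mk _ f) = AdjoinRoot.mk _ (f.comp P) := by
    intro f
    rw [← AdjoinRoot.aeval_eq, ← aeval_algHom_apply, ← hP, ← AdjoinRoot.coe_mkₐ,
      aeval_algHom_apply, comp_eq_aeval]
  have hD : ∀ (c : R) (f : R[X]),
      KaehlerDifferential.D R (AdjoinRoot (X ^ p - C c : R[X])) (AdjoinRoot.mk (X ^ p - C c) f) =
      AdjoinRoot.mk (X ^ p - C c) (derivative f) •
        KaehlerDifferential.D R (AdjoinRoot (X ^ p - C c : R[X])) (AdjoinRoot.root (X ^ p - C c)) := by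
    intro c f
    rw [← AdjoinRoot.aeval_eq, Derivation.map_aeval, AdjoinRoot.aeval_eq]
  have hpoly : (g * derivative h).comp P * derivative P =
      g.comp P * (derivative P * (derivative h).comp P) := by
    rw [mul_comp]; ring
  rw [hφ g, hφ h, hD a h, hD b (h.comp P), smul_smul, smul_smul, ← map_mul, ← map_mul,
    derivative_comp, ← hpoly]
  exact Θ_comp φ P hP Ty hTy hTy' Tx hTx hTx' (g * derivative h)

end main

end Groth.Agent.H7.PthRoot
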