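import Groth.Agent.Lib.Helper9.Misc.PuncJac
import Groth.Agent.Lib.Helper5.AlgSp.DecentT0
import Groth.Agent.Lib.Helper5.AlgSp.DecentGen
import Groth.Agent.Lib.Helper3.Decent.Sober
import Groth.Agent.Lib.Helper7.SmLift
import Groth.Agent.Lib.Helper3.AlgSpCov.RedNoeth
import Mathlib

/-!
# Proper generizations of a point of a decent locally Noetherian algebraic space (S10405)
-/

set_option autoImplicit false
universe u

open AlgebraicGeometry CategoryTheory Limits Topology TopologicalSpace

namespace Groth.Agent.H7.PuncGen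

section topology

variable {A B : Type*} [TopologicalSpace A] [TopologicalSpace B]

/-- descending the Jacobson property along a surjective, generizing map with finite fibres without
specializations. -/
theorem jacobsonSpace_of_map [JacobsonSpace A] [NoetherianSpace B] [T0Space B] (φ : A → B)
    (hc : Continuous φ) (hs : Function.Surjective φ) (hfin : ∀ b, (φ ⁻¹' {b}).Finite)
    (hmono : ∀ a a' : A, a ⤳ a' → φ a = φ a' → a = a')
    (hgen : ∀ (a : A) (b : B), b ⤳ φ a → ∃ a' : A, a' ⤳ a ∧ φ a' = b) : JacobsonSpace B := by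
  rw [jacobsonSpace_iff_locallyClosed]
  intro Z hZne hZ
  -- a closed point of `Z`
  haveI : Nonempty Z := hZne.to_subtype
  obtain ⟨z, -, hz⟩ := IsClosed.exists_closed_singleton (X := Z) isClosed_univ Set.univ_nonempty
  refine ⟨z.1, z.2, ?_⟩
  have hzl : IsLocallyClosed ({z.1} : Set B) := by
    have h1 : IsLocallyClosed ((Subtype.val : Z → B) '' {z}) :=
      (hz.isLocallyClosed).image IsInducing.subtypeVal (by
        rw [Subtype.range_coe]; exact hZ)
    simpa using h1
  -- all points over `z` are closed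
  have hF : IsLocallyClosed (φ ⁻¹' {z.1}) := hzl.preimage hc
  have hcl : ∀ v : A, φ v = z.1 → IsClosed ({v} : Set A) := by
    intro v hv
    apply isClosed_singleton_of_isLocallyClosed_singleton
    have hEq : ({v} : Set A) = φ ⁻¹' {z.1} ∩
        ⋂ w ∈ (φ ⁻¹' {z.1} \ {v}), (closure ({w} : Set A))ᶜ := by
      ext t
      simp only [Set.mem_singleton_iff, Set.mem_inter_iff, Set.mem_preimage, Set.mem_iInter,
        Set.mem_diff, Set.mem_compl_iff, and_imp]
      constructor
      · rintro rfl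
        refine ⟨hv, fun w hw hwt ht => hwt ?_⟩
        have : w ⤳ t := specializes_iff_mem_closure.2 ht
        exact hmono w t this (hw.trans hv.symm)
      · rintro ⟨ht, h⟩
        by_contra hne
        exact h t ht hne (subset_closure rfl)
    rw [hEq]
    refine hF.inter (IsOpen.isLocallyClosed ?_)
    exact ((hfin z.1).subset Set.diff_subset).isOpen_biInter fun w _ =>
      isClosed_closure.isOpen_compl
  rw [mem_closedPoints_iff, ← closure_subset_iff_isClosed]
  intro z' hz'
  have hsp : z.1 ⤳ z' := specializes_iff_mem_closure.2 hz'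
  obtain ⟨a', rfl⟩ := hs z'
  obtain ⟨a, ha1, ha2⟩ := hgen a' z.1 hsp
  have := hcl a ha2
  have h2 : a' ∈ closure ({a} : Set A) := specializes_iff_mem_closure.1 ha1
  rw [this.closure_eq] at h2
  rw [Set.mem_singleton_iff] at h2 ⊢
  rw [h2, ha2]

/-- a Noetherian space is quasi-separated. -/
theorem quasiSeparatedSpace_of_noetherianSpace [NoetherianSpace B] : QuasiSeparatedSpace B :=
  ⟨fun _ _ _ _ _ _ => NoetherianSpace.isCompact _⟩

/-- the proper generizations of a point of a quasi-sober Kolmogorov space form a quasi-sober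
space. -/
theorem quasiSober_properGenerizations [QuasiSober B] [T0Space B] (x : B) :
    QuasiSober {x' : B // x' ⤳ x ∧ x' ≠ x} := by
  refine ⟨fun {Z} hZi hZc => ?_⟩
  have hZ'i : IsIrreducible (closure ((Subtype.val : {x' : B // x' ⤳ x ∧ x' ≠ x} → B) '' Z)) :=
    (hZi.image _ continuous_subtype_val.continuousOn).closure
  obtain ⟨ζ, hζ⟩ := QuasiSober.sober hZ'i isClosed_closure
  obtain ⟨z, hz⟩ := hZi.nonempty
  have hζz : ζ ⤳ z.1 := by
    rw [specializes_iff_mem_closure, hζ.def]
    exact subset_closure ⟨z, hz, rfl⟩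
  have h1 : ζ ⤳ x := hζz.trans z.2.1
  have h2 : ζ ≠ x := by
    rintro rfl
    exact z.2.2 ((z.2.1.antisymm hζz).eq)
  obtain ⟨C, hC, hCZ⟩ := isClosed_induced_iff.1 hZc
  have hζC : ζ ∈ C := by
    have : closure ((Subtype.val : {x' : B // x' ⤳ x ∧ x' ≠ x} → B) '' Z) ⊆ C := by
      apply hC.closure_subset_iff.2
      rintro _ ⟨w, hw, rfl⟩
      rw [← hCZ] at hw
      exact hw
    exact this (hζ.def ▸ subset_closure rfl)
  refine ⟨⟨ζ, h1, h2⟩, ?_⟩
  have hmem : (⟨ζ, h1, h2⟩ : {x' : B // x' ⤳ x ∧ x' ≠ x}) ∈ Z := by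
    rw [← hCZ]; exact hζC
  apply le_antisymm
  · exact hZc.closure_subset_iff.2 (Set.singleton_subset_iff.2 hmem)
  · intro w hw
    rw [← specializes_iff_mem_closure, subtype_specializes_iff]
    rw [specializes_iff_mem_closure, hζ.def]
    exact subset_closure ⟨w, hw, rfl⟩

end topology

section scheme

/-- the proper generizations of a point of a locally Noetherian scheme form a Jacobson space. -/
theorem jacobsonSpace_properGenerizations (Y : Scheme.{u}) [IsLocallyNoetherian Y] (y : Y) :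
    JacobsonSpace {y' : Y // y' ⤳ y ∧ y' ≠ y} := by
  have hemb : IsEmbedding (Y.fromSpecStalk y) := (Y.fromSpecStalk y).isEmbedding
  have hcp : Y.fromSpecStalk y (IsLocalRing.closedPoint (Y.presheaf.stalk y)) = y :=
    Scheme.fromSpecStalk_closedPoint
  let ψ : Groth.Agent.H9.PuncJac.Punc (Y.presheaf.stalk y) → {y' : Y // y' ⤳ y ∧ y' ≠ y} :=
    fun p => ⟨Y.fromSpecStalk y p.1, by
      have : Y.fromSpecStalk y p.1 ∈ Set.range (Y.fromSpecStalk y) := ⟨_, rfl⟩
      rw [Scheme.range_fromSpecStalk] at this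
      exact this, fun h => p.2 (hemb.injective (h.trans hcp.symm))⟩
  have hψe : IsEmbedding ψ := by
    have h1 : IsEmbedding (fun p : Groth.Agent.H9.PuncJac.Punc (Y.presheaf.stalk y) =>
        Y.fromSpecStalk y p.1) := hemb.comp IsEmbedding.subtypeVal
    exact h1.codRestrict {y' : Y | y' ⤳ y ∧ y' ≠ y} (fun p => (ψ p).2)
  have hψs : Function.Surjective ψ := by
    rintro ⟨y', h1, h2⟩
    have : y' ∈ Set.range (Y.fromSpecStalk y) := by
      rw [Scheme.range_fromSpecStalk]; exact h1
    obtain ⟨p, rfl⟩ := this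
    refine ⟨⟨p, ?_⟩, rfl⟩
    intro hp
    rw [Set.mem_singleton_iff] at hp
    exact h2 (hp ▸ hcp)
  let e := hψe.toHomeomorphOfSurjective hψs
  haveI : JacobsonSpace (Groth.Agent.H9.PuncJac.Punc (Y.presheaf.stalk y)) :=
    (Groth.Agent.H9.PuncJac.main (Y.presheaf.stalk y)).1
  exact JacobsonSpace.of_isOpenEmbedding e.symm.isOpenEmbedding

end scheme

section algsp

open _root_.AlgSp Groth.Agent.H5.AlgSp

variable {S : Scheme.{u}}

/-- S10405. -/
theorem S10405_main (X : AlgSp.Space S)
    (hd : AlgSp.IsDecent X.obj) (hN : AlgSp.IsLocNoethSp X.obj) (x : AlgSp.Points X.obj) :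
    NoetherianSpace {x' : AlgSp.Points X.obj // x' ⤳ x ∧ x' ≠ x} ∧
      SpectralSpace {x' : AlgSp.Points X.obj // x' ⤳ x ∧ x' ≠ x} ∧
      QuasiSober {x' : AlgSp.Points X.obj // x' ⤳ x ∧ x' ≠ x} ∧
      JacobsonSpace {x' : AlgSp.Points X.obj // x' ⤳ x ∧ x' ≠ x} := by
  obtain ⟨U, a, u, hUaff, ha, hu⟩ := Groth.Agent.H7.SmLift.exists_affine_chart_at X.property x
  haveI : IsLocallyNoetherian U.left :=
    Groth.Agent.H3.AlgSpCov.isLocallyNoetherian_of_etale_of_isLocNoethSp hN a ha
  haveI : IsNoetherian U.left := { }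
  haveI : T0Space (Points X.obj) := t0Space_points_of_isDecent X.property hd
  haveI : QuasiSober (Points X.obj) :=
    Groth.Agent.H3.Decent.quasiSober_points_of_isDecent X.property hd
  -- the map from the proper generizations of `u`
  let φ : {u' : ↥U.left // u' ⤳ u ∧ u' ≠ u} → {x' : AlgSp.Points X.obj // x' ⤳ x ∧ x' ≠ x} :=
    fun w => ⟨Points.ofPt a w.1, by
      rw [← hu]; exact w.2.1.map (Points.continuous_ofPt a), fun h => w.2.2
        ((eq_of_specializes_of_isDecent hd a ha u w.1 (hu.trans h.symm) w.2.1).symm)⟩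
  have hφc : Continuous φ :=
    ((Points.continuous_ofPt a).comp continuous_subtype_val).subtype_mk _
  have hlift : ∀ (x' : Points X.obj) (v : ↥U.left), x' ⤳ Points.ofPt a v →
      ∃ v' : ↥U.left, v' ⤳ v ∧ Points.ofPt a v' = x' := by
    intro x' v h
    exact exists_specializes_ofPt_of_fieldPt h (hd x') a ha v rfl
  have hφs : Function.Surjective φ := by
    rintro ⟨x', h1, h2⟩
    obtain ⟨v', hv1, hv2⟩ := hlift x' u (hu ▸ h1)
    refine ⟨⟨v', hv1, ?_⟩, Subtype.ext hv2⟩
    rintro rfl
    exact h2 (hv2.symm.trans hu)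
  have hN1 : NoetherianSpace {u' : ↥U.left // u' ⤳ u ∧ u' ≠ u} :=
    IsInducing.subtypeVal.noetherianSpace
  have hN2 : NoetherianSpace {x' : AlgSp.Points X.obj // x' ⤳ x ∧ x' ≠ x} :=
    noetherianSpace_of_surjective φ hφc hφs
  have hQS : QuasiSober {x' : AlgSp.Points X.obj // x' ⤳ x ∧ x' ≠ x} :=
    quasiSober_properGenerizations x
  haveI := hN2
  haveI := hQS
  haveI : QuasiSeparatedSpace {x' : AlgSp.Points X.obj // x' ⤳ x ∧ x' ≠ x} :=
    quasiSeparatedSpace_of_noetherianSpace
  refine ⟨hN2, SpectralSpace.mk, hQS, ?_⟩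
  haveI : JacobsonSpace {u' : ↥U.left // u' ⤳ u ∧ u' ≠ u} :=
    jacobsonSpace_properGenerizations U.left u
  refine jacobsonSpace_of_map φ hφc hφs ?_ ?_ ?_
  · intro b
    have hfin := finite_fibre_of_isDecent hd b.1 U a hUaff ha
    refine Set.Finite.of_injOn (f := fun w : {u' : ↥U.left // u' ⤳ u ∧ u' ≠ u} => w.1)
      (t := Points.ofPt a ⁻¹' {b.1}) ?_ (Subtype.val_injective.injOn) hfin
    intro w hw
    have : φ w = b := hw
    exact congrArg Subtype.val this
  · intro w w' hsp he
    have h1 : w.1 ⤳ w'.1 := (subtype_specializes_iff w w').1 hsp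
    have h2 : Points.ofPt a w'.1 = Points.ofPt a w.1 := (congrArg Subtype.val he).symm
    exact Subtype.ext (eq_of_specializes_of_isDecent hd a ha w'.1 w.1 h2 h1).symm
  · intro w b hb
    have h1 : b.1 ⤳ Points.ofPt a w.1 := (subtype_specializes_iff b (φ w)).1 hb
    obtain ⟨v', hv1, hv2⟩ := hlift b.1 w.1 h1
    refine ⟨⟨v', hv1.trans w.2.1, ?_⟩, ?_, Subtype.ext hv2⟩
    · rintro rfl
      exact b.2.2 (hv2.symm.trans hu)
    · exact (subtype_specializes_iff _ _).2 hv1

end algsp

end Groth.Agent.H7.PuncGen
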