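import Mathlib
open CategoryTheory TopologicalSpace Opposite TopCat
universe u

namespace Groth.Agent.H7.PushEpi

theorem main {X Y : TopCat.{u}} (π : X ⟶ Y)
    (h1 : ∀ (y : Y) (U : Set X), IsOpen U → π ⁻¹' {y} ⊆ U →
      ∃ V : Set Y, IsOpen V ∧ y ∈ V ∧ π ⁻¹' V ⊆ U)
    (h2 : ∀ y : Y, (π ⁻¹' {y}).Finite ∧ ∃ U : X → Set X,
      (∀ x ∈ π ⁻¹' {y}, IsOpen (U x) ∧ x ∈ U x) ∧ (π ⁻¹' {y}).PairwiseDisjoint U) :
    (TopCat.Sheaf.pushforward (Type u) π).PreservesEpimorphisms := by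
  refine ⟨fun {F G} φ hφ => ?_⟩
  have hls : TopCat.Presheaf.IsLocallySurjective φ.hom :=
    (CategoryTheory.Sheaf.isLocallySurjective_iff_epi φ).mpr hφ
  rw [TopCat.Presheaf.isLocallySurjective_iff] at hls
  refine (CategoryTheory.Sheaf.isLocallySurjective_iff_epi
    ((TopCat.Sheaf.pushforward (Type u) π).map φ)).mp ?_
  show TopCat.Presheaf.IsLocallySurjective ((TopCat.Sheaf.pushforward (Type u) π).map φ).hom
  rw [TopCat.Presheaf.isLocallySurjective_iff]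
  intro U t y hyU
  have nat : ∀ {A B : (Opens X)ᵒᵖ} (f : A ⟶ B) (s : ToType (F.1.obj A)),
      φ.hom.app B (F.1.map f s) = G.1.map f (φ.hom.app A s) := fun f s =>
    ConcreteCategory.congr_hom (φ.hom.naturality f) s
  have mapcomp : ∀ (H : TopCat.Sheaf (Type u) X) {A B D : (Opens X)ᵒᵖ} (f : A ⟶ B) (g : B ⟶ D)
      (s : ToType (H.1.obj A)), H.1.map g (H.1.map f s) = H.1.map (f ≫ g) s := by
    intro H A B D f g s
    rw [H.1.map_comp]; rfl
  obtain ⟨-, Ux, hUx, hdisj⟩ := h2 y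
  -- t is a section of G over π⁻¹U
  let U' : Opens X := (Opens.map π).obj U
  change ToType (G.1.obj (op U')) at t
  -- local lifts
  have hloc : ∀ x : {x : X // x ∈ π ⁻¹' {y}}, ∃ (W : Opens X) (hW : W ≤ U'),
      (∃ s : ToType (F.1.obj (op W)), φ.hom.app _ s = G.1.map (homOfLE hW).op t) ∧ x.1 ∈ W ∧
        (W : Set X) ⊆ Ux x.1 := by
    intro x
    have hxU : x.1 ∈ U' := by
      show π x.1 ∈ U
      have : π x.1 = y := x.2
      rw [this]; exact hyU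
    obtain ⟨W, hWU, ⟨s, hs⟩, hxW⟩ := hls U' t x.1 hxU
    refine ⟨W ⊓ ⟨Ux x.1, (hUx x.1 x.2).1⟩, inf_le_left.trans hWU, ⟨F.1.map (homOfLE inf_le_left).op s, ?_⟩,
      ⟨hxW, (hUx x.1 x.2).2⟩, fun z hz => hz.2⟩
    rw [nat, hs]
    show G.1.map _ (G.1.map _ t) = _
    rw [mapcomp]
    rfl
  choose W hWU hs hxW hWUx using hloc
  choose s hs using hs
  -- compatibility
  have hcompat : TopCat.Presheaf.IsCompatible F.1 W s := by
    intro i j
    by_cases hij : i = j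
    · subst hij; rfl
    · have hbot : W i ⊓ W j ≤ (⊥ : Opens X) := by
        intro z hz
        have h1 : z ∈ Ux i.1 := hWUx i hz.1
        have h2 : z ∈ Ux j.1 := hWUx j hz.2
        have := hdisj i.2 j.2 (fun h => hij (Subtype.ext h))
        exact (Set.disjoint_left.mp this h1 h2).elim
      refine F.eq_of_locally_eq' (fun e : PEmpty.{1} => e.elim) (W i ⊓ W j) (fun e => e.elim) ?_ _ _
        (fun e => e.elim)
      exact hbot.trans bot_le
  obtain ⟨sW, hsW, -⟩ := F.existsUnique_gluing W s hcompat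
  -- φ sW = t|W
  have hWle : iSup W ≤ U' := iSup_le hWU
  have hφs : φ.hom.app _ sW = G.1.map (homOfLE hWle).op t := by
    refine G.eq_of_locally_eq W _ _ fun i => ?_
    rw [← nat, hsW i, hs i, mapcomp]
    rfl
  -- neighbourhood of y
  obtain ⟨V₀, hV₀, hyV₀, hV₀W⟩ := h1 y (iSup W : Opens X) (iSup W).2 (by
    intro x hx
    exact Opens.mem_iSup.mpr ⟨⟨x, hx⟩, hxW ⟨x, hx⟩⟩)
  let V : Opens Y := ⟨V₀, hV₀⟩ ⊓ U
  have hVW : (Opens.map π).obj V ≤ iSup W := fun z hz => hV₀W hz.1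
  refine ⟨V, inf_le_right, ⟨F.1.map (homOfLE hVW).op sW, ?_⟩, ⟨hyV₀, hyU⟩⟩
  show φ.hom.app (op ((Opens.map π).obj V)) (F.1.map (homOfLE hVW).op sW) = _
  rw [nat, hφs]
  show G.1.map _ (G.1.map _ t) = _
  rw [mapcomp]
  rfl

end Groth.Agent.H7.PushEpi
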