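import Mathlib
import Groth.Prelude
import Groth.Agent.H4.US17
import Groth.Agent.Lib.Helper6.GorGlobal
import Groth.Agent.Lib.Helper7.GorFib

/-! # Gorenstein schemes: the structure sheaf is dualizing (S3622) -/

set_option autoImplicit false
universe u

open CategoryTheory AlgebraicGeometry Limits DerivedCategory

namespace Groth.Agent.Helper7.QB10

attribute [local instance] HasDerivedCategory.standard

section ring

open Groth.Agent.H4.US17 Groth.Agent.H4.ProjAmp

variable {A : Type u} [CommRing A] [IsNoetherianRing A]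

/-- a Noetherian ring of finite injective dimension over itself is a dualizing complex over itself. -/
theorem isDualizing_unit_of_injdim (n : ℕ) (hn : HasInjectiveDimensionLT (ModuleCat.of A A) n) :
    Dual.IsDualizing A (Dual.inD A A) := by
  refine ⟨inferInstance, ⟨0, n, fun M _ _ i hi => ?_⟩, finite_HD_unit, bijective_toEnd_unit,
    subsingleton_ext_unit⟩
  rcases hi with hi | hi
  · haveI : (Dual.inD A M).IsLE 0 :=
      inferInstanceAs (((singleFunctor (ModuleCat.{u} A) 0).obj _).IsLE 0)
    haveI : (Dual.inD A A).IsGE 0 :=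
      inferInstanceAs (((singleFunctor (ModuleCat.{u} A) 0).obj _).IsGE 0)
    haveI : ((Dual.inD A A)⟦i⟧).IsGE (-i) := TStructure.t.isGE_shift _ 0 i (-i) (by ring)
    refine ⟨fun f g => ?_⟩
    rw [(tR A).zero f 0 (-i) (by omega), (tR A).zero g 0 (-i) (by omega)]
  · obtain ⟨k, rfl⟩ : ∃ k : ℕ, i = k := ⟨i.toNat, by omega⟩
    haveI := HasInjectiveDimensionLT.subsingleton (ModuleCat.of A A) n k (by omega)
      (ModuleCat.of A M)
    exact (Abelian.Ext.homEquiv (X := ModuleCat.of A M) (Y := ModuleCat.of A A)
      (n := k)).symm.subsingleton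

end ring

section sch

variable {X : Scheme.{u}}

/-- the derived tilde of `R[0]` is the structure sheaf in degree `0`. -/
noncomputable def tildeUnitIso [∀ (R : CommRingCat.{u}), PreservesFiniteLimits (tilde.functor R)]
    (R : CommRingCat.{u}) :
    (DCoh.tildeD R).obj ((singleFunctor (ModuleCat.{u} R) 0).obj (ModuleCat.of R R)) ≅
      (singleFunctor (Spec (CommRingCat.of R)).Modules 0).obj
        (SheafOfModules.unit (Spec (CommRingCat.of R)).ringCatSheaf) :=
  ((tilde.functor R).mapDerivedCategorySingleFunctor 0).app (ModuleCat.of R R)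

/-- restriction of the structure sheaf in degree `0` along an open immersion. -/
noncomputable def restrictUnitIsoD {U : Scheme.{u}} (j : U ⟶ X) [IsOpenImmersion j]
    [PreservesFiniteLimits (Scheme.Modules.restrictFunctor j)] :
    (DCoh.restrictD j).obj (DCoh.inD X (Coh.structureModule X)) ≅
      (singleFunctor U.Modules 0).obj (SheafOfModules.unit U.ringCatSheaf) :=
  ((Scheme.Modules.restrictFunctor j).mapDerivedCategorySingleFunctor 0).app _ ≪≫
    (singleFunctor U.Modules 0).mapIso (Scheme.Modules.restrictUnitIso j)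

/-- localizations of the ring of an affine chart of `X` are the stalks of `X`. -/
noncomputable def stalkEquiv (A : Type u) [CommRing A] (j : Spec (CommRingCat.of A) ⟶ X)
    [IsOpenImmersion j] (p : PrimeSpectrum A) :
    X.presheaf.stalk (j (show ↥(Spec (CommRingCat.of A)) from p)) ≃+*
      Localization.AtPrime p.asIdeal :=
  haveI : IsIso (j.stalkMap (show ↥(Spec (CommRingCat.of A)) from p)) := inferInstance
  ((asIso (j.stalkMap (show ↥(Spec (CommRingCat.of A)) from p))).commRingCatIsoToRingEquiv).trans
    (StructureSheaf.stalkIso A p).toRingEquiv.symm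

theorem s3622 (hX : Dual3.IsGorenstein X)
    [∀ (U V : Scheme.{u}) (j : U ⟶ V) [IsOpenImmersion j],
      PreservesFiniteLimits (Scheme.Modules.restrictFunctor j)]
    [∀ (R : CommRingCat.{u}), PreservesFiniteLimits (tilde.functor R)] :
    (∃ K : DCoh.D X, Dual2.IsDualizingSch X K) ↔
      Dual2.IsDualizingSch X (DCoh.inD X (Coh.structureModule X)) := by
  constructor
  · rintro ⟨K, hK⟩ A _ j _
    obtain ⟨ω, hω, -⟩ := hK A j
    haveI := hω.isNoetherianRing
    have hdim := Groth.Agent.H4.US12.S0371 ω hω
    have hgor : LocCoh.IsGorensteinRing A :=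
      { isGorensteinLocalRing_localization := fun p hp =>
          (Groth.Agent.H7.GorFib.gor_iff_of_ringEquiv (stalkEquiv A j ⟨p, hp⟩)).1 (hX.2 _) }
    obtain ⟨n, hn⟩ := Groth.Agent.H6.Bass.finite_injdim_self_iff.2 ⟨hgor, hdim⟩
    exact ⟨Dual.inD A A, isDualizing_unit_of_injdim n hn,
      ⟨restrictUnitIsoD j ≪≫ (tildeUnitIso (CommRingCat.of A)).symm⟩⟩
  · intro h
    exact ⟨_, h⟩

end sch

end Groth.Agent.Helper7.QB10
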