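import Mathlib
import Groth.Prelude
import Groth.Agent.H4.FB6
import Groth.Agent.Lib.Helper7.QB3
import Groth.Agent.Lib.Helper7.DRec1
import Groth.Agent.Lib.Lead.QC.Closure

/-! # Dualizing complexes on schemes glue (S3662) -/

set_option autoImplicit false
universe u

open CategoryTheory AlgebraicGeometry Limits TopologicalSpace

namespace Groth.Agent.Helper7.QB11

attribute [local instance] HasDerivedCategory.standard

open DRing DerivedCategory Groth.Agent.H4.DCompl1 Groth.Agent.H4.DZ5 Groth.Agent.H4.FB1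
  Groth.Agent.H4.FB2 Groth.Agent.H4.FB3 Groth.Agent.H4.FB4 Groth.Agent.H4.FB5 Groth.Agent.H4.FB6
  Groth.Agent.H4.InjAmp Groth.Agent.H4.DZ3 Groth.Agent.H4.FlatFam
open Groth.Agent.Helper7.QB1 Groth.Agent.Helper7.QB2 Groth.Agent.Helper7.QB3
open Groth.Agent.H4.LDS14 Groth.Agent.H4.LDS17 Groth.Agent.H4.PSch2 Groth.Agent.LD.QC

section ring

/-- localization of a dualizing complex, for any model of the localization. -/
theorem isDualizing_E_loc {A B : Type u} [CommRing A] [IsNoetherianRing A] [CommRing B]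
    [Algebra A B] (S : Submonoid A) [IsLocalization S B] [Module.Flat A B]
    (ω : Dual.D A) (hω : Dual.IsDualizing A ω) :
    Dual.IsDualizing B ((E A B).obj ω) := by
  haveI : IsNoetherianRing B := IsLocalization.isNoetherianRing S B inferInstance
  obtain ⟨a₀, b₀, ha₀, -, -⟩ := exists_bounds_of_isDualizing ω hω
  haveI := ha₀
  obtain ⟨a, b, hab⟩ := hω.finite_injective_dimension
  refine isDualizing_E_of_cyclic ω hω a b (fun J i hi => ?_)
  obtain ⟨I, rfl⟩ : ∃ I : Ideal A, J = I.map (algebraMap A B) :=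
    ⟨_, (IsLocalization.map_under S B J).symm⟩
  exact subsingleton_quot_E ω a₀ I i (hab (A ⧸ I) i hi)

/-- descent of dualizing complexes along a finite cover by principal localizations (any models). -/
theorem isDualizing_of_away_cover {A : Type u} [CommRing A] [IsNoetherianRing A] {n : ℕ}
    (f : Fin n → A) (hf : Ideal.span (Set.range f) = ⊤) (B : Fin n → Type u)
    [∀ k, CommRing (B k)] [∀ k, Algebra A (B k)] [∀ k, IsLocalization.Away (f k) (B k)]
    [∀ k, Module.Flat A (B k)] (ω : Dual.D A)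
    (h : ∀ k, Dual.IsDualizing (B k) ((E A (B k)).obj ω)) : Dual.IsDualizing A ω := by
  have hcov : Covers (A := A) B := by
    intro m hm
    have hex : ∃ i, f i ∉ m := by
      by_contra hcon
      rw [not_exists] at hcon
      apply hm.ne_top
      rw [eq_top_iff, ← hf, Ideal.span_le]
      rintro _ ⟨i, rfl⟩
      exact not_not.1 (hcon i)
    obtain ⟨i, hi⟩ := hex
    refine ⟨i, ?_⟩
    rw [IsLocalization.map_algebraMap_ne_top_iff_disjoint (Submonoid.powers (f i))]
    exact (Ideal.disjoint_powers_iff_notMem _ hm.isPrime.isRadical).2 hi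
  have hjff : JFF (fun k => algebraMap A (B k)) :=
    { flat := fun k => (RingHom.flat_algebraMap_iff).2 inferInstance
      refl := fun Q hQ => by
        haveI : Subsingleton Q := by
          refine subsingleton_of_covers hcov Q (fun k => ?_)
          exact (Groth.Agent.H8.ExtBridge.extEquiv (A := A) (B := B k)
            Q).symm.toEquiv.subsingleton_congr.2 (ModuleCat.subsingleton_of_isZero (hQ k))
        exact ModuleCat.isZero_of_subsingleton Q }
  exact isDualizing_of_finite_covers hcov hjff ω h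

end ring

section sch

variable {X : Scheme.{u}}
  [∀ (U V : Scheme.{u}) (j : U ⟶ V) [IsOpenImmersion j],
    PreservesFiniteLimits (Scheme.Modules.restrictFunctor j)]
  [∀ (R : CommRingCat.{u}), PreservesFiniteLimits (tilde.functor R)]

/-- `K` is given on the chart `g` by a dualizing complex. -/
def P (K : DCoh.D X) {A : Type u} [CommRing A] (g : Spec (CommRingCat.of A) ⟶ X)
    [IsOpenImmersion g] : Prop :=
  ∃ ω : Dual.D A, Dual.IsDualizing A ω ∧
    Nonempty ((DCoh.restrictD g).obj K ≅ (DCoh.tildeD (CommRingCat.of A)).obj ω)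

/-- change of chart along a ring map: the derived restriction is computed by derived base change. -/
lemma nonempty_chart_iso (K : DCoh.D X) {A B : Type u} [CommRing A] [CommRing B] (φ : A →+* B)
    [DRing.HasLBaseChange φ]
    (gA : Spec (CommRingCat.of A) ⟶ X) [IsOpenImmersion gA]
    (gB : Spec (CommRingCat.of B) ⟶ X) [IsOpenImmersion gB]
    (hfac : Spec.map (CommRingCat.ofHom φ) ≫ gA = gB) (ω : Dual.D A)
    (e : (DCoh.restrictD gA).obj K ≅ (DCoh.tildeD (CommRingCat.of A)).obj ω) :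
    Nonempty ((DCoh.restrictD gB).obj K ≅
      (DCoh.tildeD (CommRingCat.of B)).obj ((DRing.LBaseChange φ).obj ω)) := by
  haveI : DCoh.HasLpull (Spec.map (CommRingCat.ofHom φ)) := hasLpull _
  haveI : DCoh.HasLpull gA := hasLpull _
  haveI : DCoh.HasLpull gB := hasLpull _
  haveI : DCoh.HasLpull (Spec.map (CommRingCat.ofHom φ) ≫ gA) := hasLpull _
  obtain ⟨e5⟩ := Groth.Agent.H4.LDS22.S1055 φ
  exact ⟨(lpullIsoRD gB).symm.app K ≪≫ (lpullCongr hfac.symm).app K ≪≫
    (lpullComp (Spec.map (CommRingCat.ofHom φ)) gA).symm.app K ≪≫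
    (DCoh.Lpull (Spec.map (CommRingCat.ofHom φ))).mapIso ((lpullIsoRD gA).app K ≪≫ e) ≪≫
    (e5.app ω).symm⟩

/-- transfer of a dualizing chart along a localization. -/
lemma P_of_loc (K : DCoh.D X) {A B : Type u} [CommRing A] [CommRing B] (φ : A →+* B)
    (S : Submonoid A) (hloc : @IsLocalization A _ S B _ φ.toAlgebra)
    (gA : Spec (CommRingCat.of A) ⟶ X) [IsOpenImmersion gA]
    (gB : Spec (CommRingCat.of B) ⟶ X) [IsOpenImmersion gB]
    (hfac : Spec.map (CommRingCat.ofHom φ) ≫ gA = gB) (h : P K gA) : P K gB := by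
  obtain ⟨ω, hω, ⟨e⟩⟩ := h
  letI := φ.toAlgebra
  haveI := hloc
  haveI := hω.isNoetherianRing
  haveI : Module.Flat A B := IsLocalization.flat B S
  haveI : DRing.HasLBaseChange (algebraMap A B) := Groth.Agent.H4.KProj.hasLBaseChange _
  have hE := isDualizing_E_loc (B := B) S ω hω
  have hd : Dual.IsDualizing B ((DRing.LBaseChange (algebraMap A B)).obj ω) :=
    isDualizing_of_iso (LBCIso (A := A) (B := B) ω).symm hE
  exact ⟨_, hd, nonempty_chart_iso K (algebraMap A B) gA gB hfac ω e⟩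

/-- two charts with the same image. -/
lemma P_of_range_eq (K : DCoh.D X) {A B : Type u} [CommRing A] [CommRing B]
    (gA : Spec (CommRingCat.of A) ⟶ X) [IsOpenImmersion gA]
    (gB : Spec (CommRingCat.of B) ⟶ X) [IsOpenImmersion gB]
    (hr : Set.range gB = Set.range gA) (h : P K gA) : P K gB := by
  let θ := IsOpenImmersion.isoOfRangeEq gB gA hr
  have hθ : θ.hom ≫ gA = gB := IsOpenImmersion.isoOfRangeEq_hom_fac gB gA hr
  let φ' : CommRingCat.of A ⟶ CommRingCat.of B := Spec.preimage θ.hom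
  let ψ' : CommRingCat.of B ⟶ CommRingCat.of A := Spec.preimage θ.inv
  have h1 : φ' ≫ ψ' = 𝟙 _ := by
    apply Spec.map_injective
    simp [φ', ψ', Spec.map_preimage]
  have h2 : ψ' ≫ φ' = 𝟙 _ := by
    apply Spec.map_injective
    simp [φ', ψ', Spec.map_preimage]
  have hbij : Function.Bijective φ'.hom := by
    refine Function.bijective_iff_has_inverse.2 ⟨ψ'.hom, fun a => ?_, fun b => ?_⟩
    · exact congr($(h1).hom a)
    · exact congr($(h2).hom b)
  have hloc : @IsLocalization A _ (⊥ : Submonoid A) B _ φ'.hom.toAlgebra := by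
    letI := φ'.hom.toAlgebra
    refine IsLocalization.of_le_isUnit_of_bijective ?_ hbij
    rintro _ ⟨x, hx, rfl⟩
    rw [SetLike.mem_coe, Submonoid.mem_bot] at hx
    subst hx
    simp
  refine P_of_loc K φ'.hom ⊥ hloc gA gB ?_ h
  change Spec.map φ' ≫ gA = gB
  rw [Spec.map_preimage]
  exact hθ

/-- the canonical chart of an affine open. -/
def Q0 (K : DCoh.D X) (U : X.Opens) (hU : IsAffineOpen U) : Prop :=
  P K (A := Γ(X, U)) hU.fromSpec

/-- the canonical chart of an affine open. -/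
def Q (K : DCoh.D X) (U : X.affineOpens) : Prop := Q0 K U.1 U.2

lemma Q_basicOpen (K : DCoh.D X) (U : X.affineOpens) (f : Γ(X, U.1)) (h : Q K U) :
    Q K (X.affineBasicOpen f) := by
  have hU : IsAffineOpen U.1 := U.2
  have hV : IsAffineOpen (X.basicOpen f) := hU.basicOpen f
  refine P_of_loc K (X.presheaf.map (homOfLE (X.basicOpen_le f)).op).hom (Submonoid.powers f)
    (hU.isLocalization_basicOpen f) hU.fromSpec hV.fromSpec ?_ h
  exact hU.map_fromSpec hV (homOfLE (X.basicOpen_le f)).op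

lemma Q_cover [IsLocallyNoetherian X] (K : DCoh.D X) (hK : DCoh.IsQCohD K) (U : X.affineOpens)
    (s : Finset Γ(X, U.1))
    (hs : Ideal.span (s : Set Γ(X, U.1)) = ⊤) (h : ∀ f : s, Q K (X.affineBasicOpen f.1)) :
    Q K U := by
  have hU : IsAffineOpen U.1 := U.2
  haveI : IsNoetherianRing Γ(X, U.1) := IsLocallyNoetherian.component_noetherian U
  -- the object on `U`
  have hKU := isQCohD_RD hU.fromSpec K hK
  obtain ⟨ω, ⟨eω⟩⟩ := ((s0997 (CommRingCat.of Γ(X, U.1))).2.2 _).1 hKU
  refine ⟨ω, ?_, ⟨eω.symm⟩⟩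
  -- enumerate `s`
  let en : Fin s.card ≃ s := s.equivFin.symm
  let f : Fin s.card → Γ(X, U.1) := fun k => (en k).1
  have hr : Set.range f = (s : Set Γ(X, U.1)) := by
    ext x
    constructor
    · rintro ⟨k, rfl⟩
      exact (en k).2
    · intro hx
      exact ⟨en.symm ⟨x, hx⟩, by simp [f]⟩
  have hf : Ideal.span (Set.range f) = ⊤ := by rw [hr]; exact hs
  haveI : ∀ k, IsLocalization.Away (f k) Γ(X, X.basicOpen (f k)) :=
    fun k => hU.isLocalization_basicOpen (f k)
  haveI : ∀ k, Module.Flat Γ(X, U.1) Γ(X, X.basicOpen (f k)) :=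
    fun k => IsLocalization.flat _ (Submonoid.powers (f k))
  refine isDualizing_of_away_cover f hf (fun k => Γ(X, X.basicOpen (f k))) ω (fun k => ?_)
  have hV : IsAffineOpen (X.basicOpen (f k)) := hU.basicOpen (f k)
  obtain ⟨ωk, hωk, ⟨ek⟩⟩ := h (en k)
  haveI : DRing.HasLBaseChange (algebraMap Γ(X, U.1) Γ(X, X.basicOpen (f k))) :=
    Groth.Agent.H4.KProj.hasLBaseChange _
  obtain ⟨e2⟩ := nonempty_chart_iso K (algebraMap Γ(X, U.1) Γ(X, X.basicOpen (f k)))
    hU.fromSpec hV.fromSpec (hU.map_fromSpec hV (homOfLE (X.basicOpen_le (f k))).op) ω eω.symm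
  haveI := (s0997 (CommRingCat.of Γ(X, X.basicOpen (f k)))).1
  haveI := (s0997 (CommRingCat.of Γ(X, X.basicOpen (f k)))).2.1
  have i' := (DCoh.tildeD (CommRingCat.of Γ(X, X.basicOpen (f k)))).preimageIso (ek.symm ≪≫ e2)
  exact isDualizing_of_iso (LBCIso ω) (isDualizing_of_iso i' hωk)

/-- the cohomology sheaves of `K` are quasi-coherent as soon as `K` is a `tildeD` on a cover. -/
lemma isQCohD_of_charts (K : DCoh.D X) (ι : Type u) (A : ι → Type u) [∀ i, CommRing (A i)]
    (j : ∀ i, Spec (CommRingCat.of (A i)) ⟶ X) [∀ i, IsOpenImmersion (j i)]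
    (hcov : ∀ x : X, ∃ i, x ∈ Set.range (j i))
    (hK : ∀ i, ∃ ω : Dual.D (A i), Nonempty ((DCoh.restrictD (j i)).obj K ≅
      (DCoh.tildeD (CommRingCat.of (A i))).obj ω)) : DCoh.IsQCohD K := by
  intro n
  let 𝒰 : Scheme.OpenCover.{u} X :=
    Scheme.Cover.mkOfCovers ι (fun i => Spec (CommRingCat.of (A i))) j
      (fun x => by
        obtain ⟨i, y, hy⟩ := hcov x
        exact ⟨i, y, hy⟩)
  apply qc_of_openCover _ 𝒰
  intro i
  change ((DCoh.HD K n).restrict (j i)).IsQuasicoherent
  obtain ⟨ω, ⟨e⟩⟩ := hK i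
  have e1 := Groth.Agent.H7.DRec.homologyMapDerivedIso (Scheme.Modules.restrictFunctor (j i)) K n
  have e2 := (DerivedCategory.homologyFunctor (Spec (CommRingCat.of (A i))).Modules n).mapIso e
  exact qc_of_iso (e1.symm ≪≫ e2).symm (isQCohD_tildeD (CommRingCat.of (A i)) ω n)

theorem s3662 [IsLocallyNoetherian X] (K : DCoh.D X) (ι : Type u) (A : ι → Type u)
    [∀ i, CommRing (A i)]
    (j : ∀ i, Spec (CommRingCat.of (A i)) ⟶ X) [∀ i, IsOpenImmersion (j i)]
    (hcov : ∀ x : X, ∃ i, x ∈ Set.range (j i))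
    (hK : ∀ i, ∃ ω : Dual.D (A i), Dual.IsDualizing (A i) ω ∧
      Nonempty ((DCoh.restrictD (j i)).obj K ≅ (DCoh.tildeD (CommRingCat.of (A i))).obj ω)) :
    Dual2.IsDualizingSch X K := by
  intro B _ g _
  have hKq : DCoh.IsQCohD K := isQCohD_of_charts K ι A j hcov (fun i => by
    obtain ⟨ω, -, h⟩ := hK i
    exact ⟨ω, h⟩)
  let U : ι → X.affineOpens := fun i => ⟨(j i).opensRange, isAffineOpen_opensRange (j i)⟩
  have hsup : (⨆ i, (U i : X.Opens)) = ⊤ := by
    rw [eq_top_iff]
    intro x _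
    obtain ⟨i, hi⟩ := hcov x
    exact Opens.mem_iSup.mpr ⟨i, hi⟩
  have hQ : Q K ⟨g.opensRange, isAffineOpen_opensRange g⟩ := by
    refine of_affine_open_cover (P := Q K) U hsup _ (Q_basicOpen K) (Q_cover K hKq) (fun i => ?_)
    have hUi : IsAffineOpen (j i).opensRange := isAffineOpen_opensRange (j i)
    refine P_of_range_eq K (j i) hUi.fromSpec ?_ (hK i)
    rw [hUi.range_fromSpec]
    rfl
  have hUg : IsAffineOpen g.opensRange := isAffineOpen_opensRange g
  refine P_of_range_eq K hUg.fromSpec g ?_ hQ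
  rw [hUg.range_fromSpec]
  rfl

end sch

end Groth.Agent.Helper7.QB11
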