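import Mathlib
import Groth.Prelude
import Groth.Agent.H4.LC3
import Groth.Agent.Lib.Helper7.QB11

/-! # Dualizing complexes and lci morphisms (S3629) -/

set_option autoImplicit false
universe u

open CategoryTheory AlgebraicGeometry Limits TopologicalSpace

namespace Groth.Agent.Helper7.QB12

attribute [local instance] HasDerivedCategory.standard

open DRing DerivedCategory Groth.Agent.H4.DCompl1 Groth.Agent.H4.DZ5 Groth.Agent.H4.FB1
  Groth.Agent.H4.FB2 Groth.Agent.H4.FB3 Groth.Agent.H4.FB4 Groth.Agent.H4.FB5 Groth.Agent.H4.FB6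
  Groth.Agent.H4.InjAmp Groth.Agent.H4.DZ3 Groth.Agent.H4.FlatFam
open Groth.Agent.Helper7.QB1 Groth.Agent.Helper7.QB2 Groth.Agent.Helper7.QB3
open Groth.Agent.Helper7.QB11
open Groth.Agent.H4.LDS14 Groth.Agent.H4.LDS17 Groth.Agent.H4.PSch2 Groth.Agent.LD.QC

variable {X Y : Scheme.{u}}
  [∀ (U V : Scheme.{u}) (j : U ⟶ V) [IsOpenImmersion j],
    PreservesFiniteLimits (Scheme.Modules.restrictFunctor j)]
  [∀ (R : CommRingCat.{u}), PreservesFiniteLimits (tilde.functor R)]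

/-- the chart of `Lf^*K` on an affine `U ⊆ f⁻¹V` is the derived base change of the chart of `K`
on `V`. -/
lemma nonempty_chart_lpull (f : X ⟶ Y) [DCoh.HasLpull f] (K : DCoh.D Y) {U : X.Opens}
    {V : Y.Opens} (hU : IsAffineOpen U) (hV : IsAffineOpen V) (e : U ≤ f ⁻¹ᵁ V)
    [DRing.HasLBaseChange (f.appLE V U e).hom] (ω : Dual.D Γ(Y, V))
    (eV : (DCoh.restrictD hV.fromSpec).obj K ≅ (DCoh.tildeD (CommRingCat.of Γ(Y, V))).obj ω) :
    Nonempty ((DCoh.restrictD hU.fromSpec).obj ((DCoh.Lpull f).obj K) ≅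
      (DCoh.tildeD (CommRingCat.of Γ(X, U))).obj
        ((DRing.LBaseChange (f.appLE V U e).hom).obj ω)) := by
  let φ : Γ(Y, V) →+* Γ(X, U) := (f.appLE V U e).hom
  have sq : hU.fromSpec ≫ f = Spec.map (CommRingCat.ofHom φ) ≫ hV.fromSpec :=
    (IsAffineOpen.SpecMap_appLE_fromSpec f hV hU e).symm
  haveI : DCoh.HasLpull (Spec.map (CommRingCat.ofHom φ)) := hasLpull _
  have e2 := (lpullRestrictIso f hU.fromSpec hV.fromSpec (Spec.map (CommRingCat.ofHom φ))
    sq).app K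
  obtain ⟨e5⟩ := Groth.Agent.H4.LDS22.S1055 φ
  exact ⟨e2 ≪≫ (DCoh.Lpull (Spec.map (CommRingCat.ofHom φ))).mapIso eV ≪≫ (e5.app ω).symm⟩

/-- `Lf^*` of a dualizing complex along an lci morphism is dualizing. -/
theorem dualizing_lpull_of_lci [IsLocallyNoetherian X] [IsLocallyNoetherian Y] (f : X ⟶ Y)
    (hf : Dual3.IsLCIMor f) [DCoh.HasLpull f] (K : DCoh.D Y) (hK : Dual2.IsDualizingSch Y K) :
    Dual2.IsDualizingSch X ((DCoh.Lpull f).obj K) := by
  choose U V e hxU hlci using hf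
  have hU : ∀ x, IsAffineOpen (U x).1 := fun x => (U x).2
  have hV : ∀ x, IsAffineOpen (V x).1 := fun x => (V x).2
  refine s3662 _ X (fun x => Γ(X, (U x).1)) (fun x => (hU x).fromSpec) (fun x => ⟨x, ?_⟩)
    (fun x => ?_)
  · rw [(hU x).range_fromSpec]
    exact hxU x
  · obtain ⟨ωV, hωV, ⟨eV⟩⟩ := hK Γ(Y, (V x).1) (hV x).fromSpec
    letI := (f.appLE (V x).1 (U x).1 (e x)).hom.toAlgebra
    haveI : IsNoetherianRing Γ(Y, (V x).1) := IsLocallyNoetherian.component_noetherian (V x)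
    haveI : IsNoetherianRing Γ(X, (U x).1) := IsLocallyNoetherian.component_noetherian (U x)
    haveI : DRing.HasLBaseChange (algebraMap Γ(Y, (V x).1) Γ(X, (U x).1)) :=
      Groth.Agent.H4.KProj.hasLBaseChange _
    have hd := Groth.Agent.H4.LC3.isDualizing_LBaseChange_of_isLCI Γ(Y, (V x).1) Γ(X, (U x).1)
      (hlci x) ωV hωV
    exact ⟨_, hd, nonempty_chart_lpull f K (hU x) (hV x) (e x) ωV eV⟩

/-- a single flat ring map which is surjective on spectra over `V` is (jointly) faithfully flat. -/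
lemma covers_single (f : X ⟶ Y) {U : X.Opens} {V : Y.Opens} (hU : IsAffineOpen U)
    (hV : IsAffineOpen V) (e : U ≤ f ⁻¹ᵁ V) (hsurj : ∀ y ∈ V, ∃ x ∈ U, f x = y) :
    letI : Algebra Γ(Y, V) Γ(X, U) := (f.appLE V U e).hom.toAlgebra
    Covers (A := Γ(Y, V)) (fun _ : Fin 1 => Γ(X, U)) := by
  letI : Algebra Γ(Y, V) Γ(X, U) := (f.appLE V U e).hom.toAlgebra
  intro 𝔪 h𝔪
  let p : Spec Γ(Y, V) := ⟨𝔪, h𝔪.isPrime⟩
  have hpV : hV.fromSpec p ∈ V := by
    have : hV.fromSpec p ∈ Set.range hV.fromSpec := ⟨p, rfl⟩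
    rw [hV.range_fromSpec] at this
    exact this
  obtain ⟨x', hx'U, hx'⟩ := hsurj _ hpV
  refine ⟨0, ?_⟩
  have hr : x' ∈ Set.range hU.fromSpec := by
    rw [hU.range_fromSpec]
    exact hx'U
  obtain ⟨q', rfl⟩ := hr
  have sq := IsAffineOpen.SpecMap_appLE_fromSpec f hV hU e
  have h1 : hV.fromSpec ((Spec.map (f.appLE V U e)) q') = hV.fromSpec p := by
    rw [← hx']
    have := congr($(sq) q')
    simpa using this
  have h2 : (Spec.map (f.appLE V U e)) q' = p :=
    hV.fromSpec.isOpenEmbedding.injective h1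
  intro htop
  have h3 : 𝔪 = q'.asIdeal.comap (f.appLE V U e).hom := by
    have := congrArg PrimeSpectrum.asIdeal h2
    exact this.symm
  have h4 : Ideal.map (algebraMap Γ(Y, V) Γ(X, U)) 𝔪 ≤ q'.asIdeal := by
    rw [Ideal.map_le_iff_le_comap, h3]
    exact le_rfl
  exact q'.isPrime.ne_top (top_le_iff.1 (htop ▸ h4))

/-- descent of dualizing complexes along a flat surjective morphism locally of finite presentation,
for objects of `D_QCoh`. -/
theorem dualizing_of_lpull [IsLocallyNoetherian X] [IsLocallyNoetherian Y] (f : X ⟶ Y)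
    [Surjective f] [Flat f] [LocallyOfFinitePresentation f] [DCoh.HasLpull f] (K : DCoh.D Y)
    (hKq : DCoh.IsQCohD K) (h : Dual2.IsDualizingSch X ((DCoh.Lpull f).obj K)) :
    Dual2.IsDualizingSch Y K := by
  have key : ∀ y : Y, ∃ (V' : Y.Opens) (hV' : IsAffineOpen V'), y ∈ V' ∧
      P K (A := Γ(Y, V')) hV'.fromSpec := by
    intro y
    obtain ⟨x, rfl⟩ := f.surjective y
    obtain ⟨V, hV, hyV, -⟩ :=
      exists_isAffineOpen_mem_and_subset (x := f x) (U := (⊤ : Y.Opens)) trivial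
    obtain ⟨U, hU, hxU, hUV⟩ :=
      exists_isAffineOpen_mem_and_subset (x := x) (U := f ⁻¹ᵁ V) hyV
    have e : U ≤ f ⁻¹ᵁ V := hUV
    let W : Y.Opens := ⟨f '' U, f.isOpenMap _ U.isOpen⟩
    have hyW : f x ∈ W := ⟨x, hxU, rfl⟩
    obtain ⟨a, ha1, ha2⟩ := hV.exists_basicOpen_le (V := W) ⟨f x, hyW⟩ hyV
    have hV' : IsAffineOpen (Y.basicOpen a) := hV.basicOpen a
    have hU' : IsAffineOpen (X.basicOpen (f.appLE V U e a)) := hU.basicOpen _
    have hU'eq : X.basicOpen (f.appLE V U e a) = U ⊓ f ⁻¹ᵁ (Y.basicOpen a) :=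
      Scheme.basicOpen_appLE f U V e a
    have e' : X.basicOpen (f.appLE V U e a) ≤ f ⁻¹ᵁ (Y.basicOpen a) := by
      rw [hU'eq]
      exact inf_le_right
    have hsurj : ∀ y' ∈ Y.basicOpen a, ∃ x' ∈ X.basicOpen (f.appLE V U e a), f x' = y' := by
      intro y' hy'
      obtain ⟨x', hx'U, rfl⟩ := ha1 hy'
      refine ⟨x', ?_, rfl⟩
      rw [hU'eq]
      exact ⟨hx'U, hy'⟩
    refine ⟨Y.basicOpen a, hV', ha2, ?_⟩
    -- the object on `V'`
    haveI : IsNoetherianRing Γ(Y, Y.basicOpen a) :=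
      IsLocallyNoetherian.component_noetherian ⟨_, hV'⟩
    have hKV := isQCohD_RD hV'.fromSpec K hKq
    obtain ⟨ω, ⟨eω⟩⟩ := ((s0997 (CommRingCat.of Γ(Y, Y.basicOpen a))).2.2 _).1 hKV
    refine ⟨ω, ?_, ⟨eω.symm⟩⟩
    letI : Algebra Γ(Y, Y.basicOpen a) Γ(X, X.basicOpen (f.appLE V U e a)) :=
      (f.appLE (Y.basicOpen a) (X.basicOpen (f.appLE V U e a)) e').hom.toAlgebra
    have hfl : (f.appLE (Y.basicOpen a) (X.basicOpen (f.appLE V U e a)) e').hom.Flat :=
      HasRingHomProperty.appLE @Flat f inferInstance ⟨_, hV'⟩ ⟨_, hU'⟩ e'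
    haveI : Module.Flat Γ(Y, Y.basicOpen a) Γ(X, X.basicOpen (f.appLE V U e a)) := hfl
    haveI : DRing.HasLBaseChange
        (algebraMap Γ(Y, Y.basicOpen a) Γ(X, X.basicOpen (f.appLE V U e a))) :=
      Groth.Agent.H4.KProj.hasLBaseChange _
    obtain ⟨ωU, hωU, ⟨eU⟩⟩ := h Γ(X, X.basicOpen (f.appLE V U e a)) hU'.fromSpec
    obtain ⟨e2⟩ := nonempty_chart_lpull f K hU' hV' e' ω eω.symm
    haveI := (s0997 (CommRingCat.of Γ(X, X.basicOpen (f.appLE V U e a)))).1
    haveI := (s0997 (CommRingCat.of Γ(X, X.basicOpen (f.appLE V U e a)))).2.1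
    have i' := (DCoh.tildeD (CommRingCat.of Γ(X, X.basicOpen (f.appLE V U e a)))).preimageIso
      (eU.symm ≪≫ e2)
    have hE : Dual.IsDualizing Γ(X, X.basicOpen (f.appLE V U e a))
        ((E Γ(Y, Y.basicOpen a) Γ(X, X.basicOpen (f.appLE V U e a))).obj ω) :=
      isDualizing_of_iso (LBCIso ω) (isDualizing_of_iso i' hωU)
    have hcov := covers_single f hU' hV' e' hsurj
    have hjff : JFF (A := Γ(Y, Y.basicOpen a))
        (B := fun _ : Fin 1 => Γ(X, X.basicOpen (f.appLE V U e a)))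
        (fun _ => algebraMap Γ(Y, Y.basicOpen a) Γ(X, X.basicOpen (f.appLE V U e a))) :=
      { flat := fun _ => hfl
        refl := fun Q hQ => by
          haveI : Subsingleton Q := subsingleton_of_covers hcov Q (fun k =>
            (Groth.Agent.H8.ExtBridge.extEquiv (A := Γ(Y, Y.basicOpen a))
              (B := Γ(X, X.basicOpen (f.appLE V U e a))) Q).symm.toEquiv.subsingleton_congr.2
              (ModuleCat.subsingleton_of_isZero (hQ k)))
          exact ModuleCat.isZero_of_subsingleton Q }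
    exact isDualizing_of_finite_covers hcov hjff ω (fun _ => hE)
  choose V' hV' hyV' hP using key
  exact s3662 K Y (fun y => Γ(Y, V' y)) (fun y => (hV' y).fromSpec)
    (fun y => ⟨y, by rw [(hV' y).range_fromSpec]; exact hyV' y⟩) hP

theorem lfp_of_isLCIMor [IsLocallyNoetherian Y] (f : X ⟶ Y) (hf : Dual3.IsLCIMor f) :
    LocallyOfFinitePresentation f := by
  rw [HasRingHomProperty.iff_exists_appLE (P := @LocallyOfFinitePresentation)
    (RingHom.finitePresentation_stableUnderComposition.stableUnderCompositionWithLocalizationAway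
      RingHom.finitePresentation_holdsForLocalizationAway).left]
  intro x
  obtain ⟨U, V, e, hx, hl⟩ := hf x
  refine ⟨V, U, hx, e, ?_⟩
  haveI : IsNoetherianRing Γ(Y, V.1) := IsLocallyNoetherian.component_noetherian V
  rw [← RingHom.FinitePresentation.of_finiteType]
  exact hl.1

theorem s3629 [IsLocallyNoetherian X] [IsLocallyNoetherian Y] (f : X ⟶ Y) [Surjective f]
    [Flat f] (hf : Dual3.IsLCIMor f) [DCoh.HasLpull f] (K : DCoh.DQCoh Y) :
    Dual2.IsDualizingSch Y K.obj ↔ Dual2.IsDualizingSch X ((DCoh.Lpull f).obj K.obj) := by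
  haveI := lfp_of_isLCIMor f hf
  exact ⟨dualizing_lpull_of_lci f hf K.obj, dualizing_of_lpull f K.obj K.property⟩

end Groth.Agent.Helper7.QB12
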