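import Mathlib
import Groth.Prelude
import Groth.Agent.S0373
import Groth.Agent.Lib.Helper7.GorFib

set_option autoImplicit false
universe u

open CategoryTheory AlgebraicGeometry Limits

namespace Groth.Agent.Helper7.QB8

attribute [local instance] HasDerivedCategory.standard

/-- For `y` in an affine open `U`, the stalk at `y` is Gorenstein iff the localization of `Γ(X,U)` at the
corresponding prime is. -/
lemma gor_stalk_iff {X : Scheme.{u}} {U : X.Opens} (hU : IsAffineOpen U) (y : U) :
    LocCoh.IsGorensteinLocalRing (X.presheaf.stalk (y : X)) ↔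
      LocCoh.IsGorensteinLocalRing (Localization.AtPrime (hU.primeIdealOf y).asIdeal) := by
  letI := X.presheaf.algebra_section_stalk y
  haveI := hU.isLocalization_stalk y
  have e : Localization.AtPrime (hU.primeIdealOf y).asIdeal ≃ₐ[Γ(X, U)] X.presheaf.stalk (y : X) :=
    IsLocalization.algEquiv (hU.primeIdealOf y).asIdeal.primeCompl _ _
  exact (Groth.Agent.H7.GorFib.gor_iff_of_ringEquiv e.toRingEquiv).symm

theorem s3621 (X : Scheme.{u}) [IsLocallyNoetherian X]
    [∀ (U V : Scheme.{u}) (j : U ⟶ V) [IsOpenImmersion j],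
      PreservesFiniteLimits (Scheme.Modules.restrictFunctor j)]
    [∀ (R : CommRingCat.{u}), PreservesFiniteLimits (tilde.functor R)]
    (K : DCoh.D X) (hK : Dual2.IsDualizingSch X K) :
    IsOpen {x : X | LocCoh.IsGorensteinLocalRing (X.presheaf.stalk x)} := by
  rw [isOpen_iff_forall_mem_open]
  intro x hx
  obtain ⟨U, hU', hxU, -⟩ := exists_isAffineOpen_mem_and_subset (x := x) (U := ⊤) trivial
  obtain ⟨ω, hω, -⟩ := hK Γ(X, U) hU'.fromSpec
  haveI := hω.isNoetherianRing
  have hopen := Groth.Agent.S0373.result Γ(X, U) ω hω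
  have hcont : Continuous (fun y : U => hU'.primeIdealOf y) := by
    unfold IsAffineOpen.primeIdealOf
    exact hU'.isoSpec.hom.continuous
  have h1 := hopen.preimage hcont
  have h2 : IsOpen (Subtype.val '' ((fun y : U => hU'.primeIdealOf y) ⁻¹'
      {p : PrimeSpectrum Γ(X, U) | LocCoh.IsGorensteinLocalRing (Localization.AtPrime p.asIdeal)})) :=
    U.isOpen.isOpenMap_subtype_val _ h1
  refine ⟨_, ?_, h2, ⟨⟨x, hxU⟩, ?_, rfl⟩⟩
  · rintro _ ⟨y, hy, rfl⟩
    exact (gor_stalk_iff hU' y).2 hy
  · exact (gor_stalk_iff hU' ⟨x, hxU⟩).1 hx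

end Groth.Agent.Helper7.QB8
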