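import Mathlib
import Groth.Prelude
import Groth.Agent.H4.US17
import Groth.Agent.H4.PCS3
import Groth.Agent.Lib.Helper6.GorGlobal
import Groth.Agent.Lib.Helper7.QB8
import Groth.Agent.Lib.Helper7.QB10
import Groth.Agent.Lib.Helper7.QB11

/-! # Gorenstein ⇔ dualizing complex invertible (S3620) -/

set_option autoImplicit false
universe u

open CategoryTheory AlgebraicGeometry Limits DerivedCategory

namespace Groth.Agent.Helper7.QB13

attribute [local instance] HasDerivedCategory.standard

section ring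

open Groth.Agent.H4.US17 Groth.Agent.H4.ProjAmp Groth.Agent.H4.FB2 Groth.Agent.H4.FB3
  Groth.Agent.H4.US13
open scoped TensorProduct

variable {A : Type u} [CommRing A]

/-- a complex whose only cohomology is `A` in degree `m` is `A[-m]`. -/
lemma nonempty_iso_shift_unit (ω : Dual.D A) (m : ℤ)
    (hvan : ∀ i : ℤ, i ≠ m → Subsingleton (Dual.HD A ω i)) (em : Dual.HD A ω m ≃ₗ[A] A) :
    Nonempty (ω ≅ (Dual.inD A A)⟦-m⟧) := by
  haveI : ω.IsGE m := by
    rw [isGE_iff]
    intro i hi
    haveI := hvan i (by omega)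
    exact ModuleCat.isZero_of_subsingleton _
  haveI : ω.IsLE m := by
    rw [isLE_iff]
    intro i hi
    haveI := hvan i (by omega)
    exact ModuleCat.isZero_of_subsingleton _
  obtain ⟨W, ⟨eW⟩⟩ := exists_iso_singleFunctor_obj_of_isGE_of_isLE ω m
  let e1 : W ≅ ModuleCat.of A A :=
    ((singleFunctorCompHomologyFunctorIso (ModuleCat.{u} A) m).app W).symm ≪≫
      (homologyFunctor (ModuleCat.{u} A) m).mapIso eW.symm ≪≫ em.toModuleIso
  exact ⟨eW ≪≫ (singleFunctor (ModuleCat.{u} A) m).mapIso e1 ≪≫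
      (((singleFunctors (ModuleCat.{u} A)).shiftIso (-m) m 0 (by ring)).app
        (ModuleCat.of A A)).symm⟩

/-- finite injective dimension from a dualizing unit (no locality needed). -/
lemma exists_injdim_of_isDualizing_unit (h : Dual.IsDualizing A (Dual.inD A A)) :
    ∃ n : ℕ, HasInjectiveDimensionLT (ModuleCat.of A A) n := by
  obtain ⟨a, b, hab⟩ := h.finite_injective_dimension
  refine ⟨(b + 1).toNat, ?_⟩
  rw [hasInjectiveDimensionLT_iff]
  intro i hi Y e
  haveI := hab Y (i : ℤ) (Or.inr (by omega))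
  apply (Abelian.Ext.homEquiv (X := Y) (Y := ModuleCat.of A A) (n := i)).injective
  exact Subsingleton.elim _ _

lemma subsingleton_tensor_of_annihilator {B : Type u} [CommRing B] [Algebra A B] (N : Type u)
    [AddCommGroup N] [Module A N] (h : A) (hN : ∀ n : N, h • n = 0)
    (hu : IsUnit (algebraMap A B h)) : Subsingleton (B ⊗[A] N) := by
  obtain ⟨u, hu'⟩ := hu.exists_right_inv
  have key : ∀ z : B ⊗[A] N, z = 0 := by
    intro z
    induction z using TensorProduct.induction_on with
    | zero => rfl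
    | tmul b n =>
      have hb : b = h • (b * u) := by
        rw [Algebra.smul_def, mul_comm b u, ← mul_assoc, hu', one_mul]
      rw [hb, TensorProduct.smul_tmul, hN, TensorProduct.tmul_zero]
    | add a b ha hb => rw [ha, hb, add_zero]
  exact ⟨fun x y => by rw [key x, key y]⟩

/-- `H^i(B ⊗ K) = B ⊗ H^i(K)` for flat `B`. -/
noncomputable def HDEEquiv {B : Type u} [CommRing B] [Algebra A B] [Module.Flat A B]
    (K : Dual.D A) (i : ℤ) : Dual.HD B ((E A B).obj K) i ≃ₗ[B] B ⊗[A] Dual.HD A K i :=
  (homologyEIso (B := B) K i).toLinearEquiv.trans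
    (Groth.Agent.H8.ExtBridge.extEquiv (A := A) (B := B)
      ((homologyFunctor (ModuleCat.{u} A) i).obj K))

/-- **spreading out**: near a Gorenstein point, a dualizing complex is a shift of the ring. -/
theorem exists_away_iso [IsNoetherianRing A] (p : PrimeSpectrum A) (ω : Dual.D A)
    (hω : Dual.IsDualizing A ω)
    (hp : LocCoh.IsGorensteinLocalRing (Localization.AtPrime p.asIdeal)) :
    ∃ (t : A) (m : ℤ), t ∉ p.asIdeal ∧
      Nonempty ((E A (Localization.Away t)).obj ω ≅
        (Dual.inD (Localization.Away t) (Localization.Away t))⟦-m⟧) := by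
  obtain ⟨a, b, ha, hb, -⟩ := exists_bounds_of_isDualizing ω hω
  haveI := ha
  haveI := hb
  obtain ⟨m, hvan, ⟨em⟩⟩ := (isGorenstein_localization_iff p ω hω).1 hp
  haveI := hω.finite_cohomology m
  haveI : Module.FinitePresentation A (Dual.HD A ω m) := Module.finitePresentation_of_finite A _
  -- the element killing the other cohomology modules
  let s : Finset ℤ := (Finset.Icc a b).filter (fun i => i ≠ m)
  have h1 : ¬ (∏ i ∈ s, Module.annihilator A (Dual.HD A ω i)) ≤ p.asIdeal := by
    rw [Ideal.IsPrime.prod_le p.isPrime]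
    rintro ⟨i, hi, hle⟩
    haveI := hω.finite_cohomology i
    exact hvan i (Finset.mem_filter.1 hi).2 (Module.mem_support_iff_of_finite.2 hle)
  obtain ⟨h, hh, hhp⟩ := SetLike.not_le_iff_exists.1 h1
  have hann : ∀ i ∈ s, ∀ x : Dual.HD A ω i, h • x = 0 := by
    intro i hi x
    have : h ∈ Module.annihilator A (Dual.HD A ω i) :=
      (Ideal.prod_le_inf.trans (Finset.inf_le hi)) hh
    exact Module.mem_annihilator.1 this x
  -- a generator of `H^m` near `p`
  obtain ⟨x, s0, hx⟩ : ∃ (x : Dual.HD A ω m) (s0 : p.asIdeal.primeCompl),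
      em.symm 1 = LocalizedModule.mk x s0 := by
    induction em.symm 1 using LocalizedModule.induction_on with
    | h x s0 => exact ⟨x, s0, rfl⟩
  let l : A →ₗ[A] Dual.HD A ω m := LinearMap.toSpanSingleton A _ x
  let S := p.asIdeal.primeCompl
  let f : A →ₗ[A] Localization.AtPrime p.asIdeal := Algebra.linearMap A _
  let g := LocalizedModule.mkLinearMap S (Dual.HD A ω m)
  have hu : IsUnit (algebraMap A (Localization.AtPrime p.asIdeal) s0.1) :=
    IsLocalization.map_units _ s0
  let ψ : Localization.AtPrime p.asIdeal ≃ₗ[Localization.AtPrime p.asIdeal]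
      LocalizedModule S (Dual.HD A ω m) :=
    (LinearEquiv.smulOfUnit hu.unit).trans em.symm
  have hf : Function.Bijective (IsLocalizedModule.map S f g l) := by
    have : IsLocalizedModule.map S f g l = ψ.toLinearMap.restrictScalars A := by
      apply IsLocalizedModule.ext S f (IsLocalizedModule.map_units g)
      apply LinearMap.ext
      intro c
      rw [LinearMap.comp_apply, IsLocalizedModule.map_apply]
      have e1 : (ψ.toLinearMap.restrictScalars A ∘ₗ f) c =
          em.symm (algebraMap A (Localization.AtPrime p.asIdeal) (s0.1 * c) •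
            (1 : Localization.AtPrime p.asIdeal)) := by
        change em.symm (hu.unit • algebraMap A (Localization.AtPrime p.asIdeal) c) = _
        congr 1
        rw [Units.smul_def, IsUnit.unit_spec, smul_eq_mul, smul_eq_mul, mul_one, map_mul]
      rw [e1, map_smul, hx, algebraMap_smul, LocalizedModule.smul'_mk]
      change LocalizedModule.mk (c • x) 1 = _
      rw [LocalizedModule.mk_eq]
      refine ⟨1, ?_⟩
      simp only [one_smul, mul_smul]
      rfl
    rw [this]
    exact ψ.bijective
  obtain ⟨r, hr, hbij⟩ := exists_bijective_map_powers S f g l hf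
  refine ⟨r * h, m, fun ht => (p.isPrime.mem_or_mem ht).elim hr hhp, ?_⟩
  have hb' := hbij (r * h) (Dvd.intro h rfl)
  set t := r * h with ht
  haveI : Module.Flat A (Localization.Away t) := IsLocalization.flat _ (Submonoid.powers t)
  have hut : IsUnit (algebraMap A (Localization.Away t) t) := IsLocalization.Away.algebraMap_isUnit t
  have huh : IsUnit (algebraMap A (Localization.Away t) h) := by
    rw [ht, map_mul] at hut
    exact isUnit_of_mul_isUnit_right hut
  refine nonempty_iso_shift_unit _ m (fun i hi => ?_) ?_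
  · refine (HDEEquiv (B := Localization.Away t) ω i).toEquiv.subsingleton_congr.2 ?_
    by_cases hib : a ≤ i ∧ i ≤ b
    · exact subsingleton_tensor_of_annihilator _ h
        (hann i (Finset.mem_filter.2 ⟨Finset.mem_Icc.2 hib, hi⟩)) huh
    · haveI : Subsingleton (Dual.HD A ω i) := by
        apply ModuleCat.subsingleton_of_isZero
        rcases not_and_or.1 hib with h' | h'
        · exact isZero_of_isGE ω a i (by omega)
        · exact isZero_of_isLE ω b i (by omega)
      exact subsingleton_tensor_of_annihilator _ h (fun n => Subsingleton.elim _ _) huh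
  · exact (HDEEquiv (B := Localization.Away t) ω m).trans
      ((IsLocalizedModule.isBaseChange (Submonoid.powers t) (Localization.Away t)
        (LocalizedModule.mkLinearMap (Submonoid.powers t) (Dual.HD A ω m))).equiv.trans
      ((LinearEquiv.ofBijective (LocalizedModule.map (Submonoid.powers t) l) hb').symm.trans
      ((IsLocalizedModule.isBaseChange (Submonoid.powers t) (Localization.Away t)
        (LocalizedModule.mkLinearMap (Submonoid.powers t) A)).equiv.symm.trans
      (TensorProduct.AlgebraTensorModule.rid A (Localization.Away t) (Localization.Away t)))))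

end ring


section sch

open Groth.Agent.H4.PSch2 Groth.Agent.H4.PCS3 Groth.Agent.H4.FB2 Groth.Agent.H4.FB3
  Groth.Agent.H4.US13
open Groth.Agent.Helper7.QB2 Groth.Agent.Helper7.QB8 Groth.Agent.Helper7.QB10
  Groth.Agent.Helper7.QB11

variable {X : Scheme.{u}}
  [∀ (U V : Scheme.{u}) (j : U ⟶ V) [IsOpenImmersion j],
    PreservesFiniteLimits (Scheme.Modules.restrictFunctor j)]
  [∀ (R : CommRingCat.{u}), PreservesFiniteLimits (tilde.functor R)]

/-- restriction along equal morphisms. -/
noncomputable def RDcongr {U : Scheme.{u}} {f g : U ⟶ X} (h : f = g) [IsOpenImmersion f]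
    [IsOpenImmersion g] : DCoh.restrictD f ≅ DCoh.restrictD g := by
  subst h
  exact Iso.refl _

/-- restriction of a shifted unit. -/
noncomputable def restrictShiftUnitIso {U : Scheme.{u}} (j : U ⟶ X) [IsOpenImmersion j] (n : ℤ) :
    (DCoh.restrictD j).obj ((DCoh.inD X (Coh.structureModule X))⟦n⟧) ≅
      (DCoh.inD U (Coh.structureModule U))⟦n⟧ :=
  ((DCoh.restrictD j).commShiftIso n).app _ ≪≫
    (shiftFunctor (DCoh.D U) n).mapIso (restrictUnitIsoD j)

/-- tilde of a shifted unit. -/
noncomputable def tildeShiftUnitIso (A : Type u) [CommRing A] (n : ℤ) :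
    (DCoh.tildeD (CommRingCat.of A)).obj ((Dual.inD A A)⟦n⟧) ≅
      (DCoh.inD (Spec (CommRingCat.of A)) (Coh.structureModule _))⟦n⟧ :=
  ((DCoh.tildeD (CommRingCat.of A)).commShiftIso n).app _ ≪≫
    (shiftFunctor _ n).mapIso (tildeUnitIso (CommRingCat.of A))

theorem gorenstein_of_invertible [IsLocallyNoetherian X] (K : DCoh.D X)
    (hK : Dual2.IsDualizingSch X K) (hinv : Dual3.IsInvertibleD K) : Dual3.IsGorenstein X := by
  refine ⟨inferInstance, fun x => ?_⟩
  obtain ⟨U, n, hxU, ⟨eU⟩⟩ := hinv x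
  obtain ⟨W, hW, hxW, hWU⟩ := exists_isAffineOpen_mem_and_subset (x := x) (U := U) hxU
  obtain ⟨ω, hω, ⟨e⟩⟩ := hK Γ(X, W) hW.fromSpec
  haveI := hω.isNoetherianRing
  have hr : Set.range hW.fromSpec ⊆ Set.range U.ι := by
    rw [hW.range_fromSpec, Scheme.Opens.range_ι]
    exact hWU
  let s : Spec (CommRingCat.of Γ(X, W)) ⟶ (U : Scheme.{u}) :=
    IsOpenImmersion.lift U.ι hW.fromSpec hr
  have hs : s ≫ U.ι = hW.fromSpec := IsOpenImmersion.lift_fac _ _ _
  haveI : IsOpenImmersion s := by
    haveI : IsOpenImmersion (s ≫ U.ι) := by rw [hs]; infer_instance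
    exact IsOpenImmersion.of_comp s U.ι
  let e1 : (DCoh.tildeD (CommRingCat.of Γ(X, W))).obj ω ≅
      (DCoh.tildeD (CommRingCat.of Γ(X, W))).obj ((Dual.inD Γ(X, W) Γ(X, W))⟦n⟧) :=
    e.symm ≪≫ (RDcongr hs.symm).app K ≪≫ (RDcomp s U.ι).app K ≪≫
      (DCoh.restrictD s).mapIso eU ≪≫ restrictShiftUnitIso s n ≪≫
      (tildeShiftUnitIso Γ(X, W) n).symm
  haveI := (s0997 (CommRingCat.of Γ(X, W))).1
  haveI := (s0997 (CommRingCat.of Γ(X, W))).2.1
  have e2 : ω ≅ (Dual.inD Γ(X, W) Γ(X, W))⟦n⟧ :=
    (DCoh.tildeD (CommRingCat.of Γ(X, W))).preimageIso e1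
  have h3 : Dual.IsDualizing Γ(X, W) (Dual.inD Γ(X, W) Γ(X, W)) :=
    isDualizing_of_iso (shiftShiftNeg _ n)
      (isDualizing_shift _ (isDualizing_of_iso e2 hω) (-n))
  obtain ⟨hgor, -⟩ :=
    Groth.Agent.H6.Bass.finite_injdim_self_iff.1 (exists_injdim_of_isDualizing_unit h3)
  rw [gor_stalk_iff hW ⟨x, hxW⟩]
  exact hgor.isGorensteinLocalRing_localization _

theorem invertible_of_gorenstein [IsLocallyNoetherian X] (K : DCoh.D X)
    (hK : Dual2.IsDualizingSch X K) (hX : Dual3.IsGorenstein X) : Dual3.IsInvertibleD K := by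
  intro x
  obtain ⟨W, hW, hxW, -⟩ := exists_isAffineOpen_mem_and_subset (x := x) (U := ⊤) trivial
  obtain ⟨ω, hω, ⟨e⟩⟩ := hK Γ(X, W) hW.fromSpec
  haveI := hω.isNoetherianRing
  have hp := (gor_stalk_iff hW ⟨x, hxW⟩).1 (hX.2 x)
  obtain ⟨t, m, htp, ⟨e2⟩⟩ := exists_away_iso (hW.primeIdealOf ⟨x, hxW⟩) ω hω hp
  haveI : Module.Flat Γ(X, W) (Localization.Away t) :=
    IsLocalization.flat _ (Submonoid.powers t)
  haveI : DRing.HasLBaseChange (algebraMap Γ(X, W) (Localization.Away t)) :=
    Groth.Agent.H4.KProj.hasLBaseChange _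
  haveI : IsOpenImmersion
      (Spec.map (CommRingCat.ofHom (algebraMap Γ(X, W) (Localization.Away t)))) :=
    inferInstance
  let gB : Spec (CommRingCat.of (Localization.Away t)) ⟶ X :=
    Spec.map (CommRingCat.ofHom (algebraMap Γ(X, W) (Localization.Away t))) ≫ hW.fromSpec
  haveI : IsOpenImmersion gB := inferInstance
  obtain ⟨e3⟩ := nonempty_chart_iso K (algebraMap Γ(X, W) (Localization.Away t)) hW.fromSpec gB
    rfl ω e
  let U : X.Opens := gB.opensRange
  let c : Spec (CommRingCat.of (Localization.Away t)) ≅ (U : Scheme.{u}) := gB.isoOpensRange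
  have hc : c.inv ≫ gB = U.ι := Scheme.Hom.isoOpensRange_inv_comp gB
  refine ⟨U, -m, ?_, ⟨?_⟩⟩
  · obtain ⟨q, hq⟩ : (hW.primeIdealOf ⟨x, hxW⟩) ∈
        Set.range (PrimeSpectrum.comap (algebraMap Γ(X, W) (Localization.Away t))) := by
      rw [PrimeSpectrum.localization_away_comap_range (Localization.Away t) t]
      exact htp
    refine ⟨q, ?_⟩
    have h1 := hW.fromSpec_primeIdealOf ⟨x, hxW⟩
    rw [← hq] at h1
    exact h1
  · exact (RDcongr hc.symm).app K ≪≫ (RDcomp c.inv gB).app K ≪≫
      (DCoh.restrictD c.inv).mapIso (e3 ≪≫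
        (DCoh.tildeD (CommRingCat.of (Localization.Away t))).mapIso (LBCIso ω ≪≫ e2) ≪≫
        tildeShiftUnitIso (Localization.Away t) (-m)) ≪≫ restrictShiftUnitIso c.inv (-m)

theorem s3620 [IsLocallyNoetherian X] (K : DCoh.D X) (hK : Dual2.IsDualizingSch X K) :
    Dual3.IsGorenstein X ↔ Dual3.IsInvertibleD K :=
  ⟨invertible_of_gorenstein K hK, gorenstein_of_invertible K hK⟩

end sch

end Groth.Agent.Helper7.QB13
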