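import Mathlib
import Groth.Prelude
import Groth.Agent.H4.K0Perf
import Groth.Agent.H4.TilD4
import Groth.Agent.H4.PSch5
import Groth.Agent.Lib.Helper6.LerayBB3
import Groth.Agent.Lib.Lead.QC.LocFree
import Groth.Agent.Lib.Helper7.QB2
import Groth.Agent.Lib.Helper5.AG.TildeExact

/-! # K₀ of perfect complexes on an affine scheme (S1029) -/

set_option autoImplicit false
universe v₁ v₂ w u

open CategoryTheory Limits Pretriangulated ZeroObject

namespace Groth.Agent.Helper7.QB14

section abstract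

variable {C : Type w} [Category.{v₁} C] [Preadditive C] [HasZeroObject C] [HasShift C ℤ]
  [∀ n : ℤ, (shiftFunctor C n).Additive] [Pretriangulated C]

/-- generator of `K0tr P`. -/
def gen (P : ObjectProperty C) (X : C) (h : P X) : KZero.K0tr P :=
  QuotientAddGroup.mk (FreeAbelianGroup.of ⟨X, h⟩)

lemma clTr_eq_gen (P : ObjectProperty C) (X : C) (h : P X) : KZero.clTr P X = gen P X h :=
  dif_pos h

lemma gen_triangle (P : ObjectProperty C) (T : Triangle C) (hT : T ∈ distTriang C)
    (h1 : P T.obj₁) (h2 : P T.obj₂) (h3 : P T.obj₃) :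
    gen P T.obj₂ h2 = gen P T.obj₁ h1 + gen P T.obj₃ h3 := by
  have : FreeAbelianGroup.of (⟨T.obj₂, h2⟩ : Subtype P) - FreeAbelianGroup.of ⟨T.obj₁, h1⟩ -
      FreeAbelianGroup.of ⟨T.obj₃, h3⟩ ∈ KZero.relTr P :=
    AddSubgroup.subset_closure ⟨T, h1, h2, h3, hT, rfl⟩
  have h := (QuotientAddGroup.eq_zero_iff _).2 this
  simp only [QuotientAddGroup.mk_sub] at h
  unfold gen
  rw [sub_sub, sub_eq_zero] at h
  exact h

lemma gen_zero (P : ObjectProperty C) (h0 : P (0 : C)) : gen P 0 h0 = 0 := by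
  have h := gen_triangle P _ (contractible_distinguished (0 : C)) h0 h0 h0
  change gen P 0 h0 = gen P 0 h0 + gen P 0 h0 at h
  simpa using h

lemma gen_iso (P : ObjectProperty C) (h0 : P (0 : C)) {X Y : C} (e : X ≅ Y) (hX : P X)
    (hY : P Y) : gen P X hX = gen P Y hY := by
  have hT : Triangle.mk e.hom (0 : Y ⟶ 0) 0 ∈ distTriang C :=
    isomorphic_distinguished _ (contractible_distinguished X) _
      (Triangle.isoMk _ _ (Iso.refl _) e.symm (Iso.refl _)
        ((e.hom_inv_id).trans (Category.id_comp _).symm)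
        (zero_comp.trans comp_zero.symm) (zero_comp.trans comp_zero.symm))
  have h := gen_triangle P _ hT hX hY h0
  change gen P Y hY = gen P X hX + gen P 0 h0 at h
  rw [h, gen_zero P h0, add_zero]

variable {D : Type w} [Category.{v₂} D] [Preadditive D] [HasZeroObject D] [HasShift D ℤ]
  [∀ n : ℤ, (shiftFunctor D n).Additive] [Pretriangulated D]
  (F : C ⥤ D) [F.CommShift ℤ] [F.IsTriangulated]
  (P : ObjectProperty C) (P' : ObjectProperty D)

/-- the map on generators induced by a triangulated functor. -/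
noncomputable def fwd₀ (hF : ∀ X, P X → P' (F.obj X)) :
    FreeAbelianGroup (Subtype P) →+ KZero.K0tr P' :=
  FreeAbelianGroup.lift (fun X => gen P' (F.obj X.1) (hF _ X.2))

lemma relTr_le_ker_fwd (hF : ∀ X, P X → P' (F.obj X)) :
    KZero.relTr P ≤ (fwd₀ F P P' hF).ker := by
  rw [KZero.relTr, AddSubgroup.closure_le]
  rintro x ⟨T, h1, h2, h3, hT, rfl⟩
  rw [SetLike.mem_coe, AddMonoidHom.mem_ker, map_sub, map_sub]
  simp only [fwd₀, FreeAbelianGroup.lift_apply_of]
  have := gen_triangle P' (F.mapTriangle.obj T) (F.map_distinguished T hT) (hF _ h1) (hF _ h2)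
    (hF _ h3)
  rw [sub_sub, sub_eq_zero]
  exact this

/-- the map on `K₀` induced by a triangulated functor. -/
noncomputable def fwd (hF : ∀ X, P X → P' (F.obj X)) : KZero.K0tr P →+ KZero.K0tr P' :=
  QuotientAddGroup.lift _ (fwd₀ F P P' hF) (relTr_le_ker_fwd F P P' hF)

lemma fwd_gen (hF : ∀ X, P X → P' (F.obj X)) (X : C) (h : P X) :
    fwd F P P' hF (gen P X h) = gen P' (F.obj X) (hF X h) := by
  unfold fwd gen
  rw [QuotientAddGroup.lift_mk]
  simp only [fwd₀, FreeAbelianGroup.lift_apply_of]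
  rfl

variable [F.Full] [F.Faithful]

section bwd

variable (hess : ∀ Y, P' Y → ∃ X, P X ∧ Nonempty (F.obj X ≅ Y))

/-- a chosen preimage. -/
noncomputable def pre (Y : Subtype P') : C := (hess Y.1 Y.2).choose

include hess in
lemma pre_prop (Y : Subtype P') : P (pre F P P' hess Y) := (hess Y.1 Y.2).choose_spec.1

/-- the chosen preimage maps to the object. -/
noncomputable def preIso (Y : Subtype P') : F.obj (pre F P P' hess Y) ≅ Y.1 :=
  (hess Y.1 Y.2).choose_spec.2.some

/-- the inverse map on generators. -/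
noncomputable def bwd₀ : FreeAbelianGroup (Subtype P') →+ KZero.K0tr P :=
  FreeAbelianGroup.lift (fun Y => gen P (pre F P P' hess Y) (pre_prop F P P' hess Y))

lemma relTr_le_ker_bwd : KZero.relTr P' ≤ (bwd₀ F P P' hess).ker := by
  rw [KZero.relTr, AddSubgroup.closure_le]
  rintro x ⟨T, h1, h2, h3, hT, rfl⟩
  rw [SetLike.mem_coe, AddMonoidHom.mem_ker, map_sub, map_sub]
  simp only [bwd₀, FreeAbelianGroup.lift_apply_of]
  let X₁ := pre F P P' hess ⟨T.obj₁, h1⟩
  let X₂ := pre F P P' hess ⟨T.obj₂, h2⟩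
  let X₃ := pre F P P' hess ⟨T.obj₃, h3⟩
  let e₁ : F.obj X₁ ≅ T.obj₁ := preIso F P P' hess ⟨T.obj₁, h1⟩
  let e₂ : F.obj X₂ ≅ T.obj₂ := preIso F P P' hess ⟨T.obj₂, h2⟩
  let e₃ : F.obj X₃ ≅ T.obj₃ := preIso F P P' hess ⟨T.obj₃, h3⟩
  let f : X₁ ⟶ X₂ := F.preimage (e₁.hom ≫ T.mor₁ ≫ e₂.inv)
  let g : X₂ ⟶ X₃ := F.preimage (e₂.hom ≫ T.mor₂ ≫ e₃.inv)
  let h : X₃ ⟶ X₁⟦(1 : ℤ)⟧ :=
    F.preimage (e₃.hom ≫ T.mor₃ ≫ e₁.inv⟦(1 : ℤ)⟧' ≫ (F.commShiftIso (1 : ℤ)).inv.app X₁)
  have hT' : Triangle.mk f g h ∈ distTriang C := by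
    rw [← F.map_distinguished_iff]
    refine isomorphic_distinguished _ hT _ (Triangle.isoMk _ _ e₁ e₂ e₃ ?_ ?_ ?_)
    · change F.map f ≫ e₂.hom = e₁.hom ≫ T.mor₁
      simp [f]
    · change F.map g ≫ e₃.hom = e₂.hom ≫ T.mor₂
      simp [g]
    · change (F.map h ≫ (F.commShiftIso (1 : ℤ)).hom.app X₁) ≫ e₁.hom⟦(1 : ℤ)⟧' = e₃.hom ≫ T.mor₃
      simp only [h, Functor.map_preimage, Category.assoc, Iso.inv_hom_id_app_assoc]
      rw [← CategoryTheory.Functor.map_comp, Iso.inv_hom_id, CategoryTheory.Functor.map_id, Category.comp_id]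
  have := gen_triangle P (Triangle.mk f g h) hT' (pre_prop F P P' hess _) (pre_prop F P P' hess _)
    (pre_prop F P P' hess _)
  rw [sub_sub, sub_eq_zero]
  exact this

/-- the inverse map on `K₀`. -/
noncomputable def bwd : KZero.K0tr P' →+ KZero.K0tr P :=
  QuotientAddGroup.lift _ (bwd₀ F P P' hess) (relTr_le_ker_bwd F P P' hess)

lemma bwd_gen (Y : D) (h : P' Y) :
    bwd F P P' hess (gen P' Y h) = gen P (pre F P P' hess ⟨Y, h⟩) (pre_prop F P P' hess _) := by
  unfold bwd gen
  rw [QuotientAddGroup.lift_mk]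
  simp only [bwd₀, FreeAbelianGroup.lift_apply_of]
  rfl

end bwd

/-- **transfer of `K₀`** along a fully faithful triangulated functor with matching essential
image. -/
noncomputable def k0Equiv (h0 : P (0 : C)) (h0' : P' (0 : D)) (hF : ∀ X, P X → P' (F.obj X))
    (hess : ∀ Y, P' Y → ∃ X, P X ∧ Nonempty (F.obj X ≅ Y)) : KZero.K0tr P ≃+ KZero.K0tr P' where
  toFun := fwd F P P' hF
  invFun := bwd F P P' hess
  map_add' := map_add _
  left_inv := by
    intro x
    induction x using QuotientAddGroup.induction_on with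
    | H z =>
      induction z using FreeAbelianGroup.induction_on with
      | zero => simp
      | of X =>
        change bwd F P P' hess (fwd F P P' hF (gen P X.1 X.2)) = gen P X.1 X.2
        rw [fwd_gen, bwd_gen]
        exact gen_iso P h0 (F.preimageIso (preIso F P P' hess ⟨F.obj X.1, hF _ X.2⟩)) _ _
      | neg X ih =>
        rw [QuotientAddGroup.mk_neg, map_neg, map_neg, ih]
      | add a b ha hb =>
        rw [QuotientAddGroup.mk_add, map_add, map_add, ha, hb]
  right_inv := by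
    intro x
    induction x using QuotientAddGroup.induction_on with
    | H z =>
      induction z using FreeAbelianGroup.induction_on with
      | zero => simp
      | of Y =>
        change fwd F P P' hF (bwd F P P' hess (gen P' Y.1 Y.2)) = gen P' Y.1 Y.2
        rw [bwd_gen, fwd_gen]
        exact gen_iso P' h0' (preIso F P P' hess ⟨Y.1, Y.2⟩) _ _
      | neg X ih =>
        rw [QuotientAddGroup.mk_neg, map_neg, map_neg, ih]
      | add a b ha hb =>
        rw [QuotientAddGroup.mk_add, map_add, map_add, ha, hb]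

lemma k0Equiv_gen (h0 : P (0 : C)) (h0' : P' (0 : D)) (hF : ∀ X, P X → P' (F.obj X))
    (hess : ∀ Y, P' Y → ∃ X, P X ∧ Nonempty (F.obj X ≅ Y)) (X : C) (h : P X) :
    k0Equiv F P P' h0 h0' hF hess (gen P X h) = gen P' (F.obj X) (hF X h) :=
  fwd_gen F P P' hF X h

end abstract


section concrete

attribute [local instance] HasDerivedCategory.standard

open AlgebraicGeometry DerivedCategory
open Groth.Agent.H4.PSch2 Groth.Agent.H4.PSch3 Groth.Agent.H4.PSch4 Groth.Agent.H4.PSch5
  Groth.Agent.LD.QC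

/-- perfect objects have quasi-coherent cohomology. -/
theorem isQCohD_of_isPerfect {X : Scheme.{u}} (E : DCoh.D X) (hE : DCoh.IsPerfect E) :
    DCoh.IsQCohD E := by
  intro n
  have h := (isPerfect_iff_perfAt E).mp hE
  choose U j hj P hx hP e using h
  refine isQuasicoherent_of_isOpenCover _ (fun x : X => (j x).opensRange) ?_ ?_
  · rw [TopologicalSpace.IsOpenCover, eq_top_iff]
    intro x _
    exact TopologicalSpace.Opens.mem_iSup.mpr ⟨x, hx x⟩
  · intro x
    haveI := hj x
    obtain ⟨e'⟩ := nonempty_homology_restrict_iso (j x) E (P x) (e x).some n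
    have hq0 := Groth.Agent.H6.LerayBB.isQCohD_Q_obj (P x)
      (fun i => qc_of_isFinLocFree _ ((hP x).2 i)) n
    have hq : ((P x).homology n).IsQuasicoherent :=
      qc_of_iso ((homologyFunctorFactors (U x).Modules n).app (P x)) hq0
    haveI : ((DCoh.HD E n).restrict (j x)).IsQuasicoherent := qc_of_iso e'.symm hq
    haveI : (((DCoh.HD E n).restrict (j x)).restrict (j x).isoOpensRange.inv).IsQuasicoherent :=
      qc_restrict _ _
    exact qc_of_iso (restrictOpensRangeIso (j x) _) inferInstance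

open Groth.Agent.H4.K0Perf in
theorem s1029 (A : Type u) [CommRing A] :
    ∃ φ : KZero.K0sub (fun M : ModuleCat.{u} A => Module.Finite A M ∧ Module.Projective A M) ≃+
        KZero.K0tr (fun K : DCoh.D (Spec (CommRingCat.of A)) => DCoh.IsPerfect K),
      ∀ (M : ModuleCat.{u} A), Module.Finite A M → Module.Projective A M →
        φ (KZero.clSub (fun M : ModuleCat.{u} A => Module.Finite A M ∧ Module.Projective A M) M) =
          KZero.clTr (fun K : DCoh.D (Spec (CommRingCat.of A)) => DCoh.IsPerfect K)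
            (DCoh.inD (Spec (CommRingCat.of A)) (tilde M)) := by
  obtain ⟨φ₁, hφ₁, -⟩ := Groth.Agent.H4.K0Perf.main (R := A)
  haveI : PreservesFiniteLimits (tilde.functor (CommRingCat.of A)) :=
    Groth.Agent.H5.AG.tilde_preservesFiniteLimits _
  let F := DCoh.tildeD (CommRingCat.of A)
  haveI : F.Full := (Groth.Agent.Helper7.QB2.s0997 (CommRingCat.of A)).1
  haveI : F.Faithful := (Groth.Agent.Helper7.QB2.s0997 (CommRingCat.of A)).2.1
  let P : ObjectProperty (Dual.D A) := fun K => DRing.IsPerfect A K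
  let P' : ObjectProperty (DCoh.D (Spec (CommRingCat.of A))) := fun K => DCoh.IsPerfect K
  have hF : ∀ X, P X → P' (F.obj X) := fun X hX => (Groth.Agent.H4.TilD4.S1105 A X).2 hX
  have h0 : P (0 : Dual.D A) := Pt_zero
  have h0' : P' (0 : DCoh.D (Spec (CommRingCat.of A))) := isPerfect_of_isZero (isZero_zero _)
  have hess : ∀ Y, P' Y → ∃ X, P X ∧ Nonempty (F.obj X ≅ Y) := by
    intro Y hY
    obtain ⟨M, ⟨eM⟩⟩ := ((Groth.Agent.Helper7.QB2.s0997 (CommRingCat.of A)).2.2 Y).1
      (isQCohD_of_isPerfect Y hY)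
    exact ⟨M, (Groth.Agent.H4.TilD4.S1105 A M).1 (isPerfect_of_iso eM.symm hY), ⟨eM⟩⟩
  refine ⟨φ₁.trans (k0Equiv F P P' h0 h0' hF hess), fun M h1 h2 => ?_⟩
  have hM : P (Dual.inD A M) := isPerfect_single M ⟨h1, h2⟩
  have e1 := hφ₁ M h1 h2
  rw [AddEquiv.trans_apply]
  erw [e1]
  rw [clTr_eq_gen P _ hM, k0Equiv_gen]
  have hM' : P' (DCoh.inD (Spec (CommRingCat.of A)) (tilde M)) :=
    isPerfect_of_iso (((tilde.functor (CommRingCat.of A)).mapDerivedCategorySingleFunctor 0).app M)
      (hF _ hM)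
  rw [clTr_eq_gen P' _ hM']
  exact gen_iso P' h0'
    (((tilde.functor (CommRingCat.of A)).mapDerivedCategorySingleFunctor 0).app M) _ _

end concrete

end Groth.Agent.Helper7.QB14
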