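import Mathlib
import Groth.Prelude
import Groth.Agent.H4.RPC15
import Groth.Agent.H4.TilD11
import Groth.Agent.Lib.Helper6.TildePush1
import Groth.Agent.Lib.Helper7.QB2

/-! # Relative pseudo-coherence on all affine pairs, ring-theoretically (S7234) -/

set_option autoImplicit false
universe u
attribute [local instance] HasDerivedCategory.standard
open CategoryTheory CategoryTheory.Limits AlgebraicGeometry DerivedCategory Opposite TopologicalSpace
open Groth.Agent.LD.QC
open Groth.Agent.H4.PSch2 Groth.Agent.H4.PSch4 Groth.Agent.H4.RPC2 Groth.Agent.H4.RPC2b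
open Groth.Agent.H4.RPC3 Groth.Agent.H4.RPC7 Groth.Agent.H4.RPC8
open Groth.Agent.H4.RPC9 Groth.Agent.H4.RPC10 Groth.Agent.H4.RPC11 Groth.Agent.H4.RPC12
open Groth.Agent.H4.RPC13 Groth.Agent.H4.RPC14 Groth.Agent.H4.RPC15 Groth.Agent.H4.TilD11
open Groth.Agent.H6.TildePush

namespace Groth.Agent.Helper7.QB15

section key

variable {X : Scheme.{u}} {U : X.Opens} (hU : IsAffineOpen U) {B : Type u} [CommRing B]
  (φ : B →+* Γ(X, U))

/-- the chart image of `G|_U` is the tilde of the restriction of scalars of any module complex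
representing `G|_U` on `Spec Γ(X, U)`. -/
lemma nonempty_chart_tilde_iso [PreservesFiniteLimits (tilde.functor (X.presheaf.obj (op U)))]
    [PreservesFiniteLimits (tilde.functor (CommRingCat.of B))]
    (hφ : Function.Surjective φ)
    (G : CochainComplex X.Modules ℤ) (M : Dual.D Γ(X, U))
    (e : (DCoh.tildeD (X.presheaf.obj (op U))).obj M ≅
      DCoh.toD _ ((DerSch.pushCx hU.isoSpec.hom).obj ((DCoh.restrictCx U).obj G))) :
    Nonempty (DCoh.toD (Spec (CommRingCat.of B))
        ((DerSch.pushCx (gImm U φ)).obj ((DCoh.restrictCx U).obj G)) ≅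
      (DCoh.tildeD (CommRingCat.of B)).obj ((DRing.restrictD φ).obj M)) := by
  haveI : IsClosedImmersion (Spec.map (CommRingCat.ofHom φ)) := isClosedImmersion_Spec φ hφ
  have hiso : hU.isoSpec.hom = U.toSpecΓ := hU.isoSpec_hom
  haveI : IsIso U.toSpecΓ := by rw [← hiso]; infer_instance
  let GU := (DCoh.restrictCx U).obj G
  let Y := (DerSch.pushCx U.toSpecΓ).obj GU
  have e0 : (DerSch.pushCx hU.isoSpec.hom).obj GU = Y := by rw [hiso]
  let M₀ := Q.objPreimage M
  let eM : Q.obj M₀ ≅ M := Q.objObjPreimageIso M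
  let i1 : Q.obj ((DerSch.pushCx (gImm U φ)).obj GU) ≅
      Q.obj ((DerSch.pushCx (Spec.map (CommRingCat.ofHom φ))).obj Y) :=
    Q.mapIso (((Functor.mapHomologicalComplexCompIso
      (Scheme.Modules.pushforwardComp U.toSpecΓ (Spec.map (CommRingCat.ofHom φ)))
      (ComplexShape.up ℤ)).symm).app GU)
  let i2 : Q.obj ((DerSch.pushCx (Spec.map (CommRingCat.ofHom φ))).obj Y) ≅
      (Ri (Spec.map (CommRingCat.ofHom φ))).obj (Q.obj Y) :=
    (RiFac (Spec.map (CommRingCat.ofHom φ)) Y).symm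
  let i3 : Q.obj Y ≅ Q.obj (((tilde.functor (X.presheaf.obj (op U))).mapHomologicalComplex
      (ComplexShape.up ℤ)).obj M₀) :=
    eqToIso (by rw [← e0]) ≪≫ e.symm ≪≫ (DCoh.tildeD (X.presheaf.obj (op U))).mapIso eM.symm ≪≫
      (tilde.functor (X.presheaf.obj (op U))).mapDerivedCategoryFactors.app M₀
  let c : (tilde.functor (X.presheaf.obj (op U))).mapHomologicalComplex (ComplexShape.up ℤ) ⋙
      (Scheme.Modules.pushforward (Spec.map (CommRingCat.ofHom φ))).mapHomologicalComplex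
        (ComplexShape.up ℤ) ≅
      (ModuleCat.restrictScalars.{u} φ).mapHomologicalComplex (ComplexShape.up ℤ) ⋙
        (tilde.functor (CommRingCat.of B)).mapHomologicalComplex (ComplexShape.up ℤ) :=
    Functor.mapHomologicalComplexCompIso (tildePushIso (CommRingCat.ofHom φ)) (ComplexShape.up ℤ) ≪≫
      (Functor.mapHomologicalComplexCompIso
        (Iso.refl (ModuleCat.restrictScalars.{u} φ ⋙ tilde.functor (CommRingCat.of B)))
        (ComplexShape.up ℤ)).symm
  let i4 : (Ri (Spec.map (CommRingCat.ofHom φ))).obj (Q.obj Y) ≅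
      (DCoh.tildeD (CommRingCat.of B)).obj ((DRing.restrictD φ).obj M) :=
    (Ri (Spec.map (CommRingCat.ofHom φ))).mapIso i3 ≪≫
      RiFac (Spec.map (CommRingCat.ofHom φ)) _ ≪≫ Q.mapIso (c.app M₀) ≪≫
      ((tilde.functor (CommRingCat.of B)).mapDerivedCategoryFactors.app _).symm ≪≫
      (DCoh.tildeD (CommRingCat.of B)).mapIso
        (((ModuleCat.restrictScalars.{u} φ).mapDerivedCategoryFactors.app M₀).symm ≪≫
          (DRing.restrictD φ).mapIso eM)
  exact ⟨i1 ≪≫ i2 ≪≫ i4⟩

end key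

section main

open Groth.Agent.Helper7.QB2

variable {X S : Scheme.{u}} (f : X ⟶ S)

/-- the restriction of `E` to an affine open, carried to the spectrum, has quasi-coherent
cohomology. -/
lemma isQCohD_push_restrict (E : DCoh.D X) (hE : DCoh.IsQCohD E) {U : X.Opens}
    (hU : IsAffineOpen U) (G : CochainComplex X.Modules ℤ) (hG : DCoh.toD X G ≅ E) :
    DCoh.IsQCohD (DCoh.toD _ ((DerSch.pushCx hU.isoSpec.hom).obj ((DCoh.restrictCx U).obj G))) := by
  intro n
  haveI : IsClosedImmersion hU.isoSpec.hom := inferInstance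
  let K := (Ri hU.isoSpec.hom).obj ((RD U.ι).obj E)
  have e1 : DCoh.toD _ ((DerSch.pushCx hU.isoSpec.hom).obj ((DCoh.restrictCx U).obj G)) ≅ K :=
    (RiFac hU.isoSpec.hom _).symm ≪≫
      (Ri hU.isoSpec.hom).mapIso ((RDfac U.ι G).symm ≪≫ (RD U.ι).mapIso hG)
  have e2 := HDRi hU.isoSpec.hom ((RD U.ι).obj E) n
  obtain ⟨e3⟩ := nonempty_homology_RD_iso U.ι E n
  haveI : (DCoh.HD E n).IsQuasicoherent := hE n
  haveI : ((Scheme.Modules.restrictFunctor U.ι).obj (DCoh.HD E n)).IsQuasicoherent :=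
    qc_restrict U.ι _
  haveI : (DCoh.HD ((RD U.ι).obj E) n).IsQuasicoherent := qc_of_iso e3.symm inferInstance
  have h4 : ((Scheme.Modules.pushforward hU.isoSpec.hom).obj
      (DCoh.HD ((RD U.ι).obj E) n)).IsQuasicoherent := qc_pushforward _ _
  exact qc_of_iso ((homologyFunctor _ n).mapIso e1 ≪≫ e2).symm h4

theorem s7234 [LocallyOfFiniteType f]
    [∀ U : X.affineOpens, PreservesFiniteLimits (tilde.functor (X.presheaf.obj (op (U : X.Opens))))]
    (E : DCoh.D X) (hE : DCoh.IsQCohD E) (m : ℤ) :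
    DerSch.IsPseudoCoherentRel f m E ↔
      ∀ (U : X.affineOpens) (V : S.affineOpens) (h : (U : X.Opens) ≤ f ⁻¹ᵁ (V : S.Opens))
        (G : CochainComplex X.Modules ℤ), Nonempty (DCoh.toD X G ≅ E) →
        ∀ M : Dual.D Γ(X, (U : X.Opens)),
          Nonempty ((DCoh.tildeD (X.presheaf.obj (op (U : X.Opens)))).obj M ≅
            DCoh.toD _ ((DerSch.pushCx U.2.isoSpec.hom).obj ((DCoh.restrictCx (U : X.Opens)).obj G))) →
          letI := (f.appLE (V : S.Opens) (U : X.Opens) h).hom.toAlgebra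
          DerCA.IsRelPseudoCoherent Γ(S, (V : S.Opens)) Γ(X, (U : X.Opens)) m M := by
  constructor
  · intro H U V h G ⟨hG⟩ M ⟨e⟩
    letI := (f.appLE (V : S.Opens) (U : X.Opens) h).hom.toAlgebra
    obtain ⟨n, φ, hφ⟩ := exists_isChart f (U : X.Opens) (V : S.Opens) h
      (LocallyOfFiniteType.finiteType_appLE f V.2 U.2 h)
    haveI := isClosedImmersion_gImm (U : X.Opens) φ U.2 hφ.1
    have h1 := (rel_iff_forall_chart f m E).1 H U V h n φ hφ inferInstance
    have h2 := (gpc_iff (U : X.Opens) φ m E).2 h1 G ⟨hG⟩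
    haveI := Groth.Agent.H5.AG.tilde_preservesFiniteLimits
      (CommRingCat.of (MvPolynomial (Fin n) Γ(S, (V : S.Opens))))
    obtain ⟨i⟩ := nonempty_chart_tilde_iso U.2 φ hφ.1 G M e
    have h3 := isPseudoCoherentD_of_iso i h2
    have h4 := (S1004 _ _ m).1 h3
    let α : MvPolynomial (Fin n) Γ(S, (V : S.Opens)) →ₐ[Γ(S, (V : S.Opens))] Γ(X, (U : X.Opens)) :=
      { φ with commutes' := fun r => congr($(hφ.2) r) }
    exact ⟨n, α, hφ.1, h4⟩
  · intro H
    rw [rel_iff_forall_chart]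
    intro U V h n φ hφ hci
    letI := (f.appLE (V : S.Opens) (U : X.Opens) h).hom.toAlgebra
    let G := Q.objPreimage E
    let hG : Q.obj G ≅ E := Q.objObjPreimageIso E
    have hq := isQCohD_push_restrict E hE U.2 G hG
    obtain ⟨M, ⟨eM⟩⟩ := ((s0997 (X.presheaf.obj (op (U : X.Opens)))).2.2 _).1 hq
    obtain ⟨n', α, hα, hvia⟩ := H U V h G ⟨hG⟩ M ⟨eM⟩
    let φ' : MvPolynomial (Fin n') Γ(S, (V : S.Opens)) →+* Γ(X, (U : X.Opens)) := α.toRingHom
    have hφ' : Function.Surjective φ' := hα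
    haveI : IsClosedImmersion (gImm (U : X.Opens) φ') :=
      isClosedImmersion_gImm (U : X.Opens) φ' U.2 hφ'
    haveI := Groth.Agent.H5.AG.tilde_preservesFiniteLimits
      (CommRingCat.of (MvPolynomial (Fin n') Γ(S, (V : S.Opens))))
    obtain ⟨i⟩ := nonempty_chart_tilde_iso U.2 φ' hφ' G M eM
    have hvia' : DRing.IsPseudoCoherent (MvPolynomial (Fin n') Γ(S, (V : S.Opens))) m
        ((DRing.restrictD φ').obj M) := hvia
    have h3 : DCoh.IsPseudoCoherentD m ((DCoh.tildeD (CommRingCat.of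
        (MvPolynomial (Fin n') Γ(S, (V : S.Opens))))).obj ((DRing.restrictD φ').obj M)) :=
      (S1004 _ _ m).2 hvia'
    have h2 := isPseudoCoherentD_of_iso i.symm h3
    have h1 : DCoh.IsPseudoCoherentD m ((Ri (gImm (U : X.Opens) φ')).obj
        ((RD (U : X.Opens).ι).obj E)) :=
      isPseudoCoherentD_of_iso ((RiFac _ _).symm ≪≫
        (Ri _).mapIso ((RDfac (U : X.Opens).ι G).symm ≪≫ (RD (U : X.Opens).ι).mapIso hG)) h2
    have hC : φ'.comp MvPolynomial.C = φ.comp MvPolynomial.C := by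
      rw [hφ.2]
      ext r
      exact α.commutes r
    have h0 := (gpc_chart_indep (U : X.Opens) U.2 φ' hφ' φ hφ.1 hC m E).1
      ((gpc_iff (U : X.Opens) φ' m E).2 h1)
    exact (gpc_iff (U : X.Opens) φ m E).1 h0

end main

end Groth.Agent.Helper7.QB15
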