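import Mathlib
import Groth.Prelude
import Groth.Agent.Lib.Helper3.DCoh.AffineAcyclic
import Groth.Agent.Lib.Helper7.QB2

/-! # Homotopy classes vs derived-category morphisms on an affine scheme (S14112, S14114) -/

set_option autoImplicit false
universe w₁ w₂ v₁ v₂ u₁ u₂ u

open CategoryTheory Limits DerivedCategory

namespace Groth.Agent.Helper7.QB16

section general

variable {C₁ : Type u₁} [Category.{v₁} C₁] [Abelian C₁] [HasDerivedCategory.{w₁} C₁]
  {C₂ : Type u₂} [Category.{v₂} C₂] [Abelian C₂] [HasDerivedCategory.{w₂} C₂]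
  (F : C₁ ⥤ C₂) (G : C₂ ⥤ C₁) [F.Additive] [G.Additive]
  [PreservesFiniteLimits F] [PreservesFiniteColimits F]
  [PreservesFiniteLimits G] [PreservesFiniteColimits G]

/-- exact functors composing to the identity induce functors composing to the identity on derived
categories. -/
noncomputable def mapDCCompId (e : F ⋙ G ≅ 𝟭 C₁) :
    F.mapDerivedCategory ⋙ G.mapDerivedCategory ≅ 𝟭 (DerivedCategory C₁) :=
  letI : Localization.Lifting Q (HomologicalComplex.quasiIso C₁ (ComplexShape.up ℤ))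
      (F.mapHomologicalComplex (ComplexShape.up ℤ) ⋙ G.mapHomologicalComplex (ComplexShape.up ℤ) ⋙ Q)
      (F.mapDerivedCategory ⋙ G.mapDerivedCategory) :=
    ⟨(Functor.associator _ _ _).symm ≪≫
      Functor.isoWhiskerRight F.mapDerivedCategoryFactors G.mapDerivedCategory ≪≫
      Functor.associator _ _ _ ≪≫
      Functor.isoWhiskerLeft (F.mapHomologicalComplex (ComplexShape.up ℤ))
        G.mapDerivedCategoryFactors⟩
  Localization.liftNatIso Q (HomologicalComplex.quasiIso C₁ (ComplexShape.up ℤ))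
    (F.mapHomologicalComplex (ComplexShape.up ℤ) ⋙ G.mapHomologicalComplex (ComplexShape.up ℤ) ⋙ Q)
    Q _ _
    ((Functor.associator _ _ _).symm ≪≫
      Functor.isoWhiskerRight (Functor.mapHomologicalComplexCompIso e (ComplexShape.up ℤ) ≪≫
        Functor.mapHomologicalComplexIdIso C₁ (ComplexShape.up ℤ)) Q ≪≫ Functor.leftUnitor Q)

/-- an exact equivalence induces an equivalence on derived categories. -/
lemma isEquivalence_mapDerivedCategory (e : F ⋙ G ≅ 𝟭 C₁) (e' : G ⋙ F ≅ 𝟭 C₂) :
    F.mapDerivedCategory.IsEquivalence :=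
  (CategoryTheory.Equivalence.mk F.mapDerivedCategory G.mapDerivedCategory
    (mapDCCompId F G e).symm (mapDCCompId G F e')).isEquivalence_functor

end general

section comp

variable {C₁ : Type u₁} [Category.{v₁} C₁] [Abelian C₁] [HasDerivedCategory.{w₁} C₁]
  {C₂ : Type u₂} [Category.{v₂} C₂] [Abelian C₂] [HasDerivedCategory.{w₂} C₂]
  {C₃ : Type u} [Category.{v₁} C₃] [Abelian C₃] [HasDerivedCategory.{w₁} C₃]
  (F : C₁ ⥤ C₂) (G : C₂ ⥤ C₃) (H : C₁ ⥤ C₃) [F.Additive] [G.Additive] [H.Additive]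
  [PreservesFiniteLimits F] [PreservesFiniteColimits F]
  [PreservesFiniteLimits G] [PreservesFiniteColimits G]
  [PreservesFiniteLimits H] [PreservesFiniteColimits H]

/-- derived functor of a composite of exact functors. -/
noncomputable def mapDCComp (e : F ⋙ G ≅ H) :
    F.mapDerivedCategory ⋙ G.mapDerivedCategory ≅ H.mapDerivedCategory :=
  letI : Localization.Lifting Q (HomologicalComplex.quasiIso C₁ (ComplexShape.up ℤ))
      (F.mapHomologicalComplex (ComplexShape.up ℤ) ⋙ G.mapHomologicalComplex (ComplexShape.up ℤ) ⋙ Q)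
      (F.mapDerivedCategory ⋙ G.mapDerivedCategory) :=
    ⟨(Functor.associator _ _ _).symm ≪≫
      Functor.isoWhiskerRight F.mapDerivedCategoryFactors G.mapDerivedCategory ≪≫
      Functor.associator _ _ _ ≪≫
      Functor.isoWhiskerLeft (F.mapHomologicalComplex (ComplexShape.up ℤ))
        G.mapDerivedCategoryFactors⟩
  letI : Localization.Lifting Q (HomologicalComplex.quasiIso C₁ (ComplexShape.up ℤ))
      (H.mapHomologicalComplex (ComplexShape.up ℤ) ⋙ Q) H.mapDerivedCategory :=
    ⟨H.mapDerivedCategoryFactors⟩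
  Localization.liftNatIso Q (HomologicalComplex.quasiIso C₁ (ComplexShape.up ℤ))
    (F.mapHomologicalComplex (ComplexShape.up ℤ) ⋙ G.mapHomologicalComplex (ComplexShape.up ℤ) ⋙ Q)
    (H.mapHomologicalComplex (ComplexShape.up ℤ) ⋙ Q) _ _
    ((Functor.associator _ _ _).symm ≪≫
      Functor.isoWhiskerRight (Functor.mapHomologicalComplexCompIso e (ComplexShape.up ℤ)) Q)

end comp

section kproj

variable {C : Type u₁} [Category.{v₁} C] [Abelian C] [HasDerivedCategory.{w₁} C]
  (M N : CochainComplex C ℤ) [M.IsKProjective]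

lemma exists_map_of_isKProjective (χ : Q.obj M ⟶ Q.obj N) : ∃ μ : M ⟶ N, Q.map μ = χ := by
  obtain ⟨φ, hφ⟩ := (CochainComplex.IsKProjective.Qh_map_bijective M
    ((HomotopyCategory.quotient _ _).obj N)).surjective
    ((quotientCompQhIso C).hom.app M ≫ χ ≫ (quotientCompQhIso C).inv.app N)
  obtain ⟨μ, rfl⟩ := (HomotopyCategory.quotient _ _).map_surjective φ
  refine ⟨μ, ?_⟩
  have h := quotientCompQhIso_hom_naturality μ
  rw [hφ, Category.assoc, Category.assoc, Iso.inv_hom_id_app, Category.comp_id] at h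
  exact ((cancel_epi _).1 h).symm

lemma homotopy_zero_of_isKProjective (μ : M ⟶ N) (h : Q.map μ = 0) :
    Nonempty (Homotopy μ 0) := by
  rw [← HomotopyCategory.quotient_map_eq_zero_iff]
  apply (CochainComplex.IsKProjective.Qh_map_bijective M
    ((HomotopyCategory.quotient _ _).obj N)).injective
  have h1 := quotientCompQhIso_hom_naturality μ
  rw [h, comp_zero] at h1
  rw [Functor.map_zero]
  exact (cancel_mono ((quotientCompQhIso C).hom.app N)).1 (by rw [h1, zero_comp])

end kproj

section affine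

attribute [local instance] HasDerivedCategory.standard

open AlgebraicGeometry Groth.Agent.H3.DCohAffine

variable {X : Scheme.{u}} [IsAffine X]

/-- `T_D : D(Γ(X, O)) ⥤ D(O_X)`. -/
noncomputable abbrev TD : DerivedCategory (ModuleCat.{u} Γ(X, ⊤)) ⥤ DerivedCategory X.Modules :=
  (T X).mapDerivedCategory

lemma fullyFaithful_TD : (TD (X := X)).Full ∧ (TD (X := X)).Faithful := by
  haveI := Groth.Agent.H5.AG.tilde_preservesFiniteLimits Γ(X, ⊤)
  haveI : PreservesFiniteColimits (tilde.functor Γ(X, ⊤)) := by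
    haveI : (tilde.functor Γ(X, ⊤)).IsLeftAdjoint := tilde.adjunction.isLeftAdjoint
    infer_instance
  let P := Scheme.Modules.pushforward X.isoSpec.inv
  let P' := Scheme.Modules.pushforward X.isoSpec.hom
  have e : (tilde.functor Γ(X, ⊤)).mapDerivedCategory ⋙ P.mapDerivedCategory ≅ TD (X := X) :=
    mapDCComp (tilde.functor Γ(X, ⊤)) P (T X) (Iso.refl _)
  haveI : P.mapDerivedCategory.IsEquivalence :=
    isEquivalence_mapDerivedCategory P P' (pushEquiv X.isoSpec).counitIso
      (pushEquiv X.isoSpec).unitIso.symm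
  haveI : (tilde.functor Γ(X, ⊤)).mapDerivedCategory.Full :=
    (Groth.Agent.Helper7.QB2.s0997 Γ(X, ⊤)).1
  haveI : (tilde.functor Γ(X, ⊤)).mapDerivedCategory.Faithful :=
    (Groth.Agent.Helper7.QB2.s0997 Γ(X, ⊤)).2.1
  exact ⟨Functor.Full.of_iso e, Functor.Faithful.of_iso e⟩


section main

variable (E F : CochainComplex X.Modules ℤ) (b : ℤ)

/-- `Γ` of a complex. -/
noncomputable abbrev GC (E : CochainComplex X.Modules ℤ) :
    CochainComplex (ModuleCat.{u} Γ(X, ⊤)) ℤ :=
  ((G X).mapHomologicalComplex _).obj E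

/-- `T Γ` of a complex. -/
noncomputable abbrev TGC (E : CochainComplex X.Modules ℤ) : CochainComplex X.Modules ℤ :=
  ((T X).mapHomologicalComplex _).obj (GC E)

/-- the counit iso on a complex with quasi-coherent terms. -/
noncomputable def epsIso (E : CochainComplex X.Modules ℤ) (hE : ∀ i : ℤ, Coh.IsQCoh (E.X i)) :
    TGC E ≅ E :=
  HomologicalComplex.Hom.isoOfComponents
    (fun i => @asIso _ _ _ _ ((adj X).counit.app (E.X i))
      (@isIso_counit X _ (E.X i) (hE i)))
    (fun i j _ => ((adj X).counit.naturality (E.d i j)).symm)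

lemma epsIso_naturality {E F : CochainComplex X.Modules ℤ}
    (hE : ∀ i : ℤ, Coh.IsQCoh (E.X i)) (hF : ∀ i : ℤ, Coh.IsQCoh (F.X i)) (g : E ⟶ F) :
    ((T X).mapHomologicalComplex _).map (((G X).mapHomologicalComplex _).map g) ≫
      (epsIso F hF).hom = (epsIso E hE).hom ≫ g := by
  apply HomologicalComplex.hom_ext
  intro i
  exact (adj X).counit.naturality (g.f i)

lemma isKProjective_GC (hEb : ∀ i : ℤ, b < i → IsZero (E.X i))
    (hE : ∀ i : ℤ, FlatMod.IsFinLocFree (E.X i)) : (GC E).IsKProjective := by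
  haveI : (GC E).IsStrictlyLE b := by
    rw [CochainComplex.isStrictlyLE_iff]
    intro i hi
    exact (G X).map_isZero (hEb i hi)
  haveI : ∀ n, Projective ((GC E).X n) := fun n => projective_G X (E.X n) (hE n)
  exact CochainComplex.isKProjective_of_projective (GC E) b

lemma Q_map_T (M N : CochainComplex (ModuleCat.{u} Γ(X, ⊤)) ℤ) (μ : M ⟶ N) :
    Q.map (((T X).mapHomologicalComplex (ComplexShape.up ℤ)).map μ) =
      (T X).mapDerivedCategoryFactors.inv.app M ≫ (TD (X := X)).map (Q.map μ) ≫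
        (T X).mapDerivedCategoryFactors.hom.app N := by
  rw [Functor.mapDerivedCategoryFactors_hom_naturality, Iso.inv_hom_id_app_assoc]

lemma TD_map_Q (M N : CochainComplex (ModuleCat.{u} Γ(X, ⊤)) ℤ) (μ : M ⟶ N) :
    (TD (X := X)).map (Q.map μ) =
      (T X).mapDerivedCategoryFactors.hom.app M ≫
        Q.map (((T X).mapHomologicalComplex (ComplexShape.up ℤ)).map μ) ≫
        (T X).mapDerivedCategoryFactors.inv.app N := by
  rw [← Functor.mapDerivedCategoryFactors_hom_naturality_assoc, Iso.hom_inv_id_app]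
  exact (Category.comp_id _).symm

theorem surj (hEb : ∀ i : ℤ, b < i → IsZero (E.X i))
    (hE : ∀ i : ℤ, FlatMod.IsFinLocFree (E.X i)) (hF : ∀ i : ℤ, Coh.IsQCoh (F.X i))
    (ζ : Q.obj E ⟶ Q.obj F) : ∃ g : E ⟶ F, Q.map g = ζ := by
  have hE' : ∀ i : ℤ, Coh.IsQCoh (E.X i) :=
    fun i => Groth.Agent.LD.QC.qc_of_isFinLocFree _ (hE i)
  haveI := isKProjective_GC E b hEb hE
  haveI := (fullyFaithful_TD (X := X)).1
  let εE := epsIso E hE'
  let εF := epsIso F hF
  obtain ⟨χ, hχ⟩ := (TD (X := X)).map_surjective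
    ((T X).mapDerivedCategoryFactors.hom.app (GC E) ≫ (Q.map εE.hom ≫ ζ ≫ Q.map εF.inv) ≫
      (T X).mapDerivedCategoryFactors.inv.app (GC F))
  obtain ⟨μ, rfl⟩ := exists_map_of_isKProjective (GC E) (GC F) χ
  refine ⟨εE.inv ≫ ((T X).mapHomologicalComplex _).map μ ≫ εF.hom, ?_⟩
  have key : Q.map (((T X).mapHomologicalComplex (ComplexShape.up ℤ)).map μ) =
      Q.map εE.hom ≫ ζ ≫ Q.map εF.inv := by
    rw [Q_map_T, hχ]
    simp only [Category.assoc, Iso.inv_hom_id_app_assoc]
    erw [Iso.inv_hom_id_app]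
    erw [Category.comp_id]
  rw [Functor.map_comp, Functor.map_comp, key]
  simp only [Category.assoc, Iso.map_inv_hom_id_assoc, Iso.map_inv_hom_id, Category.comp_id]

theorem inj (hEb : ∀ i : ℤ, b < i → IsZero (E.X i))
    (hE : ∀ i : ℤ, FlatMod.IsFinLocFree (E.X i)) (hF : ∀ i : ℤ, Coh.IsQCoh (F.X i))
    (g : E ⟶ F) (hg : Q.map g = 0) : Nonempty (Homotopy g 0) := by
  have hE' : ∀ i : ℤ, Coh.IsQCoh (E.X i) :=
    fun i => Groth.Agent.LD.QC.qc_of_isFinLocFree _ (hE i)
  haveI := isKProjective_GC E b hEb hE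
  haveI := (fullyFaithful_TD (X := X)).2
  let εE := epsIso E hE'
  let εF := epsIso F hF
  let μ : GC E ⟶ GC F := ((G X).mapHomologicalComplex _).map g
  have hnat : ((T X).mapHomologicalComplex _).map μ ≫ εF.hom = εE.hom ≫ g :=
    epsIso_naturality hE' hF g
  have h1 : Q.map (((T X).mapHomologicalComplex (ComplexShape.up ℤ)).map μ) = 0 := by
    have h2 : ((T X).mapHomologicalComplex (ComplexShape.up ℤ)).map μ = εE.hom ≫ g ≫ εF.inv := by
      rw [← Category.assoc, ← hnat, Category.assoc, Iso.hom_inv_id, Category.comp_id]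
    rw [h2, Functor.map_comp, Functor.map_comp, hg, zero_comp, comp_zero]
  have h3 : Q.map μ = 0 := by
    apply (TD (X := X)).map_injective
    rw [TD_map_Q, h1, zero_comp, comp_zero, Functor.map_zero]
  obtain ⟨h⟩ := homotopy_zero_of_isKProjective (GC E) (GC F) μ h3
  have h' := (T X).mapHomotopy h
  have hg' : g = εE.inv ≫ ((T X).mapHomologicalComplex _).map μ ≫ εF.hom := by
    rw [hnat, Iso.inv_hom_id_assoc]
  refine ⟨(Homotopy.ofEq hg').trans (((h'.compRight εF.hom).compLeft εE.inv).trans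
    (Homotopy.ofEq ?_))⟩
  simp

theorem s14112 (hEb : ∀ i : ℤ, b < i → IsZero (E.X i))
    (hE : ∀ i : ℤ, FlatMod.IsFinLocFree (E.X i)) (hF : ∀ i : ℤ, Coh.IsQCoh (F.X i)) :
    Function.Bijective (fun φ : (HomotopyCategory.quotient X.Modules (ComplexShape.up ℤ)).obj E ⟶
        (HomotopyCategory.quotient X.Modules (ComplexShape.up ℤ)).obj F =>
      (DerivedCategory.Qh (C := X.Modules)).map φ) := by
  constructor
  · intro φ₁ φ₂ h
    obtain ⟨g₁, rfl⟩ := (HomotopyCategory.quotient _ _).map_surjective φ₁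
    obtain ⟨g₂, rfl⟩ := (HomotopyCategory.quotient _ _).map_surjective φ₂
    have h0 : Q.map (g₁ - g₂) = 0 := by
      have h1 := quotientCompQhIso_hom_naturality g₁
      have h2 := quotientCompQhIso_hom_naturality g₂
      have h' : Qh.map ((HomotopyCategory.quotient _ _).map g₁) =
          Qh.map ((HomotopyCategory.quotient _ _).map g₂) := h
      rw [h', h2] at h1
      have h3 := (cancel_epi _).1 h1
      rw [Functor.map_sub, h3, sub_self]
    obtain ⟨hh⟩ := inj E F b hEb hE hF (g₁ - g₂) h0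
    have h4 := HomotopyCategory.eq_of_homotopy _ _ hh
    rw [Functor.map_sub, Functor.map_zero, sub_eq_zero] at h4
    exact h4
  · intro ψ
    obtain ⟨g, hg⟩ := surj E F b hEb hE hF
      ((quotientCompQhIso X.Modules).inv.app E ≫ ψ ≫ (quotientCompQhIso X.Modules).hom.app F)
    refine ⟨(HomotopyCategory.quotient _ _).map g, ?_⟩
    have h1 := quotientCompQhIso_hom_naturality g
    rw [hg, Iso.hom_inv_id_app_assoc] at h1
    exact (cancel_mono _).1 h1

theorem s14114 (G' : CochainComplex X.Modules ℤ) (hEb : ∀ i : ℤ, b < i → IsZero (E.X i))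
    (hE : ∀ i : ℤ, FlatMod.IsFinLocFree (E.X i)) (hF : ∀ i : ℤ, Coh.IsQCoh (F.X i))
    (f : E ⟶ F) (g : F ⟶ G') [QuasiIso g] (hgf : Nonempty (Homotopy (f ≫ g) 0)) :
    Nonempty (Homotopy f 0) := by
  apply inj E F b hEb hE hF f
  obtain ⟨h⟩ := hgf
  have h1 : Q.map (f ≫ g) = 0 := by
    have h2 := HomotopyCategory.eq_of_homotopy _ _ h
    have h3 := quotientCompQhIso_hom_naturality (f ≫ g)
    rw [h2, Functor.map_zero, Functor.map_zero, zero_comp] at h3
    exact ((cancel_epi _).1 (h3.symm.trans (comp_zero).symm))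
  rw [Functor.map_comp] at h1
  haveI : IsIso (Q.map g) := by
    rw [DerivedCategory.isIso_Q_map_iff_quasiIso]; infer_instance
  exact (cancel_mono (Q.map g)).1 (by rw [h1, zero_comp])

end main

end affine

end Groth.Agent.Helper7.QB16
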