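import Mathlib
import Groth.Prelude
import Groth.Agent.Lib.Helper7.QB12
import Groth.Agent.H4.GF3
import Groth.Agent.Lib.Helper7.GorEt
import Groth.Agent.Lib.Helper1.FibreStalk

/-! # Dualizing complexes and Gorenstein morphisms (S11144, S3628) -/

set_option autoImplicit false
universe u

open CategoryTheory AlgebraicGeometry Limits TopologicalSpace

namespace Groth.Agent.Helper7.QB17

attribute [local instance] HasDerivedCategory.standard

open DRing DerivedCategory Groth.Agent.H4.DCompl1 Groth.Agent.H4.DZ5 Groth.Agent.H4.FB1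
  Groth.Agent.H4.FB2 Groth.Agent.H4.FB3 Groth.Agent.H4.FB4 Groth.Agent.H4.FB5 Groth.Agent.H4.FB6
  Groth.Agent.H4.InjAmp Groth.Agent.H4.DZ3 Groth.Agent.H4.FlatFam
open Groth.Agent.Helper7.QB1 Groth.Agent.Helper7.QB2 Groth.Agent.Helper7.QB3
open Groth.Agent.Helper7.QB11 Groth.Agent.Helper7.QB12
open Groth.Agent.H4.LDS14 Groth.Agent.H4.LDS17 Groth.Agent.H4.PSch2 Groth.Agent.LD.QC

section ring

variable {A B : Type u} [CommRing A] [CommRing B] [Algebra A B] [Module.Flat A B]
  [IsNoetherianRing A] [IsNoetherianRing B]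

/-- flat base change of dualizing complexes, pointwise Gorenstein closed fibres. -/
theorem isDualizing_E_of_gorenstein_pts (hdim : ringKrullDim B < ⊤)
    (hG : ∀ (r : Ideal B) [r.IsPrime], LocCoh.IsGorensteinLocalRing
      (Localization.AtPrime r ⧸ (r.under A).map (algebraMap A (Localization.AtPrime r))))
    (K : Dual.D A) (hK : Dual.IsDualizing A K) : Dual.IsDualizing B ((E A B).obj K) := by
  obtain ⟨a₀, b₀, ha₀, -, -⟩ := exists_bounds_of_isDualizing K hK
  haveI := ha₀
  haveI : ((E A B).obj K).IsGE a₀ := Groth.Agent.H4.FB7.isGE_E K a₀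
  have hfin : ∀ i : ℤ, Module.Finite B (Dual.HD B ((E A B).obj K) i) := fun i => by
    haveI := hK.finite_cohomology i
    exact finite_HD_E K i
  refine Groth.Agent.H4.PD1.isDualizing_of_pointwise hdim _ hfin ⟨a₀, fun i hi => ?_⟩ (fun r => ?_)
  · exact ModuleCat.subsingleton_of_isZero (isZero_of_isGE ((E A B).obj K) a₀ i hi)
  · haveI : (r.asIdeal.under A).IsPrime := Ideal.comap_isPrime _ _
    haveI : r.asIdeal.LiesOver (r.asIdeal.under A) := ⟨rfl⟩
    exact Groth.Agent.H4.GF3.isDualizing_E_E_localization K hK (r.asIdeal.under A) r.asIdeal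
      (hG r.asIdeal)

end ring

section spec

open IsLocalRing

theorem map_maximalIdeal_ringEquiv {R R' : Type u} [CommRing R] [CommRing R'] [IsLocalRing R]
    [IsLocalRing R'] (e : R ≃+* R') :
    (maximalIdeal R).map (e : R →+* R') = maximalIdeal R' := by
  rw [Ideal.map_comap_of_equiv]
  ext y
  rw [Ideal.mem_comap, mem_maximalIdeal, mem_maximalIdeal, mem_nonunits_iff, mem_nonunits_iff]
  exact not_congr (MulEquiv.isUnit_map e.symm)

variable {R S : CommRingCat.{u}} (φ : R ⟶ S) (x : PrimeSpectrum S)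

set_option backward.isDefEq.respectTransparency false in
theorem stalkMap_square :
    ∃ (a : (Spec R).presheaf.stalk ((Spec.map φ) x) ≃+*
        Localization.AtPrime (x.comap φ.hom).asIdeal)
      (b : (Spec S).presheaf.stalk x ≃+* Localization.AtPrime x.asIdeal),
      ∀ r, b (((Spec.map φ).stalkMap x).hom r) =
        Localization.localRingHom (x.comap φ.hom).asIdeal x.asIdeal φ.hom rfl (a r) := by
  refine ⟨(Spec.stalkIso R (x.comap φ.hom)).commRingCatIsoToRingEquiv,
    (Spec.stalkIso S x).commRingCatIsoToRingEquiv, ?_⟩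
  intro r
  have key := Scheme.localRingHom_comp_stalkIso φ x
  have key2 : (Spec.map φ).stalkMap x ≫ (Spec.stalkIso S x).hom =
      (Spec.stalkIso R (x.comap φ.hom)).hom ≫
        (CommRingCat.ofHom <| Localization.localRingHom
          (PrimeSpectrum.comap φ.hom x).asIdeal x.asIdeal φ.hom rfl) := by
    rw [← key]
    simp only [Category.assoc, Iso.inv_hom_id, Category.comp_id]
  exact congr($(key2).hom r)

/-- abstract transport of the closed fibre along a commutative square of ring isos. -/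
theorem gor_quot_transport {R₁ S₁ R₂ S₂ : Type u} [CommRing R₁] [CommRing S₁] [CommRing R₂]
    [CommRing S₂] [IsLocalRing R₁] [IsLocalRing R₂] (ψ₁ : R₁ →+* S₁) (ψ₂ : R₂ →+* S₂)
    (a : R₁ ≃+* R₂) (b : S₁ ≃+* S₂) (hab : ∀ r, b (ψ₁ r) = ψ₂ (a r))
    (h : LocCoh.IsGorensteinLocalRing (S₁ ⧸ (maximalIdeal R₁).map ψ₁)) :
    LocCoh.IsGorensteinLocalRing (S₂ ⧸ (maximalIdeal R₂).map ψ₂) := by
  refine (Groth.Agent.H7.GorFib.gor_iff_of_ringEquiv (Ideal.quotientEquiv _ _ b ?_)).1 h
  have hcomp : (b : S₁ →+* S₂).comp ψ₁ = ψ₂.comp (a : R₁ →+* R₂) := RingHom.ext (fun r => hab r)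
  rw [Ideal.map_map, hcomp, ← Ideal.map_map, map_maximalIdeal_ringEquiv a]

theorem map_localRingHom_eq {A B : Type u} [CommRing A] [CommRing B] (ψ : A →+* B) (r : Ideal B)
    [r.IsPrime] :
    (maximalIdeal (Localization.AtPrime (r.comap ψ))).map
        (Localization.localRingHom (r.comap ψ) r ψ rfl) =
      (r.comap ψ).map ((algebraMap B (Localization.AtPrime r)).comp ψ) := by
  rw [← Localization.AtPrime.map_eq_maximalIdeal, Ideal.map_map]
  congr 1
  ext t
  simp [Localization.localRingHom_to_map]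

/-- Gorenstein-ness of `Spec.map φ` at `x` gives Gorenstein-ness of the closed fibre of
`A_p → B_r`. -/
theorem gor_quot_of_gorAt (h : Dual3.IsGorensteinAt (Spec.map φ) x) :
    LocCoh.IsGorensteinLocalRing (Localization.AtPrime x.asIdeal ⧸
      (x.asIdeal.comap φ.hom).map ((algebraMap S (Localization.AtPrime x.asIdeal)).comp φ.hom)) := by
  obtain ⟨a, b, hab⟩ := stalkMap_square φ x
  have e₁ := Groth.Agent.H1.FibreStalk.fiberStalkEquiv (Spec.map φ) x
  have h1 := (Groth.Agent.H7.GorFib.gor_iff_of_ringEquiv e₁).2 h.2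
  have h2 := gor_quot_transport ((Spec.map φ).stalkMap x).hom
    (Localization.localRingHom (x.comap φ.hom).asIdeal x.asIdeal φ.hom rfl) a b hab h1
  exact Groth.Agent.H4.GL2.isGorensteinLocalRing_of_ringEquiv
    (Ideal.quotEquivOfEq (map_localRingHom_eq φ.hom x.asIdeal)) h2

end spec

section sch

variable {X Y : Scheme.{u}}

lemma gorAt_chart (f : X ⟶ Y) [LocallyOfFiniteType f] {U : X.Opens} {V : Y.Opens}
    (hU : IsAffineOpen U) (hV : IsAffineOpen V) (e : U ≤ f ⁻¹ᵁ V) (r : Spec Γ(X, U))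
    (h : Dual3.IsGorensteinAt f (hU.fromSpec r)) :
    Dual3.IsGorensteinAt (Spec.map (f.appLE V U e)) r := by
  have sq : Spec.map (f.appLE V U e) ≫ hV.fromSpec = hU.fromSpec ≫ f :=
    IsAffineOpen.SpecMap_appLE_fromSpec f hV hU e
  refine (Groth.Agent.H7.GorEt.gorAt_etale_square f (Spec.map (f.appLE V U e)) hU.fromSpec
    hV.fromSpec sq r (fun v => ?_) (fun v => ?_)).2 h
  · unfold Scheme.Hom.fiber; infer_instance
  · haveI : LocallyOfFiniteType (hU.fromSpec ≫ f) := inferInstance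
    unfold Scheme.Hom.fiber; infer_instance

theorem lfp_of_lft [IsLocallyNoetherian Y] (f : X ⟶ Y) [LocallyOfFiniteType f] :
    LocallyOfFinitePresentation f := by
  rw [HasRingHomProperty.iff_appLE (P := @LocallyOfFinitePresentation)]
  intro V U e
  haveI : IsNoetherianRing Γ(Y, V.1) := IsLocallyNoetherian.component_noetherian V
  rw [← RingHom.FinitePresentation.of_finiteType]
  exact HasRingHomProperty.appLE @LocallyOfFiniteType f inferInstance V U e

variable
  [∀ (U V : Scheme.{u}) (j : U ⟶ V) [IsOpenImmersion j],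
    PreservesFiniteLimits (Scheme.Modules.restrictFunctor j)]
  [∀ (R : CommRingCat.{u}), PreservesFiniteLimits (tilde.functor R)]

/-- `Lf^*` of a dualizing complex along a flat Gorenstein morphism locally of finite type is
dualizing. -/
theorem dualizing_lpull_of_gorenstein [IsLocallyNoetherian X] [IsLocallyNoetherian Y] (f : X ⟶ Y)
    [Flat f] [LocallyOfFiniteType f] (hf : Dual3.IsGorensteinMor f) [DCoh.HasLpull f]
    (K : DCoh.D Y) (hK : Dual2.IsDualizingSch Y K) :
    Dual2.IsDualizingSch X ((DCoh.Lpull f).obj K) := by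
  have key : ∀ x : X, ∃ (V : Y.Opens) (U : X.Opens) (_ : IsAffineOpen V) (_ : IsAffineOpen U)
      (_ : U ≤ f ⁻¹ᵁ V), x ∈ U := by
    intro x
    obtain ⟨V, hV, hyV, -⟩ :=
      exists_isAffineOpen_mem_and_subset (x := f x) (U := (⊤ : Y.Opens)) trivial
    obtain ⟨U, hU, hxU, hUV⟩ :=
      exists_isAffineOpen_mem_and_subset (x := x) (U := f ⁻¹ᵁ V) hyV
    exact ⟨V, U, hV, hU, hUV, hxU⟩
  choose V U hV hU e hxU using key
  refine s3662 _ X (fun x => Γ(X, U x)) (fun x => (hU x).fromSpec) (fun x => ⟨x, ?_⟩)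
    (fun x => ?_)
  · rw [(hU x).range_fromSpec]
    exact hxU x
  · obtain ⟨ωV, hωV, ⟨eV⟩⟩ := hK Γ(Y, V x) (hV x).fromSpec
    letI := (f.appLE (V x) (U x) (e x)).hom.toAlgebra
    haveI : IsNoetherianRing Γ(Y, V x) := IsLocallyNoetherian.component_noetherian ⟨V x, hV x⟩
    haveI : IsNoetherianRing Γ(X, U x) := IsLocallyNoetherian.component_noetherian ⟨U x, hU x⟩
    haveI : DRing.HasLBaseChange (algebraMap Γ(Y, V x) Γ(X, U x)) :=
      Groth.Agent.H4.KProj.hasLBaseChange _
    have hfl : (f.appLE (V x) (U x) (e x)).hom.Flat :=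
      HasRingHomProperty.appLE @Flat f inferInstance ⟨_, hV x⟩ ⟨_, hU x⟩ (e x)
    haveI : Module.Flat Γ(Y, V x) Γ(X, U x) := hfl
    have hft : (f.appLE (V x) (U x) (e x)).hom.FiniteType :=
      HasRingHomProperty.appLE @LocallyOfFiniteType f inferInstance ⟨_, hV x⟩ ⟨_, hU x⟩ (e x)
    haveI : Algebra.FiniteType Γ(Y, V x) Γ(X, U x) := hft
    have hdim : ringKrullDim Γ(X, U x) < ⊤ :=
      Groth.Agent.H4.GF3.ringKrullDim_lt_top_of_finiteType Γ(Y, V x) Γ(X, U x)
        (Groth.Agent.H4.US12.S0371 ωV hωV)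
    have hd : Dual.IsDualizing Γ(X, U x) ((E Γ(Y, V x) Γ(X, U x)).obj ωV) := by
      refine isDualizing_E_of_gorenstein_pts hdim (fun r _ => ?_) ωV hωV
      have h1 := gorAt_chart f (hU x) (hV x) (e x) ⟨r, inferInstance⟩ (hf _)
      have h2 := gor_quot_of_gorAt (f.appLE (V x) (U x) (e x)) ⟨r, inferInstance⟩ h1
      refine Groth.Agent.H4.GL2.isGorensteinLocalRing_of_ringEquiv (Ideal.quotEquivOfEq ?_) h2
      rw [IsScalarTower.algebraMap_eq Γ(Y, V x) Γ(X, U x) (Localization.AtPrime r)]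
      rfl
    exact ⟨_, isDualizing_of_iso (LBCIso ωV).symm hd,
      nonempty_chart_lpull f K (hU x) (hV x) (e x) ωV eV⟩

theorem s11144 (X Y : Scheme.{u}) [IsNoetherian X] [IsNoetherian Y]
    (f : X ⟶ Y) [Flat f] [LocallyOfFiniteType f] (hf : Dual3.IsGorensteinMor f)
    [DCoh.HasLpull f] (K : DCoh.DQCoh Y) (hK : Dual2.IsDualizingSch Y K.obj) :
    Dual2.IsDualizingSch X ((DCoh.Lpull f).obj K.obj) :=
  dualizing_lpull_of_gorenstein f hf K.obj hK

theorem s3628 (X Y : Scheme.{u}) [IsLocallyNoetherian X] [IsLocallyNoetherian Y]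
    (f : X ⟶ Y) [Surjective f] [LocallyOfFiniteType f] (hf : Dual3.IsGorensteinMor f)
    [DCoh.HasLpull f] (K : DCoh.DQCoh Y) :
    Dual2.IsDualizingSch Y K.obj ↔ Dual2.IsDualizingSch X ((DCoh.Lpull f).obj K.obj) := by
  haveI : Flat f := (Flat.iff_flat_stalkMap f).2 (fun x => (hf x).1)
  haveI := lfp_of_lft f
  exact ⟨dualizing_lpull_of_gorenstein f hf K.obj, dualizing_of_lpull f K.obj K.property⟩

end sch

end Groth.Agent.Helper7.QB17
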