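import Mathlib
import Groth.Prelude.Def_DCoh4
import Groth.Agent.Lib.Helper7.QB3
import Groth.Agent.Lib.Helper7.LR4
import Groth.Agent.H4.RPC7
import Groth.Agent.H4.RestrPC
import Groth.Agent.H4.TilD11
import Groth.Agent.Lib.Helper6.TildePush3
import Groth.Agent.Lib.Helper6.RpRes1

/-! # Pseudo-coherence along finite morphisms with pseudo-coherent `f_* O_X` (S1112) -/

set_option autoImplicit false
universe u
open CategoryTheory Limits Opposite Pretriangulated AlgebraicGeometry TopologicalSpace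

namespace Groth.Agent.Helper7.QB5

open DerivedCategory Groth.Agent.Helper7.QB1 Groth.Agent.Helper7.QB2 Groth.Agent.Helper7.QB3
open Groth.Agent.H4.PSch1 Groth.Agent.H4.PSch2 Groth.Agent.LD.QC
open Groth.Agent.H4.TilD10 Groth.Agent.H4.TilD11 Groth.Agent.H4.PCS7

attribute [local instance] HasDerivedCategory.standard

/-- base change of `Rf_*` along a cartesian square of open immersions. -/
theorem rpushBC {X S X' S' : Scheme.{u}} (f : X ⟶ S) (f' : X' ⟶ S') (h : X' ⟶ X) (j : S' ⟶ S)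
    [IsOpenImmersion h] [IsOpenImmersion j] [DCoh.HasRpush f] [DCoh.HasRpush f']
    (comm : h ≫ f = f' ≫ j) (cart : ∀ W : S'.Opens, h ''ᵁ (f' ⁻¹ᵁ W) = f ⁻¹ᵁ (j ''ᵁ W)) :
    Nonempty (DCoh.Rpush f ⋙ RD j ≅ RD h ⋙ DCoh.Rpush f') := by
  haveI h1 := Groth.Agent.H6.RpRes.isRightDerivedFunctor_postcomp (DCoh.pushKh f) (DCoh.Rpush f)
    ((DCoh.pushKh f).totalRightDerivedUnit Qh
      (HomotopyCategory.quasiIso X.Modules (ComplexShape.up ℤ))) (RD j)
  haveI h2 := Groth.Agent.H6.RpRes.isRightDerivedFunctor_precomp (DCoh.pushKh f')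
    (DCoh.Rpush f')
    ((DCoh.pushKh f').totalRightDerivedUnit Qh
      (HomotopyCategory.quasiIso X'.Modules (ComplexShape.up ℤ)))
    (Scheme.Modules.restrictFunctor h)
    (fun I hI => by
      haveI := hI
      exact Groth.Agent.H6.RpRes.isKInjective_restrict _ I)
  let e1 : (Scheme.Modules.pushforward f).mapHomotopyCategory (ComplexShape.up ℤ) ⋙
      (Scheme.Modules.restrictFunctor j).mapHomotopyCategory (ComplexShape.up ℤ) ≅
      (Scheme.Modules.restrictFunctor h ⋙
        Scheme.Modules.pushforward f').mapHomotopyCategory (ComplexShape.up ℤ) :=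
    Functor.mapHomotopyCategoryCompIso (Groth.Agent.H4.RPC7.bcIsoG f f' h j comm cart) _
  let e2 : (Scheme.Modules.restrictFunctor h).mapHomotopyCategory (ComplexShape.up ℤ) ⋙
      (Scheme.Modules.pushforward f').mapHomotopyCategory (ComplexShape.up ℤ) ≅
      (Scheme.Modules.restrictFunctor h ⋙
        Scheme.Modules.pushforward f').mapHomotopyCategory (ComplexShape.up ℤ) :=
    Functor.mapHomotopyCategoryCompIso (Iso.refl _) _
  let e : DCoh.pushKh f ⋙ RD j ≅
      (Scheme.Modules.restrictFunctor h).mapHomotopyCategory (ComplexShape.up ℤ) ⋙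
        DCoh.pushKh f' :=
    Functor.associator _ _ _ ≪≫
      Functor.isoWhiskerLeft _ (Scheme.Modules.restrictFunctor j).mapDerivedCategoryFactorsh ≪≫
      (Functor.associator _ _ _).symm ≪≫
      Functor.isoWhiskerRight (e1 ≪≫ e2.symm) Qh ≪≫ Functor.associator _ _ _
  exact ⟨Functor.rightDerivedNatIso (DCoh.Rpush f ⋙ RD j)
    (RD h ⋙ DCoh.Rpush f')
    (Functor.whiskerRight ((DCoh.pushKh f).totalRightDerivedUnit Qh
      (HomotopyCategory.quasiIso X.Modules (ComplexShape.up ℤ))) (RD j) ≫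
        (Functor.associator _ _ _).hom)
    (Groth.Agent.H6.RpRes.preUnit (DCoh.pushKh f') (DCoh.Rpush f')
      ((DCoh.pushKh f').totalRightDerivedUnit Qh
        (HomotopyCategory.quasiIso X'.Modules (ComplexShape.up ℤ)))
      (Scheme.Modules.restrictFunctor h))
    (HomotopyCategory.quasiIso X.Modules (ComplexShape.up ℤ)) e⟩

/-- the affine case. -/
lemma pc_tilde_iff {A B : Type u} [CommRing A] [CommRing B] [Algebra A B]
    (hB : DRing.IsPseudoCoherentModule' A B)
    [DCoh.HasRpush (Spec.map (CommRingCat.ofHom (algebraMap A B)))]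
    (K : DCoh.D (Spec (CommRingCat.of B))) (hK : DCoh.IsQCohD K) (m : ℤ) :
    DCoh.IsPseudoCoherentD m K ↔
      DCoh.IsPseudoCoherentD m
        ((DCoh.Rpush (Spec.map (CommRingCat.ofHom (algebraMap A B)))).obj K) := by
  haveI : PreservesFiniteLimits (tilde.functor (CommRingCat.of A)) :=
    Groth.Agent.H5.AG.tilde_preservesFiniteLimits _
  haveI : PreservesFiniteLimits (tilde.functor (CommRingCat.of B)) :=
    Groth.Agent.H5.AG.tilde_preservesFiniteLimits _
  obtain ⟨M, ⟨eM⟩⟩ := ((s0997 (CommRingCat.of B)).2.2 K).1 hK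
  obtain ⟨e⟩ := Groth.Agent.H6.TildePush.s7268 (algebraMap A B)
  have e3 : (DCoh.Rpush (Spec.map (CommRingCat.ofHom (algebraMap A B)))).obj K ≅
      (DCoh.tildeD (CommRingCat.of A)).obj ((DRing.restrictD (algebraMap A B)).obj M) :=
    (DCoh.Rpush (Spec.map (CommRingCat.ofHom (algebraMap A B)))).mapIso eM.symm ≪≫ e.app M
  have k1 : DCoh.IsPseudoCoherentD m K ↔ DRing.IsPseudoCoherent B m M :=
    ⟨fun h => (Groth.Agent.H4.TilD11.S1004 B M m).1 (isPseudoCoherentD_of_iso eM.symm h),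
     fun h => isPseudoCoherentD_of_iso eM ((Groth.Agent.H4.TilD11.S1004 B M m).2 h)⟩
  have k2 : DCoh.IsPseudoCoherentD m
      ((DCoh.Rpush (Spec.map (CommRingCat.ofHom (algebraMap A B)))).obj K) ↔
      DRing.IsPseudoCoherent A m ((DRing.restrictD (algebraMap A B)).obj M) :=
    ⟨fun h => (Groth.Agent.H4.TilD11.S1004 A _ m).1 (isPseudoCoherentD_of_iso e3 h),
     fun h => isPseudoCoherentD_of_iso e3.symm ((Groth.Agent.H4.TilD11.S1004 A _ m).2 h)⟩
  rw [k1, k2]
  exact ⟨Groth.Agent.H4.RestrPC.isPC_restrictD hB m M,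
    fun h => (Groth.Agent.H4.RestrPC.detects_restrictD hB).isPC m M (fun _ => h)⟩

/-- `B` as an `A`-module, via restriction of scalars. -/
noncomputable def eN {A B : Type u} [CommRing A] [CommRing B] [Algebra A B] :
    (ModuleCat.restrictScalars (algebraMap A B)).obj (ModuleCat.of B B) ≅ ModuleCat.of A B :=
  let X₁ : ModuleCat.{u} A := (ModuleCat.restrictScalars (algebraMap A B)).obj (ModuleCat.of B B)
  let X₂ : ModuleCat.{u} A := ModuleCat.of A B
  let e : X₁ ≃ₗ[A] X₂ :=
    { toFun := fun x => x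
      invFun := fun x => x
      map_add' := fun _ _ => rfl
      map_smul' := fun a (b : B) => (Algebra.smul_def a b).symm
      left_inv := fun _ => rfl
      right_inv := fun _ => rfl }
  LinearEquiv.toModuleIso e

/-- the coordinate ring of `f⁻¹V` is a pseudo-coherent module over that of `V`. -/
lemma pcModule_of_hO {X Y : Scheme.{u}} (f : X ⟶ Y)
    (hO : ∀ m : ℤ, DCoh.IsPseudoCoherentD m
      (DCoh.inD Y ((Scheme.Modules.pushforward f).obj (Coh.structureModule X))))
    {A B : Type u} [CommRing A] [CommRing B] [Algebra A B]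
    (jV : Spec (CommRingCat.of A) ⟶ Y) (jU : Spec (CommRingCat.of B) ⟶ X)
    [IsOpenImmersion jV] [IsOpenImmersion jU]
    (comm : jU ≫ f = Spec.map (CommRingCat.ofHom (algebraMap A B)) ≫ jV)
    (cart : ∀ W : (Spec (CommRingCat.of A)).Opens,
      jU ''ᵁ ((Spec.map (CommRingCat.ofHom (algebraMap A B))) ⁻¹ᵁ W) = f ⁻¹ᵁ (jV ''ᵁ W)) :
    DRing.IsPseudoCoherentModule' A B := by
  haveI : PreservesFiniteLimits (tilde.functor (CommRingCat.of A)) :=
    Groth.Agent.H5.AG.tilde_preservesFiniteLimits _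
  have eMod : ((Scheme.Modules.pushforward f).obj (Coh.structureModule X)).restrict jV ≅
      (tilde.functor (CommRingCat.of A)).obj (ModuleCat.of A B) :=
    (Groth.Agent.H4.RPC7.bcIsoG f (Spec.map (CommRingCat.ofHom (algebraMap A B))) jU jV comm
        cart).app (Coh.structureModule X) ≪≫
      (Scheme.Modules.pushforward (Spec.map (CommRingCat.ofHom (algebraMap A B)))).mapIso
        (Scheme.Modules.restrictUnitIso jU) ≪≫
      (Groth.Agent.H6.TildePush.tildePushIso (CommRingCat.ofHom (algebraMap A B))).app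
        (ModuleCat.of B B) ≪≫
      (tilde.functor (CommRingCat.of A)).mapIso eN
  have eD : (RD jV).obj
      (DCoh.inD Y ((Scheme.Modules.pushforward f).obj (Coh.structureModule X))) ≅
      (DCoh.tildeD (CommRingCat.of A)).obj (Dual.inD A B) :=
    RDinD jV _ ≪≫ (DerivedCategory.singleFunctor _ 0).mapIso eMod ≪≫
      (((tilde.functor (CommRingCat.of A)).mapDerivedCategorySingleFunctor 0).app
        (ModuleCat.of A B)).symm
  show DRing.IsPseudoCoherent' A (Dual.inD A B)
  refine Groth.Agent.H4.PC.isPC'_of_forall_isPC _ (fun m => ?_)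
  refine (Groth.Agent.H4.TilD11.S1004 A (Dual.inD A B) m).1 ?_
  exact isPseudoCoherentD_of_iso eD (Groth.Agent.H4.RPC7.isPseudoCoherentD_RD jV _ (hO m))

theorem s1112 {X Y : Scheme.{u}} (f : X ⟶ Y) [IsFinite f] [DCoh.HasRpush f]
    (hO : ∀ m : ℤ, DCoh.IsPseudoCoherentD m
      (DCoh.inD Y ((Scheme.Modules.pushforward f).obj (Coh.structureModule X))))
    (E : DCoh.D X) (hE : DCoh.IsQCohD E) (m : ℤ) :
    DCoh.IsPseudoCoherentD m E ↔ DCoh.IsPseudoCoherentD m ((DCoh.Rpush f).obj E) := by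
  have key : ∀ (V : Y.Opens) (hV : IsAffineOpen V),
      (DCoh.IsPseudoCoherentD m ((RD (hV.preimage f).fromSpec).obj E) ↔
        DCoh.IsPseudoCoherentD m ((RD hV.fromSpec).obj ((DCoh.Rpush f).obj E))) := by
    intro V hV
    have hU := hV.preimage f
    letI alg : Algebra Γ(Y, V) Γ(X, f ⁻¹ᵁ V) := (f.appLE V (f ⁻¹ᵁ V) le_rfl).hom.toAlgebra
    have sq : hU.fromSpec ≫ f =
        Spec.map (CommRingCat.ofHom (algebraMap Γ(Y, V) Γ(X, f ⁻¹ᵁ V))) ≫ hV.fromSpec :=
      (IsAffineOpen.SpecMap_appLE_fromSpec f hV hU le_rfl).symm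
    have cart := Groth.Agent.H4.RPC7.cart_of_range f
      (Spec.map (CommRingCat.ofHom (algebraMap Γ(Y, V) Γ(X, f ⁻¹ᵁ V)))) hU.fromSpec hV.fromSpec sq
      (fun x hx => by
        rw [hU.range_fromSpec]
        rw [hV.range_fromSpec] at hx
        exact hx)
    haveI : DCoh.HasRpush (Spec.map (CommRingCat.ofHom (algebraMap Γ(Y, V) Γ(X, f ⁻¹ᵁ V)))) :=
      Groth.Agent.Helper7.LR4.hasRpush _
    obtain ⟨ebc⟩ := rpushBC f (Spec.map (CommRingCat.ofHom (algebraMap Γ(Y, V) Γ(X, f ⁻¹ᵁ V))))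
      hU.fromSpec hV.fromSpec sq cart
    have hB : DRing.IsPseudoCoherentModule' Γ(Y, V) Γ(X, f ⁻¹ᵁ V) :=
      pcModule_of_hO f hO hV.fromSpec hU.fromSpec sq cart
    have h1 := pc_tilde_iff hB ((RD hU.fromSpec).obj E) (isQCohD_RD _ E hE) m
    rw [h1]
    exact ⟨isPseudoCoherentD_of_iso (ebc.app E).symm, isPseudoCoherentD_of_iso (ebc.app E)⟩
  constructor
  · intro h
    rw [isPseudoCoherentD_iff_pcAt]
    intro y
    obtain ⟨V, hV, hyV, -⟩ :=
      exists_isAffineOpen_mem_and_subset (x := y) (U := (⊤ : Y.Opens)) trivial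
    have h2 := (key V hV).1 (Groth.Agent.H4.RPC7.isPseudoCoherentD_RD _ E h)
    have hy : y ∈ Set.range hV.fromSpec := by
      rw [hV.range_fromSpec]
      exact hyV
    obtain ⟨y', rfl⟩ := hy
    exact PCAt.of_restrict hV.fromSpec _ y' ((isPseudoCoherentD_iff_pcAt m _).1 h2 y')
  · intro h
    rw [isPseudoCoherentD_iff_pcAt]
    intro x
    obtain ⟨V, hV, hyV, -⟩ :=
      exists_isAffineOpen_mem_and_subset (x := f x) (U := (⊤ : Y.Opens)) trivial
    have h2 := (key V hV).2 (Groth.Agent.H4.RPC7.isPseudoCoherentD_RD _ _ h)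
    have hx : x ∈ Set.range (hV.preimage f).fromSpec := by
      rw [(hV.preimage f).range_fromSpec]
      exact hyV
    obtain ⟨x', rfl⟩ := hx
    exact PCAt.of_restrict (hV.preimage f).fromSpec _ x'
      ((isPseudoCoherentD_iff_pcAt m _).1 h2 x')

end Groth.Agent.Helper7.QB5
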