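import Mathlib
import Groth.Prelude
import Groth.Agent.Lib.Helper7.QB15
import Groth.Agent.Lib.Helper7.QB5
import Groth.Agent.Lib.Helper7.QB16
import Groth.Agent.Lib.Helper7.QB11
import Groth.Agent.H4.RPC25
import Groth.Agent.H4.RPC22
import Groth.Agent.H4.FinRelPC
import Groth.Agent.H4.RelPC2

/-! # Relative pseudo-coherence and finite direct images (S7210) -/

set_option autoImplicit false
universe u
attribute [local instance] HasDerivedCategory.standard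
open CategoryTheory CategoryTheory.Limits AlgebraicGeometry DerivedCategory Opposite TopologicalSpace
open Groth.Agent.LD.QC
open Groth.Agent.H4.PSch2 Groth.Agent.H4.PSch4 Groth.Agent.H4.RPC2 Groth.Agent.H4.RPC2b
open Groth.Agent.H4.RPC3 Groth.Agent.H4.RPC7 Groth.Agent.H4.RPC8
open Groth.Agent.H4.RPC9 Groth.Agent.H4.RPC10 Groth.Agent.H4.RPC11 Groth.Agent.H4.RPC12
open Groth.Agent.H4.RPC13 Groth.Agent.H4.RPC14 Groth.Agent.H4.RPC15 Groth.Agent.H4.TilD11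
open Groth.Agent.H6.TildePush
open Groth.Agent.Helper7.QB1 Groth.Agent.Helper7.QB2 Groth.Agent.Helper7.QB3

namespace Groth.Agent.Helper7.QB18

local instance tildeInst (R : CommRingCat.{u}) : PreservesFiniteLimits (tilde.functor R) :=
  Groth.Agent.H5.AG.tilde_preservesFiniteLimits R

section A1

variable {X : Scheme.{u}} {U : X.Opens} (hU : IsAffineOpen U)

/-- restriction to `U` followed by transport to `Spec Γ(X, U)` is restriction along `fromSpec`. -/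
noncomputable def pushRestrictIso :
    Scheme.Modules.restrictFunctor U.ι ⋙ Scheme.Modules.pushforward hU.isoSpec.hom ≅
      Scheme.Modules.restrictFunctor hU.fromSpec :=
  Functor.isoWhiskerLeft _ (Groth.Agent.H4.RPC25.pushIsoRestrict hU.isoSpec.hom) ≪≫
    (Scheme.Modules.restrictFunctorComp (inv hU.isoSpec.hom) U.ι).symm ≪≫
    Scheme.Modules.restrictFunctorCongr (by rw [IsIso.Iso.inv_hom]; rfl)

/-- derived version. -/
noncomputable def RDfromSpecIso : RD U.ι ⋙ Ri hU.isoSpec.hom ≅ RD hU.fromSpec :=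
  Groth.Agent.Helper7.QB16.mapDCComp _ _ _ (pushRestrictIso hU)

/-- the two models of the restriction of `K` to the affine open `U`. -/
noncomputable def chartModelIso (K : DCoh.D X) (G : CochainComplex X.Modules ℤ)
    (hG : DCoh.toD X G ≅ K) :
    DCoh.toD _ ((DerSch.pushCx hU.isoSpec.hom).obj ((DCoh.restrictCx U).obj G)) ≅
      (RD hU.fromSpec).obj K :=
  (RiFac hU.isoSpec.hom _).symm ≪≫
    (Ri hU.isoSpec.hom).mapIso ((RDfac U.ι G).symm ≪≫ (RD U.ι).mapIso hG) ≪≫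
    (RDfromSpecIso hU).app K

end A1

section key

variable {X Y : Scheme.{u}} (π : X ⟶ Y) [IsFinite π] [DCoh.HasRpush π] {V : Y.Opens}
  (hV : IsAffineOpen V)

/-- the chart of `Rπ_* E` on an affine `V` is the restriction of scalars of the chart of `E` on
`π⁻¹V`. -/
lemma nonempty_rpush_chart (E : DCoh.D X) (M : Dual.D Γ(X, π ⁻¹ᵁ V))
    (eM : (DCoh.tildeD (CommRingCat.of Γ(X, π ⁻¹ᵁ V))).obj M ≅
      (RD (hV.preimage π).fromSpec).obj E) :
    letI : Algebra Γ(Y, V) Γ(X, π ⁻¹ᵁ V) := (π.appLE V (π ⁻¹ᵁ V) le_rfl).hom.toAlgebra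
    Nonempty ((RD hV.fromSpec).obj ((DCoh.Rpush π).obj E) ≅
      (DCoh.tildeD (CommRingCat.of Γ(Y, V))).obj
        ((DRing.restrictD (algebraMap Γ(Y, V) Γ(X, π ⁻¹ᵁ V))).obj M)) := by
  letI alg : Algebra Γ(Y, V) Γ(X, π ⁻¹ᵁ V) := (π.appLE V (π ⁻¹ᵁ V) le_rfl).hom.toAlgebra
  have hU := hV.preimage π
  have sq : hU.fromSpec ≫ π =
      Spec.map (CommRingCat.ofHom (algebraMap Γ(Y, V) Γ(X, π ⁻¹ᵁ V))) ≫ hV.fromSpec :=
    (IsAffineOpen.SpecMap_appLE_fromSpec π hV hU le_rfl).symm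
  have cart := Groth.Agent.H4.RPC7.cart_of_range π
    (Spec.map (CommRingCat.ofHom (algebraMap Γ(Y, V) Γ(X, π ⁻¹ᵁ V)))) hU.fromSpec hV.fromSpec sq
    (fun x hx => by
      rw [hU.range_fromSpec]
      rw [hV.range_fromSpec] at hx
      exact hx)
  haveI : DCoh.HasRpush (Spec.map (CommRingCat.ofHom (algebraMap Γ(Y, V) Γ(X, π ⁻¹ᵁ V)))) :=
    Groth.Agent.Helper7.LR4.hasRpush _
  obtain ⟨ebc⟩ := Groth.Agent.Helper7.QB5.rpushBC π
    (Spec.map (CommRingCat.ofHom (algebraMap Γ(Y, V) Γ(X, π ⁻¹ᵁ V))))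
    hU.fromSpec hV.fromSpec sq cart
  obtain ⟨e⟩ := Groth.Agent.H6.TildePush.s7268 (algebraMap Γ(Y, V) Γ(X, π ⁻¹ᵁ V))
  exact ⟨ebc.app E ≪≫
    (DCoh.Rpush (Spec.map (CommRingCat.ofHom (algebraMap Γ(Y, V) Γ(X, π ⁻¹ᵁ V))))).mapIso
      eM.symm ≪≫ e.app M⟩

end key

section main

variable {X Y S : Scheme.{u}}

/-- ring-level relative pseudo-coherence on an affine pair gives the chart predicate. -/
lemma pch_of_ring (f : X ⟶ S) [LocallyOfFiniteType f] (E : DCoh.D X) (m : ℤ)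
    (U : X.affineOpens) (V : S.affineOpens) (h : (U : X.Opens) ≤ f ⁻¹ᵁ (V : S.Opens))
    (G : CochainComplex X.Modules ℤ) (hG : DCoh.toD X G ≅ E) (M : Dual.D Γ(X, (U : X.Opens)))
    (eM : (DCoh.tildeD (X.presheaf.obj (op (U : X.Opens)))).obj M ≅
      DCoh.toD _ ((DerSch.pushCx U.2.isoSpec.hom).obj ((DCoh.restrictCx (U : X.Opens)).obj G)))
    (H : letI := (f.appLE (V : S.Opens) (U : X.Opens) h).hom.toAlgebra
      DerCA.IsRelPseudoCoherent Γ(S, (V : S.Opens)) Γ(X, (U : X.Opens)) m M) :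
    PCh f m E (U : X.Opens) (V : S.Opens) := by
  letI := (f.appLE (V : S.Opens) (U : X.Opens) h).hom.toAlgebra
  obtain ⟨n', α, hα, hvia⟩ := H
  let φ' : MvPolynomial (Fin n') Γ(S, (V : S.Opens)) →+* Γ(X, (U : X.Opens)) := α.toRingHom
  have hφ' : Function.Surjective φ' := hα
  haveI : IsClosedImmersion (gImm (U : X.Opens) φ') :=
    isClosedImmersion_gImm (U : X.Opens) φ' U.2 hφ'
  haveI := Groth.Agent.H5.AG.tilde_preservesFiniteLimits
    (CommRingCat.of (MvPolynomial (Fin n') Γ(S, (V : S.Opens))))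
  haveI := Groth.Agent.H5.AG.tilde_preservesFiniteLimits (X.presheaf.obj (op (U : X.Opens)))
  obtain ⟨i⟩ := Groth.Agent.Helper7.QB15.nonempty_chart_tilde_iso U.2 φ' hφ' G M eM
  have hvia' : DRing.IsPseudoCoherent (MvPolynomial (Fin n') Γ(S, (V : S.Opens))) m
      ((DRing.restrictD φ').obj M) := hvia
  have h3 : DCoh.IsPseudoCoherentD m ((DCoh.tildeD (CommRingCat.of
      (MvPolynomial (Fin n') Γ(S, (V : S.Opens))))).obj ((DRing.restrictD φ').obj M)) :=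
    (S1004 _ _ m).2 hvia'
  have h2 := isPseudoCoherentD_of_iso i.symm h3
  have h1 : DCoh.IsPseudoCoherentD m ((Ri (gImm (U : X.Opens) φ')).obj
      ((RD (U : X.Opens).ι).obj E)) :=
    isPseudoCoherentD_of_iso ((RiFac _ _).symm ≪≫
      (Ri _).mapIso ((RDfac (U : X.Opens).ι G).symm ≪≫ (RD (U : X.Opens).ι).mapIso hG)) h2
  have hC : φ'.comp MvPolynomial.C = (f.appLE (V : S.Opens) (U : X.Opens) h).hom := by
    ext r
    exact α.commutes r
  exact ⟨h, n', φ', ⟨hφ', hC⟩, (gpc_iff (U : X.Opens) φ' m E).2 h1⟩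

variable (q : Y ⟶ S) [LocallyOfFiniteType q] (π : X ⟶ Y) [IsFinite π] [DCoh.HasRpush π]

/-- `Rπ_*` preserves quasi-coherence of cohomology for finite `π`. -/
lemma isQCohD_rpush (E : DCoh.D X) (hE : DCoh.IsQCohD E) :
    DCoh.IsQCohD ((DCoh.Rpush π).obj E) := by
  refine Groth.Agent.Helper7.QB11.isQCohD_of_charts _ Y.affineOpens
    (fun V => Γ(Y, (V : Y.Opens))) (fun V => V.2.fromSpec) (fun y => ?_) (fun V => ?_)
  · obtain ⟨V, hV, hyV, -⟩ :=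
      exists_isAffineOpen_mem_and_subset (x := y) (U := (⊤ : Y.Opens)) trivial
    exact ⟨⟨V, hV⟩, by rw [hV.range_fromSpec]; exact hyV⟩
  · have hU := V.2.preimage π
    have hq := isQCohD_RD hU.fromSpec E hE
    obtain ⟨M, ⟨eM⟩⟩ := ((s0997 (CommRingCat.of Γ(X, π ⁻¹ᵁ (V : Y.Opens)))).2.2 _).1 hq
    obtain ⟨e⟩ := nonempty_rpush_chart π V.2 E M eM
    exact ⟨_, ⟨e⟩⟩

theorem s7210 (m : ℤ) (E : DCoh.D X) (hE : DCoh.IsQCohD E) :
    DerSch.IsPseudoCoherentRel (π ≫ q) m E ↔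
      DerSch.IsPseudoCoherentRel q m ((DCoh.Rpush π).obj E) := by
  have hE' := isQCohD_rpush π E hE
  -- the common ring-level comparison
  have core : ∀ (V' : Y.affineOpens) (W : S.affineOpens)
      (h : (V' : Y.Opens) ≤ q ⁻¹ᵁ (W : S.Opens))
      (G : CochainComplex X.Modules ℤ) (hG : DCoh.toD X G ≅ E)
      (M : Dual.D Γ(X, π ⁻¹ᵁ (V' : Y.Opens)))
      (eM : (DCoh.tildeD (X.presheaf.obj (op (π ⁻¹ᵁ (V' : Y.Opens))))).obj M ≅
        DCoh.toD _ ((DerSch.pushCx (V'.2.preimage π).isoSpec.hom).obj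
          ((DCoh.restrictCx (π ⁻¹ᵁ (V' : Y.Opens))).obj G)))
      (G' : CochainComplex Y.Modules ℤ) (hG' : DCoh.toD Y G' ≅ (DCoh.Rpush π).obj E)
      (M' : Dual.D Γ(Y, (V' : Y.Opens)))
      (eM' : (DCoh.tildeD (Y.presheaf.obj (op (V' : Y.Opens)))).obj M' ≅
        DCoh.toD _ ((DerSch.pushCx V'.2.isoSpec.hom).obj
          ((DCoh.restrictCx (V' : Y.Opens)).obj G'))),
      ((letI := ((π ≫ q).appLE (W : S.Opens) (π ⁻¹ᵁ (V' : Y.Opens))
            (π.preimage_mono h)).hom.toAlgebra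
        DerCA.IsRelPseudoCoherent Γ(S, (W : S.Opens)) Γ(X, π ⁻¹ᵁ (V' : Y.Opens)) m M) ↔
        (letI := (q.appLE (W : S.Opens) (V' : Y.Opens) h).hom.toAlgebra
        DerCA.IsRelPseudoCoherent Γ(S, (W : S.Opens)) Γ(Y, (V' : Y.Opens)) m M')) := by
    intro V' W h G hG M eM G' hG' M' eM'
    have hU := V'.2.preimage π
    letI a1 : Algebra Γ(S, (W : S.Opens)) Γ(Y, (V' : Y.Opens)) :=
      (q.appLE (W : S.Opens) (V' : Y.Opens) h).hom.toAlgebra
    letI a2 : Algebra Γ(Y, (V' : Y.Opens)) Γ(X, π ⁻¹ᵁ (V' : Y.Opens)) :=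
      (π.appLE (V' : Y.Opens) (π ⁻¹ᵁ (V' : Y.Opens)) le_rfl).hom.toAlgebra
    letI a3 : Algebra Γ(S, (W : S.Opens)) Γ(X, π ⁻¹ᵁ (V' : Y.Opens)) :=
      ((π ≫ q).appLE (W : S.Opens) (π ⁻¹ᵁ (V' : Y.Opens)) (π.preimage_mono h)).hom.toAlgebra
    haveI : IsScalarTower Γ(S, (W : S.Opens)) Γ(Y, (V' : Y.Opens))
        Γ(X, π ⁻¹ᵁ (V' : Y.Opens)) := by
      refine IsScalarTower.of_algebraMap_eq' ?_
      have := Scheme.Hom.appLE_comp_appLE π q (W : S.Opens) (V' : Y.Opens)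
        (π ⁻¹ᵁ (V' : Y.Opens)) h le_rfl
      exact congrArg CommRingCat.Hom.hom this.symm
    haveI : Algebra.FiniteType Γ(S, (W : S.Opens)) Γ(Y, (V' : Y.Opens)) :=
      LocallyOfFiniteType.finiteType_appLE q W.2 V'.2 h
    haveI : Algebra.FiniteType Γ(S, (W : S.Opens)) Γ(X, π ⁻¹ᵁ (V' : Y.Opens)) :=
      LocallyOfFiniteType.finiteType_appLE (π ≫ q) W.2 hU (π.preimage_mono h)
    haveI : Module.Finite Γ(Y, (V' : Y.Opens)) Γ(X, π ⁻¹ᵁ (V' : Y.Opens)) := by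
      have h1 := IsFinite.finite_app π (V' : Y.Opens) V'.2
      rw [Scheme.Hom.app_eq_appLE] at h1
      exact h1
    -- identification of `M'`
    have i1 : (DCoh.tildeD (CommRingCat.of Γ(X, π ⁻¹ᵁ (V' : Y.Opens)))).obj M ≅
        (RD hU.fromSpec).obj E := eM ≪≫ chartModelIso hU E G hG
    obtain ⟨i2⟩ := nonempty_rpush_chart π V'.2 E M i1
    have i3 : (DCoh.tildeD (CommRingCat.of Γ(Y, (V' : Y.Opens)))).obj M' ≅
        (RD V'.2.fromSpec).obj ((DCoh.Rpush π).obj E) :=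
      eM' ≪≫ chartModelIso V'.2 _ G' hG'
    haveI := (s0997 (CommRingCat.of Γ(Y, (V' : Y.Opens)))).1
    haveI := (s0997 (CommRingCat.of Γ(Y, (V' : Y.Opens)))).2.1
    have i4 : M' ≅ (DRing.restrictD (algebraMap Γ(Y, (V' : Y.Opens))
        Γ(X, π ⁻¹ᵁ (V' : Y.Opens)))).obj M :=
      (DCoh.tildeD (CommRingCat.of Γ(Y, (V' : Y.Opens)))).preimageIso (i3 ≪≫ i2)
    have k : DerCA.IsRelPseudoCoherent Γ(S, (W : S.Opens)) Γ(X, π ⁻¹ᵁ (V' : Y.Opens)) m M ↔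
        DerCA.IsRelPseudoCoherent Γ(S, (W : S.Opens)) Γ(Y, (V' : Y.Opens)) m
          ((DRing.restrictD (algebraMap Γ(Y, (V' : Y.Opens))
            Γ(X, π ⁻¹ᵁ (V' : Y.Opens)))).obj M) := by
      obtain ⟨s, hs⟩ := (inferInstance : Algebra.FiniteType Γ(Y, (V' : Y.Opens))
        Γ(X, π ⁻¹ᵁ (V' : Y.Opens))).out
      exact Groth.Agent.H4.FinRelPC.good_of_finset Γ(X, π ⁻¹ᵁ (V' : Y.Opens)) s
        Γ(Y, (V' : Y.Opens)) hs M m
    exact k.trans ⟨Groth.Agent.H4.RelPC.relPC_of_iso i4.symm,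
      Groth.Agent.H4.RelPC.relPC_of_iso i4⟩
  constructor
  · intro H
    refine (Groth.Agent.Helper7.QB15.s7234 q ((DCoh.Rpush π).obj E) hE' m).2 ?_
    intro V' W h G' ⟨hG'⟩ M' ⟨eM'⟩
    have hU := V'.2.preimage π
    let G := Q.objPreimage E
    let hG : Q.obj G ≅ E := Q.objObjPreimageIso E
    have hq := Groth.Agent.Helper7.QB15.isQCohD_push_restrict E hE hU G hG
    obtain ⟨M, ⟨eM⟩⟩ := ((s0997 (X.presheaf.obj (op (π ⁻¹ᵁ (V' : Y.Opens))))).2.2 _).1 hq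
    have r1 := (Groth.Agent.Helper7.QB15.s7234 (π ≫ q) E hE m).1 H
      ⟨π ⁻¹ᵁ (V' : Y.Opens), hU⟩ W (π.preimage_mono h) G ⟨hG⟩ M ⟨eM⟩
    exact (core V' W h G hG M eM G' hG' M' eM').1 r1
  · intro H'
    refine Groth.Agent.H4.RPC22.rel_of_local (fun x => ?_)
    obtain ⟨V', W, hV', hW, hxV', h⟩ := exists_affine_nhds_le_preimage q (π x)
    have hU := hV'.preimage π
    refine ⟨⟨π ⁻¹ᵁ V', hU⟩, ⟨W, hW⟩, hxV', ?_⟩
    let G := Q.objPreimage E
    let hG : Q.obj G ≅ E := Q.objObjPreimageIso E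
    have hq := Groth.Agent.Helper7.QB15.isQCohD_push_restrict E hE hU G hG
    obtain ⟨M, ⟨eM⟩⟩ := ((s0997 (X.presheaf.obj (op (π ⁻¹ᵁ V')))).2.2 _).1 hq
    let G' := Q.objPreimage ((DCoh.Rpush π).obj E)
    let hG' : Q.obj G' ≅ (DCoh.Rpush π).obj E := Q.objObjPreimageIso _
    have hq' := Groth.Agent.Helper7.QB15.isQCohD_push_restrict _ hE' hV' G' hG'
    obtain ⟨M', ⟨eM'⟩⟩ := ((s0997 (Y.presheaf.obj (op V'))).2.2 _).1 hq'
    have r2 := (Groth.Agent.Helper7.QB15.s7234 q _ hE' m).1 H' ⟨V', hV'⟩ ⟨W, hW⟩ h G' ⟨hG'⟩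
      M' ⟨eM'⟩
    have r1 := (core ⟨V', hV'⟩ ⟨W, hW⟩ h G hG M eM G' hG' M' eM').2 r2
    exact pch_of_ring (π ≫ q) E m ⟨π ⁻¹ᵁ V', hU⟩ ⟨W, hW⟩ (π.preimage_mono h) G hG M eM r1

end main


end Groth.Agent.Helper7.QB18
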