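import Mathlib
import Groth.Prelude
import Groth.Agent.H4.PMor4
import Groth.Agent.H4.RelTor9
import Groth.Agent.H4.PCS3
import Groth.Agent.H4.TilD11
import Groth.Agent.Lib.Helper7.QB5

/-! # Relative perfection, affine-locally (S7278) -/

set_option autoImplicit false
universe u
attribute [local instance] HasDerivedCategory.standard
open CategoryTheory CategoryTheory.Limits AlgebraicGeometry DerivedCategory Opposite TopologicalSpace
open Groth.Agent.H4.PC Groth.Agent.H4.RelPC Groth.Agent.H4.PCHom Groth.Agent.H4.PMor2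
open Groth.Agent.H4.TorAmp Groth.Agent.H4.RelTor7 Groth.Agent.H4.RelTor8 Groth.Agent.H4.RelTor9
open Groth.Agent.H4.LDS15 Groth.Agent.H4.PMor4
open Groth.Agent.H4.PSch1 Groth.Agent.H4.PSch2 Groth.Agent.LD.QC
open Groth.Agent.H4.TilD10 Groth.Agent.H4.TilD11 Groth.Agent.H4.PCS7
open Groth.Agent.Helper7.QB1 Groth.Agent.Helper7.QB2 Groth.Agent.Helper7.QB3
open DRing

namespace Groth.Agent.Helper7.QB19

local instance tildeInst (R : CommRingCat.{u}) : PreservesFiniteLimits (tilde.functor R) :=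
  Groth.Agent.H5.AG.tilde_preservesFiniteLimits R

section Bridge

variable {X S : Scheme.{u}} (f : X ⟶ S)

/-- **bridge** for a complex: stalkwise relative tor amplitude over an affine pair is tor amplitude
of the module complex of the chart. -/
theorem bridge' {U : X.Opens} {V : S.Opens} (hU : IsAffineOpen U) (hV : IsAffineOpen V)
    (hUV : U ≤ f ⁻¹ᵁ V) (F : CochainComplex X.Modules ℤ) (M : Dual.D Γ(X, U))
    (hF : Nonempty (DCoh.toD (Spec Γ(X, U)) ((pullCx hU.fromSpec).obj F) ≅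
      (DCoh.tildeD (CommRingCat.of Γ(X, U))).obj M)) (a b : ℤ) :
    (∀ x ∈ U, DerSch.HasTorAmplitudeAt f a b F x) ↔
      DRing.HasTorAmplitudeIn Γ(S, V) a b ((DRing.restrictD (f.appLE V U hUV).hom).obj M) := by
  have sq := IsAffineOpen.SpecMap_appLE_fromSpec f hV hU hUV
  have key := S7259 (f.appLE V U hUV).hom M ((pullCx hU.fromSpec).obj F) hF a b
  rw [← key]
  constructor
  · intro h y
    have hy : hU.fromSpec.base y ∈ U := by
      have : hU.fromSpec.base y ∈ hU.fromSpec.opensRange := ⟨y, rfl⟩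
      rwa [hU.opensRange_fromSpec] at this
    have h1 := (hasTorAmplitudeAt_comp_pull_iff f hU.fromSpec F a b y).2 (h _ hy)
    rw [← sq] at h1
    exact hasTorAmplitudeAt_of_comp (Spec.map (f.appLE V U hUV)) hV.fromSpec _ a b y
      ((ConcreteCategory.isIso_iff_bijective _).1 inferInstance) h1
  · intro h x hx
    have hxr : x ∈ hU.fromSpec.opensRange := by
      rw [hU.opensRange_fromSpec]; exact hx
    obtain ⟨y, rfl⟩ := hxr
    have h1 := Groth.Agent.H4.RelTor1.main (Spec.map (f.appLE V U hUV)) hV.fromSpec 0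
      (hasTorDimLE_zero_of_flat hV.fromSpec) _ a b h
    rw [sq] at h1
    have h2 := h1 y
    simp only [Nat.cast_zero, sub_zero] at h2
    exact (hasTorAmplitudeAt_comp_pull_iff f hU.fromSpec F a b y).1 h2

end Bridge

section Chart

variable {X : Scheme.{u}} {U : X.Opens} (hU : IsAffineOpen U)

/-- the pulled back complex on the chart `Spec Γ(X, U)` vs the iterated derived restriction. -/
noncomputable def pullChartIso (E : DCoh.D X) (F : CochainComplex X.Modules ℤ)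
    (e : DCoh.toD X F ≅ E) :
    DCoh.toD (Spec Γ(X, U)) ((pullCx hU.fromSpec).obj F) ≅
      (DCoh.restrictD hU.isoSpec.inv).obj ((DCoh.restrictD U.ι).obj E) :=
  Q.mapIso ((NatIso.mapHomologicalComplex
      (Scheme.Modules.restrictFunctorIsoPullback hU.fromSpec) (ComplexShape.up ℤ)).app F).symm ≪≫
    (RDfac hU.fromSpec F).symm ≪≫ (RD hU.fromSpec).mapIso e ≪≫
    (Groth.Agent.H4.PCS3.RDcomp hU.isoSpec.inv U.ι).app E

lemma isPC'_of_chart (E : DCoh.D X) (hpc : ∀ m : ℤ, DCoh.IsPseudoCoherentD m E)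
    (M : Dual.D Γ(X, U))
    (i : (DCoh.restrictD hU.isoSpec.inv).obj ((DCoh.restrictD U.ι).obj E) ≅
      (DCoh.tildeD (CommRingCat.of Γ(X, U))).obj M) :
    DRing.IsPseudoCoherent' Γ(X, U) M := by
  refine isPC'_of_forall_isPC _ (fun m => ?_)
  refine (S1004 Γ(X, U) M m).1 ?_
  have h1 := Groth.Agent.H4.RPC7.isPseudoCoherentD_RD hU.fromSpec E (hpc m)
  exact isPseudoCoherentD_of_iso ((Groth.Agent.H4.PCS3.RDcomp hU.isoSpec.inv U.ι).app E ≪≫ i) h1

lemma pcAt_of_chart (E : DCoh.D X) (M : Dual.D Γ(X, U))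
    (i : (DCoh.restrictD hU.isoSpec.inv).obj ((DCoh.restrictD U.ι).obj E) ≅
      (DCoh.tildeD (CommRingCat.of Γ(X, U))).obj M)
    (hM : DRing.IsPseudoCoherent' Γ(X, U) M) (m : ℤ) (y : Spec Γ(X, U)) :
    PCAt m E (hU.fromSpec y) := by
  have h3 : DCoh.IsPseudoCoherentD m ((DCoh.tildeD (CommRingCat.of Γ(X, U))).obj M) :=
    (S1004 Γ(X, U) M m).2 (isPC_of_isPC' M hM m)
  have h2 : DCoh.IsPseudoCoherentD m ((RD hU.fromSpec).obj E) :=
    isPseudoCoherentD_of_iso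
      ((Groth.Agent.H4.PCS3.RDcomp hU.isoSpec.inv U.ι).app E ≪≫ i).symm h3
  exact PCAt.of_restrict hU.fromSpec E y ((isPseudoCoherentD_iff_pcAt m _).1 h2 y)

end Chart

section main

variable {X S : Scheme.{u}} (f : X ⟶ S) [Flat f]

theorem fwd (E : DCoh.D X)
    (hpc : ∀ m : ℤ, DCoh.IsPseudoCoherentD m E) (hloc : DCoh.LocHasFiniteRelTorDim f E)
    (U : X.Opens) (hU : IsAffineOpen U) (V : S.Opens) (hV : IsAffineOpen V) (hUV : U ≤ f ⁻¹ᵁ V)
    (M : DerivedCategory (ModuleCat.{u} Γ(X, U)))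
    (i : (DCoh.restrictD hU.isoSpec.inv).obj ((DCoh.restrictD U.ι).obj E) ≅
      (DCoh.tildeD Γ(X, U)).obj M) :
    @Dual2.IsRelPerfect Γ(S, V) Γ(X, U) _ _ (f.appLE V U hUV).hom.toAlgebra M := by
  let F := Q.objPreimage E
  let e : Q.obj F ≅ E := Q.objObjPreimageIso E
  refine ⟨isPC'_of_chart hU E hpc M i, ?_⟩
  have hst := (locHasFiniteRelTorDim_iff f E).1 hloc
  choose W a b hxW hW using hst
  obtain ⟨t, ht⟩ := hU.isCompact.elim_finite_subcover (fun x : X => ((W x : X.Opens) : Set X))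
    (fun x => (W x).2) (fun x _ => Set.mem_iUnion.2 ⟨x, hxW x⟩)
  let A : ℕ := t.sup (fun y => max (a y).natAbs (b y).natAbs)
  have hA : ∀ y ∈ t, -(A : ℤ) ≤ a y ∧ b y ≤ (A : ℤ) := by
    intro y hy
    have h1 : max (a y).natAbs (b y).natAbs ≤ A :=
      Finset.le_sup (f := fun y => max (a y).natAbs (b y).natAbs) hy
    have h2 : (a y).natAbs ≤ A := (le_max_left _ _).trans h1
    have h3 : (b y).natAbs ≤ A := (le_max_right _ _).trans h1
    constructor <;> omega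
  have hall : ∀ x ∈ U, DerSch.HasTorAmplitudeAt f (-(A : ℤ)) A F x := by
    intro x hx
    obtain ⟨y, hy, hxy⟩ := Set.mem_iUnion₂.1 (ht hx)
    rw [hasTorAmplitudeAt_iff_relStalkD]
    exact hasTorAmp_of_iso ((relStalkD f x).mapIso e.symm)
      (hasTorAmp_mono (hA y hy).1 (hA y hy).2 (hW y x hxy))
  have hb := (bridge' f hU hV hUV F M ⟨pullChartIso hU E F e ≪≫ i⟩ (-(A : ℤ)) A).1 hall
  exact ⟨-(A : ℤ), A, hb⟩

theorem bwd (E : DCoh.D X) (hE : DCoh.IsQCohD E)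
    (ι : Type u) (V : ι → S.Opens) (hV : ∀ i, IsAffineOpen (V i)) (hVcov : ⨆ i, V i = ⊤)
    (κ : ι → Type u) (U : ∀ i, κ i → X.Opens) (hU : ∀ i j, IsAffineOpen (U i j))
    (hUV : ∀ i j, U i j ≤ f ⁻¹ᵁ V i) (hUcov : ∀ i, ⨆ j, U i j = f ⁻¹ᵁ V i)
    (H : ∀ (i : ι) (j : κ i) (M : DerivedCategory (ModuleCat.{u} Γ(X, U i j))),
      Nonempty ((DCoh.restrictD (hU i j).isoSpec.inv).obj ((DCoh.restrictD (U i j).ι).obj E) ≅
          (DCoh.tildeD Γ(X, U i j)).obj M) →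
        @Dual2.IsRelPerfect Γ(S, V i) Γ(X, U i j) _ _
          (f.appLE (V i) (U i j) (hUV i j)).hom.toAlgebra M) :
    (∀ m : ℤ, DCoh.IsPseudoCoherentD m E) ∧ DCoh.LocHasFiniteRelTorDim f E := by
  let F := Q.objPreimage E
  let e : Q.obj F ≅ E := Q.objObjPreimageIso E
  -- every point lies in some chart
  have hpt : ∀ x : X, ∃ (i : ι) (j : κ i), x ∈ U i j := by
    intro x
    have h1 : f x ∈ (⨆ i, V i) := by rw [hVcov]; trivial
    obtain ⟨i, hi⟩ := Opens.mem_iSup.1 h1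
    have h2 : x ∈ (⨆ j, U i j) := by rw [hUcov i]; exact hi
    obtain ⟨j, hj⟩ := Opens.mem_iSup.1 h2
    exact ⟨i, j, hj⟩
  -- the module complexes
  have hM : ∀ (i : ι) (j : κ i), ∃ M : DerivedCategory (ModuleCat.{u} Γ(X, U i j)),
      Nonempty ((DCoh.restrictD (hU i j).isoSpec.inv).obj
        ((DCoh.restrictD (U i j).ι).obj E) ≅ (DCoh.tildeD Γ(X, U i j)).obj M) := by
    intro i j
    have hq := isQCohD_RD (hU i j).isoSpec.inv _ (isQCohD_RD (U i j).ι E hE)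
    obtain ⟨M, ⟨eM⟩⟩ := ((s0997 (CommRingCat.of Γ(X, U i j))).2.2 _).1 hq
    exact ⟨M, ⟨eM.symm⟩⟩
  choose M iM using hM
  have hP := fun i j => H i j (M i j) (iM i j)
  constructor
  · intro m
    rw [isPseudoCoherentD_iff_pcAt]
    intro x
    obtain ⟨i, j, hx⟩ := hpt x
    have hxr : x ∈ Set.range (hU i j).fromSpec := by
      rw [(hU i j).range_fromSpec]; exact hx
    obtain ⟨y, rfl⟩ := hxr
    obtain ⟨i0⟩ := iM i j
    exact pcAt_of_chart (hU i j) E (M i j) i0 (hP i j).1 m y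
  · rw [locHasFiniteRelTorDim_iff]
    intro x
    obtain ⟨i, j, hx⟩ := hpt x
    obtain ⟨i0⟩ := iM i j
    obtain ⟨a, b, hab⟩ := (hP i j).2
    refine ⟨U i j, a, b, hx, fun v hv => ?_⟩
    have h1 := (bridge' f (hU i j) (hV i) (hUV i j) F (M i j)
      ⟨pullChartIso (hU i j) E F e ≪≫ i0⟩ a b).2 hab v hv
    rw [hasTorAmplitudeAt_iff_relStalkD] at h1
    exact hasTorAmp_of_iso ((relStalkD f v).mapIso e) h1

theorem s7278 {X S : Scheme.{u}} (f : X ⟶ S) [Flat f]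
    (E : DCoh.D X) (hE : DCoh.IsQCohD E) :
    (((∀ m : ℤ, DCoh.IsPseudoCoherentD m E) ∧ DCoh.LocHasFiniteRelTorDim f E) ↔
      ∀ (U : X.Opens) (hU : IsAffineOpen U) (V : S.Opens) (hV : IsAffineOpen V) (hUV : U ≤ f ⁻¹ᵁ V)
        (M : DerivedCategory (ModuleCat.{u} Γ(X, U))),
        Nonempty ((DCoh.restrictD hU.isoSpec.inv).obj ((DCoh.restrictD U.ι).obj E) ≅ (DCoh.tildeD Γ(X, U)).obj M) →
          @Dual2.IsRelPerfect Γ(S, V) Γ(X, U) _ _ (f.appLE V U hUV).hom.toAlgebra M) ∧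
    (∀ (ι : Type u) (V : ι → S.Opens) (hV : ∀ i, IsAffineOpen (V i)) (hVcov : ⨆ i, V i = ⊤)
        (κ : ι → Type u) (U : ∀ i, κ i → X.Opens) (hU : ∀ i j, IsAffineOpen (U i j))
        (hUV : ∀ i j, U i j ≤ f ⁻¹ᵁ V i) (hUcov : ∀ i, ⨆ j, U i j = f ⁻¹ᵁ V i),
        (∀ (i : ι) (j : κ i) (M : DerivedCategory (ModuleCat.{u} Γ(X, U i j))),
          Nonempty ((DCoh.restrictD (hU i j).isoSpec.inv).obj ((DCoh.restrictD (U i j).ι).obj E) ≅
              (DCoh.tildeD Γ(X, U i j)).obj M) →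
            @Dual2.IsRelPerfect Γ(S, V i) Γ(X, U i j) _ _ (f.appLE (V i) (U i j) (hUV i j)).hom.toAlgebra M) →
        (∀ m : ℤ, DCoh.IsPseudoCoherentD m E) ∧ DCoh.LocHasFiniteRelTorDim f E) := by
  refine ⟨⟨fun h U hU V hV hUV M ⟨i⟩ => fwd f E h.1 h.2 U hU V hV hUV M i, fun H => ?_⟩,
    fun ι V hV hVcov κ U hU hUV hUcov H => bwd f E hE ι V hV hVcov κ U hU hUV hUcov H⟩
  refine bwd f E hE S.affineOpens (fun V => V.1) (fun V => V.2) ?_
    (fun V => {U : X.affineOpens // U.1 ≤ f ⁻¹ᵁ V.1}) (fun V U => U.1.1) (fun V U => U.1.2)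
    (fun V U => U.2) (fun V => ?_) (fun V U M hM => H U.1.1 U.1.2 V.1 V.2 U.2 M hM)
  · rw [eq_top_iff]
    intro s _
    obtain ⟨V, hV, hsV, -⟩ :=
      exists_isAffineOpen_mem_and_subset (x := s) (U := (⊤ : S.Opens)) trivial
    exact Opens.mem_iSup.2 ⟨⟨V, hV⟩, hsV⟩
  · apply le_antisymm
    · exact iSup_le (fun U => U.2)
    · intro x hx
      obtain ⟨U, hU, hxU, hUV⟩ :=
        exists_isAffineOpen_mem_and_subset (x := x) (U := f ⁻¹ᵁ V.1) hx
      exact Opens.mem_iSup.2 ⟨⟨⟨U, hU⟩, hUV⟩, hxU⟩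

end main

end Groth.Agent.Helper7.QB19
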