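import Mathlib
import Groth.Prelude
import Groth.Agent.H4.RelTor8
import Groth.Agent.H4.US21
import Groth.Agent.H4.FB5
import Groth.Agent.Lib.Helper7.QB11
import Groth.Agent.Lib.Helper7.QB19
import Groth.Agent.Lib.Helper6.RpRes1
import Groth.Agent.H4.RPC25
import Groth.Agent.Lib.Helper7.DRec1

/-! # Dualizing stalks + finite injective dimension ⇒ dualizing (S7882) -/

set_option autoImplicit false
universe u
attribute [local instance] HasDerivedCategory.standard
open CategoryTheory CategoryTheory.Limits AlgebraicGeometry DerivedCategory Opposite TopologicalSpace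
open Groth.Agent.H4.TorAmp Groth.Agent.H4.RelTor2 Groth.Agent.H4.RelTor4 Groth.Agent.H4.RelTor7
  Groth.Agent.H4.RelTor8 Groth.Agent.H4.RelTor9
open Groth.Agent.H4.LDS15 Groth.Agent.H4.LDS21 Groth.Agent.H4.SPt6
open Groth.Agent.H4.PSch1 Groth.Agent.H4.PSch2 Groth.Agent.LD.QC
open Groth.Agent.Helper7.QB1 Groth.Agent.Helper7.QB2 Groth.Agent.Helper7.QB3
open DRing Groth.Agent.H4.DCompl1 Groth.Agent.H4.DZ5 Groth.Agent.H4.FB1
  Groth.Agent.H4.FB2 Groth.Agent.H4.FB3 Groth.Agent.H4.FB4 Groth.Agent.H4.FB5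
  Groth.Agent.H4.InjAmp Groth.Agent.H4.DZ3

namespace Groth.Agent.Helper7.QB20

local instance tildeInst (R : CommRingCat.{u}) : PreservesFiniteLimits (tilde.functor R) :=
  Groth.Agent.H5.AG.tilde_preservesFiniteLimits R

section ring

variable {A : Type u} [CommRing A] [IsNoetherianRing A]

/-- the ring-level assembly: bounded injective dimension, finite cohomology and dualizing
localizations at the stalks of `Spec A`. -/
theorem isDualizing_of_stalks (ω : Dual.D A) (a b : ℤ)
    (hfin : ∀ i : ℤ, Module.Finite A (Dual.HD A ω i))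
    (hinj : ∀ (M : Type u) [AddCommGroup M] [Module A M] (i : ℤ),
      (i < a ∨ b < i) → Subsingleton (Dual.inD A M ⟶ ω⟦i⟧))
    (hloc : ∀ p : PrimeSpectrum A,
      letI := (ψ (CommRingCat.of A) p).toAlgebra
      haveI : Module.Flat A ((Spec (CommRingCat.of A)).presheaf.stalk p) :=
        haveI := isLocalization_ψ (CommRingCat.of A) p
        IsLocalization.flat _ p.asIdeal.primeCompl
      Dual.IsDualizing ((Spec (CommRingCat.of A)).presheaf.stalk p)
        ((E A ((Spec (CommRingCat.of A)).presheaf.stalk p)).obj ω)) :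
    Dual.IsDualizing A ω := by
  letI : ∀ p : PrimeSpectrum A, Algebra A ((Spec (CommRingCat.of A)).presheaf.stalk p) :=
    fun p => (ψ (CommRingCat.of A) p).toAlgebra
  haveI hl : ∀ p : PrimeSpectrum A, IsLocalization.AtPrime
      ((Spec (CommRingCat.of A)).presheaf.stalk p) p.asIdeal :=
    fun p => isLocalization_ψ (CommRingCat.of A) p
  haveI : ∀ p : PrimeSpectrum A, Module.Flat A ((Spec (CommRingCat.of A)).presheaf.stalk p) :=
    fun p => IsLocalization.flat _ p.asIdeal.primeCompl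
  have hcov : Covers (A := A)
      (fun p : PrimeSpectrum A => (Spec (CommRingCat.of A)).presheaf.stalk p) := by
    intro m hm
    refine ⟨⟨m, hm.isPrime⟩, ?_⟩
    haveI := hl ⟨m, hm.isPrime⟩
    rw [IsLocalization.AtPrime.map_eq_maximalIdeal m]
    exact (IsLocalRing.maximalIdeal.isMaximal _).ne_top
  have hb : ∀ i : ℤ, (i < a ∨ b < i) → Subsingleton (Dual.HD A ω i) := by
    intro i hi
    have h1 := hinj A i hi
    have h2 := (subsingleton_sgl_iff (ModuleCat.of A A) i ω).2 h1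
    exact ModuleCat.subsingleton_of_isZero
      (isZero_homology_of_hom_sgl ω i (ModuleCat.of A A) (LinearEquiv.refl A A) h2)
  obtain ⟨hge, hle⟩ := isGE_isLE_of_bdd ω a b hb
  haveI := hge
  haveI := hle
  exact isDualizing_of_covers hcov ω a b hfin ⟨a, b, hinj⟩ hloc

end ring

section kinj

variable {C : Type*} [Category C] [Abelian C] [HasDerivedCategory C]

/-- morphisms in the derived category into a K-injective complex vanish when the source and target
have disjoint supports. -/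
lemma hom_eq_zero_of_isKInjective (L J : CochainComplex C ℤ) [J.IsKInjective]
    (h : ∀ n, IsZero (L.X n) ∨ IsZero (J.X n)) (φ : Q.obj L ⟶ Q.obj J) : φ = 0 := by
  obtain ⟨g, hg⟩ := (CochainComplex.IsKInjective.Qh_map_bijective
    ((HomotopyCategory.quotient _ _).obj L) J).surjective
    ((quotientCompQhIso C).hom.app L ≫ φ ≫ (quotientCompQhIso C).inv.app J)
  obtain ⟨μ, rfl⟩ := (HomotopyCategory.quotient _ _).map_surjective g
  have hμ : μ = 0 := by
    apply HomologicalComplex.hom_ext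
    intro n
    rcases h n with h | h
    · exact h.eq_of_src _ _
    · exact h.eq_of_tgt _ _
  have h1 := quotientCompQhIso_hom_naturality μ
  rw [hg, Category.assoc, Category.assoc, Iso.inv_hom_id_app, Category.comp_id] at h1
  have h2 : φ = Q.map μ := (cancel_epi _).1 h1
  rw [h2, hμ, Functor.map_zero]

end kinj

section chart

variable {X : Scheme.{u}} {U : X.Opens} (hU : IsAffineOpen U)

/-- finite injective dimension of the module complex of a chart of a bounded complex of
injectives. -/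
lemma subsingleton_hom_of_chart (I : CochainComplex X.Modules ℤ) (hIinj : ∀ i : ℤ, Injective (I.X i))
    (a b : ℤ) (hI : ∀ i : ℤ, (i < a ∨ b < i) → IsZero (I.X i))
    (ω : Dual.D Γ(X, U))
    (eω : (DCoh.tildeD (CommRingCat.of Γ(X, U))).obj ω ≅ (RD hU.fromSpec).obj (DCoh.toD X I))
    (M : Type u) [AddCommGroup M] [Module Γ(X, U) M] (i : ℤ) (hi : i < a ∨ b < i) :
    Subsingleton (Dual.inD Γ(X, U) M ⟶ ω⟦i⟧) := by
  rw [← subsingleton_sgl_iff (ModuleCat.of Γ(X, U) M) i ω]
  haveI := (s0997 (CommRingCat.of Γ(X, U))).2.1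
  haveI : I.IsStrictlyGE a := by
    rw [CochainComplex.isStrictlyGE_iff]
    intro n hn
    exact hI n (Or.inl hn)
  haveI : I.IsKInjective := CochainComplex.isKInjective_of_injective I a
  haveI := Groth.Agent.H6.RpRes.isKInjective_restrict hU.fromSpec I
  let L := (tildeCx Γ(X, U)).obj (Groth.Agent.H4.ProjAmp.sgl (ModuleCat.of Γ(X, U) M) i)
  let J := (resCx hU.fromSpec).obj I
  have hLJ : ∀ n, IsZero (L.X n) ∨ IsZero (J.X n) := by
    intro n
    by_cases hn : n = i
    · right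
      subst hn
      exact (Scheme.Modules.restrictFunctor hU.fromSpec).map_isZero (hI n hi)
    · left
      exact (tilde.functor (CommRingCat.of Γ(X, U))).map_isZero
        (HomologicalComplex.isZero_single_obj_X _ _ _ _ hn)
  let α : (DCoh.tildeD (CommRingCat.of Γ(X, U))).obj
      (Q.obj (Groth.Agent.H4.ProjAmp.sgl (ModuleCat.of Γ(X, U) M) i)) ≅ Q.obj L :=
    tildeDIso Γ(X, U) _
  let β : (DCoh.tildeD (CommRingCat.of Γ(X, U))).obj ω ≅ Q.obj J := eω ≪≫ RDfac hU.fromSpec I
  have key : ∀ φ : (DCoh.tildeD (CommRingCat.of Γ(X, U))).obj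
      (Q.obj (Groth.Agent.H4.ProjAmp.sgl (ModuleCat.of Γ(X, U) M) i)) ⟶
      (DCoh.tildeD (CommRingCat.of Γ(X, U))).obj ω, φ = 0 := by
    intro φ
    have h0 := hom_eq_zero_of_isKInjective L J hLJ (α.inv ≫ φ ≫ β.hom)
    have h1 : φ = α.hom ≫ (α.inv ≫ φ ≫ β.hom) ≫ β.inv := by simp
    rw [h1, h0, zero_comp, comp_zero]
  refine ⟨fun f g => ?_⟩
  apply (DCoh.tildeD (CommRingCat.of Γ(X, U))).map_injective
  rw [key ((DCoh.tildeD (CommRingCat.of Γ(X, U))).map f),
    key ((DCoh.tildeD (CommRingCat.of Γ(X, U))).map g)]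

/-- finiteness of the cohomology of the module complex of a chart. -/
lemma finite_HD_of_chart (K : DCoh.D X) (n : ℤ) (hcoh : Coh.IsCoh (DCoh.HD K n))
    (ω : Dual.D Γ(X, U))
    (eω : (DCoh.tildeD (CommRingCat.of Γ(X, U))).obj ω ≅ (RD hU.fromSpec).obj K) :
    Module.Finite Γ(X, U) (Dual.HD Γ(X, U) ω n) := by
  have e1 := Groth.Agent.H7.DRec.homologyMapDerivedIso
    (Scheme.Modules.restrictFunctor hU.fromSpec) K n
  have e2 := Groth.Agent.H7.DRec.homologyMapDerivedIso
    (tilde.functor (CommRingCat.of Γ(X, U))) ω n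
  have e3 := (DerivedCategory.homologyFunctor (Spec (CommRingCat.of Γ(X, U))).Modules n).mapIso eω
  -- tilde (H^n ω) ≅ (H^n K)|_U
  have e4 : (tilde.functor (CommRingCat.of Γ(X, U))).obj
      ((DerivedCategory.homologyFunctor (ModuleCat.{u} Γ(X, U)) n).obj ω) ≅
      (DCoh.HD K n).restrict hU.fromSpec := e2.symm ≪≫ e3 ≪≫ e1
  have e5 : (DerivedCategory.homologyFunctor (ModuleCat.{u} Γ(X, U)) n).obj ω ≅
      ModuleCat.of Γ(X, U) Γ(DCoh.HD K n, U) :=
    (tilde.toTildeΓNatIso (R := CommRingCat.of Γ(X, U))).app _ ≪≫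
      (moduleSpecΓFunctor (R := CommRingCat.of Γ(X, U))).mapIso e4 ≪≫
      Groth.Agent.H4.RPC25.ΓfromSpecIso (DCoh.HD K n) hU
  haveI : (DCoh.HD K n).IsQuasicoherent := hcoh.1
  haveI : Module.Finite Γ(X, U) Γ(DCoh.HD K n, U) :=
    finite_sections_of_isFiniteType (DCoh.HD K n) hcoh.2 hU
  exact Module.Finite.equiv e5.toLinearEquiv.symm

end chart

section loc

variable {X : Scheme.{u}} [IsLocallyNoetherian X] {U : X.Opens} (hU : IsAffineOpen U)

/-- the localization of the module complex of a chart at a point is the complex of stalks. -/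
lemma isDualizing_loc_of_chart (I : CochainComplex X.Modules ℤ) (ω : Dual.D Γ(X, U))
    (eω : (DCoh.tildeD (CommRingCat.of Γ(X, U))).obj ω ≅ (RD hU.fromSpec).obj (DCoh.toD X I))
    (p : PrimeSpectrum Γ(X, U))
    (hst : Dual.IsDualizing (X.presheaf.stalk (hU.fromSpec p))
      (DRing.toD ((stalkCx (hU.fromSpec p)).obj I))) :
    letI := (ψ (CommRingCat.of Γ(X, U)) p).toAlgebra
    haveI : Module.Flat Γ(X, U) ((Spec (CommRingCat.of Γ(X, U))).presheaf.stalk p) :=
      haveI := isLocalization_ψ (CommRingCat.of Γ(X, U)) p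
      IsLocalization.flat _ p.asIdeal.primeCompl
    Dual.IsDualizing ((Spec (CommRingCat.of Γ(X, U))).presheaf.stalk p)
      ((E Γ(X, U) ((Spec (CommRingCat.of Γ(X, U))).presheaf.stalk p)).obj ω) := by
  let j := hU.fromSpec
  let B := X.presheaf.stalk (j p)
  let C := (Spec (CommRingCat.of Γ(X, U))).presheaf.stalk p
  let τ : B →+* C := (j.stalkMap p).hom
  letI algBC : Algebra B C := τ.toAlgebra
  letI algAC : Algebra Γ(X, U) C := (ψ (CommRingCat.of Γ(X, U)) p).toAlgebra
  haveI : IsLocalization.AtPrime C p.asIdeal := isLocalization_ψ (CommRingCat.of Γ(X, U)) p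
  haveI flAC : Module.Flat Γ(X, U) C := IsLocalization.flat C p.asIdeal.primeCompl
  have hbij : Function.Bijective (algebraMap B C) :=
    (ConcreteCategory.isIso_iff_bijective (j.stalkMap p)).1 inferInstance
  haveI flBC : Module.Flat B C := Groth.Agent.H4.US21.flat_of_bijective hbij
  haveI : IsNoetherianRing B := inferInstance
  haveI : IsNoetherianRing C := Groth.Agent.H4.US21.isNoetherianRing_of_bijective hbij
  have h2 := Groth.Agent.H4.US21.isDualizing_E_of_bijective hbij _ hst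
  let Kω := Q.objPreimage ω
  let eK : Q.obj Kω ≅ ω := Q.objObjPreimageIso ω
  let e' : DCoh.toD _ ((pullCx j).obj I) ≅ DCoh.toD _ ((tildeCx Γ(X, U)).obj Kω) :=
    Q.mapIso ((NatIso.mapHomologicalComplex
      (Scheme.Modules.restrictFunctorIsoPullback j) (ComplexShape.up ℤ)).app I).symm ≪≫
    (RDfac j I).symm ≪≫ eω.symm ≪≫
    (DCoh.tildeD (CommRingCat.of Γ(X, U))).mapIso eK.symm ≪≫ tildeDIso Γ(X, U) Kω
  let i1 : (E B C).obj (Q.obj ((stalkCx (j p)).obj I)) ≅
      Q.obj ((extC B C).obj ((stalkCx (j p)).obj I)) :=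
    (ModuleCat.extendScalars.{u, u, u} (algebraMap B C)).mapDerivedCategoryFactors.app _
  let i2 : Q.obj ((extC B C).obj ((stalkCx (j p)).obj I)) ≅
      Q.obj ((stalkCx p).obj ((pullCx j).obj I)) := Q.mapIso (stalkPullCxIso j p I).symm
  let i3 := stalkIsoOfIso p e'
  let i4 := Q.mapIso (tildeStalkCxIso (CommRingCat.of Γ(X, U)) p Kω)
  let i5 : Q.obj ((extC Γ(X, U) C).obj Kω) ≅ (E Γ(X, U) C).obj (Q.obj Kω) :=
    ((ModuleCat.extendScalars.{u, u, u}
      (algebraMap Γ(X, U) C)).mapDerivedCategoryFactors.app Kω).symm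
  let i6 := (E Γ(X, U) C).mapIso eK
  exact isDualizing_of_iso (i1 ≪≫ i2 ≪≫ i3 ≪≫ i4 ≪≫ i5 ≪≫ i6) h2

end loc

section main

theorem s7882 (X : Scheme.{u}) [IsNoetherian X]
    [∀ (U : Scheme.{u}) (j : U ⟶ X) [IsOpenImmersion j],
      PreservesFiniteLimits (Scheme.Modules.restrictFunctor j)]
    [∀ (R : CommRingCat.{u}), PreservesFiniteLimits (tilde.functor R)]
    (I : CochainComplex X.Modules ℤ) (hIinj : ∀ i : ℤ, Injective (I.X i))
    (hIbdd : ∃ a b : ℤ, ∀ i : ℤ, (i < a ∨ b < i) → IsZero (I.X i))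
    (hcoh : ∀ i : ℤ, Coh.IsCoh (DCoh.HD (DCoh.toD X I) i))
    (hst : ∀ x : X, Dual.IsDualizing (X.presheaf.stalk ((𝟙 X : X ⟶ X).base x))
      (DRing.toD ((DerSch.stalkCxOver (𝟙 X) x).obj I))) :
    Dual2.IsDualizingSch X (DCoh.toD X I) := by
  obtain ⟨a, b, hI⟩ := hIbdd
  have hKq : DCoh.IsQCohD (DCoh.toD X I) := fun i => (hcoh i).1
  have hst' : ∀ x : X, Dual.IsDualizing (X.presheaf.stalk x) (DRing.toD ((stalkCx x).obj I)) :=
    fun x => isDualizing_of_iso (Q.mapIso (stalkCxOverIdIso x I)) (hst x)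
  have key : ∀ V : X.affineOpens, ∃ ω : Dual.D Γ(X, (V : X.Opens)),
      Dual.IsDualizing Γ(X, (V : X.Opens)) ω ∧
      Nonempty ((DCoh.restrictD V.2.fromSpec).obj (DCoh.toD X I) ≅
        (DCoh.tildeD (CommRingCat.of Γ(X, (V : X.Opens)))).obj ω) := by
    intro V
    haveI : IsNoetherianRing Γ(X, (V : X.Opens)) := IsLocallyNoetherian.component_noetherian V
    obtain ⟨ω, ⟨eω⟩⟩ := ((s0997 (CommRingCat.of Γ(X, (V : X.Opens)))).2.2 _).1
      (isQCohD_RD V.2.fromSpec (DCoh.toD X I) hKq)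
    refine ⟨ω, ?_, ⟨eω.symm⟩⟩
    refine isDualizing_of_stalks ω a b (fun n => finite_HD_of_chart V.2 _ n (hcoh n) ω eω)
      (fun M _ _ i hi => subsingleton_hom_of_chart V.2 I hIinj a b hI ω eω M i hi)
      (fun p => isDualizing_loc_of_chart V.2 I ω eω p (hst' _))
  exact Groth.Agent.Helper7.QB11.s3662 (DCoh.toD X I) X.affineOpens
    (fun V => Γ(X, (V : X.Opens))) (fun V => V.2.fromSpec)
    (fun x => by
      obtain ⟨V, hV, hxV, -⟩ :=
        exists_isAffineOpen_mem_and_subset (x := x) (U := (⊤ : X.Opens)) trivial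
      exact ⟨⟨V, hV⟩, by rw [hV.range_fromSpec]; exact hxV⟩)
    key

end main

end Groth.Agent.Helper7.QB20
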