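import Mathlib
import Groth.Prelude
import Groth.Agent.H4.RelPerfOpen1
import Groth.Agent.H4.RelTor9
import Groth.Agent.H4.PCS3
import Groth.Agent.H4.PSch5
import Groth.Agent.Lib.Lead.QC.Pullback
import Groth.Agent.Lib.Lead.QC.LocFree

/-! # Relatively perfect ⇔ locally a bounded complex of f.p. S-flat modules (S7275) -/

set_option autoImplicit false
universe u
attribute [local instance] HasDerivedCategory.standard
open CategoryTheory CategoryTheory.Limits AlgebraicGeometry DerivedCategory Opposite TopologicalSpace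
open Groth.Agent.LD.QC
open Groth.Agent.H4.PSch1 Groth.Agent.H4.PSch2 Groth.Agent.H4.PSch3 Groth.Agent.H4.PSch4
open Groth.Agent.H4.PSch5 Groth.Agent.H4.PSch6 Groth.Agent.H4.TilD9 Groth.Agent.H4.TilD10
open Groth.Agent.H4.TilD11 Groth.Agent.H4.PCS6 Groth.Agent.H4.PCS7 Groth.Agent.H4.FAmp1
  Groth.Agent.H4.FAmp2 Groth.Agent.H4.FAmp3 Groth.Agent.H4.FAmp4 Groth.Agent.H4.FAmp5
open Groth.Agent.H4.RPC17 Groth.Agent.H4.RPC18 Groth.Agent.H4.RPC19 Groth.Agent.H4.RPC23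
  Groth.Agent.H4.RPC27 Groth.Agent.H4.RPC3 Groth.Agent.H4.NT7 Groth.Agent.H4.NT8
open Groth.Agent.H4.PGen1 Groth.Agent.H4.PGen2
open Groth.Agent.H4.SPt6 Groth.Agent.H4.RelTor2 Groth.Agent.H4.RelTor5 Groth.Agent.H4.RelTor7
  Groth.Agent.H4.RelTor9 Groth.Agent.H4.RT6 Groth.Agent.H4.TorAmp Groth.Agent.H4.TA2
open Groth.Agent.H4.RelPerfOpen1 Groth.Agent.H4.PCS3

namespace Groth.Agent.Helper7.QB21

section Aux

variable {X Y : Scheme.{u}}

/-- restriction along an open immersion preserves finite presentation -/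
lemma isFP_restrict {U : Scheme.{u}} (j : U ⟶ X) [IsOpenImmersion j] (M : X.Modules)
    (hM : M.IsFinitePresentation) :
    ((Scheme.Modules.restrictFunctor j).obj M).IsFinitePresentation :=
  isFinitePresentation_of_iso ((Scheme.Modules.restrictFunctorIsoPullback j).app M).symm
    (isFinitePresentation_pullback j M hM)

/-- derived restriction only depends on the morphism -/
lemma RDcongr {U : Scheme.{u}} (i i' : U ⟶ X) [IsOpenImmersion i] [IsOpenImmersion i']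
    (h : i = i') (K : DCoh.D X) : Nonempty ((RD i).obj K ≅ (RD i').obj K) := by
  subst h
  exact ⟨Iso.refl _⟩

/-- the construction in helper4's `RelPerfOpen1.core`, keeping the complex -/
theorem core' {A : Scheme.{u}} (g : A ⟶ Y) [Flat g] [LocallyOfFinitePresentation g]
    (G : CochainComplex A.Modules ℤ) (a b : ℤ) (z : A)
    (hpc : PCAt (a - 1) (Q.obj G) z) [G.IsGE a]
    (htor : DerSch.HasTorAmplitudeAt g a b G z) :
    ∃ (W : Scheme.{u}) (k : W ⟶ A) (_ : IsOpenImmersion k) (G' : CochainComplex W.Modules ℤ)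
      (c : ℤ), z ∈ Set.range k ∧ DCoh.VanishesOutside G' a c ∧
      (∀ i, (G'.X i).IsFinitePresentation ∧ FlatMod.IsFlatOver (k ≫ g) (G'.X i)) ∧
      Nonempty (Q.obj ((resCx k).obj G) ≅ Q.obj G') := by
  obtain ⟨W₀, j, hj, ⟨z₀, rfl⟩, P, γ, a', b', hP, hfree, hγ⟩ :=
    exists_locFreeWit_of_pcAt (a - 1) G z hpc
  have hPf : ∀ n, FlatMod.IsFinLocFree (P.X n) := fun n => by
    obtain ⟨k, ⟨e⟩⟩ := hfree n
    exact isFinLocFree_of_iso e.symm (isFinLocFree_freeMod W₀ k)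
  haveI : ((resCx j).obj G).IsGE a := by
    rw [CochainComplex.isGE_iff]
    intro i hi
    exact exactAt_restrict j G i (G.exactAt_of_isGE a i hi)
  obtain ⟨e⟩ := nonempty_iso_truncGE γ a hγ
  set P₁ := P.truncGE a with hP₁
  have hP₁lo : ∀ i, i < a → IsZero (P₁.X i) := fun i hi =>
    CochainComplex.isZero_of_isStrictlyGE (P.truncGE a) a i hi
  have hP₁hi : ∀ i, max a b' < i → IsZero (P₁.X i) := fun i hi =>
    (hP i (Or.inr (by omega))).of_iso (P.truncGEXIso a i (by omega))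
  have hP₁ff : ∀ i, a < i → FlatMod.IsFinLocFree (P₁.X i) := fun i hi =>
    isFinLocFree_of_iso (P.truncGEXIso a i hi).symm (hPf i)
  have hP₁fl : ∀ i, a < i → FlatMod.IsFlatOver (j ≫ g) (P₁.X i) := fun i hi =>
    isFlatOver_of_isFlat (j ≫ g) _ (isFlat_of_isFinLocFree _ (hP₁ff i hi))
  have hNfp : (P₁.X a).IsFinitePresentation :=
    isFinitePresentation_of_iso (P.truncGEXIsoOpcycles a).symm
      (isFinitePresentation_opcycles P hPf a)
  haveI : (P₁.X a).IsQuasicoherent := inferInstance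
  have ht0 : DerSch.HasTorAmplitudeAt (j ≫ g) a b P₁ z₀ :=
    hasTorAmplitudeAt_of_isoD (j ≫ g) z₀ e a b ((hasTorAmplitudeAt_resCx_iff g j G a b z₀).2 htor)
  have hflat0 : FlatMod.IsFlatOverAt (j ≫ g) (P₁.X a) z₀ := by
    have := Groth.Agent.H4.TorAmp5.flat_bottom_of_hasTorAmp
      ((DerSch.stalkCxOver (j ≫ g) z₀).obj P₁) a b (max a b')
      (fun i hi => (DerSch.stalkOver (j ≫ g) z₀).map_isZero (hP₁lo i hi))
      (fun i hi => (DerSch.stalkOver (j ≫ g) z₀).map_isZero (hP₁hi i hi))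
      (fun i hi => hP₁fl i hi z₀) ht0
    exact this
  have hopen := Groth.Agent.H1.SchFlat.isOpen_setOf_isFlatOverAt (j ≫ g) (P₁.X a) hNfp
  let W₁ : W₀.Opens := ⟨_, hopen⟩
  have hW₁ : ∀ w : W₀, w ∈ W₁ → FlatMod.IsFlatOverAt (j ≫ g) (P₁.X a) w := fun w hw => hw
  have hfpall : ∀ i, (P₁.X i).IsFinitePresentation := by
    intro i
    rcases lt_trichotomy i a with h | h | h
    · exact isFinitePresentation_of_isFinLocFree _ (isFinLocFree_of_isZero (hP₁lo i h))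
    · subst h; exact hNfp
    · exact isFinitePresentation_of_isFinLocFree _ (hP₁ff i h)
  refine ⟨(W₁ : Scheme.{u}), W₁.ι ≫ j, inferInstance, (resCx W₁.ι).obj P₁, max a b',
    ⟨⟨z₀, hflat0⟩, rfl⟩, ?_, ?_, ?_⟩
  · intro i hi
    rcases hi with hi | hi
    · exact (Scheme.Modules.restrictFunctor W₁.ι).map_isZero (hP₁lo i hi)
    · exact (Scheme.Modules.restrictFunctor W₁.ι).map_isZero (hP₁hi i hi)
  · intro i
    refine ⟨isFP_restrict W₁.ι _ (hfpall i), fun y => ?_⟩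
    have h1 : FlatMod.IsFlatOverAt (j ≫ g) (P₁.X i) (W₁.ι.base y) := by
      rcases lt_trichotomy i a with h | h | h
      · exact isFlatOver_of_isFlat (j ≫ g) _
          (isFlat_of_isFinLocFree _ (isFinLocFree_of_isZero (hP₁lo i h))) _
      · subst h; exact hW₁ _ y.2
      · exact hP₁fl i h _
    have h2 := (isFlatOverAt_restrict_iff (j ≫ g) W₁.ι (P₁.X i) y).2 h1
    rw [Category.assoc]
    exact h2
  · exact ⟨Q.mapIso ((resCxComp W₁.ι j).app G) ≪≫ (RDfac W₁.ι ((resCx j).obj G)).symm ≪≫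
      (RD W₁.ι).mapIso e ≪≫ RDfac W₁.ι P₁⟩

/-- transport of a complex from an abstract open immersion to its range -/
theorem transport (f : X ⟶ Y) {W : Scheme.{u}} (k : W ⟶ X) [IsOpenImmersion k]
    (G' : CochainComplex W.Modules ℤ) (a c : ℤ)
    (hv : DCoh.VanishesOutside G' a c)
    (hterm : ∀ i, (G'.X i).IsFinitePresentation ∧ FlatMod.IsFlatOver (k ≫ f) (G'.X i)) :
    ∃ (G : CochainComplex (k.opensRange : Scheme.{u}).Modules ℤ), DCoh.VanishesOutside G a c ∧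
      (∀ i, CohB1.IsFP (G.X i) ∧ FlatMod.IsFlatOver (k.opensRange.ι ≫ f) (G.X i)) ∧
      ∀ K : DCoh.D X, ((RD k).obj K ≅ Q.obj G') →
        Nonempty ((RD k.opensRange.ι).obj K ≅ Q.obj G) := by
  let φ : (k.opensRange : Scheme.{u}) ⟶ W := k.isoOpensRange.inv
  have hφ : φ ≫ k = k.opensRange.ι := k.isoOpensRange_inv_comp
  refine ⟨(resCx φ).obj G', ?_, ?_, ?_⟩
  · intro i hi
    exact (Scheme.Modules.restrictFunctor φ).map_isZero (hv i hi)
  · intro i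
    refine ⟨isFP_restrict φ _ (hterm i).1, fun y => ?_⟩
    have h2 := (isFlatOverAt_restrict_iff (k ≫ f) φ (G'.X i) y).2 ((hterm i).2 _)
    have h3 : k.opensRange.ι ≫ f = φ ≫ k ≫ f := by rw [← Category.assoc, hφ]
    rw [h3]
    exact h2
  · intro K eK
    obtain ⟨e1⟩ := RDcongr k.opensRange.ι (φ ≫ k) hφ.symm K
    exact ⟨e1 ≪≫ (RDcomp φ k).app K ≪≫ (RD φ).mapIso eK ≪≫ RDfac φ G'⟩

end Aux

section main

variable {X S : Scheme.{u}} (f : X ⟶ S) [Flat f] [LocallyOfFinitePresentation f]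

theorem bwd (E : DCoh.D X)
    (h : ∀ x : X, ∃ V : X.Opens, x ∈ V ∧ ∀ F : CochainComplex X.Modules ℤ,
      Nonempty (DCoh.toD X F ≅ E) →
        ∃ (G : CochainComplex (V : Scheme.{u}).Modules ℤ) (a b : ℤ), DCoh.VanishesOutside G a b ∧
          (∀ i : ℤ, CohB1.IsFP (G.X i) ∧ FlatMod.IsFlatOver (V.ι ≫ f) (G.X i)) ∧
          Nonempty (DerivedCategory.Q.obj ((DCoh.restrictCx V).obj F) ≅ DerivedCategory.Q.obj G)) :
    (∀ m : ℤ, DCoh.IsPseudoCoherentD m E) ∧ DCoh.LocHasFiniteRelTorDim f E := by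
  let F₀ := Q.objPreimage E
  let e₀ : Q.obj F₀ ≅ E := Q.objObjPreimageIso E
  constructor
  · intro m
    rw [isPseudoCoherentD_iff_pcAt]
    intro x
    obtain ⟨V, hxV, hV⟩ := h x
    obtain ⟨G, a, b, hG, hterm, ⟨eG⟩⟩ := hV F₀ ⟨e₀⟩
    have h1 : PCAt m (Q.obj G) (⟨x, hxV⟩ : (V : Scheme.{u})) := by
      refine (pcLike_pcAt (⟨x, hxV⟩ : (V : Scheme.{u}))).of_termwise m b G
        (fun i hi => hG i (Or.inr hi)) (fun i => ?_)
      exact pcAt_inD_of_fp_flatOver (V.ι ≫ f) (G.X i) (hterm i).1 ⊤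
        (fun w _ => (hterm i).2 w) _ _ trivial
    have h2 : PCAt m ((RD V.ι).obj E) (⟨x, hxV⟩ : (V : Scheme.{u})) :=
      PCAt.of_iso (eG.symm ≪≫ (RDfac V.ι F₀).symm ≪≫ (RD V.ι).mapIso e₀) _ h1
    exact PCAt.of_restrict V.ι E ⟨x, hxV⟩ h2
  · intro x
    obtain ⟨V, hxV, hV⟩ := h x
    obtain ⟨G, a, b, hG, hterm, ⟨eG⟩⟩ := hV F₀ ⟨e₀⟩
    refine ⟨V, a, b, hxV, fun F' he' => ?_⟩
    obtain ⟨e'⟩ := he'
    refine ⟨G, hG, fun i => (hterm i).2, ⟨?_⟩⟩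
    exact eG.symm ≪≫ (RDfac V.ι F₀).symm ≪≫ (RD V.ι).mapIso (e₀ ≪≫ e'.symm) ≪≫ RDfac V.ι F'

theorem fwd (E : DCoh.D X)
    (hpc : ∀ m : ℤ, DCoh.IsPseudoCoherentD m E) (hloc : DCoh.LocHasFiniteRelTorDim f E) (x : X) :
    ∃ V : X.Opens, x ∈ V ∧ ∀ F : CochainComplex X.Modules ℤ, Nonempty (DCoh.toD X F ≅ E) →
        ∃ (G : CochainComplex (V : Scheme.{u}).Modules ℤ) (a b : ℤ), DCoh.VanishesOutside G a b ∧
          (∀ i : ℤ, CohB1.IsFP (G.X i) ∧ FlatMod.IsFlatOver (V.ι ≫ f) (G.X i)) ∧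
          Nonempty (DerivedCategory.Q.obj ((DCoh.restrictCx V).obj F) ≅
            DerivedCategory.Q.obj G) := by
  let F₀ := Q.objPreimage E
  let e₀ : Q.obj F₀ ≅ E := Q.objObjPreimageIso E
  obtain ⟨V₀, a, b, hxV₀, hV₀⟩ := hloc x
  obtain ⟨G₀, hG₀, hfl₀, ⟨eG₀⟩⟩ := hV₀ F₀ ⟨e₀⟩
  have hpcz : PCAt (a - 1) (Q.obj G₀) (⟨x, hxV₀⟩ : (V₀ : Scheme.{u})) := by
    have h1 : PCAt (a - 1) E (V₀.ι.base ⟨x, hxV₀⟩) :=
      (isPseudoCoherentD_iff_pcAt _ _).1 (hpc (a - 1)) _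
    have h2 := PCAt.restrict V₀.ι E ⟨x, hxV₀⟩ h1
    exact PCAt.of_iso ((RD V₀.ι).mapIso e₀.symm ≪≫ RDfac V₀.ι F₀ ≪≫ eG₀.symm) _ h2
  haveI : G₀.IsGE a := by
    rw [CochainComplex.isGE_iff]
    intro i hi
    exact ShortComplex.exact_of_isZero_X₂ _ (hG₀ i (Or.inl hi))
  have htor : DerSch.HasTorAmplitudeAt (V₀.ι ≫ f) a b G₀ (⟨x, hxV₀⟩ : (V₀ : Scheme.{u})) := by
    refine ⟨_, ?_, ?_, ⟨Iso.refl _⟩⟩
    · intro i hi
      exact (DerSch.stalkOver (V₀.ι ≫ f) _).map_isZero (hG₀ i hi)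
    · intro i
      exact hfl₀ i _
  obtain ⟨W, k, hk, G', c, ⟨w, hw⟩, hv, hterm, ⟨eG'⟩⟩ :=
    core' (V₀.ι ≫ f) G₀ a b ⟨x, hxV₀⟩ hpcz htor
  obtain ⟨G, hGv, hGt, hGiso⟩ := transport f (k ≫ V₀.ι) G' a c hv
    (fun i => ⟨(hterm i).1, by rw [Category.assoc]; exact (hterm i).2⟩)
  refine ⟨(k ≫ V₀.ι).opensRange, ⟨w, ?_⟩, fun F heF => ?_⟩
  · show (k ≫ V₀.ι).base w = x
    rw [Scheme.Hom.comp_base, TopCat.comp_app]
    show V₀.ι.base (k.base w) = x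
    rw [show k.base w = ⟨x, hxV₀⟩ from hw]
    rfl
  · obtain ⟨eF⟩ := heF
    have e1 : (RD (k ≫ V₀.ι)).obj E ≅ Q.obj G' :=
      (RDcomp k V₀.ι).app E ≪≫
        (RD k).mapIso ((RD V₀.ι).mapIso e₀.symm ≪≫ RDfac V₀.ι F₀ ≪≫ eG₀.symm) ≪≫
        RDfac k G₀ ≪≫ eG'
    obtain ⟨e2⟩ := hGiso E e1
    exact ⟨G, a, c, hGv, hGt,
      ⟨(RDfac (k ≫ V₀.ι).opensRange.ι F).symm ≪≫ (RD _).mapIso eF ≪≫ e2⟩⟩

theorem s7275 (E : DCoh.D X) :
    ((∀ m : ℤ, DCoh.IsPseudoCoherentD m E) ∧ DCoh.LocHasFiniteRelTorDim f E) ↔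
      ∀ x : X, ∃ V : X.Opens, x ∈ V ∧ ∀ F : CochainComplex X.Modules ℤ,
        Nonempty (DCoh.toD X F ≅ E) →
        ∃ (G : CochainComplex (V : Scheme.{u}).Modules ℤ) (a b : ℤ), DCoh.VanishesOutside G a b ∧
          (∀ i : ℤ, CohB1.IsFP (G.X i) ∧ FlatMod.IsFlatOver (V.ι ≫ f) (G.X i)) ∧
          Nonempty (DerivedCategory.Q.obj ((DCoh.restrictCx V).obj F) ≅
            DerivedCategory.Q.obj G) :=
  ⟨fun h x => fwd f E h.1 h.2 x, fun h => bwd f E h⟩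

end main

end Groth.Agent.Helper7.QB21
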