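import Mathlib

/-! # The cone of a coproduct of morphisms is the coproduct of the cones -/

set_option autoImplicit false
open CategoryTheory CategoryTheory.Limits CategoryTheory.Pretriangulated CategoryTheory.Category

namespace Groth.Agent.Helper7.QB22

variable {C : Type*} [Category C] [HasZeroObject C] [HasShift C ℤ] [Preadditive C]
  [∀ n : ℤ, (shiftFunctor C n).Additive] [Pretriangulated C]

/-- maps out of the shift of a coproduct -/
lemma exists_desc_shift {J : Type*} (X : J → C) [HasCoproduct X] {A : C}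
    (b : ∀ j, (X j)⟦(1 : ℤ)⟧ ⟶ A) :
    ∃ β : (∐ X)⟦(1 : ℤ)⟧ ⟶ A, ∀ j, (Sigma.ι X j)⟦(1 : ℤ)⟧' ≫ β = b j := by
  have hs : IsColimit ((shiftFunctor C (1 : ℤ)).mapCocone (Cofan.mk _ (Sigma.ι X))) :=
    isColimitOfPreserves _ (coproductIsCoproduct X)
  have hs' := (isColimitMapCoconeCofanMkEquiv (shiftFunctor C (1 : ℤ)) X (Sigma.ι X)) hs
  exact ⟨Cofan.IsColimit.desc hs' b, fun j => Cofan.IsColimit.fac hs' b j⟩

lemma hom_ext_shift {J : Type*} (X : J → C) [HasCoproduct X] {A : C}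
    (β β' : (∐ X)⟦(1 : ℤ)⟧ ⟶ A)
    (h : ∀ j, (Sigma.ι X j)⟦(1 : ℤ)⟧' ≫ β = (Sigma.ι X j)⟦(1 : ℤ)⟧' ≫ β') : β = β' := by
  have hs : IsColimit ((shiftFunctor C (1 : ℤ)).mapCocone (Cofan.mk _ (Sigma.ι X))) :=
    isColimitOfPreserves _ (coproductIsCoproduct X)
  have hs' := (isColimitMapCoconeCofanMkEquiv (shiftFunctor C (1 : ℤ)) X (Sigma.ι X)) hs
  exact Cofan.IsColimit.hom_ext hs' _ _ h

/-- **the cone of a coproduct of morphisms is the coproduct of the cones.** -/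
theorem nonempty_iso_sigma {J : Type*} (T : J → Triangle C) (hT : ∀ j, T j ∈ distTriang C)
    [HasCoproduct (fun j => (T j).obj₁)] [HasCoproduct (fun j => (T j).obj₂)]
    [HasCoproduct (fun j => (T j).obj₃)]
    {Z : C} (f₁ : (∐ fun j => (T j).obj₁) ⟶ ∐ fun j => (T j).obj₂)
    (hι : ∀ j, Sigma.ι (fun j => (T j).obj₁) j ≫ f₁ =
      (T j).mor₁ ≫ Sigma.ι (fun j => (T j).obj₂) j)
    (f₂ : (∐ fun j => (T j).obj₂) ⟶ Z) (f₃ : Z ⟶ (∐ fun j => (T j).obj₁)⟦(1 : ℤ)⟧)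
    (hT' : Triangle.mk f₁ f₂ f₃ ∈ distTriang C) :
    Nonempty ((∐ fun j => (T j).obj₃) ≅ Z) := by
  let φ : ∀ j, T j ⟶ Triangle.mk f₁ f₂ f₃ := fun j => completeDistinguishedTriangleMorphism _ _
    (hT j) hT' (Sigma.ι (fun j => (T j).obj₁) j) (Sigma.ι (fun j => (T j).obj₂) j) (hι j).symm
  obtain ⟨k, c₂, c₃⟩ : ∃ k : ∀ j, (T j).obj₃ ⟶ Z,
      (∀ j, (T j).mor₂ ≫ k j = Sigma.ι (fun j => (T j).obj₂) j ≫ f₂) ∧
      (∀ j, (T j).mor₃ ≫ (Sigma.ι (fun j => (T j).obj₁) j)⟦(1 : ℤ)⟧' = k j ≫ f₃) :=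
    ⟨fun j => (φ j).hom₃, fun j => (φ j).comm₂, fun j => (φ j).comm₃⟩
  let c : (∐ fun j => (T j).obj₃) ⟶ Z := Sigma.desc k
  have hc : ∀ j, Sigma.ι (fun j => (T j).obj₃) j ≫ c = k j := fun j => by
    simp [c]
  suffices IsIso c from ⟨asIso c⟩
  refine isIso_of_coyoneda_map_bijective _ (fun A => ⟨?_, ?_⟩)
  · -- injectivity
    have key : ∀ f : Z ⟶ A, c ≫ f = 0 → f = 0 := by
      intro f hf
      have hfj : ∀ j, k j ≫ f = 0 := fun j => by
        rw [← hc j, Category.assoc, hf, comp_zero]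
      have h2 : f₂ ≫ f = 0 := by
        apply Sigma.hom_ext
        intro j
        rw [comp_zero, ← Category.assoc, ← c₂ j, Category.assoc, hfj, comp_zero]
      obtain ⟨g, hg'⟩ : ∃ g : (∐ fun j => (T j).obj₁)⟦(1 : ℤ)⟧ ⟶ A, f = f₃ ≫ g :=
        Triangle.yoneda_exact₃ _ hT' f h2
      have hgj : ∀ j, (T j).mor₃ ≫ (Sigma.ι (fun j => (T j).obj₁) j)⟦(1 : ℤ)⟧' ≫ g = 0 :=
        fun j => by
          rw [← Category.assoc, c₃ j, Category.assoc, ← hg', hfj]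
      have hex : ∀ j, ∃ α : ((T j).obj₂)⟦(1 : ℤ)⟧ ⟶ A,
          (Sigma.ι (fun j => (T j).obj₁) j)⟦(1 : ℤ)⟧' ≫ g = ((T j).mor₁)⟦(1 : ℤ)⟧' ≫ α :=
        fun j => by
          obtain ⟨α, hα⟩ : ∃ α : ((T j).obj₂)⟦(1 : ℤ)⟧ ⟶ A,
              (Sigma.ι (fun j => (T j).obj₁) j)⟦(1 : ℤ)⟧' ≫ g = (-((T j).mor₁)⟦(1 : ℤ)⟧') ≫ α :=
            Triangle.yoneda_exact₃ (T j).rotate (rot_of_distTriang _ (hT j))
              ((Sigma.ι (fun j => (T j).obj₁) j)⟦(1 : ℤ)⟧' ≫ g) (hgj j)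
          refine ⟨-α, ?_⟩
          rw [hα, Preadditive.neg_comp, Preadditive.comp_neg]
      choose α hα using hex
      obtain ⟨αtot, hαtot⟩ := exists_desc_shift (fun j => (T j).obj₂) α
      have hg'' : g = f₁⟦(1 : ℤ)⟧' ≫ αtot := by
        apply hom_ext_shift
        intro j
        rw [hα j, ← Category.assoc, ← Functor.map_comp, hι j, Functor.map_comp, Category.assoc,
          hαtot]
      have hz : f₃ ≫ f₁⟦(1 : ℤ)⟧' = 0 := comp_distTriang_mor_zero₃₁ _ hT'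
      rw [hg', hg'', ← Category.assoc, hz, zero_comp]
    intro a₁ a₂ h
    have h0 : c ≫ (a₁ - a₂) = 0 := by
      rw [Preadditive.comp_sub]
      exact sub_eq_zero.2 h
    exact sub_eq_zero.1 (key _ h0)
  · -- surjectivity
    intro a
    have hz : f₁ ≫ (Limits.Sigma.map (fun j => (T j).mor₂) ≫ a) = 0 := by
      apply Sigma.hom_ext
      intro j
      rw [comp_zero, ← Category.assoc, hι j, Category.assoc]
      rw [← Category.assoc (Sigma.ι (fun j => (T j).obj₂) j), Sigma.ι_map, Category.assoc,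
        ← Category.assoc, comp_distTriang_mor_zero₁₂ _ (hT j), zero_comp]
    obtain ⟨a', ha''⟩ : ∃ a' : Z ⟶ A, Limits.Sigma.map (fun j => (T j).mor₂) ≫ a = f₂ ≫ a' :=
      Triangle.yoneda_exact₂ _ hT' _ hz
    have hex : ∀ j, ∃ b : ((T j).obj₁)⟦(1 : ℤ)⟧ ⟶ A,
        Sigma.ι (fun j => (T j).obj₃) j ≫ a - k j ≫ a' = (T j).mor₃ ≫ b := fun j => by
      apply Triangle.yoneda_exact₃ (T j) (hT j)
      rw [Preadditive.comp_sub, sub_eq_zero, ← Category.assoc ((T j).mor₂) (k j), c₂ j,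
        Category.assoc, ← ha'', ← Category.assoc (Sigma.ι (fun j => (T j).obj₂) j), Sigma.ι_map,
        Category.assoc]
    choose b hb using hex
    obtain ⟨btot, hbtot⟩ := exists_desc_shift (fun j => (T j).obj₁) b
    refine ⟨a' + f₃ ≫ btot, ?_⟩
    apply Sigma.hom_ext
    intro j
    change Sigma.ι (fun j => (T j).obj₃) j ≫ c ≫ (a' + f₃ ≫ btot) = _
    rw [← Category.assoc, hc j, Preadditive.comp_add, ← Category.assoc (k j), ← c₃ j,
      Category.assoc, hbtot, ← hb j]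
    abel

end Groth.Agent.Helper7.QB22
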