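import Mathlib
import Groth.Prelude
import Groth.Agent.Lib.Helper7.QB22
import Groth.Agent.Lib.Helper7.LR15
import Groth.Agent.Lib.Helper7.QB3
import Groth.Agent.Lib.Helper6.PushSum5
import Groth.Agent.Lib.Helper2.DCoprod1

/-! # `RΓ_Z` commutes with direct sums on `D_QCoh` (complement quasi-compact): opens version -/

set_option autoImplicit false
universe u
open CategoryTheory CategoryTheory.Limits AlgebraicGeometry CategoryTheory.Pretriangulated
attribute [local instance] HasDerivedCategory.standard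

namespace Groth.Agent.Helper7.QB23

open Groth.Agent.H4 Groth.Agent.H6 DerivedCategory
open Groth.Agent.Helper7

variable {X : Scheme.{u}}

lemma hasCoproductsD (X : Scheme.{u}) (ι : Type u) :
    HasColimitsOfShape (Discrete ι) (DCoh.D X) := by
  haveI : IsGrothendieckAbelian.{u} X.Modules :=
    Groth.Agent.LD.QCGroth.isGrothendieckAbelian_modules X
  haveI : HasExactColimitsOfShape (Discrete ι) X.Modules :=
    (IsGrothendieckAbelian.ab4OfSize.{u} (C := X.Modules)).ofShape ι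
  exact Groth.Agent.H2.DCoprod.hasColimitsOfShape_discrete X.Modules ι

lemma isZero_restrict_sigma (W : X.Opens) [DCoh.HasRpush W.ι]
    (adj : DCoh.restrictD W.ι ⊣ DCoh.Rpush W.ι) {ι : Type u} (A : ι → DCoh.D X) [HasCoproduct A]
    (h : ∀ i, IsZero ((DCoh.restrictD W.ι).obj (A i))) :
    IsZero ((DCoh.restrictD W.ι).obj (∐ A)) := by
  rw [IsZero.iff_id_eq_zero]
  apply (adj.homEquiv _ _).injective
  apply Sigma.hom_ext
  intro i
  rw [← Adjunction.homEquiv_naturality_left, ← Adjunction.homEquiv_naturality_left]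
  congr 1
  exact (h i).eq_of_src _ _

theorem main (W : X.Opens) [QuasiCompact W.ι] [CxOX.HasRgammaZ W.ι] {ι : Type u}
    (E : ι → DCoh.D X) (hE : ∀ i, DCoh.IsQCohD (E i)) [HasCoproduct E]
    [HasCoproduct (fun i => (CxOX.RgammaZ W.ι).obj (E i))] :
    IsIso (Sigma.desc (fun i => (CxOX.RgammaZ W.ι).map (Sigma.ι E i))) := by
  haveI : DCoh.HasRpush W.ι := LR4.hasRpush _
  obtain ⟨⟨adj⟩, _, _, ⟨cou⟩⟩ := DerAdj.main_of_isIso_counit
    (Scheme.Modules.restrictAdjunction W.ι) (fun M => inferInstance)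
  let ρ : ∀ i, (CxOX.RgammaZ W.ι).obj (E i) ⟶ E i := fun i => (CxOX.RgammaZToId W.ι).app (E i)
  let α : (∐ fun i => (CxOX.RgammaZ W.ι).obj (E i)) ⟶ ∐ E := Limits.Sigma.map ρ
  let σ : (∐ fun i => (CxOX.RgammaZ W.ι).obj (E i)) ⟶ (CxOX.RgammaZ W.ι).obj (∐ E) :=
    Sigma.desc (fun i => (CxOX.RgammaZ W.ι).map (Sigma.ι E i))
  have hσ : σ ≫ (CxOX.RgammaZToId W.ι).app (∐ E) = α := by
    apply Sigma.hom_ext
    intro i
    dsimp only [σ, α]
    rw [← Category.assoc, Sigma.ι_desc, Sigma.ι_map]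
    exact (CxOX.RgammaZToId W.ι).naturality (Sigma.ι E i)
  have hA : IsZero ((DCoh.restrictD W.ι).obj (∐ fun i => (CxOX.RgammaZ W.ι).obj (E i))) :=
    isZero_restrict_sigma W adj _ (fun i => LR12.isZero_restrictD_rgammaZ W (E i))
  have hG : IsZero ((DCoh.restrictD W.ι).obj ((CxOX.RgammaZ W.ι).obj (∐ E))) :=
    LR12.isZero_restrictD_rgammaZ W _
  -- the triangles
  choose C g h hT using fun i => distinguished_cocone_triangle (ρ i)
  choose N hN using fun i => LR14.exists_iso_rpush_of_cone W (E i) (C i) (g i) (h i) (hT i)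
  have hNq : ∀ i, DCoh.IsQCohD (N i) := by
    intro i
    obtain ⟨e⟩ := hN i
    have e1 : (DCoh.restrictD W.ι).obj (C i) ≅ N i :=
      (DCoh.restrictD W.ι).mapIso e ≪≫ cou.app (N i)
    have hd := (DCoh.restrictD W.ι).map_distinguished _ (hT i)
    have hz : IsZero ((DCoh.restrictD W.ι).mapTriangle.obj
        (Triangle.mk (ρ i) (g i) (h i))).obj₁ :=
      LR12.isZero_restrictD_rgammaZ W (E i)
    haveI : IsIso ((DCoh.restrictD W.ι).map (g i)) :=
      (Triangle.isZero₁_iff_isIso₂ _ hd).1 hz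
    exact QB1.isQCohD_of_iso (asIso ((DCoh.restrictD W.ι).map (g i)) ≪≫ e1)
      (QB3.isQCohD_RD W.ι (E i) (hE i))
  obtain ⟨Z, f₂, f₃, hT'⟩ := distinguished_cocone_triangle α
  haveI := hasCoproductsD X ι
  haveI := hasCoproductsD (W : Scheme.{u}) ι
  obtain ⟨eZ⟩ := QB22.nonempty_iso_sigma (fun i => Triangle.mk (ρ i) (g i) (h i)) hT α
    (fun i => by dsimp only [α]; exact Sigma.ι_map _ _) f₂ f₃ hT'
  haveI := PushSum.s1000 W.ι N hNq
  let iZ : Z ≅ (DCoh.Rpush W.ι).obj (∐ N) :=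
    eZ.symm ≪≫ Sigma.mapIso (fun i => (hN i).some) ≪≫
      asIso (Sigma.desc (fun i => (DCoh.Rpush W.ι).map (Sigma.ι N i)))
  have claim : ∀ B : DCoh.D X, IsZero ((DCoh.restrictD W.ι).obj B) →
      Function.Bijective
        (fun φ : B ⟶ (∐ fun i => (CxOX.RgammaZ W.ι).obj (E i)) => φ ≫ σ) := by
    intro B hB
    have b1 := LR14.comp_ι_bijective W (∐ E) B hB
    have b2 : Function.Bijective
        (fun φ : B ⟶ (∐ fun i => (CxOX.RgammaZ W.ι).obj (E i)) => φ ≫ α) := by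
      constructor
      · exact LR15.comp_injective_of_cone W α f₂ f₃ hT' (∐ N) iZ hB
      · intro θ
        have h0 : θ ≫ f₂ = 0 := LR14.eq_zero_of_restrict_zero W B hB Z (∐ N) iZ _
        obtain ⟨φ, hφ⟩ := Triangle.coyoneda_exact₂ _ hT' θ h0
        exact ⟨φ, hφ.symm⟩
    have hcomp : (fun φ : B ⟶ (∐ fun i => (CxOX.RgammaZ W.ι).obj (E i)) => φ ≫ α) =
        (fun ψ : B ⟶ (CxOX.RgammaZ W.ι).obj (∐ E) =>
          ψ ≫ (CxOX.RgammaZToId W.ι).app (∐ E)) ∘ (fun φ => φ ≫ σ) := by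
      funext φ
      change _ = (φ ≫ σ) ≫ _
      rw [Category.assoc, hσ]
    rw [hcomp] at b2
    exact (Function.Bijective.of_comp_iff' b1 _).1 b2
  obtain ⟨β, hβ⟩ := (claim _ hG).2 (𝟙 _)
  have hβ' : β ≫ σ = 𝟙 _ := hβ
  have hσβ : σ ≫ β = 𝟙 _ := by
    apply (claim _ hA).1
    change (σ ≫ β) ≫ σ = 𝟙 _ ≫ σ
    rw [Category.assoc, hβ', Category.comp_id, Category.id_comp]
  exact ⟨⟨β, hσβ, hβ'⟩⟩

end Groth.Agent.Helper7.QB23
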