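import Mathlib
import Groth.Prelude
import Groth.Agent.Lib.Helper7.QB23

/-! # `RΓ_Z` commutes with direct sums on `D_QCoh` (S7280) -/

set_option autoImplicit false
universe u
open CategoryTheory CategoryTheory.Limits AlgebraicGeometry CategoryTheory.Pretriangulated
attribute [local instance] HasDerivedCategory.standard

namespace Groth.Agent.Helper7.QB24

open Groth.Agent.H4 Groth.Agent.H6 DerivedCategory
open Groth.Agent.Helper7

section Mod

variable {U V X : Scheme.{u}}

lemma restrict_map_eq_zero_of_comp (φ : U ⟶ V) (l : V ⟶ X) [IsOpenImmersion φ]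
    [IsOpenImmersion l] {T F : X.Modules} (g : T ⟶ F)
    (h : (Scheme.Modules.restrictFunctor l).map g = 0) :
    (Scheme.Modules.restrictFunctor (φ ≫ l)).map g = 0 := by
  have n := (Scheme.Modules.restrictFunctorComp φ l).hom.naturality g
  rw [← cancel_mono ((Scheme.Modules.restrictFunctorComp φ l).hom.app F), n, zero_comp,
    Functor.comp_map, h, Functor.map_zero, comp_zero]

lemma restrict_map_eq_zero_of_eq_comp (φ : U ⟶ V) (l : V ⟶ X) (k : U ⟶ X) [IsOpenImmersion φ]
    [IsOpenImmersion l] [IsOpenImmersion k] (hk : k = φ ≫ l) {T F : X.Modules} (g : T ⟶ F)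
    (h : (Scheme.Modules.restrictFunctor l).map g = 0) :
    (Scheme.Modules.restrictFunctor k).map g = 0 := by
  subst hk
  exact restrict_map_eq_zero_of_comp φ l g h

lemma comp_unit_eq_zero_iff (j : U ⟶ X) [IsOpenImmersion j] {T F : X.Modules} (g : T ⟶ F) :
    g ≫ (Scheme.Modules.restrictAdjunction j).unit.app F = 0 ↔
      (Scheme.Modules.restrictFunctor j).map g = 0 := by
  have h1 : g ≫ (Scheme.Modules.restrictAdjunction j).unit.app F =
      (Scheme.Modules.restrictAdjunction j).homEquiv _ _
        ((Scheme.Modules.restrictFunctor j).map g) := by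
    rw [Adjunction.homEquiv_unit]
    exact ((Scheme.Modules.restrictAdjunction j).unit.naturality g)
  rw [h1]
  constructor
  · intro h
    apply ((Scheme.Modules.restrictAdjunction j).homEquiv _ _).injective
    rw [h, Adjunction.homEquiv_unit, Functor.map_zero, comp_zero]
  · intro h
    rw [h, Adjunction.homEquiv_unit, Functor.map_zero, comp_zero]

end Mod

section Tau

variable {U V X : Scheme.{u}} (k : U ⟶ X) (l : V ⟶ X) [IsOpenImmersion k] [IsOpenImmersion l]

lemma kernel_ι_comp_unit (φ : U ⟶ V) [IsOpenImmersion φ] (hk : k = φ ≫ l) (F : X.Modules) :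
    kernel.ι ((Scheme.Modules.restrictAdjunction l).unit.app F) ≫
      (Scheme.Modules.restrictAdjunction k).unit.app F = 0 := by
  refine (comp_unit_eq_zero_iff k _).2 ?_
  apply restrict_map_eq_zero_of_eq_comp φ l k hk
  refine (comp_unit_eq_zero_iff l _).1 ?_
  exact kernel.condition _

/-- the two kernels agree -/
noncomputable def kerIso (φ : U ⟶ V) (ψ : V ⟶ U) [IsOpenImmersion φ] [IsOpenImmersion ψ]
    (hk : k = φ ≫ l) (hl : l = ψ ≫ k) (F : X.Modules) :
    kernel ((Scheme.Modules.restrictAdjunction k).unit.app F) ≅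
      kernel ((Scheme.Modules.restrictAdjunction l).unit.app F) where
  hom := kernel.lift _ (kernel.ι ((Scheme.Modules.restrictAdjunction k).unit.app F))
    (kernel_ι_comp_unit l k ψ hl F)
  inv := kernel.lift _ (kernel.ι ((Scheme.Modules.restrictAdjunction l).unit.app F))
    (kernel_ι_comp_unit k l φ hk F)
  hom_inv_id := by
    rw [← cancel_mono (kernel.ι ((Scheme.Modules.restrictAdjunction k).unit.app F))]
    simp
  inv_hom_id := by
    rw [← cancel_mono (kernel.ι ((Scheme.Modules.restrictAdjunction l).unit.app F))]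
    simp

@[reassoc (attr := simp)]
lemma kerIso_hom_ι (φ : U ⟶ V) (ψ : V ⟶ U) [IsOpenImmersion φ] [IsOpenImmersion ψ]
    (hk : k = φ ≫ l) (hl : l = ψ ≫ k) (F : X.Modules) :
    (kerIso k l φ ψ hk hl F).hom ≫ kernel.ι ((Scheme.Modules.restrictAdjunction l).unit.app F) =
      kernel.ι ((Scheme.Modules.restrictAdjunction k).unit.app F) := by
  simp [kerIso]

/-- `Γ_Z` only depends on the image of the open immersion -/
noncomputable def gammaZIso (φ : U ⟶ V) (ψ : V ⟶ U) [IsOpenImmersion φ] [IsOpenImmersion ψ]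
    (hk : k = φ ≫ l) (hl : l = ψ ≫ k) : DCoh.gammaZ k ≅ DCoh.gammaZ l :=
  NatIso.ofComponents (fun F => kerIso k l φ ψ hk hl F)
    (fun {F G} f => by
      change kernel.map _ _ f
          ((Scheme.Modules.restrictFunctor k ⋙ Scheme.Modules.pushforward k).map f)
          ((Scheme.Modules.restrictAdjunction k).unit.naturality f).symm ≫
          (kerIso k l φ ψ hk hl G).hom = (kerIso k l φ ψ hk hl F).hom ≫ kernel.map _ _ f
          ((Scheme.Modules.restrictFunctor l ⋙ Scheme.Modules.pushforward l).map f)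
          ((Scheme.Modules.restrictAdjunction l).unit.naturality f).symm
      rw [← cancel_mono (kernel.ι ((Scheme.Modules.restrictAdjunction l).unit.app G))]
      simp)

end Tau

section Der

noncomputable def mapHomotopyCategoryIso {A B : Type*} [Category A] [Category B] [Preadditive A]
    [Preadditive B] {F G : A ⥤ B} [F.Additive] [G.Additive] (τ : F ≅ G) :
    F.mapHomotopyCategory (ComplexShape.up ℤ) ≅ G.mapHomotopyCategory (ComplexShape.up ℤ) where
  hom := NatTrans.mapHomotopyCategory τ.hom _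
  inv := NatTrans.mapHomotopyCategory τ.inv _
  hom_inv_id := by
    rw [← NatTrans.mapHomotopyCategory_comp, τ.hom_inv_id, NatTrans.mapHomotopyCategory_id]
  inv_hom_id := by
    rw [← NatTrans.mapHomotopyCategory_comp, τ.inv_hom_id, NatTrans.mapHomotopyCategory_id]

variable {U V X : Scheme.{u}}

lemma hasRgammaZ (l : V ⟶ X) [IsOpenImmersion l] : CxOX.HasRgammaZ l := by
  haveI := Groth.Agent.H6.RpRes.hasKInjRes_modules X
  haveI := KInjDS.hasPointwiseRightDerivedFunctor (CxOX.gammaZKh l)
  infer_instance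

noncomputable def rgammaZIso (k : U ⟶ X) (l : V ⟶ X) [IsOpenImmersion k] [IsOpenImmersion l]
    (τ : DCoh.gammaZ k ≅ DCoh.gammaZ l) [CxOX.HasRgammaZ k] [CxOX.HasRgammaZ l] :
    CxOX.RgammaZ k ≅ CxOX.RgammaZ l :=
  Functor.rightDerivedNatIso (CxOX.RgammaZ k) (CxOX.RgammaZ l)
    ((CxOX.gammaZKh k).totalRightDerivedUnit Qh
      (HomotopyCategory.quasiIso X.Modules (ComplexShape.up ℤ)))
    ((CxOX.gammaZKh l).totalRightDerivedUnit Qh
      (HomotopyCategory.quasiIso X.Modules (ComplexShape.up ℤ)))
    (HomotopyCategory.quasiIso X.Modules (ComplexShape.up ℤ))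
    (Functor.isoWhiskerRight (mapHomotopyCategoryIso τ) Qh)

/-- **S7280** -/
theorem s7280 (j : U ⟶ X) [IsOpenImmersion j] [QuasiCompact j]
    [CxOX.HasRgammaZ j] {ι : Type u} (E : ι → DCoh.D X) (hE : ∀ i, DCoh.IsQCohD (E i))
    [HasCoproduct E] [HasCoproduct (fun i => (CxOX.RgammaZ j).obj (E i))] :
    IsIso (Sigma.desc (fun i => (CxOX.RgammaZ j).map (Sigma.ι E i))) := by
  haveI : QuasiCompact j.opensRange.ι := by
    rw [← j.isoOpensRange_inv_comp]
    infer_instance
  haveI : CxOX.HasRgammaZ j.opensRange.ι := hasRgammaZ _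
  let θ : CxOX.RgammaZ j ≅ CxOX.RgammaZ j.opensRange.ι :=
    rgammaZIso j j.opensRange.ι (gammaZIso j j.opensRange.ι j.isoOpensRange.hom
      j.isoOpensRange.inv j.isoOpensRange_hom_ι.symm j.isoOpensRange_inv_comp.symm)
  haveI := QB23.hasCoproductsD X ι
  haveI := QB23.main j.opensRange E hE
  have key : Sigma.desc (fun i => (CxOX.RgammaZ j).map (Sigma.ι E i)) =
      Limits.Sigma.map (fun i => θ.hom.app (E i)) ≫
        Sigma.desc (fun i => (CxOX.RgammaZ j.opensRange.ι).map (Sigma.ι E i)) ≫
          θ.inv.app (∐ E) := by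
    apply Sigma.hom_ext
    intro i
    rw [Sigma.ι_desc, ← Category.assoc, Sigma.ι_map, Category.assoc, ← Category.assoc (Sigma.ι _ i),
      Sigma.ι_desc]
    have n := θ.hom.naturality (Sigma.ι E i)
    rw [← Category.assoc, ← n, Category.assoc, Iso.hom_inv_id_app, Category.comp_id]
  rw [key]
  haveI : IsIso (Limits.Sigma.map (fun i => θ.hom.app (E i))) := by
    have : Limits.Sigma.map (fun i => θ.hom.app (E i)) =
        (Sigma.mapIso (fun i => θ.app (E i))).hom := rfl
    rw [this]
    infer_instance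
  infer_instance

end Der

end Groth.Agent.Helper7.QB24
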