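import Groth.Agent.Lib.Helper7.LR14
import Groth.Agent.Lib.Helper7.LR12
import Groth.Agent.Lib.Helper7.LR2
import Groth.Agent.H4.PCS3
import Groth.Agent.H4.LDS17

/-!
# Characterisation of `RΓ_Z` by a universal property; local objects
-/

set_option autoImplicit false
universe u

open CategoryTheory CategoryTheory.Limits AlgebraicGeometry Pretriangulated
attribute [local instance] HasDerivedCategory.standard

namespace Groth.Agent.Helper7.QB25

open Groth.Agent.H4 DerivedCategory

variable {X : Scheme.{u}}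

/-- `L` is local with respect to the open `W`: it receives no nonzero maps from objects
vanishing on `W`. -/
def IsLocalAt (W : X.Opens) (L : DCoh.D X) : Prop :=
  ∀ T : DCoh.D X, IsZero ((DCoh.restrictD W.ι).obj T) → ∀ φ : T ⟶ L, φ = 0

lemma isZero_restrict_shift (W : X.Opens) (A : DCoh.D X)
    (hA : IsZero ((DCoh.restrictD W.ι).obj A)) (n : ℤ) :
    IsZero ((DCoh.restrictD W.ι).obj (A⟦n⟧)) :=
  IsZero.of_iso (Functor.map_isZero (shiftFunctor _ n) hA)
    (((DCoh.restrictD W.ι).commShiftIso n).app A)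

/-- in a distinguished triangle `C → K → L →` with `L` local, maps from objects vanishing on
`W` into `C` and into `K` agree. -/
theorem bijective_of_triangle (W : X.Opens) (T : Triangle (DCoh.D X))
    (hT : T ∈ distTriang (DCoh.D X)) (hL : IsLocalAt W T.obj₃) (A : DCoh.D X)
    (hA : IsZero ((DCoh.restrictD W.ι).obj A)) :
    Function.Bijective (fun ψ : A ⟶ T.obj₁ => ψ ≫ T.mor₁) := by
  constructor
  · intro ψ₁ ψ₂ hψ
    have h0 : (ψ₁ - ψ₂) ≫ T.mor₁ = 0 := by
      rw [Preadditive.sub_comp]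
      exact sub_eq_zero.2 hψ
    obtain ⟨k, hk⟩ := Triangle.coyoneda_exact₁ _ hT ((ψ₁ - ψ₂)⟦(1 : ℤ)⟧') (by
      rw [← Functor.map_comp, h0, Functor.map_zero])
    have hk0 : k = 0 := hL _ (isZero_restrict_shift W A hA 1) k
    rw [hk0, zero_comp] at hk
    have h1 : ψ₁ - ψ₂ = 0 :=
      (shiftFunctor (DCoh.D X) (1 : ℤ)).map_injective (hk.trans (Functor.map_zero _ _ _).symm)
    exact sub_eq_zero.1 h1
  · intro φ
    have h0 : φ ≫ T.mor₂ = 0 := hL A hA _
    obtain ⟨ψ, hψ⟩ := Triangle.coyoneda_exact₂ _ hT φ h0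
    exact ⟨ψ, hψ.symm⟩

/-- the universal property characterises `RΓ_Z`. -/
theorem nonempty_iso_rgammaZ (W : X.Opens) [CxOX.HasRgammaZ W.ι] (A E : DCoh.D X) (e : E ⟶ A)
    (hE : IsZero ((DCoh.restrictD W.ι).obj E))
    (hb : ∀ T : DCoh.D X, IsZero ((DCoh.restrictD W.ι).obj T) →
      Function.Bijective (fun ψ : T ⟶ E => ψ ≫ e)) :
    Nonempty (E ≅ (CxOX.RgammaZ W.ι).obj A) := by
  have hR : IsZero ((DCoh.restrictD W.ι).obj ((CxOX.RgammaZ W.ι).obj A)) :=
    LR12.isZero_restrictD_rgammaZ W A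
  have hr := fun T hT => LR14.comp_ι_bijective W A T hT
  obtain ⟨a, ha⟩ := (hr E hE).2 e
  obtain ⟨b, hb'⟩ := (hb _ hR).2 ((CxOX.RgammaZToId W.ι).app A)
  dsimp only at ha hb'
  refine ⟨⟨a, b, ?_, ?_⟩⟩
  · apply (hb E hE).1
    dsimp only
    rw [Category.assoc, hb', ha, Category.id_comp]
  · apply (hr _ hR).1
    dsimp only
    rw [Category.assoc, ha, hb', Category.id_comp]

/-- restriction along equal morphisms. -/
noncomputable def RDcongr {U : Scheme.{u}} {f g : U ⟶ X} (h : f = g) [IsOpenImmersion f]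
    [IsOpenImmersion g] : DCoh.restrictD f ≅ DCoh.restrictD g := by
  subst h
  exact Iso.refl _

/-- objects vanishing on `W` vanish along any open immersion landing in `W`. -/
lemma isZero_restrict_of_le (W : X.Opens) {V : Scheme.{u}} (k : V ⟶ X) [IsOpenImmersion k]
    (hk : k.opensRange ≤ W) (T : DCoh.D X) (hT : IsZero ((DCoh.restrictD W.ι).obj T)) :
    IsZero ((DCoh.restrictD k).obj T) := by
  have hr : Set.range k.base ⊆ Set.range W.ι.base := by
    rw [Scheme.Opens.range_ι]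
    exact hk
  let k' : V ⟶ W.toScheme := IsOpenImmersion.lift W.ι k hr
  have hfac : k' ≫ W.ι = k := IsOpenImmersion.lift_fac W.ι k hr
  haveI : IsOpenImmersion (k' ≫ W.ι) := by rw [hfac]; infer_instance
  haveI : IsOpenImmersion k' := IsOpenImmersion.of_comp k' W.ι
  exact IsZero.of_iso (Functor.map_isZero (DCoh.restrictD k') hT)
    ((RDcongr hfac.symm).app T ≪≫ (PCS3.RDcomp k' W.ι).app T)

/-- `Rk_* N` is local for any open immersion `k` landing in `W`. -/
theorem isLocalAt_of_iso_rpush (W : X.Opens) {V : Scheme.{u}} (k : V ⟶ X) [IsOpenImmersion k]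
    (hk : k.opensRange ≤ W) [DCoh.HasRpush k] (N : DCoh.D V) (L : DCoh.D X)
    (i : L ≅ (DCoh.Rpush k).obj N) : IsLocalAt W L := by
  intro T hT φ
  haveI : DCoh.HasLpull k := LDS14.hasLpull k
  have hz : IsZero ((DCoh.Lpull k).obj T) :=
    IsZero.of_iso (isZero_restrict_of_le W k hk T hT) ((LDS17.lpullIsoRD k).app T)
  have h : φ ≫ i.hom = 0 :=
    ((LR2.lpullRpushAdj k).homEquiv _ _).symm.injective (hz.eq_of_src _ _)
  rw [← cancel_mono i.hom, h, zero_comp]

end Groth.Agent.Helper7.QB25
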