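import Groth.Agent.Lib.Helper7.QB25
import Groth.Agent.Lib.Helper7.LR4
import Groth.Agent.Lib.Helper7.DRec1
import Groth.Agent.Lib.Helper6.TildePush3
import Groth.Agent.Lib.Helper5.AG.TildeExact
import Groth.Agent.Lib.Helper6.Cech4
import Groth.Agent.Lib.Helper5.ExtCech.Elem
import Groth.Agent.Lib.Helper5.ExtCech.H0

/-!
# The extended Čech complex represents `RΓ_Z(M~)` on an affine scheme (S7267), part 1
-/

set_option autoImplicit false
universe u

open CategoryTheory CategoryTheory.Limits AlgebraicGeometry Pretriangulated
attribute [local instance] HasDerivedCategory.standard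

namespace Groth.Agent.Helper7.QB26

open Groth.Agent.H4 DerivedCategory

variable {A : Type u} [CommRing A]

section loc

variable (S : Submonoid A)

/-- localisation, with values in modules over the localised ring. -/
noncomputable def locB : ModuleCat.{u} A ⥤ ModuleCat.{u} (Localization S) where
  obj M := ModuleCat.of (Localization S) (LocalizedModule S M)
  map {M N} g := ModuleCat.ofHom
    (LinearMap.extendScalarsOfIsLocalization S (Localization S)
      (IsLocalizedModule.map S (LocalizedModule.mkLinearMap S M) (LocalizedModule.mkLinearMap S N)
        g.hom))
  map_id M := by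
    ext x
    exact congrArg (fun h => h.hom (show LocalizedModule S M from x))
      ((DerCA.locFunctor S).map_id M)
  map_comp g g' := by
    ext x
    exact congrArg (fun h => h.hom (show LocalizedModule S _ from x))
      ((DerCA.locFunctor S).map_comp g g')

instance : (locB S).Additive where
  map_add {M N g g'} := by
    ext x
    exact congrArg (fun h => h.hom (show LocalizedModule S _ from x))
      ((DerCA.locFunctor S).map_add (f := g) (g := g'))

/-- the underlying identity, as an `A`-linear equivalence. -/
noncomputable def locBEquiv (M : ModuleCat.{u} A) :
    ((ModuleCat.restrictScalars.{u} (algebraMap A (Localization S))).obj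
        (ModuleCat.of (Localization S) (LocalizedModule S ↑M))) ≃ₗ[A] (LocalizedModule S M) :=
    { toFun := fun x => x
      invFun := fun x => x
      map_add' := fun _ _ => rfl
      map_smul' := fun a x => by
        change (algebraMap A (Localization S) a) • (show LocalizedModule S M from x) = a • _
        rw [algebraMap_smul]
      left_inv := fun _ => rfl
      right_inv := fun _ => rfl }

/-- restricting scalars back recovers the prelude's localisation functor. -/
noncomputable def locBIso :
    locB S ⋙ ModuleCat.restrictScalars.{u} (algebraMap A (Localization S)) ≅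
      DerCA.locFunctor S :=
  NatIso.ofComponents (fun M => (locBEquiv S M).toModuleIso)
    (by
      intro M N g
      ext x
      rfl)

theorem exists_iso_restrictD (K : DRing.Cx A) :
    ∃ N : Dual.D (Localization S),
      Nonempty (Q.obj ((DerCA.locCx S).obj K) ≅
        (DRing.restrictD (algebraMap A (Localization S))).obj N) := by
  refine ⟨Q.obj (((locB S).mapHomologicalComplex (ComplexShape.up ℤ)).obj K), ⟨?_⟩⟩
  have e1 : Q.obj ((DerCA.locCx S).obj K) ≅
      Q.obj (((ModuleCat.restrictScalars.{u} (algebraMap A (Localization S))).mapHomologicalComplex
        (ComplexShape.up ℤ)).obj (((locB S).mapHomologicalComplex (ComplexShape.up ℤ)).obj K)) :=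
    Q.mapIso ((NatIso.mapHomologicalComplex (locBIso S) (ComplexShape.up ℤ)).app K).symm
  exact e1 ≪≫ ((ModuleCat.restrictScalars.{u}
      (algebraMap A (Localization S))).mapDerivedCategoryFactors.app
        (((locB S).mapHomologicalComplex (ComplexShape.up ℤ)).obj K)).symm

end loc

end Groth.Agent.Helper7.QB26
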