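import Groth.Agent.Lib.Helper7.QB26
import Groth.Agent.Lib.Helper2.AlgzEpi2

/-!
# The extended Čech complex represents `RΓ_Z(M~)` on an affine scheme (S7267), part 2
-/

set_option autoImplicit false
universe u

open CategoryTheory CategoryTheory.Limits AlgebraicGeometry Pretriangulated
attribute [local instance] HasDerivedCategory.standard

namespace Groth.Agent.Helper7.QB27

open Groth.Agent.H4 DerivedCategory DerCA Groth.Agent.Helper7.QB26

variable {A : Type u} [CommRing A]

/-- an object of the derived category all of whose cohomology vanishes is zero. -/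
lemma isZero_of_homology {C : Type*} [Category C] [Abelian C] [HasDerivedCategory C]
    (E : DerivedCategory C)
    (h : ∀ n : ℤ, IsZero ((DerivedCategory.homologyFunctor C n).obj E)) : IsZero E := by
  have hiso : IsIso (0 : E ⟶ E) := by
    rw [DerivedCategory.isIso_iff]
    intro n
    exact ⟨0, (h n).eq_of_src _ _, (h n).eq_of_src _ _⟩
  rw [IsZero.iff_id_eq_zero]
  have := IsIso.hom_inv_id (0 : E ⟶ E)
  rw [zero_comp] at this
  exact this.symm

variable [PreservesFiniteLimits (tilde.functor (CommRingCat.of A))]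

/-- `(K_f)~` is local with respect to any open containing `D(f)`. -/
theorem isLocalAt_tilde_loc (f : A) (W : (Spec (CommRingCat.of A)).Opens)
    (hW : (PrimeSpectrum.basicOpen f : (Spec (CommRingCat.of A)).Opens) ≤ W) (K : DRing.Cx A) :
    QB25.IsLocalAt W ((DCoh.tildeD (CommRingCat.of A)).obj
      (Q.obj ((DerCA.locCx (Submonoid.powers f)).obj K))) := by
  haveI : PreservesFiniteLimits (tilde.functor (CommRingCat.of (Localization.Away f))) :=
    Groth.Agent.H5.AG.tilde_preservesFiniteLimits _
  haveI : DCoh.HasRpush (Spec.map (CommRingCat.ofHom (algebraMap A (Localization.Away f)))) :=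
    LR4.hasRpush _
  obtain ⟨e⟩ := Groth.Agent.H6.TildePush.s7268 (algebraMap A (Localization.Away f))
  obtain ⟨N, ⟨i⟩⟩ := exists_iso_restrictD (Submonoid.powers f) K
  refine QB25.isLocalAt_of_iso_rpush W
    (Spec.map (CommRingCat.ofHom (algebraMap A (Localization.Away f)))) ?_
    ((DCoh.tildeD (CommRingCat.of (Localization.Away f))).obj N) _
    ((DCoh.tildeD (CommRingCat.of A)).mapIso i ≪≫ (e.app N).symm)
  rw [Scheme.Hom.opensRange_localizationAway (R := CommRingCat.of A) f]
  exact hW

/-- the tilde of the extended Čech complex vanishes on the punctured open. -/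
theorem isZero_restrict_extCech (M : ModuleCat.{u} A) (fs : List A) :
    IsZero ((DCoh.restrictD (LocCoh.puncturedOpen A (Ideal.span {a | a ∈ fs})).ι).obj
      ((DCoh.tildeD (CommRingCat.of A)).obj (Q.obj (DerCA.extCech M fs)))) := by
  haveI : PreservesFiniteColimits (tilde.functor (CommRingCat.of A)) := by
    haveI : (tilde.functor (CommRingCat.of A)).IsLeftAdjoint := tilde.adjunction.isLeftAdjoint
    infer_instance
  apply isZero_of_homology
  intro n
  refine IsZero.of_iso ?_ (Groth.Agent.H7.DRec.homologyMapDerivedIso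
    (Scheme.Modules.restrictFunctor (LocCoh.puncturedOpen A (Ideal.span {a | a ∈ fs})).ι) _ n)
  refine IsZero.of_iso ?_ ((Scheme.Modules.restrictFunctor _).mapIso
    (Groth.Agent.H7.DRec.homologyMapDerivedIso (tilde.functor (CommRingCat.of A))
      (Q.obj (DerCA.extCech M fs)) n ≪≫
      (tilde.functor (CommRingCat.of A)).mapIso
        ((DerivedCategory.homologyFunctorFactors (ModuleCat.{u} A) n).app (DerCA.extCech M fs))))
  apply Groth.Agent.H2.AlgzEpi.isZero_restrict_tilde
  intro x hx
  have hx' : ¬ ((Ideal.span {a | a ∈ fs} : Ideal A) : Set A) ⊆ x.asIdeal := hx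
  have : ∃ g ∈ fs, g ∉ x.asIdeal := by
    by_contra hcon
    push_neg at hcon
    apply hx'
    have : Ideal.span {a | a ∈ fs} ≤ x.asIdeal := Ideal.span_le.2 (fun a ha => hcon a ha)
    exact this
  obtain ⟨g, hg, hgx⟩ := this
  refine ⟨g, hgx, fun q => ?_⟩
  exact H5ExtCech.exists_pow_smul_homology_eq_zero g M fs hg n q

lemma puncturedOpen_le_cons (f : A) (fs : List A) :
    LocCoh.puncturedOpen A (Ideal.span {a | a ∈ fs}) ≤
      LocCoh.puncturedOpen A (Ideal.span {a | a ∈ f :: fs}) := by
  intro x hx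
  have hx' : ¬ ((Ideal.span {a | a ∈ fs} : Ideal A) : Set A) ⊆ x.asIdeal := hx
  change ¬ ((Ideal.span {a | a ∈ f :: fs} : Ideal A) : Set A) ⊆ x.asIdeal
  intro h
  apply hx'
  refine subset_trans ?_ h
  have : Ideal.span {a | a ∈ fs} ≤ Ideal.span {a | a ∈ f :: fs} :=
    Ideal.span_mono (fun a ha => List.mem_cons_of_mem f ha)
  exact this

lemma basicOpen_le_cons (f : A) (fs : List A) :
    (PrimeSpectrum.basicOpen f : (Spec (CommRingCat.of A)).Opens) ≤
      LocCoh.puncturedOpen A (Ideal.span {a | a ∈ f :: fs}) := by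
  intro x hx
  change ¬ ((Ideal.span {a | a ∈ f :: fs} : Ideal A) : Set A) ⊆ x.asIdeal
  intro h
  apply hx
  exact h (Ideal.subset_span (List.mem_cons_self))

/-- maps from objects supported on `V(fs)` into `(extCech M fs)~` and into `M~` agree. -/
theorem bij_aug (M : ModuleCat.{u} A) : ∀ (fs : List A) (T : DCoh.D (Spec (CommRingCat.of A))),
    IsZero ((DCoh.restrictD (LocCoh.puncturedOpen A (Ideal.span {a | a ∈ fs})).ι).obj T) →
    Function.Bijective (fun ψ : T ⟶ (DCoh.tildeD (CommRingCat.of A)).obj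
        (Q.obj (DerCA.extCech M fs)) =>
      ψ ≫ (DCoh.tildeD (CommRingCat.of A)).map (Q.map (Groth.Agent.H6.Cech.aug M fs)))
  | [], T, _ => by
    have h1 : (DCoh.tildeD (CommRingCat.of A)).map (Q.map (Groth.Agent.H6.Cech.aug M [])) =
        𝟙 _ := by
      change (DCoh.tildeD (CommRingCat.of A)).map (Q.map (𝟙 _)) = 𝟙 _
      rw [CategoryTheory.Functor.map_id, CategoryTheory.Functor.map_id]
    rw [h1]
    constructor
    · intro a b hab
      exact ((Category.comp_id a).symm.trans hab).trans (Category.comp_id b)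
    · intro b
      exact ⟨b, Category.comp_id b⟩
  | f :: fs, T, hT => by
    have hT' : IsZero ((DCoh.restrictD
        (LocCoh.puncturedOpen A (Ideal.span {a | a ∈ fs})).ι).obj T) := by
      refine QB25.isZero_restrict_of_le _ _ ?_ T hT
      rw [Scheme.Opens.opensRange_ι]
      exact puncturedOpen_le_cons f fs
    have hdist := (DCoh.tildeD (CommRingCat.of A)).map_distinguished _
      (Qh.map_distinguished _ (H5ExtCech.mappingCocone_triangleh_distinguished
        (DerCA.locCxUnit (Submonoid.powers f) (DerCA.extCech M fs))))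
    have h1 : Function.Bijective (fun ψ : T ⟶ (DCoh.tildeD (CommRingCat.of A)).obj
        (Q.obj (CochainComplex.mappingCocone (DerCA.locCxUnit (Submonoid.powers f)
          (DerCA.extCech M fs)))) =>
        ψ ≫ (DCoh.tildeD (CommRingCat.of A)).map (Q.map
          (CochainComplex.mappingCocone.fst (DerCA.locCxUnit (Submonoid.powers f)
            (DerCA.extCech M fs))))) :=
      QB25.bijective_of_triangle
        (LocCoh.puncturedOpen A (Ideal.span {a | a ∈ f :: fs})) _ hdist
        (isLocalAt_tilde_loc f _ (basicOpen_le_cons f fs) (DerCA.extCech M fs)) T hT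
    have h2 := bij_aug M fs T hT'
    have heq : (fun ψ : T ⟶ (DCoh.tildeD (CommRingCat.of A)).obj
        (Q.obj (DerCA.extCech M (f :: fs))) =>
        ψ ≫ (DCoh.tildeD (CommRingCat.of A)).map
          (Q.map (Groth.Agent.H6.Cech.aug M (f :: fs)))) =
      (fun ψ : T ⟶ (DCoh.tildeD (CommRingCat.of A)).obj (Q.obj (DerCA.extCech M fs)) =>
        ψ ≫ (DCoh.tildeD (CommRingCat.of A)).map (Q.map (Groth.Agent.H6.Cech.aug M fs))) ∘
      (fun ψ : T ⟶ (DCoh.tildeD (CommRingCat.of A)).obj
        (Q.obj (CochainComplex.mappingCocone (DerCA.locCxUnit (Submonoid.powers f)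
          (DerCA.extCech M fs)))) =>
        ψ ≫ (DCoh.tildeD (CommRingCat.of A)).map (Q.map
          (CochainComplex.mappingCocone.fst (DerCA.locCxUnit (Submonoid.powers f)
            (DerCA.extCech M fs))))) := by
      funext ψ
      change ψ ≫ (DCoh.tildeD (CommRingCat.of A)).map (Q.map
        (CochainComplex.mappingCocone.fst (DerCA.locCxUnit (Submonoid.powers f)
          (DerCA.extCech M fs)) ≫ Groth.Agent.H6.Cech.aug M fs)) = (ψ ≫ _) ≫ _
      rw [CategoryTheory.Functor.map_comp, CategoryTheory.Functor.map_comp, Category.assoc]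
      rfl
    rw [heq]
    exact h2.comp h1

theorem s7267 (fs : List A) (M : ModuleCat.{u} A)
    [CxOX.HasRgammaZ (LocCoh.puncturedOpen A (Ideal.span {a | a ∈ fs})).ι] :
    Nonempty ((DCoh.tildeD (CommRingCat.of A)).obj (DRing.toD (DerCA.extCech M fs)) ≅
      (CxOX.RgammaZ (LocCoh.puncturedOpen A (Ideal.span {a | a ∈ fs})).ι).obj
        ((DCoh.tildeD (CommRingCat.of A)).obj (Dual.inD A M))) := by
  obtain ⟨e⟩ := QB25.nonempty_iso_rgammaZ (LocCoh.puncturedOpen A (Ideal.span {a | a ∈ fs}))
    ((DCoh.tildeD (CommRingCat.of A)).obj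
      (Q.obj ((HomologicalComplex.single (ModuleCat.{u} A) (ComplexShape.up ℤ) 0).obj M)))
    ((DCoh.tildeD (CommRingCat.of A)).obj (Q.obj (DerCA.extCech M fs)))
    ((DCoh.tildeD (CommRingCat.of A)).map (Q.map (Groth.Agent.H6.Cech.aug M fs)))
    (isZero_restrict_extCech M fs) (bij_aug M fs)
  exact ⟨e ≪≫ (CxOX.RgammaZ (LocCoh.puncturedOpen A (Ideal.span {a | a ∈ fs})).ι).mapIso
    ((DCoh.tildeD (CommRingCat.of A)).mapIso
      ((DerivedCategory.singleFunctorIsoCompQ (ModuleCat.{u} A) 0).app M).symm)⟩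

end Groth.Agent.Helper7.QB27
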