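import Mathlib

/-!
# Torsion arguments in linear pretriangulated categories
-/

set_option autoImplicit false
universe u v w

open CategoryTheory CategoryTheory.Limits Pretriangulated

namespace Groth.Agent.Helper7.QB28

variable {R : Type w} [CommRing R] {C : Type u} [Category.{v} C] [Preadditive C] [HasZeroObject C]
  [HasShift C ℤ] [∀ n : ℤ, (shiftFunctor C n).Additive] [Pretriangulated C]
  [Linear R C] [∀ n : ℤ, (shiftFunctor C n).Linear R]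

lemma smul_id_shift (r : R) (X : C) (n : ℤ) : (r • 𝟙 X)⟦n⟧' = r • 𝟙 (X⟦n⟧) := by
  rw [CategoryTheory.Functor.map_smul, CategoryTheory.Functor.map_id]

lemma smul_eq_id_comp (r : R) {X Y : C} (φ : X ⟶ Y) : r • φ = (r • 𝟙 X) ≫ φ := by
  rw [Linear.smul_comp, Category.id_comp]

lemma smul_eq_comp_id (r : R) {X Y : C} (φ : X ⟶ Y) : r • φ = φ ≫ (r • 𝟙 Y) := by
  rw [Linear.comp_smul, Category.comp_id]

/-- exactness at the middle term, after shifting. -/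
lemma exact₂_shift (T : Triangle C) (hT : T ∈ distTriang C) (n : ℤ) {N : C}
    (φ : T.obj₂⟦n⟧ ⟶ N) (h : T.mor₁⟦n⟧' ≫ φ = 0) :
    ∃ ψ : T.obj₃⟦n⟧ ⟶ N, φ = T.mor₂⟦n⟧' ≫ ψ := by
  have hT' := Triangle.shift_distinguished T hT n
  obtain ⟨ψ, hψ⟩ : ∃ ψ : T.obj₃⟦n⟧ ⟶ N, φ = (n.negOnePow • T.mor₂⟦n⟧') ≫ ψ :=
    Triangle.yoneda_exact₂ _ hT' φ (by
      change (n.negOnePow • T.mor₁⟦n⟧') ≫ φ = 0
      rw [Linear.units_smul_comp, h, smul_zero])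
  refine ⟨n.negOnePow • ψ, ?_⟩
  rw [hψ]
  exact (Linear.units_smul_comp n.negOnePow (T.mor₂⟦n⟧') ψ).trans
    (Linear.comp_units_smul (T.mor₂⟦n⟧') n.negOnePow ψ).symm

/-- exactness at the third term, after shifting. -/
lemma exact₃_shift (T : Triangle C) (hT : T ∈ distTriang C) (n : ℤ) {N : C}
    (φ : T.obj₃⟦n⟧ ⟶ N) (h : T.mor₂⟦n⟧' ≫ φ = 0) :
    ∃ ψ : T.obj₁⟦(1 : ℤ)⟧⟦n⟧ ⟶ N, φ = T.mor₃⟦n⟧' ≫ ψ := by
  have hT' := Triangle.shift_distinguished T hT n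
  obtain ⟨ψ, hψ⟩ : ∃ ψ : T.obj₁⟦n⟧⟦(1 : ℤ)⟧ ⟶ N,
      φ = (n.negOnePow • (T.mor₃⟦n⟧' ≫ (shiftFunctorComm C 1 n).hom.app T.obj₁)) ≫ ψ :=
    Triangle.yoneda_exact₃ _ hT' φ (by
      change (n.negOnePow • T.mor₂⟦n⟧') ≫ φ = 0
      rw [Linear.units_smul_comp, h, smul_zero])
  refine ⟨n.negOnePow • ((shiftFunctorComm C 1 n).hom.app T.obj₁ ≫ ψ), ?_⟩
  rw [hψ]
  refine (Linear.units_smul_comp n.negOnePow _ ψ).trans ?_
  rw [Category.assoc]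
  exact (Linear.comp_units_smul (T.mor₃⟦n⟧') n.negOnePow _).symm

/-- if `a` kills the first and `b` the second vertex of a distinguished triangle, then `a * b`
kills the third. -/
theorem smul_id_obj₃ (T : Triangle C) (hT : T ∈ distTriang C) (a b : R)
    (ha : a • 𝟙 T.obj₁ = 0) (hb : b • 𝟙 T.obj₂ = 0) : (a * b) • 𝟙 T.obj₃ = 0 := by
  have h1 : T.mor₂ ≫ (b • 𝟙 T.obj₃) = 0 := by
    rw [← smul_eq_comp_id, smul_eq_id_comp, hb, zero_comp]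
  obtain ⟨ψ, hψ⟩ := Triangle.yoneda_exact₃ _ hT _ h1
  rw [mul_smul, hψ, smul_eq_comp_id a (T.mor₃ ≫ ψ), Category.assoc,
    ← smul_eq_comp_id, smul_eq_id_comp a ψ, ← smul_id_shift, ha, Functor.map_zero, zero_comp,
    comp_zero]

/-- the cone of multiplication by `f` is killed by `f * f`. -/
theorem sq_smul_id_cone (f : R) (X Z : C) (v : X ⟶ Z) (w : Z ⟶ X⟦(1 : ℤ)⟧)
    (hT : Triangle.mk (f • 𝟙 X) v w ∈ distTriang C) : (f * f) • 𝟙 Z = 0 := by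
  have h12 : (f • 𝟙 X) ≫ v = 0 := comp_distTriang_mor_zero₁₂ _ hT
  have h31 : w ≫ (f • 𝟙 X)⟦(1 : ℤ)⟧' = 0 := comp_distTriang_mor_zero₃₁ _ hT
  have h1 : v ≫ (f • 𝟙 Z) = 0 := by
    rw [← smul_eq_comp_id, smul_eq_id_comp, h12]
  obtain ⟨ψ, hψ⟩ := Triangle.yoneda_exact₃ _ hT (f • 𝟙 Z) h1
  change f • 𝟙 Z = w ≫ ψ at hψ
  rw [mul_smul, hψ, smul_eq_id_comp f (w ≫ ψ), ← Category.assoc, ← smul_eq_id_comp,
    smul_eq_comp_id f w, ← smul_id_shift, h31, zero_comp]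

variable (N : C) (f : R)

/-- every shifted map from `P` to `N` is killed by a power of `f`. -/
def Tors (P : C) : Prop := ∀ (n : ℤ) (φ : P⟦n⟧ ⟶ N), ∃ k : ℕ, f ^ k • φ = 0

/-- the torsion property passes to cones. -/
theorem tors_obj₃ (T : Triangle C) (hT : T ∈ distTriang C) (h1 : Tors N f T.obj₁)
    (h2 : Tors N f T.obj₂) : Tors N f T.obj₃ := by
  intro n φ
  obtain ⟨k, hk⟩ := h2 n (T.mor₂⟦n⟧' ≫ φ)
  rw [← Linear.comp_smul] at hk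
  obtain ⟨ψ, hψ⟩ := exact₃_shift T hT n (f ^ k • φ) hk
  let e := (shiftFunctorAdd' C (1 : ℤ) n (1 + n) rfl).app T.obj₁
  obtain ⟨m, hm⟩ := h1 (1 + n) (e.hom ≫ ψ)
  rw [← Linear.comp_smul] at hm
  have hm' : f ^ m • ψ = 0 := by
    rw [← cancel_epi e.hom, hm, comp_zero]
  refine ⟨m + k, ?_⟩
  rw [pow_add, mul_smul, hψ, ← Linear.comp_smul, hm', comp_zero]

/-- if all shifted maps from the cone of `f` on `X` to `N` vanish, multiplication by `f` is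
injective on shifted maps from `X` to `N`. -/
theorem inj_of_cone (X Z : C) (v : X ⟶ Z) (w : Z ⟶ X⟦(1 : ℤ)⟧)
    (hT : Triangle.mk (f • 𝟙 X) v w ∈ distTriang C)
    (hZ : ∀ (n : ℤ) (φ : Z⟦n⟧ ⟶ N), φ = 0) (n : ℤ) (φ : X⟦n⟧ ⟶ N) (hφ : f • φ = 0) : φ = 0 := by
  obtain ⟨ψ, hψ⟩ := exact₂_shift _ hT n φ (by
    change (f • 𝟙 X)⟦n⟧' ≫ φ = 0
    rw [smul_id_shift, ← smul_eq_id_comp, hφ])
  rw [hψ, hZ n ψ]
  exact comp_zero

omit [HasZeroObject C] [HasShift C ℤ] [∀ n : ℤ, (shiftFunctor C n).Additive] [Pretriangulated C]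
  [∀ n : ℤ, (shiftFunctor C n).Linear R] in
lemma eq_zero_of_inj_of_pow {X Y : C} (hinj : ∀ φ : X ⟶ Y, f • φ = 0 → φ = 0) (φ : X ⟶ Y)
    (k : ℕ) (hk : f ^ k • φ = 0) : φ = 0 := by
  induction k with
  | zero => simpa using hk
  | succ k ih =>
    apply ih
    apply hinj
    rw [← mul_smul, ← pow_succ']
    exact hk

end Groth.Agent.Helper7.QB28
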