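import Groth.Agent.Lib.Helper7.QB28
import Groth.Agent.H4.AP1
import Groth.Agent.Lib.Helper5.ExtCech.H0
import Groth.Prelude

/-!
# The Koszul complex generates the torsion part of `D(A)`
-/

set_option autoImplicit false
universe u

open CategoryTheory CategoryTheory.Limits Pretriangulated

namespace Groth.Agent.Helper7.QB29

attribute [local instance] HasDerivedCategory.standard

open DerivedCategory Groth.Agent.H4 Groth.Agent.H4.ProjAmp

variable {A : Type u} [CommRing A]

/-- the Koszul triangle. -/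
lemma koszul_triangle (f : A) (fs : List A) :
    ∃ (v : Q.obj (Koszul.koszul A fs) ⟶ Q.obj (Koszul.koszul A (f :: fs)))
      (w : Q.obj (Koszul.koszul A (f :: fs)) ⟶ (Q.obj (Koszul.koszul A fs))⟦(1 : ℤ)⟧),
      Triangle.mk (f • 𝟙 (Q.obj (Koszul.koszul A fs))) v w ∈
        distTriang (DerivedCategory (ModuleCat.{u} A)) := by
  have h := DerivedCategory.mappingCone_triangle_distinguished (f • 𝟙 (Koszul.koszul A fs))
  have e : Q.map (f • 𝟙 (Koszul.koszul A fs)) = f • 𝟙 (Q.obj (Koszul.koszul A fs)) := by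
    rw [CategoryTheory.Functor.map_smul, CategoryTheory.Functor.map_id]
  refine ⟨Q.map (CochainComplex.mappingCone.inr (f • 𝟙 (Koszul.koszul A fs))),
    Q.map (CochainComplex.mappingCone.triangle (f • 𝟙 (Koszul.koszul A fs))).mor₃ ≫
      (Q.commShiftIso (1 : ℤ)).hom.app (Koszul.koszul A fs), ?_⟩
  rw [← e]
  exact h

/-- the Koszul complex is killed by powers of its elements. -/
theorem koszul_tors : ∀ (fs : List A) (g : A), g ∈ fs →
    ∃ k : ℕ, g ^ k • 𝟙 (Q.obj (Koszul.koszul A fs)) = 0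
  | [], g, hg => by simp at hg
  | f :: fs, g, hg => by
    obtain ⟨v, w, hT⟩ := koszul_triangle f fs
    rcases List.mem_cons.1 hg with rfl | hg'
    · refine ⟨2, ?_⟩
      rw [pow_two]
      exact QB28.sq_smul_id_cone g _ _ v w hT
    · obtain ⟨k, hk⟩ := koszul_tors fs g hg'
      refine ⟨k + k, ?_⟩
      rw [pow_add]
      exact QB28.smul_id_obj₃ _ hT (g ^ k) (g ^ k) hk hk

variable (N : DerivedCategory (ModuleCat.{u} A)) (f : A)

/-- torsion dévissage along the Koszul complex. -/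
theorem tors_koszul (hW : ∀ (i : ℤ) (ψ : AP1.W A i ⟶ N), ∃ k : ℕ, f ^ k • ψ = 0) :
    ∀ fs : List A, QB28.Tors N f (Q.obj (Koszul.koszul A fs))
  | [] => by
    intro n φ
    let e : AP1.W A (-n) ≅ (Q.obj (Koszul.koszul A []))⟦n⟧ :=
      (shI (ModuleCat.of A A) n (-n) (by simp)).symm ≪≫
        (shiftFunctor _ n).mapIso
          ((singleFunctorIsoCompQ (ModuleCat.{u} A) 0).app (ModuleCat.of A A))
    obtain ⟨k, hk⟩ := hW (-n) (e.hom ≫ φ)
    refine ⟨k, ?_⟩
    rw [← Linear.comp_smul] at hk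
    rw [← cancel_epi e.hom, hk, comp_zero]
  | g :: fs => by
    obtain ⟨v, w, hT⟩ := koszul_triangle g fs
    exact QB28.tors_obj₃ N f _ hT (tors_koszul hW fs) (tors_koszul hW fs)

/-- **the Koszul complex detects torsion objects.** -/
theorem isZero_of_koszul_orthogonal : ∀ (fs : List A) (N : DerivedCategory (ModuleCat.{u} A)),
    (∀ g ∈ fs, ∀ (i : ℤ) (ψ : AP1.W A i ⟶ N), ∃ k : ℕ, g ^ k • ψ = 0) →
    (∀ (n : ℤ) (φ : (Q.obj (Koszul.koszul A fs))⟦n⟧ ⟶ N), φ = 0) → IsZero N
  | [], N, _, h => by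
    apply AP1.isZero_of_forall_hom_W
    intro i ψ
    let e : AP1.W A i ≅ (Q.obj (Koszul.koszul A []))⟦-i⟧ :=
      (shI (ModuleCat.of A A) (-i) i (by simp)).symm ≪≫
        (shiftFunctor _ (-i)).mapIso
          ((singleFunctorIsoCompQ (ModuleCat.{u} A) 0).app (ModuleCat.of A A))
    have := h (-i) (e.inv ≫ ψ)
    rw [← cancel_epi e.inv, this, comp_zero]
  | f :: fs, N, ht, h => by
    obtain ⟨v, w, hT⟩ := koszul_triangle f fs
    apply isZero_of_koszul_orthogonal fs N (fun g hg => ht g (List.mem_cons_of_mem f hg))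
    intro n φ
    obtain ⟨k, hk⟩ := tors_koszul N f (ht f List.mem_cons_self) fs n φ
    exact QB28.eq_zero_of_inj_of_pow f (fun φ' h' => QB28.inj_of_cone N f _ _ v w hT h n φ' h')
      φ k hk

end Groth.Agent.Helper7.QB29
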