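import Groth.Agent.Lib.Helper7.QB29
import Groth.Agent.Lib.Helper7.WayOut1
import Groth.Agent.Lib.Helper3.PerfAux

/-!
# Torsion cohomology gives torsion maps from `A[-i]`
-/

set_option autoImplicit false
universe u

open CategoryTheory CategoryTheory.Limits Pretriangulated

namespace Groth.Agent.Helper7.QB30

attribute [local instance] HasDerivedCategory.standard

open DerivedCategory Groth.Agent.H4 Groth.Agent.H4.ProjAmp

variable {A : Type u} [CommRing A]

theorem tors_W (N : DerivedCategory (ModuleCat.{u} A)) (f : A)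
    (hN : ∀ (i : ℤ) (x : ((homologyFunctor (ModuleCat.{u} A) i).obj N : ModuleCat.{u} A)),
      ∃ k : ℕ, f ^ k • x = 0) (i : ℤ) (ψ : AP1.W A i ⟶ N) : ∃ k : ℕ, f ^ k • ψ = 0 := by
  let t := (DerivedCategory.TStructure.t : CategoryTheory.Triangulated.TStructure (DerivedCategory (ModuleCat.{u} A)))
  let π := (t.truncGEπ i).app N
  haveI : IsIso ((homologyFunctor (ModuleCat.{u} A) i).map π) :=
    Groth.Agent.H7.WayOut.isIso_homology_truncGEπ N i i le_rfl
  haveI : ((t.truncGE i).obj N).IsGE i := inferInstanceAs (t.IsGE ((t.truncGE i).obj N) i)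
  obtain ⟨C, hC, ⟨e⟩⟩ := ((t.truncGE i).obj N).exists_iso_Q_obj_of_isGE i
  haveI := hC
  obtain ⟨c, hc⟩ := Groth.Agent.H3.PerfAux.exists_map_of_isKProjective
    (sgl (ModuleCat.of A A) i) C (ψ ≫ π ≫ e.hom)
  let θ : (homologyFunctor (ModuleCat.{u} A) i).obj N ≅ C.homology i :=
    asIso ((homologyFunctor (ModuleCat.{u} A) i).map π) ≪≫
      (homologyFunctor (ModuleCat.{u} A) i).mapIso e ≪≫
      (homologyFunctorFactors (ModuleCat.{u} A) i).app C
  have htors : ∀ y : C.homology i, ∃ k : ℕ, f ^ k • y = 0 := by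
    intro y
    obtain ⟨k, hk⟩ := hN i (θ.inv.hom y)
    refine ⟨k, ?_⟩
    have h1 : θ.hom.hom (f ^ k • θ.inv.hom y) = f ^ k • y := by
      rw [map_smul]
      congr 1
      exact congr($(θ.inv_hom_id).hom y)
    rw [← h1, hk, map_zero]
  let s := HomologicalComplex.singleObjXSelf (ComplexShape.up ℤ) i (ModuleCat.of A A)
  let gen : (sgl (ModuleCat.of A A) i).X i := s.inv.hom (1 : A)
  have hd : c.f i ≫ C.d i (i + 1) = 0 := by
    rw [c.comm, HomologicalComplex.single_obj_d, zero_comp]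
  let κ := C.liftCycles (c.f i) (i + 1) (by simp) hd
  have hκ : κ ≫ C.iCycles i = c.f i := C.liftCycles_i _ _ _ _
  obtain ⟨k, hk⟩ := htors ((C.homologyπ i).hom (κ.hom gen))
  have h1 : (C.homologyπ i).hom (f ^ k • κ.hom gen) = 0 := by
    rw [map_smul]
    exact hk
  have h2 : f ^ k • κ.hom gen = 0 :=
    H5ExtCech.cycle_eq_zero_of_homologyπ_eq_zero C i (C.isZero_of_isStrictlyGE i (i - 1) (by omega))
      _ h1
  have h3 : f ^ k • (c.f i).hom gen = 0 := by
    have h := congrArg (C.iCycles i).hom h2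
    rw [map_smul, map_zero] at h
    have h' : (C.iCycles i).hom (κ.hom gen) = (c.f i).hom gen := congr($(hκ).hom gen)
    rw [h'] at h
    exact h
  have h4 : f ^ k • c = 0 := by
    apply HomologicalComplex.from_single_hom_ext
    ext a
    have ha : a = (s.hom.hom a) • gen := by
      have h0 : s.inv.hom (s.hom.hom a) = a := congr($(s.hom_inv_id).hom a)
      conv_lhs => rw [← h0]
      change s.inv.hom (s.hom.hom a) = (s.hom.hom a) • s.inv.hom (1 : A)
      rw [← map_smul, smul_eq_mul, mul_one]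
    change f ^ k • (c.f i).hom a = 0
    rw [ha, map_smul, smul_comm, h3, smul_zero]
  have h5 : (f ^ k • ψ) ≫ π = 0 := by
    rw [← cancel_mono e.hom, Category.assoc, Linear.smul_comp, ← hc,
      ← CategoryTheory.Functor.map_smul, h4, CategoryTheory.Functor.map_zero, zero_comp]
  obtain ⟨θ', hθ'⟩ := Triangle.coyoneda_exact₂ _ (t.triangleLTGE_distinguished i N) (f ^ k • ψ) h5
  haveI : ((t.truncLT i).obj N).IsLE (i - 1) :=
    inferInstanceAs (t.IsLE ((t.truncLT i).obj N) (i - 1))
  refine ⟨k, ?_⟩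
  rw [hθ', AP1.hom_W_eq_zero_of_isLE _ (i - 1) i (by omega) θ']
  exact zero_comp

end Groth.Agent.Helper7.QB30
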