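import Groth.Agent.Lib.Helper7.QB30
import Groth.Agent.Lib.Helper7.QB27
import Groth.Agent.Lib.Helper7.QB24
import Groth.Agent.Lib.Helper7.QB3
import Groth.Agent.Lib.Helper7.QB2
import Groth.Agent.Lib.Helper6.QcVan6
import Groth.Agent.Lib.Helper6.MDw6
import Groth.Agent.Lib.Lead.QC.UnitKer

/-!
# Objects orthogonal to the Koszul complex are pushed forward from the complement (S1044)
-/

set_option autoImplicit false
universe u

open CategoryTheory CategoryTheory.Limits AlgebraicGeometry Pretriangulated Opposite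
attribute [local instance] HasDerivedCategory.standard

namespace Groth.Agent.Helper7.QB31

open Groth.Agent.H4 DerivedCategory Groth.Agent.Helper7.QB26 Groth.Agent.Helper7.QB27

variable {A : Type u} [CommRing A]

lemma basicOpen_le_of_mem (fs : List A) (g : A) (hg : g ∈ fs) :
    (PrimeSpectrum.basicOpen g : (Spec (CommRingCat.of A)).Opens) ≤
      LocCoh.puncturedOpen A (Ideal.span {a | a ∈ fs}) := by
  intro x hx
  change ¬ ((Ideal.span {a | a ∈ fs} : Ideal A) : Set A) ⊆ x.asIdeal
  intro h
  apply hx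
  exact h (Ideal.subset_span hg)

lemma isCompact_puncturedOpen (fs : List A) :
    IsCompact ((LocCoh.puncturedOpen A (Ideal.span {a | a ∈ fs})) :
      Set (Spec (CommRingCat.of A))) := by
  classical
  have hI : (Ideal.span {a | a ∈ fs} : Ideal A).FG := by
    refine ⟨fs.toFinset, ?_⟩
    congr 1
    ext a
    simp
  exact ((PrimeSpectrum.isCompact_isOpen_iff_ideal
    (s := (LocCoh.puncturedOpen A (Ideal.span {a | a ∈ fs})).1)).2 ⟨_, hI, rfl⟩).1

/-- a quasi-compact open of a quasi-separated scheme has quasi-compact inclusion. -/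
theorem quasiCompact_ι_of_isCompact {S : Scheme.{u}} [QuasiSeparatedSpace S] (U : S.Opens)
    (hU : IsCompact (U : Set S)) : QuasiCompact U.ι := by
  rw [quasiCompact_iff_forall_isAffineOpen]
  intro V hV
  have h1 : IsCompact ((U ⊓ V : S.Opens) : Set S) :=
    QuasiSeparatedSpace.inter_isCompact _ _ U.isOpen hU V.isOpen hV.isCompact
  have h2 : ((U.ι ⁻¹ᵁ V : (U : Scheme.{u}).Opens) : Set U) =
      U.ι ⁻¹' ((U ⊓ V : S.Opens) : Set S) := by
    ext x
    simp only [Scheme.Hom.coe_preimage, Set.mem_preimage, SetLike.mem_coe, TopologicalSpace.Opens.coe_inf,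
      Set.mem_inter_iff]
    constructor
    · intro h; exact ⟨x.2, h⟩
    · intro h; exact h.2
  rw [h2]
  exact U.ι.isOpenEmbedding.isInducing.isCompact_preimage' h1 (by
    rw [Scheme.Opens.range_ι]; exact Set.inter_subset_left)

/-- Koszul cohomology is killed by powers of the elements. -/
lemma koszul_homology_tors (fs : List A) (g : A) (hg : g ∈ fs) (n : ℤ)
    (x : ((Koszul.koszul A fs).homology n : ModuleCat.{u} A)) : ∃ k : ℕ, g ^ k • x = 0 := by
  obtain ⟨k, hk⟩ := QB29.koszul_tors fs g hg
  refine ⟨k, ?_⟩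
  have e : Q.map (g ^ k • 𝟙 (Koszul.koszul A fs)) = 0 := by
    rw [CategoryTheory.Functor.map_smul, CategoryTheory.Functor.map_id]
    exact hk
  have h0 : HomologicalComplex.homologyMap (g ^ k • 𝟙 (Koszul.koszul A fs)) n = 0 := by
    have nat := (homologyFunctorFactors (ModuleCat.{u} A) n).hom.naturality
      (g ^ k • 𝟙 (Koszul.koszul A fs))
    dsimp at nat
    rw [e, CategoryTheory.Functor.map_zero, zero_comp] at nat
    exact (cancel_epi ((homologyFunctorFactors (ModuleCat.{u} A) n).hom.app
      (Koszul.koszul A fs))).1 (nat.symm.trans comp_zero.symm)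
  obtain ⟨z, rfl⟩ := H5ExtCech.homologyπ_surjective (Koszul.koszul A fs) n x
  have h1 := H5ExtCech.homologyMap_homologyπ (g ^ k • 𝟙 (Koszul.koszul A fs)) n z
  rw [h0] at h1
  have h2 : (HomologicalComplex.cyclesMap (g ^ k • 𝟙 (Koszul.koszul A fs)) n).hom z =
      g ^ k • z := by
    apply H5ExtCech.iCycles_injective (Koszul.koszul A fs) n
    rw [H5ExtCech.iCycles_cyclesMap, map_smul]
    rfl
  rw [h2, map_smul] at h1
  exact h1.symm

variable [PreservesFiniteLimits (tilde.functor (CommRingCat.of A))]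

/-- the tilde of the Koszul complex vanishes on the punctured open. -/
theorem isZero_restrict_koszul (fs : List A) :
    IsZero ((DCoh.restrictD (LocCoh.puncturedOpen A (Ideal.span {a | a ∈ fs})).ι).obj
      ((DCoh.tildeD (CommRingCat.of A)).obj (Q.obj (Koszul.koszul A fs)))) := by
  haveI : PreservesFiniteColimits (tilde.functor (CommRingCat.of A)) := by
    haveI : (tilde.functor (CommRingCat.of A)).IsLeftAdjoint := tilde.adjunction.isLeftAdjoint
    infer_instance
  apply isZero_of_homology
  intro n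
  refine IsZero.of_iso ?_ (Groth.Agent.H7.DRec.homologyMapDerivedIso
    (Scheme.Modules.restrictFunctor (LocCoh.puncturedOpen A (Ideal.span {a | a ∈ fs})).ι) _ n)
  refine IsZero.of_iso ?_ ((Scheme.Modules.restrictFunctor _).mapIso
    (Groth.Agent.H7.DRec.homologyMapDerivedIso (tilde.functor (CommRingCat.of A))
      (Q.obj (Koszul.koszul A fs)) n ≪≫
      (tilde.functor (CommRingCat.of A)).mapIso
        ((DerivedCategory.homologyFunctorFactors (ModuleCat.{u} A) n).app (Koszul.koszul A fs))))
  apply Groth.Agent.H2.AlgzEpi.isZero_restrict_tilde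
  intro x hx
  have hx' : ¬ ((Ideal.span {a | a ∈ fs} : Ideal A) : Set A) ⊆ x.asIdeal := hx
  have : ∃ g ∈ fs, g ∉ x.asIdeal := by
    by_contra hcon
    push_neg at hcon
    apply hx'
    have : Ideal.span {a | a ∈ fs} ≤ x.asIdeal := Ideal.span_le.2 (fun a ha => hcon a ha)
    exact this
  obtain ⟨g, hg, hgx⟩ := this
  exact ⟨g, hgx, fun q => koszul_homology_tors fs g hg n q⟩

end Groth.Agent.Helper7.QB31
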