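import Groth.Agent.Lib.Helper7.QB31

/-!
# Objects orthogonal to the Koszul complex are pushed forward from the complement (S1044), II
-/

set_option autoImplicit false
universe u

open CategoryTheory CategoryTheory.Limits AlgebraicGeometry Pretriangulated Opposite
attribute [local instance] HasDerivedCategory.standard

namespace Groth.Agent.Helper7.QB32

open Groth.Agent.H4 DerivedCategory Groth.Agent.Helper7.QB26 Groth.Agent.Helper7.QB27
  Groth.Agent.Helper7.QB31

lemma tors_of_subsingleton_basicOpen {R : CommRingCat.{u}} (Q : ModuleCat.{u} R) (f : R)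
    (h : Subsingleton ((modulesSpecToSheaf.obj (tilde Q)).presheaf.obj
      (op (PrimeSpectrum.basicOpen f)))) (q : Q) : ∃ k : ℕ, f ^ k • q = 0 := by
  rw [IsLocalizedModule.subsingleton_iff (Submonoid.powers f)
    (tilde.toOpen Q (PrimeSpectrum.basicOpen f)).hom] at h
  obtain ⟨r, ⟨k, rfl⟩, hr⟩ := h q
  exact ⟨k, hr⟩

variable {A : Type u} [CommRing A] [PreservesFiniteLimits (tilde.functor (CommRingCat.of A))]

/-- vanishing on the punctured open forces torsion cohomology. -/
theorem tors_of_isZero_restrict (fs : List A) (N : DerivedCategory (ModuleCat.{u} A))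
    (h : IsZero ((DCoh.restrictD (LocCoh.puncturedOpen A (Ideal.span {a | a ∈ fs})).ι).obj
      ((DCoh.tildeD (CommRingCat.of A)).obj N))) (g : A) (hg : g ∈ fs) (i : ℤ)
    (x : ((homologyFunctor (ModuleCat.{u} A) i).obj N : ModuleCat.{u} A)) :
    ∃ k : ℕ, g ^ k • x = 0 := by
  haveI : PreservesFiniteColimits (tilde.functor (CommRingCat.of A)) := by
    haveI : (tilde.functor (CommRingCat.of A)).IsLeftAdjoint := tilde.adjunction.isLeftAdjoint
    infer_instance
  have h1 : IsZero ((Scheme.Modules.restrictFunctor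
      (LocCoh.puncturedOpen A (Ideal.span {a | a ∈ fs})).ι).obj
      ((tilde.functor (CommRingCat.of A)).obj ((homologyFunctor (ModuleCat.{u} A) i).obj N))) := by
    refine IsZero.of_iso (Functor.map_isZero (homologyFunctor _ i) h) ?_
    exact (Scheme.Modules.restrictFunctor _).mapIso
      (Groth.Agent.H7.DRec.homologyMapDerivedIso (tilde.functor (CommRingCat.of A)) N i).symm ≪≫
      (Groth.Agent.H7.DRec.homologyMapDerivedIso
        (Scheme.Modules.restrictFunctor (LocCoh.puncturedOpen A (Ideal.span {a | a ∈ fs})).ι)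
          _ i).symm
  have h0 : ∀ s : Γ((tilde.functor (CommRingCat.of A)).obj
      ((homologyFunctor (ModuleCat.{u} A) i).obj N),
      (PrimeSpectrum.basicOpen g : (Spec (CommRingCat.of A)).Opens)), s = 0 := fun s =>
    Groth.Agent.LD.QC.section_eq_zero_of_isZero_restrict _ _ h1 (basicOpen_le_of_mem fs g hg) s
  exact tors_of_subsingleton_basicOpen (R := CommRingCat.of A)
    ((homologyFunctor (ModuleCat.{u} A) i).obj N) g ⟨fun a b => (h0 a).trans (h0 b).symm⟩ x

theorem s1044 (fs : List A)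
    [DCoh.HasRpush (LocCoh.puncturedOpen A (Ideal.span {a | a ∈ fs})).ι]
    (E : DCoh.D (Spec (CommRingCat.of A))) (hE : DCoh.IsQCohD E) :
    (∃ M : DCoh.D (LocCoh.puncturedOpen A (Ideal.span {a | a ∈ fs}) : Scheme.{u}),
        DCoh.IsQCohD M ∧
        Nonempty (E ≅ (DCoh.Rpush (LocCoh.puncturedOpen A (Ideal.span {a | a ∈ fs})).ι).obj M)) ↔
    ∀ (n : ℤ) (φ : ((DCoh.tildeD (CommRingCat.of A)).obj
      (Q.obj (Koszul.koszul A fs)))⟦n⟧ ⟶ E), φ = 0 := by
  have hK := isZero_restrict_koszul fs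
  constructor
  · rintro ⟨M, -, ⟨i⟩⟩ n φ
    exact QB25.isLocalAt_of_iso_rpush _ (LocCoh.puncturedOpen A (Ideal.span {a | a ∈ fs})).ι
      (by rw [Scheme.Opens.opensRange_ι]) M E i _ (QB25.isZero_restrict_shift _ _ hK n) φ
  · intro h
    haveI : CxOX.HasRgammaZ (LocCoh.puncturedOpen A (Ideal.span {a | a ∈ fs})).ι :=
      QB24.hasRgammaZ _
    haveI : QuasiCompact (LocCoh.puncturedOpen A (Ideal.span {a | a ∈ fs})).ι :=
      quasiCompact_ι_of_isCompact _ (isCompact_puncturedOpen fs)
    obtain ⟨C, g, δ, hT⟩ := distinguished_cocone_triangle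
      ((CxOX.RgammaZToId (LocCoh.puncturedOpen A (Ideal.span {a | a ∈ fs})).ι).app E)
    obtain ⟨N, ⟨i⟩⟩ := LR14.exists_iso_rpush_of_cone _ E C g δ hT
    have hF0 := LR12.isZero_restrictD_rgammaZ (LocCoh.puncturedOpen A (Ideal.span {a | a ∈ fs})) E
    haveI hiso : IsIso ((DCoh.restrictD
        (LocCoh.puncturedOpen A (Ideal.span {a | a ∈ fs})).ι).map g) :=
      (Triangle.isZero₁_iff_isIso₂ _ ((DCoh.restrictD
        (LocCoh.puncturedOpen A (Ideal.span {a | a ∈ fs})).ι).map_distinguished _ hT)).1 hF0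
    obtain ⟨cI⟩ := (Groth.Agent.H6.DerAdj.main_of_isIso_counit
      (Scheme.Modules.restrictAdjunction (LocCoh.puncturedOpen A (Ideal.span {a | a ∈ fs})).ι)
      (fun M => inferInstance)).2.2.2
    have eN : N ≅ (DCoh.restrictD (LocCoh.puncturedOpen A (Ideal.span {a | a ∈ fs})).ι).obj E :=
      (cI.app N).symm ≪≫ (DCoh.restrictD _).mapIso i.symm ≪≫
        (asIso ((DCoh.restrictD (LocCoh.puncturedOpen A (Ideal.span {a | a ∈ fs})).ι).map g)).symm
    have hN : DCoh.IsQCohD N :=
      QB1.isQCohD_of_iso eN.symm (QB3.isQCohD_RD _ E hE)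
    have hC : DCoh.IsQCohD C :=
      QB1.isQCohD_of_iso i.symm (Groth.Agent.H6.QcVan.isQCohD_Rpush_of_compact _ N hN)
    haveI := Groth.Agent.H6.QcVan.wserre_isQCoh (Spec (CommRingCat.of A))
    have hFq : DCoh.IsQCohD ((CxOX.RgammaZ
        (LocCoh.puncturedOpen A (Ideal.span {a | a ∈ fs})).ι).obj E) :=
      Groth.Agent.H6.MDw.cohIn_obj₁
        (fun M : (Spec (CommRingCat.of A)).Modules => M.IsQuasicoherent) _ hT hE hC
    obtain ⟨N', ⟨eF⟩⟩ := ((QB2.s0997 (CommRingCat.of A)).2.2 _).1 hFq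
    haveI : (DCoh.tildeD (CommRingCat.of A)).Faithful := (QB2.s0997 (CommRingCat.of A)).2.1
    have hN'0 : IsZero N' := by
      apply QB29.isZero_of_koszul_orthogonal fs N'
      · intro g' hg'
        exact QB30.tors_W N' g' (fun i x => tors_of_isZero_restrict fs N'
          (IsZero.of_iso hF0 ((DCoh.restrictD _).mapIso eF)) g' hg' i x)
      · intro n φ
        apply (DCoh.tildeD (CommRingCat.of A)).map_injective
        rw [CategoryTheory.Functor.map_zero]
        have hχ : ((DCoh.tildeD (CommRingCat.of A)).commShiftIso n).inv.app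
            (Q.obj (Koszul.koszul A fs)) ≫ (DCoh.tildeD (CommRingCat.of A)).map φ ≫ eF.hom = 0 := by
          apply (LR14.comp_ι_bijective _ E _ (QB25.isZero_restrict_shift _ _ hK n)).1
          dsimp only
          rw [zero_comp]
          exact h n _
        have h2 : (DCoh.tildeD (CommRingCat.of A)).map φ ≫ eF.hom = 0 := by
          rw [← cancel_epi (((DCoh.tildeD (CommRingCat.of A)).commShiftIso n).inv.app
            (Q.obj (Koszul.koszul A fs))), hχ, comp_zero]
        rw [← cancel_mono eF.hom, h2, zero_comp]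
    have hFz : IsZero ((CxOX.RgammaZ
        (LocCoh.puncturedOpen A (Ideal.span {a | a ∈ fs})).ι).obj E) :=
      IsZero.of_iso (Functor.map_isZero _ hN'0) eF.symm
    haveI : IsIso g := (Triangle.isZero₁_iff_isIso₂ _ hT).1 hFz
    exact ⟨N, hN, ⟨asIso g ≪≫ i⟩⟩

end Groth.Agent.Helper7.QB32
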