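import Groth.Agent.Lib.Helper7.QB30

/-!
# Degree-wise Koszul orthogonality in `D(A)`
-/

set_option autoImplicit false
universe u

open CategoryTheory CategoryTheory.Limits Pretriangulated

namespace Groth.Agent.Helper7.QB33

attribute [local instance] HasDerivedCategory.standard

open DerivedCategory Groth.Agent.H4 Groth.Agent.H4.ProjAmp

variable {A : Type u} [CommRing A]

/-- degree-wise version of `QB30.tors_W`. -/
theorem tors_W_at (N : DerivedCategory (ModuleCat.{u} A)) (f : A) (i : ℤ)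
    (hN : ∀ (x : ((homologyFunctor (ModuleCat.{u} A) i).obj N : ModuleCat.{u} A)),
      ∃ k : ℕ, f ^ k • x = 0) (ψ : AP1.W A i ⟶ N) : ∃ k : ℕ, f ^ k • ψ = 0 := by
  let t := (DerivedCategory.TStructure.t : CategoryTheory.Triangulated.TStructure (DerivedCategory (ModuleCat.{u} A)))
  let π := (t.truncGEπ i).app N
  haveI : IsIso ((homologyFunctor (ModuleCat.{u} A) i).map π) :=
    Groth.Agent.H7.WayOut.isIso_homology_truncGEπ N i i le_rfl
  haveI : ((t.truncGE i).obj N).IsGE i := inferInstanceAs (t.IsGE ((t.truncGE i).obj N) i)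
  obtain ⟨C, hC, ⟨e⟩⟩ := ((t.truncGE i).obj N).exists_iso_Q_obj_of_isGE i
  haveI := hC
  obtain ⟨c, hc⟩ := Groth.Agent.H3.PerfAux.exists_map_of_isKProjective
    (sgl (ModuleCat.of A A) i) C (ψ ≫ π ≫ e.hom)
  let θ : (homologyFunctor (ModuleCat.{u} A) i).obj N ≅ C.homology i :=
    asIso ((homologyFunctor (ModuleCat.{u} A) i).map π) ≪≫
      (homologyFunctor (ModuleCat.{u} A) i).mapIso e ≪≫
      (homologyFunctorFactors (ModuleCat.{u} A) i).app C
  have htors : ∀ y : C.homology i, ∃ k : ℕ, f ^ k • y = 0 := by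
    intro y
    obtain ⟨k, hk⟩ := hN (θ.inv.hom y)
    refine ⟨k, ?_⟩
    have h1 : θ.hom.hom (f ^ k • θ.inv.hom y) = f ^ k • y := by
      rw [map_smul]
      congr 1
      exact congr($(θ.inv_hom_id).hom y)
    rw [← h1, hk, map_zero]
  let s := HomologicalComplex.singleObjXSelf (ComplexShape.up ℤ) i (ModuleCat.of A A)
  let gen : (sgl (ModuleCat.of A A) i).X i := s.inv.hom (1 : A)
  have hd : c.f i ≫ C.d i (i + 1) = 0 := by
    rw [c.comm, HomologicalComplex.single_obj_d, zero_comp]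
  let κ := C.liftCycles (c.f i) (i + 1) (by simp) hd
  have hκ : κ ≫ C.iCycles i = c.f i := C.liftCycles_i _ _ _ _
  obtain ⟨k, hk⟩ := htors ((C.homologyπ i).hom (κ.hom gen))
  have h1 : (C.homologyπ i).hom (f ^ k • κ.hom gen) = 0 := by
    rw [map_smul]
    exact hk
  have h2 : f ^ k • κ.hom gen = 0 :=
    H5ExtCech.cycle_eq_zero_of_homologyπ_eq_zero C i (C.isZero_of_isStrictlyGE i (i - 1) (by omega))
      _ h1
  have h3 : f ^ k • (c.f i).hom gen = 0 := by
    have h := congrArg (C.iCycles i).hom h2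
    rw [map_smul, map_zero] at h
    have h' : (C.iCycles i).hom (κ.hom gen) = (c.f i).hom gen := congr($(hκ).hom gen)
    rw [h'] at h
    exact h
  have h4 : f ^ k • c = 0 := by
    apply HomologicalComplex.from_single_hom_ext
    ext a
    have ha : a = (s.hom.hom a) • gen := by
      have h0 : s.inv.hom (s.hom.hom a) = a := congr($(s.hom_inv_id).hom a)
      conv_lhs => rw [← h0]
      change s.inv.hom (s.hom.hom a) = (s.hom.hom a) • s.inv.hom (1 : A)
      rw [← map_smul, smul_eq_mul, mul_one]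
    change f ^ k • (c.f i).hom a = 0
    rw [ha, map_smul, smul_comm, h3, smul_zero]
  have h5 : (f ^ k • ψ) ≫ π = 0 := by
    rw [← cancel_mono e.hom, Category.assoc, Linear.smul_comp, ← hc,
      ← CategoryTheory.Functor.map_smul, h4, CategoryTheory.Functor.map_zero, zero_comp]
  obtain ⟨θ', hθ'⟩ := Triangle.coyoneda_exact₂ _ (t.triangleLTGE_distinguished i N) (f ^ k • ψ) h5
  haveI : ((t.truncLT i).obj N).IsLE (i - 1) :=
    inferInstanceAs (t.IsLE ((t.truncLT i).obj N) (i - 1))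
  refine ⟨k, ?_⟩
  rw [hθ', AP1.hom_W_eq_zero_of_isLE _ (i - 1) i (by omega) θ']
  exact zero_comp

/-- `H^i(N) = 0` kills all maps `A[-i] ⟶ N`. -/
theorem hom_W_eq_zero_of_isZero_homology (N : DerivedCategory (ModuleCat.{u} A)) (i : ℤ)
    (h : IsZero ((homologyFunctor (ModuleCat.{u} A) i).obj N)) (ψ : AP1.W A i ⟶ N) : ψ = 0 := by
  obtain ⟨k, hk⟩ := tors_W_at N (1 : A) i (fun x => ⟨0, by
    haveI := ModuleCat.subsingleton_of_isZero h
    exact Subsingleton.elim _ _⟩) ψ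
  rw [one_pow, one_smul] at hk
  exact hk

/-- if all maps `A[-i] ⟶ N` vanish, then `H^i(N) = 0`. -/
theorem isZero_homology_of_hom_W (N : DerivedCategory (ModuleCat.{u} A)) (i : ℤ)
    (h : ∀ ψ : AP1.W A i ⟶ N, ψ = 0) :
    IsZero ((homologyFunctor (ModuleCat.{u} A) i).obj N) :=
  InjAmp.isZero_homology_of_hom_sgl N i (ModuleCat.of A A) (LinearEquiv.refl A A)
    ⟨fun φ ψ => (h φ).trans (h ψ).symm⟩

/-- `A[-i]` as a shift of the empty Koszul complex. -/
noncomputable def nilIso (i n : ℤ) (h : n + i = 0) :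
    AP1.W A i ≅ (Q.obj (Koszul.koszul A []))⟦n⟧ :=
  (shI (ModuleCat.of A A) n i h).symm ≪≫
    (shiftFunctor _ n).mapIso
      ((singleFunctorIsoCompQ (ModuleCat.{u} A) 0).app (ModuleCat.of A A))

/-- degree-wise Koszul orthogonality descends along the Koszul dévissage (torsion case). -/
theorem koszul_orth_at : ∀ (fs : List A) (N : DerivedCategory (ModuleCat.{u} A)),
    (∀ g ∈ fs, ∀ (i : ℤ) (ψ : AP1.W A i ⟶ N), ∃ k : ℕ, g ^ k • ψ = 0) → ∀ n : ℤ,
    (∀ (φ : (Q.obj (Koszul.koszul A fs))⟦n⟧ ⟶ N), φ = 0) →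
    ∀ φ : (Q.obj (Koszul.koszul A []))⟦n⟧ ⟶ N, φ = 0
  | [], N, _, n, h => h
  | f :: fs, N, ht, n, h => by
    obtain ⟨v, w, hT⟩ := QB29.koszul_triangle f fs
    apply koszul_orth_at fs N (fun g hg => ht g (List.mem_cons_of_mem f hg)) n
    intro φ
    obtain ⟨k, hk⟩ := QB29.tors_koszul N f (ht f List.mem_cons_self) fs n φ
    refine QB28.eq_zero_of_inj_of_pow f (fun φ' h' => ?_) φ k hk
    obtain ⟨ψ, hψ⟩ := QB28.exact₂_shift _ hT n φ' (by
      change (f • 𝟙 (Q.obj (Koszul.koszul A fs)))⟦n⟧' ≫ φ' = 0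
      rw [QB28.smul_id_shift, ← QB28.smul_eq_id_comp, h'])
    rw [hψ, h ψ]
    exact comp_zero

/-- orthogonality to `K[-n]` forces `H^n = 0` for torsion objects. -/
theorem isZero_homology_of_orth (fs : List A) (N : DerivedCategory (ModuleCat.{u} A))
    (ht : ∀ g ∈ fs, ∀ (i : ℤ) (ψ : AP1.W A i ⟶ N), ∃ k : ℕ, g ^ k • ψ = 0) (n : ℤ)
    (h : ∀ (φ : (Q.obj (Koszul.koszul A fs))⟦-n⟧ ⟶ N), φ = 0) :
    IsZero ((homologyFunctor (ModuleCat.{u} A) n).obj N) := by
  apply isZero_homology_of_hom_W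
  intro ψ
  have := koszul_orth_at fs N ht (-n) h ((nilIso n (-n) (by simp)).inv ≫ ψ)
  rw [← cancel_epi (nilIso (A := A) n (-n) (by simp)).inv, this, comp_zero]

/-- generic dévissage: maps out of `K[m]` vanish once enough maps out of `A[m+j]` do. -/
theorem koszul_hom_zero : ∀ (fs : List A) (N : DerivedCategory (ModuleCat.{u} A)) (m : ℤ),
    (∀ j : ℕ, j ≤ fs.length → ∀ ψ : (Q.obj (Koszul.koszul A []))⟦m + j⟧ ⟶ N, ψ = 0) →
    ∀ φ : (Q.obj (Koszul.koszul A fs))⟦m⟧ ⟶ N, φ = 0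
  | [], N, m, h => by
    intro φ
    have h0 := h 0 le_rfl
    have e : m + ((0 : ℕ) : ℤ) = m := by simp
    rw [e] at h0
    exact h0 φ
  | f :: fs, N, m, h => by
    intro φ
    obtain ⟨v, w, hT⟩ := QB29.koszul_triangle f fs
    have h1 : v⟦m⟧' ≫ φ = 0 :=
      koszul_hom_zero fs N m (fun j hj ψ => h j (by simp; omega) ψ) _
    obtain ⟨ψ, hψ⟩ := QB28.exact₃_shift _ hT m φ h1
    let e := (shiftFunctorAdd' (DerivedCategory (ModuleCat.{u} A)) (1 : ℤ) m (1 + m) rfl).app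
      (Q.obj (Koszul.koszul A fs))
    have h2 : e.hom ≫ ψ = 0 :=
      koszul_hom_zero fs N (1 + m) (fun j hj ψ' => by
        have hj' := h (j + 1) (by simp; omega)
        have e' : m + ((j + 1 : ℕ) : ℤ) = 1 + m + j := by push_cast; ring
        rw [e'] at hj'
        exact hj' ψ') _
    have h3 : ψ = 0 := (cancel_epi e.hom).1 (h2.trans comp_zero.symm)
    rw [hψ, h3]
    exact comp_zero

/-- vanishing of `H^{n-j}(N)`, `0 ≤ j ≤ r`, kills all maps `K[-n] ⟶ N`. -/
theorem orth_of_isZero_homology (fs : List A) (N : DerivedCategory (ModuleCat.{u} A)) (n : ℤ)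
    (h : ∀ j : ℕ, j ≤ fs.length →
      IsZero ((homologyFunctor (ModuleCat.{u} A) (n - j)).obj N))
    (φ : (Q.obj (Koszul.koszul A fs))⟦-n⟧ ⟶ N) : φ = 0 := by
  apply koszul_hom_zero fs N (-n)
  intro j hj ψ
  have := hom_W_eq_zero_of_isZero_homology N (n - j) (h j hj)
    ((nilIso (n - j) (-n + j) (by ring)).hom ≫ ψ)
  rw [← cancel_epi (nilIso (A := A) (n - j) (-n + j) (by ring)).hom, this, comp_zero]

end Groth.Agent.Helper7.QB33
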