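import Groth.Agent.Lib.Helper7.QB32
import Groth.Agent.Lib.Helper7.QB33
import Groth.Agent.Lib.Helper7.QB25
import Groth.Agent.Lib.Helper7.WayOut1
import Groth.Agent.Lib.Lead.QC.Closure
import Groth.Agent.Lib.Lead.QCQS.Base

/-!
# Truncated versions of Koszul orthogonality on an affine scheme (S1095, S1096)
-/

set_option autoImplicit false
universe w v u

open CategoryTheory CategoryTheory.Limits AlgebraicGeometry Pretriangulated Opposite
attribute [local instance] HasDerivedCategory.standard

namespace Groth.Agent.Helper7.QB34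

open Groth.Agent.H4 DerivedCategory Groth.Agent.Helper7.QB26 Groth.Agent.Helper7.QB27
  Groth.Agent.Helper7.QB31

section Trunc

variable {C : Type u} [Category.{v} C] [Abelian C] [HasDerivedCategory.{w} C]

lemma isIso_of_isZero {D : Type*} [Category D] [HasZeroMorphisms D] {X Y : D} (f : X ⟶ Y)
    (hX : IsZero X) (hY : IsZero Y) : IsIso f :=
  ⟨⟨0, hX.eq_of_src _ _, hY.eq_of_src _ _⟩⟩

/-- the canonical t-structure -/
noncomputable abbrev tt : Triangulated.TStructure (DerivedCategory C) := TStructure.t

lemma isIso_homology_mor₂ (T : Triangle (DerivedCategory C)) (hT : T ∈ distTriang _) (q : ℤ)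
    (h0 : IsZero ((homologyFunctor C q).obj T.obj₁))
    (h1 : IsZero ((homologyFunctor C (q + 1)).obj T.obj₁)) :
    IsIso ((homologyFunctor C q).map T.mor₂) := by
  haveI : Mono ((homologyFunctor C q).map T.mor₂) := by
    rw [HomologySequence.mono_homologyMap_mor₂_iff T hT q]
    exact h0.eq_of_src _ _
  haveI : Epi ((homologyFunctor C q).map T.mor₂) := by
    rw [HomologySequence.epi_homologyMap_mor₂_iff T hT q (q + 1) rfl]
    exact h1.eq_of_tgt _ _
  exact isIso_of_mono_of_epi _

lemma isIso_truncGE_map_iff_homology {X Y : DerivedCategory C} (g : X ⟶ Y) (a : ℤ) :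
    IsIso (((tt (C := C)).truncGE a).map g) ↔
      ∀ n : ℤ, a ≤ n → IsIso ((homologyFunctor C n).map g) := by
  have key : ∀ n, a ≤ n → (IsIso ((homologyFunctor C n).map (((tt (C := C)).truncGE a).map g)) ↔
      IsIso ((homologyFunctor C n).map g)) := by
    intro n hn
    haveI := Groth.Agent.H7.WayOut.isIso_homology_truncGEπ X a n hn
    haveI := Groth.Agent.H7.WayOut.isIso_homology_truncGEπ Y a n hn
    have nat : (homologyFunctor C n).map g ≫
        (homologyFunctor C n).map (((tt (C := C)).truncGEπ a).app Y) =
        (homologyFunctor C n).map (((tt (C := C)).truncGEπ a).app X) ≫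
          (homologyFunctor C n).map (((tt (C := C)).truncGE a).map g) := by
      rw [← CategoryTheory.Functor.map_comp, ← CategoryTheory.Functor.map_comp]
      congr 1
      exact ((tt (C := C)).truncGEπ a).naturality g
    constructor
    · intro h
      haveI : IsIso ((homologyFunctor C n).map g ≫
          (homologyFunctor C n).map (((tt (C := C)).truncGEπ a).app Y)) := by
        rw [nat]; infer_instance
      exact IsIso.of_isIso_comp_right _
        ((homologyFunctor C n).map (((tt (C := C)).truncGEπ a).app Y))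
    · intro h
      haveI : IsIso ((homologyFunctor C n).map (((tt (C := C)).truncGEπ a).app X) ≫
          (homologyFunctor C n).map (((tt (C := C)).truncGE a).map g)) := by
        rw [← nat]; infer_instance
      exact IsIso.of_isIso_comp_left
        ((homologyFunctor C n).map (((tt (C := C)).truncGEπ a).app X)) _
  constructor
  · intro h n hn
    exact (key n hn).1 inferInstance
  · intro h
    rw [DerivedCategory.isIso_iff]
    intro n
    by_cases hn : a ≤ n
    · exact (key n hn).2 (h n hn)
    · haveI : (((tt (C := C)).truncGE a).obj X).IsGE a := inferInstanceAs (tt.IsGE _ a)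
      haveI : (((tt (C := C)).truncGE a).obj Y).IsGE a := inferInstanceAs (tt.IsGE _ a)
      exact isIso_of_isZero _ ((((tt (C := C)).truncGE a).obj X).isZero_of_isGE a n (by omega))
        ((((tt (C := C)).truncGE a).obj Y).isZero_of_isGE a n (by omega))

lemma isIso_truncLT_map_iff_homology {X Y : DerivedCategory C} (g : X ⟶ Y) (c : ℤ) :
    IsIso (((tt (C := C)).truncLT c).map g) ↔
      ∀ n : ℤ, n < c → IsIso ((homologyFunctor C n).map g) := by
  have key : ∀ n, n < c → (IsIso ((homologyFunctor C n).map (((tt (C := C)).truncLT c).map g)) ↔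
      IsIso ((homologyFunctor C n).map g)) := by
    intro n hn
    haveI := Groth.Agent.H7.WayOut.isIso_homology_truncLTι X c n hn
    haveI := Groth.Agent.H7.WayOut.isIso_homology_truncLTι Y c n hn
    have nat : (homologyFunctor C n).map (((tt (C := C)).truncLT c).map g) ≫
        (homologyFunctor C n).map (((tt (C := C)).truncLTι c).app Y) =
        (homologyFunctor C n).map (((tt (C := C)).truncLTι c).app X) ≫
          (homologyFunctor C n).map g := by
      rw [← CategoryTheory.Functor.map_comp, ← CategoryTheory.Functor.map_comp]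
      congr 1
      exact ((tt (C := C)).truncLTι c).naturality g
    constructor
    · intro h
      haveI : IsIso ((homologyFunctor C n).map (((tt (C := C)).truncLTι c).app X) ≫
          (homologyFunctor C n).map g) := by
        rw [← nat]; infer_instance
      exact IsIso.of_isIso_comp_left
        ((homologyFunctor C n).map (((tt (C := C)).truncLTι c).app X)) _
    · intro h
      haveI : IsIso ((homologyFunctor C n).map (((tt (C := C)).truncLT c).map g) ≫
          (homologyFunctor C n).map (((tt (C := C)).truncLTι c).app Y)) := by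
        rw [nat]; infer_instance
      exact IsIso.of_isIso_comp_right _
        ((homologyFunctor C n).map (((tt (C := C)).truncLTι c).app Y))
  constructor
  · intro h n hn
    exact (key n hn).1 inferInstance
  · intro h
    rw [DerivedCategory.isIso_iff]
    intro n
    by_cases hn : n < c
    · exact (key n hn).2 (h n hn)
    · haveI : (((tt (C := C)).truncLT c).obj X).IsLE (c - 1) := inferInstanceAs (tt.IsLE _ (c - 1))
      haveI : (((tt (C := C)).truncLT c).obj Y).IsLE (c - 1) := inferInstanceAs (tt.IsLE _ (c - 1))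
      exact isIso_of_isZero _
        ((((tt (C := C)).truncLT c).obj X).isZero_of_isLE (c - 1) n (by omega))
        ((((tt (C := C)).truncLT c).obj Y).isZero_of_isLE (c - 1) n (by omega))

end Trunc

section Sheaf

variable {A : Type u} [CommRing A] [PreservesFiniteLimits (tilde.functor (CommRingCat.of A))]

/-- `tilde` reflects zero objects. -/
lemma isZero_of_isZero_tilde (N : ModuleCat.{u} A)
    (h : IsZero ((tilde.functor (CommRingCat.of A)).obj N)) : IsZero N := by
  rw [IsZero.iff_id_eq_zero]
  apply (tilde.fullyFaithfulFunctor (R := CommRingCat.of A)).map_injective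
  rw [CategoryTheory.Functor.map_id, CategoryTheory.Functor.map_zero]
  exact (IsZero.iff_id_eq_zero _).mp h

/-- the truncation `τ_{<a} E` of an object of `D_QCoh` lies in `D_QCoh`. -/
lemma isQCohD_truncLT {X : Scheme.{u}} (E : DCoh.D X) (hE : DCoh.IsQCohD E) (a : ℤ) :
    DCoh.IsQCohD (((tt (C := X.Modules)).truncLT a).obj E) := by
  intro j
  by_cases hj : j < a
  · have hiso := Groth.Agent.H7.WayOut.isIso_homology_truncLTι E a j hj
    exact Groth.Agent.LD.QC.qc_of_iso (@asIso _ _ _ _ _ hiso).symm (hE j)
  · haveI : (((tt (C := X.Modules)).truncLT a).obj E).IsLE (a - 1) :=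
      inferInstanceAs (tt.IsLE _ (a - 1))
    exact Groth.Agent.LD.QCQS.qc_of_isZero
      ((((tt (C := X.Modules)).truncLT a).obj E).isZero_of_isLE (a - 1) j (by omega)) _ (hE 0)

/-- (A') orthogonality to `K~[-n]` forces `H^n = 0` for quasi-coherent objects vanishing on the
punctured open. -/
theorem isZero_homology_of_orth (fs : List A) (L : DCoh.D (Spec (CommRingCat.of A)))
    (hL : DCoh.IsQCohD L)
    (hL0 : IsZero ((DCoh.restrictD (LocCoh.puncturedOpen A (Ideal.span {a | a ∈ fs})).ι).obj L))
    (n : ℤ)
    (h : ∀ φ : ((DCoh.tildeD (CommRingCat.of A)).obj (Q.obj (Koszul.koszul A fs)))⟦-n⟧ ⟶ L,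
      φ = 0) :
    IsZero ((homologyFunctor _ n).obj L) := by
  haveI : PreservesFiniteColimits (tilde.functor (CommRingCat.of A)) := by
    haveI : (tilde.functor (CommRingCat.of A)).IsLeftAdjoint := tilde.adjunction.isLeftAdjoint
    infer_instance
  obtain ⟨N', ⟨eF⟩⟩ := ((QB2.s0997 (CommRingCat.of A)).2.2 _).1 hL
  haveI : (DCoh.tildeD (CommRingCat.of A)).Faithful := (QB2.s0997 (CommRingCat.of A)).2.1
  have hN : IsZero ((homologyFunctor (ModuleCat.{u} A) n).obj N') := by
    apply QB33.isZero_homology_of_orth fs N'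
    · intro g' hg'
      exact QB30.tors_W N' g' (fun i x => QB32.tors_of_isZero_restrict fs N'
        (IsZero.of_iso hL0 ((DCoh.restrictD _).mapIso eF)) g' hg' i x)
    · intro φ
      apply (DCoh.tildeD (CommRingCat.of A)).map_injective
      rw [CategoryTheory.Functor.map_zero]
      have hχ : ((DCoh.tildeD (CommRingCat.of A)).commShiftIso (-n)).inv.app
          (Q.obj (Koszul.koszul A fs)) ≫ (DCoh.tildeD (CommRingCat.of A)).map φ ≫ eF.hom = 0 :=
        h _
      have h2 : (DCoh.tildeD (CommRingCat.of A)).map φ ≫ eF.hom = 0 := by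
        rw [← cancel_epi (((DCoh.tildeD (CommRingCat.of A)).commShiftIso (-n)).inv.app
          (Q.obj (Koszul.koszul A fs))), hχ, comp_zero]
      rw [← cancel_mono eF.hom, h2, zero_comp]
  exact IsZero.of_iso (Functor.map_isZero (tilde.functor (CommRingCat.of A)) hN)
    ((homologyFunctor _ n).mapIso eF.symm ≪≫
      Groth.Agent.H7.DRec.homologyMapDerivedIso (tilde.functor (CommRingCat.of A)) N' n)

/-- (C) vanishing of `H^{n-j}(L)`, `0 ≤ j ≤ r`, kills all maps `K~[-n] ⟶ L`. -/
theorem orth_of_isZero_homology (fs : List A) (L : DCoh.D (Spec (CommRingCat.of A)))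
    (hL : DCoh.IsQCohD L) (n : ℤ)
    (h : ∀ j : ℕ, j ≤ fs.length → IsZero ((homologyFunctor _ (n - j)).obj L))
    (φ : ((DCoh.tildeD (CommRingCat.of A)).obj (Q.obj (Koszul.koszul A fs)))⟦-n⟧ ⟶ L) :
    φ = 0 := by
  haveI : PreservesFiniteColimits (tilde.functor (CommRingCat.of A)) := by
    haveI : (tilde.functor (CommRingCat.of A)).IsLeftAdjoint := tilde.adjunction.isLeftAdjoint
    infer_instance
  obtain ⟨N', ⟨eF⟩⟩ := ((QB2.s0997 (CommRingCat.of A)).2.2 _).1 hL
  haveI : (DCoh.tildeD (CommRingCat.of A)).Full := (QB2.s0997 (CommRingCat.of A)).1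
  have hN : ∀ j : ℕ, j ≤ fs.length →
      IsZero ((homologyFunctor (ModuleCat.{u} A) (n - j)).obj N') := by
    intro j hj
    apply isZero_of_isZero_tilde
    exact IsZero.of_iso (h j hj)
      ((Groth.Agent.H7.DRec.homologyMapDerivedIso (tilde.functor (CommRingCat.of A)) N'
        (n - j)).symm ≪≫ (homologyFunctor _ (n - j)).mapIso eF)
  obtain ⟨ψ, hψ⟩ := (DCoh.tildeD (CommRingCat.of A)).map_surjective
    (((DCoh.tildeD (CommRingCat.of A)).commShiftIso (-n)).hom.app
      (Q.obj (Koszul.koszul A fs)) ≫ φ ≫ eF.inv)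
  rw [QB33.orth_of_isZero_homology fs N' n hN ψ, CategoryTheory.Functor.map_zero] at hψ
  have h2 : φ ≫ eF.inv = 0 := by
    rw [← cancel_epi (((DCoh.tildeD (CommRingCat.of A)).commShiftIso (-n)).hom.app
      (Q.obj (Koszul.koszul A fs))), ← hψ, comp_zero]
  rw [← cancel_mono eF.inv, h2, zero_comp]

end Sheaf

end Groth.Agent.Helper7.QB34
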