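import Groth.Agent.Lib.Helper7.QB34

/-!
# Truncated versions of Koszul orthogonality on an affine scheme (S1095, S1096), II
-/

set_option autoImplicit false
universe u

open CategoryTheory CategoryTheory.Limits AlgebraicGeometry Pretriangulated Opposite
attribute [local instance] HasDerivedCategory.standard

namespace Groth.Agent.Helper7.QB35

open Groth.Agent.H4 DerivedCategory Groth.Agent.Helper7.QB26 Groth.Agent.Helper7.QB27
  Groth.Agent.Helper7.QB31 Groth.Agent.Helper7.QB34

variable {A : Type u} [CommRing A] [PreservesFiniteLimits (tilde.functor (CommRingCat.of A))]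

theorem setup (fs : List A)
    [PreservesFiniteLimits (Scheme.Modules.restrictFunctor
      (LocCoh.puncturedOpen A (Ideal.span {a | a ∈ fs})).ι)]
    [DCoh.HasRpush (LocCoh.puncturedOpen A (Ideal.span {a | a ∈ fs})).ι]
    (adj : DCoh.restrictD (LocCoh.puncturedOpen A (Ideal.span {a | a ∈ fs})).ι ⊣
      DCoh.Rpush (LocCoh.puncturedOpen A (Ideal.span {a | a ∈ fs})).ι)
    (E : DCoh.D (Spec (CommRingCat.of A))) (hE : DCoh.IsQCohD E) :
    ∃ (F : DCoh.D (Spec (CommRingCat.of A))) (f : F ⟶ E)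
      (δ : (DCoh.Rpush (LocCoh.puncturedOpen A (Ideal.span {a | a ∈ fs})).ι).obj
        ((DCoh.restrictD (LocCoh.puncturedOpen A (Ideal.span {a | a ∈ fs})).ι).obj E) ⟶
          F⟦(1 : ℤ)⟧),
      Triangle.mk f (adj.unit.app E) δ ∈ distTriang _ ∧ DCoh.IsQCohD F ∧
      IsZero ((DCoh.restrictD (LocCoh.puncturedOpen A (Ideal.span {a | a ∈ fs})).ι).obj F) ∧
      QB25.IsLocalAt (LocCoh.puncturedOpen A (Ideal.span {a | a ∈ fs}))
        ((DCoh.Rpush (LocCoh.puncturedOpen A (Ideal.span {a | a ∈ fs})).ι).obj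
          ((DCoh.restrictD (LocCoh.puncturedOpen A (Ideal.span {a | a ∈ fs})).ι).obj E)) := by
  obtain ⟨F, f, δ, hT⟩ := distinguished_cocone_triangle₁ (adj.unit.app E)
  obtain ⟨-, hfull, hfaith, -⟩ := Groth.Agent.H6.DerAdj.main_of_isIso_counit
    (Scheme.Modules.restrictAdjunction (LocCoh.puncturedOpen A (Ideal.span {a | a ∈ fs})).ι)
    (fun M => inferInstance)
  haveI : (DCoh.Rpush (LocCoh.puncturedOpen A (Ideal.span {a | a ∈ fs})).ι).Full := hfull
  haveI : (DCoh.Rpush (LocCoh.puncturedOpen A (Ideal.span {a | a ∈ fs})).ι).Faithful := hfaith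
  have hiso : IsIso ((DCoh.restrictD (LocCoh.puncturedOpen A (Ideal.span {a | a ∈ fs})).ι).map
      (adj.unit.app E)) :=
    isIso_of_comp_hom_eq_id (adj.counit.app _) (adj.left_triangle_components E)
  have hF0 : IsZero ((DCoh.restrictD (LocCoh.puncturedOpen A (Ideal.span {a | a ∈ fs})).ι).obj F) :=
    (Triangle.isZero₁_iff_isIso₂ _ ((DCoh.restrictD
      (LocCoh.puncturedOpen A (Ideal.span {a | a ∈ fs})).ι).map_distinguished _ hT)).2 hiso
  haveI : QuasiCompact (LocCoh.puncturedOpen A (Ideal.span {a | a ∈ fs})).ι :=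
    quasiCompact_ι_of_isCompact _ (isCompact_puncturedOpen fs)
  have hG : DCoh.IsQCohD ((DCoh.Rpush (LocCoh.puncturedOpen A (Ideal.span {a | a ∈ fs})).ι).obj
      ((DCoh.restrictD (LocCoh.puncturedOpen A (Ideal.span {a | a ∈ fs})).ι).obj E)) :=
    Groth.Agent.H6.QcVan.isQCohD_Rpush_of_compact _ _ (QB3.isQCohD_RD _ E hE)
  haveI := Groth.Agent.H6.QcVan.wserre_isQCoh (Spec (CommRingCat.of A))
  have hFq : DCoh.IsQCohD F :=
    Groth.Agent.H6.MDw.cohIn_obj₁
      (fun M : (Spec (CommRingCat.of A)).Modules => M.IsQuasicoherent) _ hT hE hG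
  refine ⟨F, f, δ, hT, hFq, hF0, ?_⟩
  exact QB25.isLocalAt_of_iso_rpush _ (LocCoh.puncturedOpen A (Ideal.span {a | a ∈ fs})).ι
    (by rw [Scheme.Opens.opensRange_ι]) _ _ (Iso.refl _)

theorem s1096 (fs : List A)
    [PreservesFiniteLimits (Scheme.Modules.restrictFunctor
      (LocCoh.puncturedOpen A (Ideal.span {a | a ∈ fs})).ι)]
    [DCoh.HasRpush (LocCoh.puncturedOpen A (Ideal.span {a | a ∈ fs})).ι]
    (adj : DCoh.restrictD (LocCoh.puncturedOpen A (Ideal.span {a | a ∈ fs})).ι ⊣
      DCoh.Rpush (LocCoh.puncturedOpen A (Ideal.span {a | a ∈ fs})).ι)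
    (E : DCoh.D (Spec (CommRingCat.of A))) (hE : DCoh.IsQCohD E) (a : ℤ) :
    ((∀ n : ℤ, a ≤ n → ∀ φ : ((DCoh.tildeD (CommRingCat.of A)).obj
        (DerivedCategory.Q.obj (Koszul.koszul A fs)))⟦-n⟧ ⟶ E, φ = 0) →
      IsIso (((DerivedCategory.TStructure.t : CategoryTheory.Triangulated.TStructure
        (DCoh.D (Spec (CommRingCat.of A)))).truncGE a).map (adj.unit.app E))) ∧
    (IsIso (((DerivedCategory.TStructure.t : CategoryTheory.Triangulated.TStructure
        (DCoh.D (Spec (CommRingCat.of A)))).truncGE a).map (adj.unit.app E)) →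
      ∀ n : ℤ, a + (fs.length : ℤ) ≤ n → ∀ φ : ((DCoh.tildeD (CommRingCat.of A)).obj
        (DerivedCategory.Q.obj (Koszul.koszul A fs)))⟦-n⟧ ⟶ E, φ = 0) := by
  obtain ⟨F, f, δ, hT, hFq, hF0, hloc⟩ := setup fs adj E hE
  have hK := isZero_restrict_koszul fs
  have hbij := fun m : ℤ => QB25.bijective_of_triangle _ _ hT hloc _
    (QB25.isZero_restrict_shift _ _ hK m)
  constructor
  · intro h
    have hF : ∀ n : ℤ, a ≤ n → IsZero ((homologyFunctor _ n).obj F) := by
      intro n hn
      apply QB34.isZero_homology_of_orth fs F hFq hF0 n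
      intro φ
      have h0 : φ ≫ f = 0 := h n hn _
      exact (hbij (-n)).1 (h0.trans zero_comp.symm)
    rw [isIso_truncGE_map_iff_homology]
    intro n hn
    exact QB34.isIso_homology_mor₂ _ hT n (hF n hn) (hF (n + 1) (by omega))
  · intro hiso n hn φ
    let t := (DerivedCategory.TStructure.t : CategoryTheory.Triangulated.TStructure
        (DCoh.D (Spec (CommRingCat.of A))))
    have h1 : φ ≫ adj.unit.app E = 0 := hloc _ (QB25.isZero_restrict_shift _ _ hK (-n)) _
    have nat : adj.unit.app E ≫ (t.truncGEπ a).app _ =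
        (t.truncGEπ a).app E ≫ (t.truncGE a).map (adj.unit.app E) :=
      (t.truncGEπ a).naturality (adj.unit.app E)
    have h2 : φ ≫ (t.truncGEπ a).app E = 0 := by
      rw [← cancel_mono ((t.truncGE a).map (adj.unit.app E)), Category.assoc, ← nat,
        ← Category.assoc, h1, zero_comp, zero_comp]
    obtain ⟨φ', hφ'⟩ := Triangle.coyoneda_exact₂ _ (t.triangleLTGE_distinguished a E) φ h2
    have h3 : φ' = 0 := by
      apply QB34.orth_of_isZero_homology fs _ (QB34.isQCohD_truncLT E hE a) n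
      intro j hj
      haveI : ((t.truncLT a).obj E).IsLE (a - 1) := inferInstanceAs (t.IsLE _ (a - 1))
      exact ((t.truncLT a).obj E).isZero_of_isLE (a - 1) (n - j) (by
        have : (j : ℤ) ≤ fs.length := by exact_mod_cast hj
        omega)
    rw [hφ', h3]
    exact zero_comp

theorem s1095 (fs : List A)
    [PreservesFiniteLimits (Scheme.Modules.restrictFunctor
      (LocCoh.puncturedOpen A (Ideal.span {a | a ∈ fs})).ι)]
    [DCoh.HasRpush (LocCoh.puncturedOpen A (Ideal.span {a | a ∈ fs})).ι]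
    (adj : DCoh.restrictD (LocCoh.puncturedOpen A (Ideal.span {a | a ∈ fs})).ι ⊣
      DCoh.Rpush (LocCoh.puncturedOpen A (Ideal.span {a | a ∈ fs})).ι)
    (E : DCoh.D (Spec (CommRingCat.of A))) (hE : DCoh.IsQCohD E) (a : ℤ) :
    ((∀ n : ℤ, n ≤ a → ∀ φ : ((DCoh.tildeD (CommRingCat.of A)).obj
        (DerivedCategory.Q.obj (Koszul.koszul A fs)))⟦-n⟧ ⟶ E, φ = 0) →
      IsIso (((DerivedCategory.TStructure.t : CategoryTheory.Triangulated.TStructure
        (DCoh.D (Spec (CommRingCat.of A)))).truncLE (a - 1)).map (adj.unit.app E))) ∧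
    (IsIso (((DerivedCategory.TStructure.t : CategoryTheory.Triangulated.TStructure
        (DCoh.D (Spec (CommRingCat.of A)))).truncLE (a - 1)).map (adj.unit.app E)) →
      ∀ n : ℤ, n ≤ a - 1 → ∀ φ : ((DCoh.tildeD (CommRingCat.of A)).obj
        (DerivedCategory.Q.obj (Koszul.koszul A fs)))⟦-n⟧ ⟶ E, φ = 0) := by
  obtain ⟨F, f, δ, hT, hFq, hF0, hloc⟩ := setup fs adj E hE
  have hK := isZero_restrict_koszul fs
  have hbij := fun m : ℤ => QB25.bijective_of_triangle _ _ hT hloc _
    (QB25.isZero_restrict_shift _ _ hK m)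
  let t := (DerivedCategory.TStructure.t : CategoryTheory.Triangulated.TStructure
      (DCoh.D (Spec (CommRingCat.of A))))
  constructor
  · intro h
    have hF : ∀ n : ℤ, n ≤ a → IsZero ((homologyFunctor _ n).obj F) := by
      intro n hn
      apply QB34.isZero_homology_of_orth fs F hFq hF0 n
      intro φ
      have h0 : φ ≫ f = 0 := h n hn _
      exact (hbij (-n)).1 (h0.trans zero_comp.symm)
    change IsIso ((t.truncLT (a - 1 + 1)).map (adj.unit.app E))
    rw [isIso_truncLT_map_iff_homology]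
    intro n hn
    exact QB34.isIso_homology_mor₂ _ hT n (hF n (by omega)) (hF (n + 1) (by omega))
  · intro hiso n hn φ
    have hiso' : IsIso ((t.truncLT (a - 1 + 1)).map (adj.unit.app E)) := hiso
    rw [isIso_truncLT_map_iff_homology] at hiso'
    have hF : ∀ i : ℤ, i ≤ a - 1 → IsZero ((homologyFunctor _ i).obj F) := by
      intro i hi
      haveI := hiso' (i - 1) (by omega)
      haveI := hiso' i (by omega)
      exact Groth.Agent.H6.MDw.isZero_homology_obj₁ _ hT (i - 1) i (by omega)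
        (inferInstance : Epi ((homologyFunctor _ (i - 1)).map (adj.unit.app E)))
        (inferInstance : Mono ((homologyFunctor _ i).map (adj.unit.app E)))
    obtain ⟨ψ, hψ⟩ := (hbij (-n)).2 φ
    dsimp only at hψ
    have h3 : ψ = 0 := by
      apply QB34.orth_of_isZero_homology fs F hFq n
      intro j hj
      exact hF (n - j) (by omega)
    rw [← hψ, h3]
    exact zero_comp

end Groth.Agent.Helper7.QB35
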