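import Groth.Agent.Lib.Helper7.QB33

/-!
# Factoring maps out of `A[0]` through Koszul complexes on powers (algebra side of S1045)
-/

set_option autoImplicit false
universe u

open CategoryTheory CategoryTheory.Limits Pretriangulated

namespace Groth.Agent.Helper7.QB36

attribute [local instance] HasDerivedCategory.standard

open DerivedCategory Groth.Agent.H4 Groth.Agent.H4.ProjAmp

variable {A : Type u} [CommRing A]

/-- the inclusion of `K(gs)` into `K(g :: gs)`. -/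
noncomputable def vmap (g : A) (gs : List A) :
    Q.obj (Koszul.koszul A gs) ⟶ Q.obj (Koszul.koszul A (g :: gs)) :=
  Q.map (CochainComplex.mappingCone.inr (g • 𝟙 (Koszul.koszul A gs)))

lemma vmap_triangle (g : A) (gs : List A) :
    ∃ w : Q.obj (Koszul.koszul A (g :: gs)) ⟶ (Q.obj (Koszul.koszul A gs))⟦(1 : ℤ)⟧,
      Triangle.mk (g • 𝟙 (Q.obj (Koszul.koszul A gs))) (vmap g gs) w ∈
        distTriang (DerivedCategory (ModuleCat.{u} A)) := by
  have h := DerivedCategory.mappingCone_triangle_distinguished (g • 𝟙 (Koszul.koszul A gs))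
  have e : Q.map (g • 𝟙 (Koszul.koszul A gs)) = g • 𝟙 (Q.obj (Koszul.koszul A gs)) := by
    rw [CategoryTheory.Functor.map_smul, CategoryTheory.Functor.map_id]
  refine ⟨Q.map (CochainComplex.mappingCone.triangle (g • 𝟙 (Koszul.koszul A gs))).mor₃ ≫
      (Q.commShiftIso (1 : ℤ)).hom.app (Koszul.koszul A gs), ?_⟩
  rw [← e]
  exact h

/-- the canonical map `A[0] ⟶ K(gs)`. -/
noncomputable def iota :
    (gs : List A) → (Q.obj (Koszul.koszul A []) ⟶ Q.obj (Koszul.koszul A gs))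
  | [] => 𝟙 _
  | g :: gs => iota gs ≫ vmap g gs

lemma dom_cons (g : A) {gs' gs : List A}
    (θ : Q.obj (Koszul.koszul A gs') ⟶ Q.obj (Koszul.koszul A gs)) :
    ∃ θ' : Q.obj (Koszul.koszul A (g :: gs')) ⟶ Q.obj (Koszul.koszul A (g :: gs)),
      vmap g gs' ≫ θ' = θ ≫ vmap g gs := by
  obtain ⟨w', hT'⟩ := vmap_triangle g gs'
  obtain ⟨w, hT⟩ := vmap_triangle g gs
  have fac : (g • 𝟙 (Q.obj (Koszul.koszul A gs'))) ≫ θ =
      θ ≫ (g • 𝟙 (Q.obj (Koszul.koszul A gs))) := by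
    rw [← QB28.smul_eq_id_comp, ← QB28.smul_eq_comp_id]
  obtain ⟨c, hc, -⟩ := complete_distinguished_triangle_morphism _ _ hT' hT θ θ fac
  exact ⟨c, hc⟩

lemma dom_head (g : A) (e k : ℕ) (gs : List A) :
    ∃ θ' : Q.obj (Koszul.koszul A (g ^ (e + k) :: gs)) ⟶ Q.obj (Koszul.koszul A (g ^ e :: gs)),
      vmap (g ^ (e + k)) gs ≫ θ' = vmap (g ^ e) gs := by
  obtain ⟨w', hT'⟩ := vmap_triangle (g ^ (e + k)) gs
  obtain ⟨w, hT⟩ := vmap_triangle (g ^ e) gs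
  have fac : (g ^ (e + k) • 𝟙 (Q.obj (Koszul.koszul A gs))) ≫ 𝟙 (Q.obj (Koszul.koszul A gs)) =
      (g ^ k • 𝟙 (Q.obj (Koszul.koszul A gs))) ≫ (g ^ e • 𝟙 (Q.obj (Koszul.koszul A gs))) := by
    rw [Category.comp_id, ← QB28.smul_eq_id_comp, ← mul_smul, pow_add, mul_comm]
  obtain ⟨c, hc, -⟩ := complete_distinguished_triangle_morphism _ _ hT' hT
    (g ^ k • 𝟙 (Q.obj (Koszul.koszul A gs))) (𝟙 (Q.obj (Koszul.koszul A gs))) fac
  exact ⟨c, hc.trans (Category.id_comp _)⟩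

lemma dom_pow : ∀ (fs : List A) (e k : ℕ),
    ∃ θ : Q.obj (Koszul.koszul A (fs.map (fun a => a ^ (e + k)))) ⟶
        Q.obj (Koszul.koszul A (fs.map (fun a => a ^ e))),
      iota (fs.map (fun a => a ^ (e + k))) ≫ θ = iota (fs.map (fun a => a ^ e))
  | [], e, k => ⟨𝟙 _, Category.comp_id _⟩
  | f :: fs, e, k => by
    obtain ⟨θ, hθ⟩ := dom_pow fs e k
    obtain ⟨θ₁, hθ₁⟩ := dom_cons (f ^ (e + k)) θ
    obtain ⟨θ₂, hθ₂⟩ := dom_head f e k (fs.map (fun a => a ^ e))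
    refine ⟨θ₁ ≫ θ₂, ?_⟩
    change (iota (fs.map (fun a => a ^ (e + k))) ≫ vmap (f ^ (e + k)) _) ≫ θ₁ ≫ θ₂ =
      iota (fs.map (fun a => a ^ e)) ≫ vmap (f ^ e) _
    rw [Category.assoc, reassoc_of% hθ₁, hθ₂, ← Category.assoc, hθ]

/-- degree-range version of the torsion dévissage. -/
theorem tors_koszul_range (N : DerivedCategory (ModuleCat.{u} A)) (f : A) :
    ∀ (gs : List A) (m : ℤ),
    (∀ j : ℕ, j ≤ gs.length → ∀ ψ : (Q.obj (Koszul.koszul A []))⟦m + j⟧ ⟶ N,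
      ∃ k : ℕ, f ^ k • ψ = 0) →
    ∀ φ : (Q.obj (Koszul.koszul A gs))⟦m⟧ ⟶ N, ∃ k : ℕ, f ^ k • φ = 0
  | [], m, h => by
    intro φ
    have h0 := h 0 le_rfl
    have e : m + ((0 : ℕ) : ℤ) = m := by simp
    rw [e] at h0
    exact h0 φ
  | g :: gs, m, h => by
    intro φ
    obtain ⟨v, w, hT⟩ := QB29.koszul_triangle g gs
    obtain ⟨k, hk⟩ := tors_koszul_range N f gs m (fun j hj ψ => h j (by simp; omega) ψ)
      (v⟦m⟧' ≫ φ)
    rw [← Linear.comp_smul] at hk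
    obtain ⟨ψ, hψ⟩ := QB28.exact₃_shift _ hT m (f ^ k • φ) hk
    let e := (shiftFunctorAdd' (DerivedCategory (ModuleCat.{u} A)) (1 : ℤ) m (1 + m) rfl).app
      (Q.obj (Koszul.koszul A gs))
    obtain ⟨k', hk'⟩ := tors_koszul_range N f gs (1 + m) (fun j hj ψ' => by
        have hj' := h (j + 1) (by simp; omega)
        have e' : m + ((j + 1 : ℕ) : ℤ) = 1 + m + j := by push_cast; ring
        rw [e'] at hj'
        exact hj' ψ') (e.hom ≫ ψ)
    rw [← Linear.comp_smul] at hk'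
    have hm' : f ^ k' • ψ = 0 := (cancel_epi e.hom).1 (hk'.trans comp_zero.symm)
    refine ⟨k' + k, ?_⟩
    have hφ : f ^ k • φ = w⟦m⟧' ≫ ψ := hψ
    calc f ^ (k' + k) • φ = f ^ k' • (f ^ k • φ) := by rw [pow_add, mul_smul]
      _ = f ^ k' • (w⟦m⟧' ≫ ψ) := congrArg (fun x => f ^ k' • x) hφ
      _ = w⟦m⟧' ≫ (f ^ k' • ψ) := (Linear.comp_smul _ _ _ (w⟦m⟧') (f ^ k') ψ).symm
      _ = w⟦m⟧' ≫ 0 := congrArg (fun x => w⟦m⟧' ≫ x) hm'
      _ = 0 := comp_zero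

/-- **factorization through a Koszul complex on powers.** -/
theorem factor : ∀ (fs : List A) (N : DerivedCategory (ModuleCat.{u} A)),
    (∀ g ∈ fs, ∀ j : ℕ, j < fs.length →
      ∀ ψ : (Q.obj (Koszul.koszul A []))⟦(j : ℤ)⟧ ⟶ N, ∃ k : ℕ, g ^ k • ψ = 0) →
    ∀ s : Q.obj (Koszul.koszul A []) ⟶ N,
      ∃ (e : ℕ) (ψ : Q.obj (Koszul.koszul A (fs.map (fun a => a ^ e))) ⟶ N),
        iota (fs.map (fun a => a ^ e)) ≫ ψ = s
  | [], N, _, s => ⟨0, s, Category.id_comp s⟩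
  | f :: fs, N, h, s => by
    obtain ⟨e', ψ', hψ'⟩ := factor fs N
      (fun g hg j hj ψ => h g (List.mem_cons_of_mem f hg) j (by simp; omega) ψ) s
    let z := (shiftFunctorZero (DerivedCategory (ModuleCat.{u} A)) ℤ).app
      (Q.obj (Koszul.koszul A (fs.map (fun a => a ^ e'))))
    obtain ⟨k, hk⟩ := tors_koszul_range N f (fs.map (fun a => a ^ e')) 0 (fun j hj ψ => by
        have hj' := h f List.mem_cons_self j (by simp at hj ⊢; omega)
        have e0 : (j : ℤ) = 0 + (j : ℤ) := (zero_add _).symm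
        rw [e0] at hj'
        exact hj' ψ) (z.hom ≫ ψ')
    rw [← Linear.comp_smul] at hk
    have hk' : f ^ k • ψ' = 0 := (cancel_epi z.hom).1 (hk.trans comp_zero.symm)
    obtain ⟨θ, hθ⟩ := dom_pow fs e' k
    have h1 : (f ^ (e' + k) • 𝟙 (Q.obj (Koszul.koszul A (fs.map (fun a => a ^ (e' + k)))))) ≫
        (θ ≫ ψ') = 0 := by
      rw [← QB28.smul_eq_id_comp, pow_add, mul_smul, ← Linear.comp_smul, hk', comp_zero,
        smul_zero]
    obtain ⟨w, hT⟩ := vmap_triangle (f ^ (e' + k)) (fs.map (fun a => a ^ (e' + k)))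
    obtain ⟨ψ''', hψ'''⟩ := Triangle.yoneda_exact₂ _ hT (θ ≫ ψ') h1
    refine ⟨e' + k, ψ''', ?_⟩
    have hψ4 : θ ≫ ψ' = vmap (f ^ (e' + k)) (fs.map (fun a => a ^ (e' + k))) ≫ ψ''' := hψ'''
    calc iota ((f :: fs).map (fun a => a ^ (e' + k))) ≫ ψ'''
        = iota (fs.map (fun a => a ^ (e' + k))) ≫
            (vmap (f ^ (e' + k)) (fs.map (fun a => a ^ (e' + k))) ≫ ψ''') := Category.assoc _ _ _
      _ = iota (fs.map (fun a => a ^ (e' + k))) ≫ (θ ≫ ψ') :=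
          congrArg (fun x => iota (fs.map (fun a => a ^ (e' + k))) ≫ x) hψ4.symm
      _ = s := by rw [← Category.assoc, hθ, hψ']

end Groth.Agent.Helper7.QB36
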