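import Groth.Agent.Lib.Helper7.QB36
import Groth.Agent.Lib.Helper7.QB34

/-!
# Sections factor through Koszul complexes on powers (S1045)
-/

set_option autoImplicit false
universe u

open CategoryTheory CategoryTheory.Limits AlgebraicGeometry Pretriangulated Opposite
attribute [local instance] HasDerivedCategory.standard

namespace Groth.Agent.Helper7.QB37

open Groth.Agent.H4 DerivedCategory Groth.Agent.Helper7.QB31

variable {A : Type u} [CommRing A] [PreservesFiniteLimits (tilde.functor (CommRingCat.of A))]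

lemma tors_of_isZero_restrict_tilde (fs : List A) (M : ModuleCat.{u} A)
    (h1 : IsZero ((Scheme.Modules.restrictFunctor
      (LocCoh.puncturedOpen A (Ideal.span {a | a ∈ fs})).ι).obj
        ((tilde.functor (CommRingCat.of A)).obj M)))
    (g : A) (hg : g ∈ fs) (x : M) : ∃ k : ℕ, g ^ k • x = 0 := by
  have h0 : ∀ s : Γ((tilde.functor (CommRingCat.of A)).obj M,
      (PrimeSpectrum.basicOpen g : (Spec (CommRingCat.of A)).Opens)), s = 0 := fun s =>
    Groth.Agent.LD.QC.section_eq_zero_of_isZero_restrict _ _ h1 (basicOpen_le_of_mem fs g hg) s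
  exact QB32.tors_of_subsingleton_basicOpen (R := CommRingCat.of A) M g
    ⟨fun a b => (h0 a).trans (h0 b).symm⟩ x

theorem s1045 (fs : List A)
    (E : DCoh.D (Spec (CommRingCat.of A))) (hE : DCoh.IsQCohD E)
    (hU : ∀ i : ℤ, -(fs.length : ℤ) < i → i ≤ 0 →
      IsZero ((DCoh.HD E i).restrict (LocCoh.puncturedOpen A (Ideal.span {a | a ∈ fs})).ι))
    (s : DCoh.inD (Spec (CommRingCat.of A)) (Coh.structureModule (Spec (CommRingCat.of A))) ⟶ E) :
    ∃ (e : ℕ) (ψ : (DCoh.tildeD (CommRingCat.of A)).obj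
        (DerivedCategory.Q.obj (Koszul.koszul A (fs.map (fun a => a ^ e)))) ⟶ E)
      (t : DCoh.inD (Spec (CommRingCat.of A)) (Coh.structureModule (Spec (CommRingCat.of A))) ⟶
        (DCoh.tildeD (CommRingCat.of A)).obj
          (DerivedCategory.Q.obj (Koszul.koszul A (fs.map (fun a => a ^ e))))),
      t ≫ ψ = s := by
  haveI : PreservesFiniteColimits (tilde.functor (CommRingCat.of A)) := by
    haveI : (tilde.functor (CommRingCat.of A)).IsLeftAdjoint := tilde.adjunction.isLeftAdjoint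
    infer_instance
  obtain ⟨N, ⟨eF⟩⟩ := ((QB2.s0997 (CommRingCat.of A)).2.2 _).1 hE
  haveI : (DCoh.tildeD (CommRingCat.of A)).Full := (QB2.s0997 (CommRingCat.of A)).1
  have htors : ∀ g ∈ fs, ∀ j : ℕ, j < fs.length →
      ∀ ψ : (Q.obj (Koszul.koszul A []))⟦(j : ℤ)⟧ ⟶ N, ∃ k : ℕ, g ^ k • ψ = 0 := by
    intro g hg j hj ψ
    have hj' : (j : ℤ) < fs.length := by exact_mod_cast hj
    have hz : IsZero ((Scheme.Modules.restrictFunctor
        (LocCoh.puncturedOpen A (Ideal.span {a | a ∈ fs})).ι).obj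
        ((tilde.functor (CommRingCat.of A)).obj
          ((homologyFunctor (ModuleCat.{u} A) (-(j : ℤ))).obj N))) := by
      refine IsZero.of_iso (hU (-(j : ℤ)) (by omega) (by omega)) ?_
      exact (Scheme.Modules.restrictFunctor _).mapIso
        ((Groth.Agent.H7.DRec.homologyMapDerivedIso (tilde.functor (CommRingCat.of A)) N
          (-(j : ℤ))).symm ≪≫ (homologyFunctor _ (-(j : ℤ))).mapIso eF)
    obtain ⟨k, hk⟩ := QB33.tors_W_at N g (-(j : ℤ))
      (fun x => tors_of_isZero_restrict_tilde fs _ hz g hg x)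
      ((QB33.nilIso (-(j : ℤ)) j (by simp)).hom ≫ ψ)
    refine ⟨k, ?_⟩
    rw [← Linear.comp_smul] at hk
    exact (cancel_epi (QB33.nilIso (A := A) (-(j : ℤ)) j (by simp)).hom).1
      (hk.trans comp_zero.symm)
  let c : (DCoh.tildeD (CommRingCat.of A)).obj (Q.obj (Koszul.koszul A [])) ≅
      DCoh.inD (Spec (CommRingCat.of A)) (Coh.structureModule (Spec (CommRingCat.of A))) :=
    (DCoh.tildeD (CommRingCat.of A)).mapIso
      ((singleFunctorIsoCompQ (ModuleCat.{u} A) 0).app (ModuleCat.of A A)).symm ≪≫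
      ((tilde.functor (CommRingCat.of A)).mapDerivedCategorySingleFunctor 0).app
        (ModuleCat.of A A)
  obtain ⟨s₀, hs₀⟩ := (DCoh.tildeD (CommRingCat.of A)).map_surjective (c.hom ≫ s ≫ eF.inv)
  obtain ⟨e, ψ₀, hψ₀⟩ := QB36.factor fs N htors s₀
  refine ⟨e, (DCoh.tildeD (CommRingCat.of A)).map ψ₀ ≫ eF.hom,
    c.inv ≫ (DCoh.tildeD (CommRingCat.of A)).map (QB36.iota _), ?_⟩
  rw [Category.assoc, ← Category.assoc ((DCoh.tildeD (CommRingCat.of A)).map _),
    ← CategoryTheory.Functor.map_comp, hψ₀, hs₀]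
  simp

end Groth.Agent.Helper7.QB37
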