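import Groth.Agent.Lib.Helper7.QB36
import Groth.Agent.H4.EV2
import Groth.Agent.H4.DRing1

/-!
# Factoring maps from perfect objects to torsion objects through Koszul-type cones
-/

set_option autoImplicit false
universe u

open CategoryTheory CategoryTheory.Limits Pretriangulated

namespace Groth.Agent.Helper7.QB38

attribute [local instance] HasDerivedCategory.standard

open DerivedCategory Groth.Agent.H4 Groth.Agent.H4.ProjAmp

variable {A : Type u} [CommRing A]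

/-- iterated cones of multiplication maps on `M`. -/
noncomputable def Kz (M : DerivedCategory (ModuleCat.{u} A)) :
    List A → DerivedCategory (ModuleCat.{u} A)
  | [] => M
  | g :: gs => (distinguished_cocone_triangle (g • 𝟙 (Kz M gs))).choose

variable (M : DerivedCategory (ModuleCat.{u} A))

noncomputable def vmap (g : A) (gs : List A) : Kz M gs ⟶ Kz M (g :: gs) :=
  (distinguished_cocone_triangle (g • 𝟙 (Kz M gs))).choose_spec.choose

lemma vmap_triangle (g : A) (gs : List A) :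
    ∃ w : Kz M (g :: gs) ⟶ (Kz M gs)⟦(1 : ℤ)⟧,
      Triangle.mk (g • 𝟙 (Kz M gs)) (vmap M g gs) w ∈
        distTriang (DerivedCategory (ModuleCat.{u} A)) :=
  (distinguished_cocone_triangle (g • 𝟙 (Kz M gs))).choose_spec.choose_spec

/-- the canonical map `M ⟶ Kz M gs`. -/
noncomputable def iota : (gs : List A) → (M ⟶ Kz M gs)
  | [] => 𝟙 _
  | g :: gs => iota gs ≫ vmap M g gs

lemma dom_cons (g : A) {gs' gs : List A} (θ : Kz M gs' ⟶ Kz M gs) :
    ∃ θ' : Kz M (g :: gs') ⟶ Kz M (g :: gs), vmap M g gs' ≫ θ' = θ ≫ vmap M g gs := by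
  obtain ⟨w', hT'⟩ := vmap_triangle M g gs'
  obtain ⟨w, hT⟩ := vmap_triangle M g gs
  have fac : (g • 𝟙 (Kz M gs')) ≫ θ = θ ≫ (g • 𝟙 (Kz M gs)) := by
    rw [← QB28.smul_eq_id_comp, ← QB28.smul_eq_comp_id]
  obtain ⟨c, hc, -⟩ := complete_distinguished_triangle_morphism _ _ hT' hT θ θ fac
  exact ⟨c, hc⟩

lemma dom_head (g : A) (e k : ℕ) (gs : List A) :
    ∃ θ' : Kz M (g ^ (e + k) :: gs) ⟶ Kz M (g ^ e :: gs),
      vmap M (g ^ (e + k)) gs ≫ θ' = vmap M (g ^ e) gs := by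
  obtain ⟨w', hT'⟩ := vmap_triangle M (g ^ (e + k)) gs
  obtain ⟨w, hT⟩ := vmap_triangle M (g ^ e) gs
  have fac : (g ^ (e + k) • 𝟙 (Kz M gs)) ≫ 𝟙 (Kz M gs) =
      (g ^ k • 𝟙 (Kz M gs)) ≫ (g ^ e • 𝟙 (Kz M gs)) := by
    rw [Category.comp_id, ← QB28.smul_eq_id_comp, ← mul_smul, pow_add, mul_comm]
  obtain ⟨c, hc, -⟩ := complete_distinguished_triangle_morphism _ _ hT' hT
    (g ^ k • 𝟙 (Kz M gs)) (𝟙 (Kz M gs)) fac
  exact ⟨c, hc.trans (Category.id_comp _)⟩

lemma dom_pow : ∀ (fs : List A) (e k : ℕ),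
    ∃ θ : Kz M (fs.map (fun a => a ^ (e + k))) ⟶ Kz M (fs.map (fun a => a ^ e)),
      iota M (fs.map (fun a => a ^ (e + k))) ≫ θ = iota M (fs.map (fun a => a ^ e))
  | [], e, k => ⟨𝟙 _, Category.comp_id _⟩
  | f :: fs, e, k => by
    obtain ⟨θ, hθ⟩ := dom_pow fs e k
    obtain ⟨θ₁, hθ₁⟩ := dom_cons M (f ^ (e + k)) θ
    obtain ⟨θ₂, hθ₂⟩ := dom_head M f e k (fs.map (fun a => a ^ e))
    refine ⟨θ₁ ≫ θ₂, ?_⟩
    change (iota M (fs.map (fun a => a ^ (e + k))) ≫ vmap M (f ^ (e + k)) _) ≫ θ₁ ≫ θ₂ =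
      iota M (fs.map (fun a => a ^ e)) ≫ vmap M (f ^ e) _
    rw [Category.assoc, reassoc_of% hθ₁, hθ₂, ← Category.assoc, hθ]

/-- torsion of maps out of `M` passes to the Koszul-type cones. -/
lemma tors_Kz (N : DerivedCategory (ModuleCat.{u} A)) (f : A) (hM : QB28.Tors N f M) :
    ∀ gs : List A, QB28.Tors N f (Kz M gs)
  | [] => hM
  | g :: gs => by
    obtain ⟨w, hT⟩ := vmap_triangle M g gs
    exact QB28.tors_obj₃ N f _ hT (tors_Kz N f hM gs) (tors_Kz N f hM gs)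

/-- the Koszul-type cones are killed by powers of the elements. -/
theorem Kz_tors : ∀ (gs : List A) (g : A), g ∈ gs → ∃ k : ℕ, g ^ k • 𝟙 (Kz M gs) = 0
  | [], g, hg => by simp at hg
  | f :: fs, g, hg => by
    obtain ⟨w, hT⟩ := vmap_triangle M f fs
    rcases List.mem_cons.1 hg with rfl | hg'
    · refine ⟨2, ?_⟩
      rw [pow_two]
      exact QB28.sq_smul_id_cone g _ _ _ w hT
    · obtain ⟨k, hk⟩ := Kz_tors fs g hg'
      refine ⟨k + k, ?_⟩
      rw [pow_add]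
      exact QB28.smul_id_obj₃ _ hT (g ^ k) (g ^ k) hk hk

/-- the Koszul-type cones on a perfect object are perfect. -/
theorem isPerfect_Kz (hM : DRing.IsPerfect A M) : ∀ gs : List A, DRing.IsPerfect A (Kz M gs)
  | [] => hM
  | g :: gs => by
    obtain ⟨w, hT⟩ := vmap_triangle M g gs
    exact DRing1.isPerfect_obj₃ _ hT (isPerfect_Kz hM gs) (isPerfect_Kz hM gs)

/-- `Tors N f` is a thick predicate. -/
lemma thick_tors (N : DerivedCategory (ModuleCat.{u} A)) (f : A) :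
    EV2.ThickPred (fun M : Dual.D A => QB28.Tors N f M) where
  iso := fun {X Y} e h n φ => by
    obtain ⟨k, hk⟩ := h n ((shiftFunctor _ n).map e.hom ≫ φ)
    refine ⟨k, ?_⟩
    rw [← Linear.comp_smul] at hk
    haveI : IsIso ((shiftFunctor (DerivedCategory (ModuleCat.{u} A)) n).map e.hom) := inferInstance
    exact (cancel_epi ((shiftFunctor (DerivedCategory (ModuleCat.{u} A)) n).map e.hom)).1
      (hk.trans comp_zero.symm)
  shift := fun X n h m φ => by
    let e := (shiftFunctorAdd' (DerivedCategory (ModuleCat.{u} A)) n m (n + m) rfl).app X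
    obtain ⟨k, hk⟩ := h (n + m) (e.hom ≫ φ)
    refine ⟨k, ?_⟩
    rw [← Linear.comp_smul] at hk
    exact (cancel_epi e.hom).1 (hk.trans comp_zero.symm)
  ext₂ := fun T hT h1 h3 n φ => by
    obtain ⟨k, hk⟩ := h1 n (T.mor₁⟦n⟧' ≫ φ)
    rw [← Linear.comp_smul] at hk
    obtain ⟨ψ, hψ⟩ := QB28.exact₂_shift T hT n (f ^ k • φ) hk
    obtain ⟨m, hm⟩ := h3 n ψ
    refine ⟨m + k, ?_⟩
    rw [pow_add, mul_smul, hψ, ← Linear.comp_smul, hm, comp_zero]
  retract := fun {X Y} i p hip h n φ => by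
    obtain ⟨k, hk⟩ := h n (p⟦n⟧' ≫ φ)
    refine ⟨k, ?_⟩
    rw [← Linear.comp_smul] at hk
    have h1 : i⟦n⟧' ≫ p⟦n⟧' ≫ (f ^ k • φ) = 0 := by rw [hk, comp_zero]
    rw [← Category.assoc, ← CategoryTheory.Functor.map_comp, hip,
      CategoryTheory.Functor.map_id, Category.id_comp] at h1
    exact h1

/-- maps from perfect objects to objects with torsion cohomology are torsion. -/
theorem tors_of_isPerfect (N : DerivedCategory (ModuleCat.{u} A)) (f : A)
    (hW : ∀ (i : ℤ) (ψ : AP1.W A i ⟶ N), ∃ k : ℕ, f ^ k • ψ = 0)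
    (hM : DRing.IsPerfect A M) : QB28.Tors N f M := by
  refine (thick_tors N f).of_isPerfect ?_ hM
  intro n φ
  let e : AP1.W A (-n) ≅ (Dual.inD A A)⟦n⟧ := (shI (ModuleCat.of A A) n (-n) (by simp)).symm
  obtain ⟨k, hk⟩ := hW (-n) (e.hom ≫ φ)
  refine ⟨k, ?_⟩
  rw [← Linear.comp_smul] at hk
  exact (cancel_epi e.hom).1 (hk.trans comp_zero.symm)

/-- **factorization through a Koszul-type cone on powers.** -/
theorem factorKz (N : DerivedCategory (ModuleCat.{u} A)) : ∀ (fs : List A),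
    (∀ g ∈ fs, QB28.Tors N g M) → ∀ s : M ⟶ N,
      ∃ (e : ℕ) (ψ : Kz M (fs.map (fun a => a ^ e)) ⟶ N),
        iota M (fs.map (fun a => a ^ e)) ≫ ψ = s
  | [], _, s => ⟨0, s, Category.id_comp s⟩
  | f :: fs, h, s => by
    obtain ⟨e', ψ', hψ'⟩ := factorKz N fs
      (fun g hg => h g (List.mem_cons_of_mem f hg)) s
    let z := (shiftFunctorZero (DerivedCategory (ModuleCat.{u} A)) ℤ).app
      (Kz M (fs.map (fun a => a ^ e')))
    obtain ⟨k, hk⟩ := tors_Kz M N f (h f List.mem_cons_self) (fs.map (fun a => a ^ e')) 0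
      (z.hom ≫ ψ')
    rw [← Linear.comp_smul] at hk
    have hk' : f ^ k • ψ' = 0 := (cancel_epi z.hom).1 (hk.trans comp_zero.symm)
    obtain ⟨θ, hθ⟩ := dom_pow M fs e' k
    have h1 : (f ^ (e' + k) • 𝟙 (Kz M (fs.map (fun a => a ^ (e' + k))))) ≫ (θ ≫ ψ') = 0 := by
      rw [← QB28.smul_eq_id_comp, pow_add, mul_smul, ← Linear.comp_smul, hk', comp_zero,
        smul_zero]
    obtain ⟨w, hT⟩ := vmap_triangle M (f ^ (e' + k)) (fs.map (fun a => a ^ (e' + k)))
    obtain ⟨ψ''', hψ'''⟩ := Triangle.yoneda_exact₂ _ hT (θ ≫ ψ') h1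
    refine ⟨e' + k, ψ''', ?_⟩
    have hψ4 : θ ≫ ψ' = vmap M (f ^ (e' + k)) (fs.map (fun a => a ^ (e' + k))) ≫ ψ''' := hψ'''
    calc iota M ((f :: fs).map (fun a => a ^ (e' + k))) ≫ ψ'''
        = iota M (fs.map (fun a => a ^ (e' + k))) ≫
            (vmap M (f ^ (e' + k)) (fs.map (fun a => a ^ (e' + k))) ≫ ψ''') :=
          Category.assoc _ _ _
      _ = iota M (fs.map (fun a => a ^ (e' + k))) ≫ (θ ≫ ψ') :=
          congrArg (fun x => iota M (fs.map (fun a => a ^ (e' + k))) ≫ x) hψ4.symm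
      _ = s := by rw [← Category.assoc, hθ, hψ']

/-- **main algebraic statement**: a map from a perfect object to an object with torsion
cohomology factors through a perfect object killed by powers of the `fs`. -/
theorem exists_factor (fs : List A) (N : DerivedCategory (ModuleCat.{u} A))
    (hW : ∀ g ∈ fs, ∀ (i : ℤ) (ψ : AP1.W A i ⟶ N), ∃ k : ℕ, g ^ k • ψ = 0)
    (hM : DRing.IsPerfect A M) (s : M ⟶ N) :
    ∃ (P : DerivedCategory (ModuleCat.{u} A)) (ι : M ⟶ P) (χ : P ⟶ N), ι ≫ χ = s ∧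
      DRing.IsPerfect A P ∧ ∀ g ∈ fs, ∃ k : ℕ, g ^ k • 𝟙 P = 0 := by
  obtain ⟨e, ψ, hψ⟩ := factorKz M N fs (fun g hg => tors_of_isPerfect M N g (hW g hg) hM) s
  refine ⟨_, iota M _, ψ, hψ, isPerfect_Kz M hM _, fun g hg => ?_⟩
  obtain ⟨k, hk⟩ := Kz_tors M (fs.map (fun a => a ^ e)) (g ^ e)
    (List.mem_map.2 ⟨g, hg, rfl⟩)
  exact ⟨e * k, by rw [pow_mul]; exact hk⟩

end Groth.Agent.Helper7.QB38
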