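import Groth.Agent.Lib.Helper7.QB38
import Groth.Agent.Lib.Helper7.QB34
import Groth.Agent.Lib.Helper7.QB14
import Groth.Agent.H4.TilD4
import Groth.Agent.H4.PSch5

/-!
# Maps from perfect objects to objects supported on `V(fs)` factor through perfect objects
supported on `V(fs)` (on `Spec A`)
-/

set_option autoImplicit false
universe u

open CategoryTheory CategoryTheory.Limits AlgebraicGeometry Pretriangulated Opposite
attribute [local instance] HasDerivedCategory.standard

namespace Groth.Agent.Helper7.QB39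

open Groth.Agent.H4 DerivedCategory Groth.Agent.Helper7.QB26 Groth.Agent.Helper7.QB27
  Groth.Agent.Helper7.QB31

variable {A : Type u} [CommRing A]

/-- homology of a complex killed (in the derived category) by a scalar is killed by it. -/
lemma homology_tors_of_smul_id (K : CochainComplex (ModuleCat.{u} A) ℤ) (r : A)
    (hk : r • 𝟙 (Q.obj K) = 0) (n : ℤ) (x : (K.homology n : ModuleCat.{u} A)) : r • x = 0 := by
  have e : Q.map (r • 𝟙 K) = 0 := by
    rw [CategoryTheory.Functor.map_smul, CategoryTheory.Functor.map_id]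
    exact hk
  have h0 : HomologicalComplex.homologyMap (r • 𝟙 K) n = 0 := by
    have nat := (homologyFunctorFactors (ModuleCat.{u} A) n).hom.naturality (r • 𝟙 K)
    dsimp at nat
    rw [e, CategoryTheory.Functor.map_zero, zero_comp] at nat
    exact (cancel_epi ((homologyFunctorFactors (ModuleCat.{u} A) n).hom.app K)).1
      (nat.symm.trans comp_zero.symm)
  obtain ⟨z, rfl⟩ := H5ExtCech.homologyπ_surjective K n x
  have h1 := H5ExtCech.homologyMap_homologyπ (r • 𝟙 K) n z
  rw [h0] at h1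
  have h2 : (HomologicalComplex.cyclesMap (r • 𝟙 K) n).hom z = r • z := by
    apply H5ExtCech.iCycles_injective K n
    rw [H5ExtCech.iCycles_cyclesMap, map_smul]
    rfl
  rw [h2, map_smul] at h1
  exact h1.symm

variable [PreservesFiniteLimits (tilde.functor (CommRingCat.of A))]

/-- the tilde of an object killed by powers of the `fs` vanishes on the punctured open. -/
theorem isZero_restrict_of_tors (fs : List A) (P : DerivedCategory (ModuleCat.{u} A))
    (h : ∀ g ∈ fs, ∃ k : ℕ, g ^ k • 𝟙 P = 0) :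
    IsZero ((DCoh.restrictD (LocCoh.puncturedOpen A (Ideal.span {a | a ∈ fs})).ι).obj
      ((DCoh.tildeD (CommRingCat.of A)).obj P)) := by
  haveI : PreservesFiniteColimits (tilde.functor (CommRingCat.of A)) := by
    haveI : (tilde.functor (CommRingCat.of A)).IsLeftAdjoint := tilde.adjunction.isLeftAdjoint
    infer_instance
  let K := Q.objPreimage P
  let ε : Q.obj K ≅ P := Q.objObjPreimageIso P
  refine IsZero.of_iso ?_ ((DCoh.restrictD _).mapIso
    ((DCoh.tildeD (CommRingCat.of A)).mapIso ε.symm))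
  apply isZero_of_homology
  intro n
  refine IsZero.of_iso ?_ (Groth.Agent.H7.DRec.homologyMapDerivedIso
    (Scheme.Modules.restrictFunctor (LocCoh.puncturedOpen A (Ideal.span {a | a ∈ fs})).ι) _ n)
  refine IsZero.of_iso ?_ ((Scheme.Modules.restrictFunctor _).mapIso
    (Groth.Agent.H7.DRec.homologyMapDerivedIso (tilde.functor (CommRingCat.of A))
      (Q.obj K) n ≪≫
      (tilde.functor (CommRingCat.of A)).mapIso
        ((DerivedCategory.homologyFunctorFactors (ModuleCat.{u} A) n).app K)))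
  apply Groth.Agent.H2.AlgzEpi.isZero_restrict_tilde
  intro x hx
  have hx' : ¬ ((Ideal.span {a | a ∈ fs} : Ideal A) : Set A) ⊆ x.asIdeal := hx
  have : ∃ g ∈ fs, g ∉ x.asIdeal := by
    by_contra hcon
    push_neg at hcon
    apply hx'
    have : Ideal.span {a | a ∈ fs} ≤ x.asIdeal := Ideal.span_le.2 (fun a ha => hcon a ha)
    exact this
  obtain ⟨g, hg, hgx⟩ := this
  obtain ⟨k, hk⟩ := h g hg
  have hk' : g ^ k • 𝟙 (Q.obj K) = 0 := by
    have e1 : g ^ k • 𝟙 (Q.obj K) = ε.hom ≫ (g ^ k • 𝟙 P) ≫ ε.inv := by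
      rw [Linear.smul_comp, Linear.comp_smul, Category.id_comp, ε.hom_inv_id]
    rw [e1, hk, zero_comp, comp_zero]
  exact ⟨g, hgx, fun q => ⟨k, homology_tors_of_smul_id K (g ^ k) hk' n q⟩⟩

/-- **factoring on `Spec A`.** -/
theorem exists_factor_spec (fs : List A) (E F : DCoh.D (Spec (CommRingCat.of A)))
    (hE : DCoh.IsPerfect E) (hF : DCoh.IsQCohD F)
    (hF0 : IsZero ((DCoh.restrictD (LocCoh.puncturedOpen A (Ideal.span {a | a ∈ fs})).ι).obj F))
    (ψ : E ⟶ F) :
    ∃ (P : DCoh.D (Spec (CommRingCat.of A))) (ι : E ⟶ P) (χ : P ⟶ F), ι ≫ χ = ψ ∧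
      DCoh.IsPerfect P ∧
      IsZero ((DCoh.restrictD (LocCoh.puncturedOpen A (Ideal.span {a | a ∈ fs})).ι).obj P) := by
  obtain ⟨M, ⟨eE⟩⟩ := ((QB2.s0997 (CommRingCat.of A)).2.2 _).1
    (Groth.Agent.Helper7.QB14.isQCohD_of_isPerfect E hE)
  obtain ⟨N, ⟨eF⟩⟩ := ((QB2.s0997 (CommRingCat.of A)).2.2 _).1 hF
  haveI : (DCoh.tildeD (CommRingCat.of A)).Full := (QB2.s0997 (CommRingCat.of A)).1
  have hM : DRing.IsPerfect A M :=
    (Groth.Agent.H4.TilD4.S1105 A M).1 (Groth.Agent.H4.PSch5.isPerfect_of_iso eE.symm hE)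
  obtain ⟨s₀, hs₀⟩ := (DCoh.tildeD (CommRingCat.of A)).map_surjective (eE.hom ≫ ψ ≫ eF.inv)
  have htors : ∀ g ∈ fs, ∀ (i : ℤ) (φ : AP1.W A i ⟶ N), ∃ k : ℕ, g ^ k • φ = 0 :=
    fun g hg => QB30.tors_W N g (fun i x => QB32.tors_of_isZero_restrict fs N
      (IsZero.of_iso hF0 ((DCoh.restrictD _).mapIso eF)) g hg i x)
  obtain ⟨P, ι, χ, hfac, hP, hPt⟩ := QB38.exists_factor M fs N htors hM s₀
  refine ⟨(DCoh.tildeD (CommRingCat.of A)).obj P,
    eE.inv ≫ (DCoh.tildeD (CommRingCat.of A)).map ι,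
    (DCoh.tildeD (CommRingCat.of A)).map χ ≫ eF.hom, ?_,
    (Groth.Agent.H4.TilD4.S1105 A P).2 hP, isZero_restrict_of_tors fs P hPt⟩
  rw [Category.assoc, ← Category.assoc ((DCoh.tildeD (CommRingCat.of A)).map ι),
    ← CategoryTheory.Functor.map_comp, hfac, hs₀]
  simp

end Groth.Agent.Helper7.QB39
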