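import Mathlib
import Groth.Prelude.Def_DCoh4
import Groth.Agent.Lib.Helper7.QB3
import Groth.Agent.H4.RT5
import Groth.Agent.Lib.Lead.QC.TensorQC

set_option autoImplicit false
universe u
open CategoryTheory Limits Opposite Pretriangulated AlgebraicGeometry TopologicalSpace

namespace Groth.Agent.Helper7.QB4

open DerivedCategory Groth.Agent.Helper7.QB1 Groth.Agent.Helper7.QB2 Groth.Agent.Helper7.QB3
open Groth.Agent.H4.LDS14 Groth.Agent.H4.LDS17 Groth.Agent.H4.PSch1 Groth.Agent.H4.PSch2 Groth.Agent.LD.QC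

attribute [local instance] HasDerivedCategory.standard

variable {X : Scheme.{u}}

lemma tensorBi_eq (M N : X.Modules) : (DCoh.tensorBi.obj M).obj N = CohB1.tensorMod M N := rfl

lemma qc_tensorBi (M N : X.Modules) (hM : M.IsQuasicoherent) (hN : N.IsQuasicoherent) :
    ((DCoh.tensorBi.obj M).obj N).IsQuasicoherent := by
  rw [tensorBi_eq]
  exact tensorMod_isQuasicoherent M N

lemma qc_sigma {J : Type} (f : J → X.Modules) [HasCoproduct f]
    (hf : ∀ j, (f j).IsQuasicoherent) : (∐ f).IsQuasicoherent := by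
  let e : ULift.{u} J ≃ J := Equiv.ulift
  have iso : ∐ (f ∘ e) ≅ ∐ f := Sigma.reindex e f
  refine qc_of_iso iso ?_
  exact qc_colimit (Discrete.functor (f ∘ e)) (fun ⟨j⟩ => hf _)

lemma qc_tensorCx_X (K L : CochainComplex X.Modules ℤ) (hK : ∀ n, (K.X n).IsQuasicoherent)
    (hL : ∀ n, (L.X n).IsQuasicoherent) (n : ℤ) :
    (((DCoh.tensorCx.obj K).obj L).X n).IsQuasicoherent := by
  change (∐ fun (i : (ComplexShape.π (ComplexShape.up ℤ) (ComplexShape.up ℤ)
    (ComplexShape.up ℤ)) ⁻¹' {n}) =>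
      (DCoh.tensorBi.obj (K.X i.1.1)).obj (L.X i.1.2)).IsQuasicoherent
  exact qc_sigma _ (fun i => qc_tensorBi _ _ (hK _) (hL _))


/-- an object of `D_QCoh(Spec A)` is represented by a stalkwise K-flat complex of quasi-coherent
modules (the tilde of a K-flat complex of `A`-modules). -/
lemma exists_tilde_model {A : Type u} [CommRing A] (K : DCoh.D (Spec (CommRingCat.of A)))
    (hK : DCoh.IsQCohD K) :
    ∃ T : CochainComplex (Spec (CommRingCat.of A)).Modules ℤ, SKF T ∧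
      (∀ n, (T.X n).IsQuasicoherent) ∧ Nonempty (Q.obj T ≅ K) := by
  haveI : PreservesFiniteLimits (tilde.functor (CommRingCat.of A)) :=
    Groth.Agent.H5.AG.tilde_preservesFiniteLimits _
  obtain ⟨M, ⟨eM⟩⟩ := ((s0997 (CommRingCat.of A)).2.2 K).1 hK
  obtain ⟨M', f, hM', hf⟩ := Groth.Agent.H4.LDS22.hasResCx_kflatR (A := A) (Q.objPreimage M)
  haveI := hf
  have e1 : Q.obj M' ≅ M := asIso (Q.map f) ≪≫ Q.objObjPreimageIso M
  have hq : ∀ (R : CommRingCat.{u}) (N : ModuleCat.{u} R),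
      ((tilde.functor R).obj N).IsQuasicoherent := fun R N => inferInstance
  refine ⟨((tilde.functor (CommRingCat.of A)).mapHomologicalComplex (ComplexShape.up ℤ)).obj M',
    Groth.Agent.H4.LDS22.skf_tilde M' hM',
    fun n => hq (CommRingCat.of A) (M'.X n), ⟨?_⟩⟩
  exact ((tilde.functor (CommRingCat.of A)).mapDerivedCategoryFactors.app M').symm ≪≫
    (DCoh.tildeD (CommRingCat.of A)).mapIso e1 ≪≫ eM

theorem s1062 (X : Scheme.{u}) (F : CochainComplex X.Modules ℤ)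
    (hF : DCoh.IsQCohD (DCoh.toD X F)) [DCoh.HasLTensorCx F] (E : DCoh.D X)
    (hE : DCoh.IsQCohD E) : DCoh.IsQCohD ((DCoh.LTensorCx F).obj E) := by
  intro n
  refine qc_of_forall_affine _ (fun U => ?_)
  obtain ⟨P, c, hc, hP, -⟩ := exists_skf_resolution (Q.objPreimage E)
  haveI := hc
  have eP : Q.obj P ≅ E := asIso (Q.map c) ≪≫ Q.objObjPreimageIso E
  obtain ⟨e0⟩ := Groth.Agent.H4.RT5.nonempty_RD_ltensor_iso U.2.fromSpec F E P hP eP
  have hPU : DCoh.IsQCohD (Q.obj ((resCx U.2.fromSpec).obj P)) :=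
    isQCohD_of_iso (RDfac U.2.fromSpec P)
      (isQCohD_RD U.2.fromSpec _ (isQCohD_of_iso eP.symm hE))
  have hFU : DCoh.IsQCohD (Q.obj ((resCx U.2.fromSpec).obj F)) :=
    isQCohD_of_iso (RDfac U.2.fromSpec F) (isQCohD_RD U.2.fromSpec _ hF)
  obtain ⟨TP, hTP, hTPq, ⟨eTP⟩⟩ := exists_tilde_model (A := Γ(X, U.1)) _ hPU
  obtain ⟨TF, hTF, hTFq, ⟨eTF⟩⟩ := exists_tilde_model (A := Γ(X, U.1)) _ hFU
  have hB : DCoh.IsKFlat ((resCx U.2.fromSpec).obj P) :=
    Groth.Agent.H4.LDS19.isKFlat_of_skf _ (Groth.Agent.H4.RT5.skf_resCx U.2.fromSpec P hP)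
  have hA' : DCoh.IsKFlat TF := Groth.Agent.H4.LDS19.isKFlat_of_skf _ hTF
  have e1 : Q.obj ((DCoh.tensorCx.obj ((resCx U.2.fromSpec).obj P)).obj
      ((resCx U.2.fromSpec).obj F)) ≅ Q.obj ((DCoh.tensorCx.obj TF).obj TP) :=
    Q.mapIso (Groth.Agent.H4.RT2.braidCx _ _) ≪≫
      Groth.Agent.H4.RT2.tensorIsoBoth hB hA' eTF.symm eTP.symm
  have h5 : DCoh.IsQCohD ((RD U.2.fromSpec).obj ((DCoh.LTensorCx F).obj E)) :=
    isQCohD_of_iso (e0 ≪≫ e1).symm
      (Groth.Agent.H6.LerayBB.isQCohD_Q_obj _ (qc_tensorCx_X TF TP hTFq hTPq))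
  exact qc_of_iso
    (Groth.Agent.H7.DRec.homologyMapDerivedIso (Scheme.Modules.restrictFunctor U.2.fromSpec)
      ((DCoh.LTensorCx F).obj E) n) (h5 n)

end Groth.Agent.Helper7.QB4
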