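import Mathlib
import Groth.Prelude.Def_DCoh4
import Groth.Agent.Lib.Helper7.QB3
import Groth.Agent.H4.RPC7
import Groth.Agent.H4.TilD11
import Groth.Agent.H4.LDS18
import Groth.Agent.H4.FlatFam2
import Groth.Agent.H4.FB5

/-! # fpqc descent of `m`-pseudo-coherence on `D_QCoh` (S1057) -/

set_option autoImplicit false
universe u
open CategoryTheory Limits Opposite Pretriangulated AlgebraicGeometry TopologicalSpace

namespace Groth.Agent.Helper7.QB7

open DerivedCategory Groth.Agent.Helper7.QB1 Groth.Agent.Helper7.QB2 Groth.Agent.Helper7.QB3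
open Groth.Agent.H4.PSch1 Groth.Agent.H4.PSch2 Groth.Agent.LD.QC Groth.Agent.H4.LDS14
open Groth.Agent.H4.LDS17
open Groth.Agent.H4.TilD10 Groth.Agent.H4.TilD11 Groth.Agent.H4.PCS7

attribute [local instance] HasDerivedCategory.standard

/-- the family of coordinate rings of a finite affine cover of `f⁻¹V` is jointly faithfully flat
over the coordinate ring of `V`, for `f` flat and surjective. -/
lemma jff_of_cover {X' X : Scheme.{u}} (f : X' ⟶ X) [Flat f] [Surjective f]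
    {V : X.Opens} (hV : IsAffineOpen V) {n : ℕ} (w : Fin n → X'.affineOpens)
    (hle : ∀ i, ((w i : X'.affineOpens) : X'.Opens) ≤ f ⁻¹ᵁ V)
    (hcov : ∀ x' : X', x' ∈ f ⁻¹ᵁ V → ∃ i, x' ∈ ((w i : X'.affineOpens) : X'.Opens)) :
    Groth.Agent.H4.FlatFam.JFF (A := Γ(X, V)) (B := fun i => Γ(X', ((w i : X'.affineOpens) : X'.Opens)))
      (fun i => (f.appLE V (w i) (hle i)).hom) := by
  letI : ∀ i, Algebra Γ(X, V) Γ(X', ((w i : X'.affineOpens) : X'.Opens)) :=
    fun i => (f.appLE V (w i) (hle i)).hom.toAlgebra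
  have hfl : ∀ i, (f.appLE V (w i) (hle i)).hom.Flat := fun i =>
    HasRingHomProperty.appLE @Flat f inferInstance ⟨V, hV⟩ (w i) (hle i)
  haveI hflat : ∀ i, Module.Flat Γ(X, V) Γ(X', ((w i : X'.affineOpens) : X'.Opens)) := fun i => hfl i
  have hcv : Groth.Agent.H4.FB5.Covers (A := Γ(X, V))
      (fun i => Γ(X', ((w i : X'.affineOpens) : X'.Opens))) := by
    intro 𝔪 h𝔪
    let p : Spec Γ(X, V) := ⟨𝔪, h𝔪.isPrime⟩
    obtain ⟨x', hx'⟩ := f.surjective (hV.fromSpec p)
    have hx'V : x' ∈ f ⁻¹ᵁ V := by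
      show f x' ∈ V
      rw [hx']
      have : hV.fromSpec p ∈ Set.range hV.fromSpec := ⟨p, rfl⟩
      rw [hV.range_fromSpec] at this
      exact this
    obtain ⟨i, hi⟩ := hcov x' hx'V
    refine ⟨i, ?_⟩
    have hr : x' ∈ Set.range (w i).2.fromSpec := by
      rw [(w i).2.range_fromSpec]
      exact hi
    obtain ⟨q', rfl⟩ := hr
    have sq := IsAffineOpen.SpecMap_appLE_fromSpec f hV (w i).2 (hle i)
    have h1 : hV.fromSpec ((Spec.map (f.appLE V (w i) (hle i))) q') = hV.fromSpec p := by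
      rw [← hx']
      have := congr($(sq) q')
      simpa using this
    have h2 : (Spec.map (f.appLE V (w i) (hle i))) q' = p :=
      hV.fromSpec.isOpenEmbedding.injective h1
    intro htop
    have h3 : 𝔪 = q'.asIdeal.comap (f.appLE V (w i) (hle i)).hom := by
      have := congrArg PrimeSpectrum.asIdeal h2
      exact this.symm
    have h4 : Ideal.map (algebraMap Γ(X, V) Γ(X', ((w i : X'.affineOpens) : X'.Opens))) 𝔪 ≤
        q'.asIdeal := by
      rw [Ideal.map_le_iff_le_comap, h3]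
      exact le_rfl
    exact q'.isPrime.ne_top (top_le_iff.1 (htop ▸ h4))
  exact
    { flat := hfl
      refl := fun Q h => by
        haveI : Subsingleton Q := Groth.Agent.H4.FB5.subsingleton_of_covers hcv Q (fun i =>
          (Groth.Agent.H8.ExtBridge.extEquiv (A := Γ(X, V))
            (B := Γ(X', ((w i : X'.affineOpens) : X'.Opens))) Q).symm.toEquiv.subsingleton_congr.2
            (ModuleCat.subsingleton_of_isZero (h i)))
        exact ModuleCat.isZero_of_subsingleton Q }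

theorem s1057 {X' X : Scheme.{u}} (f : X' ⟶ X) [Flat f] [Surjective f] [QuasiCompact f]
    [DCoh.HasLpull f] (E : DCoh.D X) (hE : DCoh.IsQCohD E) (m : ℤ) :
    DCoh.IsPseudoCoherentD m E ↔ DCoh.IsPseudoCoherentD m ((DCoh.Lpull f).obj E) := by
  refine ⟨Groth.Agent.H4.LDS18.S0910 f m E, fun h => ?_⟩
  rw [isPseudoCoherentD_iff_pcAt]
  intro x
  obtain ⟨V, hV, hxV, -⟩ :=
    exists_isAffineOpen_mem_and_subset (x := x) (U := (⊤ : X.Opens)) trivial
  have hx : x ∈ Set.range hV.fromSpec := by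
    rw [hV.range_fromSpec]
    exact hxV
  obtain ⟨x₀, rfl⟩ := hx
  refine PCAt.of_restrict hV.fromSpec E x₀ ((isPseudoCoherentD_iff_pcAt m _).1 ?_ x₀)
  haveI : PreservesFiniteLimits (tilde.functor (CommRingCat.of Γ(X, V))) :=
    Groth.Agent.H5.AG.tilde_preservesFiniteLimits _
  obtain ⟨M, ⟨eM⟩⟩ := ((s0997 (CommRingCat.of Γ(X, V))).2.2 _).1 (isQCohD_RD hV.fromSpec E hE)
  refine isPseudoCoherentD_of_iso eM ((Groth.Agent.H4.TilD11.S1004 Γ(X, V) M m).2 ?_)
  -- finite affine cover of `f⁻¹V`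
  have hc : IsCompact ((f ⁻¹ᵁ V : X'.Opens) : Set X') := f.isCompact_preimage hV.isCompact
  obtain ⟨s, hs, hsU⟩ := isCompact_iff_finite_and_eq_biUnion_affineOpens.mp hc
  obtain ⟨n, w, -, hw⟩ := hs.fin_param
  have hle : ∀ i : Fin n, ((w i : X'.affineOpens) : X'.Opens) ≤ f ⁻¹ᵁ V := by
    intro i
    rw [hsU]
    exact le_iSup₂ (f := fun (j : X'.affineOpens) (_ : j ∈ s) => (j : X'.Opens)) (w i)
      (hw ▸ Set.mem_range_self i)
  have hcov : ∀ x' : X', x' ∈ f ⁻¹ᵁ V → ∃ i, x' ∈ ((w i : X'.affineOpens) : X'.Opens) := by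
    intro x' hx'
    rw [hsU] at hx'
    simp only [Opens.mem_iSup] at hx'
    obtain ⟨W, hWs, hx'W⟩ := hx'
    rw [← hw] at hWs
    obtain ⟨i, rfl⟩ := hWs
    exact ⟨i, hx'W⟩
  have hJ := jff_of_cover f hV w hle hcov
  haveI : ∀ i : Fin n, DRing.HasLBaseChange (f.appLE V (w i) (hle i)).hom :=
    fun i => Groth.Agent.H4.KProj.hasLBaseChange _
  refine (hJ.detects).isPC m M (fun i => ?_)
  haveI : PreservesFiniteLimits (tilde.functor
      (CommRingCat.of Γ(X', ((w i : X'.affineOpens) : X'.Opens)))) :=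
    Groth.Agent.H5.AG.tilde_preservesFiniteLimits _
  have sq : (w i).2.fromSpec ≫ f =
      Spec.map (CommRingCat.ofHom (f.appLE V (w i) (hle i)).hom) ≫ hV.fromSpec :=
    (IsAffineOpen.SpecMap_appLE_fromSpec f hV (w i).2 (hle i)).symm
  haveI : DCoh.HasLpull (Spec.map (CommRingCat.ofHom (f.appLE V (w i) (hle i)).hom)) := hasLpull _
  have e2 := (lpullRestrictIso f (w i).2.fromSpec hV.fromSpec
    (Spec.map (CommRingCat.ofHom (f.appLE V (w i) (hle i)).hom)) sq).app E
  obtain ⟨e⟩ := Groth.Agent.H4.LDS22.S1055 (f.appLE V (w i) (hle i)).hom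
  have e3 : (RD (w i).2.fromSpec).obj ((DCoh.Lpull f).obj E) ≅
      (DCoh.tildeD (CommRingCat.of Γ(X', ((w i : X'.affineOpens) : X'.Opens)))).obj
        ((DRing.LBaseChange (f.appLE V (w i) (hle i)).hom).obj M) :=
    e2 ≪≫ (DCoh.Lpull (Spec.map (CommRingCat.ofHom (f.appLE V (w i) (hle i)).hom))).mapIso
      eM.symm ≪≫ (e.app M).symm
  refine (Groth.Agent.H4.TilD11.S1004 _ _ m).1 ?_
  exact isPseudoCoherentD_of_iso e3 (Groth.Agent.H4.RPC7.isPseudoCoherentD_RD _ _ h)

end Groth.Agent.Helper7.QB7
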