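import Groth.Agent.Lib.Helper7.QB39
import Groth.Agent.Lib.Helper7.QB35
import Groth.Agent.Lib.Helper7.LR4
import Groth.Agent.Lib.Lead.Perf.PerfDesc
import Groth.Agent.H4.PCS3
import Groth.Agent.H4.PSch3
import Groth.Agent.Lib.Helper5.AG.TildeExact

/-!
# Lifting maps from perfect objects over a quasi-compact open of an affine scheme (S1097)
-/

set_option autoImplicit false
universe u

open CategoryTheory CategoryTheory.Limits AlgebraicGeometry Pretriangulated Opposite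
attribute [local instance] HasDerivedCategory.standard

namespace Groth.Agent.Helper7.QB40

open Groth.Agent.H4 DerivedCategory Groth.Agent.Helper7.QB31 Groth.Agent.H4.PSch1
  Groth.Agent.H4.PSch2

/-- derived restriction along the identity. -/
noncomputable def RDid (X : Scheme.{u}) : DCoh.restrictD (𝟙 X) ≅ 𝟭 (DCoh.D X) :=
  Localization.liftNatIso Q (HomologicalComplex.quasiIso X.Modules (ComplexShape.up ℤ))
    (resCx (𝟙 X) ⋙ Q) Q _ _ (Functor.isoWhiskerRight PSch1.resCxId Q ≪≫ Functor.leftUnitor _)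

/-- restriction along an isomorphism and its inverse. -/
noncomputable def nuIso {X Y : Scheme.{u}} (φ : X ≅ Y) :
    DCoh.restrictD φ.inv ⋙ DCoh.restrictD φ.hom ≅ 𝟭 (DCoh.D X) :=
  (PCS3.RDcomp φ.hom φ.inv).symm ≪≫ QB25.RDcongr φ.hom_inv_id ≪≫ RDid X

lemma isQCohD_shift {X : Scheme.{u}} (L : DCoh.D X) (hL : DCoh.IsQCohD L) (n : ℤ) :
    DCoh.IsQCohD (L⟦n⟧) :=
  fun i => Groth.Agent.LD.QC.qc_of_iso
    (((homologyFunctor X.Modules 0).shiftIso n i (n + i) rfl).app L).symm (hL (n + i))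

section Spec

variable {A : Type u} [CommRing A]

lemma exists_list_eq_puncturedOpen (U' : (Spec (CommRingCat.of A)).Opens)
    (hU' : IsCompact (U' : Set (Spec (CommRingCat.of A)))) :
    ∃ fs : List A, U' = LocCoh.puncturedOpen A (Ideal.span {a | a ∈ fs}) := by
  classical
  obtain ⟨I, ⟨t, rfl⟩, hI⟩ := (PrimeSpectrum.isCompact_isOpen_iff_ideal (s := U'.1)).1
    ⟨hU', U'.2⟩
  refine ⟨t.toList, ?_⟩
  apply TopologicalSpace.Opens.ext
  have e : {a | a ∈ t.toList} = (t : Set A) := by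
    ext a
    simp
  have h2 : ((LocCoh.puncturedOpen A (Ideal.span {a | a ∈ t.toList})) :
      Set (Spec (CommRingCat.of A))) =
      (PrimeSpectrum.zeroLocus ((Ideal.span (t : Set A) : Ideal A) : Set A))ᶜ := by
    rw [e]
    rfl
  rw [h2]
  exact hI.symm

theorem exists_factor_spec' (U' : (Spec (CommRingCat.of A)).Opens)
    (hU' : IsCompact (U' : Set (Spec (CommRingCat.of A))))
    (E F : DCoh.D (Spec (CommRingCat.of A)))
    (hE : DCoh.IsPerfect E) (hF : DCoh.IsQCohD F)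
    (hF0 : IsZero ((DCoh.restrictD U'.ι).obj F)) (ψ : E ⟶ F) :
    ∃ (P : DCoh.D (Spec (CommRingCat.of A))) (ι : E ⟶ P) (χ : P ⟶ F), ι ≫ χ = ψ ∧
      DCoh.IsPerfect P ∧ IsZero ((DCoh.restrictD U'.ι).obj P) := by
  haveI : PreservesFiniteLimits (tilde.functor (CommRingCat.of A)) :=
    Groth.Agent.H5.AG.tilde_preservesFiniteLimits _
  obtain ⟨fs, rfl⟩ := exists_list_eq_puncturedOpen U' hU'
  exact QB39.exists_factor_spec fs E F hE hF hF0 ψ

end Spec

/-- **factoring on an affine scheme.** -/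
theorem exists_factor_affine (X : Scheme.{u}) [IsAffine X] (U : X.Opens)
    (hU : IsCompact (U : Set X))
    (E F : DCoh.D X) (hE : DCoh.IsPerfect E) (hF : DCoh.IsQCohD F)
    (hF0 : IsZero ((DCoh.restrictD U.ι).obj F)) (ψ : E ⟶ F) :
    ∃ (P : DCoh.D X) (ι : E ⟶ P) (χ : P ⟶ F), ι ≫ χ = ψ ∧ DCoh.IsPerfect P ∧
      IsZero ((DCoh.restrictD U.ι).obj P) := by
  let φ : X ≅ Spec (CommRingCat.of Γ(X, ⊤)) := X.isoSpec
  let U' : (Spec (CommRingCat.of Γ(X, ⊤))).Opens := φ.hom ''ᵁ U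
  have hU' : IsCompact (U' : Set (Spec (CommRingCat.of Γ(X, ⊤)))) :=
    hU.image φ.hom.continuous
  have ha : (U.ι ≫ φ.hom).opensRange ≤ U' := by
    rw [Scheme.Hom.opensRange_comp, Scheme.Opens.opensRange_ι]
  have hb : (U'.ι ≫ φ.inv).opensRange ≤ U := by
    rw [Scheme.Hom.opensRange_comp, Scheme.Opens.opensRange_ι]
    have : φ.inv ''ᵁ U' = U := by
      change φ.inv ''ᵁ (φ.hom ''ᵁ U) = U
      rw [← Scheme.Hom.comp_image]
      simp
    rw [this]
  have hF0' : IsZero ((DCoh.restrictD U'.ι).obj ((DCoh.restrictD φ.inv).obj F)) :=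
    IsZero.of_iso (QB25.isZero_restrict_of_le U (U'.ι ≫ φ.inv) hb F hF0)
      ((PCS3.RDcomp U'.ι φ.inv).app F).symm
  obtain ⟨P, ι, χ, hfac, hP, hP0⟩ := exists_factor_spec' U' hU'
    ((DCoh.restrictD φ.inv).obj E) ((DCoh.restrictD φ.inv).obj F)
    (Groth.Agent.LD.PerfDesc.isPerfect_RD φ.inv E hE) (QB3.isQCohD_RD φ.inv F hF) hF0'
    ((DCoh.restrictD φ.inv).map ψ)
  refine ⟨(DCoh.restrictD φ.hom).obj P,
    (nuIso φ).inv.app E ≫ (DCoh.restrictD φ.hom).map ι,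
    (DCoh.restrictD φ.hom).map χ ≫ (nuIso φ).hom.app F, ?_,
    Groth.Agent.LD.PerfDesc.isPerfect_RD φ.hom P hP, ?_⟩
  · rw [Category.assoc, ← Category.assoc ((DCoh.restrictD φ.hom).map ι),
      ← CategoryTheory.Functor.map_comp, hfac]
    have nat := (nuIso φ).hom.naturality ψ
    dsimp at nat
    rw [nat, ← Category.assoc, Iso.inv_hom_id_app]
    exact Category.id_comp _
  · exact IsZero.of_iso (QB25.isZero_restrict_of_le U' (U.ι ≫ φ.hom) ha P hP0)
      ((PCS3.RDcomp U.ι φ.hom).app P).symm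

/-- the triangle `F → E → Rj_* j^* E` on a quasi-compact quasi-separated scheme. -/
theorem setupX (X : Scheme.{u}) [CompactSpace X] [QuasiSeparatedSpace X] (U : X.Opens)
    (hU : IsCompact (U : Set X))
    [PreservesFiniteLimits (Scheme.Modules.restrictFunctor U.ι)] [DCoh.HasRpush U.ι]
    (adj : DCoh.restrictD U.ι ⊣ DCoh.Rpush U.ι)
    (E : DCoh.D X) (hE : DCoh.IsQCohD E) :
    ∃ (F : DCoh.D X) (f : F ⟶ E)
      (δ : (DCoh.Rpush U.ι).obj ((DCoh.restrictD U.ι).obj E) ⟶ F⟦(1 : ℤ)⟧),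
      Triangle.mk f (adj.unit.app E) δ ∈ distTriang _ ∧ DCoh.IsQCohD F ∧
      IsZero ((DCoh.restrictD U.ι).obj F) ∧
      QB25.IsLocalAt U ((DCoh.Rpush U.ι).obj ((DCoh.restrictD U.ι).obj E)) := by
  obtain ⟨F, f, δ, hT⟩ := distinguished_cocone_triangle₁ (adj.unit.app E)
  obtain ⟨-, hfull, hfaith, -⟩ := Groth.Agent.H6.DerAdj.main_of_isIso_counit
    (Scheme.Modules.restrictAdjunction U.ι) (fun M => inferInstance)
  haveI : (DCoh.Rpush U.ι).Full := hfull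
  haveI : (DCoh.Rpush U.ι).Faithful := hfaith
  have hiso : IsIso ((DCoh.restrictD U.ι).map (adj.unit.app E)) :=
    isIso_of_comp_hom_eq_id (adj.counit.app _) (adj.left_triangle_components E)
  have hF0 : IsZero ((DCoh.restrictD U.ι).obj F) :=
    (Triangle.isZero₁_iff_isIso₂ _ ((DCoh.restrictD U.ι).map_distinguished _ hT)).2 hiso
  haveI : QuasiCompact U.ι := quasiCompact_ι_of_isCompact _ hU
  have hG : DCoh.IsQCohD ((DCoh.Rpush U.ι).obj ((DCoh.restrictD U.ι).obj E)) :=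
    Groth.Agent.H6.QcVan.isQCohD_Rpush_of_compact _ _ (QB3.isQCohD_RD _ E hE)
  haveI := Groth.Agent.H6.QcVan.wserre_isQCoh X
  have hFq : DCoh.IsQCohD F :=
    Groth.Agent.H6.MDw.cohIn_obj₁ (fun M : X.Modules => M.IsQuasicoherent) _ hT hE hG
  refine ⟨F, f, δ, hT, hFq, hF0, ?_⟩
  exact QB25.isLocalAt_of_iso_rpush _ U.ι (by rw [Scheme.Opens.opensRange_ι]) _ _ (Iso.refl _)

theorem s1097 (X : Scheme.{u}) [IsAffine X] (U : X.Opens) (hU : IsCompact (U : Set X))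
    [PreservesFiniteLimits (Scheme.Modules.restrictFunctor U.ι)] (E E' : DCoh.D X)
    (hE : DCoh.IsPerfect E) (hE' : DCoh.IsQCohD E')
    (α : (DCoh.restrictD U.ι).obj E ⟶ (DCoh.restrictD U.ι).obj E') :
    ∃ (E₁ : DCoh.D X) (β : E₁ ⟶ E) (γ : E₁ ⟶ E'), DCoh.IsPerfect E₁ ∧
      IsIso ((DCoh.restrictD U.ι).map β) ∧
      (DCoh.restrictD U.ι).map β ≫ α = (DCoh.restrictD U.ι).map γ := by
  haveI : DCoh.HasRpush U.ι := LR4.hasRpush U.ι
  obtain ⟨⟨adj0⟩, -, -, -⟩ := Groth.Agent.H6.DerAdj.main_of_isIso_counit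
    (Scheme.Modules.restrictAdjunction U.ι) (fun M => inferInstance)
  have adj : DCoh.restrictD U.ι ⊣ DCoh.Rpush U.ι := adj0
  obtain ⟨F, f, δ, hT, hFq, hF0, hloc⟩ := setupX X U hU adj E' hE'
  obtain ⟨P, ι, χ, hfac, hP, hP0⟩ := exists_factor_affine X U hU E (F⟦(1 : ℤ)⟧) hE
    (isQCohD_shift F hFq 1) (QB25.isZero_restrict_shift _ _ hF0 1)
    (adj.homEquiv _ _ α ≫ δ)
  obtain ⟨E₁, β, w, hT₁⟩ := distinguished_cocone_triangle₁ ι
  have hE₁ : DCoh.IsPerfect E₁ := (Groth.Agent.H4.PSch3.S0887 _ hT₁).2.2 hE hP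
  have hβ : IsIso ((DCoh.restrictD U.ι).map β) :=
    (Triangle.isZero₃_iff_isIso₁ _ ((DCoh.restrictD U.ι).map_distinguished _ hT₁)).1 hP0
  have h0 : (β ≫ adj.homEquiv _ _ α) ≫ δ = 0 := by
    rw [Category.assoc, ← hfac, ← Category.assoc]
    have : β ≫ ι = 0 := comp_distTriang_mor_zero₁₂ _ hT₁
    rw [this, zero_comp]
  obtain ⟨γ, hγ⟩ : ∃ γ : E₁ ⟶ E', β ≫ adj.homEquiv _ _ α = γ ≫ adj.unit.app E' :=
    Triangle.coyoneda_exact₃ _ hT (β ≫ adj.homEquiv _ _ α) h0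
  refine ⟨E₁, β, γ, hE₁, hβ, ?_⟩
  apply (adj.homEquiv _ _).injective
  rw [Adjunction.homEquiv_naturality_left, hγ, Adjunction.homEquiv_unit]
  exact adj.unit.naturality γ

end Groth.Agent.Helper7.QB40
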