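import Groth.Agent.Lib.Helper7.QB39
import Groth.Agent.H4.PC2
import Groth.Agent.H4.PC7
import Groth.Agent.H4.Perf1
import Groth.Agent.H4.DRing2
import Groth.Agent.H4.TwoTerm

/-!
# Approximation by perfect complexes supported on `V(fs)`: the algebraic side
-/

set_option autoImplicit false
universe u

open CategoryTheory CategoryTheory.Limits Pretriangulated ZeroObject

namespace Groth.Agent.Helper7.QB41

attribute [local instance] HasDerivedCategory.standard

open DerivedCategory Groth.Agent.H4 Groth.Agent.H4.ProjAmp DRing Groth.Agent.Helper7.QB38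

variable {A : Type u} [CommRing A]

/-- a class in `H^t(M)` is hit by a map from `A[-t]`. -/
lemma exists_hom_W_of_class (M : Dual.D A) (t : ℤ)
    (x : ((homologyFunctor (ModuleCat.{u} A) t).obj M : ModuleCat.{u} A)) :
    ∃ (σ : AP1.W A t ⟶ M) (y : ((homologyFunctor (ModuleCat.{u} A) t).obj (AP1.W A t) :
      ModuleCat.{u} A)), ((homologyFunctor (ModuleCat.{u} A) t).map σ).hom y = x := by
  let X := Q.objPreimage M
  let ε : Q.obj X ≅ M := Q.objObjPreimageIso M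
  let θ : (homologyFunctor (ModuleCat.{u} A) t).obj M ≅ X.homology t :=
    (homologyFunctor (ModuleCat.{u} A) t).mapIso ε.symm ≪≫
      (homologyFunctorFactors (ModuleCat.{u} A) t).app X
  obtain ⟨z, hz⟩ := (ModuleCat.epi_iff_surjective (X.homologyπ t)).1 inferInstance (θ.hom.hom x)
  let g : ModuleCat.of A A ⟶ X.cycles t := ModuleCat.ofHom (LinearMap.toSpanSingleton A _ z)
  have hg : g.hom (1 : A) = z := by
    change (LinearMap.toSpanSingleton A _ z) 1 = z
    rw [LinearMap.toSpanSingleton_apply, one_smul]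
  let c : sgl (ModuleCat.of A A) t ⟶ X :=
    HomologicalComplex.mkHomFromSingle (g ≫ X.iCycles t) (by
      intro k hk
      rw [Category.assoc, X.iCycles_d, comp_zero])
  let s := HomologicalComplex.singleObjXSelf (ComplexShape.up ℤ) t (ModuleCat.of A A)
  have hc : c.f t = s.hom ≫ g ≫ X.iCycles t := HomologicalComplex.mkHomFromSingle_f _ _
  have h4 := HomologicalComplex.cyclesMap_i c t
  rw [hc] at h4
  have h5 : HomologicalComplex.cyclesMap c t = (sgl (ModuleCat.of A A) t).iCycles t ≫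
      s.hom ≫ g := by
    rw [← cancel_mono (X.iCycles t), h4]
    simp only [Category.assoc]
  haveI : IsIso ((sgl (ModuleCat.of A A) t).iCycles t) :=
    (sgl (ModuleCat.of A A) t).isIso_iCycles t (t + 1) (by simp)
      (HomologicalComplex.single_obj_d _ _ _ _ _)
  let w : ((sgl (ModuleCat.of A A) t).cycles t : ModuleCat.{u} A) :=
    (inv ((sgl (ModuleCat.of A A) t).iCycles t)).hom (s.inv.hom (1 : A))
  have e1 : ((sgl (ModuleCat.of A A) t).iCycles t).hom w = s.inv.hom (1 : A) :=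
    congr($(IsIso.inv_hom_id ((sgl (ModuleCat.of A A) t).iCycles t)).hom (s.inv.hom (1 : A)))
  have e2 : s.hom.hom (s.inv.hom (1 : A)) = (1 : A) := congr($(s.inv_hom_id).hom (1 : A))
  have hw : (HomologicalComplex.cyclesMap c t).hom w = z := by
    rw [h5]
    change g.hom (s.hom.hom (((sgl (ModuleCat.of A A) t).iCycles t).hom w)) = z
    rw [e1, e2, hg]
  have key : (homologyFunctorFactors (ModuleCat.{u} A) t).inv.app (sgl (ModuleCat.of A A) t) ≫
      (homologyFunctor (ModuleCat.{u} A) t).map (Q.map c ≫ ε.hom) ≫ θ.hom =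
      HomologicalComplex.homologyMap c t := by
    have nat := (homologyFunctorFactors (ModuleCat.{u} A) t).hom.naturality c
    dsimp only [θ, Iso.trans_hom, Functor.mapIso_hom, Iso.symm_hom, Iso.app_hom]
    rw [← Category.assoc ((homologyFunctor (ModuleCat.{u} A) t).map (Q.map c ≫ ε.hom)),
      ← CategoryTheory.Functor.map_comp, Category.assoc, ε.hom_inv_id, Category.comp_id]
    apply (cancel_epi ((homologyFunctorFactors (ModuleCat.{u} A) t).hom.app
      (sgl (ModuleCat.of A A) t))).1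
    rw [Iso.hom_inv_id_app_assoc]
    exact nat
  refine ⟨Q.map c ≫ ε.hom,
    ((homologyFunctorFactors (ModuleCat.{u} A) t).inv.app (sgl (ModuleCat.of A A) t)).hom
      (((sgl (ModuleCat.of A A) t).homologyπ t).hom w), ?_⟩
  have h6 : θ.hom.hom (((homologyFunctor (ModuleCat.{u} A) t).map (Q.map c ≫ ε.hom)).hom
      (((homologyFunctorFactors (ModuleCat.{u} A) t).inv.app (sgl (ModuleCat.of A A) t)).hom
        (((sgl (ModuleCat.of A A) t).homologyπ t).hom w))) =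
      (HomologicalComplex.homologyMap c t).hom (((sgl (ModuleCat.of A A) t).homologyπ t).hom w) :=
    congr($(key).hom (((sgl (ModuleCat.of A A) t).homologyπ t).hom w))
  have h7 : (HomologicalComplex.homologyMap c t).hom
      (((sgl (ModuleCat.of A A) t).homologyπ t).hom w) =
      (X.homologyπ t).hom ((HomologicalComplex.cyclesMap c t).hom w) :=
    congr($(HomologicalComplex.homologyπ_naturality c t).hom w)
  rw [h7, hw, hz] at h6
  have h8 := congrArg θ.inv.hom h6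
  have h9 : ∀ v, θ.inv.hom (θ.hom.hom v) = v := fun v => congr($(θ.hom_inv_id).hom v)
  rw [h9, h9] at h8
  exact h8

/-- torsion passes to the middle of an exact sequence of modules. -/
lemma tors_of_exact (S : ShortComplex (ModuleCat.{u} A)) (hS : S.Exact) (g : A)
    (h₁ : ∀ x : S.X₁, ∃ k : ℕ, g ^ k • x = 0) (h₃ : ∀ x : S.X₃, ∃ k : ℕ, g ^ k • x = 0)
    (y : S.X₂) : ∃ k : ℕ, g ^ k • y = 0 := by
  obtain ⟨k, hk⟩ := h₃ (S.g.hom y)
  have h0 : S.g.hom (g ^ k • y) = 0 := by rw [map_smul, hk]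
  obtain ⟨z, hz⟩ := (ShortComplex.moduleCat_exact_iff S).1 hS _ h0
  obtain ⟨l, hl⟩ := h₁ z
  refine ⟨l + k, ?_⟩
  rw [pow_add, mul_smul, ← hz, ← map_smul, hl, map_zero]

/-- the cohomology of an object killed by a scalar is killed by it. -/
lemma homology_smul_eq_zero (P : Dual.D A) (r : A) (h : r • 𝟙 P = 0) (n : ℤ)
    (y : ((homologyFunctor (ModuleCat.{u} A) n).obj P : ModuleCat.{u} A)) : r • y = 0 := by
  let K := Q.objPreimage P
  let ε : Q.obj K ≅ P := Q.objObjPreimageIso P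
  have hk' : r • 𝟙 (Q.obj K) = 0 := by
    have e1 : r • 𝟙 (Q.obj K) = ε.hom ≫ (r • 𝟙 P) ≫ ε.inv := by
      rw [Linear.smul_comp, Linear.comp_smul, Category.id_comp, ε.hom_inv_id]
    rw [e1, h, zero_comp, comp_zero]
  let θ : (homologyFunctor (ModuleCat.{u} A) n).obj P ≅ K.homology n :=
    (homologyFunctor (ModuleCat.{u} A) n).mapIso ε.symm ≪≫
      (homologyFunctorFactors (ModuleCat.{u} A) n).app K
  have h1 := QB39.homology_tors_of_smul_id K r hk' n (θ.hom.hom y)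
  have h2 : θ.hom.hom (r • y) = 0 := by rw [map_smul, h1]
  have h3 := congrArg θ.inv.hom h2
  rw [map_zero] at h3
  have h4 : θ.inv.hom (θ.hom.hom (r • y)) = r • y := congr($(θ.hom_inv_id).hom (r • y))
  rw [h4] at h3
  exact h3

lemma isPerfect_W (b : ℤ) : IsPerfect A (AP1.W A b) := by
  refine ⟨sgl (ModuleCat.of A A) b, b, b, ?_, ?_, ⟨Iso.refl _⟩⟩
  · intro i hi
    exact HomologicalComplex.isZero_single_obj_X _ _ _ _ (by omega)
  · intro i
    by_cases hi : i = b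
    · subst hi
      have e := (HomologicalComplex.singleObjXSelf (ComplexShape.up ℤ) i
        (ModuleCat.of A A)).toLinearEquiv
      exact ⟨Module.Finite.equiv e.symm, Module.Projective.of_equiv e.symm⟩
    · haveI := ModuleCat.subsingleton_of_isZero (HomologicalComplex.isZero_single_obj_X
        (ComplexShape.up ℤ) b (ModuleCat.of A A) i hi)
      exact ⟨inferInstance, inferInstance⟩

lemma isZero_homology_W (b i : ℤ) (hi : i ≠ b) :
    IsZero ((homologyFunctor (ModuleCat.{u} A) i).obj (AP1.W A b)) :=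
  IsZero.of_iso (HomologicalComplex.isZero_single_obj_homology _ _ _ _ hi)
    ((homologyFunctorFactors (ModuleCat.{u} A) i).app (sgl (ModuleCat.of A A) b))

/-- range version of `QB38.tors_Kz`. -/
theorem tors_Kz_range (M N : Dual.D A) (f : A) : ∀ (gs : List A) (m : ℤ),
    (∀ j : ℕ, j ≤ gs.length → ∀ ψ : M⟦m + j⟧ ⟶ N, ∃ k : ℕ, f ^ k • ψ = 0) →
    ∀ φ : (Kz M gs)⟦m⟧ ⟶ N, ∃ k : ℕ, f ^ k • φ = 0
  | [], m, h => by
    intro φ
    have h0 := h 0 le_rfl
    have e : m + ((0 : ℕ) : ℤ) = m := by simp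
    rw [e] at h0
    exact h0 φ
  | g :: gs, m, h => by
    intro φ
    obtain ⟨w, hT⟩ := QB38.vmap_triangle M g gs
    obtain ⟨k, hk⟩ := tors_Kz_range M N f gs m (fun j hj ψ => h j (by simp; omega) ψ)
      ((QB38.vmap M g gs)⟦m⟧' ≫ φ)
    rw [← Linear.comp_smul] at hk
    obtain ⟨ψ, hψ⟩ := QB28.exact₃_shift _ hT m (f ^ k • φ) hk
    let e := (shiftFunctorAdd' (DerivedCategory (ModuleCat.{u} A)) (1 : ℤ) m (1 + m) rfl).app
      (Kz M gs)
    obtain ⟨k', hk'⟩ := tors_Kz_range M N f gs (1 + m) (fun j hj ψ' => by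
        have hj' := h (j + 1) (by simp; omega)
        have e' : m + ((j + 1 : ℕ) : ℤ) = 1 + m + j := by push_cast; ring
        rw [e'] at hj'
        exact hj' ψ') (e.hom ≫ ψ)
    rw [← Linear.comp_smul] at hk'
    have hm' : f ^ k' • ψ = 0 := (cancel_epi e.hom).1 (hk'.trans comp_zero.symm)
    refine ⟨k' + k, ?_⟩
    have hφ : f ^ k • φ = w⟦m⟧' ≫ ψ := hψ
    calc f ^ (k' + k) • φ = f ^ k' • (f ^ k • φ) := by rw [pow_add, mul_smul]
      _ = f ^ k' • (w⟦m⟧' ≫ ψ) := congrArg (fun x => f ^ k' • x) hφ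
      _ = w⟦m⟧' ≫ (f ^ k' • ψ) := (Linear.comp_smul _ _ _ (w⟦m⟧') (f ^ k') ψ).symm
      _ = w⟦m⟧' ≫ 0 := congrArg (fun x => w⟦m⟧' ≫ x) hm'
      _ = 0 := comp_zero

/-- range version of `QB38.factorKz`. -/
theorem factorKz_range (M N : Dual.D A) : ∀ (fs : List A),
    (∀ g ∈ fs, ∀ j : ℕ, j < fs.length → ∀ ψ : M⟦(j : ℤ)⟧ ⟶ N, ∃ k : ℕ, g ^ k • ψ = 0) →
    ∀ s : M ⟶ N, ∃ (e : ℕ) (ψ : Kz M (fs.map (fun a => a ^ e)) ⟶ N),
      QB38.iota M (fs.map (fun a => a ^ e)) ≫ ψ = s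
  | [], _, s => ⟨0, s, Category.id_comp s⟩
  | f :: fs, h, s => by
    obtain ⟨e', ψ', hψ'⟩ := factorKz_range M N fs
      (fun g hg j hj ψ => h g (List.mem_cons_of_mem f hg) j (by simp; omega) ψ) s
    let z := (shiftFunctorZero (DerivedCategory (ModuleCat.{u} A)) ℤ).app
      (Kz M (fs.map (fun a => a ^ e')))
    obtain ⟨k, hk⟩ := tors_Kz_range M N f (fs.map (fun a => a ^ e')) 0 (fun j hj ψ => by
        have hj' := h f List.mem_cons_self j (by simp at hj ⊢; omega)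
        have e0 : (j : ℤ) = 0 + (j : ℤ) := (zero_add _).symm
        rw [e0] at hj'
        exact hj' ψ) (z.hom ≫ ψ')
    rw [← Linear.comp_smul] at hk
    have hk' : f ^ k • ψ' = 0 := (cancel_epi z.hom).1 (hk.trans comp_zero.symm)
    obtain ⟨θ, hθ⟩ := QB38.dom_pow M fs e' k
    have h1 : (f ^ (e' + k) • 𝟙 (Kz M (fs.map (fun a => a ^ (e' + k))))) ≫ (θ ≫ ψ') = 0 := by
      rw [← QB28.smul_eq_id_comp, pow_add, mul_smul, ← Linear.comp_smul, hk', comp_zero,
        smul_zero]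
    obtain ⟨w, hT⟩ := QB38.vmap_triangle M (f ^ (e' + k)) (fs.map (fun a => a ^ (e' + k)))
    obtain ⟨ψ₃, hψ₃⟩ := Triangle.yoneda_exact₂ _ hT (θ ≫ ψ') h1
    refine ⟨e' + k, ψ₃, ?_⟩
    have hψ4 : θ ≫ ψ' = QB38.vmap M (f ^ (e' + k)) (fs.map (fun a => a ^ (e' + k))) ≫ ψ₃ :=
      hψ₃
    calc QB38.iota M ((f :: fs).map (fun a => a ^ (e' + k))) ≫ ψ₃
        = QB38.iota M (fs.map (fun a => a ^ (e' + k))) ≫
            (QB38.vmap M (f ^ (e' + k)) (fs.map (fun a => a ^ (e' + k))) ≫ ψ₃) :=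
          Category.assoc _ _ _
      _ = QB38.iota M (fs.map (fun a => a ^ (e' + k))) ≫ (θ ≫ ψ') :=
          congrArg (fun x => QB38.iota M (fs.map (fun a => a ^ (e' + k))) ≫ x) hψ4.symm
      _ = s := by rw [← Category.assoc, hθ, hψ']

/-- vanishing of the top cohomology passes to the Koszul-type cones. -/
lemma isZero_homology_Kz (M : Dual.D A) (t : ℤ)
    (hM : ∀ i : ℤ, t < i → IsZero ((homologyFunctor (ModuleCat.{u} A) i).obj M)) :
    ∀ (gs : List A) (i : ℤ), t < i →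
      IsZero ((homologyFunctor (ModuleCat.{u} A) i).obj (Kz M gs))
  | [], i, hi => hM i hi
  | g :: gs, i, hi => by
    obtain ⟨w, hT⟩ := QB38.vmap_triangle M g gs
    exact (HomologySequence.exact₃ _ hT i (i + 1) rfl).isZero_X₂
      ((isZero_homology_Kz M t hM gs i hi).eq_of_src _ _)
      ((isZero_homology_Kz M t hM gs (i + 1) (by omega)).eq_of_tgt _ _)

/-- `A[-(t-j)]` as a shift of `A[-t]`. -/
noncomputable def WshiftIso (t : ℤ) (j : ℤ) : AP1.W A (t - j) ≅ (AP1.W A t)⟦j⟧ :=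
  (shI (ModuleCat.of A A) (-(t - j)) (t - j) (by simp)).symm ≪≫
    (shiftFunctorAdd' (DerivedCategory (ModuleCat.{u} A)) (-t) j (-(t - j)) (by ring)).app _ ≪≫
    (shiftFunctor (DerivedCategory (ModuleCat.{u} A)) j).mapIso
      (shI (ModuleCat.of A A) (-t) t (by simp))

/-- killing one cohomology class in top degree. -/
theorem kill_class (fs : List A) (M : Dual.D A) (t : ℤ)
    (htors : ∀ g ∈ fs, ∀ j : ℕ, j < fs.length →
      ∀ y : ((homologyFunctor (ModuleCat.{u} A) (t - j)).obj M : ModuleCat.{u} A),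
        ∃ k : ℕ, g ^ k • y = 0)
    (x : ((homologyFunctor (ModuleCat.{u} A) t).obj M : ModuleCat.{u} A)) :
    ∃ (P : Dual.D A) (ψ : P ⟶ M), IsPerfect A P ∧ (∀ g ∈ fs, ∃ k : ℕ, g ^ k • 𝟙 P = 0) ∧
      (∀ i : ℤ, t < i → IsZero ((homologyFunctor (ModuleCat.{u} A) i).obj P)) ∧
      ∃ y, ((homologyFunctor (ModuleCat.{u} A) t).map ψ).hom y = x := by
  obtain ⟨σ, y₀, hy₀⟩ := exists_hom_W_of_class M t x
  have hyp : ∀ g ∈ fs, ∀ j : ℕ, j < fs.length → ∀ ψ : (AP1.W A t)⟦(j : ℤ)⟧ ⟶ M,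
      ∃ k : ℕ, g ^ k • ψ = 0 := by
    intro g hg j hj ψ
    obtain ⟨k, hk⟩ := QB33.tors_W_at M g (t - j) (htors g hg j hj) ((WshiftIso t j).hom ≫ ψ)
    refine ⟨k, ?_⟩
    rw [← Linear.comp_smul] at hk
    exact (cancel_epi (WshiftIso (A := A) t j).hom).1 (hk.trans comp_zero.symm)
  obtain ⟨e, ψ, hψ⟩ := factorKz_range (AP1.W A t) M fs hyp σ
  refine ⟨Kz (AP1.W A t) (fs.map (fun a => a ^ e)), ψ,
    QB38.isPerfect_Kz _ (isPerfect_W t) _, fun g hg => ?_,
    isZero_homology_Kz _ t (fun i hi => isZero_homology_W t i (ne_of_gt hi)) _,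
    ((homologyFunctor (ModuleCat.{u} A) t).map (QB38.iota _ _)).hom y₀, ?_⟩
  · obtain ⟨k, hk⟩ := QB38.Kz_tors (AP1.W A t) (fs.map (fun a => a ^ e)) (g ^ e)
      (List.mem_map.2 ⟨g, hg, rfl⟩)
    exact ⟨e * k, by rw [pow_mul]; exact hk⟩
  · rw [← hψ, CategoryTheory.Functor.map_comp] at hy₀
    exact hy₀

/-- multiplication by `a * b` kills the middle of a distinguished triangle whose ends are
killed by `a` and `b`. -/
lemma smul_id_obj₂ (T : Triangle (Dual.D A)) (hT : T ∈ distTriang _) (a b : A)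
    (ha : a • 𝟙 T.obj₁ = 0) (hb : b • 𝟙 T.obj₃ = 0) : (a * b) • 𝟙 T.obj₂ = 0 := by
  have h1 : (b • 𝟙 T.obj₂) ≫ T.mor₂ = 0 := by
    rw [← QB28.smul_eq_id_comp, QB28.smul_eq_comp_id, hb, comp_zero]
  obtain ⟨φ, hφ⟩ := Triangle.coyoneda_exact₂ _ hT _ h1
  have h2 : a • (φ ≫ T.mor₁) = φ ≫ (a • 𝟙 T.obj₁) ≫ T.mor₁ := by
    rw [← Linear.smul_comp, QB28.smul_eq_comp_id a φ, Category.assoc]
  rw [mul_smul, hφ, h2, ha, zero_comp, comp_zero]

/-- killing finitely many classes in top degree. -/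
theorem kill_list (fs : List A) (M : Dual.D A) (t : ℤ)
    (htors : ∀ g ∈ fs, ∀ j : ℕ, j < fs.length →
      ∀ y : ((homologyFunctor (ModuleCat.{u} A) (t - j)).obj M : ModuleCat.{u} A),
        ∃ k : ℕ, g ^ k • y = 0) :
    ∀ l : List ((homologyFunctor (ModuleCat.{u} A) t).obj M : ModuleCat.{u} A),
    ∃ (P : Dual.D A) (ψ : P ⟶ M), IsPerfect A P ∧ (∀ g ∈ fs, ∃ k : ℕ, g ^ k • 𝟙 P = 0) ∧
      (∀ i : ℤ, t < i → IsZero ((homologyFunctor (ModuleCat.{u} A) i).obj P)) ∧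
      ∀ x ∈ l, ∃ y, ((homologyFunctor (ModuleCat.{u} A) t).map ψ).hom y = x
  | [] => ⟨(0 : DerivedCategory (ModuleCat.{u} A)), 0, DRing1.isPerfect_of_isZero _ (isZero_zero _),
      fun g _ => ⟨0, (isZero_zero _).eq_of_src _ _⟩,
      fun i _ => Functor.map_isZero _ (isZero_zero _), fun x hx => by simp at hx⟩
  | x :: l => by
    obtain ⟨P₁, ψ₁, hP₁, hk₁, hz₁, y₁, hy₁⟩ := kill_class fs M t htors x
    obtain ⟨P₂, ψ₂, hP₂, hk₂, hz₂, hl⟩ := kill_list fs M t htors l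
    have hT := binaryBiproductTriangle_distinguished P₁ P₂
    refine ⟨P₁ ⊞ P₂, biprod.desc ψ₁ ψ₂, ?_, fun g hg => ?_, fun i hi => ?_, fun x' hx' => ?_⟩
    · exact (DRing1.isPerfect_two_out_of_three _ hT).2.1 hP₁ hP₂
    · obtain ⟨k₁, h₁⟩ := hk₁ g hg
      obtain ⟨k₂, h₂⟩ := hk₂ g hg
      refine ⟨k₁ + k₂, ?_⟩
      rw [pow_add]
      exact smul_id_obj₂ _ hT (g ^ k₁) (g ^ k₂) h₁ h₂
    · exact (HomologySequence.exact₂ _ hT i).isZero_X₂ ((hz₁ i hi).eq_of_src _ _)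
        ((hz₂ i hi).eq_of_tgt _ _)
    · rcases List.mem_cons.1 hx' with rfl | hx''
      · refine ⟨((homologyFunctor (ModuleCat.{u} A) t).map biprod.inl).hom y₁, ?_⟩
        have : biprod.inl ≫ biprod.desc ψ₁ ψ₂ = ψ₁ := biprod.inl_desc _ _
        rw [← this, CategoryTheory.Functor.map_comp] at hy₁
        exact hy₁
      · obtain ⟨y₂, hy₂⟩ := hl x' hx''
        refine ⟨((homologyFunctor (ModuleCat.{u} A) t).map biprod.inr).hom y₂, ?_⟩
        have : biprod.inr ≫ biprod.desc ψ₁ ψ₂ = ψ₂ := biprod.inr_desc _ _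
        rw [← this, CategoryTheory.Functor.map_comp] at hy₂
        exact hy₂


/-- the homology of `toD E` vanishes in degrees where `E` has a zero term. -/
lemma isZero_homology_toD (E : Cx A) (i : ℤ) (h : IsZero (E.X i)) :
    IsZero ((homologyFunctor (ModuleCat.{u} A) i).obj (toD E)) := by
  refine IsZero.of_iso ?_ ((homologyFunctorFactors (ModuleCat.{u} A) i).app E)
  exact ShortComplex.isZero_homology_of_isZero_X₂ _ h

/-- the inductive statement: kill the cohomology in degrees `≥ m` by perfect objects supported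
on `V(fs)`. -/
theorem claim (fs : List A) (m : ℤ) : ∀ (n : ℕ) (M : Dual.D A), IsPseudoCoherent A m M →
    (∀ g ∈ fs, ∀ i : ℤ, m - (fs.length : ℤ) + 1 ≤ i →
      ∀ y : ((homologyFunctor (ModuleCat.{u} A) i).obj M : ModuleCat.{u} A),
        ∃ k : ℕ, g ^ k • y = 0) →
    (∀ i : ℤ, m - 1 + (n : ℤ) < i → IsZero ((homologyFunctor (ModuleCat.{u} A) i).obj M)) →
    ∃ (P : Dual.D A) (α : P ⟶ M) (C : Dual.D A) (β : M ⟶ C) (γ : C ⟶ P⟦(1 : ℤ)⟧),
      Triangle.mk α β γ ∈ distTriang _ ∧ IsPerfect A P ∧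
      (∀ g ∈ fs, ∃ k : ℕ, g ^ k • 𝟙 P = 0) ∧ C.IsLE (m - 1)
  | 0, M, _, _, hz => by
    refine ⟨(0 : DerivedCategory (ModuleCat.{u} A)), 0, M, 𝟙 M, 0,
      contractible_distinguished₁ M, DRing1.isPerfect_of_isZero _ (isZero_zero _),
      fun g _ => ⟨0, (isZero_zero _).eq_of_src _ _⟩, ?_⟩
    rw [DerivedCategory.isLE_iff]
    intro i hi
    exact hz i (by simpa using hi)
  | n + 1, M, hM, htors, hz => by
    have hz' : ∀ i : ℤ, m + (n : ℤ) < i →
        IsZero ((homologyFunctor (ModuleCat.{u} A) i).obj M) := fun i hi =>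
      hz i (by push_cast; omega)
    have hMt : IsPseudoCoherent A (m + (n : ℤ)) M := PC.isPC_mono (by omega) hM
    haveI hfin : Module.Finite A
        ((homologyFunctor (ModuleCat.{u} A) (m + (n : ℤ))).obj M : ModuleCat.{u} A) :=
      PC.finite_homology M (m + (n : ℤ)) hMt hz'
    obtain ⟨S, hS⟩ := (Module.Finite.fg_top (R := A)
      (M := ((homologyFunctor (ModuleCat.{u} A) (m + (n : ℤ))).obj M : ModuleCat.{u} A)))
    obtain ⟨P₁, ψ₁, hP₁, hk₁, hz₁, hl⟩ := kill_list fs M (m + (n : ℤ))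
      (fun g hg j hj y => htors g hg _ (by omega) y) S.toList
    -- `ψ₁` is surjective on `H^t`
    have hepi : Epi ((homologyFunctor (ModuleCat.{u} A) (m + (n : ℤ))).map ψ₁) := by
      rw [ModuleCat.epi_iff_surjective]
      have hr : LinearMap.range
          ((homologyFunctor (ModuleCat.{u} A) (m + (n : ℤ))).map ψ₁).hom = ⊤ := by
        rw [eq_top_iff, ← hS, Submodule.span_le]
        intro x hx
        obtain ⟨y, hy⟩ := hl x (Finset.mem_toList.2 hx)
        exact ⟨y, hy⟩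
      exact LinearMap.range_eq_top.1 hr
    obtain ⟨M', β₁, γ₁, hT₁⟩ := distinguished_cocone_triangle ψ₁
    have hM' : IsPseudoCoherent A m M' :=
      PC.isPC_obj₃ _ hT₁ m (PC.isPC_of_isPC' P₁ (Perf.isPC'_of_isPerfect hP₁) (m + 1)) hM
    have htors' : ∀ g ∈ fs, ∀ i : ℤ, m - (fs.length : ℤ) + 1 ≤ i →
        ∀ y : ((homologyFunctor (ModuleCat.{u} A) i).obj M' : ModuleCat.{u} A),
          ∃ k : ℕ, g ^ k • y = 0 := by
      intro g hg i hi y
      obtain ⟨k₁, h₁⟩ := hk₁ g hg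
      exact tors_of_exact _ (HomologySequence.exact₃ _ hT₁ i (i + 1) rfl) g
        (fun x => htors g hg i hi x)
        (fun x => ⟨k₁, homology_smul_eq_zero P₁ (g ^ k₁) h₁ (i + 1) x⟩) y
    have hzM' : ∀ i : ℤ, m - 1 + (n : ℤ) < i →
        IsZero ((homologyFunctor (ModuleCat.{u} A) i).obj M') := by
      intro i hi
      have hmono : Mono ((homologyFunctor (ModuleCat.{u} A) (i + 1)).map ψ₁) :=
        ⟨fun _ _ _ => (hz₁ (i + 1) (by omega)).eq_of_tgt _ _⟩
      by_cases hit : i = m + (n : ℤ)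
      · subst hit
        exact TwoTerm.isZero_homology_obj₃ (Triangle.mk ψ₁ β₁ γ₁) hT₁ _ _ rfl hepi hmono
      · have hepi' : Epi ((homologyFunctor (ModuleCat.{u} A) i).map ψ₁) :=
          ⟨fun _ _ _ => (hz' i (by omega)).eq_of_src _ _⟩
        exact TwoTerm.isZero_homology_obj₃ (Triangle.mk ψ₁ β₁ γ₁) hT₁ i (i + 1) rfl hepi' hmono
    obtain ⟨P', α', C', β', γ', hT', hP', hk', hC'⟩ := claim fs m n M' hM' htors' hzM'
    obtain ⟨Z, v, w, hT₁₃⟩ := distinguished_cocone_triangle₁ (β₁ ≫ β')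
    have o := Triangulated.someOctahedron' rfl hT₁ hT' hT₁₃
    refine ⟨Z, v, C', β₁ ≫ β', w, hT₁₃, ?_, fun g hg => ?_, hC'⟩
    · exact (DRing1.isPerfect_two_out_of_three _ o.mem).2.1 hP₁ hP'
    · obtain ⟨k₁, h₁⟩ := hk₁ g hg
      obtain ⟨k₂, h₂⟩ := hk' g hg
      refine ⟨k₁ + k₂, ?_⟩
      rw [pow_add]
      exact smul_id_obj₂ _ o.mem (g ^ k₁) (g ^ k₂) h₁ h₂

/-- **Approximation by perfect complexes supported on `V(fs)`, algebraic form.**  If `M` is
`m`-pseudo-coherent and `H^i(M)` is `g`-power torsion for all `g ∈ fs` and `i ≥ m - r + 1`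
(`r = fs.length`), there is a perfect `P` killed by powers of all `g ∈ fs` and `α : P ⟶ M`
inducing isomorphisms on `H^i` for `i > m` and an epimorphism on `H^m`. -/
theorem exists_perfect_approx (fs : List A) (m : ℤ) (M : Dual.D A)
    (hM : IsPseudoCoherent A m M)
    (htors : ∀ g ∈ fs, ∀ i : ℤ, m - (fs.length : ℤ) + 1 ≤ i →
      ∀ y : ((homologyFunctor (ModuleCat.{u} A) i).obj M : ModuleCat.{u} A),
        ∃ k : ℕ, g ^ k • y = 0) :
    ∃ (P : Dual.D A) (α : P ⟶ M), IsPerfect A P ∧ (∀ g ∈ fs, ∃ k : ℕ, g ^ k • 𝟙 P = 0) ∧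
      PC.IsWit m α := by
  obtain ⟨E, a, b, α₀, hE, hff, hiso, hepi0⟩ := hM
  have hz : ∀ i : ℤ, max b m < i → IsZero ((homologyFunctor (ModuleCat.{u} A) i).obj M) := by
    intro i hi
    haveI := hiso i (lt_of_le_of_lt (le_max_right b m) hi)
    exact (isZero_homology_toD E i (hE i (Or.inr (lt_of_le_of_lt (le_max_left b m) hi)))).of_iso
      (asIso ((homologyFunctor (ModuleCat.{u} A) i).map α₀)).symm
  have hM' : IsPseudoCoherent A m M := ⟨E, a, b, α₀, hE, hff, hiso, hepi0⟩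
  obtain ⟨P, α, C, β, γ, hT, hP, hk, hC⟩ := claim fs m (max b m - (m - 1)).toNat M hM' htors
    (fun i hi => hz i (by
      have := Int.self_le_toNat (max b m - (m - 1))
      omega))
  exact ⟨P, α, hP, hk, (PC.isWit_iff_isLE (Triangle.mk α β γ) hT m).2 hC⟩

end Groth.Agent.Helper7.QB41
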