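import Groth.Agent.Lib.Helper7.QB41
import Groth.Agent.Lib.Helper7.QB40
import Groth.Agent.Lib.Helper7.QB37
import Groth.Agent.H4.RPC7
import Groth.Agent.H4.TilD11
import Groth.Agent.Lib.Lead.QC.RestrictLoc
import Groth.Agent.Lib.Lead.QC.SpecHom

/-!
# Approximation by perfect complexes supported on `V(fs)` on an affine scheme (S7261)
-/

set_option autoImplicit false
universe u

open CategoryTheory CategoryTheory.Limits AlgebraicGeometry Pretriangulated Opposite
attribute [local instance] HasDerivedCategory.standard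

namespace Groth.Agent.Helper7.QB42

open Groth.Agent.H4 DerivedCategory

section General

universe w w' v v' u₁ u₂

variable {C : Type u₁} [Category.{v} C] [Abelian C] {D : Type u₂} [Category.{v'} D] [Abelian D]
  [HasDerivedCategory.{w} C] [HasDerivedCategory.{w'} D]

/-- isomorphism on `H^i` for `i > m` and epimorphism on `H^m`. -/
def Wit (m : ℤ) {X Y : DerivedCategory C} (α : X ⟶ Y) : Prop :=
  (∀ i : ℤ, m < i → IsIso ((homologyFunctor C i).map α)) ∧ Epi ((homologyFunctor C m).map α)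

lemma isZero_of_wit (T : Triangle (DerivedCategory C)) (hT : T ∈ distTriang _) (m : ℤ)
    (h : Wit m T.mor₁) (i : ℤ) (hi : m ≤ i) : IsZero ((homologyFunctor C i).obj T.obj₃) := by
  have hepi : Epi ((homologyFunctor C i).map T.mor₁) := by
    rcases hi.lt_or_eq with hi' | rfl
    · haveI := h.1 i hi'
      infer_instance
    · exact h.2
  have hmono : Mono ((homologyFunctor C (i + 1)).map T.mor₁) := by
    haveI := h.1 (i + 1) (by omega)
    infer_instance
  have h1 := (HomologySequence.epi_homologyMap_mor₁_iff T hT i).1 hepi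
  have h2 := (HomologySequence.mono_homologyMap_mor₁_iff T hT i (i + 1) rfl).1 hmono
  have h3 := HomologySequence.exact₃ T hT i (i + 1) rfl
  rw [IsZero.iff_id_eq_zero]
  have := h3.mono_g h1
  dsimp only at this
  rw [← cancel_mono (HomologySequence.δ T i (i + 1) rfl), h2, comp_zero, zero_comp]

lemma wit_of_isZero (T : Triangle (DerivedCategory C)) (hT : T ∈ distTriang _) (m : ℤ)
    (hz : ∀ i : ℤ, m ≤ i → IsZero ((homologyFunctor C i).obj T.obj₃)) : Wit m T.mor₁ := by
  have hepi : ∀ i : ℤ, m ≤ i → Epi ((homologyFunctor C i).map T.mor₁) := fun i hi =>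
    (HomologySequence.epi_homologyMap_mor₁_iff T hT i).2 ((hz i hi).eq_of_tgt _ _)
  refine ⟨fun i hi => ?_, hepi m le_rfl⟩
  haveI := hepi i hi.le
  haveI : Mono ((homologyFunctor C i).map T.mor₁) :=
    (HomologySequence.mono_homologyMap_mor₁_iff T hT (i - 1) i (by omega)).2
      ((hz (i - 1) (by omega)).eq_of_src _ _)
  exact isIso_of_mono_of_epi _

lemma Wit.comp_isIso {m : ℤ} {X Y Z : DerivedCategory C} {α : X ⟶ Y} (h : Wit m α)
    (e : Y ⟶ Z) [IsIso e] : Wit m (α ≫ e) := by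
  refine ⟨fun i hi => ?_, ?_⟩
  · haveI := h.1 i hi
    rw [CategoryTheory.Functor.map_comp]
    infer_instance
  · haveI := h.2
    rw [CategoryTheory.Functor.map_comp]
    infer_instance

theorem wit_map (F : C ⥤ D) [F.Additive] [PreservesFiniteLimits F] [PreservesFiniteColimits F]
    {X Y : DerivedCategory C} (α : X ⟶ Y) (m : ℤ) (h : Wit m α) :
    Wit m (F.mapDerivedCategory.map α) := by
  obtain ⟨Z, β, γ, hT⟩ := distinguished_cocone_triangle α
  have hz := isZero_of_wit _ hT m h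
  have hT' := F.mapDerivedCategory.map_distinguished _ hT
  exact wit_of_isZero _ hT' m (fun i hi =>
    IsZero.of_iso (F.map_isZero (hz i hi)) (Groth.Agent.H7.DRec.homologyMapDerivedIso F Z i))

end General

section Spec

variable {A : Type u} [CommRing A] [PreservesFiniteLimits (tilde.functor (CommRingCat.of A))]

theorem approx_spec (fs : List A) (m : ℤ) (E : DCoh.D (Spec (CommRingCat.of A)))
    (hq : DCoh.IsQCohD E) (hpc : DCoh.IsPseudoCoherentD m E)
    (hsupp : ∀ i : ℤ, m - (fs.length : ℤ) + 1 ≤ i →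
      IsZero ((Scheme.Modules.restrictFunctor
        (LocCoh.puncturedOpen A (Ideal.span {a | a ∈ fs})).ι).obj (DCoh.HD E i))) :
    ∃ (P : DCoh.D (Spec (CommRingCat.of A))) (α : P ⟶ E), DCoh.IsPerfect P ∧
      IsZero ((DCoh.restrictD (LocCoh.puncturedOpen A (Ideal.span {a | a ∈ fs})).ι).obj P) ∧
      Wit m α := by
  haveI : PreservesFiniteColimits (tilde.functor (CommRingCat.of A)) := by
    haveI : (tilde.functor (CommRingCat.of A)).IsLeftAdjoint := tilde.adjunction.isLeftAdjoint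
    infer_instance
  obtain ⟨N, ⟨eF⟩⟩ := ((QB2.s0997 (CommRingCat.of A)).2.2 _).1 hq
  have hN : DRing.IsPseudoCoherent A m N :=
    (Groth.Agent.H4.TilD11.S1004 A N m).1
      (Groth.Agent.H4.TilD11.isPseudoCoherentD_of_iso eF.symm hpc)
  have htors : ∀ g ∈ fs, ∀ i : ℤ, m - (fs.length : ℤ) + 1 ≤ i →
      ∀ y : ((homologyFunctor (ModuleCat.{u} A) i).obj N : ModuleCat.{u} A),
        ∃ k : ℕ, g ^ k • y = 0 := by
    intro g hg i hi y
    have hz : IsZero ((Scheme.Modules.restrictFunctor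
        (LocCoh.puncturedOpen A (Ideal.span {a | a ∈ fs})).ι).obj
        ((tilde.functor (CommRingCat.of A)).obj
          ((homologyFunctor (ModuleCat.{u} A) i).obj N))) := by
      refine IsZero.of_iso (hsupp i hi) ?_
      exact (Scheme.Modules.restrictFunctor _).mapIso
        ((Groth.Agent.H7.DRec.homologyMapDerivedIso (tilde.functor (CommRingCat.of A)) N
          i).symm ≪≫ (homologyFunctor _ i).mapIso eF)
    exact QB37.tors_of_isZero_restrict_tilde fs _ hz g hg y
  obtain ⟨P, α, hP, hk, hW⟩ := QB41.exists_perfect_approx fs m N hN htors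
  refine ⟨(DCoh.tildeD (CommRingCat.of A)).obj P,
    (DCoh.tildeD (CommRingCat.of A)).map α ≫ eF.hom,
    (Groth.Agent.H4.TilD4.S1105 A P).2 hP, QB39.isZero_restrict_of_tors fs P hk, ?_⟩
  exact (wit_map (tilde.functor (CommRingCat.of A)) α m ⟨hW.1, hW.2⟩).comp_isIso eF.hom

end Spec

lemma mem_zeroLocus_iff (X : Scheme.{u}) [IsAffine X] (fs : Finset Γ(X, ⊤)) (x : X) :
    x ∈ X.zeroLocus (U := ⊤) (↑fs : Set Γ(X, ⊤)) ↔
      ∀ g ∈ fs, g ∈ (X.toSpecΓ x).asIdeal := by
  have key : ∀ g : Γ(X, ⊤), x ∈ X.basicOpen g ↔ g ∉ (X.toSpecΓ x).asIdeal := by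
    intro g
    rw [← Scheme.toSpecΓ_preimage_basicOpen]
    rfl
  rw [Scheme.zeroLocus_def]
  simp only [Set.mem_iInter, Set.mem_compl_iff]
  constructor
  · intro h g hg
    by_contra hgx
    exact h g (Finset.mem_coe.2 hg) ((key g).2 hgx)
  · intro h g hg hx
    exact (key g).1 hx (h g (Finset.mem_coe.1 hg))

/-- **S7261**. -/
theorem s7261 (X : Scheme.{u}) [IsAffine X] (fs : Finset Γ(X, ⊤))
    (m : ℤ) (E : DCoh.D X) (hq : DCoh.IsQCohD E) (hpc : DCoh.IsPseudoCoherentD m E)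
    (hsupp : ∀ i : ℤ, m - (fs.card : ℤ) + 1 ≤ i →
      CohB1.support (DCoh.HD E i) ⊆ X.zeroLocus (U := ⊤) (↑fs : Set Γ(X, ⊤))) :
    ∃ (P : DCoh.D X) (α : P ⟶ E), DCoh.IsPerfect P ∧
      (∀ i : ℤ, CohB1.support (DCoh.HD P i) ⊆ X.zeroLocus (U := ⊤) (↑fs : Set Γ(X, ⊤))) ∧
      (∀ i : ℤ, m < i → IsIso ((DerivedCategory.homologyFunctor X.Modules i).map α)) ∧
      Epi ((DerivedCategory.homologyFunctor X.Modules m).map α) := by
  classical
  haveI : PreservesFiniteLimits (tilde.functor (CommRingCat.of Γ(X, ⊤))) :=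
    Groth.Agent.H5.AG.tilde_preservesFiniteLimits _
  let φ : X ≅ Spec (CommRingCat.of Γ(X, ⊤)) := X.isoSpec
  have hφ : ∀ x : X, φ.hom x = X.toSpecΓ x := fun x => rfl
  let l : List Γ(X, ⊤) := fs.toList
  have hl : ∀ g, g ∈ l ↔ g ∈ fs := fun g => Finset.mem_toList
  have hlen : (l.length : ℤ) = (fs.card : ℤ) := by rw [Finset.length_toList]
  let U' := LocCoh.puncturedOpen Γ(X, ⊤) (Ideal.span {a | a ∈ l})
  have hU' : ∀ y : Spec (CommRingCat.of Γ(X, ⊤)),
      y ∈ ((U' : Set (Spec (CommRingCat.of Γ(X, ⊤)))))ᶜ ↔ ∀ g ∈ fs, g ∈ y.asIdeal := by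
    intro y
    change y ∈ ((PrimeSpectrum.zeroLocus
      ((Ideal.span {a | a ∈ l} : Ideal Γ(X, ⊤)) : Set Γ(X, ⊤)))ᶜ)ᶜ ↔ _
    rw [compl_compl]
    constructor
    · intro h g hg
      have h' : ((Ideal.span {a | a ∈ l} : Ideal Γ(X, ⊤)) : Set Γ(X, ⊤)) ⊆
          (PrimeSpectrum.asIdeal y : Set Γ(X, ⊤)) := h
      exact h' (Ideal.subset_span ((hl g).2 hg))
    · intro h
      have h2 : Ideal.span {a | a ∈ l} ≤ PrimeSpectrum.asIdeal y :=
        Ideal.span_le.2 (fun a ha => h a ((hl a).1 ha))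
      exact fun a ha => h2 ha
  have hsupp' : ∀ i : ℤ, m - (l.length : ℤ) + 1 ≤ i →
      IsZero ((Scheme.Modules.restrictFunctor U'.ι).obj
        (DCoh.HD ((DCoh.restrictD φ.inv).obj E) i)) := by
    intro i hi
    rw [Groth.Agent.LD.QC.isZero_restrict_iff]
    intro y hy
    have hy1 : y ∈ CohB1.support ((Scheme.Modules.restrictFunctor φ.inv).obj (DCoh.HD E i)) :=
      (Groth.Agent.LD.QC.support_eq_of_iso (Groth.Agent.H7.DRec.homologyMapDerivedIso
        (Scheme.Modules.restrictFunctor φ.inv) E i)).subset hy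
    have hy' : φ.inv y ∈ CohB1.support (DCoh.HD E i) :=
      (Groth.Agent.LD.QC.mem_support_restrict_iff φ.inv _ y).1 hy1
    have hz := hsupp i (by rw [← hlen]; exact hi) hy'
    rw [mem_zeroLocus_iff] at hz
    rw [hU']
    intro g hg
    have h2 := hz g hg
    have e : X.toSpecΓ (φ.inv y) = y := by
      rw [← hφ, ← Scheme.Hom.comp_apply, φ.inv_hom_id]
      rfl
    rwa [e] at h2
  obtain ⟨P, α, hP, hP0, hW⟩ := approx_spec l m _ (QB3.isQCohD_RD φ.inv E hq)
    (Groth.Agent.H4.RPC7.isPseudoCoherentD_RD φ.inv E hpc) hsupp'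
  have hW' := (wit_map (Scheme.Modules.restrictFunctor φ.hom) α m hW).comp_isIso
    ((QB40.nuIso φ).hom.app E)
  refine ⟨(DCoh.restrictD φ.hom).obj P,
    (DCoh.restrictD φ.hom).map α ≫ (QB40.nuIso φ).hom.app E,
    Groth.Agent.LD.PerfDesc.isPerfect_RD φ.hom P hP, fun i x hx => ?_, hW'.1, hW'.2⟩
  have hx1 : x ∈ CohB1.support ((Scheme.Modules.restrictFunctor φ.hom).obj (DCoh.HD P i)) :=
    (Groth.Agent.LD.QC.support_eq_of_iso (Groth.Agent.H7.DRec.homologyMapDerivedIso
      (Scheme.Modules.restrictFunctor φ.hom) P i)).subset hx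
  have hx' : φ.hom x ∈ CohB1.support (DCoh.HD P i) :=
    (Groth.Agent.LD.QC.mem_support_restrict_iff φ.hom _ x).1 hx1
  have hz : IsZero ((Scheme.Modules.restrictFunctor U'.ι).obj (DCoh.HD P i)) :=
    IsZero.of_iso ((homologyFunctor _ i).map_isZero hP0)
      (Groth.Agent.H7.DRec.homologyMapDerivedIso (Scheme.Modules.restrictFunctor U'.ι) P i).symm
  rw [Groth.Agent.LD.QC.isZero_restrict_iff] at hz
  have h1 := (hU' _).1 (hz hx')
  rw [mem_zeroLocus_iff]
  intro g hg
  exact h1 g hg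

end Groth.Agent.Helper7.QB42
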