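import Mathlib
import Groth.Prelude.Def_DCoh4
import Groth.Agent.Lib.Helper6.QcVan5
import Groth.Agent.Lib.Helper6.RFTri6

/-! # The right adjoint of `Rf_*` on `D_QCoh` is bounded below (S1767) -/

set_option autoImplicit false
universe u
open CategoryTheory Limits Opposite Pretriangulated AlgebraicGeometry TopologicalSpace

namespace Groth.Agent.Helper7.QB6

open DerivedCategory

attribute [local instance] HasDerivedCategory.standard

/-- if every map from a `D_QCoh`-object concentrated in degrees `< b` to `A` vanishes, then `A` has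
no cohomology in degrees `< b`. -/
lemma key {X : Scheme.{u}} (A : DCoh.D X) (hA : DCoh.IsQCohD A) (b : ℤ)
    (hzero : ∀ (T₁ : DCoh.D X), DCoh.IsQCohD T₁ → (∀ q, b ≤ q → IsZero (DCoh.HD T₁ q)) →
      ∀ φ : T₁ ⟶ A, φ = 0) (j : ℤ) (hj : j < b) : IsZero (DCoh.HD A j) := by
  obtain ⟨T, hT, rfl, z1, z3, h1iso, h3iso⟩ := Groth.Agent.H6.RFTri.exists_trunc_triangle A b
  have hQ1 : DCoh.IsQCohD T.obj₁ := by
    intro q
    by_cases hq : q < b
    · obtain ⟨e⟩ := h1iso q hq
      exact Groth.Agent.LD.QC.qc_of_iso e.symm (hA q)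
    · exact Groth.Agent.LD.QC.qc_of_iso ((isZero_zero _).iso (z1 q (by omega)))
        (Groth.Agent.LD.SC.qc_zero X)
  have h0 : T.mor₁ = 0 := hzero T.obj₁ hQ1 z1 T.mor₁
  have hex := DerivedCategory.HomologySequence.exact₂ T hT j
  have hg : ((homologyFunctor X.Modules j).map T.mor₂) = 0 := (z3 j hj).eq_of_tgt _ _
  haveI : Epi ((homologyFunctor X.Modules j).map T.mor₁) := hex.epi_f hg
  exact IsZero.of_epi_eq_zero ((homologyFunctor X.Modules j).map T.mor₁)
    (by rw [h0, Functor.map_zero])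

theorem s1767 (X Y : Scheme.{u}) [CompactSpace X] [QuasiSeparatedSpace X] [CompactSpace Y]
    [QuasiSeparatedSpace Y] (f : X ⟶ Y) [DCoh.HasRpush f]
    (h : ∀ K : DCoh.D X, DCoh.IsQCohD K → DCoh.IsQCohD ((DCoh.Rpush f).obj K))
    (a : DCoh.DQCoh Y ⥤ DCoh.DQCoh X)
    (adj : (ObjectProperty.lift DCoh.IsQCohD (ObjectProperty.ι DCoh.IsQCohD ⋙ DCoh.Rpush f)
      (fun K => h K.obj K.property)) ⊣ a) :
    ∃ N : ℕ, ∀ (K : DCoh.DQCoh Y) (c : ℤ), (∀ i : ℤ, i ≤ c → IsZero (DCoh.HD K.obj i)) →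
      ∀ i : ℤ, i ≤ c - N → IsZero (DCoh.HD (a.obj K).obj i) := by
  haveI : QuasiCompact f := inferInstance
  haveI : QuasiSeparated f := inferInstance
  obtain ⟨D, hD⟩ := Groth.Agent.H6.QcVan.exists_vanishing_bound f
  refine ⟨D, fun K c hK i hi => ?_⟩
  refine key (a.obj K).obj (a.obj K).property (c - D + 1) ?_ i (by omega)
  intro T₁ hT₁ z φ
  let TT : DCoh.DQCoh X := ⟨T₁, hT₁⟩
  let φ' : TT ⟶ a.obj K := ObjectProperty.homMk φ
  let φ'' : TT ⟶ a.obj K := ObjectProperty.homMk 0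
  have hLE : ((DCoh.Rpush f).obj T₁).IsLE c := by
    rw [DerivedCategory.isLE_iff]
    intro m hm
    exact hD T₁ hT₁ (c - D) (fun q hq => z q (by omega)) m (by omega)
  have hGE : K.obj.IsGE (c + 1) := by
    rw [DerivedCategory.isGE_iff]
    intro m hm
    exact hK m (by omega)
  have h1 : ∀ ψ : ((ObjectProperty.lift DCoh.IsQCohD
      (ObjectProperty.ι DCoh.IsQCohD ⋙ DCoh.Rpush f)
      (fun K => h K.obj K.property)).obj TT ⟶ K), ψ.hom = 0 := fun ψ => by
    exact DerivedCategory.TStructure.t.zero_of_isLE_of_isGE ψ.hom c (c + 1) (by omega) hLE hGE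
  have heq : (adj.homEquiv TT K).symm φ' = (adj.homEquiv TT K).symm φ'' := by
    apply ObjectProperty.hom_ext
    rw [h1, h1]
  have h2 : φ' = φ'' := (adj.homEquiv TT K).symm.injective heq
  exact congrArg (fun g => g.hom) h2

end Groth.Agent.Helper7.QB6
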