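import Mathlib
import Groth.Prelude
import Groth.Agent.H4.US13
import Groth.Agent.Lib.Helper7.DRec1
import Groth.Agent.Lib.Lead.QC.SpecHom
import Groth.Agent.Lib.Lead.QC.SuppPullback
import Groth.Agent.Lib.Helper6.Liai3

/-! # Dualizing complexes on schemes and the Cohen–Macaulay locus (S1809, S3675) -/

set_option autoImplicit false
universe u

open CategoryTheory AlgebraicGeometry Limits

namespace Groth.Agent.Helper7.QB9

attribute [local instance] HasDerivedCategory.standard

section ring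

variable {A : Type u} [CommRing A] [IsNoetherianRing A]

/-- a dualizing complex has nonzero cohomology at every prime. -/
lemma exists_mem_support (ω : Dual.D A) (hω : Dual.IsDualizing A ω) (p : PrimeSpectrum A) :
    ∃ i : ℤ, p ∈ Module.support A (Dual.HD A ω i) := by
  by_contra hcon
  push_neg at hcon
  have hB := Groth.Agent.H4.FB3.isDualizing_E_localization A p.asIdeal.primeCompl ω hω
  have hz : IsZero ((Groth.Agent.H4.FB2.E A (Localization.AtPrime p.asIdeal)).obj ω) := by
    apply Groth.Agent.H7.DRec.isZero_of_forall_isZero_homology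
    intro n
    have h1 := (Groth.Agent.H4.US13.nontrivial_HD_E_iff p ω n).not.2 (hcon n)
    rw [not_nontrivial_iff_subsingleton] at h1
    exact ModuleCat.isZero_of_subsingleton _
  have h1 : (1 : Localization.AtPrime p.asIdeal) = 0 := by
    apply hB.toEnd_bijective.injective
    exact hz.eq_of_src _ _
  exact one_ne_zero h1

end ring

section sch

variable {X : Scheme.{u}}

lemma cm_stalk_iff {U : X.Opens} (hU : IsAffineOpen U) (y : U) :
    LocCoh.IsCohenMacaulayLocalRing (X.presheaf.stalk (y : X)) ↔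
      LocCoh.IsCohenMacaulayLocalRing (Localization.AtPrime (hU.primeIdealOf y).asIdeal) := by
  letI := X.presheaf.algebra_section_stalk y
  haveI := hU.isLocalization_stalk y
  have e : Localization.AtPrime (hU.primeIdealOf y).asIdeal ≃ₐ[Γ(X, U)] X.presheaf.stalk (y : X) :=
    IsLocalization.algEquiv (hU.primeIdealOf y).asIdeal.primeCompl _ _
  constructor
  · intro h
    exact Groth.Agent.H6.Liai.cmLocal_of_ringEquiv e.toRingEquiv.symm
  · intro h
    exact Groth.Agent.H6.Liai.cmLocal_of_ringEquiv e.toRingEquiv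

lemma subsingleton_stalk_congr {M N : X.Modules} (e : M ≅ N) (x : X) :
    Subsingleton (M.presheaf.stalk x) ↔ Subsingleton (N.presheaf.stalk x) := by
  have e' : M.presheaf.stalk x ≅ N.presheaf.stalk x :=
    (TopCat.Presheaf.stalkFunctor Ab x).mapIso ((Scheme.Modules.toPresheaf X).mapIso e)
  exact e'.addCommGroupIsoToAddEquiv.toEquiv.subsingleton_congr

lemma nontrivial_stalk_congr (M : X.Modules) {a b : X} (h : a = b) :
    Nontrivial (M.presheaf.stalk a) ↔ Nontrivial (M.presheaf.stalk b) := by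
  subst h; rfl

/-- stalks of the cohomology sheaves of `tildeD`. -/
lemma nontrivial_stalk_tildeD [∀ (R : CommRingCat.{u}), PreservesFiniteLimits (tilde.functor R)]
    (R : CommRingCat.{u}) (ω' : DerivedCategory (ModuleCat.{u} R)) (p : PrimeSpectrum R) (i : ℤ) :
    Nontrivial ((DCoh.HD ((DCoh.tildeD R).obj ω') i).presheaf.stalk
        (show ↥(Spec (CommRingCat.of R)) from p)) ↔
      p ∈ Module.support R ((DerivedCategory.homologyFunctor (ModuleCat.{u} R) i).obj ω') := by
  have e3 := Groth.Agent.H7.DRec.homologyMapDerivedIso (tilde.functor R) ω' i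
  rw [← not_subsingleton_iff_nontrivial, subsingleton_stalk_congr e3,
    not_subsingleton_iff_nontrivial, Module.mem_support_iff]
  exact ((IsLocalizedModule.iso p.asIdeal.primeCompl
    (tilde.toStalk ((DerivedCategory.homologyFunctor (ModuleCat.{u} R) i).obj ω') p).hom).toEquiv.nontrivial_congr).symm

variable [∀ (U : Scheme.{u}) (j : U ⟶ X) [IsOpenImmersion j],
    PreservesFiniteLimits (Scheme.Modules.restrictFunctor j)]
  [∀ (R : CommRingCat.{u}), PreservesFiniteLimits (tilde.functor R)]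

/-- stalks of cohomology sheaves of `ω` along an affine chart on which `ω` is `tildeD ω'`. -/
lemma nontrivial_stalk_iff (R : CommRingCat.{u}) (j : Spec (CommRingCat.of R) ⟶ X) [IsOpenImmersion j]
    (ω : DCoh.D X) (ω' : DerivedCategory (ModuleCat.{u} R))
    (e : (DCoh.restrictD j).obj ω ≅ (DCoh.tildeD R).obj ω') (p : PrimeSpectrum R) (i : ℤ) :
    Nontrivial ((DCoh.HD ω i).presheaf.stalk (j (show ↥(Spec (CommRingCat.of R)) from p))) ↔
      p ∈ Module.support R ((DerivedCategory.homologyFunctor (ModuleCat.{u} R) i).obj ω') := by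
  have e1 := Groth.Agent.H7.DRec.homologyMapDerivedIso (Scheme.Modules.restrictFunctor j) ω i
  have e2 := (DerivedCategory.homologyFunctor (Spec (CommRingCat.of R)).Modules i).mapIso e
  rw [← nontrivial_stalk_tildeD R ω' p i, ← not_subsingleton_iff_nontrivial,
    ← not_subsingleton_iff_nontrivial,
    ← Groth.Agent.LD.QC.subsingleton_stalk_restrict_iff j (DCoh.HD ω i),
    subsingleton_stalk_congr (e1.symm ≪≫ e2)]

/-- local data around a point for a dualizing complex on a scheme. -/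
lemma local_data (ω : DCoh.D X) (hω : Dual2.IsDualizingSch X ω) (x : X) :
    ∃ (U : X.Opens) (hU : IsAffineOpen U) (_ : x ∈ U) (ω' : Dual.D Γ(X, U)),
      Dual.IsDualizing Γ(X, U) ω' ∧ ∀ (y : U) (i : ℤ),
        Nontrivial ((DCoh.HD ω i).presheaf.stalk (y : X)) ↔
          hU.primeIdealOf y ∈ Module.support Γ(X, U) (Dual.HD Γ(X, U) ω' i) := by
  obtain ⟨U, hU, hxU, -⟩ := exists_isAffineOpen_mem_and_subset (x := x) (U := ⊤) trivial
  obtain ⟨ω', hω', ⟨e⟩⟩ := hω Γ(X, U) hU.fromSpec
  refine ⟨U, hU, hxU, ω', hω', fun y i => ?_⟩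
  rw [← nontrivial_stalk_iff Γ(X, U) hU.fromSpec ω ω' e (hU.primeIdealOf y) i]
  exact nontrivial_stalk_congr _ (hU.fromSpec_primeIdealOf y).symm

theorem cm_iff_atMostOne [IsLocallyNoetherian X] (ω : DCoh.D X) (hω : Dual2.IsDualizingSch X ω)
    (x : X) :
    LocCoh.IsCohenMacaulayLocalRing (X.presheaf.stalk x) ↔
      ∀ i j : ℤ, Nontrivial ((DCoh.HD ω i).presheaf.stalk x) →
        Nontrivial ((DCoh.HD ω j).presheaf.stalk x) → i = j := by
  obtain ⟨U, hU, hxU, ω', hω', hst⟩ := local_data ω hω x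
  haveI := hω'.isNoetherianRing
  rw [cm_stalk_iff hU ⟨x, hxU⟩,
    Groth.Agent.H4.US13.isCM_localization_iff (hU.primeIdealOf ⟨x, hxU⟩) ω' hω']
  constructor
  · intro h i j hi hj
    exact h i j ((hst ⟨x, hxU⟩ i).1 hi) ((hst ⟨x, hxU⟩ j).1 hj)
  · intro h i j hi hj
    exact h i j ((hst ⟨x, hxU⟩ i).2 hi) ((hst ⟨x, hxU⟩ j).2 hj)

theorem exists_nontrivial_stalk (ω : DCoh.D X) (hω : Dual2.IsDualizingSch X ω) (x : X) :
    ∃ i : ℤ, Nontrivial ((DCoh.HD ω i).presheaf.stalk x) := by
  obtain ⟨U, hU, hxU, ω', hω', hst⟩ := local_data ω hω x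
  haveI := hω'.isNoetherianRing
  obtain ⟨i, hi⟩ := exists_mem_support ω' hω' (hU.primeIdealOf ⟨x, hxU⟩)
  exact ⟨i, (hst ⟨x, hxU⟩ i).2 hi⟩

theorem isOpen_cm [IsLocallyNoetherian X] (ω : DCoh.D X) (hω : Dual2.IsDualizingSch X ω) :
    IsOpen {x : X | LocCoh.IsCohenMacaulayLocalRing (X.presheaf.stalk x)} := by
  rw [isOpen_iff_forall_mem_open]
  intro x hx
  obtain ⟨U, hU', hxU, -⟩ := exists_isAffineOpen_mem_and_subset (x := x) (U := ⊤) trivial
  obtain ⟨ω', hω', -⟩ := hω Γ(X, U) hU'.fromSpec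
  haveI := hω'.isNoetherianRing
  have hopen := (Groth.Agent.H4.US13.S0372 ω' hω').1
  have hcont : Continuous (fun y : U => hU'.primeIdealOf y) := by
    unfold IsAffineOpen.primeIdealOf
    exact hU'.isoSpec.hom.continuous
  have h1 := hopen.preimage hcont
  have h2 : IsOpen (Subtype.val '' ((fun y : U => hU'.primeIdealOf y) ⁻¹'
      {p : PrimeSpectrum Γ(X, U) |
        LocCoh.IsCohenMacaulayLocalRing (Localization.AtPrime p.asIdeal)})) :=
    U.isOpen.isOpenMap_subtype_val _ h1
  refine ⟨_, ?_, h2, ⟨⟨x, hxU⟩, ?_, rfl⟩⟩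
  · rintro _ ⟨y, hy, rfl⟩
    exact (cm_stalk_iff hU' y).2 hy
  · exact (cm_stalk_iff hU' ⟨x, hxU⟩).1 hx

theorem s1809 [IsLocallyNoetherian X] (ω : DCoh.D X) (hω : Dual2.IsDualizingSch X ω) :
    (∀ x : X, LocCoh.IsCohenMacaulayLocalRing (X.presheaf.stalk x) ↔
        ∃! i : ℤ, Nontrivial ((DCoh.HD ω i).presheaf.stalk x)) ∧
      IsOpen {x : X | LocCoh.IsCohenMacaulayLocalRing (X.presheaf.stalk x)} := by
  refine ⟨fun x => ?_, isOpen_cm ω hω⟩
  rw [cm_iff_atMostOne ω hω x]
  constructor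
  · intro h
    obtain ⟨i₀, hi₀⟩ := exists_nontrivial_stalk ω hω x
    exact ⟨i₀, hi₀, fun j hj => h j i₀ hj hi₀⟩
  · rintro ⟨i₀, -, h2⟩ i j hi hj
    rw [h2 i hi, h2 j hj]

theorem s3675 [IsLocallyNoetherian X] (ω : X.Modules)
    (hD : Dual2.IsDualizingSch X (DCoh.inD X ω)) (x : X) :
    LocCoh.IsCohenMacaulayLocalRing (X.presheaf.stalk x) := by
  rw [cm_iff_atMostOne _ hD x]
  have key : ∀ i : ℤ, Nontrivial ((DCoh.HD (DCoh.inD X ω) i).presheaf.stalk x) → i = 0 := by
    intro i hi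
    by_contra hne
    have hz : IsZero (DCoh.HD (DCoh.inD X ω) i) := by
      rcases lt_or_gt_of_ne hne with h' | h'
      · exact DerivedCategory.isZero_of_isGE (DCoh.inD X ω) 0 i h'
      · exact DerivedCategory.isZero_of_isLE (DCoh.inD X ω) 0 i h'
    haveI := Groth.Agent.LD.QC.subsingleton_stalk_of_isZero _ hz x
    exact not_subsingleton _ ‹_›
  intro i j hi hj
  rw [key i hi, key j hj]

end sch

end Groth.Agent.Helper7.QB9
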