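import Groth.Agent.Lib.Helper7.TFC4
import Groth.Prelude.Def_CohCx

/-! # A class of quasi-compact objects closed under covers of products and equalizers:
the class of objects covered by a member and quasi-separated relative to the class (helper7). -/

set_option autoImplicit false
universe u
open CategoryTheory CategoryTheory.Limits Opposite CategoryTheory.Abelian

namespace Groth.Agent.H7.QCG

open Groth.Agent.H2.TF Groth.Agent.H2.Cartan Groth.Agent.H7.TFC

variable {C : Type u} [SmallCategory C] {J : GrothendieckTopology C}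

/-- epimorphisms of the topos are stable under base change. -/
lemma epi_snd_of_epi {Q E A : ToposFin.Sh J} (c : Q ⟶ E) [Epi c] (m : A ⟶ E) :
    Epi (pullback.snd c m) := by
  have h : JEpi (fun _ : Unit => c) := (jepi_single_iff c).2 inferInstance
  exact (jepi_single_iff _).1 (h.pullback_snd m)

lemma epi_of_factor_pullback {Q E A B : ToposFin.Sh J} (c : Q ⟶ E) [Epi c] (m : A ⟶ E)
    (l : pullback c m ⟶ B) (r : B ⟶ A) (h : l ≫ r = pullback.snd c m) : Epi r := by
  haveI := epi_snd_of_epi c m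
  haveI : Epi (l ≫ r) := by rw [h]; infer_instance
  exact epi_of_epi l r

lemma epi_prod_map_id {A B : ToposFin.Sh J} (f : A ⟶ B) [Epi f] (X : ToposFin.Sh J) :
    Epi (prod.map f (𝟙 X)) := by
  have h : JEpi (fun _ : Unit => f) := (jepi_single_iff f).2 inferInstance
  have := h.of_isPullback (prod.fst : B ⨯ X ⟶ B) (fun _ => prod.fst)
    (fun _ => prod.map f (𝟙 X)) (fun _ => IsPullback.of_prod_fst_with_id f X)
  exact (jepi_single_iff _).1 this

variable (S : Set (ToposFin.Sh J))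

/-- covered by a member of the class. -/
def Cov (L : ToposFin.Sh J) : Prop := ∃ K ∈ S, ∃ e : K ⟶ L, Epi e

/-- quasi-separated relative to the class. -/
def QSep (L : ToposFin.Sh J) : Prop :=
  ∀ K₁ ∈ S, ∀ a b : K₁ ⟶ L, Cov S (equalizer a b)

/-- coherent relative to the class. -/
def G (L : ToposFin.Sh J) : Prop := Cov S L ∧ QSep S L

variable {S}

lemma Cov.of_epi {L L' : ToposFin.Sh J} (h : Cov S L) (f : L ⟶ L') [Epi f] : Cov S L' := by
  obtain ⟨K, hK, e, he⟩ := h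
  exact ⟨K, hK, e ≫ f, epi_comp e f⟩

lemma Cov.of_mem {K : ToposFin.Sh J} (hK : K ∈ S) : Cov S K := ⟨K, hK, 𝟙 K, inferInstance⟩

lemma Cov.of_retract {L L' : ToposFin.Sh J} (h : Cov S L) (r : L ⟶ L') (s : L' ⟶ L)
    (hsr : s ≫ r = 𝟙 L') : Cov S L' := by
  haveI : IsSplitEpi r := IsSplitEpi.mk' ⟨s, hsr⟩
  exact h.of_epi r

lemma QSep.of_mono {L L' : ToposFin.Sh J} (h : QSep S L) (i : L' ⟶ L) [Mono i] : QSep S L' := by
  intro K₁ hK₁ a b
  refine (h K₁ hK₁ (a ≫ i) (b ≫ i)).of_retract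
    (equalizer.lift (equalizer.ι (a ≫ i) (b ≫ i)) ?_) (equalizer.lift (equalizer.ι a b) ?_) ?_
  · rw [← cancel_mono i, Category.assoc, Category.assoc]
    exact equalizer.condition _ _
  · rw [← Category.assoc, equalizer.condition a b, Category.assoc]
  · apply equalizer.hom_ext
    simp

lemma G.of_iso {L L' : ToposFin.Sh J} (h : G S L) (e : L ≅ L') : G S L' :=
  ⟨h.1.of_epi e.hom, h.2.of_mono e.inv⟩

lemma cov_equalizer {X L : ToposFin.Sh J} (hX : Cov S X) (hL : QSep S L) (a b : X ⟶ L) :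
    Cov S (equalizer a b) := by
  obtain ⟨K, hK, e, he⟩ := hX
  have h1 := hL K hK (e ≫ a) (e ≫ b)
  let r : equalizer (e ≫ a) (e ≫ b) ⟶ equalizer a b :=
    equalizer.lift (equalizer.ι (e ≫ a) (e ≫ b) ≫ e) (by
      simp only [Category.assoc]
      exact equalizer.condition _ _)
  let l : pullback e (equalizer.ι a b) ⟶ equalizer (e ≫ a) (e ≫ b) :=
    equalizer.lift (pullback.fst _ _) (by
      rw [pullback.condition_assoc, equalizer.condition, ← pullback.condition_assoc])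
  haveI : Epi r := epi_of_factor_pullback e (equalizer.ι a b) l r (by
    apply equalizer.hom_ext
    simp only [l, r, Category.assoc, equalizer.lift_ι, equalizer.lift_ι_assoc]
    exact pullback.condition)
  exact h1.of_epi r

section
variable (h3 : ∀ K ∈ S, ∀ K' ∈ S, ∃ (K'' : ToposFin.Sh J) (g : K'' ⟶ K ⨯ K'), K'' ∈ S ∧ Epi g)
include h3

lemma cov_prod {X Y : ToposFin.Sh J} (hX : Cov S X) (hY : Cov S Y) : Cov S (X ⨯ Y) := by
  obtain ⟨K, hK, e, he⟩ := hX
  obtain ⟨K', hK', e', he'⟩ := hY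
  obtain ⟨K'', g, hK'', hg⟩ := h3 K hK K' hK'
  haveI := epi_prod_map_id e K'
  haveI := epi_prod_map_id e' X
  exact ⟨K'', hK'', g ≫ prod.map e (𝟙 K') ≫ (prod.braiding X K').hom ≫ prod.map e' (𝟙 X) ≫
    (prod.braiding Y X).hom, inferInstance⟩

lemma cov_pullback {X Y Z : ToposFin.Sh J} (hX : Cov S X) (hY : Cov S Y) (hZ : QSep S Z)
    (f : X ⟶ Z) (g : Y ⟶ Z) : Cov S (pullback f g) := by
  have h1 := cov_equalizer (cov_prod h3 hX hY) hZ (prod.fst ≫ f) (prod.snd ≫ g)
  refine h1.of_retract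
    (pullback.lift (equalizer.ι _ _ ≫ prod.fst) (equalizer.ι _ _ ≫ prod.snd) ?_)
    (equalizer.lift (prod.lift (pullback.fst f g) (pullback.snd f g)) ?_) ?_
  · simp only [Category.assoc]
    exact equalizer.condition _ _
  · rw [prod.lift_fst_assoc, prod.lift_snd_assoc, pullback.condition]
  · apply pullback.hom_ext
    · rw [Category.assoc, pullback.lift_fst, equalizer.lift_ι_assoc, prod.lift_fst,
        Category.id_comp]
    · rw [Category.assoc, pullback.lift_snd, equalizer.lift_ι_assoc, prod.lift_snd,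
        Category.id_comp]

end

lemma qsep_pullback {X Y Z : ToposFin.Sh J} (hX : QSep S X) (hY : QSep S Y)
    (f : X ⟶ Z) (g : Y ⟶ Z) : QSep S (pullback f g) := by
  intro K₁ hK₁ a b
  obtain ⟨Q₁, hQ₁, c₁, hc₁⟩ := hX K₁ hK₁ (a ≫ pullback.fst f g) (b ≫ pullback.fst f g)
  let ι₁ : Q₁ ⟶ K₁ := c₁ ≫ equalizer.ι _ _
  have hι₁ : ι₁ ≫ a ≫ pullback.fst f g = ι₁ ≫ b ≫ pullback.fst f g := by
    simp only [ι₁, Category.assoc]
    rw [equalizer.condition]
  have h2 := hY Q₁ hQ₁ (ι₁ ≫ a ≫ pullback.snd f g) (ι₁ ≫ b ≫ pullback.snd f g)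
  let m : equalizer a b ⟶ equalizer (a ≫ pullback.fst f g) (b ≫ pullback.fst f g) :=
    equalizer.lift (equalizer.ι a b) (by
      rw [← Category.assoc, equalizer.condition a b, Category.assoc])
  have hm : m ≫ equalizer.ι _ _ = equalizer.ι a b := equalizer.lift_ι _ _
  let r : equalizer (ι₁ ≫ a ≫ pullback.snd f g) (ι₁ ≫ b ≫ pullback.snd f g) ⟶ equalizer a b :=
    equalizer.lift (equalizer.ι _ _ ≫ ι₁) (by
      apply pullback.hom_ext
      · simp only [Category.assoc]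
        rw [hι₁]
      · simp only [Category.assoc]
        exact equalizer.condition _ _)
  have hfst : pullback.fst c₁ m ≫ ι₁ = pullback.snd c₁ m ≫ equalizer.ι a b := by
    simp only [ι₁]
    rw [pullback.condition_assoc, hm]
  let l : pullback c₁ m ⟶
      equalizer (ι₁ ≫ a ≫ pullback.snd f g) (ι₁ ≫ b ≫ pullback.snd f g) :=
    equalizer.lift (pullback.fst c₁ m) (by
      rw [← Category.assoc, hfst, Category.assoc, equalizer.condition_assoc, ← Category.assoc,
        ← hfst, Category.assoc])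
  haveI : Epi r := epi_of_factor_pullback c₁ m l r (by
    apply equalizer.hom_ext
    simp only [l, r, Category.assoc, equalizer.lift_ι, equalizer.lift_ι_assoc]
    exact hfst)
  exact h2.of_epi r

lemma g_pullback
    (h3 : ∀ K ∈ S, ∀ K' ∈ S, ∃ (K'' : ToposFin.Sh J) (g : K'' ⟶ K ⨯ K'), K'' ∈ S ∧ Epi g)
    {X Y Z : ToposFin.Sh J} (hX : G S X) (hY : G S Y) (hZ : G S Z)
    (f : X ⟶ Z) (g : Y ⟶ Z) : G S (pullback f g) :=
  ⟨cov_pullback h3 hX.1 hY.1 hZ.2 f g, qsep_pullback hX.2 hY.2 f g⟩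

lemma g_of_mem
    (h4 : ∀ K ∈ S, ∀ K' ∈ S, ∀ (a b : K ⟶ K'), ∃ (K'' : ToposFin.Sh J) (g : K'' ⟶ equalizer a b),
      K'' ∈ S ∧ Epi g) {K : ToposFin.Sh J} (hK : K ∈ S) : G S K := by
  refine ⟨Cov.of_mem hK, ?_⟩
  intro K₁ hK₁ a b
  obtain ⟨K'', g, hK'', hg⟩ := h4 K₁ hK₁ K hK a b
  exact ⟨K'', hK'', g, hg⟩

lemma g_terminal (h1 : ∃ K ∈ S, Epi (terminal.from K)) : G S (⊤_ (ToposFin.Sh J)) := by
  obtain ⟨K, hK, hKe⟩ := h1
  refine ⟨⟨K, hK, terminal.from K, hKe⟩, ?_⟩
  intro K₁ hK₁ a b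
  refine (Cov.of_mem hK₁).of_retract (equalizer.lift (𝟙 K₁) (Subsingleton.elim _ _))
    (equalizer.ι a b) ?_
  apply equalizer.hom_ext
  simp

/-- the refinement property. -/
lemma exists_refine
    (h2 : ∀ (F : ToposFin.Sh J) (K : ToposFin.Sh J) (g : F ⟶ K), K ∈ S → Epi g →
      ∃ (K' : ToposFin.Sh J) (k : K' ⟶ F), K' ∈ S ∧ Epi (k ≫ g))
    {F L : ToposFin.Sh J} (g : F ⟶ L) [Epi g] (hL : Cov S L) :
    ∃ (K' : ToposFin.Sh J) (k : K' ⟶ F), K' ∈ S ∧ Epi (k ≫ g) := by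
  obtain ⟨K, hK, e, he⟩ := hL
  haveI := epi_snd_of_epi g e
  obtain ⟨K', k, hK', hk⟩ := h2 (pullback g e) K (pullback.snd g e) hK inferInstance
  refine ⟨K', k ≫ pullback.fst g e, hK', ?_⟩
  have : (k ≫ pullback.fst g e) ≫ g = (k ≫ pullback.snd g e) ≫ e := by
    rw [Category.assoc, Category.assoc, pullback.condition]
  rw [this]
  exact epi_comp _ _

/-- bridge between the two notions of quasi-compact object. -/
lemma isQC_of_isQcObject {K : ToposFin.Sh J} (h : CohCx.IsQcObject K) : ToposFin.IsQC K := by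
  rw [isQC_iff]
  intro ι F π hπ
  have hjs : CohCx.JointlySurjective π := by
    intro U s
    obtain ⟨T, hT, hT'⟩ := hπ.jls U ((secEquiv K U).symm s)
    refine ⟨T, hT, ?_⟩
    intro V f hf
    obtain ⟨i, t, ht⟩ := hT' f hf
    refine ⟨i, secEquiv (F i) V t, ?_⟩
    rw [← secEquiv_comp, ht, secEquiv_map, Equiv.apply_symm_apply]
  obtain ⟨t, ht⟩ := h ι F π hjs
  refine ⟨t, ?_⟩
  apply JLS.jepi
  intro U s
  obtain ⟨T, hT, hT'⟩ := ht U (secEquiv K U s)
  refine ⟨T, hT, ?_⟩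
  intro V f hf
  obtain ⟨i, x, hx⟩ := hT' V f hf
  refine ⟨i, (secEquiv (F i.1) V).symm x, ?_⟩
  apply (secEquiv K V).injective
  rw [secEquiv_comp, secEquiv_map, Equiv.apply_symm_apply]
  exact hx

end Groth.Agent.H7.QCG
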