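import Groth.Agent.Lib.Helper7.QCG1

/-! # Cartan's criterion and filtered colimits relative to a class of objects for which
`Hom(ℤ[K], -)` commutes with filtered colimits (variant of `TFC2`), and cohomology commutes with
filtered colimits for a class of quasi-compact objects closed under covers of products and
equalizers (helper7). -/

set_option autoImplicit false
universe u
open CategoryTheory CategoryTheory.Limits Opposite CategoryTheory.Abelian

namespace Groth.Agent.H7.QCG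

open Groth.Agent.H2.TF Groth.Agent.H2.Cartan Groth.Agent.H2.AcycRes Groth.Agent.H2.CechRes
open Groth.Agent.H7.TFC
open Simplicial SimplicialObject AlgebraicTopology

variable {C : Type u} [SmallCategory C] {J : GrothendieckTopology C}

/-- hypotheses on a class `S₀` of "base" objects and a class `S₁` of "covering" objects
(variant of `TFC.Good` with coherence replaced by its two consequences). -/
structure Good' (S₀ S₁ : ToposFin.Sh J → Prop) : Prop where
  qc : ∀ K, S₁ K → ToposFin.IsQC K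
  surj : ∀ {I : Type u} [SmallCategory I] [IsFiltered I] (D : I ⥤ Sheaf J AddCommGrpCat.{u})
    (K : ToposFin.Sh J), S₁ K → ∀ x : (ZZ (J := J)).obj K ⟶ colimit D,
    ∃ (i : I) (s : (ZZ (J := J)).obj K ⟶ D.obj i), s ≫ colimit.ι D i = x
  sub : ∀ K, S₀ K → S₁ K
  nerve : ∀ {K' K : ToposFin.Sh J} (f : K' ⟶ K), S₁ K' → S₀ K → ∀ n, S₁ (wp f n)
  refine : ∀ {K' L : ToposFin.Sh J} (f : K' ⟶ L), Epi f → S₀ L →
    ∃ (K'' : ToposFin.Sh J) (g : K'' ⟶ K'), S₁ K'' ∧ Epi (g ≫ f)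
  add : ∀ (F : Sheaf J AddCommGrpCat.{u}) (p : ℕ),
    (∀ L, S₀ L → Subsingleton (Ext ((ZZ (J := J)).obj L) F (p + 1))) →
    ∀ L, S₁ L → Subsingleton (Ext ((ZZ (J := J)).obj L) F (p + 1))

variable {S₀ S₁ : ToposFin.Sh J → Prop}

lemma hypS_of_acyclic' (hG : Good' S₀ S₁) (F : Sheaf J AddCommGrpCat.{u})
    (hF : ∀ L, S₀ L → ∀ p : ℕ, Subsingleton (Ext ((ZZ (J := J)).obj L) F (p + 1))) :
    HypS S₀ S₁ F := by
  intro K' K f hK' hK hf q φ hφ
  haveI := hf
  have hF1 : ∀ L, S₁ L → ∀ p : ℕ, Subsingleton (Ext ((ZZ (J := J)).obj L) F (p + 1)) :=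
    fun L hL p => hG.add F p (fun L' hL' => hF L' hL' p) L hL
  have hP : ∀ n, Acyc F ((PP f).X n) := fun n p => hF1 (wp f n) (hG.nerve f hK' hK n) p
  have hM : Acyc F (Augmented.point.obj (augFree f)) := fun p => hF K hK p
  exact exists_cobound (εε f) hP hM q φ hφ

lemma ext1_subsingleton₀' (hG : Good' S₀ S₁) (F : Sheaf J AddCommGrpCat.{u}) (hF : HypS S₀ S₁ F)
    (L : Sheaf J (Type u)) (hL : S₀ L) :
    Subsingleton (Ext ((ZZ (J := J)).obj L) F 1) := by
  have key : ∀ x : Ext ((ZZ (J := J)).obj L) F 1, x = 0 := by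
    intro x
    have hS := injSC_shortExact F
    obtain ⟨x₃, hx₃⟩ := Ext.covariant_sequence_exact₁ _ hS x (Ext.eq_zero_of_injective _)
      (zero_add 1)
    obtain ⟨s, rfl⟩ := (Ext.mk₀_bijective _ _).2 x₃
    have := hS.epi_g
    obtain ⟨K₁, f₁, hf₁, t₁, ht₁⟩ := exists_local_lift (injSC F).g s
    obtain ⟨K', g, hK', hgf⟩ := hG.refine f₁ hf₁ hL
    let f : K' ⟶ L := g ≫ f₁
    haveI : Epi f := hgf
    let t : (ZZ (J := J)).obj K' ⟶ (injSC F).X₂ := (ZZ (J := J)).map g ≫ t₁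
    have ht : t ≫ (injSC F).g = (ZZ (J := J)).map f ≫ s := by
      change ((ZZ (J := J)).map g ≫ t₁) ≫ (injSC F).g = (ZZ (J := J)).map (g ≫ f₁) ≫ s
      rw [Category.assoc, ht₁, Functor.map_comp, Category.assoc]
    have hcomp : (ZZ (J := J)).map (wpπ f 0 0) ≫ (ZZ (J := J)).map f =
        (ZZ (J := J)).map (wpBase f 0) := by
      rw [← Functor.map_comp]
      congr 1
      exact WidePullback.π_arrow _ _
    have ht2 : ((ZZ (J := J)).map (wpπ f 0 0) ≫ t) ≫ (injSC F).g = (εε f).f 0 ≫ s := by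
      rw [Category.assoc, ht, ← Category.assoc, hcomp, ε_f_zero]
      rfl
    obtain ⟨t', ht'⟩ : ∃ t' : (ZZ (J := J)).obj L ⟶ (injSC F).X₂, t' ≫ (injSC F).g = s :=
      exists_lift_of_H1 (εε f) hS (hF K' L f hK' hL inferInstance 0) s
        ((ZZ (J := J)).map (wpπ f 0 0) ≫ t) ht2
    rw [← hx₃, ← ht', ← Ext.mk₀_comp_mk₀, Ext.comp_assoc_of_second_deg_zero, hS.comp_extClass,
      Ext.comp_zero]
    rfl
  exact ⟨fun a b => by rw [key a, key b]⟩

lemma ext1_subsingleton₁' (hG : Good' S₀ S₁) (F : Sheaf J AddCommGrpCat.{u}) (hF : HypS S₀ S₁ F)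
    (L : Sheaf J (Type u)) (hL : S₁ L) :
    Subsingleton (Ext ((ZZ (J := J)).obj L) F 1) :=
  hG.add F 0 (fun L' hL' => ext1_subsingleton₀' hG F hF L' hL') L hL

lemma hypS_quot' (hG : Good' S₀ S₁) (F : Sheaf J AddCommGrpCat.{u}) (hF : HypS S₀ S₁ F) :
    HypS S₀ S₁ (injSC F).X₃ := by
  intro K' K f hK' hK hf q c hc
  haveI := hf
  exact hyp_quotient (εε f) (injSC_shortExact F)
    (fun n => ext1_subsingleton₁' hG F hF (wp f n) (hG.nerve f hK' hK n))
    (hF K' K f hK' hK hf) q c hc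

/-- **Cartan's criterion relative to the classes.** -/
theorem ext_subsingleton_of_hypS' (hG : Good' S₀ S₁) (p : ℕ) :
    ∀ (F : Sheaf J AddCommGrpCat.{u}), HypS S₀ S₁ F →
    ∀ L : Sheaf J (Type u), S₀ L → Subsingleton (Ext ((ZZ (J := J)).obj L) F (p + 1)) := by
  induction p with
  | zero => exact fun F hF L hL => ext1_subsingleton₀' hG F hF L hL
  | succ p ih =>
    intro F hF L hL
    have := ih _ (hypS_quot' hG F hF) L hL
    have key : ∀ x : Ext ((ZZ (J := J)).obj L) F (p + 1 + 1), x = 0 := by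
      intro x
      obtain ⟨x₃, hx₃⟩ := Ext.covariant_sequence_exact₁ _ (injSC_shortExact F) x
        (Ext.eq_zero_of_injective _) (rfl : p + 1 + 1 = p + 1 + 1)
      rw [← hx₃, Subsingleton.elim x₃ 0, Ext.zero_comp]
      rfl
    exact ⟨fun a b => by rw [key a, key b]⟩

section Colim
open Groth.Agent.LD.Colim
variable {I : Type u} [SmallCategory I] [IsFiltered I]

/-- the Čech hypothesis passes to filtered colimits. -/
theorem hypS_colimit' (hG : Good' S₀ S₁)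
    (D : I ⥤ Sheaf J AddCommGrpCat.{u})
    (hD : ∀ i, HypS S₀ S₁ (D.obj i)) : HypS S₀ S₁ (colimit D) := by
  intro K' K f hK' hK hf q φ hφ
  have h2 : ToposFin.IsQC (wp f (q + 2)) := hG.qc _ (hG.nerve f hK' hK (q + 2))
  obtain ⟨i, φi, hφi⟩ : ∃ (i : I) (φi : (PP f).X (q + 1) ⟶ D.obj i),
      φi ≫ colimit.ι D i = φ := hG.surj D _ (hG.nerve f hK' hK (q + 1)) φ
  have hψ : ((PP f).d (q + 2) (q + 1) ≫ φi) ≫ colimit.ι D i = 0 := by
    rw [Category.assoc, hφi, hφ]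
  obtain ⟨j, g, hg⟩ : ∃ (j : I) (g : i ⟶ j), ((PP f).d (q + 2) (q + 1) ≫ φi) ≫ D.map g = 0 :=
    hom_inj (D := D) h2 ((PP f).d (q + 2) (q + 1) ≫ φi) hψ
  obtain ⟨χ, hχ⟩ := hD j K' K f hK' hK hf q (φi ≫ D.map g) (by
    rw [← Category.assoc]
    exact hg)
  refine ⟨χ ≫ colimit.ι D j, ?_⟩
  rw [← Category.assoc, hχ, Category.assoc, colimit.w, hφi]

/-- **a filtered colimit of sheaves acyclic on the class is acyclic on the class.** -/
theorem acyclic_colimit' (hG : Good' S₀ S₁)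
    (D : I ⥤ Sheaf J AddCommGrpCat.{u})
    (hD : ∀ i L, S₀ L → ∀ p : ℕ, Subsingleton (Ext ((ZZ (J := J)).obj L) (D.obj i) (p + 1)))
    (L : ToposFin.Sh J) (hL : S₀ L) (p : ℕ) :
    Subsingleton (Ext ((ZZ (J := J)).obj L) (colimit D) (p + 1)) :=
  ext_subsingleton_of_hypS' hG p (colimit D)
    (hypS_colimit' hG D (fun i => hypS_of_acyclic' hG (D.obj i) (hD i))) L hL

theorem surjP_injP' (hG : Good' S₀ S₁) {K : ToposFin.Sh J}
    (hK : S₀ K) (q : ℕ) :
    ∀ D : I ⥤ Sheaf J AddCommGrpCat.{u},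
      SurjP ((ZZ (J := J)).obj K) q D ∧ InjP ((ZZ (J := J)).obj K) q D := by
  induction q with
  | zero =>
    refine fun D => ⟨?_, injP_zero (hG.qc K (hG.sub K hK)) D⟩
    intro x
    obtain ⟨φ, rfl⟩ := (Ext.mk₀_bijective _ _).surjective x
    obtain ⟨i, s, hs⟩ := hG.surj D K (hG.sub K hK) φ
    refine ⟨i, Ext.mk₀ s, ?_⟩
    unfold pc
    rw [Ext.mk₀_comp_mk₀, hs]
  | succ q ih =>
    intro D
    have hS := embSC_shortExact D
    have h1 : ∀ i, Subsingleton (Ext ((ZZ (J := J)).obj K) ((embSC D).X₂.obj i) (q + 1)) :=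
      fun i =>
      haveI : Injective ((embSC D).X₂.obj i) := inferInstanceAs (Injective ((emb D).obj i))
      Groth.Agent.LD.CH.subsingleton_ext_injectiveS _ _ q
    have h2 : Subsingleton (Ext ((ZZ (J := J)).obj K) (colimit (embSC D).X₂) (q + 1)) := by
      refine acyclic_colimit' hG (embSC D).X₂ ?_ K hK q
      intro i L _ p
      haveI : Injective ((embSC D).X₂.obj i) := inferInstanceAs (Injective ((emb D).obj i))
      exact Groth.Agent.LD.CH.subsingleton_ext_injectiveS _ _ p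
    exact ⟨shift_surj (embSC D) hS q h2 (ih _).1, shift_inj (embSC D) hS q h1 (ih _).1 (ih _).2⟩

/-- **`Ext^q(ℤ[K], -)` commutes with filtered colimits for `K` in the class.** -/
theorem preservesColimit_ext_ZZ' (hG : Good' S₀ S₁)
    {K : ToposFin.Sh J} (hK : S₀ K) (q : ℕ) (D : I ⥤ Sheaf J AddCommGrpCat.{u}) :
    PreservesColimit D (extFunctorObj ((ZZ (J := J)).obj K) q) :=
  preservesColimit_ext _ q D (surjP_injP' hG hK q D).1 (surjP_injP' hG hK q D).2

end Colim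



section Main
open Groth.Agent.LD.Colim

variable {S : Set (ToposFin.Sh J)}

/-- a morphism from an object coherent relative to the class to the vertex of a cocone (with
jointly epimorphic legs and local eventual equality) factors through a stage. -/
theorem exists_factor_of_G
    (h2 : ∀ (F : ToposFin.Sh J) (K : ToposFin.Sh J) (g : F ⟶ K), K ∈ S → Epi g →
      ∃ (K' : ToposFin.Sh J) (k : K' ⟶ F), K' ∈ S ∧ Epi (k ≫ g))
    (h3 : ∀ K ∈ S, ∀ K' ∈ S, ∃ (K'' : ToposFin.Sh J) (g : K'' ⟶ K ⨯ K'), K'' ∈ S ∧ Epi g)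
    (h5 : ∀ K ∈ S, ToposFin.IsQC K)
    {I : Type u} [SmallCategory I] [IsFiltered I] {D : I ⥤ ToposFin.Sh J} {c : Cocone D}
    (hJ : JEpi (fun i => c.ι.app i)) (hL : LocEq D c) (X : ToposFin.Sh J)
    (hX : G S X) (m : X ⟶ c.pt) :
    ∃ (i : I) (a : X ⟶ D.obj i), a ≫ c.ι.app i = m := by
  classical
  obtain ⟨K, hK, e₀, he₀⟩ := hX.1
  have hjepi : JEpi (fun i => pullback.snd (c.ι.app i) (e₀ ≫ m)) := hJ.pullback_snd (e₀ ≫ m)
  obtain ⟨s₀, hs₀⟩ := IsQC.exists_finset (h5 K hK) _ hjepi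
  obtain ⟨i₀, hi₀⟩ := exists_common_target (fun i : s₀ => (i : I))
  have hepi : Epi (pullback.snd (c.ι.app i₀) (e₀ ≫ m)) := by
    rw [← jepi_single_iff]
    refine hs₀.of_factor ?_
    intro i
    obtain ⟨φ⟩ := hi₀ i
    refine ⟨(), pullback.lift (pullback.fst _ _ ≫ D.map φ) (pullback.snd _ _) ?_, ?_⟩
    · rw [Category.assoc, c.w, pullback.condition]
    · exact pullback.lift_snd _ _ _
  obtain ⟨K', k, hK', hk⟩ := h2 _ K _ hK hepi
  obtain ⟨e, he, r, hr⟩ : ∃ (e : K' ⟶ X) (_ : Epi e) (r : K' ⟶ D.obj i₀),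
      r ≫ c.ι.app i₀ = e ≫ m := by
    refine ⟨(k ≫ pullback.snd (c.ι.app i₀) (e₀ ≫ m)) ≫ e₀, epi_comp _ _,
      k ≫ pullback.fst (c.ι.app i₀) (e₀ ≫ m), ?_⟩
    simp only [Category.assoc, pullback.condition]
  obtain ⟨K₃, hK₃, c₃, hc₃⟩ :=
    cov_pullback h3 (Cov.of_mem hK') (Cov.of_mem hK') hX.2 e e
  have hKqc : ToposFin.IsQC (pullback e e) := IsQC.of_epi c₃ (h5 K₃ hK₃)
  have hab : (pullback.fst e e ≫ r) ≫ c.ι.app i₀ = (pullback.snd e e ≫ r) ≫ c.ι.app i₀ := by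
    rw [Category.assoc, Category.assoc, hr, ← Category.assoc, ← Category.assoc, pullback.condition]
  obtain ⟨i₁, ψ, hψ⟩ := exists_map_eq_of_isQC' hL hKqc _ _ hab
  obtain ⟨a, ha⟩ := exists_desc_of_epi e (r ≫ D.map ψ) (by simpa only [Category.assoc] using hψ)
  refine ⟨i₁, a, ?_⟩
  rw [← cancel_epi e, ← Category.assoc, ha, Category.assoc, c.w, hr]

variable (h1 : ∃ K ∈ S, Epi (terminal.from K))
    (h2 : ∀ (F : ToposFin.Sh J) (K : ToposFin.Sh J) (g : F ⟶ K), K ∈ S → Epi g →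
      ∃ (K' : ToposFin.Sh J) (k : K' ⟶ F), K' ∈ S ∧ Epi (k ≫ g))
    (h3 : ∀ K ∈ S, ∀ K' ∈ S, ∃ (K'' : ToposFin.Sh J) (g : K'' ⟶ K ⨯ K'), K'' ∈ S ∧ Epi g)
    (h4 : ∀ K ∈ S, ∀ K' ∈ S, ∀ (a b : K ⟶ K'), ∃ (K'' : ToposFin.Sh J)
      (g : K'' ⟶ equalizer a b), K'' ∈ S ∧ Epi g)
    (h5 : ∀ K ∈ S, ToposFin.IsQC K)

include h3 in
lemma g_wp {K' K : ToposFin.Sh J} (f : K' ⟶ K) (hK' : G S K') (hK : G S K) :
    ∀ n, G S (wp f n) := by
  intro n
  induction n with
  | zero => exact hK'.of_iso (wpZeroIso f).symm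
  | succ n ih => exact (g_pullback h3 ih hK' hK (wpBase f n) f).of_iso (wpSuccIso f n).symm

include h2 h3 h4 h5 in
theorem good_G : Good' (G S) (G S) where
  qc := fun K hK => by
    obtain ⟨K₀, hK₀, e, he⟩ := hK.1
    exact IsQC.of_epi e (h5 K₀ hK₀)
  surj := fun D K hK x => by
    obtain ⟨i, a, ha⟩ := exists_factor_of_G h2 h3 h5 (jepi_gc D) (locEq_gc D) K hK
      ((zadj (J := J)).homEquiv K (colimit D) x)
    refine ⟨i, ((zadj (J := J)).homEquiv K (D.obj i)).symm a, ?_⟩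
    apply ((zadj (J := J)).homEquiv K (colimit D)).injective
    rw [Adjunction.homEquiv_naturality_right, Equiv.apply_symm_apply]
    exact ha
  sub := fun _ h => h
  nerve := fun f hK' hK n => g_wp h3 f hK' hK n
  refine := fun f hf hL => by
    haveI := hf
    obtain ⟨K'', k, hK'', hk⟩ := exists_refine h2 f hL.1
    exact ⟨K'', k, g_of_mem h4 hK'', hk⟩
  add := fun _ _ h => h

include h1 h2 h3 h4 h5 in
theorem S948_main (Λ : Type u) [SmallCategory Λ] [IsFiltered Λ] (q : ℕ) :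
    PreservesColimitsOfShape Λ
      (Sheaf.functorH J q : Sheaf J AddCommGrpCat.{u} ⥤ AddCommGrpCat.{u}) := by
  haveI : PreservesColimitsOfShape Λ (extFunctorObj ((ZZ (J := J)).obj (⊤_ (ToposFin.Sh J))) q) :=
    ⟨fun {D} => preservesColimit_ext_ZZ' (good_G h2 h3 h4 h5) (g_terminal h1) q D⟩
  have e : extFunctorObj ((ZZ (J := J)).obj (⊤_ (ToposFin.Sh J))) q ≅
      (Sheaf.functorH J q : Sheaf J AddCommGrpCat.{u} ⥤ AddCommGrpCat.{u}) :=
    ((extFunctor q).mapIso (zzTerminalIso (J := J)).symm.op) ≪≫ (functorHIso q).symm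
  exact preservesColimitsOfShape_of_natIso e

end Main

end Groth.Agent.H7.QCG
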