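import Groth.Agent.Lib.Helper5.AlgSp.LQFFibre
import Mathlib

/-!
# Isolated points of fibres: scheme level lemmas
-/

set_option autoImplicit false
universe u

open AlgebraicGeometry CategoryTheory Limits

namespace Groth.Agent.H7.QFib

/-- a point isolated in a base change of a morphism to the spectrum of a field has an image
isolated in its fibre. -/
theorem isolated_of_isPullback_field {U V P : Scheme.{u}} (h : U ⟶ V) {K : Type u} [Field K]
    (z : Spec (.of K) ⟶ V) (p1 : P ⟶ U) (p2 : P ⟶ Spec (.of K)) (sq : IsPullback p1 p2 h z)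
    (ω : P) (hω : IsOpen ({ω} : Set P)) :
    ∃ O : Set U, IsOpen O ∧ p1 ω ∈ O ∧ ∀ u' ∈ O, h u' = h (p1 ω) → u' = p1 ω := by
  set v' : V := z (IsLocalRing.closedPoint K) with hv'
  set φ := Scheme.descResidueField (Scheme.stalkClosedPointTo z) with hφ
  have hz : Spec.map φ ≫ V.fromSpecResidueField v' = z :=
    Scheme.descResidueField_stalkClosedPointTo_fromSpecResidueField K V z
  have sqF : IsPullback (h.fiberι v') (h.fiberToSpecResidueField v') h
      (V.fromSpecResidueField v') := IsPullback.of_hasPullback _ _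
  have hw : p1 ≫ h = (p2 ≫ Spec.map φ) ≫ V.fromSpecResidueField v' := by
    rw [sq.w, Category.assoc, hz]
  let m : P ⟶ h.fiber v' := sqF.lift p1 (p2 ≫ Spec.map φ) hw
  have hm1 : m ≫ h.fiberι v' = p1 := sqF.lift_fst _ _ _
  have hm2 : m ≫ h.fiberToSpecResidueField v' = p2 ≫ Spec.map φ := sqF.lift_snd _ _ _
  have sqm : IsPullback m p2 (h.fiberToSpecResidueField v') (Spec.map φ) := by
    apply IsPullback.of_right (h₁₂ := h.fiberι v') (h₂₂ := V.fromSpecResidueField v') _ hm2 sqF
    rw [hm1, hz]
    exact sq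
  haveI : UniversallyOpen (Spec.map φ) := inferInstance
  haveI : UniversallyOpen m :=
    MorphismProperty.of_isPullback (P := @UniversallyOpen) sqm.flip inferInstance
  have hopen : IsOpen ({m ω} : Set (h.fiber v')) := by
    have := m.isOpenMap _ hω
    rwa [Set.image_singleton] at this
  obtain ⟨O, hO, hOeq⟩ := (h.fiberι v').isEmbedding.isInducing.isOpen_iff.1 hopen
  have hp1 : h.fiberι v' (m ω) = p1 ω := by
    rw [← Scheme.Hom.comp_apply, hm1]
  have hmem : m ω ∈ h.fiberι v' ⁻¹' O := by rw [hOeq]; rfl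
  have hhv : h (p1 ω) = v' := by
    have : p1 ω ∈ Set.range (h.fiberι v') := ⟨m ω, hp1⟩
    rw [h.range_fiberι] at this
    exact this
  refine ⟨O, hO, ?_, ?_⟩
  · rw [← hp1]; exact hmem
  · intro u' hu' hhu'
    have : u' ∈ Set.range (h.fiberι v') := by
      rw [h.range_fiberι]
      exact hhu'.trans hhv
    obtain ⟨e, rfl⟩ := this
    have he : e ∈ h.fiberι v' ⁻¹' O := hu'
    rw [hOeq] at he
    rw [Set.mem_singleton_iff.1 he, hp1]

/-- a point isolated in its fibre is a point of quasi-finiteness. -/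
theorem quasiFiniteAt_of_isolated {U V : Scheme.{u}} (h : U ⟶ V) [LocallyOfFiniteType h] (u : U)
    (O : Set U) (hO : IsOpen O) (hu : u ∈ O) (hiso : ∀ u' ∈ O, h u' = h u → u' = u) :
    h.QuasiFiniteAt u := by
  rw [Scheme.Hom.quasiFiniteAt_iff_isOpen_singleton_asFiber]
  have : ({h.asFiber u} : Set (h.fiber (h u))) = h.fiberι (h u) ⁻¹' O := by
    ext e
    simp only [Set.mem_singleton_iff, Set.mem_preimage]
    constructor
    · rintro rfl
      rw [h.fiberι_asFiber]
      exact hu
    · intro he
      apply (h.fiberι (h u)).isEmbedding.injective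
      rw [h.fiberι_asFiber]
      apply hiso _ he
      have : h.fiberι (h u) e ∈ Set.range (h.fiberι (h u)) := ⟨e, rfl⟩
      rw [h.range_fiberι] at this
      exact this
  rw [this]
  exact hO.preimage (h.fiberι (h u)).continuous

/-- a point of quasi-finiteness is isolated in its fibre. -/
theorem isolated_of_quasiFiniteAt {U V : Scheme.{u}} (h : U ⟶ V) [LocallyOfFiniteType h] (u : U)
    (hq : h.QuasiFiniteAt u) :
    ∃ O : Set U, IsOpen O ∧ u ∈ O ∧ ∀ u' ∈ O, h u' = h u → u' = u := by
  rw [Scheme.Hom.quasiFiniteAt_iff_isOpen_singleton_asFiber] at hq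
  obtain ⟨O, hO, hOeq⟩ := (h.fiberι (h u)).isEmbedding.isInducing.isOpen_iff.1 hq
  refine ⟨O, hO, ?_, ?_⟩
  · have : h.asFiber u ∈ h.fiberι (h u) ⁻¹' O := by rw [hOeq]; rfl
    rw [Set.mem_preimage, h.fiberι_asFiber] at this
    exact this
  · intro u' hu' hhu'
    have : u' ∈ Set.range (h.fiberι (h u)) := by
      rw [h.range_fiberι]
      exact hhu'
    obtain ⟨e, rfl⟩ := this
    have he : e ∈ h.fiberι (h u) ⁻¹' O := hu'
    rw [hOeq] at he
    rw [Set.mem_singleton_iff.1 he, h.fiberι_asFiber]

/-- in a Jacobson space an isolated point is closed. -/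
theorem isClosed_singleton_of_isOpen_singleton {Z : Type*} [TopologicalSpace Z] [JacobsonSpace Z]
    (z : Z) (hz : IsOpen ({z} : Set Z)) : IsClosed ({z} : Set Z) := by
  obtain ⟨z', hz', hcl⟩ := nonempty_inter_closedPoints (⟨z, rfl⟩ : ({z} : Set Z).Nonempty)
    hz.isLocallyClosed
  rw [Set.mem_singleton_iff] at hz'
  subst hz'
  exact hcl

/-- a finite scheme locally of finite type over a field is discrete. -/
theorem discreteTopology_of_finite_lft {k : Type u} [Field k] {Z : Scheme.{u}}
    (g : Z ⟶ Spec (.of k)) [LocallyOfFiniteType g] [Finite Z] : DiscreteTopology Z := by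
  haveI : JacobsonSpace ↥Z := LocallyOfFiniteType.jacobsonSpace g
  haveI : T1Space Z := by
    refine ⟨fun z => ?_⟩
    have hfin : (closure ({z} : Set Z) ∩ closedPoints Z).Finite := Set.toFinite _
    have hcl : IsClosed (⋃ c ∈ closure ({z} : Set Z) ∩ closedPoints Z, ({c} : Set Z)) :=
      hfin.isClosed_biUnion fun c hc => hc.2
    have hJ := JacobsonSpace.closure_inter_closedPoints (X := Z) (isClosed_closure (s := {z}))
    have heq : (⋃ c ∈ closure ({z} : Set Z) ∩ closedPoints Z, ({c} : Set Z)) =
        closure ({z} : Set Z) ∩ closedPoints Z := by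
      ext w; simp
    rw [heq] at hcl
    rw [hcl.closure_eq] at hJ
    have hz : z ∈ closure ({z} : Set Z) ∩ closedPoints Z := by
      rw [hJ]
      exact subset_closure rfl
    exact hz.2
  infer_instance

/-- a locally Noetherian scheme without nontrivial specializations is discrete. -/
theorem discreteTopology_of_no_specializations (Z : Scheme.{u}) [IsLocallyNoetherian Z]
    (hZ : ∀ z z' : Z, z ⤳ z' → z = z') : DiscreteTopology Z := by
  haveI : T1Space Z := by
    refine ⟨fun z => ?_⟩
    rw [← closure_subset_iff_isClosed]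
    intro z' hz'
    rw [← specializes_iff_mem_closure] at hz'
    exact (hZ z z' hz').symm
  exact Groth.Agent.H5.AlgSp.discreteTopology_of_t1Space Z

/-- in a locally Noetherian Jacobson scheme every set of isolated points is closed. -/
theorem isClosed_of_subset_isolated (Z : Scheme.{u}) [IsLocallyNoetherian Z] [JacobsonSpace Z]
    (T : Set Z) (hT : ∀ t ∈ T, IsOpen ({t} : Set Z)) : IsClosed T := by
  rw [← closure_subset_iff_isClosed]
  intro z hz
  obtain ⟨_, ⟨O, hOaff, rfl⟩, hzO, -⟩ := Z.isBasis_affineOpens.exists_subset_of_mem_open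
    (Set.mem_univ z) isOpen_univ
  haveI : IsNoetherianRing Γ(Z, O) := IsLocallyNoetherian.component_noetherian ⟨O, hOaff⟩
  haveI : TopologicalSpace.NoetherianSpace O := noetherianSpace_of_isAffineOpen O hOaff
  have hopen : IsOpen (T ∩ (O : Set Z)) := by
    have : T ∩ (O : Set Z) = ⋃ t ∈ T ∩ (O : Set Z), ({t} : Set Z) := by ext; simp
    rw [this]
    exact isOpen_biUnion fun t ht => hT t ht.1
  have hcomp : IsCompact (T ∩ (O : Set Z)) := by
    have h1 : IsCompact (Subtype.val ⁻¹' (T ∩ (O : Set Z)) : Set O) :=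
      TopologicalSpace.NoetherianSpace.isCompact _
    have h2 := h1.image continuous_subtype_val
    have h3 : Subtype.val '' (Subtype.val ⁻¹' (T ∩ (O : Set Z)) : Set O) = T ∩ (O : Set Z) := by
      ext w
      constructor
      · rintro ⟨w', hw', rfl⟩
        exact hw'
      · intro hw
        exact ⟨⟨w, hw.2⟩, hw, rfl⟩
    have h4 : IsCompact (Subtype.val '' (Subtype.val ⁻¹' (T ∩ (O : Set Z)) : Set O)) := h2
    rw [h3] at h4
    exact h4
  have hdisc : DiscreteTopology ↥(T ∩ (O : Set Z)) := by
    rw [discreteTopology_iff_isOpen_singleton]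
    intro t
    have h1 := (hT t.1 t.2.1).preimage (continuous_subtype_val (p := fun w => w ∈ T ∩ (O : Set Z)))
    convert h1 using 1
    ext w
    simp only [Set.mem_singleton_iff, Set.mem_preimage]
    exact ⟨fun h => by rw [h], fun h => Subtype.ext h⟩
  have hfin : (T ∩ (O : Set Z)).Finite := hcomp.finite ⟨hdisc⟩
  have hcl : IsClosed (T ∩ (O : Set Z)) := by
    have h1 : IsClosed (⋃ t ∈ T ∩ (O : Set Z), ({t} : Set Z)) :=
      hfin.isClosed_biUnion fun t ht => isClosed_singleton_of_isOpen_singleton t (hT t ht.1)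
    have : T ∩ (O : Set Z) = ⋃ t ∈ T ∩ (O : Set Z), ({t} : Set Z) := by ext; simp
    rw [this]
    exact h1
  have hz' : z ∈ closure (T ∩ (O : Set Z)) := by
    rw [mem_closure_iff]
    intro N hN hzN
    obtain ⟨w, hw1, hw2⟩ := mem_closure_iff.1 hz (N ∩ (O : Set Z)) (hN.inter O.2) ⟨hzN, hzO⟩
    exact ⟨w, hw1.1, hw2, hw1.2⟩
  rw [hcl.closure_eq] at hz'
  exact hz'.1

/-- in a Noetherian quasi-sober space a closed set stable under generization is open. -/
theorem isOpen_of_isClosed_of_stableUnderGeneralization_noeth {T : Type*} [TopologicalSpace T]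
    [TopologicalSpace.NoetherianSpace T] [QuasiSober T] (C : Set T) (hC : IsClosed C)
    (hg : StableUnderGeneralization C) : IsOpen C := by
  rw [← isClosed_compl_iff]
  have hfin : (irreducibleComponents T).Finite :=
    TopologicalSpace.NoetherianSpace.finite_irreducibleComponents
  have heq : Cᶜ = ⋃ Z ∈ {Z ∈ irreducibleComponents T | ¬ Z ⊆ C}, Z := by
    ext z
    simp only [Set.mem_compl_iff, Set.mem_iUnion, Set.mem_setOf_eq, exists_prop]
    constructor
    · intro hz
      exact ⟨irreducibleComponent z, ⟨irreducibleComponent_mem_irreducibleComponents z,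
        fun h => hz (h mem_irreducibleComponent)⟩, mem_irreducibleComponent⟩
    · rintro ⟨Z, ⟨hZ, hZC⟩, hzZ⟩ hzC
      obtain ⟨η, hη⟩ := QuasiSober.sober hZ.1 (isClosed_of_mem_irreducibleComponents Z hZ)
      have h1 : η ⤳ z := by
        rw [specializes_iff_mem_closure, hη.def]
        exact hzZ
      have h2 : η ∈ C := hg h1 hzC
      apply hZC
      rw [← hη.def]
      exact hC.closure_subset_iff.2 (Set.singleton_subset_iff.2 h2)
  rw [heq]
  exact (hfin.subset fun Z hZ => hZ.1).isClosed_biUnion
    fun Z hZ => isClosed_of_mem_irreducibleComponents Z hZ.1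

/-- in a locally Noetherian scheme a closed set stable under generization is open. -/
theorem isOpen_of_isClosed_of_stableUnderGeneralization (Z : Scheme.{u}) [IsLocallyNoetherian Z]
    (E : Set Z) (hE : IsClosed E) (hg : StableUnderGeneralization E) : IsOpen E := by
  rw [isOpen_iff_forall_mem_open]
  intro z hz
  obtain ⟨_, ⟨O, hOaff, rfl⟩, hzO, -⟩ := Z.isBasis_affineOpens.exists_subset_of_mem_open
    (Set.mem_univ z) isOpen_univ
  haveI : IsNoetherianRing Γ(Z, O) := IsLocallyNoetherian.component_noetherian ⟨O, hOaff⟩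
  haveI : TopologicalSpace.NoetherianSpace O := noetherianSpace_of_isAffineOpen O hOaff
  have hC : IsOpen ((Scheme.Opens.ι O) ⁻¹' E) := by
    apply isOpen_of_isClosed_of_stableUnderGeneralization_noeth _ (hE.preimage (Scheme.Opens.ι O).continuous)
    intro x y hyx hx
    exact hg (hyx.map (Scheme.Opens.ι O).continuous) hx
  refine ⟨(Scheme.Opens.ι O) '' ((Scheme.Opens.ι O) ⁻¹' E), Set.image_preimage_subset _ _,
    (Scheme.Opens.ι O).isOpenEmbedding.isOpenMap _ hC, ⟨⟨z, hzO⟩, hz, rfl⟩⟩

end Groth.Agent.H7.QFib
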