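import Groth.Agent.Lib.Helper7.QFib2
import Groth.Agent.Lib.Helper7.QFin24
import Groth.Agent.Lib.Helper3.AlgSpMor.QFinFibre
import Groth.Agent.Lib.Helper3.AlgSpMor.Codim0QFSp
import Mathlib

/-!
# Quasi-finiteness at a point and openness of points of fibres
-/

set_option autoImplicit false
universe u

open AlgebraicGeometry CategoryTheory Limits

namespace Groth.Agent.H7.QFib

open _root_.AlgSp Groth.Agent.H5.AlgSp Groth.Agent.H1.AlgSpDim Groth.Agent.H7.QFinSp
open Groth.Agent.H3.QFinFibre (QF FD0 hasAtMor_QF_iff)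

variable {S : Scheme.{u}}

/-- over a field, quasi-finiteness at a point means that the point is open. -/
theorem hasAtMor_QF_field_iff {P : Sp S} {k : Type u} [Field k]
    (str : Spec (CommRingCat.of k) ⟶ S) (snd : P ⟶ (yon S).obj (Over.mk str))
    (hP : IsAlgSpace P) (hlft : LocP @LocallyOfFiniteType snd) (xt : Points P) :
    HasAtMor QF snd xt ↔ IsOpen ({xt} : Set (Points P)) := by
  constructor
  · intro h
    obtain ⟨P', j, hP', hj, ⟨z, rfl⟩, hloc⟩ :=
      (hasAtMor_iff_exists_open etale_le_lqf_lft hP (IsAlgSpace.yon_obj _) xt).1 h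
    haveI := discreteTopology_points_of_locP_lqf hP' str (j ≫ snd) hloc
    have ho : IsOpenMap (Points.map j) :=
      isOpenMap_points_map_of_repWith (P := @IsOpenImmersion)
        (fun f (hf : IsOpenImmersion f) => f.isOpenEmbedding.isOpenMap) hj
    have := ho _ (isOpen_discrete ({z} : Set (Points P')))
    rwa [Set.image_singleton] at this
  · intro hopen
    obtain ⟨W, c, hce, hcs⟩ := hP.atlas
    obtain ⟨w, rfl⟩ := ofPt_surjective_of_repWith hcs xt
    have hw := (isClopen_singleton_chart str snd hlft c hce w hopen).1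
    obtain ⟨g, hg⟩ := (yon S).map_surjective (c ≫ snd)
    have comm : c ≫ snd = (yon S).map g ≫ 𝟙 _ := by rw [hg, Category.comp_id]
    have hl : LocallyOfFiniteType g.left := hlft c (𝟙 _) g hce (repWith_id _ _) comm
    let N : W.left.Opens := ⟨{w}, hw⟩
    haveI : LocallyOfFiniteType (N.ι ≫ g.left) := inferInstance
    have hq : LocallyQuasiFinite (N.ι ≫ g.left) := by
      rw [locallyQuasiFinite_iff_isDiscrete_preimage_singleton]
      intro x
      haveI : Subsingleton ↥(N : Scheme) :=
        ⟨fun a b => Subtype.ext ((Set.mem_singleton_iff.1 a.2).trans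
          (Set.mem_singleton_iff.1 b.2).symm)⟩
      exact ⟨inferInstance⟩
    exact ⟨W, Over.mk str, c, 𝟙 _, g, w, hce, repWith_id _ _, comm, rfl, N, rfl, hq,
      inferInstance⟩

/-- **Core theorem**: for a morphism locally of finite type and a field-valued point of the
target, a point of the fibre is open iff the morphism is quasi-finite at its image. -/
theorem hasAtMor_QF_iff_isOpen_singleton {X Y : Sp S} (hX : IsAlgSpace X) (hY : IsAlgSpace Y)
    (f : X ⟶ Y) (hf : LocP @LocallyOfFiniteType f) {k : Type u} [Field k]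
    (str : Spec (CommRingCat.of k) ⟶ S) (r : (yon S).obj (Over.mk str) ⟶ Y) {Xk : Sp S}
    (fst : Xk ⟶ X) (snd : Xk ⟶ (yon S).obj (Over.mk str)) (hsq : IsPullback fst snd f r)
    (xt : Points Xk) :
    HasAtMor QF f (Points.map fst xt) ↔ IsOpen ({xt} : Set (Points Xk)) := by
  have hK : IsAlgSpace ((yon S).obj (Over.mk str)) := IsAlgSpace.yon_obj _
  have hXk : IsAlgSpace Xk := isAlgSpace_pullback hY.diag hX hK hsq
  have hlft : LocP @LocallyOfFiniteType snd := locP_of_isPullback Groth.Agent.H5.AlgSp.etale_le_lft hsq hX hY hK hf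
  rw [← hasAtMor_QF_field_iff str snd hXk hlft xt, hasAtMor_QF_iff hf, hasAtMor_QF_iff hlft]
  exact (hasAtMor_base_change
    (etLocal_fibreDimAt_pred (fun e => e ≤ ((0 : ℕ) : WithBot ℕ∞)))
    (bcLocal_fibreDimAt_pred (fun e => e ≤ ((0 : ℕ) : WithBot ℕ∞)))
    hX hY hK hsq hf xt).symm

end Groth.Agent.H7.QFib
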