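import Groth.Agent.Lib.Helper7.QFib3
import Groth.Agent.Lib.Helper7.SmLift
import Groth.Agent.Lib.Helper5.AlgSp.ImmersionTop
import Mathlib

/-!
# Fibres of morphisms locally of finite type over points of decent spaces
-/

set_option autoImplicit false
universe u

open AlgebraicGeometry CategoryTheory Limits

namespace Groth.Agent.H7.QFib

open _root_.AlgSp Groth.Agent.H5.AlgSp Groth.Agent.H1.AlgSpDim Groth.Agent.H7.QFinSp
open Groth.Agent.H3.QFinFibre (QF FD0 hasAtMor_QF_iff)
open Groth.Agent.H3.Codim0QF (exists_chart_through)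
open Groth.Agent.H7.SmLift (exists_affine_chart_at)

variable {S : Scheme.{u}} {X Y : Sp S}

/-- the points of a fibre product with a field valued point lie in the fibre. -/
theorem map_fst_mem_fibre (f : X ⟶ Y) (r : FieldPt Y) {Xk : Sp S} (fst : Xk ⟶ X)
    (snd : Xk ⟶ (yon S).obj r.pt) (hsq : IsPullback fst snd f r.toHom) (xt : Points Xk) :
    Points.map f (Points.map fst xt) = Points.mk r := by
  rw [← Points.map_comp, hsq.w, Points.map_comp]
  obtain ⟨s, hs⟩ := (Points.schemeHomeo r.pt).surjective (Points.map snd xt)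
  rw [← hs]
  have : Points.map r.toHom (Points.schemeHomeo r.pt s) = Points.ofPt r.toHom s := by
    rw [Points.ofPt_eq_map_ofScheme]
    rfl
  rw [this, Points.ofPt_toHom]

/-- the points of the fibre lift to the fibre product with a field valued point. -/
theorem exists_map_fst_eq (f : X ⟶ Y) (r : FieldPt Y) {Xk : Sp S} (fst : Xk ⟶ X)
    (snd : Xk ⟶ (yon S).obj r.pt) (hsq : IsPullback fst snd f r.toHom) (x : Points X)
    (hx : Points.map f x = Points.mk r) : ∃ xt : Points Xk, Points.map fst xt = x := by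
  let s : ↥(Spec (CommRingCat.of r.K)) := IsLocalRing.closedPoint r.K
  have h : Points.map f x = Points.map r.toHom (Points.schemeHomeo r.pt s) := by
    have : Points.map r.toHom (Points.schemeHomeo r.pt s) = Points.ofPt r.toHom s := by
      rw [Points.ofPt_eq_map_ofScheme]
      rfl
    rw [hx, this, Points.ofPt_toHom]
  obtain ⟨z, hz, -⟩ := points_pullback_surjective hsq x _ h
  exact ⟨z, hz⟩

/-- the core theorem for field valued points. -/
theorem hasAtMor_QF_iff_isOpen_singleton' (hX : IsAlgSpace X) (hY : IsAlgSpace Y) (f : X ⟶ Y)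
    (hf : LocP @LocallyOfFiniteType f) (r : FieldPt Y) {Xk : Sp S} (fst : Xk ⟶ X)
    (snd : Xk ⟶ (yon S).obj r.pt) (hsq : IsPullback fst snd f r.toHom) (xt : Points Xk) :
    HasAtMor QF f (Points.map fst xt) ↔ IsOpen ({xt} : Set (Points Xk)) :=
  hasAtMor_QF_iff_isOpen_singleton hX hY f hf r.str r.toHom fst snd hsq xt

/-- quasi-finiteness at a point in a given chart diagram. -/
theorem quasiFiniteAt_of_hasAtMor_QF {f : X ⟶ Y} {U V : Over S} (a : (yon S).obj U ⟶ X)
    (b : (yon S).obj V ⟶ Y) (h : U ⟶ V) (hae : RepWith @Etale a) (hbe : RepWith @Etale b)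
    (comm : a ≫ f = (yon S).map h ≫ b) (u : ↥U.left)
    (hq : HasAtMor QF f (Points.ofPt a u)) : h.left.QuasiFiniteAt u := by
  obtain ⟨N, huN, hN⟩ := exists_open_of_hasAtMor etale_le_lqf_lft a b h hae hbe comm u hq
  haveI : LocallyQuasiFinite (N.ι ≫ h.left) := hN.1
  have h1 := (N.ι ≫ h.left).quasiFiniteAt ⟨u, huN⟩
  have h2 : h.left.QuasiFiniteAt (N.ι ⟨u, huN⟩) :=
    Scheme.Hom.quasiFiniteAt_comp_iff_of_isOpenImmersion.1 h1
  have h3 : N.ι ⟨u, huN⟩ = u := rfl
  rw [h3] at h2
  exact h2

/-- a point of quasi-finiteness of a chart diagram. -/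
theorem hasAtMor_QF_of_quasiFiniteAt {f : X ⟶ Y} (hf : LocP @LocallyOfFiniteType f)
    {U V : Over S} (a : (yon S).obj U ⟶ X)
    (b : (yon S).obj V ⟶ Y) (h : U ⟶ V) (hae : RepWith @Etale a) (hbe : RepWith @Etale b)
    (comm : a ≫ f = (yon S).map h ≫ b) (u : ↥U.left) (hq : h.left.QuasiFiniteAt u) :
    HasAtMor QF f (Points.ofPt a u) := by
  haveI : LocallyOfFiniteType h.left := hf a b h hae hbe comm
  exact ⟨U, V, a, b, h, u, hae, hbe, comm, rfl, h.left.quasiFiniteLocus, hq, inferInstance,
    inferInstance⟩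

/-- an open point of a fibre is a point of quasi-finiteness. -/
theorem quasiFiniteAt_of_isOpen_singleton_fiber {U V : Scheme.{u}} (h : U ⟶ V)
    [LocallyOfFiniteType h] (v : V) (e : h.fiber v) (he : IsOpen ({e} : Set (h.fiber v))) :
    h.QuasiFiniteAt (h.fiberι v e) := by
  obtain ⟨O, hO, hOeq⟩ := (h.fiberι v).isEmbedding.isInducing.isOpen_iff.1 he
  have hmem : ∀ z : h.fiber v, h (h.fiberι v z) = v := by
    intro z
    have : h.fiberι v z ∈ Set.range (h.fiberι v) := ⟨z, rfl⟩
    rw [h.range_fiberι] at this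
    exact this
  apply quasiFiniteAt_of_isolated h _ O hO
  · have : e ∈ h.fiberι v ⁻¹' O := by rw [hOeq]; rfl
    exact this
  · intro u' hu' hhu'
    have : u' ∈ Set.range (h.fiberι v) := by
      rw [h.range_fiberι]
      exact hhu'.trans (hmem e)
    obtain ⟨z, rfl⟩ := this
    have hz : z ∈ h.fiberι v ⁻¹' O := hu'
    rw [hOeq] at hz
    rw [Set.mem_singleton_iff.1 hz]

/-- a point of quasi-finiteness is an open point of its fibre. -/
theorem isOpen_singleton_fiber_of_quasiFiniteAt {U V : Scheme.{u}} (h : U ⟶ V)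
    [LocallyOfFiniteType h] (v : V) (e : h.fiber v) (he : h.QuasiFiniteAt (h.fiberι v e)) :
    IsOpen ({e} : Set (h.fiber v)) := by
  obtain ⟨O, hO, heO, hiso⟩ := isolated_of_quasiFiniteAt h _ he
  have hmem : ∀ z : h.fiber v, h (h.fiberι v z) = v := by
    intro z
    have : h.fiberι v z ∈ Set.range (h.fiberι v) := ⟨z, rfl⟩
    rw [h.range_fiberι] at this
    exact this
  have : ({e} : Set (h.fiber v)) = h.fiberι v ⁻¹' O := by
    ext z
    simp only [Set.mem_singleton_iff, Set.mem_preimage]
    constructor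
    · rintro rfl
      exact heO
    · intro hz
      exact (h.fiberι v).isEmbedding.injective (hiso _ hz ((hmem z).trans (hmem e).symm))
  rw [this]
  exact hO.preimage (h.fiberι v).continuous

section decent

variable (hX : IsAlgSpace X) (hY : IsAlgSpace Y) (hYd : IsDecent Y) (f : X ⟶ Y)
  (hf : LocP @LocallyOfFiniteType f) (y : Points Y)

include hX hY hYd hf in
/-- over a point of a decent space, a point of the fibre at which the morphism is quasi-finite
is open in the fibre. -/
theorem isOpen_singleton_fibre_of_hasAtMor_QF (x : Points X) (hx : x ∈ Points.map f ⁻¹' {y})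
    (hq : HasAtMor QF f x) :
    IsOpen ({(⟨x, hx⟩ : ↥(Points.map f ⁻¹' {y}))} : Set ↥(Points.map f ⁻¹' {y})) := by
  have hx' : Points.map f x = y := hx
  obtain ⟨V, b, v, hVaff, hbe, hbv⟩ := exists_affine_chart_at hY y
  obtain ⟨U, a, h, u, hae, comm, hau, hhu⟩ := exists_chart_through hX hY f x b hbe v
    (hbv.trans hx'.symm)
  haveI : LocallyOfFiniteType h.left := hf a b h hae hbe comm
  have hqa := quasiFiniteAt_of_hasAtMor_QF a b h hae hbe comm u (hau ▸ hq)
  obtain ⟨O₁, hO₁, huO₁, hiso⟩ := isolated_of_quasiFiniteAt h.left u hqa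
  have hΦ : (Points.ofPt b ⁻¹' {y}).Finite := finite_fibre_of_isDecent hYd y V b hVaff hbe
  let C : Set ↥V.left := ⋃ v' ∈ (Points.ofPt b ⁻¹' {y}) \ {v}, closure {v'}
  have hC : IsClosed C := (hΦ.subset Set.diff_subset).isClosed_biUnion fun _ _ => isClosed_closure
  have hvC : v ∉ C := by
    intro hmem
    simp only [C, Set.mem_iUnion] at hmem
    obtain ⟨v', ⟨hv'1, hv'2⟩, hv'3⟩ := hmem
    have hs : v' ⤳ v := specializes_iff_mem_closure.2 hv'3
    have h1 : Points.ofPt b v' = y := hv'1
    exact hv'2 (eq_of_specializes_of_isDecent hYd b hbe v v' (hbv.trans h1.symm) hs).symm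
  have hmap : ∀ u' : ↥U.left, Points.map f (Points.ofPt a u') = Points.ofPt b (h.left u') := by
    intro u'
    rw [Points.map_ofPt, comm, ofPt_yon_map_comp]
  let O₃ : Set ↥U.left := O₁ ∩ h.left ⁻¹' Cᶜ
  have hO₃ : IsOpen O₃ := hO₁.inter (hC.isOpen_compl.preimage h.left.continuous)
  have hT : IsOpen (Points.ofPt a '' O₃) := isOpenMap_ofPt_of_etale hae _ hO₃
  have heq : ({(⟨x, hx⟩ : ↥(Points.map f ⁻¹' {y}))} : Set ↥(Points.map f ⁻¹' {y})) =
      Subtype.val ⁻¹' (Points.ofPt a '' O₃) := by
    ext ⟨x', hx''⟩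
    simp only [Set.mem_singleton_iff, Subtype.mk.injEq, Set.mem_preimage, Set.mem_image]
    constructor
    · rintro rfl
      exact ⟨u, ⟨huO₁, by rw [Set.mem_preimage, hhu]; exact hvC⟩, hau⟩
    · rintro ⟨u', ⟨hu'1, hu'2⟩, rfl⟩
      have h1 : Points.ofPt b (h.left u') = y := by rw [← hmap]; exact hx''
      have h2 : h.left u' = v := by
        by_contra hne
        apply hu'2
        simp only [C, Set.mem_iUnion]
        exact ⟨h.left u', ⟨h1, hne⟩, subset_closure rfl⟩
      rw [hiso u' hu'1 (h2.trans hhu.symm), hau]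
  rw [heq]
  exact hT.preimage continuous_subtype_val

include hX hY hYd hf in
/-- over a point of a decent space, the morphism is quasi-finite at the open points of the
fibre. -/
theorem hasAtMor_QF_of_isOpen_singleton_fibre (x : Points X) (hx : x ∈ Points.map f ⁻¹' {y})
    (hopen : IsOpen ({(⟨x, hx⟩ : ↥(Points.map f ⁻¹' {y}))} : Set ↥(Points.map f ⁻¹' {y}))) :
    HasAtMor QF f x := by
  have hx' : Points.map f x = y := hx
  obtain ⟨p, hp, hpm, hpq⟩ := hYd y
  haveI := hpm
  have sq := IsPullback.of_hasPullback f p.toHom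
  haveI : Mono (pullback.fst f p.toHom) := sq.mono_fst_of_mono
  have hinj := points_map_injective_of_mono (pullback.fst f p.toHom)
  obtain ⟨xK, hxK⟩ := exists_map_fst_eq f p _ _ sq x (hx'.trans hp.symm)
  obtain ⟨O, hO, hOeq⟩ := isOpen_induced_iff.1 hopen
  have hset : ({xK} : Set (Points (pullback f p.toHom))) =
      Points.map (pullback.fst f p.toHom) ⁻¹' O := by
    ext z
    simp only [Set.mem_singleton_iff, Set.mem_preimage]
    constructor
    · rintro rfl
      rw [hxK]
      have : (⟨x, hx⟩ : ↥(Points.map f ⁻¹' {y})) ∈ Subtype.val ⁻¹' O := by rw [hOeq]; rfl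
      exact this
    · intro hz
      have hzF : Points.map (pullback.fst f p.toHom) z ∈ Points.map f ⁻¹' {y} :=
        (map_fst_mem_fibre f p _ _ sq z).trans hp
      have h1 : (⟨_, hzF⟩ : ↥(Points.map f ⁻¹' {y})) ∈ Subtype.val ⁻¹' O := hz
      rw [hOeq] at h1
      have h2 := congrArg Subtype.val (Set.mem_singleton_iff.1 h1)
      exact hinj (h2.trans hxK.symm)
  have hopenK : IsOpen ({xK} : Set (Points (pullback f p.toHom))) := by
    rw [hset]
    exact hO.preimage (Points.continuous_map _)
  have := (hasAtMor_QF_iff_isOpen_singleton' hX hY f hf p _ _ sq xK).2 hopenK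
  rwa [hxK] at this

include hX hY hYd hf in
/-- over a point of a decent space, a point of the fibre at which the morphism is quasi-finite
has no proper specialization in the fibre. -/
theorem eq_of_specializes_fibre_of_hasAtMor_QF (x x' : Points X) (hx : Points.map f x = y)
    (hx' : Points.map f x' = y) (hq : HasAtMor QF f x) (hs : x ⤳ x') : x' = x := by
  obtain ⟨V, b, v, hVaff, hbe, hbv⟩ := exists_affine_chart_at hY y
  obtain ⟨U, a, h, u', hae, comm, hau', hhu'⟩ := exists_chart_through hX hY f x' b hbe v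
    (hbv.trans hx'.symm)
  haveI hl : LocallyOfFiniteType h.left := hf a b h hae hbe comm
  have hΦ : (Points.ofPt b ⁻¹' {y}).Finite := finite_fibre_of_isDecent hYd y V b hVaff hbe
  let C : Set ↥V.left := ⋃ v' ∈ (Points.ofPt b ⁻¹' {y}) \ {v}, closure {v'}
  have hC : IsClosed C := (hΦ.subset Set.diff_subset).isClosed_biUnion fun _ _ => isClosed_closure
  have hvC : v ∉ C := by
    intro hmem
    simp only [C, Set.mem_iUnion] at hmem
    obtain ⟨v', ⟨hv'1, hv'2⟩, hv'3⟩ := hmem
    have hs : v' ⤳ v := specializes_iff_mem_closure.2 hv'3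
    have h1 : Points.ofPt b v' = y := hv'1
    exact hv'2 (eq_of_specializes_of_isDecent hYd b hbe v v' (hbv.trans h1.symm) hs).symm
  have hmap : ∀ e : ↥U.left, Points.map f (Points.ofPt a e) = Points.ofPt b (h.left e) := by
    intro e
    rw [Points.map_ofPt, comm, ofPt_yon_map_comp]
  let E : Set ↥U.left := {e | Points.ofPt a e = x ∧ h.left e = v}
  have hcl : u' ∈ closure E := by
    rw [mem_closure_iff]
    intro M hM hu'M
    have hMN : IsOpen (M ∩ h.left ⁻¹' Cᶜ) := hM.inter (hC.isOpen_compl.preimage h.left.continuous)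
    have hT : IsOpen (Points.ofPt a '' (M ∩ h.left ⁻¹' Cᶜ)) := isOpenMap_ofPt_of_etale hae _ hMN
    have hx'T : x' ∈ Points.ofPt a '' (M ∩ h.left ⁻¹' Cᶜ) :=
      ⟨u', ⟨hu'M, by rw [Set.mem_preimage, hhu']; exact hvC⟩, hau'⟩
    obtain ⟨e, ⟨heM, heC⟩, hex⟩ := hs.mem_open hT hx'T
    have h1 : Points.ofPt b (h.left e) = y := by rw [← hmap, hex, hx]
    have h2 : h.left e = v := by
      by_contra hne
      apply heC
      simp only [C, Set.mem_iUnion]
      exact ⟨h.left e, ⟨h1, hne⟩, subset_closure rfl⟩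
    exact ⟨e, heM, hex, h2⟩
  have sqS : IsPullback (h.left.fiberι v) (h.left.fiberToSpecResidueField v) h.left
      (V.left.fromSpecResidueField v) := IsPullback.of_hasPullback _ _
  haveI : LocallyOfFiniteType (h.left.fiberToSpecResidueField v) :=
    MorphismProperty.of_isPullback (P := @LocallyOfFiniteType) sqS hl
  haveI : IsLocallyNoetherian (h.left.fiber v) :=
    LocallyOfFiniteType.isLocallyNoetherian (h.left.fiberToSpecResidueField v)
  have hmem : ∀ z : h.left.fiber v, h.left (h.left.fiberι v z) = v := by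
    intro z
    have : h.left.fiberι v z ∈ Set.range (h.left.fiberι v) := ⟨z, rfl⟩
    rw [h.left.range_fiberι] at this
    exact this
  have hE'cl : IsClosed (h.left.fiberι v ⁻¹' E) := by
    apply isClosed_of_subset_isolated
    intro e he
    apply isOpen_singleton_fiber_of_quasiFiniteAt
    apply quasiFiniteAt_of_hasAtMor_QF a b h hae hbe comm
    rw [he.1]
    exact hq
  have hu'r : u' ∈ Set.range (h.left.fiberι v) := by
    rw [h.left.range_fiberι]
    exact hhu'
  obtain ⟨e₀, he₀⟩ := hu'r
  have hEsub : E ⊆ Set.range (h.left.fiberι v) := by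
    intro e he
    rw [h.left.range_fiberι]
    exact he.2
  have he₀cl : e₀ ∈ closure (h.left.fiberι v ⁻¹' E) := by
    rw [(h.left.fiberι v).isEmbedding.isInducing.closure_eq_preimage_closure_image,
      Set.image_preimage_eq_of_subset hEsub, Set.mem_preimage, he₀]
    exact hcl
  rw [hE'cl.closure_eq] at he₀cl
  have : u' ∈ E := by rw [← he₀]; exact he₀cl
  rw [← hau', this.1]

end decent

section decentX

variable (hX : IsAlgSpace X) (hY : IsAlgSpace Y) (hXd : IsDecent X) (f : X ⟶ Y)
  (hf : LocP @LocallyOfFiniteType f) (y : Points Y)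

include hX hY hXd hf in
/-- on a decent space, the morphism is quasi-finite at the points of an open part of dimension
at most zero of a fibre. -/
theorem hasAtMor_QF_of_dim_le_zero (N : Set ↥(Points.map f ⁻¹' {y})) (hN : IsOpen N)
    (hdim : topologicalKrullDim ↥N ≤ 0) (x : Points X) (hx : x ∈ Points.map f ⁻¹' {y})
    (hxN : (⟨x, hx⟩ : ↥(Points.map f ⁻¹' {y})) ∈ N) : HasAtMor QF f x := by
  have hx' : Points.map f x = y := hx
  haveI : T0Space (Points X) := t0Space_points_of_isDecent hX hXd
  obtain ⟨O, hO, hOeq⟩ := isOpen_induced_iff.1 hN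
  obtain ⟨V, b, v, hVaff, hbe, hbv⟩ := exists_affine_chart_at hY y
  obtain ⟨U, a, h, u, hae, comm, hau, hhu⟩ := exists_chart_through hX hY f x b hbe v
    (hbv.trans hx'.symm)
  haveI hl : LocallyOfFiniteType h.left := hf a b h hae hbe comm
  have hmap : ∀ e : ↥U.left, Points.map f (Points.ofPt a e) = Points.ofPt b (h.left e) := by
    intro e
    rw [Points.map_ofPt, comm, ofPt_yon_map_comp]
  have sqS : IsPullback (h.left.fiberι v) (h.left.fiberToSpecResidueField v) h.left
      (V.left.fromSpecResidueField v) := IsPullback.of_hasPullback _ _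
  haveI : LocallyOfFiniteType (h.left.fiberToSpecResidueField v) :=
    MorphismProperty.of_isPullback (P := @LocallyOfFiniteType) sqS hl
  haveI : IsLocallyNoetherian (h.left.fiber v) :=
    LocallyOfFiniteType.isLocallyNoetherian (h.left.fiberToSpecResidueField v)
  have hmem : ∀ z : h.left.fiber v, h.left (h.left.fiberι v z) = v := by
    intro z
    have : h.left.fiberι v z ∈ Set.range (h.left.fiberι v) := ⟨z, rfl⟩
    rw [h.left.range_fiberι] at this
    exact this
  have hinF : ∀ z : h.left.fiber v,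
      Points.ofPt a (h.left.fiberι v z) ∈ Points.map f ⁻¹' {y} := by
    intro z
    show Points.map f _ = y
    rw [hmap, hmem, hbv]
  let O' : (h.left.fiber v).Opens := ⟨h.left.fiberι v ⁻¹' (Points.ofPt a ⁻¹' O),
    (hO.preimage (Points.continuous_ofPt a)).preimage (h.left.fiberι v).continuous⟩
  have hspec : ∀ z z' : ↥(O' : Scheme), z ⤳ z' → z = z' := by
    intro z z' hzz'
    have h1 : z.1 ⤳ z'.1 := hzz'.map O'.ι.continuous
    have h2 : h.left.fiberι v z.1 ⤳ h.left.fiberι v z'.1 := h1.map (h.left.fiberι v).continuous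
    have h3 : Points.ofPt a (h.left.fiberι v z.1) ⤳ Points.ofPt a (h.left.fiberι v z'.1) :=
      h2.map (Points.continuous_ofPt a)
    have hzN : (⟨_, hinF z.1⟩ : ↥(Points.map f ⁻¹' {y})) ∈ N := by
      rw [← hOeq]; exact z.2
    have hz'N : (⟨_, hinF z'.1⟩ : ↥(Points.map f ⁻¹' {y})) ∈ N := by
      rw [← hOeq]; exact z'.2
    have h4 : (⟨_, hzN⟩ : ↥N) ⤳ ⟨_, hz'N⟩ :=
      (subtype_specializes_iff _ _).2 ((subtype_specializes_iff _ _).2 h3)
    have h5 := congrArg (fun t : ↥N => t.1.1) (eq_of_specializes_of_dim_le_zero hdim h4)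
    have h6 : h.left.fiberι v z'.1 = h.left.fiberι v z.1 :=
      eq_of_specializes_of_isDecent hXd a hae _ _ h5.symm h2
    exact Subtype.ext ((h.left.fiberι v).isEmbedding.injective h6).symm
  haveI := discreteTopology_of_no_specializations (O' : Scheme) hspec
  have hur : u ∈ Set.range (h.left.fiberι v) := by
    rw [h.left.range_fiberι]
    exact hhu
  obtain ⟨e₀, he₀⟩ := hur
  have he₀O : e₀ ∈ O' := by
    show Points.ofPt a (h.left.fiberι v e₀) ∈ O
    rw [he₀, hau]
    have : (⟨x, hx⟩ : ↥(Points.map f ⁻¹' {y})) ∈ Subtype.val ⁻¹' O := by rw [hOeq]; exact hxN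
    exact this
  have h1 : IsOpen ({(⟨e₀, he₀O⟩ : ↥(O' : Scheme))} : Set ↥(O' : Scheme)) := isOpen_discrete _
  have h2' := O'.ι.isOpenEmbedding.isOpenMap _ h1
  have h2 : IsOpen ({e₀} : Set ↥(h.left.fiber v)) := by
    have h4 : ({e₀} : Set ↥(h.left.fiber v)) = O'.ι '' {⟨e₀, he₀O⟩} := by
      rw [Set.image_singleton]
      rfl
    rw [h4]
    exact h2'
  have h3 := quasiFiniteAt_of_isOpen_singleton_fiber h.left v e₀ h2
  rw [he₀] at h3
  have := hasAtMor_QF_of_quasiFiniteAt hf a b h hae hbe comm u h3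
  rwa [hau] at this

include hX hY hXd hf in
/-- on a decent space, the morphism is quasi-finite at the points of a finite fibre. -/
theorem hasAtMor_QF_of_finite_fibre (hfin : (Points.map f ⁻¹' {y}).Finite) (x : Points X)
    (hx : x ∈ Points.map f ⁻¹' {y}) : HasAtMor QF f x := by
  have hx' : Points.map f x = y := hx
  obtain ⟨V, b, v, hVaff, hbe, hbv⟩ := exists_affine_chart_at hY y
  obtain ⟨U₀, a₀, h₀, u₀, hae₀, comm₀, hau₀, hhu₀⟩ := exists_chart_through hX hY f x b hbe v
    (hbv.trans hx'.symm)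
  obtain ⟨_, ⟨O, hOaff, rfl⟩, hu₀O, -⟩ := U₀.left.isBasis_affineOpens.exists_subset_of_mem_open
    (Set.mem_univ u₀) isOpen_univ
  -- the restricted chart
  let U := overOpen U₀ O
  let a : (yon S).obj U ⟶ X := (yon S).map (overOpenι U₀ O) ≫ a₀
  let h : U ⟶ V := overOpenι U₀ O ≫ h₀
  let u : ↥U.left := ⟨u₀, hu₀O⟩
  have hae : RepWith @Etale a := repWith_etale_restrict hae₀ O
  have comm : a ≫ f = (yon S).map h ≫ b := by
    simp only [a, h, Functor.map_comp, Category.assoc, comm₀]
  have hau : Points.ofPt a u = x := (ofPt_restrict a₀ O ⟨u₀, hu₀O⟩).trans hau₀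
  have hhu : h.left u = v := hhu₀
  haveI : IsAffine U.left := hOaff
  haveI hl : LocallyOfFiniteType h.left := hf a b h hae hbe comm
  have hmap : ∀ e : ↥U.left, Points.map f (Points.ofPt a e) = Points.ofPt b (h.left e) := by
    intro e
    rw [Points.map_ofPt, comm, ofPt_yon_map_comp]
  have sqS : IsPullback (h.left.fiberι v) (h.left.fiberToSpecResidueField v) h.left
      (V.left.fromSpecResidueField v) := IsPullback.of_hasPullback _ _
  haveI hlf : LocallyOfFiniteType (h.left.fiberToSpecResidueField v) :=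
    MorphismProperty.of_isPullback (P := @LocallyOfFiniteType) sqS hl
  have hmem : ∀ z : h.left.fiber v, h.left (h.left.fiberι v z) = v := by
    intro z
    have : h.left.fiberι v z ∈ Set.range (h.left.fiberι v) := ⟨z, rfl⟩
    rw [h.left.range_fiberι] at this
    exact this
  haveI : Finite ↥(h.left.fiber v) := by
    have h1 : ((fun z : h.left.fiber v => Points.ofPt a (h.left.fiberι v z)) ⁻¹'
        (Points.map f ⁻¹' {y})).Finite := by
      refine Set.Finite.preimage' hfin fun x'' _ => ?_
      have h2 : (Points.ofPt a ⁻¹' {x''}).Finite :=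
        finite_fibre_of_isDecent hXd x'' U a inferInstance hae
      show (h.left.fiberι v ⁻¹' (Points.ofPt a ⁻¹' {x''})).Finite
      exact h2.preimage ((h.left.fiberι v).isEmbedding.injective.injOn)
    have h3 : ((fun z : h.left.fiber v => Points.ofPt a (h.left.fiberι v z)) ⁻¹'
        (Points.map f ⁻¹' {y})) = Set.univ := by
      rw [Set.eq_univ_iff_forall]
      intro z
      show Points.map f _ = y
      rw [hmap, hmem, hbv]
    rw [h3] at h1
    exact Set.finite_univ_iff.1 h1
  haveI : DiscreteTopology ↥(h.left.fiber v) :=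
    @discreteTopology_of_finite_lft (V.left.residueField v) _ _
      (h.left.fiberToSpecResidueField v) hlf _
  have hur : u ∈ Set.range (h.left.fiberι v) := by
    rw [h.left.range_fiberι]
    exact hhu
  obtain ⟨e₀, he₀⟩ := hur
  have h3 := quasiFiniteAt_of_isOpen_singleton_fiber h.left v e₀ (isOpen_discrete _)
  rw [he₀] at h3
  have := hasAtMor_QF_of_quasiFiniteAt hf a b h hae hbe comm u h3
  rwa [hau] at this

end decentX

end Groth.Agent.H7.QFib
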