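import Groth.Agent.Lib.Helper7.QFib4
import Mathlib

/-!
# S10444 and S10445
-/

set_option autoImplicit false
universe u

open AlgebraicGeometry CategoryTheory Limits

namespace Groth.Agent.H7.QFib

open _root_.AlgSp Groth.Agent.H5.AlgSp Groth.Agent.H1.AlgSpDim Groth.Agent.H7.QFinSp
open Groth.Agent.H3.QFinFibre (QF FD0 hasAtMor_QF_iff)

variable {S : Scheme.{u}}

/-- the dimension of the whole space as a subspace. -/
theorem topologicalKrullDim_univ (T : Type*) [TopologicalSpace T] :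
    topologicalKrullDim ↥(Set.univ : Set T) = topologicalKrullDim T :=
  IsHomeomorph.topologicalKrullDim_eq _ (Homeomorph.Set.univ T).isHomeomorph

theorem S10444_main {X Y : AlgSp.Space S} (f : X ⟶ Y)
    (hf : AlgSp.LocP @LocallyOfFiniteType f.hom) (r : AlgSp.FieldPt Y.obj)
    (hy : AlgSp.Points.mk r ∈ Set.range (AlgSp.Points.map f.hom)) (Xk : AlgSp.Space S) (fst : Xk ⟶ X)
    (snd : Xk.obj ⟶ (AlgSp.yon S).obj r.pt) (hsq : IsPullback fst.hom snd f.hom r.toHom) :
    (DiscreteTopology (AlgSp.Points Xk.obj) ↔ AlgSp.dim Xk.obj = 0) ∧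
    (AlgSp.dim Xk.obj = 0 ↔
      ∀ x : AlgSp.Points X.obj, AlgSp.Points.map f.hom x = AlgSp.Points.mk r → AlgSp.HasAtMor (fun U _ h u => ∃ W : U.Opens, u ∈ W ∧ LocallyQuasiFinite (W.ι ≫ h) ∧ LocallyOfFiniteType (W.ι ≫ h)) f.hom x) ∧
    (DiscreteTopology (AlgSp.Points Xk.obj) → topologicalKrullDim (AlgSp.Points Xk.obj) = 0) ∧
    (AlgSp.IsDecent Xk.obj → topologicalKrullDim (AlgSp.Points Xk.obj) = 0 →
      DiscreteTopology (AlgSp.Points Xk.obj)) ∧
    (AlgSp.IsDecent Xk.obj → Finite (AlgSp.Points Xk.obj) → DiscreteTopology (AlgSp.Points Xk.obj)) ∧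
    (Finite (AlgSp.Points Xk.obj) → (AlgSp.Points.map f.hom ⁻¹' {AlgSp.Points.mk r}).Finite) ∧
    (DiscreteTopology ↥(AlgSp.Points.map f.hom ⁻¹' {AlgSp.Points.mk r}) → topologicalKrullDim ↥(AlgSp.Points.map f.hom ⁻¹' {AlgSp.Points.mk r}) = 0) ∧
    (AlgSp.IsDecent Y.obj → (DiscreteTopology ↥(AlgSp.Points.map f.hom ⁻¹' {AlgSp.Points.mk r}) ↔ DiscreteTopology (AlgSp.Points Xk.obj))) ∧
    (AlgSp.IsDecent Y.obj → AlgSp.IsDecent X.obj →
      (topologicalKrullDim ↥(AlgSp.Points.map f.hom ⁻¹' {AlgSp.Points.mk r}) = 0 → DiscreteTopology ↥(AlgSp.Points.map f.hom ⁻¹' {AlgSp.Points.mk r})) ∧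
        ((AlgSp.Points.map f.hom ⁻¹' {AlgSp.Points.mk r}).Finite → DiscreteTopology ↥(AlgSp.Points.map f.hom ⁻¹' {AlgSp.Points.mk r}))) := by
  have hX := X.property
  have hY := Y.property
  have hXk := Xk.property
  have hK : IsAlgSpace ((yon S).obj r.pt) := IsAlgSpace.yon_obj _
  have hlft : LocP @LocallyOfFiniteType snd :=
    locP_of_isPullback Groth.Agent.H5.AlgSp.etale_le_lft hsq hX hY hK hf
  obtain ⟨x₀, hx₀⟩ := hy
  obtain ⟨xt₀, hxt₀⟩ := exists_map_fst_eq f.hom r fst.hom snd hsq x₀ hx₀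
  haveI : Nonempty (Points Xk.obj) := ⟨xt₀⟩
  haveI : Nonempty ↥(Points.map f.hom ⁻¹' {Points.mk r}) := ⟨⟨x₀, hx₀⟩⟩
  have core := hasAtMor_QF_iff_isOpen_singleton' hX hY f.hom hf r fst.hom snd hsq
  have key : DiscreteTopology (Points Xk.obj) ↔
      ∀ x : Points X.obj, Points.map f.hom x = Points.mk r → HasAtMor QF f.hom x := by
    rw [discreteTopology_iff_isOpen_singleton]
    constructor
    · intro h x hx
      obtain ⟨xt, rfl⟩ := exists_map_fst_eq f.hom r fst.hom snd hsq x hx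
      exact (core xt).2 (h xt)
    · intro h xt
      exact (core xt).1 (h _ (map_fst_mem_fibre f.hom r fst.hom snd hsq xt))
  have keyF : IsDecent Y.obj → (DiscreteTopology ↥(Points.map f.hom ⁻¹' {Points.mk r}) ↔
      ∀ x : Points X.obj, Points.map f.hom x = Points.mk r → HasAtMor QF f.hom x) := by
    intro hYd
    rw [discreteTopology_iff_isOpen_singleton]
    constructor
    · intro h x hx
      exact hasAtMor_QF_of_isOpen_singleton_fibre hX hY hYd f.hom hf _ x hx (h ⟨x, hx⟩)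
    · rintro h ⟨x, hx⟩
      exact isOpen_singleton_fibre_of_hasAtMor_QF hX hY hYd f.hom hf _ x hx (h x hx)
  have hA := discreteTopology_iff_dim_eq_zero r.str snd hXk hlft
  refine ⟨hA, ?_, ?_, ?_, ?_, ?_, ?_, ?_, ?_⟩
  · rw [← hA]
    exact key
  · intro hd
    exact le_antisymm (topologicalKrullDim_zero_of_discreteTopology _)
      (topologicalKrullDim_nonneg _)
  · intro hdec hdim
    rw [discreteTopology_iff_isOpen_singleton]
    intro xt
    have h1 : topologicalKrullDim ↥(Set.univ : Set (Points Xk.obj)) ≤ 0 := by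
      rw [topologicalKrullDim_univ]
      exact hdim.le
    exact isOpen_singleton_of_dim_le_zero r.str snd hXk hdec hlft Set.univ isOpen_univ h1 xt
      trivial
  · intro hdec hfin
    exact discreteTopology_of_finite_of_isDecent r.str snd hXk hdec hlft
  · intro hfin
    refine (Set.finite_range (Points.map fst.hom)).subset ?_
    intro x hx
    exact exists_map_fst_eq f.hom r fst.hom snd hsq x hx
  · intro hd
    exact le_antisymm (topologicalKrullDim_zero_of_discreteTopology _)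
      (topologicalKrullDim_nonneg _)
  · intro hYd
    rw [keyF hYd, key]
  · intro hYd hXd
    constructor
    · intro hdim
      rw [keyF hYd]
      intro x hx
      have h1 : topologicalKrullDim
          ↥(Set.univ : Set ↥(Points.map f.hom ⁻¹' {Points.mk r})) ≤ 0 := by
        rw [topologicalKrullDim_univ]
        exact hdim.le
      exact hasAtMor_QF_of_dim_le_zero hX hY hXd f.hom hf _ Set.univ isOpen_univ h1 x hx trivial
    · intro hfin
      rw [keyF hYd]
      intro x hx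
      exact hasAtMor_QF_of_finite_fibre hX hY hXd f.hom hf _ hfin x hx

/-- over a point of a decent space, the morphism is quasi-finite at a point of the fibre which is
closed in the fibre and has no proper generization in the fibre. -/
theorem hasAtMor_QF_of_isClosed_and_fibre {X Y : Sp S} (hX : IsAlgSpace X) (hY : IsAlgSpace Y)
    (hYd : IsDecent Y) (f : X ⟶ Y) (hf : LocP @LocallyOfFiniteType f) (y : Points Y)
    (x : Points X) (hx : x ∈ Points.map f ⁻¹' {y})
    (hcl : IsClosed ({(⟨x, hx⟩ : ↥(Points.map f ⁻¹' {y}))} : Set ↥(Points.map f ⁻¹' {y})))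
    (hgen : ∀ x' : ↥(Points.map f ⁻¹' {y}), x' ⤳ (⟨x, hx⟩ : ↥(Points.map f ⁻¹' {y})) →
      x' = (⟨x, hx⟩ : ↥(Points.map f ⁻¹' {y}))) : HasAtMor QF f x := by
  have hx' : Points.map f x = y := hx
  obtain ⟨p, hp, hpm, hpq⟩ := hYd y
  haveI := hpm
  have sq := IsPullback.of_hasPullback f p.toHom
  haveI : Mono (pullback.fst f p.toHom) := sq.mono_fst_of_mono
  have hinj := points_map_injective_of_mono (pullback.fst f p.toHom)
  obtain ⟨xK, hxK⟩ := exists_map_fst_eq f p _ _ sq x (hx'.trans hp.symm)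
  have hK : IsAlgSpace ((yon S).obj p.pt) := IsAlgSpace.yon_obj _
  have hXK : IsAlgSpace (pullback f p.toHom) := isAlgSpace_pullback hY.diag hX hK sq
  have hlft : LocP @LocallyOfFiniteType (pullback.snd f p.toHom) :=
    locP_of_isPullback Groth.Agent.H5.AlgSp.etale_le_lft sq hX hY hK hf
  have hinF : ∀ z : Points (pullback f p.toHom),
      Points.map (pullback.fst f p.toHom) z ∈ Points.map f ⁻¹' {y} :=
    fun z => (map_fst_mem_fibre f p _ _ sq z).trans hp
  have hopenK : IsOpen ({xK} : Set (Points (pullback f p.toHom))) := by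
    rw [isOpen_singleton_iff_isClosed_and p.str _ hXK hlft]
    constructor
    · rw [← closure_subset_iff_isClosed]
      intro z hz
      have h1 : xK ⤳ z := specializes_iff_mem_closure.2 hz
      have h2 := h1.map (Points.continuous_map (pullback.fst f p.toHom))
      rw [hxK] at h2
      have h3 : (⟨x, hx⟩ : ↥(Points.map f ⁻¹' {y})) ⤳ ⟨_, hinF z⟩ :=
        (subtype_specializes_iff _ _).2 h2
      have h4 := specializes_iff_mem_closure.1 h3
      rw [hcl.closure_eq] at h4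
      have h5 := congrArg Subtype.val (Set.mem_singleton_iff.1 h4)
      exact hinj (h5.trans hxK.symm)
    · intro z hz
      have h2 := hz.map (Points.continuous_map (pullback.fst f p.toHom))
      rw [hxK] at h2
      have h3 : (⟨_, hinF z⟩ : ↥(Points.map f ⁻¹' {y})) ⤳ ⟨x, hx⟩ :=
        (subtype_specializes_iff _ _).2 h2
      have h5 := congrArg Subtype.val (hgen _ h3)
      exact hinj (h5.trans hxK.symm)
  have := (hasAtMor_QF_iff_isOpen_singleton' hX hY f hf p _ _ sq xK).2 hopenK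
  rwa [hxK] at this

theorem S10445_main {X Y : AlgSp.Space S} (f : X ⟶ Y)
    (hf : AlgSp.LocP @LocallyOfFiniteType f.hom) (r : AlgSp.FieldPt Y.obj) (Xk : AlgSp.Space S) (fst : Xk ⟶ X)
    (snd : Xk.obj ⟶ (AlgSp.yon S).obj r.pt) (hsq : IsPullback fst.hom snd f.hom r.toHom)
    (x : AlgSp.Points X.obj) (hx : x ∈ (AlgSp.Points.map f.hom ⁻¹' {AlgSp.Points.mk r})) (xt : AlgSp.Points Xk.obj)
    (hxt : AlgSp.Points.map fst.hom xt = x) :
    ((IsOpen ({xt} : Set (AlgSp.Points Xk.obj)) ↔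
      IsClosed ({xt} : Set (AlgSp.Points Xk.obj)) ∧ ∀ x' : AlgSp.Points Xk.obj, x' ⤳ xt → x' = xt) ∧
    (IsOpen ({xt} : Set (AlgSp.Points Xk.obj)) ↔ AlgSp.HasAt (fun U u => FlatMor.localDim ↥U u = 0) Xk.obj xt) ∧
    (AlgSp.HasAt (fun U u => FlatMor.localDim ↥U u = 0) Xk.obj xt ↔ AlgSp.HasAtMor (fun U _ h u => ∃ W : U.Opens, u ∈ W ∧ LocallyQuasiFinite (W.ι ≫ h) ∧ LocallyOfFiniteType (W.ι ≫ h)) f.hom x) ∧
    (AlgSp.IsDecent Xk.obj →
      (FlatMor.localDim (AlgSp.Points Xk.obj) xt = 0 ↔ IsOpen ({xt} : Set (AlgSp.Points Xk.obj)))) ∧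
    (AlgSp.IsDecent Y.obj →
      (IsOpen ({(⟨x, hx⟩ : ↥(AlgSp.Points.map f.hom ⁻¹' {AlgSp.Points.mk r}))} : Set ↥(AlgSp.Points.map f.hom ⁻¹' {AlgSp.Points.mk r})) ↔ IsOpen ({xt} : Set (AlgSp.Points Xk.obj))) ∧
      ((IsClosed ({(⟨x, hx⟩ : ↥(AlgSp.Points.map f.hom ⁻¹' {AlgSp.Points.mk r}))} : Set ↥(AlgSp.Points.map f.hom ⁻¹' {AlgSp.Points.mk r})) ∧ ∀ x' : ↥(AlgSp.Points.map f.hom ⁻¹' {AlgSp.Points.mk r}), x' ⤳ (⟨x, hx⟩ : ↥(AlgSp.Points.map f.hom ⁻¹' {AlgSp.Points.mk r})) → x' = (⟨x, hx⟩ : ↥(AlgSp.Points.map f.hom ⁻¹' {AlgSp.Points.mk r}))) ↔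
        IsClosed ({xt} : Set (AlgSp.Points Xk.obj)) ∧ ∀ x' : AlgSp.Points Xk.obj, x' ⤳ xt → x' = xt)) ∧
    (AlgSp.IsDecent Y.obj → AlgSp.IsDecent X.obj →
      (FlatMor.localDim ↥(AlgSp.Points.map f.hom ⁻¹' {AlgSp.Points.mk r}) (⟨x, hx⟩ : ↥(AlgSp.Points.map f.hom ⁻¹' {AlgSp.Points.mk r})) = 0 ↔ IsOpen ({(⟨x, hx⟩ : ↥(AlgSp.Points.map f.hom ⁻¹' {AlgSp.Points.mk r}))} : Set ↥(AlgSp.Points.map f.hom ⁻¹' {AlgSp.Points.mk r}))))) := by
  have hX := X.property
  have hY := Y.property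
  have hXk := Xk.property
  have hK : IsAlgSpace ((yon S).obj r.pt) := IsAlgSpace.yon_obj _
  have hlft : LocP @LocallyOfFiniteType snd :=
    locP_of_isPullback Groth.Agent.H5.AlgSp.etale_le_lft hsq hX hY hK hf
  have core : HasAtMor QF f.hom x ↔ IsOpen ({xt} : Set (Points Xk.obj)) := by
    rw [← hxt]
    exact hasAtMor_QF_iff_isOpen_singleton' hX hY f.hom hf r fst.hom snd hsq xt
  have c1 := isOpen_singleton_iff_isClosed_and r.str snd hXk hlft xt
  have c2 := isOpen_singleton_iff_hasAt_localDim r.str snd hXk hlft xt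
  have hsing : ∀ {T : Type (u + 1)} [TopologicalSpace T] (t : T), IsOpen ({t} : Set T) →
      FlatMor.localDim T t = 0 := by
    intro T _ t ht
    rw [localDim_eq_zero_iff]
    refine ⟨⟨{t}, ht⟩, rfl, ?_⟩
    haveI : DiscreteTopology ↥(({t} : Set T)) := inferInstance
    exact topologicalKrullDim_zero_of_discreteTopology _
  refine ⟨c1, c2, c2.symm.trans core.symm, ?_, ?_, ?_⟩
  · intro hdec
    constructor
    · intro h
      rw [localDim_eq_zero_iff] at h
      obtain ⟨N, hxN, hdim⟩ := h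
      exact isOpen_singleton_of_dim_le_zero r.str snd hXk hdec hlft N N.2 hdim xt hxN
    · exact hsing xt
  · intro hYd
    have hE : HasAtMor QF f.hom x ↔
        IsOpen ({(⟨x, hx⟩ : ↥(Points.map f.hom ⁻¹' {Points.mk r}))} :
          Set ↥(Points.map f.hom ⁻¹' {Points.mk r})) :=
      ⟨isOpen_singleton_fibre_of_hasAtMor_QF hX hY hYd f.hom hf _ x hx,
        hasAtMor_QF_of_isOpen_singleton_fibre hX hY hYd f.hom hf _ x hx⟩
    refine ⟨hE.symm.trans core, ?_⟩
    rw [← c1, ← core]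
    constructor
    · rintro ⟨hcl, hgen⟩
      exact hasAtMor_QF_of_isClosed_and_fibre hX hY hYd f.hom hf _ x hx hcl hgen
    · intro hq
      constructor
      · rw [← closure_subset_iff_isClosed]
        intro x' hx'
        have h1 : (⟨x, hx⟩ : ↥(Points.map f.hom ⁻¹' {Points.mk r})) ⤳ x' :=
          specializes_iff_mem_closure.2 hx'
        have h2 : x ⤳ x'.1 := (subtype_specializes_iff _ _).1 h1
        exact Subtype.ext
          (eq_of_specializes_fibre_of_hasAtMor_QF hX hY hYd f.hom hf _ x x'.1 hx x'.2 hq h2)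
      · intro x' hx'
        exact hx'.mem_open (hE.1 hq) rfl
  · intro hYd hXd
    constructor
    · intro h
      rw [localDim_eq_zero_iff] at h
      obtain ⟨N, hxN, hdim⟩ := h
      exact isOpen_singleton_fibre_of_hasAtMor_QF hX hY hYd f.hom hf _ x hx
        (hasAtMor_QF_of_dim_le_zero hX hY hXd f.hom hf _ N N.2 hdim x hx hxN)
    · exact hsing _

end Groth.Agent.H7.QFib
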