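import Mathlib
import Groth.Prelude.Def_AlgSp4
import Groth.Prelude.Def_AlgSpInf
import Groth.Agent.Lib.Helper7.Thick
import Groth.Agent.Lib.Helper5.AlgSp.RefinedDVR

set_option autoImplicit false
universe u
open CategoryTheory CategoryTheory.Limits AlgebraicGeometry Opposite

namespace Groth.Agent.H7.Thick2

open _root_.AlgSp Groth.Agent.H5.AlgSp Groth.Agent.H7.Thick

variable {S : Scheme.{u}}

theorem isQuasiSeparatedMor_of_mono {F G : Sp S} (f : F ⟶ G) [Mono f] : IsQuasiSeparatedMor f :=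
  repWith_of_isIso (pullback.diagonal f)

theorem S10589_sp {X X' Y Y' : Sp S} (hX : IsAlgSpace X) (hX' : IsAlgSpace X')
    (hY' : IsAlgSpace Y') (i : X ⟶ X') (j : Y ⟶ Y')
    (f : X ⟶ Y) (f' : X' ⟶ Y')
    (hi : AlgSp.IsThickMor i)
    (hj : AlgSp.IsThickMor j) (w : i ≫ f' = f ≫ j) :
    (AlgSp.IsSeparatedMor f ↔ AlgSp.IsSeparatedMor f') ∧
    (AlgSp.IsQuasiSeparatedMor f ↔ AlgSp.IsQuasiSeparatedMor f') := by
  have hjm : Mono j := mono_of_isThickMor hj
  have him : Mono i := mono_of_isThickMor hi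
  have sq : IsPullback (𝟙 X) f (i ≫ f') j := by rw [w]; exact isPullback_of_mono f j
  have his := isSurjectiveMor_of_isThickMor hi
  have hic := (isProperMor_of_isClosedImmersion (isClosedImmersion_of_isThickMor hi)).2.2
  refine ⟨⟨fun h => ?_, fun h => ?_⟩, ⟨fun h => ?_, fun h => ?_⟩⟩
  · apply isSeparatedMor_of_surjective_univClosed hX hX' hY' his hic
    rw [w]
    exact isSeparatedMor_comp h (isSeparatedMor_of_mono j)
  · exact repWith_diag_of_isPullback sq (isSeparatedMor_comp (isSeparatedMor_of_mono i) h)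
  · apply isQuasiSeparatedMor_of_surjective_univClosed hX hX' hY' his hic
    rw [w]
    exact isQuasiSeparatedMor_comp h (isQuasiSeparatedMor_of_mono j)
  · exact repWith_diag_of_isPullback sq
      (isQuasiSeparatedMor_comp (isQuasiSeparatedMor_of_mono i) h)

theorem S10589_main {X X' Y Y' : AlgSp.Space S} (i : X ⟶ X') (j : Y ⟶ Y')
    (f : X ⟶ Y) (f' : X' ⟶ Y')
    (hi : AlgSp.IsThickMor i.hom)
    (hj : AlgSp.IsThickMor j.hom) (w : i ≫ f' = f ≫ j) :
    (AlgSp.IsSeparatedMor f.hom ↔ AlgSp.IsSeparatedMor f'.hom) ∧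
    (AlgSp.IsQuasiSeparatedMor f.hom ↔ AlgSp.IsQuasiSeparatedMor f'.hom) :=
  S10589_sp X.property X'.property Y'.property i.hom j.hom f.hom f'.hom hi hj
    (congrArg (fun m => m.hom) w)

end Groth.Agent.H7.Thick2
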