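import Groth.Agent.Lib.Helper7.QFib5
import Groth.Agent.Lib.Helper7.Thick2
import Groth.Agent.Lib.Helper3.Decent.QuasiSepDecent
import Groth.Agent.Lib.Helper5.AlgSp.ProdSp
import Groth.Agent.Lib.Helper5.AlgSp.Proper
import Groth.Agent.Lib.Helper5.AlgSp.QCompact
import Groth.Agent.Lib.Helper5.AlgSp.LocalRep
import Mathlib

/-!
# S10446: finite fibres over points of codimension zero
-/

set_option autoImplicit false
universe u

open AlgebraicGeometry CategoryTheory Limits

namespace Groth.Agent.H7.QFib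

open _root_.AlgSp Groth.Agent.H5.AlgSp Groth.Agent.H1.AlgSpDim Groth.Agent.H7.QFinSp
open Groth.Agent.H3.QFinFibre (QF FD0 hasAtMor_QF_iff)
open Groth.Agent.H7.SmLift (exists_affine_chart_at)

variable {S : Scheme.{u}}

/-- quasi-finiteness at a point passes to open subspaces. -/
theorem hasAtMor_QF_comp_openImm {X'' X Y : Sp S} (hX'' : IsAlgSpace X'') (hX : IsAlgSpace X)
    (hY : IsAlgSpace Y) (j : X'' ⟶ X) (hj : RepWith @IsOpenImmersion j) (f : X ⟶ Y)
    (x'' : Points X'') (hq : HasAtMor QF f (Points.map j x'')) : HasAtMor QF (j ≫ f) x'' := by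
  obtain ⟨F₁, j₁, hF₁, hj₁, ⟨x₁, hx₁⟩, hloc⟩ :=
    (hasAtMor_iff_exists_open etale_le_lqf_lft hX hY _).1 hq
  have sq := IsPullback.of_hasPullback j₁ j
  have hF₂ : IsAlgSpace (pullback j₁ j) := isAlgSpace_pullback hX.diag hF₁ hX'' sq
  have hpr2 : RepWith @IsOpenImmersion (pullback.snd j₁ j) :=
    MorphismProperty.of_isPullback (P := RepWith @IsOpenImmersion) sq hj₁
  have hpr1 : RepWith @IsOpenImmersion (pullback.fst j₁ j) :=
    MorphismProperty.of_isPullback (P := RepWith @IsOpenImmersion) sq.flip hj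
  have hpr1e : RepWith @Etale (pullback.fst j₁ j) :=
    repWith_mono (fun _ _ g (hg : IsOpenImmersion g) => (inferInstance : Etale g)) hpr1
  have hloc' : LocP ((@LocallyQuasiFinite : MorphismProperty Scheme.{u}) ⊓ @LocallyOfFiniteType)
      (pullback.snd j₁ j ≫ j ≫ f) := by
    have := locP_comp_etale hpr1e hloc
    rwa [← Category.assoc, sq.w, Category.assoc] at this
  obtain ⟨z, -, hz⟩ := points_pullback_surjective sq x₁ x'' hx₁
  exact (hasAtMor_iff_exists_open etale_le_lqf_lft hX'' hY x'').2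
    ⟨_, pullback.snd j₁ j, hF₂, hpr2, ⟨z, hz⟩, hloc'⟩

/-- finite morphisms have finite fibres on points. -/
theorem finite_fibre_of_isFiniteMor {X' Y' : Sp S} (hY' : IsAlgSpace Y') (f' : X' ⟶ Y')
    (hfin : IsFiniteMor f') (y' : Points Y') : (Points.map f' ⁻¹' {y'}).Finite := by
  obtain ⟨V, b, v, hVaff, hbe, hbv⟩ := exists_affine_chart_at hY' y'
  obtain ⟨W, p, fstW, sq, hWaff, hpfin⟩ := hfin hVaff b
  haveI := hpfin
  have h1 : (p.left ⁻¹' {v}).Finite := p.left.finite_preimage_singleton v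
  refine (h1.image (Points.ofPt fstW)).subset ?_
  intro x' hx'
  have hx'' : Points.map f' x' = y' := hx'
  obtain ⟨w, hw1, hw2⟩ := exists_point_of_isPullback sq x' v (hx''.trans hbv.symm)
  exact ⟨w, hw1, hw2⟩

theorem S10446_main [QuasiSeparatedSpace ↥S] {X Y : AlgSp.Space S}
    (f : X ⟶ Y) (hqs : AlgSp.IsQuasiSeparatedMor f.hom) (hft : AlgSp.LocP @LocallyOfFiniteType f.hom)
    (hY : AlgSp.IsQuasiSeparatedSp Y.obj) (y : AlgSp.Points Y.obj)
    (hy : AlgSp.HasAt (fun U u => ringKrullDim ↥(U.presheaf.stalk u) = 0) Y.obj y) :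
    (AlgSp.Points.map f.hom ⁻¹' {y}).Finite ↔
      ∃ (X' Y' : AlgSp.Space S) (i : X' ⟶ X) (j : Y' ⟶ Y) (f' : X' ⟶ Y'), AlgSp.RepWith @IsOpenImmersion i.hom ∧
        AlgSp.RepWith @IsOpenImmersion j.hom ∧ f' ≫ j = i ≫ f ∧ y ∈ Set.range (AlgSp.Points.map j.hom) ∧
          AlgSp.Points.map f.hom ⁻¹' {y} ⊆ Set.range (AlgSp.Points.map i.hom) ∧ AlgSp.IsFiniteMor f'.hom := by
  have hXa := X.property
  have hYa := Y.property
  constructor
  · intro hfin
    have hXqs : IsQuasiSeparatedSp X.obj := isQuasiSeparatedSp_of_isQuasiSeparatedMor hqs hY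
    have hXd : IsDecent X.obj := Groth.Agent.H3.Decent.isDecent_of_isQuasiSeparatedSp hXa hXqs
    have hqf : ∀ x : Points X.obj, Points.map f.hom x = y → HasAtMor QF f.hom x :=
      fun x hx => hasAtMor_QF_of_finite_fibre hXa hYa hXd f.hom hft y hfin x hx
    -- a quasi-compact open containing the fibre
    haveI : Finite ↥(Points.map f.hom ⁻¹' {y}) := hfin
    choose U a u hU hae hau using
      fun x : ↥(Points.map f.hom ⁻¹' {y}) => exists_affine_chart_at hXa x.1
    let T : Set (Points X.obj) := ⋃ x, Set.range (Points.ofPt (a x))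
    have hT : IsOpen T := isOpen_iUnion fun x => (isOpenMap_ofPt_of_etale (hae x)).isOpen_range
    have hTc : IsCompact T := isCompact_iUnion fun x => by
      haveI := hU x
      exact isCompact_range (Points.continuous_ofPt (a x))
    have hFT : Points.map f.hom ⁻¹' {y} ⊆ T := fun x hx =>
      Set.mem_iUnion.2 ⟨⟨x, hx⟩, u ⟨x, hx⟩, hau ⟨x, hx⟩⟩
    have hX''a : IsAlgSpace (openSub X.obj T) := isAlgSpace_openSub hXa hT
    let X'' : AlgSp.Space S := ⟨openSub X.obj T, hX''a⟩
    let i'' : X'' ⟶ X := ObjectProperty.homMk (openSubι X.obj T)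
    have hi'' : RepWith @IsOpenImmersion i''.hom := repWith_openSubι hT
    haveI : Mono i''.hom := mono_of_repWith LocalRep.isOpenImmersion_le_mono hi''
    have hqc : IsQuasiCompactSp X''.obj := isQuasiCompactSp_openSub hXa hT hTc
    have hqcm : IsQuasiCompactMor (i'' ≫ f).hom := isQuasiCompactMor_of_isQuasiCompactSp hqc hY _
    have hlft'' : LocP @LocallyOfFiniteType (i'' ≫ f).hom :=
      locP_comp_etale (repWith_mono
        (fun _ _ g (hg : IsOpenImmersion g) => (inferInstance : Etale g)) hi'') hft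
    have hqs'' : IsQuasiSeparatedMor (i'' ≫ f).hom :=
      isQuasiSeparatedMor_comp (Groth.Agent.H7.Thick2.isQuasiSeparatedMor_of_mono i''.hom) hqs
    have hqf'' : ∀ x'' : Points X''.obj, Points.map (i'' ≫ f).hom x'' = y →
        HasAtMor QF (i'' ≫ f).hom x'' := by
      intro x'' hx''
      apply hasAtMor_QF_comp_openImm hX''a hXa hYa i''.hom hi'' f.hom x''
      apply hqf
      rw [← Points.map_comp]
      exact hx''
    obtain ⟨Y', X', j, fst, snd, hj, ⟨y', hy'⟩, sq, hfinm⟩ :=
      S10398_main (i'' ≫ f) hqs'' ⟨hlft'', hqcm⟩ y hy hqf''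
    have hsnd : RepWith @IsOpenImmersion snd.hom :=
      MorphismProperty.of_isPullback (P := RepWith @IsOpenImmersion) sq hj
    refine ⟨X', Y', snd ≫ i'', j, fst, (RepWith @IsOpenImmersion).comp_mem _ _ hsnd hi'', hj, ?_,
      ⟨y', hy'⟩, ?_, hfinm⟩
    · apply ObjectProperty.hom_ext
      have := sq.w
      simpa using this
    · intro x hx
      have hxT : x ∈ Set.range (Points.map (openSubι X.obj T)) := by
        rw [range_points_map_openSubι]
        exact hFT hx
      obtain ⟨x'', hx''⟩ := hxT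
      have h1 : Points.map j.hom y' = Points.map (i'' ≫ f).hom x'' := by
        rw [hy']
        have hx' : Points.map f.hom x = y := hx
        rw [← hx', ← hx'']
        exact (Points.map_comp _ _ _).symm
      obtain ⟨z, -, hz⟩ := points_pullback_surjective sq y' x'' h1
      refine ⟨z, ?_⟩
      have : Points.map (snd ≫ i'').hom z = Points.map i''.hom (Points.map snd.hom z) :=
        Points.map_comp _ _ _
      rw [this, hz]
      exact hx''
  · rintro ⟨X', Y', i, j, f', hi, hj, hcomm, ⟨y', hy'⟩, hsub, hfinm⟩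
    haveI : Mono j.hom := mono_of_repWith LocalRep.isOpenImmersion_le_mono hj
    have hinj := points_map_injective_of_mono j.hom
    have h1 := finite_fibre_of_isFiniteMor Y'.property f'.hom hfinm y'
    refine (h1.image (Points.map i.hom)).subset ?_
    intro x hx
    obtain ⟨x', rfl⟩ := hsub hx
    refine ⟨x', ?_, rfl⟩
    apply hinj
    have hx' : Points.map f.hom (Points.map i.hom x') = y := hx
    rw [hy', ← hx', ← Points.map_comp, ← Points.map_comp]
    have := congrArg (fun m => m.hom) hcomm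
    exact congrArg (fun m => Points.map m x') this

end Groth.Agent.H7.QFib
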