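import Mathlib

/-!
# Étale localization of quasi-finite morphisms: the geometric fibre count
-/

set_option autoImplicit false
universe u

open AlgebraicGeometry CategoryTheory Limits

namespace Groth.Agent.H7.QFin

variable {U V : Scheme.{u}}

/-- the geometric fibre of a quasi-finite morphism is finite -/
theorem finite_geomFibre (g : U ⟶ V) [LocallyQuasiFinite g] [QuasiCompact g] {Ω : Type u} [Field Ω]
    (γ : Spec (.of Ω) ⟶ V) : Finite ↥(pullback g γ) := by
  have h := Scheme.Hom.finite_preimage_singleton (pullback.snd g γ) (IsLocalRing.closedPoint Ω)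
  have h' : (Set.univ : Set ↥(pullback g γ)).Finite :=
    h.subset (fun z _ => Subsingleton.elim _ _)
  exact Set.finite_univ_iff.1 h'

/-- every point of the geometric fibre of a locally quasi-finite morphism is closed -/
theorem isClosed_singleton_geomFibre (g : U ⟶ V) [LocallyQuasiFinite g] {Ω : Type u} [Field Ω]
    (γ : Spec (.of Ω) ⟶ V) (z : ↥(pullback g γ)) : IsClosed ({z} : Set ↥(pullback g γ)) := by
  have h := Scheme.Hom.isDiscrete_preimage_singleton (pullback.snd g γ) (IsLocalRing.closedPoint Ω)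
  have h' : _root_.IsDiscrete (Set.univ : Set ↥(pullback g γ)) :=
    h.mono (fun z _ => Subsingleton.elim _ _)
  have : DiscreteTopology ↥(pullback g γ) := by
    rw [isDiscrete_iff_discreteTopology] at h'
    haveI := h'
    exact (Homeomorph.Set.univ ↥(pullback g γ)).discreteTopology
  exact isClosed_discrete _

/-- lifting a geometric point along a locally quasi-finite morphism through a prescribed point -/
theorem exists_lift_geomPoint {V₁ : Scheme.{u}} (j : V₁ ⟶ V) [LocallyOfFiniteType j]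
    [LocallyQuasiFinite j] {Ω : Type u} [Field Ω] [IsAlgClosed Ω]
    (γ : Spec (.of Ω) ⟶ V) (v₁ : V₁) (h : j v₁ = γ (IsLocalRing.closedPoint Ω)) :
    ∃ γ₁ : Spec (.of Ω) ⟶ V₁, γ₁ ≫ j = γ ∧ γ₁ (IsLocalRing.closedPoint Ω) = v₁ := by
  obtain ⟨z, hz1, hz2⟩ := Scheme.Pullback.exists_preimage_pullback (f := j) (g := γ) v₁ (IsLocalRing.closedPoint Ω) h
  have hz := isClosed_singleton_geomFibre j γ z
  refine ⟨pointOfClosedPoint (pullback.snd j γ) z hz ≫ pullback.fst j γ, ?_, ?_⟩
  · rw [Category.assoc, pullback.condition, ← Category.assoc, pointOfClosedPoint_comp,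
      Category.id_comp]
  · rw [Scheme.Hom.comp_apply, pointOfClosedPoint_apply, hz1]

/-- the geometric fibre count is invariant under base change -/
theorem card_geomFibre_baseChange {P₁ V₁ : Scheme.{u}} {g : U ⟶ V} {j₁ : V₁ ⟶ V}
    {fst₁ : P₁ ⟶ U} {snd₁ : P₁ ⟶ V₁} (sq : IsPullback fst₁ snd₁ g j₁)
    {Ω : Type u} [Field Ω] (γ₁ : Spec (.of Ω) ⟶ V₁) :
    Nat.card ↥(pullback snd₁ γ₁) = Nat.card ↥(pullback g (γ₁ ≫ j₁)) := by
  have big := (IsPullback.of_hasPullback snd₁ γ₁).paste_horiz sq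
  exact Nat.card_congr (Scheme.homeoOfIso big.isoPullback).toEquiv

/-- removing a clopen piece meeting the fibre decreases the geometric fibre count -/
theorem card_geomFibre_lt {P₁ V₁ : Scheme.{u}} (snd₁ : P₁ ⟶ V₁) [LocallyQuasiFinite snd₁]
    [QuasiCompact snd₁] (B : P₁.Opens) {Ω : Type u} [Field Ω] (γ₁ : Spec (.of Ω) ⟶ V₁)
    (a : P₁) (haB : a ∉ B) (ha : snd₁ a = γ₁ (IsLocalRing.closedPoint Ω)) :
    Nat.card ↥(pullback (B.ι ≫ snd₁) γ₁) < Nat.card ↥(pullback snd₁ γ₁) := by
  have hfin := finite_geomFibre snd₁ γ₁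
  let m : pullback (B.ι ≫ snd₁) γ₁ ⟶ pullback snd₁ γ₁ :=
    pullback.map _ _ _ _ B.ι (𝟙 _) (𝟙 _) (by simp) (by simp)
  have hm : Function.Injective m := m.isOpenEmbedding.injective
  have : Finite ↥(pullback (B.ι ≫ snd₁) γ₁) := Finite.of_injective _ hm
  obtain ⟨z, hz1, -⟩ := Scheme.Pullback.exists_preimage_pullback (f := snd₁) (g := γ₁) a (IsLocalRing.closedPoint Ω) ha
  have hz : z ∉ Set.range m := by
    rintro ⟨w, rfl⟩
    apply haB
    rw [← hz1, ← Scheme.Hom.comp_apply]
    have : m ≫ pullback.fst snd₁ γ₁ = pullback.fst (B.ι ≫ snd₁) γ₁ ≫ B.ι :=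
      pullback.lift_fst _ _ _
    rw [this, Scheme.Hom.comp_apply]
    exact (pullback.fst (B.ι ≫ snd₁) γ₁ w).2
  letI := Fintype.ofFinite ↥(pullback (B.ι ≫ snd₁) γ₁)
  letI := Fintype.ofFinite ↥(pullback snd₁ γ₁)
  rw [Nat.card_eq_fintype_card, Nat.card_eq_fintype_card]
  exact Fintype.card_lt_of_injective_of_notMem m hm hz

end Groth.Agent.H7.QFin
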