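import Groth.Agent.Lib.Helper7.QFin2
import Mathlib

/-!
# Bounded numbers of geometric lifts for standard étale morphisms
-/

set_option autoImplicit false
universe u

open AlgebraicGeometry CategoryTheory Limits Polynomial

namespace Groth.Agent.H7.QFin

/-- the number of lifts of field-valued points along `j` is at most `n`. -/
def BLifts {N T : Scheme.{u}} (j : N ⟶ T) (n : ℕ) : Prop :=
  ∀ (Ω : Type u) [Field Ω] (γ : Spec (.of Ω) ⟶ T),
    {γ' : Spec (.of Ω) ⟶ N | γ' ≫ j = γ}.encard ≤ n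

/-- ring level: algebra maps out of a standard étale algebra to a field are determined by a root
of the monic polynomial. -/
theorem encard_ringHom_le {R S' Ω : Type u} [CommRing R] [CommRing S'] [Algebra R S'] [Field Ω]
    (P : StandardEtalePresentation R S') (φ₀ : R →+* Ω) :
    {ψ : S' →+* Ω | ψ.comp (algebraMap R S') = φ₀}.encard ≤ P.f.natDegree := by
  classical
  letI : Algebra R Ω := φ₀.toAlgebra
  let mk : ∀ ψ : S' →+* Ω, ψ.comp (algebraMap R S') = φ₀ → (S' →ₐ[R] Ω) := fun ψ hψ =>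
    { ψ with commutes' := fun r => RingHom.congr_fun hψ r }
  let F : (S' →+* Ω) → Ω := fun ψ => ψ P.x
  have hinj : Set.InjOn F {ψ : S' →+* Ω | ψ.comp (algebraMap R S') = φ₀} := by
    intro ψ₁ h₁ ψ₂ h₂ h
    have : mk ψ₁ h₁ = mk ψ₂ h₂ := P.hom_ext h
    ext s
    exact congrArg (fun a : S' →ₐ[R] Ω => a s) this
  have hsub : F '' {ψ : S' →+* Ω | ψ.comp (algebraMap R S') = φ₀} ⊆
      ((P.f.aroots Ω).toFinset : Set Ω) := by
    rintro _ ⟨ψ, hψ, rfl⟩
    rw [Finset.mem_coe, Multiset.mem_toFinset, mem_aroots']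
    refine ⟨(P.monic_f.map _).ne_zero, ?_⟩
    change aeval ((mk ψ hψ) P.x) P.f = 0
    rw [aeval_algHom_apply, P.hasMap.1, map_zero]
  calc {ψ : S' →+* Ω | ψ.comp (algebraMap R S') = φ₀}.encard
      = (F '' {ψ : S' →+* Ω | ψ.comp (algebraMap R S') = φ₀}).encard := hinj.encard_image.symm
    _ ≤ ((P.f.aroots Ω).toFinset : Set Ω).encard := Set.encard_le_encard hsub
    _ = ((P.f.aroots Ω).toFinset.card : ℕ∞) := Set.encard_coe_eq_coe_finsetCard _
    _ ≤ P.f.natDegree := by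
      have h1 : (P.f.aroots Ω).toFinset.card ≤ (P.f.aroots Ω).card := Multiset.toFinset_card_le _
      have h2 : (P.f.aroots Ω).card ≤ (P.f.map (algebraMap R Ω)).natDegree := card_roots' _
      have h3 : (P.f.map (algebraMap R Ω)).natDegree = P.f.natDegree :=
        P.monic_f.natDegree_map _
      exact_mod_cast h1.trans (h2.trans h3.le)

/-- scheme level: a standard étale morphism followed by a monomorphism has boundedly many
field-valued lifts. -/
theorem bLifts_of_standardEtale {R S' : Type u} [CommRing R] [CommRing S'] [Algebra R S']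
    (P : StandardEtalePresentation R S') {T : Scheme.{u}} (b : Spec (.of R) ⟶ T) [Mono b] :
    BLifts (Spec.map (CommRingCat.ofHom (algebraMap R S')) ≫ b) P.f.natDegree := by
  intro Ω _ γ
  by_cases hne : ∃ γ'₀ : Spec (.of Ω) ⟶ Spec (.of S'),
      γ'₀ ≫ Spec.map (CommRingCat.ofHom (algebraMap R S')) ≫ b = γ
  · obtain ⟨γ'₀, h₀⟩ := hne
    let φ₀ : R →+* Ω := ((Spec.preimage γ'₀).hom).comp (algebraMap R S')
    let G : (Spec (.of Ω) ⟶ Spec (.of S')) → (S' →+* Ω) := fun γ' => (Spec.preimage γ').hom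
    have hG : Function.Injective G := by
      intro γ₁ γ₂ h
      have h' : Spec.preimage γ₁ = Spec.preimage γ₂ := CommRingCat.hom_ext h
      rw [← Spec.map_preimage γ₁, ← Spec.map_preimage γ₂, h']
    have hsub : G '' {γ' : Spec (.of Ω) ⟶ Spec (.of S') |
        γ' ≫ Spec.map (CommRingCat.ofHom (algebraMap R S')) ≫ b = γ} ⊆
        {ψ : S' →+* Ω | ψ.comp (algebraMap R S') = φ₀} := by
      rintro _ ⟨γ', hγ', rfl⟩
      have h1 : γ' ≫ Spec.map (CommRingCat.ofHom (algebraMap R S')) =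
          γ'₀ ≫ Spec.map (CommRingCat.ofHom (algebraMap R S')) := by
        rw [← cancel_mono b, Category.assoc, Category.assoc, h₀]
        exact hγ'
      rw [← Spec.map_preimage γ', ← Spec.map_preimage γ'₀, ← Spec.map_comp, ← Spec.map_comp] at h1
      have h2 := Spec.map_injective h1
      change (Spec.preimage γ').hom.comp (algebraMap R S') =
        (Spec.preimage γ'₀).hom.comp (algebraMap R S')
      have h3 := congrArg (fun k => k.hom) h2
      simpa using h3
    calc _ = (G '' {γ' : Spec (.of Ω) ⟶ Spec (.of S') |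
        γ' ≫ Spec.map (CommRingCat.ofHom (algebraMap R S')) ≫ b = γ}).encard :=
          (hG.injOn.encard_image).symm
      _ ≤ {ψ : S' →+* Ω | ψ.comp (algebraMap R S') = φ₀}.encard := Set.encard_le_encard hsub
      _ ≤ P.f.natDegree := encard_ringHom_le P φ₀
  · have : {γ' : Spec (.of Ω) ⟶ Spec (.of S') |
        γ' ≫ Spec.map (CommRingCat.ofHom (algebraMap R S')) ≫ b = γ} = ∅ := by
      ext γ'
      simp only [Set.mem_setOf_eq, Set.mem_empty_iff_false, iff_false]
      exact fun h => hne ⟨γ', h⟩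
    rw [this]
    simp

/-- **Standard étale neighbourhoods**: every point of the source of an étale morphism has an
affine open neighbourhood on which the morphism is separated with boundedly many lifts. -/
theorem exists_standardEtale_nbhd {V' T : Scheme.{u}} (j : V' ⟶ T) [Etale j] (v' : V') :
    ∃ (N : Scheme.{u}) (a : N ⟶ V') (n : ℕ), IsAffine N ∧ IsOpenImmersion a ∧
      v' ∈ Set.range a ∧ IsSeparated (a ≫ j) ∧ BLifts (a ≫ j) n := by
  obtain ⟨_, ⟨T₀, hT₀, rfl⟩, hvT₀, -⟩ := T.isBasis_affineOpens.exists_subset_of_mem_open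
    (Set.mem_univ (j v')) isOpen_univ
  obtain ⟨_, ⟨N₀, hN₀, rfl⟩, hvN₀, hNT : N₀ ≤ j ⁻¹ᵁ T₀⟩ :=
    V'.isBasis_affineOpens.exists_subset_of_mem_open hvT₀ (j ⁻¹ᵁ T₀).2
  have hφ : (j.appLE T₀ N₀ hNT).hom.Etale := j.etale_appLE hT₀ hN₀ hNT
  algebraize [(j.appLE T₀ N₀ hNT).hom]
  have hE : Algebra.Etale Γ(T, T₀) Γ(V', N₀) := RingHom.etale_algebraMap.mp hφ
  obtain ⟨f, hfq, hf⟩ := Algebra.IsEtaleAt.exists_isStandardEtale (R := Γ(T, T₀))
    (hN₀.primeIdealOf ⟨v', hvN₀⟩).asIdeal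
  let P := hf.nonempty_standardEtalePresentation.some
  have hcomp : Spec.map (CommRingCat.ofHom (algebraMap Γ(V', N₀) (Localization.Away f))) ≫
      hN₀.fromSpec ≫ j =
      Spec.map (CommRingCat.ofHom (algebraMap Γ(T, T₀) (Localization.Away f))) ≫ hT₀.fromSpec := by
    rw [← IsAffineOpen.SpecMap_appLE_fromSpec j hT₀ hN₀ hNT, ← Spec.map_comp_assoc]
    congr 2
  refine ⟨Spec (.of (Localization.Away f)),
    Spec.map (CommRingCat.ofHom (algebraMap Γ(V', N₀) (Localization.Away f))) ≫ hN₀.fromSpec,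
    P.f.natDegree, inferInstance, inferInstance, ?_, ?_, ?_⟩
  · have hr := PrimeSpectrum.localization_away_comap_range (Localization.Away f) f
    have hmem : hN₀.primeIdealOf ⟨v', hvN₀⟩ ∈ (PrimeSpectrum.basicOpen f : Set _) := hfq
    rw [← hr] at hmem
    obtain ⟨p', hp'⟩ := hmem
    refine ⟨p', ?_⟩
    rw [Scheme.Hom.comp_apply]
    have : Spec.map (CommRingCat.ofHom (algebraMap Γ(V', N₀) (Localization.Away f))) p' =
        hN₀.primeIdealOf ⟨v', hvN₀⟩ := hp'
    rw [this, hN₀.fromSpec_primeIdealOf]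
  · rw [Category.assoc, hcomp]
    infer_instance
  · rw [Category.assoc, hcomp]
    exact bLifts_of_standardEtale P hT₀.fromSpec

/-- **Removing the diagonal**: for a separated étale morphism `j` with at most `n + 1` lifts,
the first projection from the complement of the diagonal in `T' ×_T T'` has at most `n` lifts. -/
theorem exists_offDiag {T' T P : Scheme.{u}} (j : T' ⟶ T) [Etale j] [IsSeparated j]
    {p₁ p₂ : P ⟶ T'} (sq : IsPullback p₁ p₂ j j) (δ : T' ⟶ P) (hδ₁ : δ ≫ p₁ = 𝟙 _)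
    (hδ₂ : δ ≫ p₂ = 𝟙 _) :
    ∃ W : P.Opens, (W : Set P) = (Set.range δ)ᶜ ∧ Etale (W.ι ≫ p₁) ∧ IsSeparated (W.ι ≫ p₁) ∧
      ∀ n, BLifts j (n + 1) → BLifts (W.ι ≫ p₁) n := by
  have hδ : δ ≫ sq.isoPullback.hom = pullback.diagonal j := by
    apply pullback.hom_ext
    · rw [Category.assoc, sq.isoPullback_hom_fst, hδ₁, pullback.diagonal_fst]
    · rw [Category.assoc, sq.isoPullback_hom_snd, hδ₂, pullback.diagonal_snd]
  have hδ' : δ = pullback.diagonal j ≫ sq.isoPullback.inv := by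
    rw [← hδ, Category.assoc, Iso.hom_inv_id, Category.comp_id]
  have hcl : IsClosedImmersion δ := by
    rw [hδ']
    infer_instance
  have hp₁e : Etale p₁ := MorphismProperty.of_isPullback (P := @Etale) sq.flip inferInstance
  have hp₁s : IsSeparated p₁ :=
    MorphismProperty.of_isPullback (P := @IsSeparated) sq.flip inferInstance
  refine ⟨⟨(Set.range δ)ᶜ, δ.isClosedEmbedding.isClosed_range.isOpen_compl⟩, rfl,
    inferInstance, inferInstance, ?_⟩
  intro n hb Ω _ γ'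
  set W : P.Opens := ⟨(Set.range δ)ᶜ, δ.isClosedEmbedding.isClosed_range.isOpen_compl⟩
  let G : (Spec (.of Ω) ⟶ W.toScheme) → (Spec (.of Ω) ⟶ T') := fun δ' => δ' ≫ W.ι ≫ p₂
  have hGinj : Set.InjOn G {δ' : Spec (.of Ω) ⟶ W.toScheme | δ' ≫ W.ι ≫ p₁ = γ'} := by
    intro δ₁ h₁ δ₂ h₂ h
    rw [← cancel_mono W.ι]
    apply sq.hom_ext
    · rw [Category.assoc, Category.assoc, h₁, h₂]
    · rw [Category.assoc, Category.assoc]
      exact h
  have hsub : G '' {δ' : Spec (.of Ω) ⟶ W.toScheme | δ' ≫ W.ι ≫ p₁ = γ'} ⊆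
      {γ'' : Spec (.of Ω) ⟶ T' | γ'' ≫ j = γ' ≫ j} \ {γ'} := by
    rintro _ ⟨δ', hδ'mem, rfl⟩
    refine ⟨?_, ?_⟩
    · change (δ' ≫ W.ι ≫ p₂) ≫ j = γ' ≫ j
      rw [Category.assoc, Category.assoc, ← sq.w, ← Category.assoc, ← Category.assoc,
        Category.assoc δ', hδ'mem]
    · intro heq
      have heq' : δ' ≫ W.ι ≫ p₂ = γ' := heq
      have h1 : δ' ≫ W.ι = γ' ≫ δ := by
        apply sq.hom_ext
        · rw [Category.assoc, hδ'mem, Category.assoc, hδ₁, Category.comp_id]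
        · rw [Category.assoc, heq', Category.assoc, hδ₂, Category.comp_id]
      have h2 : (δ' ≫ W.ι) (IsLocalRing.closedPoint Ω) ∈ (W : Set P) := by
        rw [Scheme.Hom.comp_apply]
        exact (δ' (IsLocalRing.closedPoint Ω)).2
      rw [h1, Scheme.Hom.comp_apply] at h2
      exact h2 ⟨_, rfl⟩
  have hmem : γ' ∈ {γ'' : Spec (.of Ω) ⟶ T' | γ'' ≫ j = γ' ≫ j} := rfl
  have h3 := Set.encard_diff_singleton_add_one hmem
  have h4 : {γ'' : Spec (.of Ω) ⟶ T' | γ'' ≫ j = γ' ≫ j}.encard ≤ ((n + 1 : ℕ) : ℕ∞) :=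
    hb Ω (γ' ≫ j)
  have h5 : ({γ'' : Spec (.of Ω) ⟶ T' | γ'' ≫ j = γ' ≫ j} \ {γ'}).encard ≤ n := by
    rw [← h3] at h4
    have h6 : ((n + 1 : ℕ) : ℕ∞) = (n : ℕ∞) + 1 := by push_cast; rfl
    rw [h6] at h4
    exact (ENat.add_le_add_iff_right (by simp)).1 h4
  calc _ = (G '' {δ' : Spec (.of Ω) ⟶ W.toScheme | δ' ≫ W.ι ≫ p₁ = γ'}).encard :=
        hGinj.encard_image.symm
    _ ≤ _ := Set.encard_le_encard hsub
    _ ≤ n := h5

/-- a morphism with no lifts at all has empty source. -/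
theorem isEmpty_of_bLifts_zero {T' T : Scheme.{u}} (j : T' ⟶ T) (h : BLifts j 0) : IsEmpty T' := by
  refine ⟨fun t' => ?_⟩
  let γ' : Spec (.of (T'.residueField t')) ⟶ T' := T'.fromSpecResidueField t'
  have h1 := h (T'.residueField t') (γ' ≫ j)
  have h2 : γ' ∈ {γ'' : Spec (.of (T'.residueField t')) ⟶ T' | γ'' ≫ j = γ' ≫ j} := rfl
  have h3 : {γ'' : Spec (.of (T'.residueField t')) ⟶ T' | γ'' ≫ j = γ' ≫ j}.encard = 0 :=
    nonpos_iff_eq_zero.1 (by exact_mod_cast h1)
  rw [Set.encard_eq_zero] at h3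
  rw [h3] at h2
  exact h2

/-- cancelling a monomorphism in a pullback square. -/
theorem isPullback_of_comp_mono {C : Type*} [Category C] {P X Y W Z : C} {fst : P ⟶ X}
    {snd : P ⟶ Y} {x : X ⟶ W} {y : Y ⟶ W} (m : W ⟶ Z) [Mono m]
    (sq : IsPullback fst snd (x ≫ m) (y ≫ m)) : IsPullback fst snd x y := by
  have hw : fst ≫ x = snd ≫ y := by
    rw [← cancel_mono m, Category.assoc, Category.assoc, sq.w]
  refine ⟨⟨hw⟩, ⟨PullbackCone.IsLimit.mk _
    (fun s => sq.lift s.fst s.snd (by rw [← Category.assoc, s.condition, Category.assoc]))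
    (fun s => sq.lift_fst _ _ _) (fun s => sq.lift_snd _ _ _) ?_⟩⟩
  intro s m' h1 h2
  apply sq.hom_ext
  · rw [h1, sq.lift_fst]
  · rw [h2, sq.lift_snd]

/-- restriction of the localization data along a morphism of the new base. -/
theorem Good.precomp {U V V' V'' : Scheme.{u}} {g : U ⟶ V} {j : V' ⟶ V} {v' : V'}
    (h : Good g j v') (k : V'' ⟶ V') (v'' : V'') (hk : k v'' = v') : Good g (k ≫ j) v'' := by
  obtain ⟨L, hL, hcov⟩ := h
  let φ : pullback g (k ≫ j) ⟶ pullback g j :=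
    pullback.lift (pullback.fst g (k ≫ j)) (pullback.snd g (k ≫ j) ≫ k)
      (by rw [pullback.condition, Category.assoc])
  have hφ1 : φ ≫ pullback.fst g j = pullback.fst g (k ≫ j) := pullback.lift_fst _ _ _
  have hφ2 : φ ≫ pullback.snd g j = pullback.snd g (k ≫ j) ≫ k := pullback.lift_snd _ _ _
  have sqφ : IsPullback φ (pullback.snd g (k ≫ j)) (pullback.snd g j) k := by
    refine IsPullback.of_right ?_ hφ2 (IsPullback.of_hasPullback g j)
    rw [hφ1]
    exact IsPullback.of_hasPullback g (k ≫ j)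
  refine ⟨L.map (fun A => φ ⁻¹ᵁ A), ?_, ?_⟩
  · intro A' hA'
    obtain ⟨A, hA, rfl⟩ := List.mem_map.1 hA'
    obtain ⟨h1, h2⟩ := hL A hA
    have sqA := (isPullback_morphismRestrict φ A).paste_vert sqφ
    exact ⟨h1.preimage φ.continuous, MorphismProperty.of_isPullback (P := @IsFinite) sqA h2⟩
  · intro z hz
    have : pullback.snd g j (φ z) = v' := by
      rw [← Scheme.Hom.comp_apply, hφ2, Scheme.Hom.comp_apply, hz, hk]
    obtain ⟨A, hA, hzA⟩ := hcov _ this
    exact ⟨_, List.mem_map.2 ⟨A, hA, rfl⟩, hzA⟩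

end Groth.Agent.H7.QFin
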