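import Groth.Agent.Lib.Helper7.QFin5
import Groth.Agent.Lib.Helper7.QFin9
import Groth.Agent.Lib.Helper7.LimAffL
import Groth.Agent.Lib.Helper3.Decent.QSepGeneric
import Groth.Agent.Lib.Helper3.AlgSpCov.LargestOpen
import Groth.Agent.Lib.Helper5.AlgSp.OpenSub
import Groth.Agent.Lib.Helper5.AlgSp.SchematicLocus
import Mathlib

/-!
# Separated locally quasi-finite over a scheme ⇒ scheme: descending schematic points along
étale morphisms with boundedly many lifts
-/

set_option autoImplicit false
universe u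

open AlgebraicGeometry CategoryTheory Limits

namespace Groth.Agent.H7.QFinSp

open _root_.AlgSp Groth.Agent.H5.AlgSp Groth.Agent.H5.EtSrc Groth.Agent.H5.Descent
open Groth.Agent.H7.QFin

variable {S : Scheme.{u}}

theorem map_yon_map_schemeHomeo {T' T : Over S} (φ : T' ⟶ T) (t : T'.left) :
    Points.map ((yon S).map φ) (Points.schemeHomeo T' t) = Points.schemeHomeo T (φ.left t) := by
  have := ofPt_yon_map_comp φ (𝟙 _) t
  rw [Category.comp_id] at this
  change Points.map ((yon S).map φ) (Points.ofPt (𝟙 _) t) = _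
  rw [Points.map_ofPt, Category.id_comp, this]
  rfl

/-- the kernel pair of a base change is the base change of the kernel pair. -/
theorem isPullback_kernelPair_baseChange {C : Type*} [Category C] {X X' B B' B'' Z : C}
    {f : X ⟶ B} {b : B' ⟶ B} {pr : X' ⟶ X} {f' : X' ⟶ B'} (sq : IsPullback pr f' f b)
    {p₁ p₂ : Z ⟶ X'} (sqZ : IsPullback p₁ p₂ pr pr) {π₁ π₂ : B'' ⟶ B'}
    (sqB : IsPullback π₁ π₂ b b) (q : Z ⟶ B'') (hq₁ : q ≫ π₁ = p₁ ≫ f')
    (hq₂ : q ≫ π₂ = p₂ ≫ f') : IsPullback q p₁ π₁ f' ∧ IsPullback q p₂ π₂ f' := by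
  constructor
  · refine IsPullback.of_right ?_ hq₁ sqB.flip
    have big := sqZ.flip.paste_horiz sq.flip
    rw [hq₂, ← sq.w]
    exact big
  · refine IsPullback.of_right ?_ hq₂ sqB
    have big := sqZ.paste_horiz sq.flip
    rw [hq₁, ← sq.w]
    exact big

/-- the descent statement, for étale separated morphisms with at most `n` lifts. -/
def DescP (S : Scheme.{u}) (n : ℕ) : Prop :=
  ∀ {T' T : Over S} (j : T' ⟶ T), Etale j.left → IsSeparated j.left → BLifts j.left n →
    ∀ {X : Sp S}, IsAlgSpace X → ∀ (f : X ⟶ (yon S).obj T), IsSeparatedMor f →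
      LocP (@LocallyQuasiFinite ⊓ @LocallyOfFiniteType) f →
      ∀ {X' : Sp S} (pr : X' ⟶ X) (f' : X' ⟶ (yon S).obj T'),
        IsPullback pr f' f ((yon S).map j) →
        ∀ ξ' : Points X', ξ' ∈ schematicSet X' → Points.map pr ξ' ∈ schematicSet X

theorem descP_zero : DescP S 0 := by
  intro T' T j hje hjs hb X hX f hsep hl X' pr f' sq ξ' hξ'
  have := isEmpty_of_bLifts_zero j.left hb
  exact (this.false ((Points.schemeHomeo T').symm (Points.map f' ξ'))).elim

/-- **The covering fact**: two points of the base change with the same image are both schematic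
as soon as one of them is. -/
theorem schematic_of_same_image {n : ℕ} (IH : DescP S n) {T' T : Over S} (j : T' ⟶ T)
    (hje : Etale j.left) (hjs : IsSeparated j.left) (hb : BLifts j.left (n + 1))
    {X : Sp S} (hX : IsAlgSpace X) (f : X ⟶ (yon S).obj T) (hsep : IsSeparatedMor f)
    (hl : LocP (@LocallyQuasiFinite ⊓ @LocallyOfFiniteType) f)
    {X' : Sp S} (pr : X' ⟶ X) (f' : X' ⟶ (yon S).obj T')
    (sq : IsPullback pr f' f ((yon S).map j)) (ξ₁ ξ₂ : Points X')
    (h12 : Points.map pr ξ₁ = Points.map pr ξ₂) (h₂ : ξ₂ ∈ schematicSet X') :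
    ξ₁ ∈ schematicSet X' := by
  have hX' : IsAlgSpace X' :=
    isAlgSpace_pullback (IsAlgSpace.yon_obj T).diag hX (IsAlgSpace.yon_obj T') sq
  have hsep' : IsSeparatedMor f' := repWith_diag_of_isPullback sq hsep
  have hl' : LocP (@LocallyQuasiFinite ⊓ @LocallyOfFiniteType) f' :=
    locP_baseChange_scheme etale_le_lqf_lft sq hX hl
  -- the scheme `T' ×_T T'` and its diagonal
  have sqO := IsPullback.of_hasPullback j j
  have sqL : IsPullback (pullback.fst j j).left (pullback.snd j j).left j.left j.left :=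
    sqO.map (Over.forget S)
  have sqY := sqO.map (yon S)
  let Δ : T' ⟶ pullback j j := pullback.lift (𝟙 T') (𝟙 T') rfl
  have hΔ₁ : Δ ≫ pullback.fst j j = 𝟙 T' := pullback.lift_fst _ _ _
  have hΔ₂ : Δ ≫ pullback.snd j j = 𝟙 T' := pullback.lift_snd _ _ _
  have hΔ₁' : Δ.left ≫ (pullback.fst j j).left = 𝟙 T'.left := by
    rw [← Over.comp_left, hΔ₁]; rfl
  have hΔ₂' : Δ.left ≫ (pullback.snd j j).left = 𝟙 T'.left := by
    rw [← Over.comp_left, hΔ₂]; rfl
  obtain ⟨Wd, hWd, hjse, hjss, hstep⟩ := exists_offDiag j.left sqL Δ.left hΔ₁' hΔ₂'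
  -- the kernel pair of `pr`
  have sqZ := IsPullback.of_hasPullback pr pr
  obtain ⟨ζ, hζ₁, hζ₂⟩ := points_pullback_surjective sqZ ξ₁ ξ₂ h12
  have hcomm : (pullback.fst pr pr ≫ f') ≫ (yon S).map j =
      (pullback.snd pr pr ≫ f') ≫ (yon S).map j := by
    rw [Category.assoc, Category.assoc, ← sq.w, ← Category.assoc, ← Category.assoc, sqZ.w]
  let q : pullback pr pr ⟶ (yon S).obj (pullback j j) :=
    sqY.lift (pullback.fst pr pr ≫ f') (pullback.snd pr pr ≫ f') hcomm
  have hq₁ : q ≫ (yon S).map (pullback.fst j j) = pullback.fst pr pr ≫ f' := sqY.lift_fst _ _ _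
  have hq₂ : q ≫ (yon S).map (pullback.snd j j) = pullback.snd pr pr ≫ f' := sqY.lift_snd _ _ _
  obtain ⟨sqZ₁, sqZ₂⟩ := isPullback_kernelPair_baseChange sq sqZ sqY q hq₁ hq₂
  obtain ⟨τ, hτ⟩ : ∃ τ : (pullback j j).left, Points.schemeHomeo (pullback j j) τ = Points.map q ζ :=
    ⟨(Points.schemeHomeo (pullback j j)).symm (Points.map q ζ), Homeomorph.apply_symm_apply _ _⟩
  by_cases hτΔ : τ ∈ Set.range Δ.left
  · -- the diagonal case: the two points coincide
    obtain ⟨t', ht'⟩ := hτΔ
    have sqE := IsPullback.of_hasPullback q ((yon S).map Δ)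
    obtain ⟨ε, hε₁, -⟩ := points_pullback_surjective sqE ζ (Points.schemeHomeo T' t')
      (by rw [map_yon_map_schemeHomeo, ht', hτ])
    have heq : pullback.fst q ((yon S).map Δ) ≫ pullback.fst pr pr =
        pullback.fst q ((yon S).map Δ) ≫ pullback.snd pr pr := by
      apply sq.hom_ext
      · rw [Category.assoc, Category.assoc, sqZ.w]
      · rw [Category.assoc, Category.assoc, ← hq₁, ← hq₂, ← Category.assoc, ← Category.assoc,
          sqE.w, Category.assoc, Category.assoc, ← Functor.map_comp, ← Functor.map_comp, hΔ₁, hΔ₂]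
    have : ξ₁ = ξ₂ := by
      rw [← hζ₁, ← hζ₂, ← hε₁, ← Points.map_comp, ← Points.map_comp, heq]
    rw [this]
    exact h₂
  · -- the off-diagonal case: induction
    have hτW : τ ∈ Wd := by
      have : τ ∈ (Wd : Set (pullback j j).left) := by rw [hWd]; exact hτΔ
      exact this
    let ιs : overOpen (pullback j j) Wd ⟶ pullback j j := overOpenι (pullback j j) Wd
    have sqS := IsPullback.of_hasPullback q ((yon S).map ιs)
    obtain ⟨ζs, hζs₁, -⟩ := points_pullback_surjective sqS ζ
      (Points.schemeHomeo (overOpen (pullback j j) Wd) ⟨τ, hτW⟩)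
      (by rw [map_yon_map_schemeHomeo, ← hτ]; rfl)
    have sq₁s : IsPullback (pullback.fst q ((yon S).map ιs) ≫ pullback.fst pr pr)
        (pullback.snd q ((yon S).map ιs)) f' ((yon S).map (ιs ≫ pullback.fst j j)) := by
      have := (sqS.flip.paste_vert sqZ₁).flip
      rwa [← Functor.map_comp] at this
    have sq₂s : IsPullback (pullback.fst q ((yon S).map ιs) ≫ pullback.snd pr pr)
        (pullback.snd q ((yon S).map ιs)) f' ((yon S).map (ιs ≫ pullback.snd j j)) := by
      have := (sqS.flip.paste_vert sqZ₂).flip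
      rwa [← Functor.map_comp] at this
    have hrep₂ : Representable (pullback.fst q ((yon S).map ιs) ≫ pullback.snd pr pr) :=
      MorphismProperty.of_isPullback (P := Representable (S := S)) sq₂s.flip
        (representable_yon_map _)
    have hζs : ζs ∈ schematicSet (pullback q ((yon S).map ιs)) := by
      refine Groth.Agent.H7.LimAff.mem_schematicSet_of_representable _ hrep₂ ζs ?_
      rw [Points.map_comp, hζs₁, hζ₂]
      exact h₂
    have hjsl : (ιs ≫ pullback.fst j j).left = Wd.ι ≫ (pullback.fst j j).left := rfl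
    have key := IH (ιs ≫ pullback.fst j j) (by rw [hjsl]; exact hjse) (by rw [hjsl]; exact hjss)
      (by rw [hjsl]; exact hstep n hb) hX' f' hsep' hl' _ _ sq₁s ζs hζs
    rw [Points.map_comp, hζs₁, hζ₁] at key
    exact key

theorem descP_succ {n : ℕ} (IH : DescP S n) : DescP S (n + 1) := by
  intro T' T j hje hjs hb X hX f hsep hl X' pr f' sq ξ' hξ'
  have hX' : IsAlgSpace X' :=
    isAlgSpace_pullback (IsAlgSpace.yon_obj T).diag hX (IsAlgSpace.yon_obj T') sq
  have hsep' : IsSeparatedMor f' := repWith_diag_of_isPullback sq hsep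
  have hl' : LocP (@LocallyQuasiFinite ⊓ @LocallyOfFiniteType) f' :=
    locP_baseChange_scheme etale_le_lqf_lft sq hX hl
  have hjY : RepWith @Etale ((yon S).map j) := (repWith_yon_map_iff @Etale j).2 hje
  have hpre : RepWith @Etale pr :=
    MorphismProperty.of_isPullback (P := RepWith @Etale) sq.flip hjY
  let W : Set (Points X) := Points.map pr '' schematicSet X'
  have hW : IsOpen W := isOpenMap_points_map_of_etale hpre _ (isOpen_schematicSet X')
  have hι₀ : RepWith @IsOpenImmersion (openSubι X W) := repWith_openSubι hW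
  have hU₀ : IsAlgSpace (openSub X W) := isAlgSpace_openSub hX hW
  -- the base change of the open subspace
  have sqU := IsPullback.of_hasPullback (openSubι X W) pr
  have ho' : RepWith @IsOpenImmersion (pullback.snd (openSubι X W) pr) :=
    MorphismProperty.of_isPullback (P := RepWith @IsOpenImmersion) sqU hι₀
  have ho'e : RepWith @Etale (pullback.snd (openSubι X W) pr) :=
    repWith_mono isOpenImmersion_le_etale ho'
  have hmono' : Mono (pullback.snd (openSubι X W) pr) :=
    Groth.Agent.H3.AlgSpCov.mono_of_isOpenImmersion ho'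
  have hU₀' : IsAlgSpace (pullback (openSubι X W) pr) :=
    isAlgSpace_pullback hX.diag hU₀ hX' sqU
  have hmemW : ∀ η₀ : Points (openSub X W), Points.map (openSubι X W) η₀ ∈ W := by
    intro η₀
    have : Points.map (openSubι X W) η₀ ∈ Set.range (Points.map (openSubι X W)) := ⟨η₀, rfl⟩
    rwa [range_points_map_openSubι] at this
  have hall : schematicSet (pullback (openSubι X W) pr) = Set.univ := by
    apply Set.eq_univ_of_forall
    intro η
    have h1 : Points.map pr (Points.map (pullback.snd (openSubι X W) pr) η) ∈ W := by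
      rw [← Points.map_comp, ← sqU.w, Points.map_comp]
      exact hmemW _
    obtain ⟨ξ₂, hξ₂, hξ₂eq⟩ := h1
    have h2 := schematic_of_same_image IH j hje hjs hb hX f hsep hl pr f' sq _ ξ₂ hξ₂eq.symm hξ₂
    exact Groth.Agent.H7.LimAff.mem_schematicSet_of_representable _ ho'.1 η h2
  obtain ⟨Z', ⟨e'⟩⟩ := Groth.Agent.H3.Decent.isRepresentable_of_schematicSet_eq_univ hU₀' hall
  -- the open image of `j`
  let T₁ : T.left.Opens := ⟨Set.range j.left, j.left.isOpenMap.isOpen_range⟩
  let ι₁ : overOpen T T₁ ⟶ T := overOpenι T T₁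
  have hι₁oi : IsOpenImmersion ι₁.left := by
    change IsOpenImmersion (Scheme.Opens.ι (X := T.left) T₁)
    infer_instance
  have hι₁ : RepWith @IsOpenImmersion ((yon S).map ι₁) :=
    (repWith_yon_map_iff @IsOpenImmersion ι₁).2 hι₁oi
  have hmono₁ : Mono ((yon S).map ι₁) := Groth.Agent.H3.AlgSpCov.mono_of_isOpenImmersion hι₁
  have hsub : Set.range j.left ⊆ Set.range (Scheme.Opens.ι (X := T.left) T₁) := by
    rw [Scheme.Opens.range_ι]
    exact subset_rfl
  let j₁l : T'.left ⟶ T₁.toScheme := IsOpenImmersion.lift T₁.ι j.left hsub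
  have hj₁l : j₁l ≫ T₁.ι = j.left := IsOpenImmersion.lift_fac _ _ _
  let j₁ : T' ⟶ overOpen T T₁ := Over.homMk j₁l (by
    change j₁l ≫ T₁.ι ≫ T.hom = T'.hom
    rw [← Category.assoc, hj₁l, Over.w])
  have hj₁ : j₁ ≫ ι₁ = j := by
    apply Over.OverMorphism.ext
    exact hj₁l
  have sqj : IsPullback (𝟙 T'.left) j₁l j.left T₁.ι :=
    IsPullback.of_horiz_isIso_mono ⟨by rw [Category.id_comp, hj₁l]⟩
  have hj₁e : Etale j₁.left := MorphismProperty.of_isPullback (P := @Etale) sqj hje
  have hj₁s : Function.Surjective j₁l := by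
    rintro ⟨t, t', rfl⟩
    refine ⟨t', ?_⟩
    apply T₁.ι.isOpenEmbedding.injective
    rw [← Scheme.Hom.comp_apply, hj₁l]
    rfl
  -- the open subspace maps to the open image
  have hrange : Set.range (Points.map (openSubι X W ≫ f)) ⊆
      Set.range (Points.map ((yon S).map ι₁)) := by
    rintro _ ⟨η₀, rfl⟩
    obtain ⟨ξ₂, -, hξ₂⟩ := hmemW η₀
    refine ⟨Points.map ((yon S).map j₁) (Points.map f' ξ₂), ?_⟩
    rw [← Points.map_comp, ← Functor.map_comp, hj₁, ← Points.map_comp, ← sq.w, Points.map_comp,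
      hξ₂, ← Points.map_comp]
  obtain ⟨g₁, hg₁⟩ := (factors_through_open_iff ((yon S).map ι₁) hι₁ (openSubι X W ≫ f)).2 hrange
  have big : IsPullback (pullback.fst (openSubι X W) pr) (pullback.snd (openSubι X W) pr ≫ f')
      (openSubι X W ≫ f) ((yon S).map j) := sqU.paste_vert sq
  have sqD : IsPullback (pullback.fst (openSubι X W) pr) (pullback.snd (openSubι X W) pr ≫ f')
      g₁ ((yon S).map j₁) := by
    apply QFin.isPullback_of_comp_mono ((yon S).map ι₁)
    rw [hg₁, ← Functor.map_comp, hj₁]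
    exact big
  have hcover : IsFppfCover (fun _ : PUnit.{u + 1} => (yon S).obj T') (fun _ => (yon S).map j₁) := by
    refine ⟨fun _ => ⟨?_, ?_⟩, fun x => ?_⟩
    · exact (locP_yon_map_iff (P := @Flat)
        (fun _ _ g (hg : Etale g) => (inferInstance : Flat g)) j₁).2
        (by have := hj₁e; infer_instance)
    · exact (locP_yon_map_iff (P := @LocallyOfFinitePresentation)
        (fun _ _ g (hg : Etale g) => (inferInstance : LocallyOfFinitePresentation g)) j₁).2
        (by have := hj₁e; infer_instance)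
    · obtain ⟨v₀, rfl⟩ := (Points.schemeHomeo (overOpen T T₁)).surjective x
      obtain ⟨t, ht⟩ := hj₁s v₀
      refine ⟨PUnit.unit, Points.schemeHomeo T' t, ?_⟩
      rw [map_yon_map_schemeHomeo]
      exact congrArg _ ht
  have hrepsnd : Representable (pullback.snd (openSubι X W) pr ≫ f') := by
    obtain ⟨z, hz⟩ := (yon S).map_surjective (e'.hom ≫ pullback.snd (openSubι X W) pr ≫ f')
    have h1 : Representable ((yon S).map z) := representable_yon_map z
    rw [hz] at h1
    exact (MorphismProperty.cancel_left_of_respectsIso (Representable (S := S)) e'.hom _).1 h1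
  have hsepsnd : IsSeparatedMor (pullback.snd (openSubι X W) pr ≫ f') :=
    isSeparatedMor_comp (isSeparatedMor_of_mono _) hsep'
  have hlsnd : LocP (@LocallyQuasiFinite ⊓ @LocallyOfFiniteType)
      (pullback.snd (openSubι X W) pr ≫ f') := locP_comp_etale ho'e hl'
  have hrepg₁ : Representable g₁ :=
    representable_of_jointly_locallySurjective_baseChange_sepLQF
      (fun _ : PUnit.{u + 1} => (yon S).map j₁)
      (Groth.Agent.H3.AlgSpCov.jointLiftSieve_mem_of_isFppfCover (IsAlgSpace.yon_obj _) _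
        (fun _ => IsAlgSpace.yon_obj _) _ hcover)
      (fun _ => sqD)
      (fun _ => repWith_isSeparated_of_isSeparatedMor hrepsnd hsepsnd)
      (fun _ => repWith_of_locP (IsAlgSpace.yon_obj _) hrepsnd (locP_mono inf_le_left hlsnd))
      (fun _ => repWith_of_locP (IsAlgSpace.yon_obj _) hrepsnd (locP_mono inf_le_right hlsnd))
  obtain ⟨Wz, w, fst, sqr⟩ := hrepg₁ (𝟙 ((yon S).obj (overOpen T T₁)))
  have hiso : IsIso fst := sqr.isIso_fst_of_isIso
  -- conclusion
  obtain ⟨η₀, hη₀⟩ : Points.map pr ξ' ∈ Set.range (Points.map (openSubι X W)) := by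
    rw [range_points_map_openSubι]
    exact ⟨ξ', hξ', rfl⟩
  obtain ⟨z₀, hz₀⟩ := ofScheme_surjective Wz (Points.map (inv fst) η₀)
  refine ⟨Wz, fst ≫ openSubι X W,
    (MorphismProperty.cancel_left_of_respectsIso (RepWith (S := S) @IsOpenImmersion) fst _).2 hι₀,
    z₀, ?_⟩
  rw [Points.ofPt_eq_map_ofScheme, hz₀, Points.map_comp, ← Points.map_comp (inv fst) fst,
    IsIso.inv_hom_id, Points.map_id, hη₀]

/-- **Descending schematic points along étale separated morphisms with boundedly many lifts.** -/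
theorem descP (n : ℕ) : DescP S n := by
  induction n with
  | zero => exact descP_zero
  | succ n IH => exact descP_succ IH

end Groth.Agent.H7.QFinSp
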