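import Groth.Agent.Lib.Helper7.QFin10
import Mathlib

/-!
# Separated locally quasi-finite over a scheme ⇒ scheme
-/

set_option autoImplicit false
universe u

open AlgebraicGeometry CategoryTheory Limits

namespace Groth.Agent.H7.QFinSp

open _root_.AlgSp Groth.Agent.H5.AlgSp Groth.Agent.H5.EtSrc Groth.Agent.H5.Descent
open Groth.Agent.H7.QFin

variable {S : Scheme.{u}}

/-- **Every point of an algebraic space separated and locally quasi-finite over a scheme is
schematic.** -/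
theorem mem_schematicSet_of_sepLQF {X : Sp S} (hX : IsAlgSpace X) {T : Over S}
    (f : X ⟶ (yon S).obj T) (hsep : IsSeparatedMor f)
    (hl : LocP (@LocallyQuasiFinite ⊓ @LocallyOfFiniteType) f) (x : Points X) :
    x ∈ schematicSet X := by
  -- a chart through `x`
  obtain ⟨U₀, a₀, ha₀e, ha₀s⟩ := hX.atlas
  obtain ⟨u₀, hu₀⟩ := ofPt_surjective_of_repWith ha₀s x
  obtain ⟨g₀, hg₀⟩ := (yon S).map_surjective (a₀ ≫ f)
  have hgP := hl a₀ (𝟙 _) g₀ ha₀e ((RepWith @Etale).id_mem _) (by rw [Category.comp_id, hg₀])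
  have hg1 : LocallyQuasiFinite g₀.left := hgP.1
  have hg2 : LocallyOfFiniteType g₀.left := hgP.2
  -- affine opens
  obtain ⟨_, ⟨(T₀ : T.left.Opens), hT₀, rfl⟩, huT₀, -⟩ := T.left.isBasis_affineOpens.exists_subset_of_mem_open
    (Set.mem_univ (g₀.left u₀)) isOpen_univ
  obtain ⟨_, ⟨(Uo : U₀.left.Opens), hUo, rfl⟩, huUo, hle : Uo ≤ g₀.left ⁻¹ᵁ T₀⟩ :=
    U₀.left.isBasis_affineOpens.exists_subset_of_mem_open huT₀ (g₀.left ⁻¹ᵁ T₀).2
  have : IsAffine T₀.toScheme := hT₀
  have : IsAffine Uo.toScheme := hUo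
  let gU : Uo.toScheme ⟶ T₀.toScheme := g₀.left.resLE T₀ Uo hle
  have hgU : gU ≫ T₀.ι = Uo.ι ≫ g₀.left := Scheme.Hom.resLE_comp_ι _ _
  -- étale localization, then a standard étale neighbourhood
  obtain ⟨V'₀, j₀, v'₀, hj₀, hv'₀, hgood⟩ := exists_good_nbhd gU ⟨g₀.left u₀, huT₀⟩
  obtain ⟨N, a, n, hNaff, hao, ⟨n₀, hn₀⟩, hNsep, hNb⟩ :=
    exists_standardEtale_nbhd (j₀ ≫ T₀.ι) v'₀
  have hgoodN : Good gU (a ≫ j₀) n₀ := hgood.precomp a n₀ hn₀
  -- structures over `S`
  let No : Over S := Over.mk (a ≫ j₀ ≫ T₀.ι ≫ T.hom)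
  let jN : No ⟶ T := Over.homMk (a ≫ j₀ ≫ T₀.ι) (by simp [No])
  have hjNl : jN.left = a ≫ j₀ ≫ T₀.ι := rfl
  have hjNe : Etale jN.left := by rw [hjNl]; infer_instance
  have hjNs : IsSeparated jN.left := by rw [hjNl]; exact hNsep
  have hjNb : BLifts jN.left n := by rw [hjNl]; exact hNb
  let gUo : overOpen U₀ Uo ⟶ T := overOpenι U₀ Uo ≫ g₀
  have hgUol : gUo.left = gU ≫ T₀.ι := hgU.symm
  have haUe : RepWith @Etale ((yon S).map (overOpenι U₀ Uo) ≫ a₀) := repWith_etale_restrict ha₀e Uo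
  have haUf : ((yon S).map (overOpenι U₀ Uo) ≫ a₀) ≫ f = (yon S).map gUo := by
    rw [Category.assoc, ← hg₀, ← Functor.map_comp]
  -- the pullback of schemes
  have sqO := IsPullback.of_hasPullback gUo jN
  have sqL : IsPullback (pullback.fst gUo jN).left (pullback.snd gUo jN).left gUo.left jN.left :=
    sqO.map (Over.forget S)
  have sqL' : IsPullback (pullback.fst gUo jN).left (pullback.snd gUo jN).left gU (a ≫ j₀) := by
    apply QFin.isPullback_of_comp_mono T₀.ι
    rw [← hgUol, Category.assoc, ← hjNl]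
    exact sqL
  obtain ⟨L, hL, hLcov⟩ := hgoodN.of_isPullback sqL'
  -- the base change and its chart
  have sqX := IsPullback.of_hasPullback f ((yon S).map jN)
  have comm : ((yon S).map (pullback.fst gUo jN) ≫ (yon S).map (overOpenι U₀ Uo) ≫ a₀) ≫ f =
      (yon S).map (pullback.snd gUo jN) ≫ (yon S).map jN := by
    rw [Category.assoc, haUf, ← Functor.map_comp, ← Functor.map_comp, pullback.condition]
  have hfe : Etale (pullback.fst gUo jN).left :=
    MorphismProperty.of_isPullback (P := @Etale) sqL.flip hjNe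
  have ha'1 : RepWith @Etale
      ((yon S).map (pullback.fst gUo jN) ≫ (yon S).map (overOpenι U₀ Uo) ≫ a₀) :=
    repWith_comp_yon_map @Etale _ hfe haUe
  have hb : RepWith @Etale ((yon S).map jN) := (repWith_yon_map_iff @Etale jN).2 hjNe
  have hce : RepWith @Etale (pullback.lift _ _ comm :
      (yon S).obj (pullback gUo jN) ⟶ pullback f ((yon S).map jN)) :=
    Groth.Agent.H7.GorSp.repWith_etale_lift _ ((yon S).map jN) (pullback.snd gUo jN) ha'1 hb comm
  -- the point
  have hpt : gUo.left ⟨u₀, huUo⟩ = jN.left n₀ := by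
    rw [hgUol, hjNl, Scheme.Hom.comp_apply, Scheme.Hom.comp_apply, Scheme.Hom.comp_apply, hn₀, hv'₀,
      ← Scheme.Hom.comp_apply, hgU]
    rfl
  obtain ⟨z', hz'1, hz'2⟩ := Scheme.Pullback.exists_preimage_pullback (f := gUo.left)
    (g := jN.left) ⟨u₀, huUo⟩ n₀ hpt
  let z : (pullback gUo jN).left := sqL.isoPullback.inv z'
  have hz1 : (pullback.fst gUo jN).left z = ⟨u₀, huUo⟩ := by
    rw [← hz'1, ← Scheme.Hom.comp_apply, sqL.isoPullback_inv_fst]
  have hz2 : (pullback.snd gUo jN).left z = n₀ := by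
    rw [← hz'2, ← Scheme.Hom.comp_apply, sqL.isoPullback_inv_snd]
  obtain ⟨A, hA, hzA⟩ := hLcov z hz2
  -- the point of the base change is schematic
  have hsepN : IsSeparatedMor (pullback.snd f ((yon S).map jN)) :=
    repWith_diag_of_isPullback sqX hsep
  have : IsAffine No.left := hNaff
  have key := mem_schematicSet_of_finite_chart (pullback.snd f ((yon S).map jN)) hsepN
    ((yon S).map (overOpenι (pullback gUo jN) A) ≫ pullback.lift _ _ comm)
    (repWith_etale_restrict hce A) (overOpenι (pullback gUo jN) A ≫ pullback.snd gUo jN)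
    (by rw [Category.assoc, pullback.lift_snd, Functor.map_comp]) (hL A hA).2 ⟨z, hzA⟩
  rw [ofPt_restrict] at key
  -- descend
  have fin := descP n jN hjNe hjNs hjNb hX f hsep hl _ _ sqX _ key
  rw [Points.map_ofPt, pullback.lift_fst, ofPt_yon_map_comp, hz1, ofPt_restrict] at fin
  rw [← hu₀]
  exact fin

end Groth.Agent.H7.QFinSp
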