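import Groth.Agent.Lib.Helper7.QFin12
import Mathlib

/-!
# Stacks 0417 as a consequence of 0418 (S10321)
-/

set_option autoImplicit false
universe u

open AlgebraicGeometry CategoryTheory Limits

namespace Groth.Agent.H7.QFinSp

open _root_.AlgSp Groth.Agent.H5.AlgSp Groth.Agent.H5.EtSrc Groth.Agent.H5.Descent
open Groth.Agent.H7.QFin

variable {S : Scheme.{u}}

theorem S10321_main {T T' : Over S} [IsAffine T.left]
    [IsAffine T'.left] (e : T' ⟶ T) [Etale e.left] {X P V' : AlgSp.Space S} (f : X ⟶ (AlgSp.ofScheme S).obj T)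
    (hsep : AlgSp.IsSeparatedMor f.hom) (hqf : AlgSp.LocP (@LocallyQuasiFinite ⊓ @LocallyOfFiniteType) f.hom)
    (p1 : P ⟶ (AlgSp.ofScheme S).obj T') (p2 : P ⟶ X)
    (sq : IsPullback p2.hom p1.hom f.hom ((AlgSp.yon S).map e)) (j : V' ⟶ P)
    (hj : AlgSp.RepWith @IsOpenImmersion j.hom) (hqa : AlgSp.IsQuasiAffineMor (j ≫ p1).hom) :
    ∃ (W : Over S) (i : (AlgSp.yon S).obj W ⟶ X.obj), AlgSp.RepWith @IsOpenImmersion i ∧ CompactSpace ↥W.left ∧
      Set.range (AlgSp.Points.map i) = Set.range (AlgSp.Points.map (j ≫ p2).hom) := by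
  obtain ⟨Z, ⟨ε⟩⟩ := exists_iso_of_sepLQF X.property f.hom hsep hqf
  obtain ⟨W, i₀, fst, sqW, hWqa⟩ := hqa (inferInstance : IsAffine T'.left) (𝟙 ((yon S).obj T'))
  have hfst : IsIso fst := sqW.isIso_fst_of_isIso (IsIso.id _)
  have : CompactSpace ↥W.left := hWqa.toCompactSpace
  obtain ⟨m', hm'⟩ := (yon S).map_surjective (fst ≫ (j.hom ≫ p2.hom) ≫ ε.inv)
  have hm'' : (yon S).map m' ≫ ε.hom = fst ≫ j.hom ≫ p2.hom := by
    rw [hm', Category.assoc, Category.assoc, Iso.inv_hom_id, Category.comp_id]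
  have hp2 : RepWith @Etale p2.hom :=
    MorphismProperty.of_isPullback (P := RepWith @Etale) sq.flip
      ((repWith_yon_map_iff @Etale e).2 inferInstance)
  have hje : RepWith @Etale j.hom := repWith_mono isOpenImmersion_le_etale hj
  have hm'e : RepWith @Etale ((yon S).map m') := by
    rw [hm']
    exact (MorphismProperty.cancel_left_of_respectsIso (RepWith (S := S) @Etale) fst _).2
      ((MorphismProperty.cancel_right_of_respectsIso (RepWith (S := S) @Etale) _ ε.inv).2
        ((RepWith @Etale).comp_mem _ _ hje hp2))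
  have hm'l : Etale m'.left := (repWith_yon_map_iff @Etale m').1 hm'e
  let O : Z.left.Opens := ⟨Set.range m'.left, m'.left.isOpenMap.isOpen_range⟩
  have hOc : CompactSpace ↥O := isCompact_iff_compactSpace.1 (isCompact_range m'.left.continuous)
  have hιO : IsOpenImmersion (overOpenι Z O).left := by
    change IsOpenImmersion (Scheme.Opens.ι (X := Z.left) O)
    infer_instance
  refine ⟨overOpen Z O, (yon S).map (overOpenι Z O) ≫ ε.hom,
    (MorphismProperty.cancel_right_of_respectsIso (RepWith (S := S) @IsOpenImmersion) _ ε.hom).2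
      ((repWith_yon_map_iff @IsOpenImmersion _).2 hιO), hOc, ?_⟩
  have hkey : ∀ w : W.left, Points.map (j.hom ≫ p2.hom) (Points.map fst (Points.schemeHomeo W w)) =
      Points.map ε.hom (Points.schemeHomeo Z (m'.left w)) := by
    intro w
    rw [← Points.map_comp, ← hm'', Points.map_comp, map_yon_map_schemeHomeo]
  apply Set.eq_of_subset_of_subset
  · rintro _ ⟨ξ, rfl⟩
    obtain ⟨⟨z, w, rfl⟩, rfl⟩ := (Points.schemeHomeo (overOpen Z O)).surjective ξ
    refine ⟨Points.map fst (Points.schemeHomeo W w), ?_⟩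
    change Points.map (j.hom ≫ p2.hom) _ = _
    rw [hkey, Points.map_comp, map_yon_map_schemeHomeo]
    rfl
  · rintro _ ⟨v, rfl⟩
    obtain ⟨w, hw⟩ := (Points.schemeHomeo W).surjective (Points.map (inv fst) v)
    have hv : v = Points.map fst (Points.schemeHomeo W w) := by
      rw [hw, ← Points.map_comp, IsIso.inv_hom_id, Points.map_id]
    refine ⟨Points.schemeHomeo (overOpen Z O) ⟨m'.left w, ⟨w, rfl⟩⟩, ?_⟩
    change _ = Points.map (j.hom ≫ p2.hom) v
    rw [hv, hkey, Points.map_comp, map_yon_map_schemeHomeo]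
    rfl

end Groth.Agent.H7.QFinSp
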