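import Groth.Agent.Lib.Helper7.QFin12
import Groth.Agent.Lib.Helper7.QFin7
import Groth.Agent.Lib.Helper7.ClImm5
import Groth.Agent.Lib.Helper3.AlgSpMor.EtaleMono
import Mathlib

/-!
# Étale localization of quasi-finite separated morphisms of algebraic spaces, one point (S10677)
-/

set_option autoImplicit false
universe u

open AlgebraicGeometry CategoryTheory Limits

namespace Groth.Agent.H7.QFinSp

open _root_.AlgSp Groth.Agent.H5.AlgSp Groth.Agent.H5.EtSrc Groth.Agent.H5.Descent
open Groth.Agent.H7.QFin Groth.Agent.H7.ClImmSp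

variable {S : Scheme.{u}}

/-- a finite étale monomorphic chart is an open and closed immersion. -/
theorem clopen_of_finite_etale_mono {P : Sp S} (hP : IsAlgSpace P) {A : Over S}
    (jV : (yon S).obj A ⟶ P) [Mono jV] (he : RepWith @Etale jV) (hf : RepWith @IsFinite jV) :
    RepWith @IsOpenImmersion jV ∧ RepWith @IsClosedImmersion jV := by
  refine ⟨Groth.Agent.H3.AlgSpProp.repWith_isOpenImmersion_of_mono_of_isEtaleMor
    (IsAlgSpace.yon_obj A) jV (Groth.Agent.H3.Decent.isEtaleMor_of_repWith jV he), ?_⟩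
  refine repWith_isClosedImmersion_of_mono (IsAlgSpace.yon_obj A) hP jV ?_ ?_
  · exact locP_of_repWith (P := @LocallyOfFiniteType)
      (fun _ _ g (hg : Etale g) => (inferInstance : LocallyOfFiniteType g))
      (repWith_mono finite_le_lft hf)
  · exact isUnivClosedMor_of_repWith (repWith_mono finite_le_univClosed hf)

/-- **A quasi-finite open part of a separated morphism to a scheme is a scheme.**  Given a
separated morphism `q : X₁ ⟶ h_V` and an étale chart `c : h_W ⟶ X₁` such that `W ⟶ V` is locally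
quasi-finite, the open image of `c` is a scheme, separated and locally quasi-finite over `V`. -/
theorem exists_scheme_open_of_lqf_chart {X₁ : Sp S} (hX₁ : IsAlgSpace X₁) {V W : Over S}
    (q : X₁ ⟶ (yon S).obj V) (hq : IsSeparatedMor q) (c : (yon S).obj W ⟶ X₁)
    (hce : RepWith @Etale c) (w : W ⟶ V) (hcw : c ≫ q = (yon S).map w)
    (hw : (@LocallyQuasiFinite ⊓ @LocallyOfFiniteType : MorphismProperty Scheme.{u}) w.left) :
    ∃ (Z : Over S) (i : (yon S).obj Z ⟶ X₁) (k : Z ⟶ V) (m : W ⟶ Z),
      RepWith @IsOpenImmersion i ∧ i ≫ q = (yon S).map k ∧ (yon S).map m ≫ i = c ∧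
      IsSeparated k.left ∧ LocallyQuasiFinite k.left ∧ LocallyOfFiniteType k.left := by
  have hΩ : IsOpen (Set.range (Points.ofPt c)) := Groth.Agent.H3.AlgSpProp.isOpen_range_ofPt hce
  have hι : RepWith @IsOpenImmersion (openSubι X₁ (Set.range (Points.ofPt c))) :=
    repWith_openSubι hΩ
  have hXo : IsAlgSpace (openSub X₁ (Set.range (Points.ofPt c))) := isAlgSpace_openSub hX₁ hΩ
  have hmono : Mono (openSubι X₁ (Set.range (Points.ofPt c))) :=
    Groth.Agent.H3.AlgSpCov.mono_of_isOpenImmersion hι
  obtain ⟨co, hco⟩ := (factors_openSubι_iff X₁ (Set.range (Points.ofPt c)) c).2 (fun t => ⟨t, rfl⟩)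
  have hcoe : RepWith @Etale co :=
    repWith_of_comp_mono (openSubι X₁ (Set.range (Points.ofPt c))) (by rw [hco]; exact hce)
  have hcos : RepWith @Surjective co := by
    refine repWith_surjective_of_points hcoe.1 ?_
    intro ξ
    have h1 : Points.map (openSubι X₁ (Set.range (Points.ofPt c))) ξ ∈ Set.range (Points.ofPt c) := by
      have : Points.map (openSubι X₁ (Set.range (Points.ofPt c))) ξ ∈
          Set.range (Points.map (openSubι X₁ (Set.range (Points.ofPt c)))) := ⟨ξ, rfl⟩
      rwa [range_points_map_openSubι] at this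
    obtain ⟨t, ht⟩ := h1
    refine ⟨Points.ofScheme W t, ?_⟩
    apply points_map_injective_of_mono (openSubι X₁ (Set.range (Points.ofPt c)))
    rw [← Points.map_comp, hco, ← ht, Points.ofPt_eq_map_ofScheme]
  have hl : LocP (@LocallyQuasiFinite ⊓ @LocallyOfFiniteType)
      (openSubι X₁ (Set.range (Points.ofPt c)) ≫ q) :=
    locP_of_one_chart etale_le_lqf_lft co (𝟙 _) w hcoe hcos ((RepWith @Etale).id_mem _)
      (by rw [← Category.assoc, hco, hcw, Category.comp_id]) hw
  have hsep : IsSeparatedMor (openSubι X₁ (Set.range (Points.ofPt c)) ≫ q) :=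
    isSeparatedMor_comp (isSeparatedMor_of_mono _) hq
  obtain ⟨Z, ⟨e⟩⟩ := exists_iso_of_sepLQF hXo _ hsep hl
  obtain ⟨k, hk⟩ := (yon S).map_surjective (e.hom ≫ openSubι X₁ (Set.range (Points.ofPt c)) ≫ q)
  obtain ⟨m, hm⟩ := (yon S).map_surjective (co ≫ e.inv)
  have hrep : Representable (openSubι X₁ (Set.range (Points.ofPt c)) ≫ q) := by
    have h1 : Representable ((yon S).map k) := representable_yon_map k
    rw [hk] at h1
    exact (MorphismProperty.cancel_left_of_respectsIso (Representable (S := S)) e.hom _).1 h1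
  have hk1 : RepWith @IsSeparated ((yon S).map k) := by
    rw [hk]
    exact (MorphismProperty.cancel_left_of_respectsIso (RepWith (S := S) @IsSeparated) e.hom _).2
      (repWith_isSeparated_of_isSeparatedMor hrep hsep)
  have hk2 : RepWith @LocallyQuasiFinite ((yon S).map k) := by
    rw [hk]
    exact (MorphismProperty.cancel_left_of_respectsIso (RepWith (S := S) @LocallyQuasiFinite)
      e.hom _).2 (repWith_of_locP (IsAlgSpace.yon_obj _) hrep (locP_mono inf_le_left hl))
  have hk3 : RepWith @LocallyOfFiniteType ((yon S).map k) := by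
    rw [hk]
    exact (MorphismProperty.cancel_left_of_respectsIso (RepWith (S := S) @LocallyOfFiniteType)
      e.hom _).2 (repWith_of_locP (IsAlgSpace.yon_obj _) hrep (locP_mono inf_le_right hl))
  refine ⟨Z, e.hom ≫ openSubι X₁ (Set.range (Points.ofPt c)), k, m,
    (MorphismProperty.cancel_left_of_respectsIso (RepWith (S := S) @IsOpenImmersion) e.hom _).2 hι,
    by rw [Category.assoc, hk], ?_, (repWith_yon_map_iff _ k).1 hk1,
    (repWith_yon_map_iff _ k).1 hk2, (repWith_yon_map_iff _ k).1 hk3⟩
  rw [hm, Category.assoc, Iso.inv_hom_id_assoc, hco]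

theorem schemeHomeo_eq_ofPt (T : Over S) (t : T.left) :
    Points.schemeHomeo T t = Points.ofPt (𝟙 _) t := rfl

theorem S10677_main {X Y : AlgSp.Space S} (f : X ⟶ Y) (x : AlgSp.Points X.obj)
    (hf1 : AlgSp.LocP @LocallyOfFiniteType f.hom) (hf2 : AlgSp.IsSeparatedMor f.hom)
    (hf3 : AlgSp.HasAtMor (fun U _ h u => ∃ W : U.Opens, u ∈ W ∧ LocallyQuasiFinite (W.ι ≫ h) ∧ LocallyOfFiniteType (W.ι ≫ h)) f.hom x) :
    ∃ (U : AlgSp.Space S) (a : U ⟶ Y) (u : AlgSp.Points U.obj), AlgSp.IsEtaleMor a.hom ∧
      AlgSp.Points.map a.hom u = AlgSp.Points.map f.hom x ∧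
      ∀ (P : AlgSp.Space S) (prX : P ⟶ X) (prU : P ⟶ U), IsPullback prX.hom prU.hom f.hom a.hom →
        ∃ (V : AlgSp.Space S) (jV : V ⟶ P), AlgSp.RepWith @IsOpenImmersion jV.hom ∧ AlgSp.RepWith @IsClosedImmersion jV.hom ∧
          AlgSp.IsFiniteMor (jV ≫ prU).hom ∧
          ∃ v : AlgSp.Points V.obj, AlgSp.Points.map (jV ≫ prX).hom v = x ∧ AlgSp.Points.map (jV ≫ prU).hom v = u := by
  obtain ⟨U₁, V₁, a, b, h, u₁, hae, hbe, hcomm, hxu, W₁, hu₁W, hlqf, hlft⟩ := hf3
  -- base change to `V₁`
  have sqX₁ := IsPullback.of_hasPullback f.hom b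
  have hX₁ : IsAlgSpace (pullback f.hom b) :=
    isAlgSpace_pullback Y.property.diag X.property (IsAlgSpace.yon_obj V₁) sqX₁
  have hq₁ : IsSeparatedMor (pullback.snd f.hom b) := repWith_diag_of_isPullback sqX₁ hf2
  have hpr₁ : RepWith @Etale (pullback.fst f.hom b) :=
    MorphismProperty.of_isPullback (P := RepWith @Etale) sqX₁.flip hbe
  -- the chart
  have commc : ((yon S).map (overOpenι U₁ W₁) ≫ a) ≫ f.hom =
      (yon S).map (overOpenι U₁ W₁ ≫ h) ≫ b := by
    rw [Category.assoc, hcomm, Functor.map_comp, Category.assoc]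
  have hce : RepWith @Etale (pullback.lift _ _ commc :
      (yon S).obj (overOpen U₁ W₁) ⟶ pullback f.hom b) :=
    Groth.Agent.H7.GorSp.repWith_etale_lift _ b (overOpenι U₁ W₁ ≫ h)
      (repWith_etale_restrict hae W₁) hbe commc
  have hw : (@LocallyQuasiFinite ⊓ @LocallyOfFiniteType : MorphismProperty Scheme.{u})
      (overOpenι U₁ W₁ ≫ h).left := ⟨hlqf, hlft⟩
  obtain ⟨Z, i, k, m, hi, hik, hmi, hks, hkq, hkt⟩ := exists_scheme_open_of_lqf_chart hX₁
    (pullback.snd f.hom b) hq₁ (pullback.lift _ _ commc) hce (overOpenι U₁ W₁ ≫ h)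
    (pullback.lift_snd _ _ _) hw
  have himono : Mono i := Groth.Agent.H3.AlgSpCov.mono_of_isOpenImmersion hi
  have hmk : m ≫ k = overOpenι U₁ W₁ ≫ h := by
    apply (yon S).map_injective
    rw [Functor.map_comp, ← hik, ← Category.assoc, hmi, pullback.lift_snd]
  have hkz : k.left (m.left ⟨u₁, hu₁W⟩) = h.left u₁ := by
    rw [← Scheme.Hom.comp_apply, ← Over.comp_left, hmk]
    rfl
  -- Mathlib's étale localization at the point
  obtain ⟨U₂, g, hge, -, A, B, v, hAB, hAfin, hv⟩ :=
    exists_etale_isCompl_of_quasiFiniteAt k.left hkz (k.left.quasiFiniteAt _)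
  let U₂o : Over S := Over.mk (g ≫ V₁.hom)
  let go : U₂o ⟶ V₁ := Over.homMk g rfl
  have hgoe : Etale go.left := hge
  let Po : Over S := Over.mk (pullback.fst k.left g ≫ Z.hom)
  let po₁ : Po ⟶ Z := Over.homMk (pullback.fst k.left g) rfl
  let po₂ : Po ⟶ U₂o := Over.homMk (pullback.snd k.left g) (by
    change pullback.snd k.left g ≫ g ≫ V₁.hom = pullback.fst k.left g ≫ Z.hom
    rw [← Category.assoc, ← pullback.condition, Category.assoc, Over.w k])
  have sqPo : IsPullback po₁ po₂ k go :=
    IsPullback.of_map (Over.forget S) (Over.OverMorphism.ext pullback.condition)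
      (IsPullback.of_hasPullback k.left g)
  have sqPoY := sqPo.map (yon S)
  have hb' : RepWith @Etale ((yon S).map go ≫ b) := repWith_comp_yon_map @Etale go hgoe hbe
  refine ⟨⟨(yon S).obj U₂o, IsAlgSpace.yon_obj _⟩, ObjectProperty.homMk ((yon S).map go ≫ b),
    Points.schemeHomeo U₂o (pullback.snd k.left g v.1),
    Groth.Agent.H3.Decent.isEtaleMor_of_repWith _ hb', ?_, ?_⟩
  · change Points.map ((yon S).map go ≫ b) _ = _
    rw [Points.map_comp, map_yon_map_schemeHomeo, ← hxu, Points.map_ofPt, hcomm,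
      ofPt_yon_map_comp, schemeHomeo_eq_ofPt, Points.map_ofPt, Category.id_comp]
    congr 1
    change g (pullback.snd k.left g v.1) = h.left u₁
    rw [← Scheme.Hom.comp_apply, ← pullback.condition, Scheme.Hom.comp_apply, hv, hkz]
  · intro P prX prU sq
    have sq' : IsPullback prX.hom prU.hom f.hom ((yon S).map go ≫ b) := sq
    have hιA : IsOpenImmersion (overOpenι Po A).left := by
      change IsOpenImmersion (Scheme.Opens.ι (X := Po.left) A)
      infer_instance
    have hιAm : Mono ((yon S).map (overOpenι Po A)) :=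
      Groth.Agent.H3.AlgSpCov.mono_of_isOpenImmersion
        ((repWith_yon_map_iff @IsOpenImmersion _).2 hιA)
    have comm : ((yon S).map (overOpenι Po A ≫ po₁) ≫ i ≫ pullback.fst f.hom b) ≫ f.hom =
        (yon S).map (overOpenι Po A ≫ po₂) ≫ (yon S).map go ≫ b := by
      rw [Category.assoc, Category.assoc, pullback.condition, ← Category.assoc i, hik,
        ← Category.assoc, ← Functor.map_comp, ← Category.assoc, ← Functor.map_comp,
        Category.assoc, Category.assoc, sqPo.w]
    have hfste : Etale (overOpenι Po A ≫ po₁).left := by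
      change Etale (Scheme.Opens.ι (X := Po.left) A ≫ pullback.fst k.left g)
      infer_instance
    have hαe : RepWith @Etale ((yon S).map (overOpenι Po A ≫ po₁) ≫ i ≫ pullback.fst f.hom b) :=
      repWith_comp_yon_map @Etale _ hfste
        ((RepWith @Etale).comp_mem _ _ (repWith_mono isOpenImmersion_le_etale hi) hpr₁)
    have hprXe : RepWith @Etale prX.hom :=
      MorphismProperty.of_isPullback (P := RepWith @Etale) sq'.flip hb'
    have hje : RepWith @Etale (sq'.lift _ _ comm) := by
      refine repWith_etale_of_comp (b := prX.hom) ?_ hprXe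
      rw [sq'.lift_fst]
      exact hαe
    have hjf : RepWith @IsFinite (sq'.lift _ _ comm) :=
      repWith_isFinite_chart prU.hom (repWith_diag_of_isPullback sq' hf2) _
        (overOpenι Po A ≫ po₂) (sq'.lift_snd _ _ _) hAfin
    have hjm : Mono (sq'.lift _ _ comm) := by
      refine ⟨fun {T} t₁ t₂ ht => ?_⟩
      have h1 : t₁ ≫ (yon S).map (overOpenι Po A ≫ po₁) ≫ i ≫ pullback.fst f.hom b =
          t₂ ≫ (yon S).map (overOpenι Po A ≫ po₁) ≫ i ≫ pullback.fst f.hom b := by
        have := congrArg (fun r => r ≫ prX.hom) ht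
        simpa only [Category.assoc, sq'.lift_fst] using this
      have h2 : t₁ ≫ (yon S).map (overOpenι Po A ≫ po₂) =
          t₂ ≫ (yon S).map (overOpenι Po A ≫ po₂) := by
        have := congrArg (fun r => r ≫ prU.hom) ht
        simpa only [Category.assoc, sq'.lift_snd] using this
      have h3 : t₁ ≫ (yon S).map (overOpenι Po A ≫ po₁) ≫ i =
          t₂ ≫ (yon S).map (overOpenι Po A ≫ po₁) ≫ i := by
        apply pullback.hom_ext
        · simpa only [Category.assoc] using h1
        · rw [Category.assoc, Category.assoc, Category.assoc, Category.assoc, hik,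
            ← Functor.map_comp, Category.assoc, sqPo.w, ← Category.assoc (overOpenι Po A),
            Functor.map_comp, ← Category.assoc, ← Category.assoc, h2]
      have h4 : t₁ ≫ (yon S).map (overOpenι Po A ≫ po₁) =
          t₂ ≫ (yon S).map (overOpenι Po A ≫ po₁) := by
        rw [← cancel_mono i]
        simpa only [Category.assoc] using h3
      rw [← cancel_mono ((yon S).map (overOpenι Po A))]
      apply sqPoY.hom_ext
      · simpa only [Category.assoc, ← Functor.map_comp] using h4
      · simpa only [Category.assoc, ← Functor.map_comp] using h2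
    obtain ⟨hjo, hjc⟩ := clopen_of_finite_etale_mono P.property (sq'.lift _ _ comm) hje hjf
    refine ⟨⟨(yon S).obj (overOpen Po A), IsAlgSpace.yon_obj _⟩,
      ObjectProperty.homMk (sq'.lift _ _ comm), hjo, hjc, ?_, Points.schemeHomeo _ v, ?_, ?_⟩
    · change IsFiniteMor (sq'.lift _ _ comm ≫ prU.hom)
      rw [sq'.lift_snd]
      exact isFiniteMor_iff_repWith.2 ((repWith_yon_map_iff @IsFinite _).2 hAfin)
    · change Points.map (sq'.lift _ _ comm ≫ prX.hom) _ = x
      rw [sq'.lift_fst, Points.map_comp, map_yon_map_schemeHomeo]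
      have : (overOpenι Po A ≫ po₁).left v = m.left ⟨u₁, hu₁W⟩ := hv
      rw [this, ← map_yon_map_schemeHomeo, ← Points.map_comp, ← Category.assoc, hmi,
        pullback.lift_fst, schemeHomeo_eq_ofPt, Points.map_ofPt, Category.id_comp, ofPt_restrict]
      exact hxu
    · change Points.map (sq'.lift _ _ comm ≫ prU.hom) _ = _
      rw [sq'.lift_snd, map_yon_map_schemeHomeo]
      rfl

end Groth.Agent.H7.QFinSp
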