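import Groth.Agent.Lib.Helper7.QFin18
import Groth.Agent.Lib.Helper5.AlgSp.Limits.EvClosedImmSp
import Groth.Agent.Lib.Helper5.AlgSp.QCompact
import Mathlib

/-!
# Finiteness of the fibre of the quasi-finite locus: the quasi-compact case
-/

set_option autoImplicit false
universe u

open AlgebraicGeometry CategoryTheory Limits

namespace Groth.Agent.H7.QFinSp

open _root_.AlgSp Groth.Agent.H5.AlgSp Groth.Agent.H5.EtSrc Groth.Agent.H5.Descent
open Groth.Agent.H7.QFin

variable {S : Scheme.{u}}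

/-- **Finiteness, quasi-compact case.**  Let `f : X ⟶ Y` be quasi-compact and locally of finite
type, `X' ⊂ X` an open subspace, `b₀ : V₀ ⟶ Y` an étale chart by an affine scheme and
`Z = X' ×_Y V₀` a scheme, locally quasi-finite over `V₀`.  Then the fibres of `Z ⟶ V₀` are
finite. -/
theorem finite_fibre_of_quasiCompact {X Y : Sp S} (hX : IsAlgSpace X) (hY : IsAlgSpace Y)
    (f : X ⟶ Y) (hf1 : LocP @LocallyOfFiniteType f) (hqc : IsQuasiCompactMor f)
    {X' : Sp S} (ι : X' ⟶ X) (hι : RepWith @IsOpenImmersion ι)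
    {V₀ Z : Over S} [IsAffine V₀.left] (b₀ : (yon S).obj V₀ ⟶ Y) (hb₀ : RepWith @Etale b₀)
    (i : (yon S).obj Z ⟶ X') (k : Z ⟶ V₀) (sqZ : IsPullback i ((yon S).map k) (ι ≫ f) b₀)
    [LocallyQuasiFinite k.left] (v₀ : V₀.left) :
    {z : Z.left | k.left z = v₀}.Finite := by
  have sq₀ := IsPullback.of_hasPullback f b₀
  have hX₀ : IsAlgSpace (pullback f b₀) :=
    isAlgSpace_pullback hY.diag hX (IsAlgSpace.yon_obj V₀) sq₀
  have hX₀qc : IsQuasiCompactSp (pullback f b₀) :=
    hqc (IsAlgSpace.yon_obj V₀) ((isQuasiCompactSp_yon_iff V₀).2 inferInstance) b₀ _ _ sq₀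
  obtain ⟨W, c, hWa, hce, hcs⟩ :=
    Groth.Agent.H5.AlgSp.Lim.exists_affine_chart_of_isQuasiCompactSp hX₀qc
  obtain ⟨h, hh⟩ := (yon S).map_surjective (c ≫ pullback.snd f b₀)
  have hfst₀ : RepWith @Etale (pullback.fst f b₀) :=
    MorphismProperty.of_isPullback (P := RepWith @Etale) sq₀.flip hb₀
  haveI hlft : LocallyOfFiniteType h.left :=
    hf1 (c ≫ pullback.fst f b₀) b₀ h ((RepWith @Etale).comp_mem _ _ hce hfst₀) hb₀ (by
      rw [Category.assoc, pullback.condition, ← Category.assoc, hh])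
  haveI : QuasiCompact h.left := (quasiCompact_iff_compactSpace _).2 inferInstance
  -- the open subspace `Z` of `X₀`
  have hmw : (i ≫ ι) ≫ f = (yon S).map k ≫ b₀ := by rw [Category.assoc, sqZ.w]
  have hm2 : pullback.lift (i ≫ ι) ((yon S).map k) hmw ≫ pullback.snd f b₀ = (yon S).map k :=
    pullback.lift_snd _ _ _
  have sqZ' : IsPullback i (pullback.lift (i ≫ ι) ((yon S).map k) hmw ≫ pullback.snd f b₀)
      (ι ≫ f) b₀ := by rw [hm2]; exact sqZ
  have sqm : IsPullback i (pullback.lift (i ≫ ι) ((yon S).map k) hmw) ι (pullback.fst f b₀) :=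
    IsPullback.of_bot sqZ' (pullback.lift_fst _ _ _).symm sq₀
  have hm : RepWith @IsOpenImmersion (pullback.lift (i ≫ ι) ((yon S).map k) hmw) :=
    MorphismProperty.of_isPullback (P := RepWith @IsOpenImmersion) sqm hι
  -- the part `W'` of the chart over `Z`
  have sqW := hm.rep.isPullback c
  obtain ⟨ω, hω⟩ := (yon S).map_surjective (hm.rep.fst c)
  rw [← hω] at sqW
  haveI hw₁ : IsOpenImmersion (hm.rep.snd c).left := hm.property_snd c
  have hωe : Etale ω.left := hce.property _ _ _ sqW.flip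
  have hωs : Surjective ω.left := hcs.property _ _ _ sqW.flip
  have hcomm : ω ≫ k = hm.rep.snd c ≫ h := by
    apply (yon S).map_injective
    rw [Functor.map_comp, Functor.map_comp, hh, ← Category.assoc, ← sqW.w, Category.assoc, hm2]
  have hcomm' : ω.left ≫ k.left = (hm.rep.snd c).left ≫ h.left := by
    rw [← Over.comp_left, ← Over.comp_left, hcomm]
  haveI : LocallyQuasiFinite ω.left := locallyQuasiFinite_of_unramified' ω.left
  haveI : LocallyQuasiFinite ((hm.rep.snd c).left.opensRange.ι ≫ h.left) := by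
    rw [← Scheme.Hom.isoOpensRange_inv_comp, Category.assoc, ← hcomm']
    infer_instance
  have hfin := finite_fibre_inter_open h.left (hm.rep.snd c).left.opensRange v₀
  refine ((hfin.preimage (Set.injOn_of_injective (hm.rep.snd c).left.injective)).image
    ω.left).subset ?_
  intro z hz
  obtain ⟨w', rfl⟩ := hωs.surj z
  refine ⟨w', ⟨⟨w', rfl⟩, ?_⟩, rfl⟩
  rw [← Scheme.Hom.comp_apply, ← hcomm', Scheme.Hom.comp_apply]
  exact hz

end Groth.Agent.H7.QFinSp
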