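import Groth.Agent.Lib.Helper7.QFin1
import Mathlib

/-!
# Étale localization of quasi-finite morphisms: the whole fibre
-/

set_option autoImplicit false
universe u

open AlgebraicGeometry CategoryTheory Limits

namespace Groth.Agent.H7.QFin

/-- Unramified morphisms locally of finite type are locally quasi-finite (after helper5). -/
lemma locallyQuasiFinite_of_unramified' {X Y : Scheme.{u}} (f : X ⟶ Y) [LocallyOfFiniteType f]
    [FormallyUnramified f] : LocallyQuasiFinite f := by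
  rw [HasRingHomProperty.iff_appLE (P := @LocallyQuasiFinite)]
  intro U V e
  have h1 := HasRingHomProperty.appLE (P := @LocallyOfFiniteType) f inferInstance U V e
  have h2 := HasRingHomProperty.appLE (P := @FormallyUnramified) f inferInstance U V e
  algebraize [(f.appLE U.1 V.1 e).hom]
  have : Algebra.EssFiniteType Γ(Y, U.1) Γ(X, V.1) := inferInstance
  exact inferInstanceAs (Algebra.QuasiFinite _ _)

/-- the data produced by the localization: a finite list of clopen pieces of the base change,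
each finite over the new base, covering the fibre over the marked point. -/
def Good {U V V' : Scheme.{u}} (g : U ⟶ V) (j : V' ⟶ V) (v' : V') : Prop :=
  ∃ L : List (pullback g j).Opens,
    (∀ A ∈ L, IsClosed (A : Set ↥(pullback g j)) ∧ IsFinite (A.ι ≫ pullback.snd g j)) ∧
    ∀ z : ↥(pullback g j), pullback.snd g j z = v' → ∃ A ∈ L, z ∈ A

/-- transport of the data to an arbitrary pullback square. -/
theorem Good.of_isPullback {U V V' : Scheme.{u}} {g : U ⟶ V} {j : V' ⟶ V} {v' : V'}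
    (h : Good g j v') {P : Scheme.{u}} {fst : P ⟶ U} {snd : P ⟶ V'}
    (sq : IsPullback fst snd g j) :
    ∃ L : List P.Opens, (∀ A ∈ L, IsClosed (A : Set ↥P) ∧ IsFinite (A.ι ≫ snd)) ∧
      ∀ z : ↥P, snd z = v' → ∃ A ∈ L, z ∈ A := by
  obtain ⟨L, hL, hcov⟩ := h
  obtain ⟨e, he⟩ : ∃ e : P ≅ pullback g j, e.hom ≫ pullback.snd g j = snd :=
    ⟨sq.isoPullback, sq.isoPullback_hom_snd⟩
  subst he
  refine ⟨L.map (fun A => e.hom ⁻¹ᵁ A), ?_, ?_⟩
  · intro A' hA'
    obtain ⟨A, hA, rfl⟩ := List.mem_map.1 hA'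
    obtain ⟨h1, h2⟩ := hL A hA
    refine ⟨h1.preimage e.hom.continuous, ?_⟩
    have : (e.hom ⁻¹ᵁ A).ι ≫ e.hom ≫ pullback.snd g j =
        (e.hom ∣_ A) ≫ A.ι ≫ pullback.snd g j := by
      rw [← Category.assoc, ← morphismRestrict_ι, Category.assoc]
    rw [this]
    infer_instance
  · intro z hz
    have hz' : pullback.snd g j (e.hom z) = v' := by
      rw [← hz, Scheme.Hom.comp_apply]
    obtain ⟨A, hA, hzA⟩ := hcov _ hz'
    exact ⟨_, List.mem_map.2 ⟨A, hA, rfl⟩, hzA⟩

/-- the combination step. -/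
theorem good_combine {U V V₁ V₂ : Scheme.{u}} (g : U ⟶ V) (j₁ : V₁ ⟶ V)
    (A₁ B₁ : (pullback g j₁).Opens) (hAB : IsCompl A₁ B₁)
    (hA₁ : IsFinite (A₁.ι ≫ pullback.snd g j₁)) (j₂ : V₂ ⟶ V₁) (v₂ : V₂)
    (h₂ : Good (B₁.ι ≫ pullback.snd g j₁) j₂ v₂) : Good g (j₂ ≫ j₁) v₂ := by
  obtain ⟨L₂, hL₂, hcov₂⟩ := h₂
  -- complementarity as sets
  have hcompl : ∀ x : ↥(pullback g j₁), x ∈ A₁ ∨ x ∈ B₁ := by
    intro x
    have : x ∈ (A₁ ⊔ B₁ : (pullback g j₁).Opens) := by
      rw [hAB.sup_eq_top]; trivial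
    exact TopologicalSpace.Opens.mem_sup.1 this
  have hdisj : ∀ x : ↥(pullback g j₁), x ∈ A₁ → x ∈ B₁ → False := by
    intro x h1 h2
    have : x ∈ (A₁ ⊓ B₁ : (pullback g j₁).Opens) := ⟨h1, h2⟩
    rw [hAB.inf_eq_bot] at this
    exact this
  have hA₁cl : IsClosed (A₁ : Set ↥(pullback g j₁)) := by
    have : (A₁ : Set ↥(pullback g j₁)) = (B₁ : Set ↥(pullback g j₁))ᶜ := by
      ext x
      constructor
      · intro h1 h2; exact hdisj x h1 h2
      · intro h; rcases hcompl x with h1 | h1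
        · exact h1
        · exact absurd h1 h
    rw [this]
    exact B₁.isOpen.isClosed_compl
  have hB₁cl : IsClosed (B₁ : Set ↥(pullback g j₁)) := by
    have : (B₁ : Set ↥(pullback g j₁)) = (A₁ : Set ↥(pullback g j₁))ᶜ := by
      ext x
      constructor
      · intro h1 h2; exact hdisj x h2 h1
      · intro h; rcases hcompl x with h1 | h1
        · exact absurd h1 h
        · exact h1
    rw [this]
    exact A₁.isOpen.isClosed_compl
  -- the comparison map `φ`
  let φ : pullback g (j₂ ≫ j₁) ⟶ pullback g j₁ :=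
    pullback.lift (pullback.fst g (j₂ ≫ j₁)) (pullback.snd g (j₂ ≫ j₁) ≫ j₂)
      (by rw [pullback.condition, Category.assoc])
  have hφ1 : φ ≫ pullback.fst g j₁ = pullback.fst g (j₂ ≫ j₁) := pullback.lift_fst _ _ _
  have hφ2 : φ ≫ pullback.snd g j₁ = pullback.snd g (j₂ ≫ j₁) ≫ j₂ := pullback.lift_snd _ _ _
  have sqφ : IsPullback φ (pullback.snd g (j₂ ≫ j₁)) (pullback.snd g j₁) j₂ := by
    refine IsPullback.of_right ?_ hφ2 (IsPullback.of_hasPullback g j₁)
    rw [hφ1]
    exact IsPullback.of_hasPullback g (j₂ ≫ j₁)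
  -- the `A`-part
  have sqA := (isPullback_morphismRestrict φ A₁).paste_vert sqφ
  have hA'fin : IsFinite ((φ ⁻¹ᵁ A₁).ι ≫ pullback.snd g (j₂ ≫ j₁)) :=
    MorphismProperty.of_isPullback (P := @IsFinite) sqA hA₁
  have hA'cl : IsClosed ((φ ⁻¹ᵁ A₁ : (pullback g (j₂ ≫ j₁)).Opens) :
      Set ↥(pullback g (j₂ ≫ j₁))) := hA₁cl.preimage φ.continuous
  -- the `B`-part
  let k : pullback (B₁.ι ≫ pullback.snd g j₁) j₂ ⟶ pullback g (j₂ ≫ j₁) :=
    pullback.lift (pullback.fst (B₁.ι ≫ pullback.snd g j₁) j₂ ≫ B₁.ι ≫ pullback.fst g j₁)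
      (pullback.snd (B₁.ι ≫ pullback.snd g j₁) j₂)
      (by
        rw [Category.assoc, Category.assoc, pullback.condition, ← Category.assoc B₁.ι,
          ← Category.assoc, pullback.condition, Category.assoc])
  have hk1 : k ≫ pullback.fst g (j₂ ≫ j₁) =
      pullback.fst (B₁.ι ≫ pullback.snd g j₁) j₂ ≫ B₁.ι ≫ pullback.fst g j₁ :=
    pullback.lift_fst _ _ _
  have hk2 : k ≫ pullback.snd g (j₂ ≫ j₁) = pullback.snd (B₁.ι ≫ pullback.snd g j₁) j₂ :=
    pullback.lift_snd _ _ _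
  have hkφ : pullback.fst (B₁.ι ≫ pullback.snd g j₁) j₂ ≫ B₁.ι = k ≫ φ := by
    apply pullback.hom_ext
    · rw [Category.assoc, Category.assoc, hφ1, hk1]
    · rw [Category.assoc, Category.assoc, hφ2, ← Category.assoc k, hk2, pullback.condition]
  have sqk : IsPullback (pullback.fst (B₁.ι ≫ pullback.snd g j₁) j₂) k B₁.ι φ := by
    refine IsPullback.of_bot ?_ hkφ sqφ
    rw [hk2]
    exact IsPullback.of_hasPullback (B₁.ι ≫ pullback.snd g j₁) j₂
  have hkoi : IsOpenImmersion k :=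
    MorphismProperty.of_isPullback (P := @IsOpenImmersion) sqk inferInstance
  have hkrange : Set.range k = φ ⁻¹' (B₁ : Set ↥(pullback g j₁)) := by
    have e := sqk.flip.isoPullback
    have he : sqk.flip.isoPullback.hom ≫ pullback.fst φ B₁.ι = k := sqk.flip.isoPullback_hom_fst
    rw [← he, Scheme.Hom.comp_base, TopCat.coe_comp, Set.range_comp,
      Set.range_eq_univ.2 sqk.flip.isoPullback.hom.surjective, Set.image_univ,
      Scheme.Pullback.range_fst, Scheme.Opens.range_ι]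
  have hkcl : IsClosedMap k := by
    have : Topology.IsClosedEmbedding k :=
      ⟨k.isOpenEmbedding.isEmbedding, by rw [hkrange]; exact hB₁cl.preimage φ.continuous⟩
    exact this.isClosedMap
  refine ⟨(φ ⁻¹ᵁ A₁) :: L₂.map (fun A₂ => k ''ᵁ A₂), ?_, ?_⟩
  · intro A hA
    rcases List.mem_cons.1 hA with rfl | hA
    · exact ⟨hA'cl, hA'fin⟩
    · obtain ⟨A₂, hA₂, rfl⟩ := List.mem_map.1 hA
      obtain ⟨h1, h2⟩ := hL₂ A₂ hA₂
      refine ⟨hkcl _ h1, ?_⟩
      have : (k ''ᵁ A₂).ι ≫ pullback.snd g (j₂ ≫ j₁) =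
          (k.isoImage A₂).inv ≫ A₂.ι ≫ pullback.snd (B₁.ι ≫ pullback.snd g j₁) j₂ := by
        rw [← hk2, ← Category.assoc A₂.ι, ← Category.assoc, Scheme.Hom.isoImage_inv_ι]
      rw [this]
      infer_instance
  · intro z hz
    rcases hcompl (φ z) with h | h
    · exact ⟨_, List.mem_cons_self, h⟩
    · have : z ∈ Set.range k := by rw [hkrange]; exact h
      obtain ⟨z₂, rfl⟩ := this
      have hz₂ : pullback.snd (B₁.ι ≫ pullback.snd g j₁) j₂ z₂ = v₂ := by
        rw [← hz, ← hk2, Scheme.Hom.comp_apply]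
      obtain ⟨A₂, hA₂, hzA₂⟩ := hcov₂ z₂ hz₂
      exact ⟨k ''ᵁ A₂, List.mem_cons_of_mem _ (List.mem_map.2 ⟨A₂, hA₂, rfl⟩), ⟨z₂, hzA₂, rfl⟩⟩

/-- the induction on the number of points of the geometric fibre. -/
theorem exists_good_nbhd_aux (n : ℕ) :
    ∀ {U V : Scheme.{u}} (g : U ⟶ V) [IsSeparated g] [LocallyOfFiniteType g]
      [LocallyQuasiFinite g] [QuasiCompact g] (Ω : Type u) [Field Ω] [IsAlgClosed Ω]
      (γ : Spec (.of Ω) ⟶ V), Nat.card ↥(pullback g γ) = n →
      ∃ (V' : Scheme.{u}) (j : V' ⟶ V) (v' : V'), Etale j ∧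
        j v' = γ (IsLocalRing.closedPoint Ω) ∧ Good g j v' := by
  induction n using Nat.strong_induction_on with
  | _ n IH =>
    intro U V g _ _ _ _ Ω _ _ γ hn
    by_cases hv : ∃ u : U, g u = γ (IsLocalRing.closedPoint Ω)
    · obtain ⟨u, hu⟩ := hv
      obtain ⟨V₁, j₁, hj₁, -, A₁, B₁, a₁, hAB, hAfin, ha₁⟩ :=
        exists_etale_isCompl_of_quasiFiniteAt g hu (g.quasiFiniteAt u)
      have hv₁ : j₁ (pullback.snd g j₁ a₁.1) = γ (IsLocalRing.closedPoint Ω) := by
        rw [← hu, ← ha₁, ← Scheme.Hom.comp_apply, ← Scheme.Hom.comp_apply, pullback.condition]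
      have : LocallyQuasiFinite j₁ := locallyQuasiFinite_of_unramified' j₁
      obtain ⟨γ₁, hγ₁, hγ₁pt⟩ := exists_lift_geomPoint j₁ γ _ hv₁
      subst hγ₁
      have hdisj : a₁.1 ∉ B₁ := by
        intro h2
        have : a₁.1 ∈ (A₁ ⊓ B₁ : (pullback g j₁).Opens) := ⟨a₁.2, h2⟩
        rw [hAB.inf_eq_bot] at this
        exact this
      have hB₁cl : IsClosed (B₁ : Set ↥(pullback g j₁)) := by
        have : (B₁ : Set ↥(pullback g j₁)) = (A₁ : Set ↥(pullback g j₁))ᶜ := by
          ext x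
          constructor
          · intro h1 h2
            have : x ∈ (A₁ ⊓ B₁ : (pullback g j₁).Opens) := ⟨h2, h1⟩
            rw [hAB.inf_eq_bot] at this
            exact this
          · intro h
            have : x ∈ (A₁ ⊔ B₁ : (pullback g j₁).Opens) := by
              rw [hAB.sup_eq_top]; trivial
            rcases TopologicalSpace.Opens.mem_sup.1 this with h1 | h1
            · exact absurd h1 h
            · exact h1
        rw [this]
        exact A₁.isOpen.isClosed_compl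
      have : IsClosedImmersion B₁.ι :=
        IsClosedImmersion.of_isPreimmersion _ (by rw [Scheme.Opens.range_ι]; exact hB₁cl)
      have hlt : Nat.card ↥(pullback (B₁.ι ≫ pullback.snd g j₁) γ₁) < n := by
        rw [← hn, ← card_geomFibre_baseChange (IsPullback.of_hasPullback g j₁) γ₁]
        exact card_geomFibre_lt (pullback.snd g j₁) B₁ γ₁ a₁.1 hdisj hγ₁pt.symm
      obtain ⟨V₂, j₂, v₂, hj₂, hv₂, hgood⟩ :=
        IH _ hlt (B₁.ι ≫ pullback.snd g j₁) Ω γ₁ rfl
      refine ⟨V₂, j₂ ≫ j₁, v₂, inferInstance, ?_, good_combine g j₁ A₁ B₁ hAB hAfin j₂ v₂ hgood⟩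
      rw [Scheme.Hom.comp_apply, hv₂, Scheme.Hom.comp_apply]
    · refine ⟨V, 𝟙 V, γ (IsLocalRing.closedPoint Ω), inferInstance, rfl, [], by simp, ?_⟩
      intro z hz
      exfalso
      apply hv
      refine ⟨pullback.fst g (𝟙 V) z, ?_⟩
      rw [← hz, ← Scheme.Hom.comp_apply, pullback.condition, Category.comp_id]

/-- **Étale localization of quasi-finite morphisms, whole fibre version.** -/
theorem exists_good_nbhd {U V : Scheme.{u}} (g : U ⟶ V) [IsSeparated g] [LocallyOfFiniteType g]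
    [LocallyQuasiFinite g] [QuasiCompact g] (v : V) :
    ∃ (V' : Scheme.{u}) (j : V' ⟶ V) (v' : V'), Etale j ∧ j v' = v ∧ Good g j v' := by
  let Ω := AlgebraicClosure (V.residueField v)
  let γ : Spec (.of Ω) ⟶ V :=
    Spec.map (CommRingCat.ofHom (algebraMap (V.residueField v) Ω)) ≫ V.fromSpecResidueField v
  have hγ : γ (IsLocalRing.closedPoint Ω) = v := by
    rw [Scheme.Hom.comp_apply, Scheme.fromSpecResidueField_apply]
  obtain ⟨V', j, v', hj, hv', hgood⟩ := exists_good_nbhd_aux _ g Ω γ rfl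
  exact ⟨V', j, v', hj, hv'.trans hγ, hgood⟩

end Groth.Agent.H7.QFin
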