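import Groth.Agent.Lib.Helper7.QFin20a
import Mathlib

/-!
# Étale localization of quasi-finite separated morphisms of algebraic spaces, several points (S10676)
-/

set_option autoImplicit false
universe u

open AlgebraicGeometry CategoryTheory Limits

namespace Groth.Agent.H7.QFinSp

open _root_.AlgSp Groth.Agent.H5.AlgSp Groth.Agent.H5.EtSrc Groth.Agent.H5.Descent
open Groth.Agent.H7.QFin

variable {S : Scheme.{u}}

theorem S10676_main {X Y : AlgSp.Space S} (f : X ⟶ Y) (y : AlgSp.Points Y.obj)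
    (xs : Finset (AlgSp.Points X.obj)) (hxs : ∀ x ∈ xs, AlgSp.Points.map f.hom x = y)
    (hf1 : AlgSp.LocP @LocallyOfFiniteType f.hom) (hf2 : AlgSp.IsSeparatedMor f.hom)
    (hf3 : ∀ x ∈ xs, AlgSp.HasAtMor (fun U _ h u => ∃ W : U.Opens, u ∈ W ∧ LocallyQuasiFinite (W.ι ≫ h) ∧ LocallyOfFiniteType (W.ι ≫ h)) f.hom x)
    (hf4 : AlgSp.IsQuasiCompactMor f.hom ∨ AlgSp.IsDecent Y.obj) :
    ∃ (U : AlgSp.Space S) (a : U ⟶ Y) (u : AlgSp.Points U.obj), AlgSp.IsEtaleMor a.hom ∧ AlgSp.Points.map a.hom u = y ∧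
      ∀ (P : AlgSp.Space S) (prX : P ⟶ X) (prU : P ⟶ U), IsPullback prX.hom prU.hom f.hom a.hom →
        ∃ (V : AlgSp.Space S) (jV : V ⟶ P), AlgSp.RepWith @IsOpenImmersion jV.hom ∧ AlgSp.RepWith @IsClosedImmersion jV.hom ∧
          AlgSp.IsFiniteMor (jV ≫ prU).hom ∧
          (∀ v : AlgSp.Points V.obj, AlgSp.Points.map (jV ≫ prU).hom v = u → AlgSp.Points.map (jV ≫ prX).hom v ∈ xs) ∧
          ∀ w : AlgSp.Points P.obj, w ∉ Set.range (AlgSp.Points.map jV.hom) → AlgSp.Points.map prU.hom w = u →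
            AlgSp.Points.map prX.hom w ∉ xs := by
  -- the quasi-finite locus
  have hΩ := isOpen_qfSet X.property Y.property f.hom
  have hX' : IsAlgSpace (openSub X.obj (qfSet f.hom)) := isAlgSpace_openSub X.property hΩ
  have hι : RepWith @IsOpenImmersion (openSubι X.obj (qfSet f.hom)) := repWith_openSubι hΩ
  haveI hιm : Mono (openSubι X.obj (qfSet f.hom)) :=
    Groth.Agent.H3.AlgSpCov.mono_of_isOpenImmersion hι
  have hsep' : IsSeparatedMor (openSubι X.obj (qfSet f.hom) ≫ f.hom) :=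
    isSeparatedMor_comp (isSeparatedMor_of_mono _) hf2
  have hl' := locP_qfLocus X.property Y.property f.hom
  have hrep' := representable_qfLocus X.property Y.property f.hom hf2
  have hxsQ : ∀ x ∈ xs, x ∈ qfSet f.hom := fun x hx => hf3 x hx
  -- the chart of `Y`
  obtain ⟨V, b, hbe, hbs⟩ := Y.property.atlas
  obtain ⟨v, hv⟩ := ofPt_surjective_of_repWith hbs y
  obtain ⟨_, ⟨V₀', hV₀', rfl⟩, hvV₀, -⟩ :=
    V.left.isBasis_affineOpens.exists_subset_of_mem_open (Set.mem_univ v) isOpen_univ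
  haveI : IsAffine (overOpen V V₀').left := hV₀'
  have hb₀ : RepWith @Etale ((yon S).map (overOpenι V V₀') ≫ b) := repWith_etale_restrict hbe V₀'
  have hv₀ : Points.ofPt ((yon S).map (overOpenι V V₀') ≫ b) (⟨v, hvV₀⟩ : V₀') = y := by
    rw [ofPt_restrict]; exact hv
  -- the scheme `Z`
  have sqZ := hrep'.isPullback ((yon S).map (overOpenι V V₀') ≫ b)
  haveI hks : IsSeparated (hrep'.snd ((yon S).map (overOpenι V V₀') ≫ b)).left :=
    (repWith_isSeparated_of_isSeparatedMor hrep' hsep').property_snd _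
  haveI hkq : LocallyQuasiFinite (hrep'.snd ((yon S).map (overOpenι V V₀') ≫ b)).left :=
    (repWith_of_locP Y.property hrep' (locP_mono inf_le_left hl')).property_snd _
  haveI hkt : LocallyOfFiniteType (hrep'.snd ((yon S).map (overOpenι V V₀') ≫ b)).left :=
    (repWith_of_locP Y.property hrep' (locP_mono inf_le_right hl')).property_snd _
  -- finiteness of the marked part of the fibre
  have hFfin : {z : (hrep'.pullback ((yon S).map (overOpenι V V₀') ≫ b)).left |
      (hrep'.snd ((yon S).map (overOpenι V V₀') ≫ b)).left z = (⟨v, hvV₀⟩ : V₀') ∧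
      Points.ofPt (hrep'.fst ((yon S).map (overOpenι V V₀') ≫ b) ≫
        openSubι X.obj (qfSet f.hom)) z ∈ xs}.Finite := by
    rcases hf4 with hqc | hdec
    · exact (finite_fibre_of_quasiCompact X.property Y.property f.hom hf1 hqc _ hι _ hb₀ _ _ sqZ
        (⟨v, hvV₀⟩ : V₀')).subset fun z hz => hz.1
    · obtain ⟨p, hp, hpm, hpq⟩ := hdec y
      exact finite_marked_fibre_of_decent _ hrep' p hpm hpq _ hb₀ _ _ sqZ (⟨v, hvV₀⟩ : V₀')
        (hv₀.trans hp.symm) {x' | Points.map (openSubι X.obj (qfSet f.hom)) x' ∈ xs}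
        (xs.finite_toSet.preimage (Set.injOn_of_injective (points_map_injective_of_mono _)))
  -- the scheme-level étale localization
  obtain ⟨V', j, v', hj, hjv, A, hAfin, hA⟩ := exists_split_finite_part
    (hrep'.snd ((yon S).map (overOpenι V V₀') ≫ b)).left (⟨v, hvV₀⟩ : V₀') _ hFfin
    (fun z hz => hz.1)
  have hgo : Etale (Over.homMk j rfl : Over.mk (j ≫ (overOpen V V₀').hom) ⟶ overOpen V V₀').left := hj
  have hae : RepWith @Etale ((yon S).map (Over.homMk j rfl :
      Over.mk (j ≫ (overOpen V V₀').hom) ⟶ overOpen V V₀') ≫ (yon S).map (overOpenι V V₀') ≫ b) :=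
    repWith_comp_yon_map @Etale _ hgo hb₀
  refine ⟨⟨(yon S).obj (Over.mk (j ≫ (overOpen V V₀').hom)), IsAlgSpace.yon_obj _⟩,
    ObjectProperty.homMk ((yon S).map (Over.homMk j rfl :
      Over.mk (j ≫ (overOpen V V₀').hom) ⟶ overOpen V V₀') ≫ (yon S).map (overOpenι V V₀') ≫ b),
    Points.schemeHomeo _ v', Groth.Agent.H3.Decent.isEtaleMor_of_repWith _ hae, ?_, ?_⟩
  · change Points.map ((yon S).map (Over.homMk j rfl :
      Over.mk (j ≫ (overOpen V V₀').hom) ⟶ overOpen V V₀') ≫ (yon S).map (overOpenι V V₀') ≫ b) _ = y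
    rw [Points.map_comp, map_yon_map_schemeHomeo, schemeHomeo_eq_ofPt, Points.map_ofPt,
      Category.id_comp, ← hv₀]
    congr 1
  · intro P prX prU sq
    have hxsQ' : (↑xs : Set (Points X.obj)) ⊆
        Set.range (Points.map (openSubι X.obj (qfSet f.hom))) := by
      rw [range_points_map_openSubι]
      exact fun x hx => hxsQ x hx
    obtain ⟨Vo, jV, h1, h2, h3, h4, h5⟩ := split_assemble f.hom hf2 _ hι _ hb₀ _ _ sqZ j hj v'
      (⟨v, hvV₀⟩ : V₀') hjv A hAfin (↑xs : Set (Points X.obj)) hxsQ' hA P.property prX.hom prU.hom sq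
    exact ⟨⟨(yon S).obj Vo, IsAlgSpace.yon_obj _⟩, ObjectProperty.homMk jV, h1, h2, h3,
      fun t ht => h4 t ht, fun w hw hwu => h5 w hw hwu⟩

end Groth.Agent.H7.QFinSp
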