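import Groth.Agent.Lib.Helper7.QFin19
import Mathlib

/-!
# Assembly step for S10676
-/

set_option autoImplicit false
universe u

open AlgebraicGeometry CategoryTheory Limits

namespace Groth.Agent.H7.QFinSp

open _root_.AlgSp Groth.Agent.H5.AlgSp Groth.Agent.H5.EtSrc Groth.Agent.H5.Descent
open Groth.Agent.H7.QFin

variable {S : Scheme.{u}}

theorem split_assemble {X Y X' : Sp S} (f : X ⟶ Y) (hf2 : IsSeparatedMor f)
    (ι : X' ⟶ X) (hι : RepWith @IsOpenImmersion ι) [Mono ι]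
    {V₀ Z : Over S} (b₀ : (yon S).obj V₀ ⟶ Y) (hb₀ : RepWith @Etale b₀)
    (i : (yon S).obj Z ⟶ X') (k : Z ⟶ V₀) (sqZ : IsPullback i ((yon S).map k) (ι ≫ f) b₀)
    {V' : Scheme.{u}} (j : V' ⟶ V₀.left) (hj : Etale j) (v' : V') (v₀ : V₀.left) (hjv : j v' = v₀)
    (A : (pullback k.left j).Opens) (hAfin : IsFinite (A.ι ≫ pullback.snd k.left j))
    (xs : Set (Points X)) (hxsQ : xs ⊆ Set.range (Points.map ι))
    (hA : ∀ ζ : ↥(pullback k.left j), pullback.snd k.left j ζ = v' →
      (ζ ∈ A ↔ (k.left (pullback.fst k.left j ζ) = v₀ ∧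
        Points.ofPt (i ≫ ι) (pullback.fst k.left j ζ) ∈ xs)))
    {P : Sp S} (hP : IsAlgSpace P) (prX : P ⟶ X)
    (prU : P ⟶ (yon S).obj (Over.mk (j ≫ V₀.hom)))
    (sq : IsPullback prX prU f ((yon S).map (Over.homMk j rfl : Over.mk (j ≫ V₀.hom) ⟶ V₀) ≫ b₀)) :
    ∃ (Vo : Over S) (jV : (yon S).obj Vo ⟶ P), RepWith @IsOpenImmersion jV ∧
      RepWith @IsClosedImmersion jV ∧ IsFiniteMor (jV ≫ prU) ∧
      (∀ t : Points ((yon S).obj Vo), Points.map (jV ≫ prU) t =
          Points.schemeHomeo (Over.mk (j ≫ V₀.hom)) v' → Points.map (jV ≫ prX) t ∈ xs) ∧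
      ∀ w : Points P, w ∉ Set.range (Points.map jV) →
        Points.map prU w = Points.schemeHomeo (Over.mk (j ≫ V₀.hom)) v' →
          Points.map prX w ∉ xs := by
  let U₂o : Over S := Over.mk (j ≫ V₀.hom)
  let go : U₂o ⟶ V₀ := Over.homMk j rfl
  let Po : Over S := Over.mk (pullback.fst k.left j ≫ Z.hom)
  let po₁ : Po ⟶ Z := Over.homMk (pullback.fst k.left j) rfl
  let po₂ : Po ⟶ U₂o := Over.homMk (pullback.snd k.left j) (by
    change pullback.snd k.left j ≫ j ≫ V₀.hom = pullback.fst k.left j ≫ Z.hom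
    rw [← Category.assoc, ← pullback.condition, Category.assoc, Over.w k])
  have sqPo : IsPullback po₁ po₂ k go :=
    IsPullback.of_map (Over.forget S) (Over.OverMorphism.ext pullback.condition)
      (IsPullback.of_hasPullback k.left j)
  have sqPoY := sqPo.map (yon S)
  have sqbig := sqPoY.paste_horiz sqZ
  -- the open immersion `μ : P' ⟶ P`
  let μ : (yon S).obj Po ⟶ P := sq.lift (((yon S).map po₁ ≫ i) ≫ ι) ((yon S).map po₂)
    (by rw [Category.assoc, sqbig.w])
  have hμ1 : μ ≫ prX = ((yon S).map po₁ ≫ i) ≫ ι := sq.lift_fst _ _ _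
  have hμ2 : μ ≫ prU = (yon S).map po₂ := sq.lift_snd _ _ _
  have sqbig' : IsPullback ((yon S).map po₁ ≫ i) (μ ≫ prU) (ι ≫ f)
      ((yon S).map go ≫ b₀) := by rw [hμ2]; exact sqbig
  have sqμ : IsPullback ((yon S).map po₁ ≫ i) μ ι prX := IsPullback.of_bot sqbig' hμ1.symm sq
  have hμo : RepWith @IsOpenImmersion μ :=
    MorphismProperty.of_isPullback (P := RepWith @IsOpenImmersion) sqμ hι
  haveI hμm : Mono μ := Groth.Agent.H3.AlgSpCov.mono_of_isOpenImmersion hμo
  have hιA : IsOpenImmersion (overOpenι Po A).left := by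
    change IsOpenImmersion (Scheme.Opens.ι (X := Po.left) A)
    infer_instance
  have hιAo : RepWith @IsOpenImmersion ((yon S).map (overOpenι Po A)) :=
    (repWith_yon_map_iff @IsOpenImmersion _).2 hιA
  haveI hιAm : Mono ((yon S).map (overOpenι Po A)) :=
    Groth.Agent.H3.AlgSpCov.mono_of_isOpenImmersion hιAo
  have hjo : RepWith @IsOpenImmersion ((yon S).map (overOpenι Po A) ≫ μ) :=
    (RepWith @IsOpenImmersion).comp_mem _ _ hιAo hμo
  have hjU : ((yon S).map (overOpenι Po A) ≫ μ) ≫ prU = (yon S).map (overOpenι Po A ≫ po₂) := by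
    rw [Category.assoc, hμ2, Functor.map_comp]
  have hjX : ((yon S).map (overOpenι Po A) ≫ μ) ≫ prX =
      (yon S).map (overOpenι Po A ≫ po₁) ≫ i ≫ ι := by
    rw [Category.assoc, hμ1, Functor.map_comp]
    simp only [Category.assoc]
  have hjf : RepWith @IsFinite ((yon S).map (overOpenι Po A) ≫ μ) :=
    repWith_isFinite_chart prU (repWith_diag_of_isPullback sq hf2) _
      (overOpenι Po A ≫ po₂) hjU hAfin
  obtain ⟨-, hjc⟩ := clopen_of_finite_etale_mono hP ((yon S).map (overOpenι Po A) ≫ μ)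
    (repWith_mono openImm_le_etale hjo) hjf
  refine ⟨overOpen Po A, (yon S).map (overOpenι Po A) ≫ μ, hjo, hjc, ?_, ?_, ?_⟩
  · rw [hjU]
    exact isFiniteMor_iff_repWith.2 ((repWith_yon_map_iff @IsFinite _).2 hAfin)
  · intro t ht
    obtain ⟨α, rfl⟩ := (Points.schemeHomeo (overOpen Po A)).surjective t
    rw [hjU, map_yon_map_schemeHomeo] at ht
    have hsnd : pullback.snd k.left j α.1 = v' := (Points.schemeHomeo U₂o).injective ht
    have hmem := (hA α.1 hsnd).1 α.2
    rw [hjX, schemeHomeo_eq_ofPt, Points.map_ofPt, Category.id_comp, ofPt_yon_map_comp]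
    exact hmem.2
  · intro w hw hwu hwx
    apply hw
    obtain ⟨x', hx'⟩ := hxsQ hwx
    obtain ⟨ζ', hζ1, hζ2⟩ := points_pullback_surjective sqμ x' w hx'
    obtain ⟨ζ, rfl⟩ := (Points.schemeHomeo Po).surjective ζ'
    have hsnd : pullback.snd k.left j ζ = v' := by
      apply (Points.schemeHomeo U₂o).injective
      have : Points.map (μ ≫ prU) (Points.schemeHomeo Po ζ) = Points.schemeHomeo U₂o v' := by
        rw [Points.map_comp, hζ2, hwu]
      rw [hμ2, map_yon_map_schemeHomeo] at this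
      exact this
    have hkζ : k.left (pullback.fst k.left j ζ) = v₀ := by
      rw [← Scheme.Hom.comp_apply, pullback.condition, Scheme.Hom.comp_apply, hsnd, hjv]
    have hxζ : Points.ofPt (i ≫ ι) (pullback.fst k.left j ζ) ∈ xs := by
      have : Points.map (μ ≫ prX) (Points.schemeHomeo Po ζ) = Points.map prX w := by
        rw [Points.map_comp, hζ2]
      rw [hμ1, schemeHomeo_eq_ofPt, Points.map_ofPt, Category.id_comp, Category.assoc,
        ofPt_yon_map_comp] at this
      change Points.ofPt (i ≫ ι) (po₁.left ζ) ∈ xs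
      rw [this]
      exact hwx
    have hζA : ζ ∈ A := (hA ζ hsnd).2 ⟨hkζ, hxζ⟩
    refine ⟨Points.schemeHomeo (overOpen Po A) ⟨ζ, hζA⟩, ?_⟩
    rw [Points.map_comp, map_yon_map_schemeHomeo]
    exact hζ2

end Groth.Agent.H7.QFinSp
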