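import Mathlib

/-!
# Base change of a chart together with its kernel pair
-/

set_option autoImplicit false
universe v u

open CategoryTheory Limits

namespace Groth.Agent.H7.QFin

variable {𝒞 : Type u} [Category.{v} 𝒞]

/-- Base change of a "presentation" `R ⇉ C ⟶ X₀` over `B₀` along `β : B₂ ⟶ B₀`. -/
theorem exists_baseChange_kernelPair {X₀ B₀ B₂ C R X₂ C₂ R₂ : 𝒞} {q : X₀ ⟶ B₀} {c : C ⟶ X₀}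
    {s t : R ⟶ C} (sqPair : IsPullback s t c c) {β : B₂ ⟶ B₀}
    {p₁ : X₂ ⟶ X₀} {q₂ : X₂ ⟶ B₂} (sqX : IsPullback p₁ q₂ q β)
    {π₁ : C₂ ⟶ C} {π₂ : C₂ ⟶ B₂} (sqC : IsPullback π₁ π₂ (c ≫ q) β)
    {ρ₁ : R₂ ⟶ R} {ρ₂ : R₂ ⟶ B₂} (sqR : IsPullback ρ₁ ρ₂ (s ≫ c ≫ q) β) :
    ∃ (c₂ : C₂ ⟶ X₂) (s₂ t₂ : R₂ ⟶ C₂), IsPullback c₂ π₁ p₁ c ∧ c₂ ≫ q₂ = π₂ ∧
      s₂ ≫ π₂ = ρ₂ ∧ t₂ ≫ π₂ = ρ₂ ∧ s₂ ≫ π₁ = ρ₁ ≫ s ∧ t₂ ≫ π₁ = ρ₁ ≫ t ∧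
      IsPullback s₂ t₂ c₂ c₂ := by
  let c₂ : C₂ ⟶ X₂ := sqX.lift (π₁ ≫ c) π₂ (by rw [Category.assoc]; exact sqC.w)
  have hc₂1 : c₂ ≫ p₁ = π₁ ≫ c := sqX.lift_fst _ _ _
  have hc₂2 : c₂ ≫ q₂ = π₂ := sqX.lift_snd _ _ _
  have sqc₂ : IsPullback c₂ π₁ p₁ c :=
    IsPullback.of_right (by rw [hc₂2]; exact sqC.flip) hc₂1 sqX.flip
  let s₂ : R₂ ⟶ C₂ := sqC.lift (ρ₁ ≫ s) ρ₂ (by rw [Category.assoc]; exact sqR.w)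
  have hs₂1 : s₂ ≫ π₁ = ρ₁ ≫ s := sqC.lift_fst _ _ _
  have hs₂2 : s₂ ≫ π₂ = ρ₂ := sqC.lift_snd _ _ _
  let t₂ : R₂ ⟶ C₂ := sqC.lift (ρ₁ ≫ t) ρ₂ (by
    rw [Category.assoc, ← sqPair.w_assoc]
    exact sqR.w)
  have ht₂1 : t₂ ≫ π₁ = ρ₁ ≫ t := sqC.lift_fst _ _ _
  have ht₂2 : t₂ ≫ π₂ = ρ₂ := sqC.lift_snd _ _ _
  have sqs₂ : IsPullback s₂ ρ₁ π₁ s :=
    IsPullback.of_right (by rw [hs₂2]; exact sqR.flip) hs₂1 sqC.flip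
  have rect1 : IsPullback (ρ₁ ≫ t) s₂ c (π₁ ≫ c) := sqs₂.flip.paste_horiz sqPair.flip
  have comm : t₂ ≫ c₂ = s₂ ≫ c₂ := by
    apply sqX.hom_ext
    · rw [Category.assoc, Category.assoc, hc₂1, ← Category.assoc, ← Category.assoc, ht₂1, hs₂1,
        Category.assoc, Category.assoc, sqPair.w]
    · rw [Category.assoc, Category.assoc, hc₂2, ht₂2, hs₂2]
  have sqk : IsPullback t₂ s₂ c₂ c₂ :=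
    IsPullback.of_right (by rw [ht₂1, hc₂1]; exact rect1) comm sqc₂.flip
  exact ⟨c₂, s₂, t₂, sqc₂, hc₂2, hs₂2, ht₂2, hs₂1, ht₂1, sqk.flip⟩

end Groth.Agent.H7.QFin
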