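import Groth.Agent.Lib.Helper7.QFin21
import Groth.Agent.Lib.Helper7.QFin22
import Groth.Agent.Lib.Helper7.QFin8
import Groth.Agent.Lib.Helper7.QFin7
import Groth.Agent.Lib.Helper5.AlgSp.GeneralizingChart
import Groth.Agent.Lib.Helper5.AlgSp.LocalBase
import Groth.Agent.Lib.Helper5.AlgSp.AffineChart
import Groth.Agent.Lib.Helper5.Descent.SepLQFLocal
import Mathlib

/-!
# Finite over a neighbourhood of a point of codimension zero (S10398)
-/

set_option autoImplicit false
universe u

open AlgebraicGeometry CategoryTheory Limits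

namespace Groth.Agent.H7.QFinSp

open _root_.AlgSp Groth.Agent.H5.AlgSp Groth.Agent.H5.EtSrc Groth.Agent.H5.Descent
open Groth.Agent.H7.QFin

variable {S : Scheme.{u}}

/-- a point whose local ring has dimension zero has no proper generizations. -/
theorem no_generization_of_dim_zero {U : Scheme.{u}} (u : U)
    (hu : ringKrullDim ↥(U.presheaf.stalk u) = 0) : ∀ z : U, z ⤳ u → z = u := by
  intro z hz
  have hz' : z ∈ Set.range (U.fromSpecStalk u) := by
    rw [Scheme.range_fromSpecStalk]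
    exact hz
  obtain ⟨q, rfl⟩ := hz'
  haveI : Ring.KrullDimLE 0 ↥(U.presheaf.stalk u) := Ring.krullDimLE_iff.2 (by rw [hu]; rfl)
  have hq : q = IsLocalRing.closedPoint ↥(U.presheaf.stalk u) := by
    apply PrimeSpectrum.ext
    exact IsLocalRing.eq_maximalIdeal q.isPrime.isMaximal'
  rw [hq, Scheme.fromSpecStalk_closedPoint]

/-- Stage A: an affine étale chart through a point of codimension zero, in which the point has no
proper generizations. -/
theorem exists_affine_chart_no_generization {Y : Sp S} (y : Points Y)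
    (hy : HasAt (fun U u => ringKrullDim ↥(U.presheaf.stalk u) = 0) Y y) :
    ∃ (V₀ : Over S) (b₀ : (yon S).obj V₀ ⟶ Y) (v₀ : ↥V₀.left), IsAffine V₀.left ∧
      RepWith @Etale b₀ ∧ Points.ofPt b₀ v₀ = y ∧ ∀ z : ↥V₀.left, z ⤳ v₀ → z = v₀ := by
  obtain ⟨U, a, u, ha, hau, hdim⟩ := hy
  have hu := no_generization_of_dim_zero u hdim
  obtain ⟨_, ⟨U₁ : U.left.Opens, hU₁, rfl⟩, huU₁, -⟩ :=
    U.left.isBasis_affineOpens.exists_subset_of_mem_open (Set.mem_univ u) isOpen_univ
  refine ⟨overOpen U U₁, (yon S).map (overOpenι U U₁) ≫ a, (⟨u, huU₁⟩ : ↥U₁), hU₁,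
    repWith_etale_restrict ha U₁, ?_, ?_⟩
  · rw [ofPt_restrict]
    exact hau
  · intro z hz
    have h1 : U₁.ι z ⤳ U₁.ι ⟨u, huU₁⟩ := hz.map U₁.ι.continuous
    exact U₁.ι.isOpenEmbedding.injective (hu _ h1)

theorem finite_le_isProper : (@IsFinite : MorphismProperty Scheme.{u}) ≤ @IsProper :=
  fun _ _ g (hg : IsFinite g) => (inferInstance : IsProper g)

/-- Stage C: finiteness over an étale chart descends to the open image of the chart. -/
theorem isFiniteMor_over_image {X Y : Sp S} (hX : IsAlgSpace X) (hY : IsAlgSpace Y) (f : X ⟶ Y)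
    {V₂ : Over S} (b₂ : (yon S).obj V₂ ⟶ Y) (hb₂ : RepWith @Etale b₂)
    (hfin : IsFiniteMor (pullback.snd f b₂)) :
    IsOpen (Set.range (Points.ofPt b₂)) ∧
      IsFiniteMor (pullback.snd f (openSubι Y (Set.range (Points.ofPt b₂)))) := by
  have hT : IsOpen (Set.range (Points.ofPt b₂)) := by
    rw [← Set.image_univ]
    exact isOpenMap_ofPt_of_etale hb₂ _ isOpen_univ
  refine ⟨hT, ?_⟩
  obtain ⟨b₂', hb₂'⟩ := (factors_openSubι_iff Y (Set.range (Points.ofPt b₂)) b₂).2
    (fun t => ⟨t, rfl⟩)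
  have hι := repWith_openSubι (F := Y) hT
  have hY' := isAlgSpace_openSub hY hT
  have hb₂'e : RepWith @Etale b₂' :=
    repWith_of_comp_mono (openSubι Y _) (by rw [hb₂']; exact hb₂)
  have hinj : Function.Injective (Points.map (openSubι Y (Set.range (Points.ofPt b₂)))) :=
    injective_points_map_of_repWith (P := @IsOpenImmersion)
      (fun g (hg : IsOpenImmersion g) => g.isOpenEmbedding.injective) hι
  have hb₂'s : RepWith @Surjective b₂' := by
    refine repWith_surjective_of_points hb₂'e.rep fun z => ?_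
    have hz : Points.map (openSubι Y (Set.range (Points.ofPt b₂))) z ∈
        Set.range (Points.map (openSubι Y (Set.range (Points.ofPt b₂)))) := ⟨z, rfl⟩
    rw [range_points_map_openSubι] at hz
    obtain ⟨t, ht⟩ := hz
    refine ⟨Points.schemeHomeo V₂ t, ?_⟩
    apply hinj
    rw [← Points.map_comp, hb₂', ← ht, Points.ofPt_eq_map_ofScheme]
    rfl
  haveI : Sheaf.IsLocallySurjective b₂' := isLocallySurjective_of_etale_surjective b₂' hb₂'e hb₂'s
  let u : pullback f b₂ ⟶ pullback f (openSubι Y (Set.range (Points.ofPt b₂))) :=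
    pullback.lift (pullback.fst f b₂) (pullback.snd f b₂ ≫ b₂')
      (by rw [Category.assoc, hb₂', pullback.condition])
  have hu1 : u ≫ pullback.fst f (openSubι Y _) = pullback.fst f b₂ := pullback.lift_fst _ _ _
  have hu2 : u ≫ pullback.snd f (openSubι Y _) = pullback.snd f b₂ ≫ b₂' := pullback.lift_snd _ _ _
  have sq : IsPullback u (pullback.snd f b₂) (pullback.snd f (openSubι Y _)) b₂' :=
    IsPullback.of_right (by rw [hu1, hb₂']; exact IsPullback.of_hasPullback f b₂) hu2
      (IsPullback.of_hasPullback f (openSubι Y _))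
  have hX₂ : IsAlgSpace (pullback f b₂) :=
    isAlgSpace_pullback hY.diag hX (IsAlgSpace.yon_obj V₂) (IsPullback.of_hasPullback f b₂)
  have hX' : IsAlgSpace (pullback f (openSubι Y (Set.range (Points.ofPt b₂)))) :=
    isAlgSpace_pullback hY.diag hX hY' (IsPullback.of_hasPullback f _)
  have hfin' : RepWith @IsFinite (pullback.snd f b₂) := isFiniteMor_iff_repWith.1 hfin
  have hrep : Representable (pullback.snd f (openSubι Y (Set.range (Points.ofPt b₂)))) :=
    representable_of_locallySurjective_baseChange_sepLQF sq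
      (repWith_mono finite_le_isSeparated hfin')
      (repWith_mono (inf_le_left.trans' finite_le_lqf_lft) hfin')
      (repWith_mono finite_le_lft hfin')
  have hprop : RepWith @IsProper (pullback.snd f (openSubι Y (Set.range (Points.ofPt b₂)))) :=
    repWith_of_locallySurjective_baseChange _ hrep b₂' u (pullback.snd f b₂) sq @IsProper
      (repWith_mono finite_le_isProper hfin')
  have hl : LocP (@LocallyQuasiFinite ⊓ @LocallyOfFiniteType)
      (pullback.snd f (openSubι Y (Set.range (Points.ofPt b₂)))) :=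
    locP_of_baseChange_etale_surjective etale_le_lqf_lft sq hX₂ (IsAlgSpace.yon_obj V₂) hb₂'e hb₂'s
      (locP_of_repWith etale_le_lqf_lft (repWith_mono finite_le_lqf_lft hfin'))
  refine isFiniteMor_of_isProperMor_of_lqf hX' hY' _ ⟨?_, ⟨?_, ?_⟩, ?_⟩ hl
  · exact (isSeparatedMor_iff_repWith hrep).2
      (repWith_mono (fun _ _ g (hg : IsProper g) => (inferInstance : IsSeparated g)) hprop)
  · exact locP_mono inf_le_right hl
  · exact isQuasiCompactMor_of_repWith
      (repWith_mono (fun _ _ g (hg : IsProper g) => (inferInstance : QuasiCompact g)) hprop)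
  · exact (repWith_universallyClosed_iff hrep).1
      (repWith_mono (fun _ _ g (hg : IsProper g) => (inferInstance : UniversallyClosed g)) hprop)

/-- Stage B2: an algebraic space over a scheme `V₂` with an étale surjective chart finite over
`V₂` whose kernel pair is finite over `V₂` is finite over `V₂`. -/
theorem isFiniteMor_of_finite_chart_and_relation {X₂ : Sp S} (hX₂ : IsAlgSpace X₂)
    {V₂ W₂ R₂ : Over S} (q₂ : X₂ ⟶ (yon S).obj V₂) (c₂ : (yon S).obj W₂ ⟶ X₂)
    (hc₂e : RepWith @Etale c₂) (hc₂s : RepWith @Surjective c₂) (π₂ : W₂ ⟶ V₂)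
    (hπ₂ : c₂ ≫ q₂ = (yon S).map π₂) (hfW : IsFinite π₂.left)
    (s₂ t₂ : (yon S).obj R₂ ⟶ (yon S).obj W₂) (sqk : IsPullback s₂ t₂ c₂ c₂) (ρ₂ : R₂ ⟶ V₂)
    (hρ₂ : t₂ ≫ (yon S).map π₂ = (yon S).map ρ₂) (hfR : IsFinite ρ₂.left) :
    IsFiniteMor q₂ := by
  obtain ⟨t₂', rfl⟩ := (yon S).map_surjective t₂
  have ht : t₂' ≫ π₂ = ρ₂ := (yon S).map_injective (by rw [Functor.map_comp]; exact hρ₂)
  haveI : IsFinite (t₂'.left ≫ π₂.left) := by
    rw [← Over.comp_left, ht]
    exact hfR
  haveI : IsFinite t₂'.left := IsFinite.of_comp t₂'.left π₂.left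
  haveI := isLocallySurjective_of_etale_surjective c₂ hc₂e hc₂s
  have hc₂uc : RepWith @UniversallyClosed c₂ :=
    repWith_of_locallySurjective_baseChange c₂ hc₂e.rep c₂ s₂ ((yon S).map t₂') sqk
      @UniversallyClosed ((repWith_yon_map_iff _ _).2 inferInstance)
  have hsurj : IsSurjectiveMor c₂ := points_map_surjective_of_repWith hc₂s
  have hsep_comp : IsSeparatedMor (c₂ ≫ q₂) := by
    rw [hπ₂]
    exact (isSeparatedMor_iff_repWith (representable_yon_map π₂)).2
      ((repWith_yon_map_iff _ _).2 inferInstance)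
  have hsep : IsSeparatedMor q₂ :=
    isSeparatedMor_of_surjective_univClosed (IsAlgSpace.yon_obj W₂) hX₂ (IsAlgSpace.yon_obj V₂)
      hsurj (isUnivClosedMor_of_repWith hc₂uc) hsep_comp
  have huc_comp : IsUnivClosedMor (c₂ ≫ q₂) := by
    rw [hπ₂]
    exact isUnivClosedMor_of_repWith ((repWith_yon_map_iff _ _).2 inferInstance)
  have huc : IsUnivClosedMor q₂ := isUnivClosedMor_of_comp_surjective hsurj huc_comp
  have hid : RepWith @Etale (𝟙 ((yon S).obj V₂)) := by
    rw [← (yon S).map_id]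
    exact (repWith_yon_map_iff _ _).2 (by dsimp; infer_instance)
  have hl : LocP (@LocallyQuasiFinite ⊓ @LocallyOfFiniteType) q₂ :=
    locP_of_one_chart etale_le_lqf_lft c₂ (𝟙 _) π₂ hc₂e hc₂s hid
      (by rw [hπ₂, Category.comp_id]) ⟨inferInstance, inferInstance⟩
  exact isFiniteMor_of_isProperMor_of_lqf hX₂ (IsAlgSpace.yon_obj V₂) q₂
    ⟨hsep, ⟨locP_mono inf_le_right hl,
      isQuasiCompactMor_of_isUnivClosedMor hX₂ (IsAlgSpace.yon_obj V₂) huc⟩, huc⟩ hl

/-- the image under `yon` of a pullback square of schemes over `S`. -/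
theorem exists_yon_pullback {W V₀ : Over S} (h : W ⟶ V₀) {V₂ : Scheme.{u}} (j : V₂ ⟶ V₀.left) :
    ∃ (P : Over S) (π₁ : P ⟶ W) (π₂ : P ⟶ Over.mk (j ≫ V₀.hom)),
      IsPullback ((yon S).map π₁) ((yon S).map π₂) ((yon S).map h)
        ((yon S).map (Over.homMk j rfl : Over.mk (j ≫ V₀.hom) ⟶ V₀)) ∧
      (IsFinite (pullback.snd h.left j) → IsFinite π₂.left) := by
  let U₂o : Over S := Over.mk (j ≫ V₀.hom)
  let go : U₂o ⟶ V₀ := Over.homMk j rfl
  let Po : Over S := Over.mk (pullback.fst h.left j ≫ W.hom)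
  let po₁ : Po ⟶ W := Over.homMk (pullback.fst h.left j) rfl
  let po₂ : Po ⟶ U₂o := Over.homMk (pullback.snd h.left j) (by
    change pullback.snd h.left j ≫ j ≫ V₀.hom = pullback.fst h.left j ≫ W.hom
    rw [← Category.assoc, ← pullback.condition, Category.assoc, Over.w h])
  have sqPo : IsPullback po₁ po₂ h go :=
    IsPullback.of_map (Over.forget S) (Over.OverMorphism.ext pullback.condition)
      (IsPullback.of_hasPullback h.left j)
  exact ⟨Po, po₁, po₂, sqPo.map (yon S), fun hfin => hfin⟩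

/-- Stage B: over an étale neighbourhood of a point without generizations of an affine chart of
the target, a quasi-separated morphism of finite type which is quasi-finite at all points over the
point becomes finite. -/
theorem exists_finite_over_etale_nbhd {X Y : Sp S} (hX : IsAlgSpace X) (hY : IsAlgSpace Y)
    (f : X ⟶ Y) (hqs : IsQuasiSeparatedMor f) (hft : IsFiniteTypeMor f)
    {V₀ : Over S} [IsAffine V₀.left] (b₀ : (yon S).obj V₀ ⟶ Y) (hb₀ : RepWith @Etale b₀)
    (v₀ : ↥V₀.left) (hv₀ : ∀ z : ↥V₀.left, z ⤳ v₀ → z = v₀)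
    (hqf : ∀ x : Points X, Points.map f x = Points.ofPt b₀ v₀ →
      HasAtMor (fun U _ h u => ∃ W : U.Opens, u ∈ W ∧ LocallyQuasiFinite (W.ι ≫ h) ∧
        LocallyOfFiniteType (W.ι ≫ h)) f x) :
    ∃ (V₂ : Scheme.{u}) (j : V₂ ⟶ V₀.left) (v₂ : ↥V₂), Etale j ∧ j v₂ = v₀ ∧
      IsFiniteMor (pullback.snd f
        ((yon S).map (Over.homMk j rfl : Over.mk (j ≫ V₀.hom) ⟶ V₀) ≫ b₀)) := by
  have sq₀ := IsPullback.of_hasPullback f b₀
  have hX₀ : IsAlgSpace (pullback f b₀) :=
    isAlgSpace_pullback hY.diag hX (IsAlgSpace.yon_obj V₀) sq₀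
  have hX₀qc : IsQuasiCompactSp (pullback f b₀) :=
    hft.2 (IsAlgSpace.yon_obj V₀) ((isQuasiCompactSp_yon_iff V₀).2 inferInstance) b₀ _ _ sq₀
  obtain ⟨W₀, c₀, hc₀e, hc₀s, hW₀c⟩ := hX₀qc
  haveI : CompactSpace ↥W₀.left := hW₀c
  obtain ⟨W, qW, hW, hqWe, hqWs⟩ := exists_affine_chart_of_compact W₀
  haveI : IsAffine W.left := hW
  have hce : RepWith @Etale ((yon S).map qW ≫ c₀) := repWith_comp_yon_map @Etale qW hqWe hc₀e
  have hcs : RepWith @Surjective ((yon S).map qW ≫ c₀) :=
    repWith_comp_yon_map @Surjective qW hqWs hc₀s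
  generalize (yon S).map qW ≫ c₀ = c at hce hcs
  obtain ⟨h, hh⟩ := (yon S).map_surjective (c ≫ pullback.snd f b₀)
  have hfst₀ : RepWith @Etale (pullback.fst f b₀) :=
    MorphismProperty.of_isPullback (P := RepWith @Etale) sq₀.flip hb₀
  have hae : RepWith @Etale (c ≫ pullback.fst f b₀) := (RepWith @Etale).comp_mem _ _ hce hfst₀
  have comm : (c ≫ pullback.fst f b₀) ≫ f = (yon S).map h ≫ b₀ := by
    rw [Category.assoc, pullback.condition, ← Category.assoc, hh]
  haveI hlft : LocallyOfFiniteType h.left := hft.1 (c ≫ pullback.fst f b₀) b₀ h hae hb₀ comm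
  -- quasi-finiteness at the points over `v₀`
  have hQW : ∀ w : ↥W.left, h.left w = v₀ → w ∈ h.left.quasiFiniteLocus := by
    intro w hw
    have hx : Points.map f (Points.ofPt (c ≫ pullback.fst f b₀) w) = Points.ofPt b₀ v₀ := by
      rw [Points.map_ofPt, comm, ofPt_yon_map_comp, hw]
    obtain ⟨N, hwN, hN1, -⟩ := exists_open_of_hasAtMor
      (P := @LocallyQuasiFinite ⊓ @LocallyOfFiniteType) etale_le_lqf_lft
      (c ≫ pullback.fst f b₀) b₀ h hae hb₀ comm w (hqf _ hx)
    haveI : LocallyQuasiFinite (N.ι ≫ h.left) := hN1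
    have := (N.ι ≫ h.left).quasiFiniteAt ⟨w, hwN⟩
    rw [Scheme.Hom.quasiFiniteAt_comp_iff_of_isOpenImmersion] at this
    exact this
  -- the kernel pair of the chart
  have hq₀qs : IsQuasiSeparatedMor (pullback.snd f b₀) := repWith_diag_of_isPullback sq₀ hqs
  haveI hRc : CompactSpace ↥(hce.rep.pullback c).left :=
    compactSpace_pullback_of_isQuasiSeparatedMor c hce.rep (pullback.snd f b₀) hq₀qs
  have sqK := hce.rep.isPullback' c
  haveI hte : Etale (hce.rep.snd c).left := hce.property_snd c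
  haveI hse : Etale (hce.rep.fst' c).left := hce.property c _ _ sqK.flip
  have hmono : ∀ {T : Scheme.{u}} (a b : T ⟶ (hce.rep.pullback c).left),
      a ≫ (hce.rep.fst' c).left = b ≫ (hce.rep.fst' c).left →
      a ≫ (hce.rep.snd c).left = b ≫ (hce.rep.snd c).left → a = b := by
    intro T a b h1 h2
    have hb : b ≫ (hce.rep.pullback c).hom = a ≫ (hce.rep.pullback c).hom := by
      rw [← Over.w (hce.rep.fst' c), ← Category.assoc, ← h1, Category.assoc]
    have key : (Over.homMk a rfl : Over.mk (a ≫ (hce.rep.pullback c).hom) ⟶ hce.rep.pullback c) =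
        Over.homMk b hb := by
      apply (yon S).map_injective
      apply sqK.hom_ext
      · rw [← Functor.map_comp, ← Functor.map_comp]
        congr 1
        exact Over.OverMorphism.ext h1
      · rw [← Functor.map_comp, ← Functor.map_comp]
        congr 1
        exact Over.OverMorphism.ext h2
    exact congrArg (fun k => k.left) key
  have hw : (hce.rep.fst' c).left ≫ h.left = (hce.rep.snd c).left ≫ h.left := by
    have : hce.rep.fst' c ≫ h = hce.rep.snd c ≫ h := (yon S).map_injective (by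
      rw [Functor.map_comp, Functor.map_comp, hh, ← Category.assoc, ← Category.assoc, sqK.w])
    rw [← Over.comp_left, ← Over.comp_left, this]
  have hm1 : pullback.lift (hce.rep.fst' c).left (hce.rep.snd c).left hw ≫
      pullback.fst h.left h.left = (hce.rep.fst' c).left := pullback.lift_fst _ _ _
  have hm2 : pullback.lift (hce.rep.fst' c).left (hce.rep.snd c).left hw ≫
      pullback.snd h.left h.left = (hce.rep.snd c).left := pullback.lift_snd _ _ _
  haveI : Mono (pullback.lift (hce.rep.fst' c).left (hce.rep.snd c).left hw) := by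
    refine ⟨fun a b hab => hmono a b ?_ ?_⟩
    · rw [← hm1, ← Category.assoc, hab, Category.assoc]
    · rw [← hm2, ← Category.assoc, hab, Category.assoc]
  haveI : IsSeparated ((hce.rep.fst' c).left ≫ h.left) := by
    have : (hce.rep.fst' c).left ≫ h.left =
        pullback.lift (hce.rep.fst' c).left (hce.rep.snd c).left hw ≫
          pullback.fst h.left h.left ≫ h.left := by rw [← Category.assoc, hm1]
    rw [this]
    infer_instance
  haveI : QuasiCompact ((hce.rep.fst' c).left ≫ h.left) :=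
    (quasiCompact_iff_compactSpace _).2 inferInstance
  haveI : LocallyQuasiFinite (((hce.rep.fst' c).left ⁻¹ᵁ h.left.quasiFiniteLocus).ι ≫
      (hce.rep.fst' c).left ≫ h.left) := by
    have : ((hce.rep.fst' c).left ⁻¹ᵁ h.left.quasiFiniteLocus).ι ≫ (hce.rep.fst' c).left ≫ h.left =
        ((hce.rep.fst' c).left ∣_ h.left.quasiFiniteLocus) ≫ h.left.quasiFiniteLocus.ι ≫ h.left := by
      rw [← Category.assoc, ← morphismRestrict_ι, Category.assoc]
    rw [this]
    haveI : Etale ((hce.rep.fst' c).left ∣_ h.left.quasiFiniteLocus) :=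
      MorphismProperty.of_isPullback (P := @Etale)
        (isPullback_morphismRestrict (hce.rep.fst' c).left h.left.quasiFiniteLocus).flip hse
    haveI : LocallyQuasiFinite ((hce.rep.fst' c).left ∣_ h.left.quasiFiniteLocus) :=
      locallyQuasiFinite_of_unramified' _
    infer_instance
  have hQR : ∀ r : ↥(hce.rep.pullback c).left, ((hce.rep.fst' c).left ≫ h.left) r = v₀ →
      r ∈ (hce.rep.fst' c).left ⁻¹ᵁ h.left.quasiFiniteLocus := by
    intro r hr
    rw [Scheme.Hom.comp_apply] at hr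
    exact hQW _ hr
  obtain ⟨V₂, j, v₂, -, hj, hjv, hfinW, hfinR⟩ :=
    exists_etale_nbhd_finite₂ h.left ((hce.rep.fst' c).left ≫ h.left) v₀ hv₀
      h.left.quasiFiniteLocus hQW ((hce.rep.fst' c).left ⁻¹ᵁ h.left.quasiFiniteLocus) hQR
  refine ⟨V₂, j, v₂, hj, hjv, ?_⟩
  obtain ⟨W₂, π₁, π₂, sqW₂, hW₂fin⟩ := exists_yon_pullback h j
  obtain ⟨R₂, ρ₁, ρ₂, sqR₂, hR₂fin⟩ := exists_yon_pullback (hce.rep.fst' c ≫ h) j
  rw [hh] at sqW₂
  rw [Functor.map_comp, hh] at sqR₂
  have sqX₂ := IsPullback.of_hasPullback f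
    ((yon S).map (Over.homMk j rfl : Over.mk (j ≫ V₀.hom) ⟶ V₀) ≫ b₀)
  have hX₂ : IsAlgSpace (pullback f
      ((yon S).map (Over.homMk j rfl : Over.mk (j ≫ V₀.hom) ⟶ V₀) ≫ b₀)) :=
    isAlgSpace_pullback hY.diag hX (IsAlgSpace.yon_obj _) sqX₂
  have hp1 : pullback.lift (pullback.fst f _)
      (pullback.snd f ((yon S).map (Over.homMk j rfl : Over.mk (j ≫ V₀.hom) ⟶ V₀) ≫ b₀) ≫
        (yon S).map (Over.homMk j rfl : Over.mk (j ≫ V₀.hom) ⟶ V₀))
      (by rw [Category.assoc, pullback.condition]) ≫ pullback.fst f b₀ =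
        pullback.fst f _ := pullback.lift_fst _ _ _
  have hp2 : pullback.lift (pullback.fst f _)
      (pullback.snd f ((yon S).map (Over.homMk j rfl : Over.mk (j ≫ V₀.hom) ⟶ V₀) ≫ b₀) ≫
        (yon S).map (Over.homMk j rfl : Over.mk (j ≫ V₀.hom) ⟶ V₀))
      (by rw [Category.assoc, pullback.condition]) ≫ pullback.snd f b₀ =
        pullback.snd f _ ≫ (yon S).map (Over.homMk j rfl : Over.mk (j ≫ V₀.hom) ⟶ V₀) :=
    pullback.lift_snd _ _ _
  have sqp := (IsPullback.of_bot (by rw [hp1]; exact sqX₂.flip) hp2.symm sq₀.flip).flip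
  obtain ⟨c₂, s₂, t₂, sqc₂, hc₂q, -, ht₂, -, -, sqk₂⟩ :=
    exists_baseChange_kernelPair sqK sqp sqW₂ sqR₂
  have hc₂e : RepWith @Etale c₂ :=
    MorphismProperty.of_isPullback (P := RepWith @Etale) sqc₂.flip hce
  have hc₂s : RepWith @Surjective c₂ :=
    MorphismProperty.of_isPullback (P := RepWith @Surjective) sqc₂.flip hcs
  exact isFiniteMor_of_finite_chart_and_relation hX₂ _ c₂ hc₂e hc₂s π₂ hc₂q (hW₂fin hfinW)
    s₂ t₂ sqk₂ ρ₂ ht₂ (hR₂fin hfinR)

theorem S10398_main {X Y : AlgSp.Space S} (f : X ⟶ Y)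
    (hqs : AlgSp.IsQuasiSeparatedMor f.hom) (hft : AlgSp.IsFiniteTypeMor f.hom)
    (y : AlgSp.Points Y.obj)
    (hy : AlgSp.HasAt (fun U u => ringKrullDim ↥(U.presheaf.stalk u) = 0) Y.obj y)
    (hqf : ∀ x : AlgSp.Points X.obj, AlgSp.Points.map f.hom x = y →
      AlgSp.HasAtMor (fun U _ h u => ∃ W : U.Opens, u ∈ W ∧ LocallyQuasiFinite (W.ι ≫ h) ∧
        LocallyOfFiniteType (W.ι ≫ h)) f.hom x) :
    ∃ (Y' X' : AlgSp.Space S) (j : Y' ⟶ Y) (fst : X' ⟶ Y') (snd : X' ⟶ X),
      AlgSp.RepWith @IsOpenImmersion j.hom ∧ y ∈ Set.range (AlgSp.Points.map j.hom) ∧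
      IsPullback fst.hom snd.hom j.hom f.hom ∧ AlgSp.IsFiniteMor fst.hom := by
  obtain ⟨V₀, b₀, v₀, hV₀, hb₀, hv₀y, hv₀⟩ := exists_affine_chart_no_generization y hy
  haveI := hV₀
  obtain ⟨V₂, j, v₂, hj, hjv, hfin⟩ := exists_finite_over_etale_nbhd X.property Y.property f.hom
    hqs hft b₀ hb₀ v₀ hv₀ (by rw [hv₀y]; exact hqf)
  have hb₂ : RepWith @Etale
      ((yon S).map (Over.homMk j rfl : Over.mk (j ≫ V₀.hom) ⟶ V₀) ≫ b₀) :=
    repWith_comp_yon_map @Etale _ hj hb₀
  obtain ⟨hT, hfin'⟩ := isFiniteMor_over_image X.property Y.property f.hom _ hb₂ hfin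
  have hY' := isAlgSpace_openSub Y.property hT
  refine ⟨⟨openSub Y.obj _, hY'⟩,
    ⟨pullback f.hom (openSubι Y.obj _),
      isAlgSpace_pullback Y.property.diag X.property hY' (IsPullback.of_hasPullback _ _)⟩,
    ObjectProperty.homMk (openSubι Y.obj _), ObjectProperty.homMk (pullback.snd _ _),
    ObjectProperty.homMk (pullback.fst _ _), repWith_openSubι hT, ?_,
    (IsPullback.of_hasPullback _ _).flip, hfin'⟩
  change y ∈ Set.range (Points.map (openSubι Y.obj _))
  rw [range_points_map_openSubι]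
  refine ⟨v₂, ?_⟩
  rw [ofPt_yon_map_comp]
  change Points.ofPt b₀ (j v₂) = y
  rw [hjv, hv₀y]

end Groth.Agent.H7.QFinSp
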