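import Groth.Agent.Lib.Helper7.QFin21
import Mathlib

/-!
# Finite over an étale neighbourhood: the separated, not necessarily quasi-compact case
-/

set_option autoImplicit false
universe u

open AlgebraicGeometry CategoryTheory Limits

namespace Groth.Agent.H7.QFin

/-- **Finite over an étale neighbourhood, separated case.**  Let `h : Z ⟶ V` be separated, locally
quasi-finite and locally of finite type with `V` affine, `v` a point with finite fibre, and `Φ` a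
finite set of points of `V`, none of which specializes to `v`, such that every nonempty open of
`Z` contains a point over `Φ ∪ {v}`.  Then `h` becomes finite over an affine étale neighbourhood
of `v`. -/
theorem exists_etale_nbhd_finite_of_sep {Z V : Scheme.{u}} (h : Z ⟶ V) [IsAffine V] [IsSeparated h]
    [LocallyOfFiniteType h] [LocallyQuasiFinite h] (v : V) (hfin : (h ⁻¹' {v}).Finite)
    (Φ : Set V) (hΦ : Φ.Finite) (hΦv : ∀ φ ∈ Φ, ¬ φ ⤳ v)
    (hdag : ∀ O : Z.Opens, (O : Set Z).Nonempty → ∃ z ∈ O, h z = v ∨ h z ∈ Φ) :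
    ∃ (V' : Scheme.{u}) (j : V' ⟶ V) (v' : V'), IsAffine V' ∧ Etale j ∧ j v' = v ∧
      IsFinite (pullback.snd h j) := by
  obtain ⟨V₁, j₁, v₁, hj₁, hjv₁, A, hAfin, hA⟩ :=
    exists_split_finite_part h v (h ⁻¹' {v}) hfin (fun z hz => hz)
  haveI := hj₁
  haveI : LocallyQuasiFinite j₁ := locallyQuasiFinite_of_unramified' j₁
  have hAall : ∀ ζ : ↥(pullback h j₁), pullback.snd h j₁ ζ = v₁ → ζ ∈ A := by
    intro ζ hζ
    rw [hA ζ hζ]
    change h (pullback.fst h j₁ ζ) = v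
    rw [← Scheme.Hom.comp_apply, pullback.condition, Scheme.Hom.comp_apply, hζ, hjv₁]
  haveI : IsProper (A.ι ≫ pullback.snd h j₁) := inferInstance
  haveI : IsProper A.ι := IsProper.of_comp A.ι (pullback.snd h j₁)
  have hAcl : IsClosed (A : Set ↥(pullback h j₁)) := by
    have := A.ι.isClosedMap.isClosed_range
    rwa [Scheme.Opens.range_ι] at this
  obtain ⟨_, ⟨V₁' : V₁.Opens, hV₁', rfl⟩, hvV₁', -⟩ :=
    V₁.isBasis_affineOpens.exists_subset_of_mem_open (Set.mem_univ v₁) isOpen_univ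
  haveI : IsAffine V₁'.toScheme := hV₁'
  haveI : LocallyQuasiFinite (V₁'.ι ≫ j₁) := locallyQuasiFinite_of_unramified' _
  have hΦ'fin : {w : V₁ | w ∈ V₁' ∧ (j₁ w = v ∨ j₁ w ∈ Φ) ∧ w ≠ v₁}.Finite := by
    have h1 : ((V₁'.ι ≫ j₁) ⁻¹' ({v} ∪ Φ)).Finite :=
      Set.Finite.preimage' ((Set.finite_singleton v).union hΦ)
        (fun w _ => (V₁'.ι ≫ j₁).finite_preimage_singleton w)
    refine (h1.image V₁'.ι).subset ?_
    rintro w ⟨hw1, hw2, -⟩
    refine ⟨⟨w, hw1⟩, ?_, rfl⟩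
    change (V₁'.ι ≫ j₁) ⟨w, hw1⟩ ∈ ({v} ∪ Φ : Set V)
    rw [Scheme.Hom.comp_apply]
    exact hw2
  have hvK : v₁ ∉ closure {w : V₁ | w ∈ V₁' ∧ (j₁ w = v ∨ j₁ w ∈ Φ) ∧ w ≠ v₁} := by
    rw [← Set.biUnion_of_singleton {w : V₁ | w ∈ V₁' ∧ (j₁ w = v ∨ j₁ w ∈ Φ) ∧ w ≠ v₁},
      hΦ'fin.closure_biUnion]
    simp only [Set.mem_iUnion, not_exists]
    rintro w ⟨-, hw2, hw3⟩ hmem
    have hsp : w ⤳ v₁ := specializes_iff_mem_closure.2 hmem
    rcases hw2 with hw2 | hw2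
    · exact hw3 ((j₁.isDiscrete_preimage_singleton v).eq_of_specializes hsp hw2 hjv₁)
    · apply hΦv _ hw2
      rw [← hjv₁]
      exact hsp.map j₁.continuous
  obtain ⟨_, ⟨V₂ : V₁.Opens, hV₂, rfl⟩, hvV₂, hV₂O⟩ :=
    V₁.isBasis_affineOpens.exists_subset_of_mem_open
      (show v₁ ∈ (V₁' : Set V₁) ∩
        (closure {w : V₁ | w ∈ V₁' ∧ (j₁ w = v ∨ j₁ w ∈ Φ) ∧ w ≠ v₁})ᶜ from ⟨hvV₁', hvK⟩)
      (V₁'.2.inter isClosed_closure.isOpen_compl)
  have hA' : ∀ ζ : ↥(pullback h j₁), pullback.snd h j₁ ζ ∈ Set.range V₂.ι → ζ ∈ A := by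
    intro ζ hζ
    rw [Scheme.Opens.range_ι] at hζ
    by_contra hcon
    have hOopen : IsOpen ((A : Set ↥(pullback h j₁))ᶜ ∩ (pullback.snd h j₁ ⁻¹' (V₂ : Set V₁))) :=
      hAcl.isOpen_compl.inter (V₂.2.preimage (pullback.snd h j₁).continuous)
    obtain ⟨z, hzO', hz⟩ := hdag ⟨pullback.fst h j₁ '' ((A : Set ↥(pullback h j₁))ᶜ ∩
        (pullback.snd h j₁ ⁻¹' (V₂ : Set V₁))), (pullback.fst h j₁).isOpenMap _ hOopen⟩
      ⟨_, ζ, ⟨hcon, hζ⟩, rfl⟩
    obtain ⟨ζ', ⟨hζ'A, hζ'V₂⟩, rfl⟩ := hzO'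
    have hw : j₁ (pullback.snd h j₁ ζ') = h (pullback.fst h j₁ ζ') := by
      rw [← Scheme.Hom.comp_apply, ← pullback.condition, Scheme.Hom.comp_apply]
    have hwO₂ := hV₂O hζ'V₂
    by_cases hwv : pullback.snd h j₁ ζ' = v₁
    · exact hζ'A (hAall _ hwv)
    · exact hwO₂.2 (subset_closure ⟨hwO₂.1, by rw [hw]; exact hz, hwv⟩)
  haveI : IsFinite (pullback.snd (pullback.snd h j₁) V₂.ι) :=
    isFinite_pullback_snd_of_open_finite (pullback.snd h j₁) A V₂.ι hA'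
  refine ⟨V₂.toScheme, V₂.ι ≫ j₁, ⟨v₁, hvV₂⟩, hV₂, inferInstance, ?_, ?_⟩
  · rw [Scheme.Hom.comp_apply]
    exact hjv₁
  · have : pullback.snd h (V₂.ι ≫ j₁) =
        (pullbackLeftPullbackSndIso h j₁ V₂.ι).inv ≫ pullback.snd (pullback.snd h j₁) V₂.ι := by
      rw [Iso.eq_inv_comp, pullbackLeftPullbackSndIso_hom_snd]
    rw [this]
    infer_instance

end Groth.Agent.H7.QFin
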