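import Groth.Agent.Lib.Helper7.QFin25
import Mathlib

/-!
# The kernel pair of a chart which is finite over the base
-/

set_option autoImplicit false
universe u

open AlgebraicGeometry CategoryTheory Limits

namespace Groth.Agent.H7.QFin

/-- Let `W ⟶ V₀` become finite over `V₁`, and let `s, t : R ⇉ W` be jointly monic over `V₀` with
`s` étale (an étale relation on `W`).  Under the generic-point hypothesis of
`exists_etale_nbhd_finite_of_sep` for `R ×_{V₀} V₁ ⟶ V₁`, the relation becomes finite over an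
affine étale neighbourhood of the marked point of `V₁`. -/
theorem exists_etale_nbhd_finite_relation {W V₀ R V₁ : Scheme.{u}} (h : W ⟶ V₀)
    [LocallyOfFiniteType h] (s t : R ⟶ W) [Etale s] (hw : s ≫ h = t ≫ h)
    [IsSeparated (s ≫ h)]
    (hmono : ∀ {T : Scheme.{u}} (a b : T ⟶ R), a ≫ s = b ≫ s → a ≫ t = b ≫ t → a = b)
    (j₁ : V₁ ⟶ V₀) [IsAffine V₁] [IsFinite (pullback.snd h j₁)] (v₁ : V₁)
    (Φ : Set V₁) (hΦ : Φ.Finite) (hΦv : ∀ φ ∈ Φ, ¬ φ ⤳ v₁)
    (hdag : ∀ O : (pullback (s ≫ h) j₁).Opens, (O : Set ↥(pullback (s ≫ h) j₁)).Nonempty →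
      ∃ z ∈ O, pullback.snd (s ≫ h) j₁ z = v₁ ∨ pullback.snd (s ≫ h) j₁ z ∈ Φ) :
    ∃ (V₂ : Scheme.{u}) (k : V₂ ⟶ V₁) (v₂ : V₂), IsAffine V₂ ∧ Etale k ∧ k v₂ = v₁ ∧
      IsFinite (pullback.snd (s ≫ h) (k ≫ j₁)) := by
  -- the maps `R₁ ⟶ W₁`
  have hρs1 : pullback.lift (pullback.fst (s ≫ h) j₁ ≫ s) (pullback.snd (s ≫ h) j₁)
      (by rw [Category.assoc, pullback.condition]) ≫ pullback.fst h j₁ =
        pullback.fst (s ≫ h) j₁ ≫ s := pullback.lift_fst _ _ _
  have hρs2 : pullback.lift (pullback.fst (s ≫ h) j₁ ≫ s) (pullback.snd (s ≫ h) j₁)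
      (by rw [Category.assoc, pullback.condition]) ≫ pullback.snd h j₁ =
        pullback.snd (s ≫ h) j₁ := pullback.lift_snd _ _ _
  have hρt1 : pullback.lift (pullback.fst (s ≫ h) j₁ ≫ t) (pullback.snd (s ≫ h) j₁)
      (by rw [Category.assoc, ← hw, pullback.condition]) ≫ pullback.fst h j₁ =
        pullback.fst (s ≫ h) j₁ ≫ t := pullback.lift_fst _ _ _
  have hρt2 : pullback.lift (pullback.fst (s ≫ h) j₁ ≫ t) (pullback.snd (s ≫ h) j₁)
      (by rw [Category.assoc, ← hw, pullback.condition]) ≫ pullback.snd h j₁ =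
        pullback.snd (s ≫ h) j₁ := pullback.lift_snd _ _ _
  generalize pullback.lift (pullback.fst (s ≫ h) j₁ ≫ s) (pullback.snd (s ≫ h) j₁)
    (by rw [Category.assoc, pullback.condition]) = ρs at hρs1 hρs2
  generalize pullback.lift (pullback.fst (s ≫ h) j₁ ≫ t) (pullback.snd (s ≫ h) j₁)
    (by rw [Category.assoc, ← hw, pullback.condition]) = ρt at hρt1 hρt2
  -- `ρs` is étale
  have sqρ : IsPullback (pullback.fst (s ≫ h) j₁) ρs s (pullback.fst h j₁) :=
    IsPullback.of_bot (by rw [hρs2]; exact IsPullback.of_hasPullback _ _) hρs1.symm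
      (IsPullback.of_hasPullback h j₁)
  haveI : Etale ρs := MorphismProperty.of_isPullback (P := @Etale) sqρ inferInstance
  haveI : LocallyQuasiFinite ρs := locallyQuasiFinite_of_unramified' ρs
  haveI : LocallyQuasiFinite (pullback.snd (s ≫ h) j₁) := by
    rw [← hρs2]
    infer_instance
  -- the fibre over `v₁` is finite
  have hm1 : pullback.lift ρs ρt (hρs2.trans hρt2.symm) ≫
      pullback.fst (pullback.snd h j₁) (pullback.snd h j₁) = ρs := pullback.lift_fst _ _ _
  have hm2 : pullback.lift ρs ρt (hρs2.trans hρt2.symm) ≫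
      pullback.snd (pullback.snd h j₁) (pullback.snd h j₁) = ρt := pullback.lift_snd _ _ _
  haveI : Mono (pullback.lift ρs ρt (hρs2.trans hρt2.symm)) := by
    refine ⟨fun a b hab => ?_⟩
    have h1 : a ≫ ρs = b ≫ ρs := by rw [← hm1, ← Category.assoc, hab, Category.assoc]
    have h2 : a ≫ ρt = b ≫ ρt := by rw [← hm2, ← Category.assoc, hab, Category.assoc]
    apply pullback.hom_ext
    · apply hmono
      · rw [Category.assoc, Category.assoc, ← hρs1, ← Category.assoc, h1, Category.assoc]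
      · rw [Category.assoc, Category.assoc, ← hρt1, ← Category.assoc, h2, Category.assoc]
    · rw [← hρs2, ← Category.assoc, h1, Category.assoc]
  have hfin : (pullback.snd (s ≫ h) j₁ ⁻¹' {v₁}).Finite := by
    have hσ : pullback.snd (s ≫ h) j₁ = pullback.lift ρs ρt (hρs2.trans hρt2.symm) ≫
        pullback.fst (pullback.snd h j₁) (pullback.snd h j₁) ≫ pullback.snd h j₁ := by
      rw [← Category.assoc, hm1, hρs2]
    have h1 := (pullback.fst (pullback.snd h j₁) (pullback.snd h j₁) ≫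
      pullback.snd h j₁).finite_preimage_singleton v₁
    refine (h1.preimage (Set.injOn_of_injective
      (pullback.lift ρs ρt (hρs2.trans hρt2.symm)).injective)).subset ?_
    intro z hz
    change (pullback.fst (pullback.snd h j₁) (pullback.snd h j₁) ≫ pullback.snd h j₁)
      ((pullback.lift ρs ρt (hρs2.trans hρt2.symm)) z) = v₁
    rw [← Scheme.Hom.comp_apply, ← hσ]
    exact hz
  obtain ⟨V₂, k, v₂, hV₂, hk, hkv, hfinR⟩ :=
    exists_etale_nbhd_finite_of_sep (pullback.snd (s ≫ h) j₁) v₁ hfin Φ hΦ hΦv hdag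
  refine ⟨V₂, k, v₂, hV₂, hk, hkv, ?_⟩
  have : pullback.snd (s ≫ h) (k ≫ j₁) =
      (pullbackLeftPullbackSndIso (s ≫ h) j₁ k).inv ≫
        pullback.snd (pullback.snd (s ≫ h) j₁) k := by
    rw [Iso.eq_inv_comp, pullbackLeftPullbackSndIso_hom_snd]
  rw [this]
  infer_instance

end Groth.Agent.H7.QFin
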