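import Groth.Agent.Lib.Helper7.QFin24
import Groth.Agent.Lib.Helper7.QFin25
import Groth.Agent.Lib.Helper7.QFin25b
import Mathlib

/-!
# Finite over a dense open: the quasi-compact case (towards S10400)
-/

set_option autoImplicit false
universe u

open AlgebraicGeometry CategoryTheory Limits

namespace Groth.Agent.H7.QFinSp

open _root_.AlgSp Groth.Agent.H5.AlgSp Groth.Agent.H5.EtSrc Groth.Agent.H5.Descent
open Groth.Agent.H7.QFin

variable {S : Scheme.{u}}

/-- the kernel pair of an étale chart by an affine scheme of a sheaf over an affine scheme. -/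
theorem kernelPair_facts {X₀ : Sp S} {W V₀ : Over S} [IsAffine W.left] [IsAffine V₀.left]
    (q₀ : X₀ ⟶ (yon S).obj V₀) (c : (yon S).obj W ⟶ X₀) (hce : RepWith @Etale c) (h : W ⟶ V₀)
    (hh : (yon S).map h = c ≫ q₀) :
    Etale (hce.rep.fst' c).left ∧ Etale (hce.rep.snd c).left ∧
      (hce.rep.fst' c).left ≫ h.left = (hce.rep.snd c).left ≫ h.left ∧
      IsSeparated ((hce.rep.fst' c).left ≫ h.left) ∧
      ∀ {T : Scheme.{u}} (a b : T ⟶ (hce.rep.pullback c).left),
        a ≫ (hce.rep.fst' c).left = b ≫ (hce.rep.fst' c).left →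
        a ≫ (hce.rep.snd c).left = b ≫ (hce.rep.snd c).left → a = b := by
  have sqK := hce.rep.isPullback' c
  have hte : Etale (hce.rep.snd c).left := hce.property_snd c
  have hse : Etale (hce.rep.fst' c).left := hce.property c _ _ sqK.flip
  have hmono : ∀ {T : Scheme.{u}} (a b : T ⟶ (hce.rep.pullback c).left),
      a ≫ (hce.rep.fst' c).left = b ≫ (hce.rep.fst' c).left →
      a ≫ (hce.rep.snd c).left = b ≫ (hce.rep.snd c).left → a = b := by
    intro T a b h1 h2
    have hb : b ≫ (hce.rep.pullback c).hom = a ≫ (hce.rep.pullback c).hom := by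
      rw [← Over.w (hce.rep.fst' c), ← Category.assoc, ← h1, Category.assoc]
    have key : (Over.homMk a rfl : Over.mk (a ≫ (hce.rep.pullback c).hom) ⟶ hce.rep.pullback c) =
        Over.homMk b hb := by
      apply (yon S).map_injective
      apply sqK.hom_ext
      · rw [← Functor.map_comp, ← Functor.map_comp]
        congr 1
        exact Over.OverMorphism.ext h1
      · rw [← Functor.map_comp, ← Functor.map_comp]
        congr 1
        exact Over.OverMorphism.ext h2
    exact congrArg (fun k => k.left) key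
  have hw : (hce.rep.fst' c).left ≫ h.left = (hce.rep.snd c).left ≫ h.left := by
    have : hce.rep.fst' c ≫ h = hce.rep.snd c ≫ h := (yon S).map_injective (by
      rw [Functor.map_comp, Functor.map_comp, hh, ← Category.assoc, ← Category.assoc, sqK.w])
    rw [← Over.comp_left, ← Over.comp_left, this]
  have hm1 : pullback.lift (hce.rep.fst' c).left (hce.rep.snd c).left hw ≫
      pullback.fst h.left h.left = (hce.rep.fst' c).left := pullback.lift_fst _ _ _
  have hm2 : pullback.lift (hce.rep.fst' c).left (hce.rep.snd c).left hw ≫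
      pullback.snd h.left h.left = (hce.rep.snd c).left := pullback.lift_snd _ _ _
  haveI : Mono (pullback.lift (hce.rep.fst' c).left (hce.rep.snd c).left hw) := by
    refine ⟨fun a b hab => hmono a b ?_ ?_⟩
    · rw [← hm1, ← Category.assoc, hab, Category.assoc]
    · rw [← hm2, ← Category.assoc, hab, Category.assoc]
  have hsep : IsSeparated ((hce.rep.fst' c).left ≫ h.left) := by
    have : (hce.rep.fst' c).left ≫ h.left =
        pullback.lift (hce.rep.fst' c).left (hce.rep.snd c).left hw ≫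
          pullback.fst h.left h.left ≫ h.left := by rw [← Category.assoc, hm1]
    rw [this]
    infer_instance
  exact ⟨hse, hte, hw, hsep, hmono⟩

/-- the end of the argument: if the chart and its kernel pair become finite over `V₂`, then the
base change of `f` to `V₂` is finite. -/
theorem isFiniteMor_of_finite_chart_pullbacks {X Y : Sp S} (hX : IsAlgSpace X) (hY : IsAlgSpace Y)
    (f : X ⟶ Y) {V₀ W : Over S} (b₀ : (yon S).obj V₀ ⟶ Y)
    (c : (yon S).obj W ⟶ pullback f b₀) (hce : RepWith @Etale c) (hcs : RepWith @Surjective c)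
    (h : W ⟶ V₀) (hh : (yon S).map h = c ≫ pullback.snd f b₀)
    {V₂ : Scheme.{u}} (j : V₂ ⟶ V₀.left) (hfinW : IsFinite (pullback.snd h.left j))
    (hfinR : IsFinite (pullback.snd ((hce.rep.fst' c).left ≫ h.left) j)) :
    IsFiniteMor (pullback.snd f
      ((yon S).map (Over.homMk j rfl : Over.mk (j ≫ V₀.hom) ⟶ V₀) ≫ b₀)) := by
  have sq₀ := IsPullback.of_hasPullback f b₀
  have sqK := hce.rep.isPullback' c
  obtain ⟨W₂, π₁, π₂, sqW₂, hW₂fin⟩ := exists_yon_pullback h j
  obtain ⟨R₂, ρ₁, ρ₂, sqR₂, hR₂fin⟩ := exists_yon_pullback (hce.rep.fst' c ≫ h) j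
  rw [hh] at sqW₂
  rw [Functor.map_comp, hh] at sqR₂
  have sqX₂ := IsPullback.of_hasPullback f
    ((yon S).map (Over.homMk j rfl : Over.mk (j ≫ V₀.hom) ⟶ V₀) ≫ b₀)
  have hX₂ : IsAlgSpace (pullback f
      ((yon S).map (Over.homMk j rfl : Over.mk (j ≫ V₀.hom) ⟶ V₀) ≫ b₀)) :=
    isAlgSpace_pullback hY.diag hX (IsAlgSpace.yon_obj _) sqX₂
  have hp1 : pullback.lift (pullback.fst f _)
      (pullback.snd f ((yon S).map (Over.homMk j rfl : Over.mk (j ≫ V₀.hom) ⟶ V₀) ≫ b₀) ≫
        (yon S).map (Over.homMk j rfl : Over.mk (j ≫ V₀.hom) ⟶ V₀))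
      (by rw [Category.assoc, pullback.condition]) ≫ pullback.fst f b₀ =
        pullback.fst f _ := pullback.lift_fst _ _ _
  have hp2 : pullback.lift (pullback.fst f _)
      (pullback.snd f ((yon S).map (Over.homMk j rfl : Over.mk (j ≫ V₀.hom) ⟶ V₀) ≫ b₀) ≫
        (yon S).map (Over.homMk j rfl : Over.mk (j ≫ V₀.hom) ⟶ V₀))
      (by rw [Category.assoc, pullback.condition]) ≫ pullback.snd f b₀ =
        pullback.snd f _ ≫ (yon S).map (Over.homMk j rfl : Over.mk (j ≫ V₀.hom) ⟶ V₀) :=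
    pullback.lift_snd _ _ _
  have sqp := (IsPullback.of_bot (by rw [hp1]; exact sqX₂.flip) hp2.symm sq₀.flip).flip
  obtain ⟨c₂, s₂, t₂, sqc₂, hc₂q, -, ht₂, -, -, sqk₂⟩ :=
    exists_baseChange_kernelPair sqK sqp sqW₂ sqR₂
  have hc₂e : RepWith @Etale c₂ :=
    MorphismProperty.of_isPullback (P := RepWith @Etale) sqc₂.flip hce
  have hc₂s : RepWith @Surjective c₂ :=
    MorphismProperty.of_isPullback (P := RepWith @Surjective) sqc₂.flip hcs
  exact isFiniteMor_of_finite_chart_and_relation hX₂ _ c₂ hc₂e hc₂s π₂ hc₂q (hW₂fin hfinW)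
    s₂ t₂ sqk₂ ρ₂ ht₂ (hR₂fin hfinR)

/-- **The quasi-compact case**: over an affine étale neighbourhood of a point of codimension zero
of an affine étale chart of `Y`, the base change of `f` is finite. -/
theorem exists_finite_over_etale_nbhd_qc {X Y : Sp S} (hX : IsAlgSpace X) (hY : IsAlgSpace Y)
    (f : X ⟶ Y) (hlft : LocP @LocallyOfFiniteType f) (hqc : IsQuasiCompactMor f)
    (hYd : IsDecent Y) (hY0 : {y : Points Y | HasAt C0 Y y}.Finite)
    (hpre : ∀ x : Points X, HasAt C0 X x ↔ HasAt C0 Y (Points.map f x))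
    {V₀ : Over S} [IsAffine V₀.left] (b₀ : (yon S).obj V₀ ⟶ Y) (hb₀ : RepWith @Etale b₀)
    (v₀ : ↥V₀.left) (hv₀ : ringKrullDim ↥(V₀.left.presheaf.stalk v₀) = 0) :
    ∃ (V₂ : Scheme.{u}) (j : V₂ ⟶ V₀.left) (v₂ : ↥V₂), Etale j ∧ j v₂ = v₀ ∧
      IsFiniteMor (pullback.snd f
        ((yon S).map (Over.homMk j rfl : Over.mk (j ≫ V₀.hom) ⟶ V₀) ≫ b₀)) := by
  have sq₀ := IsPullback.of_hasPullback f b₀
  have hX₀qc : IsQuasiCompactSp (pullback f b₀) :=
    hqc (IsAlgSpace.yon_obj V₀) ((isQuasiCompactSp_yon_iff V₀).2 inferInstance) b₀ _ _ sq₀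
  obtain ⟨W₀, c₀, hc₀e, hc₀s, hW₀c⟩ := hX₀qc
  haveI : CompactSpace ↥W₀.left := hW₀c
  obtain ⟨W, qW, hW, hqWe, hqWs⟩ := exists_affine_chart_of_compact W₀
  haveI : IsAffine W.left := hW
  have hce : RepWith @Etale ((yon S).map qW ≫ c₀) := repWith_comp_yon_map @Etale qW hqWe hc₀e
  have hcs : RepWith @Surjective ((yon S).map qW ≫ c₀) :=
    repWith_comp_yon_map @Surjective qW hqWs hc₀s
  generalize (yon S).map qW ≫ c₀ = c at hce hcs
  obtain ⟨h, hh⟩ := (yon S).map_surjective (c ≫ pullback.snd f b₀)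
  have hfst₀ : RepWith @Etale (pullback.fst f b₀) :=
    MorphismProperty.of_isPullback (P := RepWith @Etale) sq₀.flip hb₀
  have hae : RepWith @Etale (c ≫ pullback.fst f b₀) := (RepWith @Etale).comp_mem _ _ hce hfst₀
  have comm : (c ≫ pullback.fst f b₀) ≫ f = (yon S).map h ≫ b₀ := by
    rw [Category.assoc, pullback.condition, ← Category.assoc, hh]
  haveI hlft' : LocallyOfFiniteType h.left := hlft (c ≫ pullback.fst f b₀) b₀ h hae hb₀ comm
  have hmap : ∀ w : ↥W.left, Points.map f (Points.ofPt (c ≫ pullback.fst f b₀) w) =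
      Points.ofPt b₀ (h.left w) := by
    intro w
    rw [Points.map_ofPt, comm, ofPt_yon_map_comp]
  -- codimension zero in `W` and in `V₀`
  have hK : ∀ w : ↥W.left, ringKrullDim ↥(V₀.left.presheaf.stalk (h.left w)) = 0 ↔
      ringKrullDim ↥(W.left.presheaf.stalk w) = 0 := by
    intro w
    constructor
    · intro hw
      have h1 : HasAt C0 Y (Points.map f (Points.ofPt (c ≫ pullback.fst f b₀) w)) := by
        rw [hmap]
        exact ⟨V₀, b₀, h.left w, hb₀, rfl, hw⟩
      exact dim_zero_of_hasAt ((hpre _).2 h1) _ hae w rfl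
    · intro hw
      have h1 : HasAt C0 X (Points.ofPt (c ≫ pullback.fst f b₀) w) := ⟨W, _, w, hae, rfl, hw⟩
      exact dim_zero_of_hasAt ((hpre _).1 h1) b₀ hb₀ (h.left w) (hmap w).symm
  have hQW : ∀ w : ↥W.left, h.left w = v₀ → w ∈ h.left.quasiFiniteLocus := by
    intro w hw
    apply quasiFiniteAt_of_fibre_dim_zero
    intro w' hw'
    exact (hK w').1 (by rw [hw', hw]; exact hv₀)
  obtain ⟨V₁, j₁, v₁, hV₁, hj₁, hjv₁, hfinW₁⟩ := exists_etale_nbhd_finite h.left v₀
    (no_generization_of_dim_zero v₀ hv₀) h.left.quasiFiniteLocus hQW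
  haveI := hV₁
  haveI := hj₁
  -- the kernel pair
  obtain ⟨hse, hte, hw, hsep, hmono⟩ := kernelPair_facts (pullback.snd f b₀) c hce h hh
  haveI := hse
  haveI := hsep
  have hv₁0 : ringKrullDim ↥(V₁.presheaf.stalk v₁) = 0 := by
    rw [Groth.Agent.H3.EtaleDim.ringKrullDim_stalk_eq_of_etale j₁ v₁, hjv₁]
    exact hv₀
  have hb₁ : RepWith @Etale
      ((yon S).map (Over.homMk j₁ rfl : Over.mk (j₁ ≫ V₀.hom) ⟶ V₀) ≫ b₀) :=
    repWith_comp_yon_map @Etale _ hj₁ hb₀
  haveI : IsAffine (Over.mk (j₁ ≫ V₀.hom)).left := hV₁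
  have hΦ : {w : ↥V₁ | ringKrullDim ↥(V₁.presheaf.stalk w) = 0 ∧ w ≠ v₁}.Finite :=
    (finite_dim_zero_of_isDecent hYd hY0 _ hb₁).subset fun w hw => hw.1
  have hΦv : ∀ φ ∈ {w : ↥V₁ | ringKrullDim ↥(V₁.presheaf.stalk w) = 0 ∧ w ≠ v₁}, ¬ φ ⤳ v₁ :=
    fun φ hφ hsp => hφ.2 (no_generization_of_dim_zero v₁ hv₁0 φ hsp)
  have hdag : ∀ O : (pullback ((hce.rep.fst' c).left ≫ h.left) j₁).Opens,
      (O : Set ↥(pullback ((hce.rep.fst' c).left ≫ h.left) j₁)).Nonempty →
      ∃ z ∈ O, pullback.snd ((hce.rep.fst' c).left ≫ h.left) j₁ z = v₁ ∨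
        pullback.snd ((hce.rep.fst' c).left ≫ h.left) j₁ z ∈
          {w : ↥V₁ | ringKrullDim ↥(V₁.presheaf.stalk w) = 0 ∧ w ≠ v₁} := by
    rintro O ⟨z₀, hz₀⟩
    obtain ⟨η, hη, hdim⟩ := exists_generization_dim_zero _ z₀
    refine ⟨η, hη.mem_open O.2 hz₀, ?_⟩
    have h1 : ringKrullDim ↥(W.left.presheaf.stalk ((hce.rep.fst' c).left
        (pullback.fst ((hce.rep.fst' c).left ≫ h.left) j₁ η))) = 0 := by
      rw [← Groth.Agent.H3.EtaleDim.ringKrullDim_stalk_eq_of_etale (hce.rep.fst' c).left,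
        ← Groth.Agent.H3.EtaleDim.ringKrullDim_stalk_eq_of_etale
          (pullback.fst ((hce.rep.fst' c).left ≫ h.left) j₁)]
      exact hdim
    have h2 := (hK _).2 h1
    have h3 : j₁ (pullback.snd ((hce.rep.fst' c).left ≫ h.left) j₁ η) =
        h.left ((hce.rep.fst' c).left (pullback.fst ((hce.rep.fst' c).left ≫ h.left) j₁ η)) := by
      rw [← Scheme.Hom.comp_apply, ← pullback.condition, Scheme.Hom.comp_apply,
        Scheme.Hom.comp_apply]
    have h4 : ringKrullDim ↥(V₁.presheaf.stalk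
        (pullback.snd ((hce.rep.fst' c).left ≫ h.left) j₁ η)) = 0 := by
      rw [Groth.Agent.H3.EtaleDim.ringKrullDim_stalk_eq_of_etale j₁, h3]
      exact h2
    by_cases hv : pullback.snd ((hce.rep.fst' c).left ≫ h.left) j₁ η = v₁
    · exact Or.inl hv
    · exact Or.inr ⟨h4, hv⟩
  obtain ⟨V₂, k, v₂, -, hk, hkv, hfinR⟩ :=
    exists_etale_nbhd_finite_relation h.left (hce.rep.fst' c).left (hce.rep.snd c).left hw hmono
      j₁ v₁ _ hΦ hΦv hdag
  haveI := hk
  refine ⟨V₂, k ≫ j₁, v₂, inferInstance, ?_, ?_⟩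
  · rw [Scheme.Hom.comp_apply, hkv, hjv₁]
  · exact isFiniteMor_of_finite_chart_pullbacks hX hY f b₀ c hce hcs h hh (k ≫ j₁)
      (isFinite_pullback_snd_comp h.left j₁ k) hfinR

end Groth.Agent.H7.QFinSp
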