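import Groth.Agent.Lib.Helper7.QFin26
import Groth.Agent.Lib.Helper7.QFin20
import Groth.Agent.Lib.Helper5.AlgSp.RedInduced
import Mathlib

/-!
# Finite over a dense open (S10400)
-/

set_option autoImplicit false
universe u

open AlgebraicGeometry CategoryTheory Limits

namespace Groth.Agent.H7.QFinSp

open _root_.AlgSp Groth.Agent.H5.AlgSp Groth.Agent.H5.EtSrc Groth.Agent.H5.Descent
open Groth.Agent.H7.QFin

variable {S : Scheme.{u}}

/-- the core of the separated case. -/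
theorem sep_core {X Y : AlgSp.Space S} (f : X ⟶ Y)
    (hYd : IsDecent Y.obj) (hY0 : {y : Points Y.obj | HasAt C0 Y.obj y}.Finite)
    (hpre : ∀ x : Points X.obj, HasAt C0 X.obj x ↔ HasAt C0 Y.obj (Points.map f.hom x))
    (y : Points Y.obj) (hy : HasAt C0 Y.obj y)
    (hfibfin : (Points.map f.hom ⁻¹' {y}).Finite)
    {U : AlgSp.Space S} (a : U ⟶ Y) (u : Points U.obj) (hae : IsEtaleMor a.hom)
    (hau : Points.map a.hom u = y) {V : Sp S} (jV : V ⟶ pullback f.hom a.hom)
    (hjo : RepWith @IsOpenImmersion jV) (hjc : RepWith @IsClosedImmersion jV)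
    (hjfin : IsFiniteMor (jV ≫ pullback.snd f.hom a.hom))
    (h5 : ∀ w : Points (pullback f.hom a.hom), w ∉ Set.range (Points.map jV) →
      Points.map (pullback.snd f.hom a.hom) w = u →
        Points.map (pullback.fst f.hom a.hom) w ∉ hfibfin.toFinset)
    {U₁o : Over S} [IsAffine U₁o.left] (e₁ : (yon S).obj U₁o ⟶ U.obj) (he₁ : RepWith @Etale e₁)
    (u₁ : ↥U₁o.left) (hu₁ : Points.ofPt e₁ u₁ = u) :
    ∃ (V₂ : Over S) (b₂ : (yon S).obj V₂ ⟶ Y.obj), RepWith @Etale b₂ ∧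
      y ∈ Set.range (Points.ofPt b₂) ∧ IsFiniteMor (pullback.snd f.hom b₂) := by
  have sqP := IsPullback.of_hasPullback f.hom a.hom
  have hb₁ : RepWith @Etale (e₁ ≫ a.hom) := hae e₁ he₁
  have hb₁u : Points.ofPt (e₁ ≫ a.hom) u₁ = y := by
    rw [← Points.map_ofPt, hu₁]
    exact hau
  have hu₁0 : ringKrullDim ↥(U₁o.left.presheaf.stalk u₁) = 0 :=
    dim_zero_of_hasAt hy _ hb₁ u₁ hb₁u
  have hEfin : {w : ↥U₁o.left | ringKrullDim ↥(U₁o.left.presheaf.stalk w) = 0 ∧ w ≠ u₁}.Finite :=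
    (finite_dim_zero_of_isDecent hYd hY0 _ hb₁).subset fun w hw => hw.1
  have huK : u₁ ∉ closure
      {w : ↥U₁o.left | ringKrullDim ↥(U₁o.left.presheaf.stalk w) = 0 ∧ w ≠ u₁} := by
    rw [← Set.biUnion_of_singleton
      {w : ↥U₁o.left | ringKrullDim ↥(U₁o.left.presheaf.stalk w) = 0 ∧ w ≠ u₁},
      hEfin.closure_biUnion]
    simp only [Set.mem_iUnion, not_exists]
    rintro w ⟨-, hw2⟩ hmem
    exact hw2 (no_generization_of_dim_zero u₁ hu₁0 w (specializes_iff_mem_closure.2 hmem))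
  obtain ⟨_, ⟨U₂ : U₁o.left.Opens, hU₂, rfl⟩, huU₂, hU₂K⟩ :=
    U₁o.left.isBasis_affineOpens.exists_subset_of_mem_open huK isClosed_closure.isOpen_compl
  have hb₂ : RepWith @Etale ((yon S).map (overOpenι U₁o U₂) ≫ e₁ ≫ a.hom) :=
    repWith_etale_restrict hb₁ U₂
  refine ⟨overOpen U₁o U₂, (yon S).map (overOpenι U₁o U₂) ≫ e₁ ≫ a.hom, hb₂,
    ⟨(⟨u₁, huU₂⟩ : ↥U₂), by rw [ofPt_restrict]; exact hb₁u⟩, ?_⟩
  -- the base change to `U₂`
  have sqX₂ := IsPullback.of_hasPullback f.hom ((yon S).map (overOpenι U₁o U₂) ≫ e₁ ≫ a.hom)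
  have hP₂ : IsAlgSpace (pullback f.hom ((yon S).map (overOpenι U₁o U₂) ≫ e₁ ≫ a.hom)) :=
    isAlgSpace_pullback Y.property.diag X.property (IsAlgSpace.yon_obj _) sqX₂
  have hγ1 : pullback.lift (pullback.fst f.hom ((yon S).map (overOpenι U₁o U₂) ≫ e₁ ≫ a.hom))
      (pullback.snd f.hom ((yon S).map (overOpenι U₁o U₂) ≫ e₁ ≫ a.hom) ≫
        (yon S).map (overOpenι U₁o U₂) ≫ e₁)
      (by rw [Category.assoc, Category.assoc, pullback.condition]) ≫ pullback.fst f.hom a.hom =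
        pullback.fst f.hom _ := pullback.lift_fst _ _ _
  have hγ2 : pullback.lift (pullback.fst f.hom ((yon S).map (overOpenι U₁o U₂) ≫ e₁ ≫ a.hom))
      (pullback.snd f.hom ((yon S).map (overOpenι U₁o U₂) ≫ e₁ ≫ a.hom) ≫
        (yon S).map (overOpenι U₁o U₂) ≫ e₁)
      (by rw [Category.assoc, Category.assoc, pullback.condition]) ≫ pullback.snd f.hom a.hom =
        pullback.snd f.hom _ ≫ (yon S).map (overOpenι U₁o U₂) ≫ e₁ := pullback.lift_snd _ _ _
  generalize pullback.lift (pullback.fst f.hom ((yon S).map (overOpenι U₁o U₂) ≫ e₁ ≫ a.hom))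
      (pullback.snd f.hom ((yon S).map (overOpenι U₁o U₂) ≫ e₁ ≫ a.hom) ≫
        (yon S).map (overOpenι U₁o U₂) ≫ e₁)
      (by rw [Category.assoc, Category.assoc, pullback.condition]) = γ at hγ1 hγ2
  have sqγ : IsPullback γ (pullback.snd f.hom ((yon S).map (overOpenι U₁o U₂) ≫ e₁ ≫ a.hom))
      (pullback.snd f.hom a.hom) ((yon S).map (overOpenι U₁o U₂) ≫ e₁) :=
    IsPullback.of_right (by rw [hγ1, Category.assoc]; exact sqX₂) hγ2 sqP
  have sqV := IsPullback.of_hasPullback jV γ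
  have hjV₂o : RepWith @IsOpenImmersion (pullback.snd jV γ) :=
    MorphismProperty.of_isPullback (P := RepWith @IsOpenImmersion) sqV hjo
  have hjV₂c : RepWith @IsClosedImmersion (pullback.snd jV γ) :=
    MorphismProperty.of_isPullback (P := RepWith @IsClosedImmersion) sqV hjc
  have hfin₂ : RepWith @IsFinite (pullback.snd jV γ ≫
      pullback.snd f.hom ((yon S).map (overOpenι U₁o U₂) ≫ e₁ ≫ a.hom)) :=
    MorphismProperty.of_isPullback (P := RepWith @IsFinite) (sqV.flip.paste_horiz sqγ.flip).flip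
      (isFiniteMor_iff_repWith.1 hjfin)
  -- surjectivity on points
  have hfst₂e : RepWith @Etale
      (pullback.fst f.hom ((yon S).map (overOpenι U₁o U₂) ≫ e₁ ≫ a.hom)) :=
    MorphismProperty.of_isPullback (P := RepWith @Etale) sqX₂.flip hb₂
  have hsurj : Function.Surjective (Points.map (pullback.snd jV γ)) := by
    intro p₂
    by_contra hp₂
    have hCopen : IsOpen (Set.range (Points.map (pullback.snd jV γ)))ᶜ :=
      (isClosed_range_points_map_of_isClosedImmersion hP₂ _ hjV₂c).isOpen_compl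
    obtain ⟨p₂', hsp, A, α, a₀, hαe, hαa, hdim⟩ := exists_generization_hasAt_dim_zero hP₂ p₂
    have hp₂' : p₂' ∉ Set.range (Points.map (pullback.snd jV γ)) := hsp.mem_open hCopen hp₂
    -- the image in `X` has codimension zero
    have hx' : HasAt C0 X.obj (Points.map (pullback.fst f.hom _) p₂') :=
      ⟨A, α ≫ pullback.fst f.hom _, a₀, (RepWith @Etale).comp_mem _ _ hαe hfst₂e,
        by rw [← Points.map_ofPt, hαa], hdim⟩
    have hy' := (hpre _).1 hx'
    rw [← Points.map_comp, pullback.condition, Points.map_comp] at hy'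
    obtain ⟨w', hw'⟩ := (Points.schemeHomeo (overOpen U₁o U₂)).surjective
      (Points.map (pullback.snd f.hom ((yon S).map (overOpenι U₁o U₂) ≫ e₁ ≫ a.hom)) p₂')
    have hw'' : Points.ofPt ((yon S).map (overOpenι U₁o U₂) ≫ e₁ ≫ a.hom) w' =
        Points.map ((yon S).map (overOpenι U₁o U₂) ≫ e₁ ≫ a.hom)
          (Points.map (pullback.snd f.hom _) p₂') := by
      rw [← hw', Points.ofPt_eq_map_ofScheme]
      rfl
    have hw'0 : ringKrullDim ↥((overOpen U₁o U₂).left.presheaf.stalk w') = 0 :=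
      dim_zero_of_hasAt hy' _ hb₂ w' hw''
    have hw'1 : ringKrullDim ↥(U₁o.left.presheaf.stalk (U₂.ι w')) = 0 := by
      rw [← Groth.Agent.H3.EtaleDim.ringKrullDim_stalk_eq_of_etale U₂.ι w']
      exact hw'0
    have hw'u : U₂.ι w' = u₁ := by
      by_contra hne
      exact hU₂K w'.2 (subset_closure ⟨hw'1, hne⟩)
    have hw'u' : w' = (⟨u₁, huU₂⟩ : ↥U₂) := U₂.ι.isOpenEmbedding.injective hw'u
    -- the point `γ p₂'` lies over `u` and over the fibre
    have h1 : Points.map (pullback.snd f.hom a.hom) (Points.map γ p₂') = u := by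
      rw [← Points.map_comp, hγ2, Points.map_comp, ← hw', hw'u']
      have : Points.map ((yon S).map (overOpenι U₁o U₂) ≫ e₁)
          (Points.schemeHomeo (overOpen U₁o U₂) (⟨u₁, huU₂⟩ : ↥U₂)) =
          Points.ofPt ((yon S).map (overOpenι U₁o U₂) ≫ e₁) (⟨u₁, huU₂⟩ : ↥U₂) := by
        rw [Points.ofPt_eq_map_ofScheme]
        rfl
      rw [this, ofPt_restrict]
      exact hu₁
    have h2 : Points.map (pullback.fst f.hom a.hom) (Points.map γ p₂') ∈ hfibfin.toFinset := by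
      rw [hfibfin.mem_toFinset, ← Points.map_comp, hγ1]
      change Points.map f.hom (Points.map (pullback.fst f.hom _) p₂') = y
      rw [← Points.map_comp, pullback.condition, Points.map_comp, ← hw'', hw'u', ofPt_restrict]
      exact hb₁u
    have h3 : Points.map γ p₂' ∈ Set.range (Points.map jV) := by
      by_contra hcon
      exact h5 _ hcon h1 h2
    obtain ⟨v, hv⟩ := h3
    obtain ⟨z, -, hz⟩ := points_pullback_surjective sqV v p₂' hv
    exact hp₂' ⟨z, hz⟩
  haveI : IsIso (pullback.snd jV γ) :=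
    isIso_of_isOpenImmersion_of_points_surjective hjV₂o hsurj
  exact isFiniteMor_iff_repWith.2
    (((RepWith @IsFinite).cancel_left_of_respectsIso (pullback.snd jV γ) _).1 hfin₂)


/-- **The separated case**: over an affine étale chart through a given point of codimension zero
the base change of `f` is finite. -/
theorem exists_finite_over_etale_nbhd_sep {X Y : AlgSp.Space S} (f : X ⟶ Y)
    (hlft : LocP @LocallyOfFiniteType f.hom) (hsep : IsSeparatedMor f.hom)
    (hYd : IsDecent Y.obj) (hX0 : {x : Points X.obj | HasAt C0 X.obj x}.Finite)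
    (hY0 : {y : Points Y.obj | HasAt C0 Y.obj y}.Finite)
    (hpre : ∀ x : Points X.obj, HasAt C0 X.obj x ↔ HasAt C0 Y.obj (Points.map f.hom x))
    (y : Points Y.obj) (hy : HasAt C0 Y.obj y) :
    ∃ (V₂ : Over S) (b₂ : (yon S).obj V₂ ⟶ Y.obj), RepWith @Etale b₂ ∧
      y ∈ Set.range (Points.ofPt b₂) ∧ IsFiniteMor (pullback.snd f.hom b₂) := by
  have hfib : ∀ x : Points X.obj, Points.map f.hom x = y → HasAt C0 X.obj x :=
    fun x hx => (hpre x).2 (by rw [hx]; exact hy)
  have hfibfin : (Points.map f.hom ⁻¹' {y}).Finite := hX0.subset fun x hx => hfib x hx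
  obtain ⟨U, a, u, hae, hau, H⟩ := S10676_main f y hfibfin.toFinset
    (fun x hx => (hfibfin.mem_toFinset.1 hx))
    hlft hsep (fun x hx => hasAtMor_qf_of_fibre_dim_zero X.property Y.property f.hom hlft y hfib x
      (hfibfin.mem_toFinset.1 hx)) (Or.inr hYd)
  have sqP := IsPullback.of_hasPullback f.hom a.hom
  have hP : IsAlgSpace (pullback f.hom a.hom) :=
    isAlgSpace_pullback Y.property.diag X.property U.property sqP
  obtain ⟨V, jV, hjo, hjc, hjfin, -, h5⟩ := H ⟨pullback f.hom a.hom, hP⟩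
    (ObjectProperty.homMk (pullback.fst f.hom a.hom)) (ObjectProperty.homMk (pullback.snd f.hom a.hom))
    sqP
  change IsFiniteMor (jV.hom ≫ pullback.snd f.hom a.hom) at hjfin
  change ∀ w : Points (pullback f.hom a.hom), w ∉ Set.range (Points.map jV.hom) →
    Points.map (pullback.snd f.hom a.hom) w = u →
      Points.map (pullback.fst f.hom a.hom) w ∉ hfibfin.toFinset at h5
  -- an affine chart of `U` through `u`
  obtain ⟨U₀, e₀, he₀e, he₀s⟩ := U.property.atlas
  obtain ⟨u₀, hu₀⟩ := ofPt_surjective_of_repWith he₀s u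
  obtain ⟨_, ⟨U₁ : U₀.left.Opens, hU₁, rfl⟩, hu₀U₁, -⟩ :=
    U₀.left.isBasis_affineOpens.exists_subset_of_mem_open (Set.mem_univ u₀) isOpen_univ
  haveI : IsAffine (overOpen U₀ U₁).left := hU₁
  have he₁ : RepWith @Etale ((yon S).map (overOpenι U₀ U₁) ≫ e₀) := repWith_etale_restrict he₀e U₁
  have hu₁ : Points.ofPt ((yon S).map (overOpenι U₀ U₁) ≫ e₀) (⟨u₀, hu₀U₁⟩ : ↥U₁) = u := by
    rw [ofPt_restrict]
    exact hu₀
  exact sep_core f hYd hY0 hpre y hy hfibfin a u hae hau jV.hom hjo hjc hjfin h5 _ he₁ _ hu₁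

/-- the quasi-compact case, in the same form as the separated case. -/
theorem exists_finite_over_etale_nbhd_qc' {X Y : Sp S} (hX : IsAlgSpace X) (hY : IsAlgSpace Y)
    (f : X ⟶ Y) (hlft : LocP @LocallyOfFiniteType f) (hqc : IsQuasiCompactMor f)
    (hYd : IsDecent Y) (hY0 : {y : Points Y | HasAt C0 Y y}.Finite)
    (hpre : ∀ x : Points X, HasAt C0 X x ↔ HasAt C0 Y (Points.map f x))
    (y : Points Y) (hy : HasAt C0 Y y) :
    ∃ (V₂ : Over S) (b₂ : (yon S).obj V₂ ⟶ Y), RepWith @Etale b₂ ∧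
      y ∈ Set.range (Points.ofPt b₂) ∧ IsFiniteMor (pullback.snd f b₂) := by
  obtain ⟨U, a, u, ha, hau, hdim⟩ := hy
  obtain ⟨_, ⟨U₁ : U.left.Opens, hU₁, rfl⟩, huU₁, -⟩ :=
    U.left.isBasis_affineOpens.exists_subset_of_mem_open (Set.mem_univ u) isOpen_univ
  haveI : IsAffine (overOpen U U₁).left := hU₁
  have hb₀ := repWith_etale_restrict ha U₁
  have hdim' : ringKrullDim ↥((overOpen U U₁).left.presheaf.stalk (⟨u, huU₁⟩ : ↥U₁)) = 0 :=
    (Groth.Agent.H3.EtaleDim.ringKrullDim_stalk_eq_of_etale U₁.ι ⟨u, huU₁⟩).trans hdim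
  obtain ⟨V₂, j, v₂, hj, hjv, hfin⟩ := exists_finite_over_etale_nbhd_qc hX hY f hlft hqc hYd hY0
    hpre _ hb₀ (⟨u, huU₁⟩ : ↥U₁) hdim'
  refine ⟨Over.mk (j ≫ (overOpen U U₁).hom), _, repWith_comp_yon_map @Etale _ hj hb₀,
    ⟨v₂, ?_⟩, hfin⟩
  rw [ofPt_yon_map_comp]
  change Points.ofPt _ (j v₂) = _
  rw [hjv, ofPt_restrict]
  exact hau

theorem S10400_main {X Y : AlgSp.Space S} (f : X ⟶ Y)
    (hf : AlgSp.LocP @LocallyOfFiniteType f.hom) (hY : AlgSp.IsDecent Y.obj)
    (hX0 : {x : AlgSp.Points X.obj | AlgSp.HasAt (fun U u => ringKrullDim ↥(U.presheaf.stalk u) = 0) X.obj x}.Finite)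
    (hY0 : {y : AlgSp.Points Y.obj | AlgSp.HasAt (fun U u => ringKrullDim ↥(U.presheaf.stalk u) = 0) Y.obj y}.Finite)
    (hpre : ∀ x : AlgSp.Points X.obj, AlgSp.HasAt (fun U u => ringKrullDim ↥(U.presheaf.stalk u) = 0) X.obj x ↔ AlgSp.HasAt (fun U u => ringKrullDim ↥(U.presheaf.stalk u) = 0) Y.obj (AlgSp.Points.map f.hom x))
    (hqs : AlgSp.IsQuasiCompactMor f.hom ∨ AlgSp.IsSeparatedMor f.hom) :
    ∃ (V X' : AlgSp.Space S) (j : V ⟶ Y) (fst : X' ⟶ V) (snd : X' ⟶ X),
      AlgSp.RepWith @IsOpenImmersion j.hom ∧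
      Dense (Set.range (AlgSp.Points.map j.hom)) ∧ IsPullback fst.hom snd.hom j.hom f.hom ∧
      AlgSp.IsFiniteMor fst.hom := by
  have key : ∀ y : Points Y.obj, HasAt C0 Y.obj y →
      ∃ (V₂ : Over S) (b₂ : (yon S).obj V₂ ⟶ Y.obj), RepWith @Etale b₂ ∧
        y ∈ Set.range (Points.ofPt b₂) ∧ IsFiniteMor (pullback.snd f.hom b₂) := by
    intro y hy
    rcases hqs with hqc | hsep
    · exact exists_finite_over_etale_nbhd_qc' X.property Y.property f.hom hf hqc hY hY0 hpre y hy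
    · exact exists_finite_over_etale_nbhd_sep f hf hsep hY hX0 hY0 hpre y hy
  obtain ⟨V, b, hbe, hbs⟩ := Y.property.atlas
  have hk : ∀ k : {v : ↥V.left // ringKrullDim ↥(V.left.presheaf.stalk v) = 0},
      HasAt C0 Y.obj (Points.ofPt b k.1) := fun k => ⟨V, b, k.1, hbe, rfl, k.2⟩
  choose V₂ b₂ hb₂e hb₂y hb₂fin using fun k => key _ (hk k)
  have hC := fun k => isFiniteMor_over_image X.property Y.property f.hom (b₂ k) (hb₂e k) (hb₂fin k)
  have hfinT := isFiniteMor_over_iUnion f.hom (fun k => Set.range (Points.ofPt (b₂ k)))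
    (fun k => (hC k).1) (fun k => (hC k).2)
  have hT : IsOpen (⋃ k, Set.range (Points.ofPt (b₂ k))) := isOpen_iUnion fun k => (hC k).1
  have hdense : Dense (⋃ k, Set.range (Points.ofPt (b₂ k))) := by
    intro y
    obtain ⟨y', hsp, hy'⟩ := exists_generization_hasAt_dim_zero Y.property y
    obtain ⟨v, hv⟩ := ofPt_surjective_of_repWith hbs y'
    have hv0 := dim_zero_of_hasAt hy' b hbe v hv
    have hmem : y' ∈ ⋃ k, Set.range (Points.ofPt (b₂ k)) :=
      Set.mem_iUnion.2 ⟨⟨v, hv0⟩, by rw [← hv]; exact hb₂y ⟨v, hv0⟩⟩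
    exact closure_mono (Set.singleton_subset_iff.2 hmem) (specializes_iff_mem_closure.1 hsp)
  have hY' := isAlgSpace_openSub Y.property hT
  refine ⟨⟨openSub Y.obj _, hY'⟩,
    ⟨pullback f.hom (openSubι Y.obj _),
      isAlgSpace_pullback Y.property.diag X.property hY' (IsPullback.of_hasPullback _ _)⟩,
    ObjectProperty.homMk (openSubι Y.obj _), ObjectProperty.homMk (pullback.snd _ _),
    ObjectProperty.homMk (pullback.fst _ _), repWith_openSubι hT, ?_,
    (IsPullback.of_hasPullback _ _).flip, hfinT⟩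
  change Dense (Set.range (Points.map (openSubι Y.obj _)))
  rw [range_points_map_openSubι]
  exact hdense

end Groth.Agent.H7.QFinSp
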