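import Groth.Agent.Lib.Helper7.QFin2
import Groth.Agent.Lib.Helper7.ClImm3
import Groth.Agent.Lib.Helper5.AlgSp.Permanence
import Mathlib

/-!
# Proper + locally quasi-finite ⇒ finite for algebraic spaces, part 1: finite étale charts
-/

set_option autoImplicit false
universe u

open AlgebraicGeometry CategoryTheory Limits

namespace Groth.Agent.H7.QFinSp

open _root_.AlgSp Groth.Agent.H5.AlgSp Groth.Agent.H5.EtSrc Groth.Agent.H5.Descent

variable {S : Scheme.{u}}

theorem isClosedImmersion_le_isFinite :
    (@IsClosedImmersion : MorphismProperty Scheme.{u}) ≤ @IsFinite := fun _ _ f hf => by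
  have : IsClosedImmersion f := hf
  exact (inferInstance : IsFinite f)

/-- an étale chart of a space separated over an affine scheme which is finite over that scheme
is a finite morphism. -/
theorem repWith_isFinite_chart {X : Sp S} {N W : Over S} (h : X ⟶ (yon S).obj N)
    (hsep : IsSeparatedMor h) (p : (yon S).obj W ⟶ X) (w : W ⟶ N)
    (hw : p ≫ h = (yon S).map w) (hfin : IsFinite w.left) : RepWith @IsFinite p := by
  refine repWith_of_comp_of_diag (P := @IsFinite) (b := h) ?_
    (repWith_mono isClosedImmersion_le_isFinite hsep)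
  rw [hw]
  exact (repWith_yon_map_iff @IsFinite w).2 hfin

/-- the points in the image of a finite étale chart from an affine scheme are schematic. -/
theorem mem_schematicSet_of_finite_chart {X : Sp S} {N W : Over S} [IsAffine N.left]
    (h : X ⟶ (yon S).obj N) (hsep : IsSeparatedMor h) (p : (yon S).obj W ⟶ X)
    (hp : RepWith @Etale p) (w : W ⟶ N) (hw : p ≫ h = (yon S).map w) (hfin : IsFinite w.left)
    (t : W.left) : Points.ofPt p t ∈ schematicSet X := by
  have hWaff : IsAffine W.left := isAffine_of_isAffineHom w.left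
  let A : CommRingCat.{u} := Γ(W.left, ⊤)
  let i : W.left ≅ Spec A := W.left.isoSpec
  let str : Spec A ⟶ S := i.inv ≫ W.hom
  let e : Over.mk str ≅ W := Over.isoMk i.symm (by simp [str])
  have hp' : RepWith @Etale ((yon S).map e.hom ≫ p) :=
    (MorphismProperty.cancel_left_of_respectsIso (RepWith (S := S) @Etale)
      ((yon S).map e.hom) p).2 hp
  have hf' : RepWith @IsFinite ((yon S).map e.hom ≫ p) :=
    (MorphismProperty.cancel_left_of_respectsIso (RepWith (S := S) @IsFinite)
      ((yon S).map e.hom) p).2 (repWith_isFinite_chart h hsep p w hw hfin)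
  have key := Groth.Agent.H3.FinQuot.mem_schematicSet_of_finite_etale_affine_chart str
    ((yon S).map e.hom ≫ p) hp' hf' (e.inv.left t)
  rw [ofPt_yon_map_comp] at key
  have : e.hom.left (e.inv.left t) = t := by
    rw [← Scheme.Hom.comp_apply, ← Over.comp_left, Iso.inv_hom_id]
    rfl
  rwa [this] at key

/-- **Shrinking**: if the fibre over `v'` of a universally closed separated morphism to a scheme
is covered by étale charts finite over the base, then over an affine neighbourhood of `v'` all
points are schematic. -/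
theorem exists_open_schematic {X' : Sp S} {V' : Over S}
    (h' : X' ⟶ (yon S).obj V') (hsep : IsSeparatedMor h') (hc : IsUnivClosedMor h')
    {κ : Type*} (W : κ → Over S) (c : ∀ k, (yon S).obj (W k) ⟶ X')
    (hce : ∀ k, RepWith @Etale (c k)) (w : ∀ k, W k ⟶ V')
    (hcw : ∀ k, c k ≫ h' = (yon S).map (w k)) (hfin : ∀ k, IsFinite (w k).left)
    (v' : V'.left)
    (hcov : ∀ ξ : Points X', Points.map h' ξ = Points.schemeHomeo V' v' →
      ∃ (k : κ) (t : (W k).left), Points.ofPt (c k) t = ξ) :
    ∃ N : V'.left.Opens, IsAffineOpen N ∧ v' ∈ N ∧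
      schematicSet (pullback h' ((yon S).map (overOpenι V' N))) = Set.univ := by
  have hΩ : IsOpen (⋃ k, Set.range (Points.ofPt (c k))) :=
    isOpen_iUnion fun k => Groth.Agent.H3.AlgSpProp.isOpen_range_ofPt (hce k)
  have hcl : IsClosedMap (Points.map h') :=
    hc (IsAlgSpace.yon_obj V') (𝟙 _) (𝟙 _) h' (IsPullback.of_horiz_isIso ⟨by simp⟩)
  have hD' := hcl _ hΩ.isClosed_compl
  have hD : IsClosed ((Points.schemeHomeo V') ⁻¹' (Points.map h' ''
      (⋃ k, Set.range (Points.ofPt (c k)))ᶜ)) :=
    hD'.preimage (Points.schemeHomeo V').continuous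
  have hsnd : ∀ (k : κ) (t : (W k).left), Points.map h' (Points.ofPt (c k) t) =
      Points.schemeHomeo V' ((w k).left t) := by
    intro k t
    rw [Points.map_ofPt, hcw k]
    have := ofPt_yon_map_comp (w k) (𝟙 _) t
    rw [Category.comp_id] at this
    rw [this]
    rfl
  have hv' : v' ∉ (Points.schemeHomeo V') ⁻¹' (Points.map h' ''
      (⋃ k, Set.range (Points.ofPt (c k)))ᶜ) := by
    rintro ⟨ξ, hξ, hξv⟩
    apply hξ
    obtain ⟨k, t, rfl⟩ := hcov ξ hξv
    exact Set.mem_iUnion.2 ⟨k, t, rfl⟩
  obtain ⟨_, ⟨N, hN, rfl⟩, hvN, hND⟩ :=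
    V'.left.isBasis_affineOpens.exists_subset_of_mem_open hv' hD.isOpen_compl
  refine ⟨N, hN, hvN, ?_⟩
  have sq := IsPullback.of_hasPullback h' ((yon S).map (overOpenι V' N))
  have hιmono : Mono (overOpenι V' N) := by
    have : Mono (overOpenι V' N).left := by
      change Mono (Scheme.Opens.ι (X := V'.left) N)
      infer_instance
    exact Over.mono_of_mono_left _
  have hιe : Etale (overOpenι V' N).left := by
    change Etale (Scheme.Opens.ι (X := V'.left) N)
    infer_instance
  have hme : RepWith @Etale (pullback.fst h' ((yon S).map (overOpenι V' N))) :=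
    MorphismProperty.of_isPullback (P := RepWith @Etale) sq.flip
      ((repWith_yon_map_iff @Etale _).2 hιe)
  have hsep'' : IsSeparatedMor (pullback.snd h' ((yon S).map (overOpenι V' N))) :=
    repWith_diag_of_isPullback sq hsep
  have hNaff : IsAffine (overOpen V' N).left := hN
  apply Set.eq_univ_of_forall
  intro ξ''
  obtain ⟨n, hn⟩ := ofScheme_surjective (overOpen V' N)
    (Points.map (pullback.snd h' ((yon S).map (overOpenι V' N))) ξ'')
  have h1 : Points.map h' (Points.map (pullback.fst h' ((yon S).map (overOpenι V' N))) ξ'') =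
      Points.schemeHomeo V' ((overOpenι V' N).left n) := by
    rw [← Points.map_comp, pullback.condition, Points.map_comp, ← hn, Points.map_ofPt,
      Category.id_comp]
    have := ofPt_yon_map_comp (overOpenι V' N) (𝟙 _) n
    rw [Category.comp_id] at this
    rw [this]
    rfl
  have hnN : (overOpenι V' N).left n ∈ N := n.2
  have h2 : Points.map (pullback.fst h' ((yon S).map (overOpenι V' N))) ξ'' ∈
      ⋃ k, Set.range (Points.ofPt (c k)) := by
    by_contra hcon
    apply hND hnN
    exact ⟨_, hcon, h1⟩
  obtain ⟨k, t, ht⟩ := Set.mem_iUnion.1 h2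
  have htN : (w k).left t ∈ N := by
    have := hsnd k t
    rw [ht, h1] at this
    have := (Points.schemeHomeo V').injective this
    rw [← this]
    exact hnN
  have comm'' : ((yon S).map (overOpenι (W k) ((w k).left ⁻¹ᵁ N)) ≫ c k) ≫ h' =
      (yon S).map (overRestrict (w k) N) ≫ (yon S).map (overOpenι V' N) := by
    rw [Category.assoc, hcw k, ← Functor.map_comp, ← Functor.map_comp, overRestrict_comp]
  have hp''e : RepWith @Etale (pullback.lift _ _ comm'' :
      (yon S).obj (overOpen (W k) ((w k).left ⁻¹ᵁ N)) ⟶
        pullback h' ((yon S).map (overOpenι V' N))) := by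
    refine repWith_etale_of_comp (b := pullback.fst h' ((yon S).map (overOpenι V' N))) ?_ hme
    rw [pullback.lift_fst]
    exact repWith_etale_restrict (hce k) _
  have hfin'' : IsFinite (overRestrict (w k) N).left := by
    rw [overRestrict_left]
    have := hfin k
    infer_instance
  have key := mem_schematicSet_of_finite_chart
    (pullback.snd h' ((yon S).map (overOpenι V' N))) hsep'' (pullback.lift _ _ comm'') hp''e
    (overRestrict (w k) N) (pullback.lift_snd _ _ _) hfin'' ⟨t, htN⟩
  have : Points.ofPt (pullback.lift _ _ comm'' :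
      (yon S).obj (overOpen (W k) ((w k).left ⁻¹ᵁ N)) ⟶
        pullback h' ((yon S).map (overOpenι V' N))) ⟨t, htN⟩ = ξ'' := by
    apply points_map_injective_of_mono (pullback.fst h' ((yon S).map (overOpenι V' N)))
    rw [Points.map_ofPt, pullback.lift_fst, ← ht]
    exact ofPt_restrict _ ((w k).left ⁻¹ᵁ N) ⟨t, htN⟩
  rwa [this] at key

end Groth.Agent.H7.QFinSp
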