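import Groth.Agent.Lib.Helper7.QFin3
import Groth.Agent.Lib.Helper5.AlgSp.AffineChart
import Groth.Agent.Lib.Helper5.AlgSp.QCompact
import Mathlib

/-!
# Proper + locally quasi-finite ⇒ finite for algebraic spaces, part 2: the local statement
-/

set_option autoImplicit false
universe u

open AlgebraicGeometry CategoryTheory Limits

namespace Groth.Agent.H7.QFinSp

open _root_.AlgSp Groth.Agent.H5.AlgSp Groth.Agent.H5.EtSrc Groth.Agent.H5.Descent

variable {S : Scheme.{u}}

/-- **The local statement**: a separated, universally closed, locally quasi-finite morphism from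
a quasi-compact algebraic space to an affine scheme becomes schematic over an étale
neighbourhood of any point of the base. -/
theorem exists_etale_nbhd_schematic {X : Sp S} (hX : IsAlgSpace X) {V : Over S} [IsAffine V.left]
    (h : X ⟶ (yon S).obj V) (hsep : IsSeparatedMor h) (hc : IsUnivClosedMor h)
    (hl : LocP (@LocallyQuasiFinite ⊓ @LocallyOfFiniteType) h) (hq : IsQuasiCompactSp X)
    (v : V.left) :
    ∃ (V'' : Over S) (j'' : V'' ⟶ V), Etale j''.left ∧ v ∈ Set.range j''.left ∧
      IsAffine V''.left ∧
      ∃ (P : Sp S) (fst : P ⟶ X) (snd : P ⟶ (yon S).obj V''),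
        IsPullback fst snd h ((yon S).map j'') ∧ schematicSet P = Set.univ := by
  -- an affine surjective étale chart
  obtain ⟨U₀, a₀, ha₀e, ha₀s, hU₀⟩ := hq
  have : CompactSpace ↥U₀.left := hU₀
  obtain ⟨U, q, hUaff, hqe, hqs⟩ := exists_affine_chart_of_compact U₀
  have hae : RepWith @Etale ((yon S).map q ≫ a₀) := repWith_comp_yon_map @Etale q hqe ha₀e
  have has : RepWith @Surjective ((yon S).map q ≫ a₀) :=
    repWith_comp_yon_map @Surjective q hqs ha₀s
  obtain ⟨g, hg⟩ := (yon S).map_surjective (((yon S).map q ≫ a₀) ≫ h)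
  have hgP := hl ((yon S).map q ≫ a₀) (𝟙 _) g hae ((RepWith @Etale).id_mem _)
    (by rw [Category.comp_id, hg])
  have hg1 : LocallyQuasiFinite g.left := hgP.1
  have hg2 : LocallyOfFiniteType g.left := hgP.2
  -- étale localization
  obtain ⟨V'₀, j₀, v'₀, hj₀, hv'₀, hgood⟩ := Groth.Agent.H7.QFin.exists_good_nbhd g.left v
  let V' : Over S := Over.mk (j₀ ≫ V.hom)
  let j : V' ⟶ V := Over.homMk j₀ rfl
  have hje : Etale j.left := hj₀
  have sqO := IsPullback.of_hasPullback g j
  have sqL : IsPullback (pullback.fst g j).left (pullback.snd g j).left g.left j.left :=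
    sqO.map (Over.forget S)
  obtain ⟨L, hL, hLcov⟩ := hgood.of_isPullback sqL
  have sqY := sqO.map (yon S)
  -- the base change and its chart
  have comm : ((yon S).map (pullback.fst g j) ≫ (yon S).map q ≫ a₀) ≫ h =
      (yon S).map (pullback.snd g j) ≫ (yon S).map j := by
    rw [Category.assoc, ← hg, ← Functor.map_comp, ← Functor.map_comp, pullback.condition]
  have sqX := IsPullback.of_hasPullback h ((yon S).map j)
  have hX' : IsAlgSpace (pullback h ((yon S).map j)) :=
    isAlgSpace_pullback (IsAlgSpace.yon_obj V).diag hX (IsAlgSpace.yon_obj V') sqX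
  have hfe : Etale (pullback.fst g j).left :=
    MorphismProperty.of_isPullback (P := @Etale) sqL.flip hje
  have ha'1 : RepWith @Etale ((yon S).map (pullback.fst g j) ≫ (yon S).map q ≫ a₀) :=
    repWith_comp_yon_map @Etale _ hfe hae
  have hb : RepWith @Etale ((yon S).map j) := (repWith_yon_map_iff @Etale j).2 hje
  have ha'e : RepWith @Etale (pullback.lift _ _ comm :
      (yon S).obj (pullback g j) ⟶ pullback h ((yon S).map j)) :=
    Groth.Agent.H7.GorSp.repWith_etale_lift _ ((yon S).map j) (pullback.snd g j) ha'1 hb comm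
  -- the chart is surjective on points
  have sqLeft : IsPullback (pullback.lift _ _ comm :
      (yon S).obj (pullback g j) ⟶ pullback h ((yon S).map j))
      ((yon S).map (pullback.fst g j)) (pullback.fst h ((yon S).map j))
      ((yon S).map q ≫ a₀) := by
    refine IsPullback.of_right ?_ (pullback.lift_fst _ _ _) sqX.flip
    rw [pullback.lift_snd, ← hg]
    exact sqY.flip
  have ha's : ∀ ξ : Points (pullback h ((yon S).map j)), ∃ z : (pullback g j).left,
      Points.ofPt (pullback.lift _ _ comm :
        (yon S).obj (pullback g j) ⟶ pullback h ((yon S).map j)) z = ξ := by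
    intro ξ
    obtain ⟨u, hu⟩ := ofPt_surjective_of_repWith has
      (Points.map (pullback.fst h ((yon S).map j)) ξ)
    obtain ⟨z, hz1, -⟩ := points_pullback_surjective sqLeft ξ (Points.ofScheme U u)
      (by rw [Points.map_ofPt, Category.id_comp, hu])
    obtain ⟨zz, rfl⟩ := ofScheme_surjective _ z
    refine ⟨zz, ?_⟩
    rw [← hz1, Points.map_ofPt, Category.id_comp]
  -- the family of finite charts
  have hsep' : IsSeparatedMor (pullback.snd h ((yon S).map j)) :=
    repWith_diag_of_isPullback sqX hsep
  have hc' : IsUnivClosedMor (pullback.snd h ((yon S).map j)) := univSp_of_isPullback sqX hc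
  obtain ⟨N, hN, hvN, hs⟩ := exists_open_schematic
    (pullback.snd h ((yon S).map j)) hsep' hc'
    (κ := {A : (pullback g j).left.Opens // A ∈ L})
    (fun k => overOpen (pullback g j) k.1)
    (fun k => (yon S).map (overOpenι (pullback g j) k.1) ≫ pullback.lift _ _ comm)
    (fun k => repWith_etale_restrict ha'e k.1)
    (fun k => overOpenι (pullback g j) k.1 ≫ pullback.snd g j)
    (fun k => by rw [Category.assoc, pullback.lift_snd, Functor.map_comp])
    (fun k => (hL k.1 k.2).2) v'₀
    (by
      intro ξ hξ
      obtain ⟨z, rfl⟩ := ha's ξ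
      have hz : (pullback.snd g j).left z = v'₀ := by
        apply (Points.schemeHomeo V').injective
        rw [← hξ, Points.map_ofPt, pullback.lift_snd]
        have := ofPt_yon_map_comp (pullback.snd g j) (𝟙 _) z
        rw [Category.comp_id] at this
        rw [this]
        rfl
      obtain ⟨A, hA, hzA⟩ := hLcov z hz
      exact ⟨⟨A, hA⟩, ⟨z, hzA⟩, ofPt_restrict _ A ⟨z, hzA⟩⟩)
  refine ⟨overOpen V' N, overOpenι V' N ≫ j, ?_, ?_, hN,
    pullback (pullback.snd h ((yon S).map j)) ((yon S).map (overOpenι V' N)),
    pullback.fst _ _ ≫ pullback.fst h ((yon S).map j), pullback.snd _ _, ?_, hs⟩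
  · rw [Over.comp_left]
    have : Etale (overOpenι V' N).left := by
      change Etale (Scheme.Opens.ι (X := V'.left) N)
      infer_instance
    infer_instance
  · refine ⟨⟨v'₀, hvN⟩, ?_⟩
    rw [← hv'₀]
    rfl
  · have := (IsPullback.of_hasPullback (pullback.snd h ((yon S).map j))
      ((yon S).map (overOpenι V' N))).paste_horiz sqX
    rwa [← Functor.map_comp] at this

end Groth.Agent.H7.QFinSp
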