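import Groth.Agent.Lib.Helper7.QFin4
import Groth.Agent.Lib.Helper7.ClImm4
import Groth.Agent.Lib.Helper5.AlgSp.DiagProp
import Groth.Agent.Lib.Helper5.AlgSp.IntegralMor
import Groth.Agent.Lib.Helper5.Descent.SepLQFFam
import Mathlib

/-!
# Proper + locally quasi-finite ⇒ finite for algebraic spaces, part 3: the theorem
-/

set_option autoImplicit false
universe u

open AlgebraicGeometry CategoryTheory Limits

namespace Groth.Agent.H7.QFinSp

open _root_.AlgSp Groth.Agent.H5.AlgSp Groth.Agent.H5.EtSrc Groth.Agent.H5.Descent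

variable {S : Scheme.{u}}

theorem etale_le_lqf : (@Etale : MorphismProperty Scheme.{u}) ≤ @LocallyQuasiFinite :=
  fun _ _ g (hg : Etale g) => Groth.Agent.H7.QFin.locallyQuasiFinite_of_unramified' g

theorem etale_le_lft : (@Etale : MorphismProperty Scheme.{u}) ≤ @LocallyOfFiniteType :=
  fun _ _ g (hg : Etale g) => (inferInstance : LocallyOfFiniteType g)

theorem etale_le_lqf_lft :
    (@Etale : MorphismProperty Scheme.{u}) ≤
      (@LocallyQuasiFinite ⊓ @LocallyOfFiniteType : MorphismProperty Scheme.{u}) :=
  fun _ _ g hg => ⟨etale_le_lqf _ _ g hg, etale_le_lft _ _ g hg⟩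

/-- **Representability**: a separated, universally closed, locally quasi-finite morphism from a
quasi-compact algebraic space to an affine scheme is representable. -/
theorem representable_of_affine_base {X : Sp S} (hX : IsAlgSpace X) {V : Over S}
    [IsAffine V.left] (h : X ⟶ (yon S).obj V) (hsep : IsSeparatedMor h)
    (hc : IsUnivClosedMor h) (hl : LocP (@LocallyQuasiFinite ⊓ @LocallyOfFiniteType) h)
    (hq : IsQuasiCompactSp X) : Representable h := by
  choose V'' j'' hje hv haff P fst snd sq hs using
    exists_etale_nbhd_schematic hX h hsep hc hl hq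
  have hcover : IsFppfCover (fun v : V.left => (yon S).obj (V'' v))
      (fun v => (yon S).map (j'' v)) := by
    refine ⟨fun v => ⟨?_, ?_⟩, fun x => ?_⟩
    · exact (locP_yon_map_iff (P := @Flat)
        (fun _ _ g (hg : Etale g) => (inferInstance : Flat g)) (j'' v)).2
        (by have := hje v; infer_instance)
    · exact (locP_yon_map_iff (P := @LocallyOfFinitePresentation)
        (fun _ _ g (hg : Etale g) => (inferInstance : LocallyOfFinitePresentation g)) (j'' v)).2
        (by have := hje v; infer_instance)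
    · obtain ⟨v₀, rfl⟩ := (Points.schemeHomeo V).surjective x
      obtain ⟨t, ht⟩ := hv v₀
      refine ⟨v₀, Points.ofScheme _ t, ?_⟩
      rw [Points.map_ofPt, Category.id_comp]
      have := ofPt_yon_map_comp (j'' v₀) (𝟙 _) t
      rw [Category.comp_id] at this
      rw [this, ht]
      rfl
  have hP : ∀ v, IsAlgSpace (P v) := fun v =>
    isAlgSpace_pullback (IsAlgSpace.yon_obj V).diag hX (IsAlgSpace.yon_obj _) (sq v)
  have hrep : ∀ v, Representable (snd v) := by
    intro v
    obtain ⟨Z, ⟨e⟩⟩ := Groth.Agent.H3.Decent.isRepresentable_of_schematicSet_eq_univ (hP v) (hs v)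
    obtain ⟨z, hz⟩ := (yon S).map_surjective (e.hom ≫ snd v)
    have h1 : Representable ((yon S).map z) := representable_yon_map z
    rw [hz] at h1
    exact (MorphismProperty.cancel_left_of_respectsIso (Representable (S := S)) e.hom (snd v)).1 h1
  have hl' : ∀ v, LocP (@LocallyQuasiFinite ⊓ @LocallyOfFiniteType) (snd v) := fun v =>
    locP_baseChange_scheme etale_le_lqf_lft (sq v) hX hl
  refine representable_of_jointly_locallySurjective_baseChange_sepLQF
    (fun v : V.left => (yon S).map (j'' v))
    (Groth.Agent.H3.AlgSpCov.jointLiftSieve_mem_of_isFppfCover (IsAlgSpace.yon_obj V) _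
      (fun v => IsAlgSpace.yon_obj _) _ hcover)
    sq
    (fun v => repWith_isSeparated_of_isSeparatedMor (hrep v) (repWith_diag_of_isPullback (sq v) hsep))
    (fun v => repWith_of_locP (IsAlgSpace.yon_obj _) (hrep v) (locP_mono inf_le_left (hl' v)))
    (fun v => repWith_of_locP (IsAlgSpace.yon_obj _) (hrep v) (locP_mono inf_le_right (hl' v)))

/-- **Finiteness over an affine base.** -/
theorem exists_finite_of_affine_base {X : Sp S} (hX : IsAlgSpace X) {V : Over S}
    [IsAffine V.left] (h : X ⟶ (yon S).obj V) (hsep : IsSeparatedMor h)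
    (hc : IsUnivClosedMor h) (hl : LocP (@LocallyQuasiFinite ⊓ @LocallyOfFiniteType) h)
    (hq : IsQuasiCompactSp X) :
    ∃ (W : Over S) (w : W ⟶ V) (e : (yon S).obj W ≅ X), e.hom ≫ h = (yon S).map w ∧
      IsFinite w.left := by
  have hrep := representable_of_affine_base hX h hsep hc hl hq
  obtain ⟨W, w, fst, sq⟩ := hrep (𝟙 ((yon S).obj V))
  have hiso : IsIso fst := sq.isIso_fst_of_isIso
  have h1 : IsSeparated w.left :=
    (repWith_isSeparated_of_isSeparatedMor hrep hsep).property _ _ _ sq
  have h2 : UniversallyClosed w.left :=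
    ((repWith_universallyClosed_iff hrep).2 hc).property _ _ _ sq
  have h3 : LocallyQuasiFinite w.left :=
    (repWith_of_locP (P := @LocallyQuasiFinite) (IsAlgSpace.yon_obj _) hrep
      (locP_mono inf_le_left hl)).property _ _ _ sq
  have h4 : LocallyOfFiniteType w.left :=
    (repWith_of_locP (P := @LocallyOfFiniteType) (IsAlgSpace.yon_obj _) hrep
      (locP_mono inf_le_right hl)).property _ _ _ sq
  have h5 : IsProper w.left := {}
  refine ⟨W, w, asIso fst, ?_, IsFinite.of_isProper_of_locallyQuasiFinite w.left⟩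
  have := sq.w
  rw [Category.comp_id] at this
  exact this

/-- **Proper and locally quasi-finite morphisms of algebraic spaces are finite.** -/
theorem isFiniteMor_of_isProperMor_of_lqf {X Y : Sp S} (hX : IsAlgSpace X) (hY : IsAlgSpace Y)
    (f : X ⟶ Y) (hf : IsProperMor f)
    (hl : LocP (@LocallyQuasiFinite ⊓ @LocallyOfFiniteType) f) : IsFiniteMor f := by
  obtain ⟨hsep, ⟨-, hqc⟩, hc⟩ := hf
  intro Z hZ g
  have sq := IsPullback.of_hasPullback f g
  have hXZ : IsAlgSpace (pullback f g) := isAlgSpace_pullback hY.diag hX (IsAlgSpace.yon_obj Z) sq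
  have hl' : LocP (@LocallyQuasiFinite ⊓ @LocallyOfFiniteType) (pullback.snd f g) :=
    locP_of_isPullback etale_le_lqf_lft sq hX hY (IsAlgSpace.yon_obj Z) hl
  have hc' : IsUnivClosedMor (pullback.snd f g) := univSp_of_isPullback sq hc
  have hsep' : IsSeparatedMor (pullback.snd f g) := repWith_diag_of_isPullback sq hsep
  have hZc : IsQuasiCompactSp ((yon S).obj Z) := by
    rw [isQuasiCompactSp_yon_iff]
    have : IsAffine Z.left := hZ
    infer_instance
  have hq' : IsQuasiCompactSp (pullback f g) :=
    hqc (IsAlgSpace.yon_obj Z) hZc g _ _ sq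
  have : IsAffine Z.left := hZ
  obtain ⟨W, w, e, he, hfin⟩ := exists_finite_of_affine_base hXZ (pullback.snd f g) hsep' hc' hl' hq'
  refine ⟨W, w, e.hom ≫ pullback.fst f g, ?_, isAffine_of_isAffineHom w.left, hfin⟩
  have sq' : IsPullback e.hom ((yon S).map w) (pullback.snd f g) (𝟙 _) :=
    IsPullback.of_horiz_isIso ⟨by rw [he, Category.comp_id]⟩
  have := sq'.paste_horiz sq
  rwa [Category.id_comp] at this

end Groth.Agent.H7.QFinSp
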