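import Groth.Agent.Lib.Helper7.QFin5
import Groth.Agent.Lib.Helper5.AlgSp.UnivClosed2
import Groth.Agent.Lib.Helper5.AlgSp.LocPAt
import Mathlib

/-!
# Applications of "proper + locally quasi-finite ⇒ finite" (S16833, S10650)
-/

set_option autoImplicit false
universe u

open AlgebraicGeometry CategoryTheory Limits

namespace Groth.Agent.H7.QFinSp

open _root_.AlgSp Groth.Agent.H5.AlgSp Groth.Agent.H5.EtSrc Groth.Agent.H5.Descent

variable {S : Scheme.{u}}

theorem finite_le_lqf_lft : (@IsFinite : MorphismProperty Scheme.{u}) ≤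
    (@LocallyQuasiFinite ⊓ @LocallyOfFiniteType : MorphismProperty Scheme.{u}) :=
  fun _ _ g (hg : IsFinite g) => ⟨inferInstance, inferInstance⟩

theorem finite_le_univClosed : (@IsFinite : MorphismProperty Scheme.{u}) ≤ @UniversallyClosed :=
  fun _ _ g (hg : IsFinite g) => (inferInstance : UniversallyClosed g)

theorem finite_le_quasiCompact : (@IsFinite : MorphismProperty Scheme.{u}) ≤ @QuasiCompact :=
  fun _ _ g (hg : IsFinite g) => (inferInstance : QuasiCompact g)

theorem S16833_main {U X Y : AlgSp.Space S} (p : U ⟶ X) (f : X ⟶ Y)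
    (hp : AlgSp.IsEtaleMor p.hom) (hps : AlgSp.IsSurjectiveMor p.hom)
    (hf : AlgSp.IsSeparatedMor f.hom) (h : AlgSp.IsFiniteMor (p ≫ f).hom) :
    AlgSp.IsFiniteMor f.hom := by
  have hfin : RepWith @IsFinite (p.hom ≫ f.hom) := isFiniteMor_iff_repWith.1 h
  have huc : IsUnivClosedMor (p.hom ≫ f.hom) :=
    (repWith_universallyClosed_iff hfin.rep).1 (repWith_mono finite_le_univClosed hfin)
  have hqc : IsQuasiCompactMor (p.hom ≫ f.hom) :=
    isQuasiCompactMor_of_repWith (repWith_mono finite_le_quasiCompact hfin)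
  have hl : LocP (@LocallyQuasiFinite ⊓ @LocallyOfFiniteType) (p.hom ≫ f.hom) :=
    locP_of_repWith etale_le_lqf_lft (repWith_mono finite_le_lqf_lft hfin)
  have huc' : IsUnivClosedMor f.hom := isUnivClosedMor_of_comp_surjective hps huc
  have hqc' : IsQuasiCompactMor f.hom :=
    isQuasiCompactMor_of_comp_surjective X.property Y.property hps hqc
  obtain ⟨U₀, c, hce, hcs⟩ := U.property.atlas
  have hφe : RepWith @Etale (c ≫ p.hom) := hp c hce
  have hφs : RepWith @Surjective (c ≫ p.hom) := by
    refine repWith_surjective_of_points hφe.rep fun x => ?_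
    obtain ⟨u, rfl⟩ := hps x
    obtain ⟨t, rfl⟩ := ofPt_surjective_of_repWith hcs u
    refine ⟨Points.ofScheme U₀ t, ?_⟩
    rw [Points.map_ofPt, Category.id_comp, Points.map_ofPt]
  have hl' : LocP (@LocallyQuasiFinite ⊓ @LocallyOfFiniteType) f.hom := by
    refine locP_of_comp_etale_surjective etale_le_lqf_lft (IsAlgSpace.yon_obj U₀) Y.property
      hφe hφs ?_
    rw [Category.assoc]
    exact locP_comp_etale hce hl
  exact isFiniteMor_of_isProperMor_of_lqf X.property Y.property f.hom
    ⟨hf, ⟨locP_mono inf_le_right hl', hqc'⟩, huc'⟩ hl'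

theorem isOpen_range_points_map_of_openImm {F G : Sp S} {j : F ⟶ G}
    (hj : RepWith @IsOpenImmersion j) : IsOpen (Set.range (Points.map j)) := by
  rw [← Set.image_univ]
  exact isOpenMap_points_map_of_repWith (P := @IsOpenImmersion)
    (fun g (hg : IsOpenImmersion g) => g.isOpenEmbedding.isOpenMap) hj _ isOpen_univ

theorem openImm_le_etale : (@IsOpenImmersion : MorphismProperty Scheme.{u}) ≤ @Etale :=
  fun _ _ g (hg : IsOpenImmersion g) => (inferInstance : Etale g)

theorem S10650_main {X Y : AlgSp.Space S} (f : X ⟶ Y) (y : AlgSp.Points Y.obj)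
    (hf : AlgSp.IsProperMor f.hom)
    (hq : ∀ x : AlgSp.Points X.obj, AlgSp.Points.map f.hom x = y →
      AlgSp.HasAtMor (fun U _ h u => ∃ W : U.Opens, u ∈ W ∧ LocallyQuasiFinite (W.ι ≫ h) ∧
        LocallyOfFiniteType (W.ι ≫ h)) f.hom x) :
    ∃ (V : AlgSp.Space S) (j : V ⟶ Y), AlgSp.RepWith @IsOpenImmersion j.hom ∧
      y ∈ Set.range (AlgSp.Points.map j.hom) ∧
        ∀ (P : AlgSp.Space S) (fst : P ⟶ X) (snd : P ⟶ V),
          IsPullback fst.hom snd.hom f.hom j.hom → AlgSp.IsFiniteMor snd.hom := by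
  -- the quasi-finite locus is open
  let QFset : Set (Points X.obj) := {x | HasAtMor (fun U _ h u => ∃ W : U.Opens, u ∈ W ∧
    (@LocallyQuasiFinite ⊓ @LocallyOfFiniteType : MorphismProperty Scheme.{u}) (W.ι ≫ h)) f.hom x}
  have hopen : IsOpen QFset := by
    rw [isOpen_iff_forall_mem_open]
    intro x hx
    obtain ⟨F', j', hF', hj', hx', hloc⟩ :=
      (hasAtMor_iff_exists_open etale_le_lqf_lft X.property Y.property x).1 hx
    refine ⟨Set.range (Points.map j'), ?_, isOpen_range_points_map_of_openImm hj', hx'⟩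
    intro x'' hx''
    exact (hasAtMor_iff_exists_open etale_le_lqf_lft X.property Y.property x'').2
      ⟨F', j', hF', hj', hx'', hloc⟩
  have hcl : IsClosedMap (Points.map f.hom) :=
    hf.2.2 Y.property (𝟙 _) (𝟙 _) _ (IsPullback.of_horiz_isIso ⟨by simp⟩)
  have hΩ : IsOpen (Points.map f.hom '' QFsetᶜ)ᶜ := (hcl _ hopen.isClosed_compl).isOpen_compl
  have hy : y ∈ (Points.map f.hom '' QFsetᶜ)ᶜ := by
    rintro ⟨z, hz, rfl⟩
    exact hz (hq z rfl)
  refine ⟨⟨openSub Y.obj _, isAlgSpace_openSub Y.property hΩ⟩,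
    ObjectProperty.homMk (openSubι Y.obj _), repWith_openSubι hΩ, ?_, ?_⟩
  · change y ∈ Set.range (Points.map (openSubι Y.obj _))
    rw [range_points_map_openSubι]
    exact hy
  · intro P fst snd sq
    change IsPullback fst.hom snd.hom f.hom (openSubι Y.obj _) at sq
    have hV : IsAlgSpace (openSub Y.obj (Points.map f.hom '' QFsetᶜ)ᶜ) :=
      isAlgSpace_openSub Y.property hΩ
    have hprop : IsProperMor snd.hom :=
      isProperMor_of_isPullback sq X.property Y.property hV hf
    have hfst : RepWith @IsOpenImmersion fst.hom :=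
      MorphismProperty.of_isPullback (P := RepWith @IsOpenImmersion) sq.flip (repWith_openSubι hΩ)
    have hl : LocP (@LocallyQuasiFinite ⊓ @LocallyOfFiniteType) snd.hom := by
      rw [locP_iff_forall_hasAtMor etale_le_lqf_lft P.property hV]
      intro z
      have hx : Points.map fst.hom z ∈ QFset := by
        by_contra hcon
        have h1 : Points.map f.hom (Points.map fst.hom z) ∈
            Set.range (Points.map (openSubι Y.obj (Points.map f.hom '' QFsetᶜ)ᶜ)) := by
          rw [← Points.map_comp, sq.w, Points.map_comp]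
          exact ⟨_, rfl⟩
        rw [range_points_map_openSubι] at h1
        exact h1 ⟨_, hcon, rfl⟩
      obtain ⟨F', j', hF', hj', ⟨x', hx'⟩, hloc⟩ :=
        (hasAtMor_iff_exists_open etale_le_lqf_lft X.property Y.property _).1 hx
      have sq' := IsPullback.of_hasPullback j' fst.hom
      have hF'' : IsAlgSpace (pullback j' fst.hom) :=
        isAlgSpace_pullback X.property.diag hF' P.property sq'
      have hj'' : RepWith @IsOpenImmersion (pullback.snd j' fst.hom) :=
        MorphismProperty.of_isPullback (P := RepWith @IsOpenImmersion) sq' hj'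
      have hfst'' : RepWith @Etale (pullback.fst j' fst.hom) :=
        repWith_mono openImm_le_etale
          (MorphismProperty.of_isPullback (P := RepWith @IsOpenImmersion) sq'.flip hfst)
      obtain ⟨z'', -, hz''⟩ := points_pullback_surjective sq' x' z hx'
      refine (hasAtMor_iff_exists_open etale_le_lqf_lft P.property hV z).2
        ⟨pullback j' fst.hom, pullback.snd j' fst.hom, hF'', hj'', ⟨z'', hz''⟩, ?_⟩
      refine locP_of_comp etale_le_lqf_lft (Pc := ⊤)
        (fun u v huv _ => ⟨@LocallyQuasiFinite.of_comp _ _ _ u v huv.1,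
          @locallyOfFiniteType_of_comp _ _ _ u v huv.2⟩) Y.property
        (g := openSubι Y.obj (Points.map f.hom '' QFsetᶜ)ᶜ) ?_
        (fun _ _ _ _ _ _ _ _ => trivial)
      have : (pullback.snd j' fst.hom ≫ snd.hom) ≫ openSubι Y.obj _ =
          pullback.fst j' fst.hom ≫ j' ≫ f.hom := by
        rw [Category.assoc, ← sq.w, ← Category.assoc, ← pullback.condition, Category.assoc]
      rw [this]
      exact locP_comp_etale hfst'' hloc
    exact isFiniteMor_of_isProperMor_of_lqf P.property hV snd.hom hprop hl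

end Groth.Agent.H7.QFinSp
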