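import Groth.Agent.Lib.Helper7.QL1
import Groth.Agent.Lib.Helper5.FunFld.Conorm
import Groth.Agent.Lib.Helper5.FunFld.Galois
import Mathlib.RingTheory.Adjoin.PowerBasis

/-! Quadratic extensions of function fields: `L`-spaces of conorms, the involution (helper7). -/

set_option autoImplicit false
set_option linter.unusedSectionVars false

namespace Groth.Agent.H7.QL

open FunFld WithZero Polynomial

variable {k F K : Type*} [Field k] [Field F] [Field K] [Algebra k F] [Algebra F K] [Algebra k K]
  [IsScalarTower k F K]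

section conormL

variable [FiniteDimensional F K]

theorem algebraMap_mem_L_conorm_iff (hF : IsFunctionField k F) (D : Divisor k F) (a : F) :
    algebraMap F K a ∈ L (conorm K D) ↔ a ∈ L D := by
  rw [mem_L, mem_L]
  constructor
  · intro h P
    obtain ⟨Q, hQ⟩ := exists_isOver (K := K) hF P
    have he := hQ.isOverWith
    have h1 := h Q
    rw [conorm_apply hF.isFF1 D he, he a] at h1
    rcases eq_or_ne a 0 with rfl | ha
    · simp
    rw [P.v_eq_exp_neg_ord ha, ← exp_nsmul, exp_le_exp] at h1
    rw [P.v_eq_exp_neg_ord ha, exp_le_exp]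
    have hpos : (0 : ℤ) < ramIdx Q P := by exact_mod_cast hQ.ramIdx_pos
    rw [nsmul_eq_mul] at h1
    exact le_of_mul_le_mul_left h1 hpos
  · intro h Q
    obtain ⟨P, e, he⟩ := exists_isOverWith hF.isFF1 Q
    rw [conorm_apply hF.isFF1 D he, he a]
    calc P.1 a ^ e ≤ exp (D P) ^ e := pow_le_pow_left' (h P) e
      _ = exp ((e : ℤ) * D P) := by rw [← exp_nsmul, nsmul_eq_mul]

theorem conorm_conj (hF : IsFF1 k F) (D : Divisor k F) (Q : Place k K) (σ : K ≃ₐ[F] K) :
    conorm K D (Q.conj σ) = conorm K D Q := by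
  obtain ⟨P, e, he⟩ := exists_isOverWith hF Q
  rw [conorm_apply hF D he, conorm_apply hF D (he.conj σ)]

theorem conj_mem_L_conorm (hF : IsFF1 k F) (D : Divisor k F) (σ : K ≃ₐ[F] K) {z : K}
    (hz : z ∈ L (conorm K D)) : σ z ∈ L (conorm K D) := by
  rw [mem_L] at hz ⊢
  intro Q
  have := hz (Q.conj σ)
  rwa [conorm_conj hF, Place.conj_apply] at this

end conormL

section involution

variable (hdeg : Module.finrank F K = 2)

include hdeg in
theorem minpoly_eq_of_sq {y : K} (hy : y ∉ Set.range (algebraMap F K)) {u : F}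
    (heq : y ^ 2 = algebraMap F K u) : minpoly F y = X ^ 2 - C u := by
  haveI := finiteDimensional_of_finrank hdeg
  have hroot : aeval y (X ^ 2 - C u : F[X]) = 0 := by
    rw [map_sub, map_pow, aeval_X, aeval_C, heq, sub_self]
  have hint : IsIntegral F y := ⟨_, monic_X_pow_sub_C _ two_ne_zero, hroot⟩
  have hnd : (minpoly F y).natDegree = 2 := by
    have h1 := minpoly.natDegree_le (A := F) y
    rw [hdeg] at h1
    have h3 := minpoly.natDegree_pos hint
    have h4 : (minpoly F y).natDegree ≠ 1 := by
      intro h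
      exact hy (minpoly.natDegree_eq_one_iff.1 h)
    omega
  exact (eq_of_monic_of_dvd_of_natDegree_le (minpoly.monic hint) (monic_X_pow_sub_C _ two_ne_zero)
      (minpoly.dvd F y hroot) (by rw [natDegree_X_pow_sub_C, hnd])).symm

include hdeg in
/-- the involution `y ↦ -y` of `K = F(y)`, `y² ∈ F` -/
theorem exists_involution {y : K} (hy : y ∉ Set.range (algebraMap F K)) {u : F}
    (heq : y ^ 2 = algebraMap F K u) : ∃ σ : K ≃ₐ[F] K, σ y = -y := by
  haveI := finiteDimensional_of_finrank hdeg
  have hroot : aeval y (X ^ 2 - C u : F[X]) = 0 := by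
    rw [map_sub, map_pow, aeval_X, aeval_C, heq, sub_self]
  have hint : IsIntegral F y := ⟨_, monic_X_pow_sub_C _ two_ne_zero, hroot⟩
  have hnd : (minpoly F y).natDegree = 2 := by
    have h1 := minpoly.natDegree_le (A := F) y
    rw [hdeg] at h1
    have h3 := minpoly.natDegree_pos hint
    have h4 : (minpoly F y).natDegree ≠ 1 := by
      intro h
      exact hy (minpoly.natDegree_eq_one_iff.1 h)
    omega
  have hmin : X ^ 2 - C u = minpoly F y :=
    eq_of_monic_of_dvd_of_natDegree_le (minpoly.monic hint) (monic_X_pow_sub_C _ two_ne_zero)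
      (minpoly.dvd F y hroot) (by rw [natDegree_X_pow_sub_C, hnd])
  have htop : Algebra.adjoin F ({y} : Set K) = ⊤ := by
    rw [eq_top_iff]
    intro z _
    obtain ⟨a, b, rfl⟩ := exists_repr hdeg hy z
    exact add_mem (Subalgebra.algebraMap_mem _ a)
      (mul_mem (Subalgebra.algebraMap_mem _ b) (Algebra.subset_adjoin rfl))
  set pb := PowerBasis.ofAdjoinEqTop hint htop with hpb
  have hgen : pb.gen = y := rfl
  have hroot' : aeval (-y) (minpoly F pb.gen) = 0 := by
    rw [hgen, ← hmin, map_sub, map_pow, aeval_X, aeval_C, neg_sq, heq, sub_self]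
  set τ : K →ₐ[F] K := pb.lift (-y) hroot' with hτ
  have hτy : τ y = -y := pb.lift_gen _ _
  exact ⟨AlgEquiv.ofBijective τ (Algebra.IsAlgebraic.algHom_bijective τ), hτy⟩

end involution

end Groth.Agent.H7.QL
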