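import Groth.Agent.Lib.Helper5.AlgSp.QuotRestrict
import Groth.Agent.Lib.Helper8.AlgSp.Quot
import Mathlib

/-!
# Restriction of pre-equivalence relations (groupoids) and open immersions of quotient sheaves
-/

set_option autoImplicit false
universe u

open CategoryTheory CategoryTheory.Limits AlgebraicGeometry Opposite

namespace Groth.Agent.H7.QRG

open _root_.AlgSp Groth.Agent.H5.AlgSp Groth.Agent.H8.AlgSp

variable {S : Scheme.{u}}

section Points

variable {R U : Over S} (s t : R ⟶ U)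

lemma map_yon_map_ofScheme {V W : Over S} (f : V ⟶ W) (v : V.left) :
    Points.map ((yon S).map f) (Points.ofScheme V v) = Points.ofScheme W (f.left v) := by
  change Points.map ((yon S).map f) (Points.ofPt (𝟙 _) v) = Points.ofPt (𝟙 _) (f.left v)
  rw [Points.map_ofPt, Category.id_comp, ← ofPt_yon_map_comp, Category.comp_id]

/-- Two points of `U` have the same image in `U/R` iff they are related by a point of `R`
(pre-equivalence relations). -/
theorem ofPt_quotSpπ_eq_iff_pre (hpre : IsPreEqvRelSp ((yon S).map s) ((yon S).map t))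
    (u₁ u₂ : U.left) :
    Points.ofPt (quotSpπ ((yon S).map s) ((yon S).map t)) u₁ =
      Points.ofPt (quotSpπ ((yon S).map s) ((yon S).map t)) u₂ ↔
      ∃ ρ : R.left, t.left ρ = u₁ ∧ s.left ρ = u₂ := by
  constructor
  · intro h
    have sqK := IsPullback.of_hasPullback (quotSpπ ((yon S).map s) ((yon S).map t))
      (quotSpπ ((yon S).map s) ((yon S).map t))
    have h' : Points.map (quotSpπ ((yon S).map s) ((yon S).map t)) (Points.ofScheme U u₁) =
        Points.map (quotSpπ ((yon S).map s) ((yon S).map t)) (Points.ofScheme U u₂) := by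
      rw [← Points.ofPt_eq_map_ofScheme, ← Points.ofPt_eq_map_ofScheme, h]
    obtain ⟨z, hz1, hz2⟩ := points_pullback_surjective sqK _ _ h'
    haveI := epi_lift_of_isPreEqvRelSp _ _ hpre
    haveI := isLocallySurjective_of_epi (pullback.lift ((yon S).map t) ((yon S).map s)
      (quotSp_condition ((yon S).map s) ((yon S).map t)).symm :
        (yon S).obj R ⟶ pullback (quotSpπ ((yon S).map s) ((yon S).map t))
          (quotSpπ ((yon S).map s) ((yon S).map t)))
    obtain ⟨ρ', hρ'⟩ := points_map_surjective_of_isLocallySurjective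
      (pullback.lift ((yon S).map t) ((yon S).map s)
      (quotSp_condition ((yon S).map s) ((yon S).map t)).symm :
        (yon S).obj R ⟶ pullback (quotSpπ ((yon S).map s) ((yon S).map t))
          (quotSpπ ((yon S).map s) ((yon S).map t))) z
    obtain ⟨ρ, rfl⟩ := (Points.schemeHomeo R).surjective ρ'
    refine ⟨ρ, ?_, ?_⟩
    · apply (Points.schemeHomeo U).injective
      change Points.ofScheme U (t.left ρ) = Points.ofScheme U u₁
      rw [← hz1, ← hρ', ← Points.map_comp, pullback.lift_fst]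
      exact (map_yon_map_ofScheme t ρ).symm
    · apply (Points.schemeHomeo U).injective
      change Points.ofScheme U (s.left ρ) = Points.ofScheme U u₂
      rw [← hz2, ← hρ', ← Points.map_comp, pullback.lift_snd]
      exact (map_yon_map_ofScheme s ρ).symm
  · rintro ⟨ρ, rfl, rfl⟩
    rw [← ofPt_yon_map_comp, ← ofPt_yon_map_comp, quotSp_condition]

end Points

section Restrict

variable {R U R' U' : Over S} {s t : R ⟶ U} {g : U' ⟶ U} {s' t' : R' ⟶ U'} {r : R' ⟶ R}
  (hsq : IsPullback (prod.lift t' s') r (prod.map g g) (prod.lift t s))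
  (hpre : IsPreEqvRelSp ((yon S).map s) ((yon S).map t))
  (φ : quotSp ((yon S).map s') ((yon S).map t') ⟶ quotSp ((yon S).map s) ((yon S).map t))
  (hφ : quotSpπ ((yon S).map s') ((yon S).map t') ≫ φ =
    (yon S).map g ≫ quotSpπ ((yon S).map s) ((yon S).map t))

include hsq hpre hφ in
/-- The map of quotient sheaves induced by a restriction is a monomorphism. -/
theorem mono_quot_restrict_pre : Mono φ := by
  apply mono_of_yon
  intro T x y hxy
  have hcov := (J S).intersection_covering (liftSieve_quotSpπ_mem ((yon S).map s')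
    ((yon S).map t') x) (liftSieve_quotSpπ_mem ((yon S).map s') ((yon S).map t') y)
  apply yon_hom_ext_of_mem_J hcov
  rintro T₁ k ⟨⟨a, ha⟩, ⟨b, hb⟩⟩
  obtain ⟨a₀, rfl⟩ := (yon S).map_surjective a
  obtain ⟨b₀, rfl⟩ := (yon S).map_surjective b
  rw [← ha, ← hb]
  have h1 : (yon S).map (a₀ ≫ g) ≫ quotSpπ ((yon S).map s) ((yon S).map t) =
      (yon S).map (b₀ ≫ g) ≫ quotSpπ ((yon S).map s) ((yon S).map t) := by
    rw [Functor.map_comp, Functor.map_comp, Category.assoc, Category.assoc, ← hφ,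
      ← Category.assoc, ← Category.assoc, ha, hb, Category.assoc, Category.assoc, hxy]
  apply eq_of_relSieve_mem _ _
  refine (J S).superset_covering ?_ (relSieve_mem _ _ hpre _ _ h1)
  rintro T₂ k' ⟨ρ, hρ1, hρ2⟩
  obtain ⟨ρ₀, rfl⟩ := (yon S).map_surjective ρ
  have e1 : ρ₀ ≫ t = (k' ≫ a₀) ≫ g := by
    apply (yon S).map_injective
    rw [Functor.map_comp, hρ1, ← Functor.map_comp, Category.assoc]
  have e2 : ρ₀ ≫ s = (k' ≫ b₀) ≫ g := by
    apply (yon S).map_injective
    rw [Functor.map_comp, hρ2, ← Functor.map_comp, Category.assoc]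
  obtain ⟨ρ', h1', h2', -⟩ := restrict_exists_lift hsq (k' ≫ a₀) (k' ≫ b₀) ρ₀ e1 e2
  refine ⟨(yon S).map ρ', ?_, ?_⟩
  · rw [← Functor.map_comp, h1', Functor.map_comp]
  · rw [← Functor.map_comp, h2', Functor.map_comp]

include hpre hφ in
/-- The points of `U` whose image in `U/R` comes from `U'/R'`. -/
theorem ofPt_mem_range_quot_restrict_iff_pre (u : U.left) :
    Points.ofPt (quotSpπ ((yon S).map s) ((yon S).map t)) u ∈ Set.range (Points.map φ) ↔
      ∃ (ρ : R.left) (u' : U'.left), t.left ρ = g.left u' ∧ s.left ρ = u := by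
  constructor
  · rintro ⟨z, hz⟩
    haveI := isLocallySurjective_of_epi (quotSpπ ((yon S).map s') ((yon S).map t'))
    obtain ⟨z₀, rfl⟩ := points_map_surjective_of_isLocallySurjective
      (quotSpπ ((yon S).map s') ((yon S).map t')) z
    obtain ⟨u', rfl⟩ := (Points.schemeHomeo U').surjective z₀
    have h1 : Points.ofPt (quotSpπ ((yon S).map s) ((yon S).map t)) (g.left u') =
        Points.ofPt (quotSpπ ((yon S).map s) ((yon S).map t)) u := by
      rw [← hz, ← ofPt_yon_map_comp, ← hφ, ← Points.map_ofPt]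
      congr 1
    obtain ⟨ρ, h2, h3⟩ := (ofPt_quotSpπ_eq_iff_pre s t hpre _ _).1 h1
    exact ⟨ρ, u', h2, h3⟩
  · rintro ⟨ρ, u', h1, rfl⟩
    refine ⟨Points.ofPt (quotSpπ ((yon S).map s') ((yon S).map t')) u', ?_⟩
    rw [Points.map_ofPt, hφ, ofPt_yon_map_comp]
    apply (ofPt_quotSpπ_eq_iff_pre s t hpre _ _).2
    exact ⟨ρ, h1, rfl⟩

include hpre hφ in
theorem isOpen_range_quot_restrict_pre (W : Set U.left) (hWo : IsOpen W)
    (hW : ∀ u, u ∈ W ↔ ∃ (ρ : R.left) (u' : U'.left), t.left ρ = g.left u' ∧ s.left ρ = u) :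
    IsOpen (Set.range (Points.map φ)) := by
  rw [Points.isOpen_iff]
  intro T ξ
  rw [isOpen_iff_forall_mem_open]
  intro t₀ ht₀
  obtain ⟨V₀, ht₀V, -, Y, c, hc1, hc2, hc3, a, ha⟩ :=
    Groth.Agent.H5.Descent.exists_local_fppf_of_mem_J
      (liftSieve_quotSpπ_mem ((yon S).map s) ((yon S).map t) ξ) t₀
  obtain ⟨a₀, rfl⟩ := (yon S).map_surjective a
  have key : ∀ y : Y.left, Points.ofPt ξ ((c ≫ overOpenι T V₀).left y) ∈ Set.range (Points.map φ) ↔
      a₀.left y ∈ W := by
    intro y
    rw [← ofPt_yon_map_comp, ← ha, ofPt_yon_map_comp, hW]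
    exact ofPt_mem_range_quot_restrict_iff_pre hpre φ hφ _
  refine ⟨(c ≫ overOpenι T V₀).left '' (a₀.left ⁻¹' W), ?_, ?_, ?_⟩
  · rintro _ ⟨y, hy, rfl⟩
    exact (key y).2 hy
  · have : IsOpenMap (c ≫ overOpenι T V₀).left := by
      rw [Over.comp_left]
      have h1 : IsOpenMap c.left := c.left.isOpenMap
      have h2 : IsOpenMap (overOpenι T V₀).left := V₀.ι.isOpenEmbedding.isOpenMap
      exact h2.comp h1
    exact this _ (hWo.preimage a₀.left.continuous)
  · obtain ⟨y₀, hy₀⟩ := c.left.surjective ⟨t₀, ht₀V⟩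
    refine ⟨y₀, (key y₀).1 ?_, ?_⟩
    · have : (c ≫ overOpenι T V₀).left y₀ = t₀ := by
        rw [Over.comp_left, Scheme.Hom.comp_apply, hy₀]; rfl
      rw [this]; exact ht₀
    · rw [Over.comp_left, Scheme.Hom.comp_apply, hy₀]; rfl

/-- the sieve of maps along which a point of `U` is related to a point coming from `U'`. -/
def satSieve (s t : R ⟶ U) (g : U' ⟶ U) {T : Over S} (a : T ⟶ U) : Sieve T where
  arrows T' k := ∃ (u' : T' ⟶ U') (ρ : T' ⟶ R), ρ ≫ t = u' ≫ g ∧ ρ ≫ s = k ≫ a
  downward_closed := by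
    rintro T' T'' k ⟨u', ρ, h1, h2⟩ l
    refine ⟨l ≫ u', l ≫ ρ, ?_, ?_⟩
    · rw [Category.assoc, Category.assoc, h1]
    · rw [Category.assoc, Category.assoc, h2]

include hpre hφ in
theorem liftSieve_quot_restrict_mem_pre (W : Set U.left)
    (hW : ∀ u, u ∈ W ↔ ∃ (ρ : R.left) (u' : U'.left), t.left ρ = g.left u' ∧ s.left ρ = u)
    (hsat : ∀ (T : Over S) (a : T ⟶ U), (∀ y, a.left y ∈ W) → satSieve s t g a ∈ J S T)
    {T : Over S} (ξ : (yon S).obj T ⟶ quotSp ((yon S).map s) ((yon S).map t))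
    (hξ : ∀ t₀, Points.ofPt ξ t₀ ∈ Set.range (Points.map φ)) : liftSieve φ ξ ∈ J S T := by
  refine (J S).transitive (liftSieve_quotSpπ_mem ((yon S).map s) ((yon S).map t) ξ) _ ?_
  rintro T₁ k ⟨a, ha⟩
  obtain ⟨a₀, rfl⟩ := (yon S).map_surjective a
  have hmem : ∀ y : T₁.left, a₀.left y ∈ W := by
    intro y
    rw [hW, ← ofPt_mem_range_quot_restrict_iff_pre hpre φ hφ, ← ofPt_yon_map_comp, ha,
      ofPt_yon_map_comp]
    exact hξ _
  refine (J S).superset_covering ?_ (hsat T₁ a₀ hmem)
  rintro T₂ k' ⟨u', ρ, h1, h2⟩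
  change (liftSieve φ ξ).arrows (k' ≫ k)
  refine ⟨(yon S).map u' ≫ quotSpπ ((yon S).map s') ((yon S).map t'), ?_⟩
  rw [Category.assoc, hφ, ← Category.assoc, ← Functor.map_comp, ← h1, Functor.map_comp,
    Category.assoc, ← quotSp_condition, ← Category.assoc, ← Functor.map_comp, h2,
    Functor.map_comp, Category.assoc, ha, Functor.map_comp, Category.assoc]

include hsq hpre hφ in
/-- **`U'/R' ⟶ U/R` is an open immersion** for the restriction of a pre-equivalence relation along
a morphism whose saturation is open and covered locally. -/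
theorem repWith_isOpenImmersion_quot_restrict_pre (W : Set U.left) (hWo : IsOpen W)
    (hW : ∀ u, u ∈ W ↔ ∃ (ρ : R.left) (u' : U'.left), t.left ρ = g.left u' ∧ s.left ρ = u)
    (hsat : ∀ (T : Over S) (a : T ⟶ U), (∀ y, a.left y ∈ W) → satSieve s t g a ∈ J S T) :
    RepWith @IsOpenImmersion φ := by
  have := mono_quot_restrict_pre hsq hpre φ hφ
  exact repWith_isOpenImmersion_of_mono_of_isOpen_range φ
    (isOpen_range_quot_restrict_pre hpre φ hφ W hWo hW)
    (fun T ξ hξ => liftSieve_quot_restrict_mem_pre hpre φ hφ W hW hsat ξ hξ)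

end Restrict

end Groth.Agent.H7.QRG
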