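import Groth.Agent.Lib.Helper7.QRG1
import Groth.Prelude.Def_Grpd
import Groth.Prelude.Def_AlgSp
import Mathlib

set_option autoImplicit false
universe u

open CategoryTheory CategoryTheory.Limits AlgebraicGeometry Opposite

namespace Groth.Agent.H7.QRG

open _root_.AlgSp Groth.Agent.H5.AlgSp Groth.Agent.H8.AlgSp

variable {S : Scheme.{u}}

lemma e_over (G : Grpd.GroupoidScheme S) : G.e ≫ G.pR = G.pU := by
  rw [← G.s_over, ← Category.assoc, G.e_s, Category.id_comp]

lemma i_over (G : Grpd.GroupoidScheme S) : G.i ≫ G.pR = G.pR := by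
  conv_lhs => rw [← G.s_over, ← Category.assoc, G.i_s, G.t_over]

/-- A groupoid scheme gives a pre-equivalence relation on representable sheaves. -/
theorem isPreEqvRelSp_groupoid (G : Grpd.GroupoidScheme S) :
    IsPreEqvRelSp ((yon S).map (Over.homMk G.s G.s_over : Over.mk G.pR ⟶ Over.mk G.pU))
      ((yon S).map (Over.homMk G.t G.t_over : Over.mk G.pR ⟶ Over.mk G.pU)) := by
  intro T
  refine ⟨?_, ?_, ?_⟩
  · intro a
    obtain ⟨a₀, rfl⟩ := (yon S).map_surjective a
    have hw : (a₀.left ≫ G.e) ≫ (Over.mk G.pR).hom = T.hom := by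
      have := Over.w a₀
      simp only [Over.mk_hom] at this ⊢
      rw [Category.assoc, e_over, this]
    refine ⟨(yon S).map (Over.homMk (a₀.left ≫ G.e) hw), ?_, ?_⟩
    · rw [← Functor.map_comp]
      congr 1
      apply Over.OverMorphism.ext
      simp only [Over.comp_left, Over.homMk_left, Category.assoc, G.e_t]
      exact Category.comp_id _
    · rw [← Functor.map_comp]
      congr 1
      apply Over.OverMorphism.ext
      simp only [Over.comp_left, Over.homMk_left, Category.assoc, G.e_s]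
      exact Category.comp_id _
  · rintro a b ⟨ρ, rfl, rfl⟩
    obtain ⟨ρ₀, rfl⟩ := (yon S).map_surjective ρ
    have hw : (ρ₀.left ≫ G.i) ≫ (Over.mk G.pR).hom = T.hom := by
      have := Over.w ρ₀
      simp only [Over.mk_hom] at this ⊢
      rw [Category.assoc, i_over, this]
    refine ⟨(yon S).map (Over.homMk (ρ₀.left ≫ G.i) hw), ?_, ?_⟩
    · rw [← Functor.map_comp, ← Functor.map_comp]
      congr 1
      apply Over.OverMorphism.ext
      simp only [Over.comp_left, Over.homMk_left, Category.assoc, G.i_t]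
    · rw [← Functor.map_comp, ← Functor.map_comp]
      congr 1
      apply Over.OverMorphism.ext
      simp only [Over.comp_left, Over.homMk_left, Category.assoc, G.i_s]
  · rintro a b c ⟨ρ₁, rfl, rfl⟩ ⟨ρ₂, h2, rfl⟩
    obtain ⟨α, rfl⟩ := (yon S).map_surjective ρ₁
    obtain ⟨β, rfl⟩ := (yon S).map_surjective ρ₂
    have h2' : β ≫ (Over.homMk G.t G.t_over : Over.mk G.pR ⟶ Over.mk G.pU) =
        α ≫ (Over.homMk G.s G.s_over : Over.mk G.pR ⟶ Over.mk G.pU) := by
      apply (yon S).map_injective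
      rw [Functor.map_comp, Functor.map_comp, h2]
    have h : α.left ≫ G.s = β.left ≫ G.t := by
      have := congrArg (fun k => k.left) h2'
      simpa using this.symm
    have hw : (pullback.lift α.left β.left h ≫ G.c) ≫ (Over.mk G.pR).hom = T.hom := by
      have := Over.w α
      simp only [Over.mk_hom] at this ⊢
      calc (pullback.lift α.left β.left h ≫ G.c) ≫ G.pR
          = ((pullback.lift α.left β.left h ≫ G.c) ≫ G.t) ≫ G.pU := by
            rw [Category.assoc _ G.t, G.t_over]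
        _ = (α.left ≫ G.t) ≫ G.pU := by rw [G.comp_t]
        _ = T.hom := by rw [Category.assoc, G.t_over, this]
    refine ⟨(yon S).map (Over.homMk (pullback.lift α.left β.left h ≫ G.c) hw), ?_, ?_⟩
    · rw [← Functor.map_comp, ← Functor.map_comp]
      congr 1
      apply Over.OverMorphism.ext
      simp only [Over.comp_left, Over.homMk_left]
      exact G.comp_t _ _ h
    · rw [← Functor.map_comp, ← Functor.map_comp]
      congr 1
      apply Over.OverMorphism.ext
      simp only [Over.comp_left, Over.homMk_left]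
      exact G.comp_s _ _ h


theorem S10141_main (S : Scheme.{u}) (G : Grpd.GroupoidScheme S)
    (U' : Scheme.{u}) (g : U' ⟶ G.U) (W : G.U.Opens)
    (hW : (W : Set ↥G.U) = Set.range ⇑(pullback.snd g G.t ≫ G.s))
    (hlift : pullback g G.t ⟶ ↑W) (hh : hlift ≫ W.ι = pullback.snd g G.t ≫ G.s)
    (hsurj : Sheaf.IsLocallySurjective ((AlgSp.yon S).map
      (Over.homMk hlift ((Category.assoc _ _ _).symm.trans (congrArg (· ≫ G.pU) hh)) :
        Over.mk ((pullback.snd g G.t ≫ G.s) ≫ G.pU) ⟶ Over.mk (W.ι ≫ G.pU))))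
    (R' : Over S) (s' t' : R' ⟶ Over.mk (g ≫ G.pU)) (r : R' ⟶ Over.mk G.pR)
    (hsq : IsPullback (prod.lift t' s') r
      (prod.map (Over.homMk g rfl : Over.mk (g ≫ G.pU) ⟶ Over.mk G.pU) (Over.homMk g rfl : Over.mk (g ≫ G.pU) ⟶ Over.mk G.pU))
      (prod.lift (Over.homMk G.t G.t_over : Over.mk G.pR ⟶ Over.mk G.pU) (Over.homMk G.s G.s_over : Over.mk G.pR ⟶ Over.mk G.pU)))
    (ψ : QuotSh.quot Scheme.fppfPrecoverage s' t' ⟶
      QuotSh.quot Scheme.fppfPrecoverage (Over.homMk G.s G.s_over : Over.mk G.pR ⟶ Over.mk G.pU) (Over.homMk G.t G.t_over : Over.mk G.pR ⟶ Over.mk G.pU))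
    (hψ : QuotSh.quotπ Scheme.fppfPrecoverage s' t' ≫ ψ =
      QuotSh.repMap Scheme.fppfPrecoverage (Over.homMk g rfl : Over.mk (g ≫ G.pU) ⟶ Over.mk G.pU) ≫ QuotSh.quotπ Scheme.fppfPrecoverage _ _) :
    AlgSp.RepWith @IsOpenImmersion ψ := by
  let sO : Over.mk G.pR ⟶ Over.mk G.pU := Over.homMk G.s G.s_over
  let tO : Over.mk G.pR ⟶ Over.mk G.pU := Over.homMk G.t G.t_over
  let gO : Over.mk (g ≫ G.pU) ⟶ Over.mk G.pU := Over.homMk g rfl
  have hpre : IsPreEqvRelSp ((yon S).map sO) ((yon S).map tO) := isPreEqvRelSp_groupoid G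
  let φ₀ : quotSp ((yon S).map s') ((yon S).map t') ⟶ quotSp ((yon S).map sO) ((yon S).map tO) :=
    (quotIso s' t').hom ≫ ψ ≫ (quotIso sO tO).inv
  have hφ₀ : quotSpπ ((yon S).map s') ((yon S).map t') ≫ φ₀ =
      (yon S).map gO ≫ quotSpπ ((yon S).map sO) ((yon S).map tO) := by
    change _ ≫ (quotIso s' t').hom ≫ ψ ≫ quotInv sO tO = _
    rw [← Category.assoc, quotSpπ_quotIso_hom]
    unfold quotChart
    rw [Category.assoc, ← Category.assoc (QuotSh.quotπ _ s' t'), hψ, Category.assoc,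
      ← Category.assoc _ (QuotSh.repMap _ gO), ← repIso_inv_naturality, Category.assoc,
      quotπ_quotInv, Iso.inv_hom_id_assoc]
  have hWiff : ∀ u : G.U, u ∈ (W : Set G.U) ↔
      ∃ (ρ : G.R) (u' : U'), G.t ρ = g u' ∧ G.s ρ = u := by
    intro u
    rw [hW]
    constructor
    · rintro ⟨z, rfl⟩
      refine ⟨pullback.snd g G.t z, pullback.fst g G.t z, ?_, ?_⟩
      · rw [← Scheme.Hom.comp_apply, ← Scheme.Hom.comp_apply, pullback.condition]
      · rw [Scheme.Hom.comp_apply]
    · rintro ⟨ρ, u', h1, rfl⟩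
      obtain ⟨z, hz1, hz2⟩ := Scheme.Pullback.exists_preimage_pullback u' ρ h1.symm
      exact ⟨z, by rw [Scheme.Hom.comp_apply, hz2]⟩
  have hsat : ∀ (T : Over S) (a : T ⟶ Over.mk G.pU), (∀ y, a.left y ∈ (W : Set G.U)) →
      satSieve sO tO gO a ∈ J S T := by
    intro T a ha
    have hrange : Set.range a.left ⊆ Set.range W.ι := by
      rw [Scheme.Opens.range_ι]
      rintro _ ⟨y, rfl⟩
      exact ha y
    let a₁ : T.left ⟶ ↑W := IsOpenImmersion.lift W.ι a.left hrange
    have ha₁ : a₁ ≫ W.ι = a.left := IsOpenImmersion.lift_fac _ _ _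
    have hw : a₁ ≫ (Over.mk (W.ι ≫ G.pU)).hom = T.hom := by
      have := Over.w a
      simp only [Over.mk_hom] at this ⊢
      rw [← Category.assoc, ha₁, this]
    let a₁o : T ⟶ Over.mk (W.ι ≫ G.pU) := Over.homMk a₁ hw
    haveI := hsurj
    refine (J S).superset_covering ?_ (liftSieve_mem ((yon S).map
      (Over.homMk hlift ((Category.assoc _ _ _).symm.trans (congrArg (· ≫ G.pU) hh)) :
        Over.mk ((pullback.snd g G.t ≫ G.s) ≫ G.pU) ⟶ Over.mk (W.ι ≫ G.pU))) ((yon S).map a₁o))
    rintro T' k ⟨τ, hτ⟩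
    obtain ⟨τ₀, rfl⟩ := (yon S).map_surjective τ
    have hτ' : τ₀ ≫ (Over.homMk hlift ((Category.assoc _ _ _).symm.trans (congrArg (· ≫ G.pU) hh)) :
        Over.mk ((pullback.snd g G.t ≫ G.s) ≫ G.pU) ⟶ Over.mk (W.ι ≫ G.pU)) = k ≫ a₁o := by
      apply (yon S).map_injective
      rw [Functor.map_comp, Functor.map_comp, hτ]
    obtain ⟨τl, hτdef⟩ : ∃ τl : T'.left ⟶ pullback g G.t, τl = τ₀.left := ⟨_, rfl⟩
    have hτl : τl ≫ hlift = k.left ≫ a₁ := by
      have := congrArg (fun k => k.left) hτ'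
      rw [hτdef]
      exact this
    have hτw : τl ≫ ((pullback.snd g G.t ≫ G.s) ≫ G.pU) = T'.hom := by
      rw [hτdef]; exact Over.w τ₀
    clear_value a₁o
    clear hτ' hτ hτdef τ₀
    have hw1 : (τl ≫ pullback.fst g G.t) ≫ (Over.mk (g ≫ G.pU)).hom = T'.hom := by
      simp only [Over.mk_hom]
      rw [← hτw, Category.assoc, ← Category.assoc (pullback.fst g G.t), pullback.condition,
        Category.assoc, G.t_over, Category.assoc, G.s_over]
    have hw2 : (τl ≫ pullback.snd g G.t) ≫ (Over.mk G.pR).hom = T'.hom := by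
      simp only [Over.mk_hom]
      rw [← hτw, Category.assoc, Category.assoc, G.s_over]
    refine ⟨Over.homMk (τl ≫ pullback.fst g G.t) hw1,
      Over.homMk (τl ≫ pullback.snd g G.t) hw2, ?_, ?_⟩
    · apply Over.OverMorphism.ext
      simp only [Over.comp_left, Over.homMk_left, Category.assoc, tO, gO]
      rw [pullback.condition]
    · apply Over.OverMorphism.ext
      simp only [Over.comp_left, Over.homMk_left, Category.assoc, sO]
      rw [← ha₁, ← Category.assoc k.left, ← hτl, Category.assoc, hh]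
  have h := repWith_isOpenImmersion_quot_restrict_pre hsq hpre φ₀ hφ₀ (W : Set G.U) W.isOpen
    hWiff hsat
  have e : ψ = (quotIso s' t').inv ≫ φ₀ ≫ (quotIso sO tO).hom := by
    simp only [φ₀, Category.assoc, Iso.inv_hom_id, Category.comp_id, Iso.inv_hom_id_assoc]
  rw [e]
  exact MorphismProperty.RespectsIso.precomp _ _ _ (MorphismProperty.RespectsIso.postcomp _ _ _ h)

end Groth.Agent.H7.QRG
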