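import Mathlib

/-! Characters with values in `ℚ/ℤ = AddCircle (1 : ℚ)`: a character vanishing on the common kernel
of finitely many finite-order characters is an integer combination of them (helper7, for S19258). -/

set_option autoImplicit false
universe u

namespace Groth.Agent.H7.QZChar

/-- generator of the `n`-torsion -/
noncomputable def gen (n : ℕ) : AddCircle (1 : ℚ) := (((1 : ℚ) / (n : ℚ) : ℚ) : AddCircle (1 : ℚ))

theorem torsion_eq (n : ℕ) (hn : 0 < n) (u : AddCircle (1 : ℚ)) (hu : n • u = 0) :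
    ∃ m : ℕ, u = m • gen n := by
  obtain ⟨m, _, hm⟩ := (AddCircle.nsmul_eq_zero_iff hn).mp hu
  refine ⟨m, ?_⟩
  rw [← hm, AddCircle.natCast_div_mul_eq_nsmul]
  rfl

theorem nsmul_gen (n : ℕ) (hn : 0 < n) : n • gen n = 0 := by
  have h := AddCircle.addOrderOf_period_div (p := (1 : ℚ)) hn
  have h2 := addOrderOf_nsmul_eq_zero (((1 : ℚ) / (n : ℚ) : ℚ) : AddCircle (1 : ℚ))
  rw [h] at h2
  exact h2

theorem mem_multiples (c d : AddCircle (1 : ℚ)) (hc : IsOfFinAddOrder c)
    (hd : addOrderOf c • d = 0) : ∃ k : ℕ, d = k • c := by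
  set n := addOrderOf c with hn_def
  have hn : 0 < n := hc.addOrderOf_pos
  obtain ⟨a, _, hg, hac⟩ := (AddCircle.addOrderOf_eq_pos_iff hn).mp hn_def.symm
  have hca : c = a • gen n := by
    rw [← hac, AddCircle.natCast_div_mul_eq_nsmul]; rfl
  obtain ⟨m, hm⟩ := torsion_eq n hn d hd
  by_cases h1 : n = 1
  · refine ⟨0, ?_⟩
    rw [zero_smul, hm]
    have := nsmul_gen n hn
    rw [h1, one_smul] at this
    rw [h1, this, smul_zero]
  · have hn1 : 1 < n := by omega
    obtain ⟨a', _, ha'⟩ := Nat.exists_mul_mod_eq_one_of_coprime (k := n) (n := a) hg hn1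
    have hdiv := Nat.div_add_mod (a * a') n
    rw [ha'] at hdiv
    have hgen : (a * a') • gen n = gen n := by
      rw [← hdiv, add_smul, one_smul, mul_comm n, mul_smul, nsmul_gen n hn, smul_zero, zero_add]
    refine ⟨m * a', ?_⟩
    rw [hm, hca, ← mul_smul, mul_assoc, mul_comm a' a, mul_smul, hgen]

theorem subgroup_cyclic (n : ℕ) (hn : 0 < n) (S : AddSubgroup (AddCircle (1 : ℚ)))
    (hS : ∀ s ∈ S, n • s = 0) : ∃ c ∈ S, ∀ s ∈ S, ∃ k : ℤ, s = k • c := by
  let φ : ℤ →+ AddCircle (1 : ℚ) := zmultiplesHom (AddCircle (1 : ℚ)) (gen n)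
  obtain ⟨d, hd⟩ := Int.subgroup_cyclic (S.comap φ)
  have hdS : d ∈ S.comap φ := by rw [hd]; exact AddSubgroup.subset_closure rfl
  refine ⟨φ d, hdS, ?_⟩
  intro s hs
  obtain ⟨m, hm⟩ := torsion_eq n hn s (hS s hs)
  have hmS : (m : ℤ) ∈ S.comap φ := by
    change φ (m : ℤ) ∈ S
    have : φ (m : ℤ) = s := by
      rw [hm]; simp [φ]
    rw [this]; exact hs
  rw [hd, AddSubgroup.mem_closure_singleton] at hmS
  obtain ⟨k, hk⟩ := hmS
  refine ⟨k, ?_⟩
  have : s = φ (m : ℤ) := by rw [hm]; simp [φ]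
  rw [this, ← hk, map_zsmul]

theorem exists_of_vanishing {G G' : Type*} [AddCommGroup G] [AddCommGroup G']
    (hG' : IsAddTorsion G') (β : G' →+ (G →+ AddCircle (1 : ℚ))) (T : Finset G') :
    ∀ χ : G →+ AddCircle (1 : ℚ), (∀ x, (∀ f ∈ T, β f x = 0) → χ x = 0) → ∃ f', β f' = χ := by
  classical
  induction T using Finset.induction_on with
  | empty =>
    intro χ h
    refine ⟨0, ?_⟩
    ext x
    rw [map_zero, AddMonoidHom.zero_apply, h x (by simp)]
  | insert f T hfT ih =>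
    intro χ h
    set n := addOrderOf f with hn_def
    have hn : 0 < n := (hG' f).addOrderOf_pos
    have hb : ∀ x, n • β f x = 0 := by
      intro x
      have : n • β f = 0 := by rw [← map_nsmul, hn_def, addOrderOf_nsmul_eq_zero, map_zero]
      rw [← AddMonoidHom.nsmul_apply, this, AddMonoidHom.zero_apply]
    let H' : AddSubgroup G :=
      { carrier := {x | ∀ f' ∈ T, β f' x = 0}
        zero_mem' := fun f' _ => map_zero _
        add_mem' := fun {a b} ha hb f' hf' => by rw [map_add, ha f' hf', hb f' hf', add_zero]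
        neg_mem' := fun {a} ha f' hf' => by rw [map_neg, ha f' hf', neg_zero] }
    have hH' : ∀ x, x ∈ H' ↔ ∀ f' ∈ T, β f' x = 0 := fun x => Iff.rfl
    obtain ⟨c, hcS, hcyc⟩ := subgroup_cyclic n hn (H'.map (β f)) (by
      rintro s ⟨x, _, rfl⟩
      exact hb x)
    obtain ⟨h₀, hh₀, rfl⟩ := hcS
    -- χ vanishes on H' ∩ ker (β f)
    have hvan : ∀ x ∈ H', β f x = 0 → χ x = 0 := by
      intro x hx hbx
      apply h
      intro f' hf'
      rcases Finset.mem_insert.mp hf' with rfl | hf'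
      · exact hbx
      · exact hx f' hf'
    have hcfin : IsOfFinAddOrder (β f h₀) := isOfFinAddOrder_iff_nsmul_eq_zero.mpr ⟨n, hn, hb h₀⟩
    have he : addOrderOf (β f h₀) • χ h₀ = 0 := by
      rw [← map_nsmul]
      apply hvan
      · exact H'.nsmul_mem hh₀ _
      · rw [map_nsmul, addOrderOf_nsmul_eq_zero]
    obtain ⟨k₀, hk₀⟩ := mem_multiples (β f h₀) (χ h₀) hcfin he
    have hχ' : ∀ x, (∀ f' ∈ T, β f' x = 0) → (χ - k₀ • β f) x = 0 := by
      intro x hx
      have hxH : x ∈ H' := hx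
      obtain ⟨k, hk⟩ := hcyc (β f x) ⟨x, hxH, rfl⟩
      have h1 : χ (x - k • h₀) = 0 := by
        apply hvan
        · exact H'.sub_mem hxH (H'.zsmul_mem hh₀ _)
        · rw [map_sub, map_zsmul, hk, sub_self]
      rw [map_sub, map_zsmul, sub_eq_zero] at h1
      rw [AddMonoidHom.sub_apply, AddMonoidHom.nsmul_apply, h1, hk, hk₀, sub_eq_zero]
      rw [← natCast_zsmul, ← natCast_zsmul, smul_comm]
    obtain ⟨f'', hf''⟩ := ih (χ - k₀ • β f) hχ'
    refine ⟨f'' + k₀ • f, ?_⟩
    rw [map_add, map_nsmul, hf'', sub_add_cancel]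

end Groth.Agent.H7.QZChar
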