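import Mathlib
import Groth.Prelude.Def_W4c2azumayainvolQEt

/-! Closed fibre of a quadratic étale algebra over a local ring. -/

set_option autoImplicit false
open scoped TensorProduct

namespace Groth.Agent.H7.QuadFib

universe u v

section Fld

variable (k : Type u) (K : Type v) [Field k] [CommRing K] [Algebra k K]

/-- a two-dimensional reduced commutative algebra over a field is a field or `k × k`. -/
theorem field_or_prod (hdim : Module.finrank k K = 2) [IsReduced K] :
    IsField K ∨ Nonempty (K ≃ₐ[k] (k × k)) := by
  haveI : Module.Finite k K := Module.finite_of_finrank_pos (by omega)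
  haveI : Nontrivial K := Module.nontrivial_of_finrank_pos (R := k) (by omega)
  by_cases hK : IsField K
  · exact Or.inl hK
  right
  -- a nonzero non-unit
  obtain ⟨x, hx0, hxu⟩ : ∃ x : K, x ≠ 0 ∧ ¬ IsUnit x := by
    by_contra hcon
    push Not at hcon
    apply hK
    refine ⟨⟨0, 1, zero_ne_one⟩, mul_comm, fun {a} ha => ?_⟩
    obtain ⟨u, hu⟩ := hcon a ha
    exact ⟨↑u⁻¹, by rw [← hu]; exact u.mul_inv⟩
  -- `1, x` linearly independent
  have hli : LinearIndependent k ![(1 : K), x] := by
    rw [LinearIndependent.pair_iff]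
    intro s t hst
    by_cases ht : t = 0
    · subst ht
      rw [zero_smul, add_zero] at hst
      have : s = 0 := by
        by_contra hs
        have h1 : (1 : K) = 0 := by
          have := congrArg (fun y => s⁻¹ • y) hst
          simpa [smul_smul, inv_mul_cancel₀ hs] using this
        exact one_ne_zero h1
      exact ⟨this, rfl⟩
    · exfalso
      apply hxu
      have hx : x = algebraMap k K (-(t⁻¹ * s)) := by
        have h1 : t • x = -(s • (1 : K)) := by
          rw [eq_neg_iff_add_eq_zero, add_comm]; exact hst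
        have := congrArg (fun y => t⁻¹ • y) h1
        simp only [smul_smul, inv_mul_cancel₀ ht, one_smul, smul_neg] at this
        rw [this, Algebra.algebraMap_eq_smul_one, neg_smul]
      have hne : -(t⁻¹ * s) ≠ 0 := by
        intro h0
        rw [h0, map_zero] at hx
        exact hx0 hx
      rw [hx]
      exact (isUnit_iff_ne_zero.mpr hne).map _
  have hspan : Submodule.span k (Set.range ![(1 : K), x]) = ⊤ :=
    hli.span_eq_top_of_card_eq_finrank' (by rw [hdim]; rfl)
  have hx2 : x ^ 2 ∈ Submodule.span k (Set.range ![(1 : K), x]) := by rw [hspan]; trivial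
  rw [Matrix.range_cons, Matrix.range_cons, Matrix.range_empty, Set.union_empty,
    Set.union_comm, Set.union_singleton, Submodule.mem_span_pair] at hx2
  obtain ⟨a, b, hab⟩ := hx2
  have ha : a = 0 := by
    by_contra ha
    apply hxu
    have h1 : x * (algebraMap k K a⁻¹ * (x - algebraMap k K b)) = 1 := by
      have h2 : algebraMap k K a⁻¹ * algebraMap k K a = 1 := by
        rw [← map_mul, inv_mul_cancel₀ ha, map_one]
      rw [Algebra.smul_def, Algebra.smul_def, mul_one] at hab
      linear_combination h2 - (algebraMap k K a⁻¹) * hab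
    exact .of_mul_eq_one _ h1
  subst ha
  rw [zero_smul, zero_add] at hab
  have hb : b ≠ 0 := by
    rintro rfl
    rw [zero_smul] at hab
    exact hx0 (IsReduced.eq_zero _ ⟨2, hab.symm⟩)
  set e : K := b⁻¹ • x with he_def
  have he : e * e = e := by
    rw [he_def, smul_mul_smul_comm, ← pow_two x, ← hab, smul_smul, ← pow_two, pow_two, mul_assoc,
      inv_mul_cancel₀ hb, mul_one]
  have he0 : e ≠ 0 := by
    rw [he_def]
    exact smul_ne_zero (inv_ne_zero hb) hx0
  have he1 : 1 - e ≠ 0 := by
    intro h
    apply hxu
    have h1 : x = algebraMap k K b := by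
      have h2 : e = 1 := (sub_eq_zero.mp h).symm
      have := congrArg (fun y => b • y) h2
      simp only [he_def, smul_smul, mul_inv_cancel₀ hb, one_smul] at this
      rw [this, Algebra.algebraMap_eq_smul_one]
    rw [h1]
    exact (isUnit_iff_ne_zero.mpr hb).map _
  let g₀ : (k × k) →ₗ[k] K :=
    LinearMap.coprod (LinearMap.toSpanSingleton k K e) (LinearMap.toSpanSingleton k K (1 - e))
  have hg₀ : ∀ c d : k, g₀ (c, d) = c • e + d • (1 - e) := fun c d => by
    simp [g₀, LinearMap.toSpanSingleton_apply]
  let g : (k × k) →ₐ[k] K := AlgHom.ofLinearMap g₀ (by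
      show g₀ (1, 1) = 1
      rw [hg₀, one_smul, one_smul]; ring) (by
      rintro ⟨c, d⟩ ⟨c', d'⟩
      show g₀ (c * c', d * d') = g₀ (c, d) * g₀ (c', d')
      rw [hg₀, hg₀, hg₀]
      simp only [Algebra.smul_def, map_mul]
      linear_combination (-(algebraMap k K c * algebraMap k K c' - algebraMap k K c * algebraMap k K d'
        - algebraMap k K d * algebraMap k K c' + algebraMap k K d * algebraMap k K d')) * he)
  have hginj : Function.Injective g := by
    rw [injective_iff_map_eq_zero]
    rintro ⟨c, d⟩ hcd
    have h0 : c • e + d • (1 - e) = 0 := by rw [← hg₀]; exact hcd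
    have h1 : c • e = 0 := by
      have := congrArg (fun y => y * e) h0
      simp only [add_mul, smul_mul_assoc, zero_mul, he] at this
      have h2 : (1 - e) * e = 0 := by rw [sub_mul, one_mul, he, sub_self]
      rwa [h2, smul_zero, add_zero] at this
    have h2 : d • (1 - e) = 0 := by rwa [h1, zero_add] at h0
    have hc : c = 0 := (smul_eq_zero.mp h1).resolve_right he0
    have hd : d = 0 := (smul_eq_zero.mp h2).resolve_right he1
    rw [hc, hd]; rfl
  have hfr : Module.finrank k (k × k) = Module.finrank k K := by
    rw [hdim, Module.finrank_prod, Module.finrank_self]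
  have hgsurj : Function.Surjective g :=
    (LinearMap.injective_iff_surjective_of_finrank_eq_finrank (f := g.toLinearMap) hfr).mp hginj
  exact ⟨(AlgEquiv.ofBijective g ⟨hginj, hgsurj⟩).symm⟩

end Fld

section Loc

variable (S : Type u) (R : Type v) [CommRing S] [CommRing R] [Algebra S R] [IsLocalRing S]

attribute [local instance] Ideal.Quotient.field

/-- S15585 -/
theorem main (hq : RInv.IsQuadEtale S R) :
    (IsField (R ⧸ (IsLocalRing.maximalIdeal S).map (algebraMap S R)) ∧
      Module.finrank (S ⧸ IsLocalRing.maximalIdeal S)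
        (R ⧸ (IsLocalRing.maximalIdeal S).map (algebraMap S R)) = 2 ∧
      Algebra.IsSeparable (S ⧸ IsLocalRing.maximalIdeal S)
        (R ⧸ (IsLocalRing.maximalIdeal S).map (algebraMap S R))) ∨
    Nonempty ((R ⧸ (IsLocalRing.maximalIdeal S).map (algebraMap S R)) ≃ₐ[S ⧸ IsLocalRing.maximalIdeal S]
      ((S ⧸ IsLocalRing.maximalIdeal S) × (S ⧸ IsLocalRing.maximalIdeal S))) := by
  obtain ⟨hfin, hproj, hunr, hrank⟩ := hq
  haveI := hfin
  haveI := hproj
  haveI := hunr
  haveI : Module.Free S R := Module.free_of_flat_of_isLocalRing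
  have h2 : Module.finrank S R = 2 := by
    have := hrank (IsLocalRing.closedPoint S)
    rw [Module.rankAtStalk_eq_finrank_of_free] at this
    exact this
  have hdim : Module.finrank (S ⧸ IsLocalRing.maximalIdeal S)
      (R ⧸ (IsLocalRing.maximalIdeal S).map (algebraMap S R)) = 2 := by
    rw [IsLocalRing.finrank_quotient_map]; exact h2
  haveI : Algebra.FormallyUnramified (S ⧸ IsLocalRing.maximalIdeal S)
      (R ⧸ (IsLocalRing.maximalIdeal S).map (algebraMap S R)) := .of_restrictScalars S _ _
  haveI : Algebra.EssFiniteType (S ⧸ IsLocalRing.maximalIdeal S)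
      (R ⧸ (IsLocalRing.maximalIdeal S).map (algebraMap S R)) := .of_comp S _ _
  haveI : IsReduced (R ⧸ (IsLocalRing.maximalIdeal S).map (algebraMap S R)) :=
    Algebra.FormallyUnramified.isReduced_of_field (S ⧸ IsLocalRing.maximalIdeal S) _
  rcases field_or_prod (S ⧸ IsLocalRing.maximalIdeal S)
    (R ⧸ (IsLocalRing.maximalIdeal S).map (algebraMap S R)) hdim with hK | hK
  · left
    refine ⟨hK, hdim, ?_⟩
    letI := hK.toField
    exact Algebra.FormallyUnramified.isSeparable (S ⧸ IsLocalRing.maximalIdeal S)
      (R ⧸ (IsLocalRing.maximalIdeal S).map (algebraMap S R))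
  · exact Or.inr hK

end Loc

end Groth.Agent.H7.QuadFib
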