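import Mathlib

/-! The torus-invariant projection `K[x_i, y_i] → K[t_i]` (`t_i = x_i y_i`). -/

set_option autoImplicit false

namespace Groth.Agent.H7.Quad

open MvPolynomial
open scoped Classical

variable {K : Type*} [CommRing K] {n : ℕ}

/-- the split quadric `∑ x_i y_i` -/
noncomputable def qq (K : Type*) [CommRing K] (n : ℕ) : MvPolynomial (Fin n × Fin 2) K :=
  ∑ i : Fin n, X (i, 0) * X (i, 1)

/-- `∑ t_i` -/
noncomputable def tau (K : Type*) [CommRing K] (n : ℕ) : MvPolynomial (Fin n) K :=
  ∑ i : Fin n, X i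

def diag (s : Fin n × Fin 2 →₀ ℕ) : Prop := ∀ i, s (i, 0) = s (i, 1)

noncomputable def half (s : Fin n × Fin 2 →₀ ℕ) : Fin n →₀ ℕ :=
  Finsupp.comapDomain (fun i => (i, (0 : Fin 2))) s (fun _ _ _ _ h => (Prod.mk.inj h).1)

theorem half_apply (s : Fin n × Fin 2 →₀ ℕ) (i : Fin n) : half s i = s (i, 0) := by
  unfold half; rw [Finsupp.comapDomain_apply]

noncomputable def dd (i : Fin n) : Fin n × Fin 2 →₀ ℕ :=
  Finsupp.single (i, 0) 1 + Finsupp.single (i, 1) 1

theorem diag_dd_add (i : Fin n) (s : Fin n × Fin 2 →₀ ℕ) : diag (dd i + s) ↔ diag s := by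
  unfold diag dd
  refine forall_congr' fun j => ?_
  simp only [Finsupp.add_apply, Finsupp.single_apply, Prod.mk.injEq]
  by_cases h : i = j <;> simp [h]

theorem half_dd_add (i : Fin n) (s : Fin n × Fin 2 →₀ ℕ) :
    half (dd i + s) = Finsupp.single i 1 + half s := by
  ext j
  rw [half_apply, Finsupp.add_apply, Finsupp.add_apply, half_apply]
  unfold dd
  simp only [Finsupp.add_apply, Finsupp.single_apply, Prod.mk.injEq]
  by_cases h : i = j <;> simp [h]

noncomputable def pr : MvPolynomial (Fin n × Fin 2) K →ₗ[K] MvPolynomial (Fin n) K :=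
  (basisMonomials _ K).constr K (fun s => if diag s then monomial (half s) (1:K) else 0)

theorem pr_monomial (s : Fin n × Fin 2 →₀ ℕ) (a : K) :
    pr (monomial s a) = if diag s then monomial (half s) a else 0 := by
  have : monomial s a = a • (basisMonomials _ K s) := by
    rw [coe_basisMonomials, smul_monomial, smul_eq_mul, mul_one]
  rw [this, map_smul, pr, Module.Basis.constr_basis]
  split_ifs
  · rw [smul_monomial, smul_eq_mul, mul_one]
  · rw [smul_zero]

theorem pr_C (a : K) : pr (C a : MvPolynomial (Fin n × Fin 2) K) = C a := by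
  show pr (monomial 0 a) = monomial 0 a
  rw [pr_monomial, if_pos (show diag (0 : Fin n × Fin 2 →₀ ℕ) from fun i => rfl)]
  have : half (0 : Fin n × Fin 2 →₀ ℕ) = 0 := by
    ext j
    rw [half_apply]; rfl
  rw [this]

theorem pr_one : pr (1 : MvPolynomial (Fin n × Fin 2) K) = 1 := by
  have := pr_C (n := n) (1 : K)
  rwa [C_1, C_1] at this

theorem XX_mul_monomial (i : Fin n) (s : Fin n × Fin 2 →₀ ℕ) (a : K) :
    X (i, 0) * X (i, 1) * monomial s a = monomial (dd i + s) a := by
  unfold dd
  rw [X, X, monomial_mul, monomial_mul, one_mul, one_mul]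

theorem pr_qq_mul (f : MvPolynomial (Fin n × Fin 2) K) :
    pr (qq K n * f) = tau K n * pr f := by
  induction f using MvPolynomial.induction_on' with
  | monomial s a =>
    unfold qq tau
    rw [Finset.sum_mul, map_sum, Finset.sum_mul]
    refine Finset.sum_congr rfl fun i _ => ?_
    rw [XX_mul_monomial, pr_monomial, pr_monomial]
    by_cases h : diag s
    · rw [if_pos h, if_pos ((diag_dd_add i s).mpr h), half_dd_add, X, monomial_mul, one_mul]
    · rw [if_neg h, if_neg (fun h' => h ((diag_dd_add i s).mp h')), mul_zero]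
  | add f g hf hg =>
    rw [mul_add, map_add, hf, hg, map_add, mul_add]

theorem pr_qq_pow_mul (j : ℕ) (f : MvPolynomial (Fin n × Fin 2) K) :
    pr (qq K n ^ j * f) = tau K n ^ j * pr f := by
  induction j generalizing f with
  | zero => rw [pow_zero, pow_zero, one_mul, one_mul]
  | succ j ih => rw [pow_succ, mul_assoc, ih, pr_qq_mul, pow_succ, mul_assoc]

theorem pr_qq_pow (j : ℕ) : pr (qq K n ^ j) = tau K n ^ j := by
  have := pr_qq_pow_mul (K := K) (n := n) j 1
  rwa [mul_one, pr_one, mul_one] at this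

theorem pr_XpXp (i : Fin n) (p : ℕ) :
    pr ((X (i, 0) : MvPolynomial (Fin n × Fin 2) K) ^ p * X (i, 1) ^ p) = X i ^ p := by
  rw [X_pow_eq_monomial, X_pow_eq_monomial, monomial_mul, one_mul, pr_monomial, X_pow_eq_monomial]
  have hd : diag (Finsupp.single (i, (0 : Fin 2)) p + Finsupp.single (i, (1 : Fin 2)) p) := by
    intro j
    simp only [Finsupp.add_apply, Finsupp.single_apply, Prod.mk.injEq]
    by_cases h : i = j <;> simp [h]
  rw [if_pos hd]
  have : half (Finsupp.single (i, (0 : Fin 2)) p + Finsupp.single (i, (1 : Fin 2)) p) =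
      Finsupp.single i p := by
    ext j
    rw [half_apply]
    simp only [Finsupp.add_apply, Finsupp.single_apply, Prod.mk.injEq]
    by_cases h : i = j <;> simp [h]
  rw [this]

theorem pr_Xp_mul (i : Fin n) (j : Fin 2) (p : ℕ) (f : MvPolynomial (Fin n × Fin 2) K) :
    ∃ h, pr (X (i, j) ^ p * f) = X i ^ p * h := by
  induction f using MvPolynomial.induction_on' with
  | monomial s a =>
    rw [X_pow_eq_monomial, monomial_mul, one_mul, pr_monomial]
    by_cases hd : diag (Finsupp.single (i, j) p + s)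
    · rw [if_pos hd]
      have hle : p ≤ half (Finsupp.single (i, j) p + s) i := by
        rw [half_apply]
        have h0 : ∀ j' : Fin 2, j' = j → p ≤ (Finsupp.single (i, j) p + s) (i, j') := by
          rintro j' rfl
          rw [Finsupp.add_apply, Finsupp.single_eq_same]
          exact Nat.le_add_right _ _
        have hd' := hd i
        fin_cases j
        · exact h0 0 rfl
        · rw [hd']; exact h0 1 rfl
      refine ⟨monomial (half (Finsupp.single (i, j) p + s) - Finsupp.single i p) a, ?_⟩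
      rw [X_pow_eq_monomial, monomial_mul, one_mul,
        add_tsub_cancel_of_le (Finsupp.single_le_iff.mpr hle)]
    · exact ⟨0, by rw [if_neg hd, mul_zero]⟩
  | add f g hf hg =>
    obtain ⟨h1, hh1⟩ := hf
    obtain ⟨h2, hh2⟩ := hg
    exact ⟨h1 + h2, by rw [mul_add, map_add, hh1, hh2, mul_add]⟩

theorem pr_natCast_mul (m : ℕ) (f : MvPolynomial (Fin n × Fin 2) K) :
    pr ((m : MvPolynomial (Fin n × Fin 2) K) * f) = (m : MvPolynomial (Fin n) K) * pr f := by
  rw [← nsmul_eq_mul, map_nsmul, nsmul_eq_mul]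

theorem pr_Xp_mul' (v : Fin n × Fin 2) (p : ℕ) (f : MvPolynomial (Fin n × Fin 2) K) :
    ∃ h, pr (X v ^ p * f) = X v.1 ^ p * h := by
  obtain ⟨i, j⟩ := v
  exact pr_Xp_mul i j p f

end Groth.Agent.H7.Quad
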