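import Mathlib
import Groth.Prelude.Def_W4c1liftfrobW2
import Groth.Agent.Lib.Helper7.W2Desc

/-! Frobenius liftings on flat `W₂`-liftings via the `δ`-map, and descent along linear retractions. -/

set_option autoImplicit false
universe u v

namespace Groth.Agent.H7.W2D

open FrobAlg Groth.Agent.H6

section Q
variable (p : ℕ) {R : Type*} [CommRing R]

/-- `((x+y)^p - x^p - y^p)/p` -/
def Q (x y : R) : R :=
  x * y * ∑ k ∈ Finset.Ioo 0 p, x ^ (k - 1) * y ^ (p - k - 1) * ((p.choose k / p : ℕ) : R)

theorem add_pow_eq [hp : Fact p.Prime] (x y : R) : (x + y) ^ p = x ^ p + y ^ p + (p : R) * Q p x y := by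
  rw [add_pow_prime_eq hp.out, Q]; ring

theorem map_Q {S : Type*} [CommRing S] (f : R →+* S) (x y : R) : f (Q p x y) = Q p (f x) (f y) := by
  simp only [Q, map_mul, map_sum, map_pow, map_natCast]

end Q

section lift
variable {p : ℕ} [Fact p.Prime] {k : Type u} [Field k] [CharP k p] [PerfectRing k p]
variable {A : Type v} [CommRing A] [Algebra k A] {B : Type v} [CommRing B]
  {ι : W2 p k →+* B} {π : B →+* A}

/-- multiplication by `p`, as a map `A → B` -/
noncomputable def mulP (h : IsLift p k A B ι π) (a : A) : B := (p : B) * Function.surjInv h.surj a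

theorem mulP_pi (h : IsLift p k A B ι π) (x : B) : mulP h (π x) = (p : B) * x := by
  unfold mulP
  rw [← sub_eq_zero, ← mul_sub]
  apply p_mul_eq_zero_of_pi h
  rw [map_sub, Function.surjInv_eq h.surj, sub_self]

theorem mulP_add (h : IsLift p k A B ι π) (a a' : A) : mulP h (a + a') = mulP h a + mulP h a' := by
  obtain ⟨x, rfl⟩ := h.surj a
  obtain ⟨y, rfl⟩ := h.surj a'
  rw [← map_add, mulP_pi, mulP_pi, mulP_pi, mul_add]

theorem mulP_zero (h : IsLift p k A B ι π) : mulP h 0 = 0 := by
  have := mulP_pi h 0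
  rwa [map_zero, mul_zero] at this

theorem mulP_neg (h : IsLift p k A B ι π) (a : A) : mulP h (-a) = -mulP h a := by
  have := mulP_add h a (-a)
  rw [add_neg_cancel, mulP_zero] at this
  exact (neg_eq_of_add_eq_zero_right this.symm).symm

theorem mulP_sub (h : IsLift p k A B ι π) (a a' : A) : mulP h (a - a') = mulP h a - mulP h a' := by
  rw [sub_eq_add_neg, mulP_add, mulP_neg, sub_eq_add_neg]

theorem mulP_mul (h : IsLift p k A B ι π) (x : B) (a : A) : mulP h (π x * a) = x * mulP h a := by
  obtain ⟨y, rfl⟩ := h.surj a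
  rw [← map_mul, mulP_pi, mulP_pi]; ring

theorem pi_mulP (h : IsLift p k A B ι π) (a : A) : π (mulP h a) = 0 := by
  unfold mulP; rw [map_mul, pi_p h, zero_mul]

theorem mulP_mul_mulP (h : IsLift p k A B ι π) (a a' : A) : mulP h a * mulP h a' = 0 := by
  unfold mulP
  rw [mul_mul_mul_comm, p_mul_p h, zero_mul]

theorem p_mul_mulP (h : IsLift p k A B ι π) (a : A) : (p : B) * mulP h a = 0 := by
  unfold mulP
  rw [← mul_assoc, p_mul_p h, zero_mul]

variable {Φ : B →+* B}

theorem exists_delta (h : IsFrobLift p k A B ι π Φ) (b : B) : ∃ c : B, Φ b - b ^ p = (p : B) * c := by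
  rw [← mem_ker_iff h.toIsLift, map_sub, h.red, map_pow, sub_self]

/-- The `δ`-map `B → A` of a Frobenius lift: `Φ b = b^p + p · δ b`. -/
noncomputable def delta (h : IsFrobLift p k A B ι π Φ) (b : B) : A := π (exists_delta h b).choose

theorem delta_eq (h : IsFrobLift p k A B ι π Φ) (b c : B) (hc : Φ b - b ^ p = (p : B) * c) :
    delta h b = π c := by
  unfold delta
  rw [← sub_eq_zero, ← map_sub]
  apply pi_eq_zero_of_p_mul h.toIsLift
  rw [mul_sub, ← (exists_delta h b).choose_spec, hc, sub_self]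

theorem Phi_eq (h : IsFrobLift p k A B ι π Φ) (b : B) : Φ b = b ^ p + mulP h.toIsLift (delta h b) := by
  unfold delta
  rw [mulP_pi, ← (exists_delta h b).choose_spec]; ring

theorem delta_one (h : IsFrobLift p k A B ι π Φ) : delta h 1 = 0 := by
  rw [delta_eq h 1 0 (by simp), map_zero]

theorem delta_mul (h : IsFrobLift p k A B ι π Φ) (b b' : B) :
    delta h (b * b') = delta h b * π b' ^ p + π b ^ p * delta h b' := by
  obtain ⟨c, hc⟩ := exists_delta h b
  obtain ⟨c', hc'⟩ := exists_delta h b'
  rw [delta_eq h b c hc, delta_eq h b' c' hc', delta_eq h (b * b') (c * b' ^ p + b ^ p * c')]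
  · simp only [map_add, map_mul, map_pow]
  · have e1 : Φ b = b ^ p + p * c := by rw [← hc]; ring
    have e2 : Φ b' = b' ^ p + p * c' := by rw [← hc']; ring
    rw [map_mul, e1, e2]
    have := p_mul_p h.toIsLift
    linear_combination (c * c') * this

theorem delta_add (h : IsFrobLift p k A B ι π Φ) (b b' : B) :
    delta h (b + b') = delta h b + delta h b' - π (Q p b b') := by
  obtain ⟨c, hc⟩ := exists_delta h b
  obtain ⟨c', hc'⟩ := exists_delta h b'
  rw [delta_eq h b c hc, delta_eq h b' c' hc', delta_eq h (b + b') (c + c' - Q p b b')]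
  · simp only [map_add, map_sub]
  · have e1 : Φ b = b ^ p + p * c := by rw [← hc]; ring
    have e2 : Φ b' = b' ^ p + p * c' := by rw [← hc']; ring
    rw [map_add, e1, e2, add_pow_eq]
    ring

theorem delta_iota (h : IsFrobLift p k A B ι π Φ) (w v : W2 p k)
    (hv : FrobAlg.sigma p k w - w ^ p = (p : W2 p k) * v) :
    delta h (ι w) = algebraMap k A (FrobAlg.res p k v) := by
  rw [delta_eq h (ι w) (ι v)]
  · have := congrArg (fun f => f v) h.comm
    simpa only [RingHom.comp_apply] using this
  · have := congrArg (fun f => f w) h.semi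
    simp only [RingHom.comp_apply] at this
    rw [this, ← map_pow, ← map_sub, hv, map_mul, map_natCast]

theorem exists_sigma_sub (w : W2 p k) : ∃ v : W2 p k, FrobAlg.sigma p k w - w ^ p = (p : W2 p k) * v := by
  have : FrobAlg.sigma p k w - w ^ p ∈ RingHom.ker (FrobAlg.res p k) := by
    rw [RingHom.mem_ker, map_sub, map_pow, FrobAlg.res_apply, FrobAlg.res_apply,
      WittGrp.coeff_frob, sub_self]
  rw [ker_res, Ideal.mem_span_singleton'] at this
  obtain ⟨v, hv⟩ := this
  exact ⟨v, by rw [← hv, mul_comm]⟩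

end lift


section descent
variable {p : ℕ} [Fact p.Prime] {k : Type u} [Field k] [CharP k p] [PerfectRing k p]
variable {A B : Type v} [CommRing A] [CommRing B] [Algebra k A] [Algebra k B] [Algebra A B]
  [IsScalarTower k A B]
variable (r : B →ₗ[A] A) (hr : ∀ a : A, r (algebraMap A B a) = a)
variable {A' B' : Type v} [CommRing A'] [CommRing B']
  {ιA : W2 p k →+* A'} {πA : A' →+* A} (hA : IsLift p k A A' ιA πA)
  {ιB : W2 p k →+* B'} {πB : B' →+* B}
  (φ' : A' →+* B') (hφι : φ'.comp ιA = ιB) (hφπ : πB.comp φ' = (algebraMap A B).comp πA)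
  {ΦB : B' →+* B'} (hΦB : IsFrobLift p k B B' ιB πB ΦB)

/-- the `δ`-map of the descended Frobenius lift -/
noncomputable def dA (a : A') : A := r (delta hΦB (φ' a))

include hφπ in
theorem pi_phi (a : A') : πB (φ' a) = algebraMap A B (πA a) := by
  have := congrArg (fun f => f a) hφπ
  simpa only [RingHom.comp_apply] using this

include hr hφπ in
theorem dA_add (x y : A') : dA r φ' hΦB (x + y) = dA r φ' hΦB x + dA r φ' hΦB y - πA (Q p x y) := by
  unfold dA
  rw [map_add, delta_add, map_sub, map_add, map_Q, pi_phi φ' hφπ, pi_phi φ' hφπ, ← map_Q, hr, map_Q]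

include hr hφπ in
theorem dA_mul (x y : A') :
    dA r φ' hΦB (x * y) = dA r φ' hΦB x * πA y ^ p + πA x ^ p * dA r φ' hΦB y := by
  unfold dA
  have e : ∀ (a : A) (b : B), r (algebraMap A B a * b) = a * r b := by
    intro a b
    rw [← Algebra.smul_def, map_smul, smul_eq_mul]
  have e' : ∀ (a : A) (b : B), r (algebraMap A B a ^ p * b) = a ^ p * r b := by
    intro a b
    rw [← map_pow, e]
  rw [map_mul, delta_mul, map_add, pi_phi φ' hφπ, pi_phi φ' hφπ,
    mul_comm (delta hΦB (φ' x)), e', e']
  ring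

theorem dA_one : dA r φ' hΦB 1 = 0 := by
  unfold dA
  rw [map_one, delta_one, map_zero]

/-- the descended Frobenius lift, as a function -/
noncomputable def PhiA (a : A') : A' := a ^ p + mulP hA (dA r φ' hΦB a)

include hr hφπ in
theorem PhiA_add (x y : A') :
    PhiA r hA φ' hΦB (x + y) = PhiA r hA φ' hΦB x + PhiA r hA φ' hΦB y := by
  unfold PhiA
  rw [dA_add r hr φ' hφπ, mulP_sub, mulP_add, mulP_pi, add_pow_eq]
  ring

include hr hφπ in
theorem PhiA_mul (x y : A') :
    PhiA r hA φ' hΦB (x * y) = PhiA r hA φ' hΦB x * PhiA r hA φ' hΦB y := by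
  unfold PhiA
  rw [dA_mul r hr φ' hφπ, mulP_add, ← map_pow, ← map_pow, mulP_mul, mul_comm (dA r φ' hΦB x),
    mulP_mul]
  have := mulP_mul_mulP hA (dA r φ' hΦB x) (dA r φ' hΦB y)
  linear_combination -this

theorem PhiA_one : PhiA r hA φ' hΦB 1 = 1 := by
  unfold PhiA
  rw [dA_one, mulP_zero, one_pow, add_zero]

theorem PhiA_zero : PhiA r hA φ' hΦB 0 = 0 := by
  have hp : p ≠ 0 := (Fact.out : p.Prime).ne_zero
  unfold PhiA
  have : dA r φ' hΦB 0 = 0 := by
    unfold dA
    rw [map_zero, delta_eq hΦB 0 0 (by simp [hp]), map_zero, map_zero]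
  rw [this, mulP_zero, zero_pow hp, add_zero]

/-- the descended Frobenius lift -/
noncomputable def PhiAHom : A' →+* A' where
  toFun := PhiA r hA φ' hΦB
  map_one' := PhiA_one r hA φ' hΦB
  map_mul' := PhiA_mul r hr hA φ' hφπ hΦB
  map_zero' := PhiA_zero r hA φ' hΦB
  map_add' := PhiA_add r hr hA φ' hφπ hΦB

include hφι in
theorem isFrobLift : IsFrobLift p k A A' ιA πA (PhiAHom r hr hA φ' hφπ hΦB) := by
  refine { toIsLift := hA, semi := ?_, red := ?_ }
  · ext w
    show PhiA r hA φ' hΦB (ιA w) = ιA (FrobAlg.sigma p k w)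
    obtain ⟨v, hv⟩ := exists_sigma_sub (p := p) (k := k) w
    unfold PhiA dA
    have h1 : φ' (ιA w) = ιB w := by
      have := congrArg (fun f => f w) hφι
      simpa only [RingHom.comp_apply] using this
    rw [h1, delta_iota hΦB w v hv, IsScalarTower.algebraMap_apply k A B, hr]
    have h2 : algebraMap k A (FrobAlg.res p k v) = πA (ιA v) := by
      have := congrArg (fun f => f v) hA.comm
      simp only [RingHom.comp_apply] at this
      exact this.symm
    rw [h2, mulP_pi, ← map_natCast ιA, ← map_mul, ← hv, map_sub, map_pow]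
    ring
  · intro b
    show πA (PhiA r hA φ' hΦB b) = πA b ^ p
    unfold PhiA
    rw [map_add, pi_mulP, add_zero, map_pow]

end descent

end Groth.Agent.H7.W2D
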