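import Mathlib
import Groth.Prelude.Def_W4c1liftfrobW2
import Groth.Agent.Lib.Helper7.W2Frob
import Groth.Agent.Lib.Helper7.EtLift

/-! Frobenius liftability passes to étale algebras. -/

set_option autoImplicit false
universe u v

namespace Groth.Agent.H7.W2D

open FrobAlg

/-- Lifting along a nilpotent surjection for a formally smooth algebra, with twisted structure. -/
theorem exists_lift_of_formallySmooth {R S : Type*} [CommRing R] [CommRing S] [Algebra R S]
    [Algebra.FormallySmooth R S] {B D : Type*} [CommRing B] [CommRing D] (φ : R →+* B)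
    (g : B →+* D) (hg : Function.Surjective g) (hN : IsNilpotent (RingHom.ker g)) (f : S →+* D)
    (hf : ∀ r, f (algebraMap R S r) = g (φ r)) :
    ∃ F : S →+* B, (∀ r, F (algebraMap R S r) = φ r) ∧ ∀ s, g (F s) = f s := by
  letI : Algebra R B := φ.toAlgebra
  letI : Algebra R D := (g.comp φ).toAlgebra
  let g' : B →ₐ[R] D := { g with commutes' := fun r => rfl }
  let f' : S →ₐ[R] D := { f with commutes' := hf }
  let F := Algebra.FormallySmooth.liftOfSurjective f' g' hg hN
  refine ⟨F, fun r => F.commutes r, fun s => ?_⟩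
  exact Algebra.FormallySmooth.liftOfSurjective_apply f' g' hg hN s

/-- the `p`-th power map of a ring in which `p = 0` -/
def powP (p : ℕ) [Fact p.Prime] (D : Type*) [CommRing D] (hp0 : (p : D) = 0) : D →+* D where
  toFun x := x ^ p
  map_one' := one_pow p
  map_mul' x y := mul_pow x y p
  map_zero' := zero_pow (Fact.out : p.Prime).ne_zero
  map_add' x y := by rw [add_pow_eq, hp0, zero_mul, add_zero]

theorem isFLiftable_of_etale (p : ℕ) [Fact p.Prime] (k : Type u) [Field k] [CharP k p]
    [PerfectRing k p]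
    (A C : Type v) [CommRing A] [CommRing C] [Algebra k A] [Algebra k C]
    [Algebra A C] [IsScalarTower k A C] [Algebra.Etale A C]
    (hA : FrobAlg.IsFLiftable p k A) : FrobAlg.IsFLiftable p k C := by
  obtain ⟨A', _, ιA, πA, ΦA, hΦ⟩ := hA
  have h := hΦ.toIsLift
  have hN : IsNilpotent (RingHom.ker πA) := by
    refine ⟨2, ?_⟩
    rw [ker_pi h, Ideal.span_singleton_pow, sq, p_mul_p h]
    simp
  obtain ⟨C', _, _, _, πC, hsurj, hker, hcomm⟩ := EtLift.exists_etale_lift πA h.surj hN C
  have hp0 : (p : C) = 0 := by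
    rw [← map_natCast (algebraMap k C), CharP.cast_eq_zero, map_zero]
  have hkerC : RingHom.ker πC = Ideal.map ((algebraMap A' C').comp ιA) (RingHom.ker (FrobAlg.res p k)) := by
    rw [hker, h.ker_eq, Ideal.map_map]
  have hNC : IsNilpotent (RingHom.ker πC) := by
    obtain ⟨n, hn⟩ := hN
    refine ⟨n, ?_⟩
    rw [hker, ← Ideal.map_pow, hn, Ideal.zero_eq_bot, Ideal.map_bot]; rfl
  have hL : IsLift p k C C' ((algebraMap A' C').comp ιA) πC := by
    refine ⟨RingHom.Flat.comp h.flat (RingHom.flat_algebraMap_iff.mpr inferInstance), hsurj, hkerC, ?_⟩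
    ext w
    show πC (algebraMap A' C' (ιA w)) = algebraMap k C (FrobAlg.res p k w)
    rw [hcomm]
    have := congrArg (fun f => f w) h.comm
    simp only [RingHom.comp_apply] at this
    rw [this, ← IsScalarTower.algebraMap_apply]
  obtain ⟨F, hF1, hF2⟩ := exists_lift_of_formallySmooth (R := A') (S := C')
    ((algebraMap A' C').comp ΦA) πC hsurj hNC ((powP p C hp0).comp πC) (fun r => by
      show (πC (algebraMap A' C' r)) ^ p = πC (algebraMap A' C' (ΦA r))
      rw [hcomm, hcomm, hΦ.red, map_pow])
  refine ⟨C', inferInstance, _, πC, F, { toIsLift := hL, semi := ?_, red := fun b => hF2 b }⟩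
  ext w
  show F (algebraMap A' C' (ιA w)) = algebraMap A' C' (ιA (FrobAlg.sigma p k w))
  rw [hF1]
  show algebraMap A' C' (ΦA (ιA w)) = _
  have := congrArg (fun f => f w) hΦ.semi
  simp only [RingHom.comp_apply] at this
  rw [this]

end Groth.Agent.H7.W2D
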