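import Mathlib
import Groth.Prelude.Def_W4c1liftfrobW2
import Groth.Agent.Lib.Helper7.W2Et

/-! Frobenius liftings on quotients of polynomial rings over `W₂(k)`. -/

set_option autoImplicit false
universe u v

namespace Groth.Agent.H7.W2G

open FrobAlg MvPolynomial

section poly
variable {p : ℕ} [Fact p.Prime] {k : Type u} [Field k] [CharP k p] [PerfectRing k p] {σ : Type v}

local notation "W" => W2 p k
local notation "R'" => MvPolynomial σ (W2 p k)
local notation "R₀" => MvPolynomial σ k

/-- reduction of polynomials modulo `p` -/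
noncomputable abbrev rho (p : ℕ) [Fact p.Prime] (k : Type u) [Field k] [CharP k p] (σ : Type v) :
    MvPolynomial σ (W2 p k) →+* MvPolynomial σ k :=
  MvPolynomial.map (FrobAlg.res p k)

theorem res_surjective : Function.Surjective (FrobAlg.res p k) := by
  intro a
  refine ⟨TruncatedWittVector.mk p ![a, 0], ?_⟩
  rw [FrobAlg.res_apply, TruncatedWittVector.coeff_mk]
  rfl

theorem rho_surjective : Function.Surjective (rho p k σ) :=
  MvPolynomial.map_surjective _ res_surjective

theorem ker_rho : RingHom.ker (rho p k σ) = Ideal.span {(p : R')} := by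
  rw [MvPolynomial.ker_map, W2D.ker_res, Ideal.map_span, Set.image_singleton, map_natCast]

theorem pp_zero : (p : R') * (p : R') = 0 := by
  have := congrArg (C : W →+* R') (Groth.Agent.H6.W2L.p_mul_p p k)
  rwa [map_mul, map_natCast, map_zero] at this

theorem hp0R : ((p : ℕ) : R₀) = 0 := by
  rw [← map_natCast (C : k →+* R₀), CharP.cast_eq_zero, map_zero]

theorem rho_polyFrob (f : R') : rho p k σ (polyFrob p k σ f) = (rho p k σ f) ^ p := by
  have : (rho p k σ).comp (polyFrob p k σ) = (W2D.powP p R₀ hp0R).comp (rho p k σ) := by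
    apply MvPolynomial.ringHom_ext
    · intro w
      show rho p k σ (polyFrob p k σ (C w)) = (rho p k σ (C w)) ^ p
      unfold polyFrob
      rw [coe_eval₂Hom, eval₂_C, RingHom.comp_apply, map_C, map_C, ← map_pow, FrobAlg.res_apply,
        FrobAlg.res_apply, WittGrp.coeff_frob]
    · intro i
      show rho p k σ (polyFrob p k σ (X i)) = (rho p k σ (X i)) ^ p
      unfold polyFrob
      rw [coe_eval₂Hom, eval₂_X, map_pow]
  exact congrArg (fun g => g f) this

theorem p_mul_polyFrob (f : R') : (p : R') * polyFrob p k σ f = (p : R') * f ^ p := by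
  have h : polyFrob p k σ f - f ^ p ∈ RingHom.ker (rho p k σ) := by
    rw [RingHom.mem_ker, map_sub, rho_polyFrob, map_pow, sub_self]
  rw [ker_rho, Ideal.mem_span_singleton'] at h
  obtain ⟨g, hg⟩ := h
  have : (p : R') * (polyFrob p k σ f - f ^ p) = 0 := by
    rw [← hg, mul_comm g, ← mul_assoc, pp_zero, zero_mul]
  rw [mul_sub, sub_eq_zero] at this
  exact this

theorem p_mul_add_pow (a b : R') : (p : R') * (a + b) ^ p = (p : R') * a ^ p + (p : R') * b ^ p := by
  rw [W2D.add_pow_eq, mul_add, mul_add, ← mul_assoc, pp_zero, zero_mul, add_zero]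

/-- the twisted Frobenius lift `x_j ↦ x_j^p + p u_j` -/
noncomputable def PhiU (u : σ → R') : R' →+* R' :=
  eval₂Hom (C.comp (FrobAlg.sigma p k)) fun j => X j ^ p + (p : R') * u j

theorem PhiU_C (u : σ → R') (w : W) : PhiU u (C w) = C (FrobAlg.sigma p k w) := by
  unfold PhiU; rw [coe_eval₂Hom, eval₂_C]; rfl

theorem PhiU_X (u : σ → R') (j : σ) : PhiU u (X j) = X j ^ p + (p : R') * u j := by
  unfold PhiU; rw [coe_eval₂Hom, eval₂_X]

theorem polyFrob_C (w : W) : polyFrob p k σ (C w) = C (FrobAlg.sigma p k w) := by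
  unfold polyFrob; rw [coe_eval₂Hom, eval₂_C]; rfl

theorem polyFrob_X (j : σ) : polyFrob p k σ (X j : R') = X j ^ p := by
  unfold polyFrob; rw [coe_eval₂Hom, eval₂_X]

variable [Fintype σ] [DecidableEq σ]

/-- Taylor expansion modulo `p²`. -/
theorem PhiU_eq (u : σ → R') (f : R') :
    PhiU u f = polyFrob p k σ f + (p : R') * ∑ j, pderiv j f ^ p * u j := by
  have hp : p ≠ 0 := (Fact.out : p.Prime).ne_zero
  induction f using MvPolynomial.induction_on with
  | C a =>
    rw [PhiU_C, polyFrob_C]
    simp [hp]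
  | add f g hf hg =>
    rw [map_add, map_add, hf, hg]
    have : (p : R') * ∑ j, pderiv j (f + g) ^ p * u j =
        (p : R') * ∑ j, pderiv j f ^ p * u j + (p : R') * ∑ j, pderiv j g ^ p * u j := by
      rw [Finset.mul_sum, Finset.mul_sum, Finset.mul_sum, ← Finset.sum_add_distrib]
      refine Finset.sum_congr rfl fun j _ => ?_
      rw [map_add, ← mul_assoc, p_mul_add_pow]
      ring
    rw [this]; ring
  | mul_X f i hf =>
    rw [map_mul, map_mul, hf, PhiU_X, polyFrob_X]
    have h1 : ∀ j, (p : R') * (pderiv j (f * X i) ^ p * u j) =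
        (p : R') * (pderiv j f ^ p * u j) * X i ^ p +
          (if j = i then (p : R') * f ^ p * u i else 0) := by
      intro j
      rw [Derivation.leibniz, pderiv_X, smul_eq_mul, smul_eq_mul, ← mul_assoc]
      by_cases hji : j = i
      · subst hji
        rw [Pi.single_eq_same, mul_one, if_pos rfl, add_comm, p_mul_add_pow, mul_pow]
        ring
      · rw [Pi.single_eq_of_ne (Ne.symm hji), mul_zero, zero_add, if_neg hji, add_zero, mul_pow]
        ring
    have hs : (p : R') * ∑ j, pderiv j (f * X i) ^ p * u j =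
        ((p : R') * ∑ j, pderiv j f ^ p * u j) * X i ^ p + (p : R') * f ^ p * u i := by
      rw [Finset.mul_sum, Finset.sum_congr rfl (fun j _ => h1 j), Finset.sum_add_distrib,
        Finset.sum_ite_eq' Finset.univ i, if_pos (Finset.mem_univ i), ← Finset.sum_mul,
        ← Finset.mul_sum]
    rw [hs]
    have h2 := p_mul_polyFrob (p := p) (k := k) f
    have h3 := pp_zero (p := p) (k := k) (σ := σ)
    linear_combination (u i) * h2 + ((∑ j, pderiv j f ^ p * u j) * u i) * h3

theorem rho_PhiU (u : σ → R') (f : R') : rho p k σ (PhiU u f) = (rho p k σ f) ^ p := by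
  rw [PhiU_eq, map_add, rho_polyFrob, map_mul, map_natCast, hp0R, zero_mul, add_zero]


end poly

end Groth.Agent.H7.W2G
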