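import Mathlib
import Groth.Prelude.Def_W4c1liftfrobW2
import Groth.Agent.Lib.Helper7.W2PolyG

/-! Presentations of flat `W₂(k)`-liftings of quotients of polynomial rings (any index type). -/

set_option autoImplicit false
universe u v

namespace Groth.Agent.H7.W2G

open FrobAlg MvPolynomial

section pres
variable {p : ℕ} [Fact p.Prime] {k : Type u} [Field k] [CharP k p] [PerfectRing k p] {σ : Type v}

local notation "W" => W2 p k
local notation "R'" => MvPolynomial σ (W2 p k)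
local notation "R₀" => MvPolynomial σ k

theorem base_flat (g : R') (hg : (p : R') * g = 0) : ∃ g', g = (p : R') * g' := by
  have : (algebraMap W R').Flat := RingHom.flat_algebraMap_iff.mpr inferInstance
  exact (W2D.flat_iff_ringHom p k (algebraMap W R')).mp this g hg

theorem rho_p : rho p k σ (p : R') = 0 := by rw [map_natCast, hp0R]

theorem exists_eq_p_mul (x : R') (hx : rho p k σ x = 0) : ∃ d, x = (p : R') * d := by
  have h2 : x ∈ RingHom.ker (rho p k σ) := hx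
  rw [ker_rho, Ideal.mem_span_singleton'] at h2
  obtain ⟨d, hd⟩ := h2
  exact ⟨d, by rw [mul_comm, hd]⟩

theorem rho_eq_zero_of_p_mul (x : R') (hx : (p : R') * x = 0) : rho p k σ x = 0 := by
  obtain ⟨g', rfl⟩ := base_flat x hx
  rw [map_mul, rho_p, zero_mul]

/-- lifting along rho of membership -/
theorem exists_lift_mem (I : Ideal R') (x : R') (hx : rho p k σ x ∈ I.map (rho p k σ)) :
    ∃ z ∈ I, ∃ d, x = z + (p : R') * d := by
  rw [Ideal.mem_map_iff_of_surjective _ rho_surjective] at hx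
  obtain ⟨z, hz, hzz⟩ := hx
  obtain ⟨d, hd⟩ := exists_eq_p_mul (x - z) (by rw [map_sub, hzz, sub_self])
  exact ⟨z, hz, d, by rw [← hd]; ring⟩

/-- presentation data of a lifting -/
structure IsPres (I : Ideal R₀) {B : Type*} [CommRing B] (ι : W →+* B) (π : B →+* R₀ ⧸ I)
    (ψ : R' →+* B) : Prop where
  surj : Function.Surjective ψ
  psi_C : ∀ w, ψ (C w) = ι w
  pi_psi : ∀ x, π (ψ x) = Ideal.Quotient.mk I (rho p k σ x)

theorem exists_isPres {I : Ideal (MvPolynomial σ k)} {B : Type _} [CommRing B] {ι : W2 p k →+* B}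
    {π : B →+* MvPolynomial σ k ⧸ I}
    (hL : IsLift p k (R₀ ⧸ I) B ι π) : ∃ ψ : R' →+* B, IsPres I ι π ψ := by
  have hb : ∀ j : σ, ∃ b : B, π b = Ideal.Quotient.mk I (X j) := fun j => hL.surj _
  choose b hb using hb
  let ψ : R' →+* B := eval₂Hom ι b
  have hψC : ∀ w, ψ (C w) = ι w := fun w => eval₂Hom_C _ _ _
  have hψX : ∀ j, ψ (X j) = b j := fun j => eval₂Hom_X' _ _ _
  have hπψ : π.comp ψ = (Ideal.Quotient.mk I).comp (rho p k σ) := by
    apply MvPolynomial.ringHom_ext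
    · intro w
      show π (ψ (C w)) = Ideal.Quotient.mk I (rho p k σ (C w))
      rw [hψC, map_C]
      have := congrArg (fun g => g w) hL.comm
      simp only [RingHom.comp_apply] at this
      rw [this]; rfl
    · intro j
      show π (ψ (X j)) = Ideal.Quotient.mk I (rho p k σ (X j))
      rw [hψX, hb, map_X]
  have hπψ' : ∀ x, π (ψ x) = Ideal.Quotient.mk I (rho p k σ x) :=
    fun x => congrArg (fun g => g x) hπψ
  have hpB : ψ (p : R') = (p : B) := map_natCast ψ p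
  have happ : ∀ y : B, ∃ g : R', ∃ y' : B, y = ψ g + (p : B) * y' := by
    intro y
    obtain ⟨g₀, hg₀⟩ := Ideal.Quotient.mk_surjective (π y)
    obtain ⟨g, rfl⟩ := rho_surjective (p := p) (k := k) g₀
    have : π (y - ψ g) = 0 := by rw [map_sub, hπψ', hg₀, sub_self]
    obtain ⟨y', hy'⟩ := (W2D.mem_ker_iff hL _).mp this
    exact ⟨g, y', by rw [← hy']; ring⟩
  refine ⟨ψ, ?_, hψC, hπψ'⟩
  intro y
  obtain ⟨g, y', rfl⟩ := happ y
  obtain ⟨g', y'', rfl⟩ := happ y'
  refine ⟨g + (p : R') * g', ?_⟩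
  rw [map_add, map_mul, hpB, mul_add, ← mul_assoc, W2D.p_mul_p hL, zero_mul, add_zero]

theorem IsPres.psi_p {I : Ideal (MvPolynomial σ k)} {B : Type _} [CommRing B] {ι : W2 p k →+* B}
    {π : B →+* MvPolynomial σ k ⧸ I} {ψ : MvPolynomial σ (W2 p k) →+* B}
    (_hP : IsPres I ι π ψ) : ψ (p : R') = (p : B) := map_natCast ψ p

theorem IsPres.exists_lift {I : Ideal (MvPolynomial σ k)} {B : Type _} [CommRing B] {ι : W2 p k →+* B}
    {π : B →+* MvPolynomial σ k ⧸ I} {ψ : MvPolynomial σ (W2 p k) →+* B}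
    (hP : IsPres I ι π ψ) (hL : IsLift p k (R₀ ⧸ I) B ι π)
    (y : R₀) (hy : y ∈ I) : ∃ y' : R', ψ y' = 0 ∧ rho p k σ y' = y := by
  obtain ⟨g, hg⟩ := rho_surjective (p := p) (k := k) y
  have : π (ψ g) = 0 := by
    rw [hP.pi_psi, hg, Ideal.Quotient.eq_zero_iff_mem]; exact hy
  obtain ⟨z, hz⟩ := (W2D.mem_ker_iff hL _).mp this
  obtain ⟨e, rfl⟩ := hP.surj z
  refine ⟨g - (p : R') * e, ?_, ?_⟩
  · rw [map_sub, map_mul, hP.psi_p, hz, sub_self]
  · rw [map_sub, map_mul, rho_p, zero_mul, sub_zero, hg]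

theorem IsPres.rho_mem {I : Ideal (MvPolynomial σ k)} {B : Type _} [CommRing B] {ι : W2 p k →+* B}
    {π : B →+* MvPolynomial σ k ⧸ I} {ψ : MvPolynomial σ (W2 p k) →+* B}
    (hP : IsPres I ι π ψ) (x : R') (hx : ψ x = 0) : rho p k σ x ∈ I := by
  rw [← Ideal.Quotient.eq_zero_iff_mem, ← hP.pi_psi, hx, map_zero]

theorem IsPres.flat {I : Ideal (MvPolynomial σ k)} {B : Type _} [CommRing B] {ι : W2 p k →+* B}
    {π : B →+* MvPolynomial σ k ⧸ I} {ψ : MvPolynomial σ (W2 p k) →+* B}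
    (hP : IsPres I ι π ψ) (hL : IsLift p k (R₀ ⧸ I) B ι π)
    (g : R') (hg : ψ ((p : R') * g) = 0) : ∃ g' : R', ψ (g - (p : R') * g') = 0 := by
  have h1 : (p : B) * ψ g = 0 := by rw [← hP.psi_p, ← map_mul]; exact hg
  obtain ⟨y, hy⟩ := (W2D.flat_iff_ringHom p k ι).mp hL.flat _ h1
  obtain ⟨g', rfl⟩ := hP.surj y
  exact ⟨g', by rw [map_sub, map_mul, hP.psi_p, hy, sub_self]⟩

/-- consequence of flatness: if `p * g` is in the kernel then `rho g ∈ I` -/
theorem IsPres.rho_mem_of_p_mul {I : Ideal (MvPolynomial σ k)} {B : Type _} [CommRing B] {ι : W2 p k →+* B}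
    {π : B →+* MvPolynomial σ k ⧸ I} {ψ : MvPolynomial σ (W2 p k) →+* B}
    (hP : IsPres I ι π ψ) (hL : IsLift p k (R₀ ⧸ I) B ι π)
    (g : R') (hg : ψ ((p : R') * g) = 0) : rho p k σ g ∈ I := by
  obtain ⟨g', hg'⟩ := hP.flat hL g hg
  have := hP.rho_mem _ hg'
  rwa [map_sub, map_mul, rho_p, zero_mul, sub_zero] at this

theorem IsPres.exists_frob [Fintype σ] [DecidableEq σ] {I : Ideal (MvPolynomial σ k)} {B : Type _} [CommRing B] {ι : W2 p k →+* B}
    {π : B →+* MvPolynomial σ k ⧸ I} {ψ : MvPolynomial σ (W2 p k) →+* B}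
    (hP : IsPres I ι π ψ) {Φ : B →+* B}
    (hB : IsFrobLift p k (R₀ ⧸ I) B ι π Φ) :
    ∃ u : σ → R', ∀ x, ψ (PhiU u x) = Φ (ψ x) := by
  have hL : IsLift p k (R₀ ⧸ I) B ι π := hB.toIsLift
  have key : ∀ j : σ, ∃ u : R', ψ (X j ^ p + (p : R') * u) = Φ (ψ (X j)) := by
    intro j
    have h1 : π (Φ (ψ (X j)) - ψ (X j) ^ p) = 0 := by rw [map_sub, hB.red, map_pow, sub_self]
    obtain ⟨y, hy⟩ := (W2D.mem_ker_iff hL _).mp h1
    obtain ⟨u, rfl⟩ := hP.surj y
    refine ⟨u, ?_⟩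
    rw [map_add, map_pow, map_mul, hP.psi_p, ← hy]; ring
  choose u hu using key
  have hcomm : ψ.comp (PhiU u) = Φ.comp ψ := by
    apply MvPolynomial.ringHom_ext
    · intro w
      show ψ (PhiU u (C w)) = Φ (ψ (C w))
      rw [PhiU_C, hP.psi_C, hP.psi_C]
      have := congrArg (fun g => g w) hB.semi
      simp only [RingHom.comp_apply] at this
      exact this.symm
    · intro j
      show ψ (PhiU u (X j)) = Φ (ψ (X j))
      rw [PhiU_X, hu]
  exact ⟨u, fun x => congrArg (fun g => g x) hcomm⟩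

end pres

end Groth.Agent.H7.W2G
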