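import Mathlib
import Groth.Prelude.Def_W4c1liftfrobW2
import Groth.Agent.Lib.Helper7.W2PresG
import Groth.Agent.Lib.Helper7.QuadPr

/-! The key non-membership for the split quadric cone: `(∑ x_i^p y_i^p - q^p)/p ∉ (q) + m^{[p]} + k^p`. -/

set_option autoImplicit false
universe u

namespace Groth.Agent.H7.Quad

open FrobAlg MvPolynomial Groth.Agent.H7

section final
variable {p : ℕ} [Fact p.Prime] {k : Type u} [Field k]

/-- the test monomial `u v^{p-1}` -/
noncomputable def m0 (p : ℕ) : Fin 2 →₀ ℕ :=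
  Finsupp.single 0 1 + (Finsupp.single 1 1 + Finsupp.single 1 (p - 2))

theorem m0_zero : m0 p 0 = 1 := by
  unfold m0; simp

theorem m0_one : m0 p 1 = p - 1 := by
  have hp2 : 2 ≤ p := (Fact.out : p.Prime).two_le
  unfold m0; simp; omega

theorem coeff_X_pow_mul_of_lt {σ : Type*} {R : Type*} [CommSemiring R] (m : σ →₀ ℕ) (s : σ)
    (n : ℕ) (q : MvPolynomial σ R) (h : m s < n) : coeff m (X s ^ n * q) = 0 := by
  rw [X_pow_eq_monomial, coeff_monomial_mul', if_neg]
  rw [Finsupp.single_le_iff]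
  omega

theorem coeff_m0_Q : coeff (m0 p) (W2D.Q p (X 0 : MvPolynomial (Fin 2) k) (X 1)) = 1 := by
  have hp2 : 2 ≤ p := (Fact.out : p.Prime).two_le
  unfold W2D.Q m0
  rw [mul_assoc, coeff_X_mul, coeff_X_mul, coeff_sum, Finset.sum_eq_single 1]
  · rw [Nat.choose_one_right, Nat.div_self (by omega), Nat.cast_one, mul_one, Nat.sub_self,
      pow_zero, one_mul, coeff_X_pow, if_pos]
    congr 1
  · intro j hj hj1
    rw [Finset.mem_Ioo] at hj
    rw [mul_assoc, coeff_X_pow_mul_of_lt]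
    simp only [Finsupp.single_apply]
    simp
    omega
  · intro h
    exfalso; apply h
    rw [Finset.mem_Ioo]; omega

theorem coeff_m0_of_mem (z : MvPolynomial (Fin 2) k)
    (hz : z ∈ Ideal.span {(X 0 : MvPolynomial (Fin 2) k) ^ p, X 1 ^ p}) : coeff (m0 p) z = 0 := by
  have hp2 : 2 ≤ p := (Fact.out : p.Prime).two_le
  obtain ⟨h₁, h₂, rfl⟩ := Ideal.mem_span_pair.mp hz
  rw [coeff_add, mul_comm h₁, mul_comm h₂, coeff_X_pow_mul_of_lt, coeff_X_pow_mul_of_lt,
    add_zero]
  · rw [m0_one]; omega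
  · rw [m0_zero]; omega

theorem coeff_m0_C (r : k) : coeff (m0 p) (C r : MvPolynomial (Fin 2) k) = 0 := by
  rw [coeff_C, if_neg]
  intro h
  have := congrArg (fun m => m 0) h
  simp only [Finsupp.zero_apply, m0_zero] at this
  exact absurd this (by norm_num)

theorem final_contra (s : MvPolynomial (Fin 2) k) (hs : s = 1 ∨ s = -1) (r : k)
    (z : MvPolynomial (Fin 2) k)
    (hz : z ∈ Ideal.span {(X 0 : MvPolynomial (Fin 2) k) ^ p, X 1 ^ p})
    (h : s * W2D.Q p (X 0 : MvPolynomial (Fin 2) k) (X 1) + C r + z = 0) : False := by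
  have h1 := congrArg (coeff (m0 p)) h
  rw [coeff_add, coeff_add, coeff_m0_C, coeff_m0_of_mem z hz, add_zero, add_zero, coeff_zero] at h1
  rcases hs with rfl | rfl
  · rw [one_mul, coeff_m0_Q] at h1
    exact one_ne_zero h1
  · rw [neg_one_mul, coeff_neg, coeff_m0_Q] at h1
    exact one_ne_zero (neg_eq_zero.mp h1)

end final

section eps

/-- the specialization `t_0 ↦ u, t_1 ↦ v, t_2 ↦ -(u+v)`, other `t_i ↦ 0` -/
noncomputable def ee (R : Type*) [CommRing R] (j : ℕ) : MvPolynomial (Fin 2) R :=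
  if j = 0 then X 0 else if j = 1 then X 1 else if j = 2 then -(X 0 + X 1) else 0

theorem sum_fin_three {M : Type*} [AddCommMonoid M] (n : ℕ) (hn : 3 ≤ n) (g : ℕ → M)
    (hg : ∀ j, 3 ≤ j → g j = 0) :
    ∑ i : Fin n, g i.val = g 0 + g 1 + g 2 := by
  rw [Fin.sum_univ_eq_sum_range g n,
    ← Finset.sum_subset (Finset.range_subset_range.mpr hn) (fun j _ hj => hg j (by
      rw [Finset.mem_range] at hj; omega))]
  simp [Finset.sum_range_succ]

theorem ee_ge (R : Type*) [CommRing R] (j : ℕ) (hj : 3 ≤ j) : ee R j = 0 := by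
  unfold ee
  rw [if_neg (by omega), if_neg (by omega), if_neg (by omega)]

noncomputable def eps (R : Type*) [CommRing R] (n : ℕ) :
    MvPolynomial (Fin n) R →+* MvPolynomial (Fin 2) R :=
  eval₂Hom C (fun i : Fin n => ee R i.val)

theorem eps_X (R : Type*) [CommRing R] (n : ℕ) (i : Fin n) : eps R n (X i) = ee R i.val := by
  unfold eps; rw [eval₂Hom_X']

theorem eps_C (R : Type*) [CommRing R] (n : ℕ) (r : R) : eps R n (C r) = C r := by
  unfold eps; rw [eval₂Hom_C]

theorem eps_tau (R : Type*) [CommRing R] (n : ℕ) (hn : 3 ≤ n) : eps R n (tau R n) = 0 := by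
  unfold tau
  rw [map_sum]
  simp only [eps_X]
  rw [sum_fin_three n hn (ee R) (ee_ge R)]
  unfold ee
  simp

theorem eps_sum_pow (R : Type*) [CommRing R] (n : ℕ) (hn : 3 ≤ n) (p : ℕ) (hp : p ≠ 0) :
    eps R n (∑ i : Fin n, X i ^ p) =
      (X 0 : MvPolynomial (Fin 2) R) ^ p + X 1 ^ p + (-(X 0 + X 1)) ^ p := by
  rw [map_sum]
  simp only [map_pow, eps_X]
  rw [sum_fin_three n hn (fun j => ee R j ^ p) (fun j hj => by
    show ee R j ^ p = 0
    rw [ee_ge R j hj, zero_pow hp])]
  unfold ee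
  simp

end eps

section key
variable {p : ℕ} [Fact p.Prime] {k : Type u} [Field k] [CharP k p] [PerfectRing k p]

local notation "W" => W2 p k

theorem sign_lemma : ∃ s z₁ : MvPolynomial (Fin 2) W,
    ((s = 1 ∧ z₁ = X 0 ^ p + X 1 ^ p) ∨ (s = -1 ∧ z₁ = 0)) ∧
    (X 0 : MvPolynomial (Fin 2) W) ^ p + X 1 ^ p + (-(X 0 + X 1)) ^ p =
      (p : MvPolynomial (Fin 2) W) * (s * W2D.Q p (X 0) (X 1) + z₁) := by
  rcases (Fact.out : p.Prime).eq_two_or_odd' with h2 | hodd
  · refine ⟨1, X 0 ^ p + X 1 ^ p, Or.inl ⟨rfl, rfl⟩, ?_⟩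
    have he : Even p := by rw [h2]; exact even_two
    have h2' : ((p : ℕ) : MvPolynomial (Fin 2) W) = 2 := by
      have : (p : ℕ) = 2 := h2
      exact_mod_cast congrArg (Nat.cast (R := MvPolynomial (Fin 2) W)) this
    rw [he.neg_pow, W2D.add_pow_eq, h2']
    ring
  · refine ⟨-1, 0, Or.inr ⟨rfl, rfl⟩, ?_⟩
    rw [hodd.neg_pow, W2D.add_pow_eq]
    ring

theorem p_mul_sum_pow {σ : Type*} {ι : Type*} (s : Finset ι) (g : ι → MvPolynomial σ W) :
    (p : MvPolynomial σ W) * (∑ i ∈ s, g i) ^ p = (p : MvPolynomial σ W) * ∑ i ∈ s, g i ^ p := by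
  classical
  induction s using Finset.induction_on with
  | empty =>
    rw [Finset.sum_empty, Finset.sum_empty, zero_pow (Fact.out : p.Prime).ne_zero]
  | insert a s ha ih =>
    rw [Finset.sum_insert ha, Finset.sum_insert ha, W2G.p_mul_add_pow, ih, mul_add]

/-- `p * a^p` only sees the constant coefficient of `a`, modulo Frobenius powers of the variables -/
theorem p_mul_pow_decomp {σ : Type*} [Fintype σ] [DecidableEq σ] (a : MvPolynomial σ W) :
    ∃ (w : W) (b : σ → MvPolynomial σ W),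
      (p : MvPolynomial σ W) * a ^ p =
        (p : MvPolynomial σ W) * C w + (p : MvPolynomial σ W) * ∑ v, X v ^ p * b v := by
  induction a using MvPolynomial.induction_on' with
  | monomial s c =>
    by_cases hs : s = 0
    · subst hs
      refine ⟨c ^ p, 0, ?_⟩
      simp only [Pi.zero_apply, mul_zero, Finset.sum_const_zero, add_zero]
      rw [monomial_pow, smul_zero]
      rfl
    · obtain ⟨v, hv⟩ : ∃ v, s v ≠ 0 := by
        by_contra hcon
        exact hs (Finsupp.ext fun v => by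
          by_contra hv
          exact hcon ⟨v, hv⟩)
      refine ⟨0, Pi.single v (monomial (p • s - Finsupp.single v p) (c ^ p)), ?_⟩
      rw [map_zero, mul_zero, zero_add, Finset.sum_eq_single v]
      · rw [Pi.single_eq_same, monomial_pow, X_pow_eq_monomial, monomial_mul, one_mul,
          add_tsub_cancel_of_le]
        rw [Finsupp.single_le_iff]
        show p ≤ (p • s) v
        rw [Finsupp.smul_apply, smul_eq_mul]
        exact Nat.le_mul_of_pos_right _ (Nat.pos_of_ne_zero hv)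
      · intro u _ huv
        rw [Pi.single_eq_of_ne huv, mul_zero]
      · intro h; exact absurd (Finset.mem_univ v) h
  | add a₁ a₂ h₁ h₂ =>
    obtain ⟨w₁, b₁, e₁⟩ := h₁
    obtain ⟨w₂, b₂, e₂⟩ := h₂
    refine ⟨w₁ + w₂, b₁ + b₂, ?_⟩
    rw [W2G.p_mul_add_pow, e₁, e₂, map_add]
    simp only [Pi.add_apply, mul_add, Finset.sum_add_distrib]
    ring

theorem rho_ee_pow_mem (j : ℕ) :
    W2G.rho p k (Fin 2) (ee W j ^ p) ∈
      Ideal.span {(X 0 : MvPolynomial (Fin 2) k) ^ p, X 1 ^ p} := by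
  have hp0 : p ≠ 0 := (Fact.out : p.Prime).ne_zero
  have h0 : (X 0 : MvPolynomial (Fin 2) k) ^ p ∈
      Ideal.span {(X 0 : MvPolynomial (Fin 2) k) ^ p, X 1 ^ p} :=
    Ideal.subset_span (Set.mem_insert _ _)
  have h1 : (X 1 : MvPolynomial (Fin 2) k) ^ p ∈
      Ideal.span {(X 0 : MvPolynomial (Fin 2) k) ^ p, X 1 ^ p} :=
    Ideal.subset_span (Set.mem_insert_of_mem _ rfl)
  unfold ee
  split_ifs
  · rw [map_pow, map_X]; exact h0
  · rw [map_pow, map_X]; exact h1
  · rw [map_pow, map_neg, map_add, map_X, map_X, neg_pow, W2D.add_pow_eq, W2G.hp0R, zero_mul,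
      add_zero]
    exact Ideal.mul_mem_left _ _ (add_mem h0 h1)
  · rw [zero_pow hp0, map_zero]; exact zero_mem _

theorem key (n : ℕ) (hn : 3 ≤ n) :
    ¬ ∃ (a c : MvPolynomial (Fin n × Fin 2) W)
      (h : Fin n × Fin 2 → MvPolynomial (Fin n × Fin 2) W),
      ∑ i : Fin n, X (i, 0) ^ p * X (i, 1) ^ p - qq W n ^ p
          + (p : MvPolynomial (Fin n × Fin 2) W) * a ^ p =
        (p : MvPolynomial (Fin n × Fin 2) W) * (c * qq W n + ∑ v, X v ^ p * h v) := by
  have hp0 : p ≠ 0 := (Fact.out : p.Prime).ne_zero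
  rintro ⟨a, c, h, hE⟩
  obtain ⟨w, b, hab⟩ := p_mul_pow_decomp a
  have hE' : ∑ i : Fin n, X (i, 0) ^ p * X (i, 1) ^ p - qq W n ^ p
        + (p : MvPolynomial (Fin n × Fin 2) W) * C w =
      (p : MvPolynomial (Fin n × Fin 2) W) * (c * qq W n + ∑ v, X v ^ p * (h v - b v)) := by
    have : ∑ v, X v ^ p * (h v - b v) = ∑ v, X v ^ p * h v - ∑ v, X v ^ p * b v := by
      simp only [mul_sub, Finset.sum_sub_distrib]
    rw [this]
    linear_combination hE - hab
  choose h' hh' using fun v : Fin n × Fin 2 => pr_Xp_mul' (K := W) v p (h v - b v)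
  have hT : ∑ i : Fin n, X i ^ p - tau W n ^ p + (p : MvPolynomial (Fin n) W) * C w =
      (p : MvPolynomial (Fin n) W) *
        (tau W n * pr c + ∑ v : Fin n × Fin 2, X v.1 ^ p * h' v) := by
    have := congrArg (pr (K := W) (n := n)) hE'
    rw [map_add, map_sub, map_sum, pr_qq_pow, pr_natCast_mul, pr_C, pr_natCast_mul, map_add,
      map_sum, mul_comm c, pr_qq_mul] at this
    simp only [pr_XpXp, hh'] at this
    exact this
  have hU := congrArg (eps W n) hT
  rw [map_add, map_sub, eps_sum_pow W n hn p hp0, map_pow, eps_tau W n hn, zero_pow hp0, sub_zero,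
    map_mul, map_natCast, eps_C, map_mul, map_natCast, map_add, map_mul, eps_tau W n hn,
    zero_mul, zero_add, map_sum] at hU
  simp only [map_mul, map_pow, eps_X] at hU
  obtain ⟨s, z₁, hsz, hsign⟩ := sign_lemma (p := p) (k := k)
  rw [hsign] at hU
  have h0 : (p : MvPolynomial (Fin 2) W) * (s * W2D.Q p (X 0) (X 1) + z₁ + C w -
      ∑ v : Fin n × Fin 2, ee W v.1.val ^ p * eps W n (h' v)) = 0 := by
    linear_combination hU
  have h1 := W2G.rho_eq_zero_of_p_mul _ h0
  rw [map_sub, map_add, map_add, map_mul, W2D.map_Q, map_X, map_X, map_C, map_sum] at h1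
  refine final_contra (p := p) (k := k) (W2G.rho p k (Fin 2) s) ?_ (res p k w)
    (W2G.rho p k (Fin 2) z₁ - ∑ v : Fin n × Fin 2,
      W2G.rho p k (Fin 2) (ee W v.1.val ^ p * eps W n (h' v))) ?_ ?_
  · rcases hsz with ⟨rfl, -⟩ | ⟨rfl, -⟩
    · left; rw [map_one]
    · right; rw [map_neg, map_one]
  · refine sub_mem ?_ (Ideal.sum_mem _ fun v _ => ?_)
    · rcases hsz with ⟨-, rfl⟩ | ⟨-, rfl⟩
      · have := rho_ee_pow_mem (p := p) (k := k) 2
        have h2 := rho_ee_pow_mem (p := p) (k := k) 0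
        have h3 := rho_ee_pow_mem (p := p) (k := k) 1
        unfold ee at h2 h3
        simp only [if_true, one_ne_zero, if_false] at h2 h3
        rw [map_add]
        exact add_mem h2 h3
      · rw [map_zero]; exact zero_mem _
    · rw [map_mul]
      exact Ideal.mul_mem_right _ _ (rho_ee_pow_mem _)
  · linear_combination h1

end key

end Groth.Agent.H7.Quad
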