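import Mathlib
import Groth.Prelude.Def_W4c1liftfrobW2
import Groth.Agent.Lib.Helper7.QuadKey

/-! Non-liftability of the split quadric cone and of its Frobenius neighbourhood. -/

set_option autoImplicit false
universe u

namespace Groth.Agent.H7.Quad

open FrobAlg MvPolynomial Groth.Agent.H7

section red
variable {p : ℕ} [Fact p.Prime] {k : Type u} [Field k] [CharP k p] [PerfectRing k p]

local notation "W" => W2 p k

theorem rho_qq (n : ℕ) : W2G.rho p k (Fin n × Fin 2) (qq W n) = qq k n := by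
  unfold qq
  rw [map_sum]
  simp only [map_mul, map_X]

theorem sum_pow_p {σ : Type*} {ι : Type*} (s : Finset ι) (g : ι → MvPolynomial σ k) :
    (∑ i ∈ s, g i) ^ p = ∑ i ∈ s, g i ^ p := by
  classical
  induction s using Finset.induction_on with
  | empty =>
    rw [Finset.sum_empty, Finset.sum_empty, zero_pow (Fact.out : p.Prime).ne_zero]
  | insert a s ha ih =>
    rw [Finset.sum_insert ha, Finset.sum_insert ha, W2D.add_pow_eq, ih, W2G.hp0R, zero_mul,
      add_zero]

/-- the Frobenius residue of the quadric -/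
theorem exists_P (n : ℕ) : ∃ P : MvPolynomial (Fin n × Fin 2) W,
    ∑ i : Fin n, X (i, 0) ^ p * X (i, 1) ^ p - qq W n ^ p =
      (p : MvPolynomial (Fin n × Fin 2) W) * P := by
  apply W2G.exists_eq_p_mul
  rw [map_sub, map_pow, rho_qq, map_sum]
  unfold qq
  rw [sum_pow_p, sub_eq_zero]
  refine Finset.sum_congr rfl fun i _ => ?_
  rw [map_mul, map_pow, map_pow, map_X, map_X, mul_pow]

theorem pp_mul {σ : Type*} (x : MvPolynomial σ W) :
    (p : MvPolynomial σ W) * ((p : MvPolynomial σ W) * x) = 0 := by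
  rw [← mul_assoc, W2G.pp_zero, zero_mul]

/-- `(x + p g)^p = x^p` -/
theorem add_p_mul_pow {σ : Type*} (x g : MvPolynomial σ W) :
    (x + (p : MvPolynomial σ W) * g) ^ p = x ^ p := by
  have hp2 : 2 ≤ p := (Fact.out : p.Prime).two_le
  rw [W2D.add_pow_eq]
  have h1 : ((p : MvPolynomial σ W) * g) ^ p = 0 := by
    have e : ((p : MvPolynomial σ W) * g) ^ p =
        ((p : MvPolynomial σ W) * g) ^ 2 * ((p : MvPolynomial σ W) * g) ^ (p - 2) := by
      rw [← pow_add]; congr 1; omega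
    have e2 : ((p : MvPolynomial σ W) * g) ^ 2 = 0 := by
      have := W2G.pp_zero (p := p) (k := k) (σ := σ)
      linear_combination (g * g) * this
    rw [e, e2, zero_mul]
  have h2 : (p : MvPolynomial σ W) * W2D.Q p x ((p : MvPolynomial σ W) * g) = 0 := by
    unfold W2D.Q
    have := W2G.pp_zero (p := p) (k := k) (σ := σ)
    rw [mul_assoc x, mul_assoc (p : MvPolynomial σ W), mul_left_comm x, ← mul_assoc, this, zero_mul]
  rw [h1, h2, add_zero, add_zero]

theorem not_isW2Liftable (n : ℕ) (hn : 3 ≤ n) :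
    ¬ FrobAlg.IsW2Liftable p k
      (MvPolynomial (Fin n × Fin 2) k ⧸ Ideal.span
        (insert (qq k n)
          (Set.range fun v : Fin n × Fin 2 => (MvPolynomial.X v : MvPolynomial (Fin n × Fin 2) k) ^ p))) := by
  have hp2 : 2 ≤ p := (Fact.out : p.Prime).two_le
  rintro ⟨B, _, ι, π, hL⟩
  obtain ⟨ψ, hP⟩ := W2G.exists_isPres hL
  obtain ⟨q', hq'0, hq'ρ⟩ := hP.exists_lift hL (qq k n) (Ideal.subset_span (Set.mem_insert _ _))
  have hX : ∀ v : Fin n × Fin 2, ∃ X'v, ψ X'v = 0 ∧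
      W2G.rho p k (Fin n × Fin 2) X'v = (X v : MvPolynomial (Fin n × Fin 2) k) ^ p :=
    fun v => hP.exists_lift hL _ (Ideal.subset_span (Set.mem_insert_of_mem _ ⟨v, rfl⟩))
  choose X' hX'0 hX'ρ using hX
  obtain ⟨g, hg⟩ := W2G.exists_eq_p_mul (q' - qq W n) (by rw [map_sub, hq'ρ, rho_qq, sub_self])
  have ha : ∀ v, ∃ a, X' v - X v ^ p = (p : MvPolynomial (Fin n × Fin 2) W) * a :=
    fun v => W2G.exists_eq_p_mul _ (by rw [map_sub, hX'ρ, map_pow, map_X, sub_self])
  choose a ha using ha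
  obtain ⟨P, hPP⟩ := exists_P (p := p) (k := k) n
  -- the non-Koszul relation
  have hE0 : ψ ((p : MvPolynomial (Fin n × Fin 2) W) *
      (-P + qq W n ^ (p - 1) * g - ∑ i : Fin n, X (i, 1) ^ p * a (i, 0))) = 0 := by
    have e : (p : MvPolynomial (Fin n × Fin 2) W) *
        (-P + qq W n ^ (p - 1) * g - ∑ i : Fin n, X (i, 1) ^ p * a (i, 0)) =
        qq W n ^ (p - 1) * q' - ∑ i : Fin n, X (i, 1) ^ p * X' (i, 0) := by
      have h1 : q' = qq W n + (p : MvPolynomial (Fin n × Fin 2) W) * g := by rw [← hg]; ring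
      have h2 : ∀ i : Fin n, X' (i, 0) =
          X (i, 0) ^ p + (p : MvPolynomial (Fin n × Fin 2) W) * a (i, 0) := by
        intro i; rw [← ha]; ring
      have h3 : qq W n ^ (p - 1) * qq W n = qq W n ^ p := by
        rw [← pow_succ, Nat.sub_add_cancel (by omega)]
      simp only [h2]
      rw [h1, mul_add, h3]
      simp only [mul_add, Finset.sum_add_distrib]
      rw [mul_sub, mul_add, mul_neg, ← hPP, Finset.mul_sum]
      have h4 : ∑ i : Fin n, X (i, 1) ^ p * X (i, 0) ^ p =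
          ∑ i : Fin n, (X (i, 0) : MvPolynomial (Fin n × Fin 2) W) ^ p * X (i, 1) ^ p :=
        Finset.sum_congr rfl fun i _ => mul_comm _ _
      have h5 : ∑ i : Fin n, (X (i, 1) : MvPolynomial (Fin n × Fin 2) W) ^ p *
            ((p : MvPolynomial (Fin n × Fin 2) W) * a (i, 0)) =
          ∑ i : Fin n, (p : MvPolynomial (Fin n × Fin 2) W) * (X (i, 1) ^ p * a (i, 0)) :=
        Finset.sum_congr rfl fun i _ => by ring
      rw [h4, h5]
      ring
    rw [e, map_sub, map_mul, hq'0, mul_zero, map_sum]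
    simp only [map_mul, hX'0, mul_zero, Finset.sum_const_zero, sub_zero]
  have hmem := hP.rho_mem_of_p_mul hL _ hE0
  set I := Ideal.span (insert (qq k n)
      (Set.range fun v : Fin n × Fin 2 => (MvPolynomial.X v : MvPolynomial (Fin n × Fin 2) k) ^ p))
    with hI
  have hqI : qq k n ∈ I := Ideal.subset_span (Set.mem_insert _ _)
  have hXI : ∀ v : Fin n × Fin 2, (X v : MvPolynomial (Fin n × Fin 2) k) ^ p ∈ I :=
    fun v => Ideal.subset_span (Set.mem_insert_of_mem _ ⟨v, rfl⟩)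
  have hPI : W2G.rho p k (Fin n × Fin 2) P ∈ I := by
    rw [map_sub, map_add, map_neg, map_mul, map_pow, rho_qq, map_sum] at hmem
    have h1 : qq k n ^ (p - 1) * W2G.rho p k (Fin n × Fin 2) g ∈ I :=
      Ideal.mul_mem_right _ _ (Ideal.pow_mem_of_mem _ hqI _ (by omega))
    have h2 : ∑ i : Fin n, W2G.rho p k (Fin n × Fin 2) (X (i, 1) ^ p * a (i, 0)) ∈ I := by
      refine Ideal.sum_mem _ fun i _ => ?_
      rw [map_mul, map_pow, map_X]
      exact Ideal.mul_mem_right _ _ (hXI _)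
    have h3 := sub_mem (sub_mem h1 h2) hmem
    have e : qq k n ^ (p - 1) * W2G.rho p k (Fin n × Fin 2) g -
        ∑ i : Fin n, W2G.rho p k (Fin n × Fin 2) (X (i, 1) ^ p * a (i, 0)) -
        (-W2G.rho p k (Fin n × Fin 2) P + qq k n ^ (p - 1) * W2G.rho p k (Fin n × Fin 2) g -
          ∑ i : Fin n, W2G.rho p k (Fin n × Fin 2) (X (i, 1) ^ p * a (i, 0))) =
        W2G.rho p k (Fin n × Fin 2) P := by ring
    rwa [e] at h3
  rw [hI, Ideal.mem_span_insert] at hPI
  obtain ⟨c₀, z, hz, hPz⟩ := hPI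
  rw [Ideal.mem_span_range_iff_exists_fun] at hz
  obtain ⟨h₀, hh₀⟩ := hz
  obtain ⟨c, rfl⟩ := W2G.rho_surjective (p := p) (k := k) c₀
  have hh : ∀ v, ∃ hv, W2G.rho p k (Fin n × Fin 2) hv = h₀ v :=
    fun v => W2G.rho_surjective (p := p) (k := k) (h₀ v)
  choose h hh using hh
  obtain ⟨d, hd⟩ := W2G.exists_eq_p_mul (P - (c * qq W n + ∑ v, X v ^ p * h v)) (by
    rw [map_sub, map_add, map_mul, rho_qq, map_sum, hPz, ← hh₀]
    simp only [map_mul, map_pow, map_X, hh]
    ring_nf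
    rw [sub_eq_zero]
    exact Finset.sum_congr rfl fun v _ => mul_comm _ _)
  refine key (p := p) (k := k) n hn ⟨0, c, h, ?_⟩
  rw [zero_pow (by omega), mul_zero, add_zero, hPP]
  have : P = (c * qq W n + ∑ v, X v ^ p * h v) + (p : MvPolynomial (Fin n × Fin 2) W) * d := by
    rw [← hd]; ring
  rw [this, mul_add, pp_mul, add_zero]

end red

end Groth.Agent.H7.Quad
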