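import Mathlib
import Groth.Prelude.Def_W4c1liftfrobW2
import Groth.Agent.Lib.Helper7.QuadRed

/-! The split quadric cone admits no Frobenius lifting over `W₂(k)`. -/

set_option autoImplicit false
universe u

namespace Groth.Agent.H7.Quad

open FrobAlg MvPolynomial Groth.Agent.H7

section red
variable {p : ℕ} [Fact p.Prime] {k : Type u} [Field k] [CharP k p] [PerfectRing k p]

local notation "W" => W2 p k

/-- swap `x_i ↔ y_i` -/
def sw (n : ℕ) : Fin n × Fin 2 ≃ Fin n × Fin 2 :=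
  Equiv.prodCongr (Equiv.refl _) (Equiv.swap 0 1)

theorem sw_sw (n : ℕ) (v : Fin n × Fin 2) : sw n (sw n v) = v := by
  obtain ⟨i, j⟩ := v
  simp [sw]

theorem pderiv_qq (R : Type*) [CommRing R] (n : ℕ) (v : Fin n × Fin 2) :
    pderiv v (qq R n) = X (sw n v) := by
  obtain ⟨i₀, j⟩ := v
  unfold qq
  rw [map_sum]
  fin_cases j
  · simp [sw, Derivation.leibniz, pderiv_X, Pi.single_apply, Finset.sum_ite_eq']
  · simp [sw, Derivation.leibniz, pderiv_X, Pi.single_apply, Finset.sum_ite_eq']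

theorem polyFrob_qq (n : ℕ) :
    polyFrob p k (Fin n × Fin 2) (qq W n) = ∑ i : Fin n, X (i, 0) ^ p * X (i, 1) ^ p := by
  unfold qq
  rw [map_sum]
  simp only [map_mul, W2G.polyFrob_X]

theorem not_isFLiftable (n : ℕ) (hn : 3 ≤ n) :
    ¬ FrobAlg.IsFLiftable p k
      (MvPolynomial (Fin n × Fin 2) k ⧸ Ideal.span {qq k n}) := by
  have hp0 : p ≠ 0 := (Fact.out : p.Prime).ne_zero
  rintro ⟨B, _, ι, π, Φ, hB⟩
  have hL := hB.toIsLift
  obtain ⟨ψ, hP⟩ := W2G.exists_isPres hL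
  obtain ⟨u, hu⟩ := hP.exists_frob hB
  obtain ⟨q', hq'0, hq'ρ⟩ := hP.exists_lift hL (qq k n) (Ideal.mem_span_singleton_self _)
  obtain ⟨g, hg⟩ := W2G.exists_eq_p_mul (q' - qq W n) (by rw [map_sub, hq'ρ, rho_qq, sub_self])
  have h1 : q' = qq W n + (p : MvPolynomial (Fin n × Fin 2) W) * g := by rw [← hg]; ring
  obtain ⟨P, hPP⟩ := exists_P (p := p) (k := k) n
  have h2 : ψ (W2G.PhiU u q' - q' ^ p) = 0 := by
    rw [map_sub, hu, map_pow, hq'0, map_zero, zero_pow hp0, sub_zero]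
  have e : W2G.PhiU u q' - q' ^ p = (p : MvPolynomial (Fin n × Fin 2) W) *
      (P + g ^ p + ∑ v, X (sw n v) ^ p * u v) := by
    have e1 : ∀ v, (p : MvPolynomial (Fin n × Fin 2) W) * pderiv v q' ^ p =
        (p : MvPolynomial (Fin n × Fin 2) W) * X (sw n v) ^ p := by
      intro v
      have e0 : pderiv v ((p : MvPolynomial (Fin n × Fin 2) W) * g) =
          (p : MvPolynomial (Fin n × Fin 2) W) * pderiv v g := by
        rw [← nsmul_eq_mul, map_nsmul, nsmul_eq_mul]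
      rw [h1, map_add, pderiv_qq, e0, add_p_mul_pow]
    have e2 : (p : MvPolynomial (Fin n × Fin 2) W) * ∑ v, pderiv v q' ^ p * u v =
        (p : MvPolynomial (Fin n × Fin 2) W) * ∑ v, X (sw n v) ^ p * u v := by
      rw [Finset.mul_sum, Finset.mul_sum]
      refine Finset.sum_congr rfl fun v _ => ?_
      rw [← mul_assoc, e1, mul_assoc]
    rw [W2G.PhiU_eq, e2, h1, add_p_mul_pow, map_add, map_mul, map_natCast, polyFrob_qq,
      W2G.p_mul_polyFrob]
    linear_combination hPP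
  rw [e] at h2
  have hmem := hP.rho_mem_of_p_mul hL _ h2
  obtain ⟨c₀, hc₀⟩ := Ideal.mem_span_singleton'.mp hmem
  obtain ⟨c, rfl⟩ := W2G.rho_surjective (p := p) (k := k) c₀
  obtain ⟨d, hd⟩ := W2G.exists_eq_p_mul
    (P + g ^ p + ∑ v, X (sw n v) ^ p * u v - c * qq W n) (by
      rw [map_sub, ← hc₀, map_mul, rho_qq, sub_self])
  refine key (p := p) (k := k) n hn ⟨g, c, fun v => -u (sw n v), ?_⟩
  have hsum : ∑ v, X v ^ p * (-u (sw n v)) = -∑ v, X (sw n v) ^ p * u v := by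
    rw [← Finset.sum_neg_distrib, ← Equiv.sum_comp (sw n)]
    refine Finset.sum_congr rfl fun v _ => ?_
    rw [sw_sw, mul_neg]
  rw [hsum, hPP]
  have hpp := W2G.pp_zero (p := p) (k := k) (σ := Fin n × Fin 2)
  linear_combination (p : MvPolynomial (Fin n × Fin 2) W) * hd + d * hpp

end red

end Groth.Agent.H7.Quad
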