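import Mathlib
import Groth.Prelude.Def_GSzCSA
import Groth.Agent.Lib.Helper7.Br8
import Groth.Agent.Lib.Helper7.Br9
import Groth.Agent.Lib.Helper7.Br10
import Groth.Agent.Lib.Helper7.CSA12

set_option autoImplicit false

namespace Groth.Agent.H7.Quat
universe u v w
open scoped TensorProduct
open Module

section Indep
variable {k : Type u} [Field k] {D : Type v} [DivisionRing D] [Algebra k D]

theorem indep_one (i : D) (hi : i ∉ Set.range (algebraMap k D)) (α β : k)
    (h : algebraMap k D α + β • i = 0) : α = 0 ∧ β = 0 := by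
  have hβ : β = 0 := by
    by_contra hβ
    apply hi
    refine ⟨-(β⁻¹ * α), ?_⟩
    have h1 : β • i = -algebraMap k D α := eq_neg_of_add_eq_zero_right h
    have h2 : i = β⁻¹ • (β • i) := by rw [smul_smul, inv_mul_cancel₀ hβ, one_smul]
    rw [h2, h1, map_neg, map_mul, smul_neg, Algebra.smul_def]
  refine ⟨?_, hβ⟩
  rw [hβ, zero_smul, add_zero] at h
  exact (map_eq_zero_iff _ (algebraMap k D).injective).mp h

theorem indep (h2 : (2 : k) ≠ 0) (i j : D) (hi : i ∉ Set.range (algebraMap k D)) (hj : j ≠ 0)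
    (hij : i * j = -(j * i)) (α β γ δ : k)
    (h : algebraMap k D α + β • i + γ • j + δ • (i * j) = 0) :
    α = 0 ∧ β = 0 ∧ γ = 0 ∧ δ = 0 := by
  set u : D := algebraMap k D α + β • i with hu
  set v : D := algebraMap k D γ + δ • i with hv
  have huv : u + v * j = 0 := by
    rw [hv, add_mul, smul_mul_assoc, ← Algebra.smul_def, ← add_assoc]
    exact h
  have hi0 : i ≠ 0 := fun h0 => hi ⟨0, by rw [map_zero, h0]⟩
  have hcu : Commute i u :=
    (Algebra.commute_algebraMap_right α i).add_right ((Commute.refl i).smul_right β)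
  have hcv : Commute i v :=
    (Algebra.commute_algebraMap_right γ i).add_right ((Commute.refl i).smul_right δ)
  have hv0 : v = 0 := by
    by_contra hv0
    have hj' : j = -(v⁻¹ * u) := by
      have h1 : v * j = -u := eq_neg_of_add_eq_zero_right huv
      have h3 : j = v⁻¹ * (v * j) := by rw [← mul_assoc, inv_mul_cancel₀ hv0, one_mul]
      rw [h3, h1, mul_neg]
    have hcj : Commute i j := by
      rw [hj']
      exact ((hcv.inv_right₀).mul_right hcu).neg_right
    have h4 : j * i = -(j * i) := by rw [← hij]; exact hcj.eq.symm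
    have h5 : (2 : D) * (j * i) = 0 := by
      rw [two_mul]
      nth_rewrite 1 [h4]
      exact neg_add_cancel _
    have h6 : (2 : D) ≠ 0 := by
      have : (2 : D) = algebraMap k D 2 := by rw [map_ofNat]
      rw [this]
      exact (map_ne_zero_iff _ (algebraMap k D).injective).mpr h2
    rcases mul_eq_zero.mp h5 with h7 | h7
    · exact h6 h7
    · rcases mul_eq_zero.mp h7 with h8 | h8
      · exact hj h8
      · exact hi0 h8
  obtain ⟨hγ, hδ⟩ := indep_one i hi γ δ hv0
  rw [hv0, zero_mul, add_zero] at huv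
  obtain ⟨hα, hβ⟩ := indep_one i hi α β huv
  exact ⟨hα, hβ, hγ, hδ⟩

end Indep

section Exists
variable {k : Type u} [Field k]

/-- in a quadratic extension in characteristic not two, complete the square. -/
theorem exists_sqrt_gen (h2 : (2 : k) ≠ 0) (F : Type v) [Field F] [Algebra k F]
    [FiniteDimensional k F] (hF : finrank k F = 2) :
    ∃ (a : k) (i : F), i * i = algebraMap k F a ∧ i ∉ Set.range (algebraMap k F) := by
  obtain ⟨x, hx⟩ : ∃ x : F, x ∉ Set.range (algebraMap k F) := by
    by_contra hne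
    push_neg at hne
    have h1 : (⊥ : Subalgebra k F) = ⊤ := by
      rw [eq_top_iff]
      intro y _
      exact Algebra.mem_bot.mpr (hne y)
    have h3 : finrank k F = 1 := Subalgebra.bot_eq_top_iff_finrank_eq_one.mp h1
    omega
  have hint : IsIntegral k x := Algebra.IsIntegral.isIntegral x
  have hdeg2 : (minpoly k x).natDegree = 2 := by
    have h1 : (minpoly k x).natDegree ≤ 2 := hF ▸ minpoly.natDegree_le x
    have h3 : (minpoly k x).natDegree ≠ 1 := fun h => hx ((minpoly.natDegree_eq_one_iff).mp h)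
    have h4 : 0 < (minpoly k x).natDegree := minpoly.natDegree_pos hint
    omega
  have hmonic : (minpoly k x).Monic := minpoly.monic hint
  have haev : Polynomial.aeval x (minpoly k x) = 0 := minpoly.aeval k x
  rw [Polynomial.aeval_eq_sum_range' (n := 3) (by omega)] at haev
  rw [Finset.sum_range_succ, Finset.sum_range_succ, Finset.sum_range_one] at haev
  have hc2 : (minpoly k x).coeff 2 = 1 := by
    have := hmonic.coeff_natDegree
    rwa [hdeg2] at this
  rw [hc2, one_smul, pow_zero, pow_one] at haev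
  set c0 := (minpoly k x).coeff 0
  set c1 := (minpoly k x).coeff 1
  have h2F : (2 : F) ≠ 0 := by
    have : (2 : F) = algebraMap k F 2 := by rw [map_ofNat]
    rw [this]
    exact (map_ne_zero_iff _ (algebraMap k F).injective).mpr h2
  refine ⟨(c1 / 2) ^ 2 - c0, x + algebraMap k F (c1 / 2), ?_, ?_⟩
  · have hx2 : x ^ 2 = -(c0 • 1 + c1 • x) := eq_neg_of_add_eq_zero_right haev
    rw [map_sub, map_pow, map_div₀, map_ofNat]
    rw [Algebra.smul_def, Algebra.smul_def, mul_one] at hx2
    field_simp
    linear_combination 4 * hx2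
  · rintro ⟨r, hr⟩
    apply hx
    refine ⟨r - c1 / 2, ?_⟩
    rw [map_sub, hr]
    ring

/-- a central division algebra of dimension four, in characteristic not two, is a quaternion
algebra. -/
theorem exists_quaternion (h2 : (2 : k) ≠ 0) (D : Type v) [DivisionRing D] [Algebra k D]
    [Algebra.IsCentral k D] [FiniteDimensional k D] (hD : finrank k D = 4) :
    ∃ a b : k, Nonempty (QuaternionAlgebra k a 0 b ≃ₐ[k] D) := by
  obtain ⟨F, _, _, ι, hF⟩ := Br.exists_subfield_degree k D 2 (by rw [hD]; norm_num)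
  haveI : FiniteDimensional k F := Module.finite_of_finrank_pos (by rw [hF]; norm_num)
  obtain ⟨a, i₀, hi₀, hi₀'⟩ := exists_sqrt_gen h2 F hF
  set i : D := ι i₀ with hi
  have hii : i * i = algebraMap k D a := by
    rw [hi, ← map_mul, hi₀, AlgHom.commutes]
  have hik : i ∉ Set.range (algebraMap k D) := by
    rintro ⟨r, hr⟩
    apply hi₀'
    refine ⟨r, ι.toRingHom.injective ?_⟩
    show ι (algebraMap k F r) = ι i₀
    rw [AlgHom.commutes, hr]
  have hi0 : i ≠ 0 := fun h0 => hik ⟨0, by rw [map_zero, h0]⟩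
  -- an element not commuting with `i`
  obtain ⟨d, hd⟩ : ∃ d : D, i * d ≠ d * i := by
    by_contra hne
    push_neg at hne
    apply hik
    have h1 : i ∈ Subalgebra.center k D := Subalgebra.mem_center_iff.mpr fun d => (hne d).symm
    rw [Algebra.IsCentral.center_eq_bot] at h1
    exact Algebra.mem_bot.mp h1
  set j : D := d - i * d * i⁻¹ with hj
  have hj0 : j ≠ 0 := by
    intro h0
    apply hd
    have h1 : d = i * d * i⁻¹ := sub_eq_zero.mp h0
    calc i * d = i * d * i⁻¹ * i := by rw [inv_mul_cancel_right₀ hi0]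
      _ = d * i := by rw [← h1]
  have ha0 : algebraMap k D a ≠ 0 := by rw [← hii]; exact mul_ne_zero hi0 hi0
  have hinv : i⁻¹ = (algebraMap k D a)⁻¹ * i := by
    rw [← hii, mul_inv_rev, mul_assoc, inv_mul_cancel₀ hi0, mul_one]
  have hij : i * j = -(j * i) := by
    have e1 : i * j = i * d - algebraMap k D a * d * i⁻¹ := by
      rw [hj, mul_sub, ← mul_assoc, ← mul_assoc, hii]
    have e2 : j * i = d * i - i * d := by
      rw [hj, sub_mul, inv_mul_cancel_right₀ hi0]
    have e3 : algebraMap k D a * d * i⁻¹ = d * i := by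
      rw [hinv, Algebra.commutes a d, mul_assoc, ← mul_assoc (algebraMap k D a),
        mul_inv_cancel₀ ha0, one_mul]
    rw [e1, e2, e3]
    abel
  -- linear independence and spanning
  have hli : LinearIndependent k ![1, i, j, i * j] := by
    rw [Fintype.linearIndependent_iff]
    intro g hg
    rw [Fin.sum_univ_four] at hg
    simp only [Matrix.cons_val_zero, Matrix.cons_val_one, Matrix.cons_val_two,
      Matrix.cons_val_three, Matrix.head_cons, Matrix.tail_cons] at hg
    rw [← Algebra.algebraMap_eq_smul_one] at hg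
    obtain ⟨h0, h1, h2', h3⟩ := indep h2 i j hik hj0 hij (g 0) (g 1) (g 2) (g 3) hg
    intro t
    fin_cases t
    · exact h0
    · exact h1
    · exact h2'
    · exact h3
  have hspan : Submodule.span k (Set.range ![1, i, j, i * j]) = ⊤ :=
    hli.span_eq_top_of_card_eq_finrank' (by rw [hD]; rfl)
  -- `j * j` is central
  have hjj : j * j ∈ Subalgebra.center k D := by
    have hS : (⊤ : Subalgebra k D) ≤ Subalgebra.centralizer k ({j * j} : Set D) := by
      have h1 : i ∈ Subalgebra.centralizer k ({j * j} : Set D) := by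
        rw [Subalgebra.mem_centralizer_iff]
        intro z hz
        rw [Set.mem_singleton_iff] at hz
        subst hz
        have hji : j * i = -(i * j) := by rw [hij, neg_neg]
        calc j * j * i = j * (j * i) := mul_assoc _ _ _
          _ = j * (-(i * j)) := by rw [hji]
          _ = -(j * i) * j := by rw [mul_neg, neg_mul, mul_assoc]
          _ = (i * j) * j := by rw [← hij]
          _ = i * (j * j) := mul_assoc _ _ _
      have h2 : j ∈ Subalgebra.centralizer k ({j * j} : Set D) := by
        rw [Subalgebra.mem_centralizer_iff]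
        intro z hz
        rw [Set.mem_singleton_iff] at hz
        subst hz
        rw [mul_assoc]
      intro z _
      have hz : z ∈ Submodule.span k (Set.range ![1, i, j, i * j]) := by rw [hspan]; trivial
      have hle : Submodule.span k (Set.range ![1, i, j, i * j]) ≤
          Subalgebra.toSubmodule (Subalgebra.centralizer k ({j * j} : Set D)) := by
        rw [Submodule.span_le]
        rintro _ ⟨t, rfl⟩
        show ![1, i, j, i * j] t ∈ Subalgebra.centralizer k ({j * j} : Set D)
        fin_cases t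
        · exact one_mem _
        · exact h1
        · exact h2
        · exact mul_mem h1 h2
      exact hle hz
    rw [Subalgebra.mem_center_iff]
    intro z
    have := (Subalgebra.mem_centralizer_iff k).mp (hS (Algebra.mem_top : z ∈ ⊤)) (j * j)
      (Set.mem_singleton _)
    exact this.symm
  rw [Algebra.IsCentral.center_eq_bot] at hjj
  obtain ⟨b, hb⟩ := Algebra.mem_bot.mp hjj
  -- the quaternion basis
  let q : QuaternionAlgebra.Basis D a 0 b :=
    { i := i
      j := j
      k := i * j
      i_mul_i := by rw [hii, zero_smul, add_zero, Algebra.algebraMap_eq_smul_one]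
      j_mul_j := by rw [← hb, Algebra.algebraMap_eq_smul_one]
      i_mul_j := rfl
      j_mul_i := by rw [zero_smul, zero_sub, hij, neg_neg] }
  have hinj : Function.Injective q.liftHom := by
    rw [injective_iff_map_eq_zero]
    intro x hx
    have hx' : algebraMap k D x.re + x.imI • i + x.imJ • j + x.imK • (i * j) = 0 := hx
    obtain ⟨h0, h1, h2', h3⟩ := indep h2 i j hik hj0 hij _ _ _ _ hx'
    ext
    · exact h0
    · exact h1
    · exact h2'
    · exact h3
  have hfr : finrank k (QuaternionAlgebra k a 0 b) = finrank k D := by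
    rw [hD, QuaternionAlgebra.finrank_eq_four]
  have hbij : Function.Bijective q.liftHom :=
    ⟨hinj, (LinearMap.injective_iff_surjective_of_finrank_eq_finrank
      (f := q.liftHom.toLinearMap) hfr).mp hinj⟩
  exact ⟨a, b, ⟨AlgEquiv.ofBijective q.liftHom hbij⟩⟩

end Exists

section Main
variable (k : Type u) [Field k] (A : Type v) [Ring A] [Algebra k A] [Algebra.IsCentral k A]
  [IsSimpleRing A] [FiniteDimensional k A]

theorem exists_isPeriod : ∃ e, CSAGal.IsPeriod k A e := by
  obtain ⟨K, _, _, hfd, hgal, n, hn, ⟨φ⟩⟩ := CSA.exists_finite_galois_split k A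
  haveI : NeZero n := ⟨hn⟩
  obtain ⟨DA, -⟩ := Br.exists_datum φ
  refine ⟨orderOf (Br.cls k K DA.c), (DA.isPeriod_iff _).mpr ⟨?_, rfl⟩⟩
  exact orderOf_pos_iff.mpr
    (isOfFinOrder_iff_pow_eq_one.mpr ⟨n, Nat.pos_of_ne_zero hn, DA.cls_pow_size⟩)

theorem isPeriod_two_of_isIndex_two (h : CSAGal.IsIndex k A 2) : CSAGal.IsPeriod k A 2 := by
  obtain ⟨e, he⟩ := exists_isPeriod k A
  obtain ⟨h1, h2⟩ := Br.period_index k A 2 e h he
  have h3 : e = 2 := by
    have h4 : e ≤ 2 := Nat.le_of_dvd (by norm_num) h1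
    have h5 : 2 ∣ e := by simpa using h2
    have h6 : 0 < e := he.1
    have h7 : 2 ≤ e := Nat.le_of_dvd h6 h5
    omega
  rwa [h3] at he

theorem isIndex_two_of_quaternion (a b : k) (m : ℕ) (hm : 0 < m)
    (hdiv : ∀ x : QuaternionAlgebra k a 0 b, x ≠ 0 → IsUnit x)
    (iso : A ≃ₐ[k] Matrix (Fin m) (Fin m) (QuaternionAlgebra k a 0 b)) :
    CSAGal.IsIndex k A 2 := by
  letI : DivisionRing (QuaternionAlgebra k a 0 b) :=
    DivisionRing.ofIsUnitOrEqZero (fun x => by
      by_cases hx : x = 0
      · exact Or.inr hx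
      · exact Or.inl (hdiv x hx))
  obtain ⟨d, hd⟩ := Br.exists_isIndex k A
  obtain ⟨hd0, m', D', _, _, _, _, iso', hm', hfr⟩ := Br.exists_central_of_isIndex k A d hd
  haveI : NeZero m := ⟨hm.ne'⟩
  haveI : NeZero m' := ⟨hm'.ne'⟩
  obtain ⟨e⟩ := CSA.divisionRing_unique k A (QuaternionAlgebra k a 0 b) D' m m' iso iso'
  have h4 : finrank k D' = 4 := by
    rw [← e.toLinearEquiv.finrank_eq, QuaternionAlgebra.finrank_eq_four]
  have h5 : d = 2 := by
    rw [h4] at hfr
    have : d ^ 2 = 2 ^ 2 := by rw [← hfr]; norm_num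
    exact Nat.pow_left_injective (by norm_num : 2 ≠ 0) this
  rwa [h5] at hd

theorem quaternion_unique (a b a' b' : k) (m m' : ℕ)
    (hdiv : ∀ x : QuaternionAlgebra k a 0 b, x ≠ 0 → IsUnit x)
    (hdiv' : ∀ x : QuaternionAlgebra k a' 0 b', x ≠ 0 → IsUnit x)
    (iso : A ≃ₐ[k] Matrix (Fin m) (Fin m) (QuaternionAlgebra k a 0 b))
    (iso' : A ≃ₐ[k] Matrix (Fin m') (Fin m') (QuaternionAlgebra k a' 0 b')) :
    Nonempty (QuaternionAlgebra k a 0 b ≃ₐ[k] QuaternionAlgebra k a' 0 b') := by
  letI : DivisionRing (QuaternionAlgebra k a 0 b) :=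
    DivisionRing.ofIsUnitOrEqZero (fun x => by
      by_cases hx : x = 0
      · exact Or.inr hx
      · exact Or.inl (hdiv x hx))
  letI : DivisionRing (QuaternionAlgebra k a' 0 b') :=
    DivisionRing.ofIsUnitOrEqZero (fun x => by
      by_cases hx : x = 0
      · exact Or.inr hx
      · exact Or.inl (hdiv' x hx))
  have hm : m ≠ 0 := by
    rintro rfl
    haveI : Subsingleton A := iso.toEquiv.subsingleton
    exact not_subsingleton A ‹_›
  have hm' : m' ≠ 0 := by
    rintro rfl
    haveI : Subsingleton A := iso'.toEquiv.subsingleton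
    exact not_subsingleton A ‹_›
  haveI : NeZero m := ⟨hm⟩
  haveI : NeZero m' := ⟨hm'⟩
  exact CSA.divisionRing_unique k A (QuaternionAlgebra k a 0 b) (QuaternionAlgebra k a' 0 b')
    m m' iso iso'

theorem quaternion_of_isIndex_two (h2 : (2 : k) ≠ 0) (h : CSAGal.IsIndex k A 2) :
    ∃ (a b : k) (m : ℕ), 0 < m ∧ (∀ x : QuaternionAlgebra k a 0 b, x ≠ 0 → IsUnit x) ∧
      Nonempty (A ≃ₐ[k] Matrix (Fin m) (Fin m) (QuaternionAlgebra k a 0 b)) := by
  obtain ⟨-, m, D, _, _, _, _, iso, hm, hfr⟩ := Br.exists_central_of_isIndex k A 2 h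
  obtain ⟨a, b, ⟨e⟩⟩ := exists_quaternion h2 D (by rw [hfr]; norm_num)
  refine ⟨a, b, m, hm, ?_, ⟨iso.trans (AlgEquiv.mapMatrix e.symm)⟩⟩
  intro x hx
  have h1 : e x ≠ 0 := fun h0 => hx (by rwa [map_eq_zero_iff e e.injective] at h0)
  have h3 : IsUnit (e x) := isUnit_iff_ne_zero.mpr h1
  have h4 := h3.map e.symm
  rwa [AlgEquiv.symm_apply_apply] at h4

end Main

end Groth.Agent.H7.Quat
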