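import Groth.Agent.Lib.Helper5.FunFld.Genus0
import Groth.Agent.Lib.Helper5.FunFld.Conorm
import Mathlib.FieldTheory.RatFunc.IntermediateField

/-! Places of the rational function field `k(X)` (helper7). -/

set_option autoImplicit false
set_option linter.unusedSectionVars false

namespace Groth.Agent.H7.RF

open FunFld WithZero Polynomial

section general

variable {k K : Type*} [Field k] [Field K] [Algebra k K] (P : Place k K)

/-- at a pole of `x`, the leading term of a polynomial in `x` dominates -/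
lemma v_aeval_eq_pow {x : K} (hx : 1 < P.1 x) {g : k[X]} (hg : g ≠ 0) :
    P.1 (aeval x g) = P.1 x ^ g.natDegree := by
  have hx0 : x ≠ 0 := by
    rintro rfl
    rw [map_zero] at hx
    exact absurd hx (by simp)
  obtain ⟨n, hn, hvn⟩ : ∃ n : ℤ, 0 < n ∧ P.1 x = exp n := by
    refine ⟨-P.ord x, ?_, P.v_eq_exp_neg_ord hx0⟩
    have := (P.v_le_one_iff hx0).not.1 (not_le.2 hx)
    omega
  rw [aeval_eq_sum_range, Finset.sum_range_succ]
  have htop : P.1 (g.coeff g.natDegree • x ^ g.natDegree) = P.1 x ^ g.natDegree := by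
    rw [P.v_smul _ _ (by rw [coeff_natDegree]; exact leadingCoeff_ne_zero.2 hg), map_pow]
  have hlow : P.1 (∑ i ∈ Finset.range g.natDegree, g.coeff i • x ^ i) < P.1 x ^ g.natDegree := by
    apply Valuation.map_sum_lt _ (pow_ne_zero _ (P.v_ne_zero hx0))
    intro i hi
    rw [Finset.mem_range] at hi
    calc P.1 (g.coeff i • x ^ i) ≤ P.1 (x ^ i) := P.v_smul_le _ _
      _ = exp ((i : ℤ) * n) := by rw [map_pow, hvn, ← exp_nsmul]; simp
      _ < exp ((g.natDegree : ℤ) * n) := by
          rw [exp_lt_exp]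
          have : (i : ℤ) < g.natDegree := by exact_mod_cast hi
          nlinarith
      _ = P.1 x ^ g.natDegree := by rw [hvn, ← exp_nsmul]; simp
  rw [Valuation.map_add_eq_of_lt_right _ (by rw [htop]; exact hlow), htop]

/-- a place all of whose integral elements are congruent to constants has degree one -/
theorem deg_eq_one_of_forall_const
    (h : ∀ y : K, P.1 y ≤ 1 → ∃ c : k, P.1 (y - algebraMap k K c) < 1) : P.deg = 1 := by
  have h1 : IsLocalRing.residue P.O (1 : P.O) ≠ 0 := by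
    rw [map_one]; exact one_ne_zero
  refine (finrank_eq_one_iff_of_nonzero' _ h1).2 ?_
  intro w
  obtain ⟨⟨y, hy⟩, rfl⟩ := IsLocalRing.residue_surjective w
  obtain ⟨c, hc⟩ := h y (P.mem_O_iff.1 hy)
  refine ⟨c, (P.residue_smul c 1).symm.trans ?_⟩
  symm
  rw [← sub_eq_zero, ← map_sub, P.residue_eq_zero_iff]
  have h3 : ((⟨y, hy⟩ - c • (1 : P.O) : P.O) : K) = y - algebraMap k K c := by
    have : ((⟨y, hy⟩ - c • (1 : P.O) : P.O) : K) = y - ((c • (1 : P.O) : P.O) : K) := rfl
    rw [this, P.coe_smul_O, Algebra.smul_def]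
    simp
  rwa [h3]

end general

section ratfunc

variable {k : Type*} [Field k]

theorem isFunctionField : IsFunctionField k (RatFunc k) := by
  refine ⟨⟨RatFunc.X, RatFunc.transcendental_X, ?_⟩, ?_⟩
  · rw [RatFunc.adjoin_X]
    exact Module.finite_of_finrank_pos (by rw [IntermediateField.finrank_top]; exact one_pos)
  · intro y hy
    by_contra hne
    exact RatFunc.transcendental_of_ne_C y
      (fun ⟨c, hc⟩ => hne ⟨c, by rw [RatFunc.algebraMap_eq_C, hc]⟩) hy

variable (P : Place k (RatFunc k))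

local notation "φ" => algebraMap k[X] (RatFunc k)

lemma v_poly_le_one (hX : P.1 RatFunc.X ≤ 1) (g : k[X]) : P.1 (φ g) ≤ 1 := by
  rw [← RatFunc.aeval_X_left_eq_algebraMap]
  exact P.v_aeval_le_one hX g

lemma v_poly_eq_pow (hX : 1 < P.1 RatFunc.X) {g : k[X]} (hg : g ≠ 0) :
    P.1 (φ g) = P.1 RatFunc.X ^ g.natDegree := by
  rw [← RatFunc.aeval_X_left_eq_algebraMap]
  exact v_aeval_eq_pow P hX hg

lemma v_X_le_one_of_lt {p : k[X]} (hp0 : p ≠ 0) (hp : P.1 (φ p) < 1) : P.1 RatFunc.X ≤ 1 := by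
  by_contra hX
  rw [not_le] at hX
  rw [v_poly_eq_pow P hX hp0] at hp
  exact absurd (one_le_pow_of_one_le' hX.le _) (not_le.2 hp)

lemma v_poly_eq_one_of_not_dvd (hX : P.1 RatFunc.X ≤ 1) {p g : k[X]} (hp : Irreducible p)
    (hpv : P.1 (φ p) < 1) (hg : ¬ p ∣ g) : P.1 (φ g) = 1 := by
  obtain ⟨a, b, hab⟩ := (hp.coprime_iff_not_dvd).2 hg
  have h1 : φ b * φ g = 1 - φ a * φ p := by
    rw [← map_mul, ← map_mul, ← map_one φ, ← map_sub, ← hab]
    congr 1
    ring
  have h2 : P.1 (φ a * φ p) < 1 := by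
    rw [map_mul]
    calc P.1 (φ a) * P.1 (φ p) ≤ 1 * P.1 (φ p) := mul_le_mul' (v_poly_le_one P hX a) le_rfl
      _ = P.1 (φ p) := one_mul _
      _ < 1 := hpv
  have h3 : P.1 (φ b) * P.1 (φ g) = 1 := by
    rw [← map_mul, h1, Valuation.map_one_sub_of_lt _ h2]
  refine le_antisymm (v_poly_le_one P hX g) ?_
  by_contra hlt
  rw [not_le] at hlt
  have : P.1 (φ b) * P.1 (φ g) < 1 := by
    calc P.1 (φ b) * P.1 (φ g) ≤ 1 * P.1 (φ g) := mul_le_mul' (v_poly_le_one P hX b) le_rfl
      _ = P.1 (φ g) := one_mul _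
      _ < 1 := hlt
  rw [h3] at this
  exact lt_irrefl _ this

lemma exists_ord_poly (hX : P.1 RatFunc.X ≤ 1) {p : k[X]} (hp : Irreducible p)
    (hpv : P.1 (φ p) < 1) {a : k[X]} (ha : a ≠ 0) :
    ∃ m : ℕ, P.ord (φ a) = m * P.ord (φ p) := by
  obtain ⟨m, a', ha', rfl⟩ := WfDvdMonoid.max_power_factor ha hp
  refine ⟨m, ?_⟩
  have ha'0 : a' ≠ 0 := by
    rintro rfl
    exact ha' (dvd_zero _)
  rw [map_mul, map_pow, P.ord_mul (pow_ne_zero _ (RatFunc.algebraMap_ne_zero hp.ne_zero))
    (RatFunc.algebraMap_ne_zero ha'0), P.ord_pow,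
    (P.v_eq_one_iff (RatFunc.algebraMap_ne_zero ha'0)).1
      (v_poly_eq_one_of_not_dvd P hX hp hpv ha'), add_zero]

/-- a finite place is normalized at its irreducible polynomial -/
theorem ord_irreducible {p : k[X]} (hp : Irreducible p) (hpv : P.1 (φ p) < 1) :
    P.ord (φ p) = 1 := by
  have hX := v_X_le_one_of_lt P hp.ne_zero hpv
  obtain ⟨t, ht⟩ := P.exists_uniformizer
  have ht0 : t ≠ 0 := by
    rintro rfl
    rw [map_zero] at ht
    exact exp_ne_zero ht.symm
  have hnum : t.num ≠ 0 := RatFunc.num_ne_zero ht0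
  have hden : t.denom ≠ 0 := RatFunc.denom_ne_zero t
  obtain ⟨m, hm⟩ := exists_ord_poly P hX hp hpv hnum
  obtain ⟨n, hn⟩ := exists_ord_poly P hX hp hpv hden
  have h1 : P.ord t = 1 := by
    have := P.ord_eq_of_v_eq ht
    omega
  rw [← RatFunc.num_div_denom t, P.ord_div (RatFunc.algebraMap_ne_zero hnum)
    (RatFunc.algebraMap_ne_zero hden), hm, hn] at h1
  have h2 : 0 < P.ord (φ p) := (P.v_lt_one_iff (RatFunc.algebraMap_ne_zero hp.ne_zero)).1 hpv
  have h3 : ((m : ℤ) - n) * P.ord (φ p) = 1 := by rw [← h1]; ring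
  rcases Int.eq_one_or_neg_one_of_mul_eq_one' h3 with h | h
  · exact h.2
  · omega

theorem v_irreducible {p : k[X]} (hp : Irreducible p) (hpv : P.1 (φ p) < 1) :
    P.1 (φ p) = exp (-1) := by
  rw [P.v_eq_exp_neg_ord (RatFunc.algebraMap_ne_zero hp.ne_zero), ord_irreducible P hp hpv]

lemma ord_poly_of_pole (hX : 1 < P.1 RatFunc.X) {g : k[X]} (hg : g ≠ 0) :
    P.ord (φ g) = g.natDegree * P.ord RatFunc.X := by
  rw [Place.ord, v_poly_eq_pow P hX hg, log_pow, Place.ord]
  simp

/-- the infinite place is normalized at `1/X` -/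
theorem ord_X_of_pole (hX : 1 < P.1 RatFunc.X) : P.ord (RatFunc.X : RatFunc k) = -1 := by
  obtain ⟨t, ht⟩ := P.exists_uniformizer
  have ht0 : t ≠ 0 := by
    rintro rfl
    rw [map_zero] at ht
    exact exp_ne_zero ht.symm
  have hnum : t.num ≠ 0 := RatFunc.num_ne_zero ht0
  have hden : t.denom ≠ 0 := RatFunc.denom_ne_zero t
  have h1 : P.ord t = 1 := by
    have := P.ord_eq_of_v_eq ht
    omega
  rw [← RatFunc.num_div_denom t, P.ord_div (RatFunc.algebraMap_ne_zero hnum)
    (RatFunc.algebraMap_ne_zero hden), ord_poly_of_pole P hX hnum, ord_poly_of_pole P hX hden] at h1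
  have hX0 : (RatFunc.X : RatFunc k) ≠ 0 := RatFunc.X_ne_zero
  have h2 : P.ord (RatFunc.X : RatFunc k) < 0 := by
    have := (P.v_le_one_iff hX0).not.1 (not_le.2 hX)
    omega
  have h3 : ((t.num.natDegree : ℤ) - t.denom.natDegree) * P.ord (RatFunc.X : RatFunc k) = 1 := by
    rw [← h1]; ring
  rcases Int.eq_one_or_neg_one_of_mul_eq_one' h3 with h | h
  · omega
  · exact h.2

theorem v_X_of_pole (hX : 1 < P.1 RatFunc.X) : P.1 (RatFunc.X : RatFunc k) = exp 1 := by
  rw [P.v_eq_exp_neg_ord RatFunc.X_ne_zero, ord_X_of_pole P hX]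
  simp

/-- the infinite place has degree one -/
theorem deg_of_pole (hX : 1 < P.1 RatFunc.X) : P.deg = 1 := by
  apply deg_eq_one_of_forall_const
  intro h hh
  rcases eq_or_ne h 0 with rfl | h0
  · exact ⟨0, by simp⟩
  have hnum : h.num ≠ 0 := RatFunc.num_ne_zero h0
  have hden : h.denom ≠ 0 := RatFunc.denom_ne_zero h
  have hordX := ord_X_of_pole P hX
  have hord : P.ord h = (h.denom.natDegree : ℤ) - h.num.natDegree := by
    conv_lhs => rw [← RatFunc.num_div_denom h]
    rw [P.ord_div (RatFunc.algebraMap_ne_zero hnum) (RatFunc.algebraMap_ne_zero hden),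
      ord_poly_of_pole P hX hnum, ord_poly_of_pole P hX hden, hordX]
    ring
  have hge : 0 ≤ P.ord h := (P.v_le_one_iff h0).1 hh
  rcases lt_or_eq_of_le (show h.num.natDegree ≤ h.denom.natDegree by omega) with hlt | heq
  · refine ⟨0, ?_⟩
    rw [map_zero, sub_zero, P.v_lt_one_iff h0]
    omega
  · set c := h.num.leadingCoeff / h.denom.leadingCoeff with hc
    have hc0 : c ≠ 0 := div_ne_zero (leadingCoeff_ne_zero.2 hnum) (leadingCoeff_ne_zero.2 hden)
    refine ⟨c, ?_⟩
    set r := h.num - C c * h.denom with hr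
    have hden' : φ h.denom ≠ 0 := RatFunc.algebraMap_ne_zero hden
    have hsub : h - algebraMap k (RatFunc k) c = φ r / φ h.denom := by
      rw [hr, map_sub, map_mul, RatFunc.algebraMap_C, ← RatFunc.algebraMap_eq_C, sub_div,
        RatFunc.num_div_denom, mul_div_assoc, div_self hden', mul_one]
    rcases eq_or_ne r 0 with hr0 | hr0
    · rw [hsub, hr0, map_zero, zero_div, map_zero]
      exact zero_lt_one
    · have hdeg : r.natDegree < h.denom.natDegree := by
        have h1 : (C c * h.denom).degree = h.num.degree := by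
          rw [degree_C_mul hc0, degree_eq_natDegree hden, degree_eq_natDegree hnum, heq]
        have h2 : h.num.leadingCoeff = (C c * h.denom).leadingCoeff := by
          rw [leadingCoeff_mul, leadingCoeff_C, hc,
            div_mul_cancel₀ _ (leadingCoeff_ne_zero.2 hden)]
        have h3 := degree_sub_lt h1.symm hnum h2
        rw [← hr] at h3
        have h4 := natDegree_lt_natDegree hr0 h3
        omega
      rw [hsub, P.v_lt_one_iff (div_ne_zero (RatFunc.algebraMap_ne_zero hr0) hden'),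
        P.ord_div (RatFunc.algebraMap_ne_zero hr0) hden', ord_poly_of_pole P hX hr0,
        ord_poly_of_pole P hX hden, hordX]
      have : (r.natDegree : ℤ) < h.denom.natDegree := by exact_mod_cast hdeg
      linarith

/-- a polynomial vanishing at a finite place has an irreducible factor vanishing there -/
lemma exists_irreducible_of_lt (hX : P.1 RatFunc.X ≤ 1) (g : k[X]) (hg0 : g ≠ 0)
    (hg : P.1 (φ g) < 1) : ∃ p : k[X], Irreducible p ∧ p ∣ g ∧ P.1 (φ p) < 1 := by
  induction g using WfDvdMonoid.induction_on_irreducible with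
  | zero => exact absurd rfl hg0
  | unit u hu =>
    exfalso
    obtain ⟨w, hw⟩ := hu.exists_right_inv
    have h1 : P.1 (φ u) * P.1 (φ w) = 1 := by rw [← map_mul, ← map_mul, hw, map_one, map_one]
    have h2 : P.1 (φ u) * P.1 (φ w) < 1 := by
      calc P.1 (φ u) * P.1 (φ w) ≤ P.1 (φ u) * 1 := mul_le_mul' le_rfl (v_poly_le_one P hX w)
        _ = P.1 (φ u) := mul_one _
        _ < 1 := hg
    rw [h1] at h2
    exact lt_irrefl _ h2
  | mul a i ha0 hi ih =>
    by_cases hiv : P.1 (φ i) < 1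
    · exact ⟨i, hi, dvd_mul_right _ _, hiv⟩
    · rw [not_lt] at hiv
      have hi1 : P.1 (φ i) = 1 := le_antisymm (v_poly_le_one P hX i) hiv
      rw [map_mul, map_mul, hi1, one_mul] at hg
      obtain ⟨p, hp, hpa, hpv⟩ := ih ha0 hg
      exact ⟨p, hp, hpa.mul_left _, hpv⟩

/-- a squarefree polynomial vanishes to order one -/
theorem ord_squarefree (hX : P.1 RatFunc.X ≤ 1) {f : k[X]} (hf : Squarefree f)
    (hfv : P.1 (φ f) < 1) : P.ord (φ f) = 1 := by
  obtain ⟨p, hp, ⟨g, rfl⟩, hpv⟩ := exists_irreducible_of_lt P hX f hf.ne_zero hfv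
  have hg : ¬ p ∣ g := by
    rintro ⟨w, rfl⟩
    exact hp.not_isUnit (hf p ⟨w, by ring⟩)
  have hg0 : g ≠ 0 := by
    rintro rfl
    exact hg (dvd_zero _)
  rw [map_mul, P.ord_mul (RatFunc.algebraMap_ne_zero hp.ne_zero) (RatFunc.algebraMap_ne_zero hg0),
    ord_irreducible P hp hpv, (P.v_eq_one_iff (RatFunc.algebraMap_ne_zero hg0)).1
      (v_poly_eq_one_of_not_dvd P hX hp hpv hg), add_zero]

lemma v_lt_of_dvd (hX : P.1 RatFunc.X ≤ 1) {p f : k[X]} (hpf : p ∣ f) (hpv : P.1 (φ p) < 1) :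
    P.1 (φ f) < 1 := by
  obtain ⟨g, rfl⟩ := hpf
  rw [map_mul, map_mul]
  calc P.1 (φ p) * P.1 (φ g) ≤ P.1 (φ p) * 1 := mul_le_mul' le_rfl (v_poly_le_one P hX g)
    _ < 1 := by rwa [mul_one]

omit P in
lemma poly_notMem_range {p : k[X]} (hp : Irreducible p) :
    φ p ∉ Set.range (algebraMap k (RatFunc k)) := by
  rintro ⟨c, hc⟩
  have h1 : p = C c := RatFunc.algebraMap_injective k (by
    rw [← hc, RatFunc.algebraMap_C, RatFunc.algebraMap_eq_C])
  rcases eq_or_ne c 0 with rfl | hc0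
  · rw [h1, C_0] at hp
    exact not_irreducible_zero hp
  · exact hp.not_isUnit (by rw [h1]; exact isUnit_C.2 hc0.isUnit)

omit P in
theorem exists_place_irreducible {p : k[X]} (hp : Irreducible p) :
    ∃ P : Place k (RatFunc k), P.1 (φ p) < 1 :=
  exists_place_v_lt_one isFunctionField (poly_notMem_range hp)

omit P in
/-- a squarefree polynomial of positive degree is not a square in `k(X)` -/
theorem sq_ne_squarefree {f : k[X]} (hf : Squarefree f) (hd : 1 ≤ f.natDegree) (r : RatFunc k) :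
    r ^ 2 ≠ φ f := by
  intro h
  have hnu : ¬ IsUnit f := by
    intro hu
    have := natDegree_eq_zero_of_isUnit hu
    omega
  obtain ⟨p, hp, hpf⟩ := WfDvdMonoid.exists_irreducible_factor hnu hf.ne_zero
  obtain ⟨P, hP⟩ := exists_place_irreducible hp
  have hX := v_X_le_one_of_lt P hp.ne_zero hP
  have hord := ord_squarefree P hX hf (v_lt_of_dvd P hX hpf hP)
  rw [← h, P.ord_pow] at hord
  push_cast at hord
  omega

omit P in
theorem notMem_range_of_sq {K : Type*} [Field K] [Algebra (RatFunc k) K] {f : k[X]}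
    (hf : Squarefree f) (hd : 1 ≤ f.natDegree) {y : K}
    (heq : y ^ 2 = algebraMap (RatFunc k) K (φ f)) : y ∉ Set.range (algebraMap (RatFunc k) K) := by
  rintro ⟨r, rfl⟩
  rw [← map_pow] at heq
  exact sq_ne_squarefree hf hd r ((algebraMap (RatFunc k) K).injective heq)

end ratfunc

end Groth.Agent.H7.RF
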