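import Groth.Agent.Lib.Helper7.RF1
import Groth.Agent.Lib.Helper7.QL1
import Groth.Agent.Lib.Helper5.FunFld.Geometric

/-! Hyperelliptic fields `y² = f(x)`: the constant field (helper7). -/

set_option autoImplicit false
set_option linter.unusedSectionVars false

namespace Groth.Agent.H7.RF

open FunFld WithZero Polynomial

section ratfunc

variable {k : Type*} [Field k]

local notation "φ" => algebraMap k[X] (RatFunc k)

/-- `f r²` is not constant for `f` squarefree of positive degree -/
theorem mul_sq_ne_const {f : k[X]} (hf : Squarefree f) (hd : 1 ≤ f.natDegree) (r : RatFunc k)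
    (hr : r ≠ 0) (c : k) : φ f * r ^ 2 ≠ algebraMap k (RatFunc k) c := by
  intro h
  have hnu : ¬ IsUnit f := by
    intro hu
    have := natDegree_eq_zero_of_isUnit hu
    omega
  obtain ⟨p, hp, hpf⟩ := WfDvdMonoid.exists_irreducible_factor hnu hf.ne_zero
  obtain ⟨P, hP⟩ := exists_place_irreducible hp
  have hX := v_X_le_one_of_lt P hp.ne_zero hP
  have hord := ord_squarefree P hX hf (v_lt_of_dvd P hX hpf hP)
  have h1 := congrArg P.ord h
  rw [P.ord_mul (RatFunc.algebraMap_ne_zero hf.ne_zero) (pow_ne_zero _ hr), P.ord_pow, hord,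
    P.ord_algebraMap] at h1
  push_cast at h1
  omega

end ratfunc

section quad

variable {k K : Type*} [Field k] [Field K] [Algebra k K] [Algebra (RatFunc k) K]
  [IsScalarTower k (RatFunc k) K]

local notation "φ" => algebraMap k[X] (RatFunc k)
local notation "ι" => algebraMap (RatFunc k) K

/-- in `y² = f(x)`, `f` squarefree of positive degree, `char ≠ 2`, constants are algebraically
closed -/
theorem algClosed_of_sq (h2 : ringChar k ≠ 2) (hdeg : Module.finrank (RatFunc k) K = 2) {y : K}
    {f : k[X]} (hf : Squarefree f) (hd : 1 ≤ f.natDegree) (heq : y ^ 2 = ι (φ f)) :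
    ∀ z : K, IsAlgebraic k z → z ∈ Set.range (algebraMap k K) := by
  intro z hz
  haveI := QL.finiteDimensional_of_finrank hdeg
  have hy := notMem_range_of_sq hf hd heq
  have hcl := (isFunctionField (k := k)).2
  obtain ⟨a, b, hab⟩ := QL.exists_repr hdeg hy z
  have hιinj : Function.Injective ι := (algebraMap (RatFunc k) K).injective
  rcases eq_or_ne b 0 with rfl | hb0
  · rw [map_zero, zero_mul, add_zero] at hab
    rw [hab, isAlgebraic_algebraMap_iff hιinj] at hz
    obtain ⟨c, hc⟩ := hcl a hz
    exact ⟨c, by rw [hab, ← hc, ← IsScalarTower.algebraMap_apply]⟩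
  exfalso
  have hzF : z ∉ Set.range ι := by
    rintro ⟨w, hw⟩
    apply hy
    refine ⟨(w - a) / b, ?_⟩
    have hb' : ι b ≠ 0 := by rwa [Ne, map_eq_zero_iff _ hιinj]
    rw [map_div₀, map_sub, hw, hab, add_sub_cancel_left, mul_div_cancel_left₀ _ hb']
  have hzi : IsIntegral k z := hz.isIntegral
  have hmap := minpoly_map_eq_of_algClosedIn (K := RatFunc k) (E := K) hcl hzi
  have hziF : IsIntegral (RatFunc k) z := hzi.tower_top
  have hnd : (minpoly (RatFunc k) z).natDegree = 2 := by
    have h1 := minpoly.natDegree_le (A := RatFunc k) z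
    rw [hdeg] at h1
    have h3 := minpoly.natDegree_pos hziF
    have h4 : (minpoly (RatFunc k) z).natDegree ≠ 1 := by
      intro h
      exact hzF (minpoly.natDegree_eq_one_iff.1 h)
    omega
  have hnd' : (minpoly k z).natDegree = 2 := by rw [← hnd, ← hmap, natDegree_map]
  have hlc : (minpoly k z).coeff 2 = 1 := by
    rw [← hnd']
    exact (minpoly.monic hzi).coeff_natDegree
  have hroot := minpoly.aeval k z
  rw [aeval_eq_sum_range, hnd', Finset.sum_range_succ, Finset.sum_range_succ, Finset.sum_range_one,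
    hlc, one_smul, pow_zero, pow_one] at hroot
  set c₀ := (minpoly k z).coeff 0
  set c₁ := (minpoly k z).coeff 1
  -- the other quadratic relation
  have hrel : z ^ 2 = ι (2 * a) * z - ι (a ^ 2 - b ^ 2 * φ f) := by
    rw [hab, map_mul, map_sub, map_mul, map_pow, map_pow, ← heq, map_ofNat]
    ring
  have hk : ∀ c : k, algebraMap k K c = ι (algebraMap k (RatFunc k) c) := fun c =>
    IsScalarTower.algebraMap_apply k (RatFunc k) K c
  have hlin : ι (algebraMap k (RatFunc k) c₁ + 2 * a) * z +
      ι (algebraMap k (RatFunc k) c₀ - (a ^ 2 - b ^ 2 * φ f)) = 0 := by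
    rw [map_add, map_sub, ← hk, ← hk]
    rw [Algebra.smul_def, Algebra.smul_def, mul_one, hrel] at hroot
    linear_combination hroot
  have hα : algebraMap k (RatFunc k) c₁ + 2 * a = 0 := by
    by_contra hα
    apply hzF
    refine ⟨-(algebraMap k (RatFunc k) c₀ - (a ^ 2 - b ^ 2 * φ f)) /
      (algebraMap k (RatFunc k) c₁ + 2 * a), ?_⟩
    have hα' : ι (algebraMap k (RatFunc k) c₁ + 2 * a) ≠ 0 := by
      rwa [Ne, map_eq_zero_iff _ hιinj]
    rw [map_div₀, map_neg, eq_comm, eq_div_iff hα']
    linear_combination hlin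
  have hβ : algebraMap k (RatFunc k) c₀ - (a ^ 2 - b ^ 2 * φ f) = 0 := by
    rw [hα, map_zero, zero_mul, zero_add] at hlin
    exact (map_eq_zero_iff _ hιinj).1 hlin
  have h2k : (2 : k) ≠ 0 := Ring.two_ne_zero h2
  have ha : a = algebraMap k (RatFunc k) (-c₁ / 2) := by
    have h2F : (2 : RatFunc k) ≠ 0 := by
      rw [← map_ofNat (algebraMap k (RatFunc k)) 2, Ne,
        map_eq_zero_iff _ (algebraMap k (RatFunc k)).injective]
      exact h2k
    rw [map_div₀, map_neg, map_ofNat, eq_div_iff h2F]
    linear_combination hα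
  have hconst : φ f * b ^ 2 = algebraMap k (RatFunc k) ((-c₁ / 2) ^ 2 - c₀) := by
    rw [map_sub, map_pow, ← ha]
    linear_combination hβ
  exact mul_sq_ne_const hf hd b hb0 _ hconst

end quad

section reduction

variable {k K : Type*} [Field k] [Field K] [Algebra k K] {x : K} (hx : Transcendental k x)

/-- `k(X) → K`, `X ↦ x` -/
noncomputable def ratHom : RatFunc k →ₐ[k] K :=
  (IntermediateField.val _).comp (RatFunc.algEquivOfTranscendental x hx).toAlgHom

lemma ratHom_poly (g : k[X]) : ratHom hx (algebraMap k[X] (RatFunc k) g) = aeval x g := by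
  change ((RatFunc.algEquivOfTranscendental x hx (algebraMap k[X] (RatFunc k) g) :
    IntermediateField.adjoin k {x}) : K) = _
  rw [RatFunc.algEquivOfTranscendental_algebraMap, IntermediateField.AdjoinSimple.coe_aeval_gen_apply]

lemma ratHom_X : ratHom hx RatFunc.X = x := by
  rw [← RatFunc.algebraMap_X, ratHom_poly, aeval_X]

include hx in
/-- reduction of `K = k(x, y)`, `y² = f(x)` to a quadratic extension of `k(X)` -/
theorem exists_ratAlgebra {y : K} (hxy : IntermediateField.adjoin k ({x, y} : Set K) = ⊤)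
    {f : k[X]} (hf : Squarefree f) (hd : 1 ≤ f.natDegree) (heq : y ^ 2 = aeval x f) :
    ∃ (_ : Algebra (RatFunc k) K), IsScalarTower k (RatFunc k) K ∧
      Module.finrank (RatFunc k) K = 2 ∧ algebraMap (RatFunc k) K RatFunc.X = x ∧
      y ^ 2 = algebraMap (RatFunc k) K (algebraMap k[X] (RatFunc k) f) := by
  letI : Algebra (RatFunc k) K := (ratHom hx).toRingHom.toAlgebra
  haveI : IsScalarTower k (RatFunc k) K :=
    IsScalarTower.of_algebraMap_eq (fun c => ((ratHom hx).commutes c).symm)
  have heq' : y ^ 2 = algebraMap (RatFunc k) K (algebraMap k[X] (RatFunc k) f) := by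
    rw [heq]; exact (ratHom_poly hx f).symm
  refine ⟨inferInstance, inferInstance, ?_, ratHom_X hx, heq'⟩
  have hy := notMem_range_of_sq hf hd heq'
  have hroot : aeval y (X ^ 2 - C (algebraMap k[X] (RatFunc k) f) : (RatFunc k)[X]) = 0 := by
    rw [map_sub, map_pow, aeval_X, aeval_C, heq', sub_self]
  have hint : IsIntegral (RatFunc k) y := ⟨_, monic_X_pow_sub_C _ two_ne_zero, hroot⟩
  have hnd : (minpoly (RatFunc k) y).natDegree = 2 := by
    have h1 : (minpoly (RatFunc k) y).natDegree ≤ 2 := by
      have := natDegree_le_of_dvd (minpoly.dvd (RatFunc k) y hroot)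
        (monic_X_pow_sub_C _ two_ne_zero).ne_zero
      rwa [natDegree_X_pow_sub_C] at this
    have h3 := minpoly.natDegree_pos hint
    have h4 : (minpoly (RatFunc k) y).natDegree ≠ 1 := by
      intro h
      exact hy (minpoly.natDegree_eq_one_iff.1 h)
    omega
  have htop : IntermediateField.adjoin (RatFunc k) ({y} : Set K) = ⊤ := by
    rw [← IntermediateField.restrictScalars_eq_top_iff (K := k), eq_top_iff, ← hxy,
      IntermediateField.adjoin_le_iff]
    rintro w (rfl | rfl)
    · have : w = algebraMap (RatFunc k) K RatFunc.X := (ratHom_X hx).symm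
      rw [this]
      exact (IntermediateField.adjoin (RatFunc k) ({y} : Set K)).algebraMap_mem RatFunc.X
    · exact IntermediateField.mem_adjoin_simple_self (RatFunc k) w
  rw [← IntermediateField.finrank_top', ← htop, IntermediateField.adjoin.finrank hint, hnd]

include hx in
/-- `K = k(x, y)`, `y² = f(x)`, `f` squarefree of positive degree, `char ≠ 2`, is a function
field with constant field `k` -/
theorem isFunctionField_of_sq (h2 : ringChar k ≠ 2) {y : K}
    (hxy : IntermediateField.adjoin k ({x, y} : Set K) = ⊤)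
    {f : k[X]} (hf : Squarefree f) (hd : 1 ≤ f.natDegree) (heq : y ^ 2 = aeval x f) :
    IsFunctionField k K := by
  obtain ⟨alg, htower, hdeg, -, heq'⟩ := exists_ratAlgebra hx hxy hf hd heq
  letI := alg
  haveI := htower
  haveI := QL.finiteDimensional_of_finrank hdeg
  have h1 : IsFF1 k K := (isFunctionField (k := k)).isFF1.of_finite
  have h3 := algClosed_of_sq h2 hdeg hf hd heq'
  exact ⟨h1, h3⟩

end reduction

end Groth.Agent.H7.RF
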