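import Groth.Agent.Lib.Helper7.RF2
import Groth.Agent.Lib.Helper7.QL2
import Groth.Agent.Lib.Helper5.FunFld.Weil2

/-! Hyperelliptic fields `y² = f(x)`: the genus (helper7). -/

set_option autoImplicit false
set_option linter.unusedSectionVars false

namespace Groth.Agent.H7.RF

open FunFld WithZero Polynomial

section ratfunc

variable {k : Type*} [Field k]

local notation "φ" => algebraMap k[X] (RatFunc k)

theorem eq_of_pole {P P' : Place k (RatFunc k)} (h : 1 < P.1 RatFunc.X) (h' : 1 < P'.1 RatFunc.X) :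
    P = P' := by
  apply Place.ext'
  intro t
  rcases eq_or_ne t 0 with rfl | ht
  · simp
  have hnum : t.num ≠ 0 := RatFunc.num_ne_zero ht
  have hden : t.denom ≠ 0 := RatFunc.denom_ne_zero t
  rw [← RatFunc.num_div_denom t, map_div₀, map_div₀, v_poly_eq_pow P h hnum,
    v_poly_eq_pow P h hden, v_poly_eq_pow P' h' hnum, v_poly_eq_pow P' h' hden,
    v_X_of_pole P h, v_X_of_pole P' h']

theorem X_notMem_range : (RatFunc.X : RatFunc k) ∉ Set.range (algebraMap k (RatFunc k)) := by
  rw [← RatFunc.algebraMap_X]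
  exact poly_notMem_range irreducible_X

theorem exists_pole : ∃ P : Place k (RatFunc k), 1 < P.1 RatFunc.X := by
  obtain ⟨P, hP⟩ := exists_place_ord_neg isFunctionField (X_notMem_range (k := k))
  refine ⟨P, ?_⟩
  rw [← not_le, P.v_le_one_iff RatFunc.X_ne_zero]
  omega

/-- if `t² f` is integral at all finite places, `f` squarefree, then `t` is a polynomial -/
theorem exists_poly_of_sq_mul {f : k[X]} (hf : Squarefree f) (t : RatFunc k)
    (h : ∀ P : Place k (RatFunc k), P.1 RatFunc.X ≤ 1 → P.1 (t ^ 2 * φ f) ≤ 1) :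
    ∃ g : k[X], t = φ g := by
  rcases eq_or_ne t 0 with rfl | ht
  · exact ⟨0, by simp⟩
  have hnum : t.num ≠ 0 := RatFunc.num_ne_zero ht
  have hden : t.denom ≠ 0 := RatFunc.denom_ne_zero t
  by_cases hu : IsUnit t.denom
  · have h1 : t.denom = 1 := (RatFunc.monic_denom t).eq_one_of_isUnit hu
    refine ⟨t.num, ?_⟩
    conv_lhs => rw [← RatFunc.num_div_denom t, h1, map_one, _root_.div_one]
  exfalso
  obtain ⟨p, hp, hpd⟩ := WfDvdMonoid.exists_irreducible_factor hu hden
  obtain ⟨P, hP⟩ := exists_place_irreducible hp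
  have hX := v_X_le_one_of_lt P hp.ne_zero hP
  have hpn : ¬ p ∣ t.num := by
    intro hpn
    have hcop := RatFunc.isCoprime_num_denom t
    exact hp.not_isUnit (hcop.isUnit_of_dvd' hpn hpd)
  have h1 : P.ord (φ t.num) = 0 :=
    (P.v_eq_one_iff (RatFunc.algebraMap_ne_zero hnum)).1 (v_poly_eq_one_of_not_dvd P hX hp hP hpn)
  have h2 : 0 < P.ord (φ t.denom) :=
    (P.v_lt_one_iff (RatFunc.algebraMap_ne_zero hden)).1 (v_lt_of_dvd P hX hpd hP)
  have hf0 : φ f ≠ 0 := RatFunc.algebraMap_ne_zero hf.ne_zero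
  have h3 : P.ord (φ f) ≤ 1 := by
    by_cases hfv : P.1 (φ f) < 1
    · exact (ord_squarefree P hX hf hfv).le
    · have : P.1 (φ f) = 1 := le_antisymm (v_poly_le_one P hX f) (not_lt.1 hfv)
      rw [(P.v_eq_one_iff hf0).1 this]
      norm_num
  have h4 := (P.v_le_one_iff (mul_ne_zero (pow_ne_zero 2 ht) hf0)).1 (h P hX)
  rw [P.ord_mul (pow_ne_zero 2 ht) hf0, P.ord_pow] at h4
  have h5 : P.ord t = P.ord (φ t.num) - P.ord (φ t.denom) := by
    conv_lhs => rw [← RatFunc.num_div_denom t]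
    exact P.ord_div (RatFunc.algebraMap_ne_zero hnum) (RatFunc.algebraMap_ne_zero hden)
  rw [h5, h1] at h4
  push_cast at h4
  omega

theorem exists_poly_of_integral (t : RatFunc k)
    (h : ∀ P : Place k (RatFunc k), P.1 RatFunc.X ≤ 1 → P.1 t ≤ 1) : ∃ g : k[X], t = φ g := by
  apply exists_poly_of_sq_mul (f := 1) squarefree_one t
  intro P hP
  rw [map_one, mul_one, map_pow]
  exact pow_le_one' (h P hP) 2

/-- `L(m P∞)` is the space of polynomials of degree `≤ m` -/
theorem mem_L_single_pole_iff {Pinf : Place k (RatFunc k)} (hinf : 1 < Pinf.1 RatFunc.X) (m : ℕ)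
    (t : RatFunc k) :
    t ∈ L (Finsupp.single Pinf (m : ℤ) : Divisor k (RatFunc k)) ↔
      ∃ g : k[X], g ∈ degreeLT k (m + 1) ∧ t = φ g := by
  classical
  rw [mem_L]
  constructor
  · intro h
    obtain ⟨g, rfl⟩ := exists_poly_of_integral t (fun P hP => by
      have hne : P ≠ Pinf := by
        rintro rfl
        exact absurd hinf (not_lt.2 hP)
      have := h P
      rwa [Finsupp.single_eq_of_ne hne, exp_zero] at this)
    refine ⟨g, ?_, rfl⟩
    rw [mem_degreeLT]
    rcases eq_or_ne g 0 with rfl | hg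
    · rw [degree_zero]; exact WithBot.bot_lt_coe _
    have h1 := h Pinf
    rw [Finsupp.single_eq_same, v_poly_eq_pow Pinf hinf hg, v_X_of_pole Pinf hinf, ← exp_nsmul,
      exp_le_exp] at h1
    rw [degree_eq_natDegree hg]
    have : g.natDegree ≤ m := by
      simp only [nsmul_eq_mul, mul_one] at h1
      exact_mod_cast h1
    exact_mod_cast Nat.lt_succ_of_le this
  · rintro ⟨g, hg, rfl⟩ P
    by_cases hP : P = Pinf
    · subst hP
      rw [Finsupp.single_eq_same]
      rcases eq_or_ne g 0 with rfl | hg0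
      · simp
      rw [v_poly_eq_pow P hinf hg0, v_X_of_pole P hinf, ← exp_nsmul, exp_le_exp]
      rw [mem_degreeLT, degree_eq_natDegree hg0] at hg
      have : g.natDegree < m + 1 := by exact_mod_cast hg
      simp only [nsmul_eq_mul, mul_one]
      exact_mod_cast Nat.le_of_lt_succ this
    · rw [Finsupp.single_eq_of_ne hP, exp_zero]
      apply v_poly_le_one
      by_contra hX
      exact hP (eq_of_pole (not_le.1 hX) hinf)

end ratfunc

section quad

variable {k K : Type*} [Field k] [Field K] [Algebra k K] [Algebra (RatFunc k) K]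
  [IsScalarTower k (RatFunc k) K]

local notation "φ" => algebraMap k[X] (RatFunc k)
local notation "ι" => algebraMap (RatFunc k) K

/-- `D n = n · conorm(P∞)` -/
noncomputable def Dinf (K : Type*) [Field K] [Algebra k K] [Algebra (RatFunc k) K]
    (Pinf : Place k (RatFunc k)) (n : ℕ) : Divisor k K :=
  conorm K (Finsupp.single Pinf (n : ℤ))

variable (hdeg : Module.finrank (RatFunc k) K = 2) {Pinf : Place k (RatFunc k)}

include hdeg in
lemma Dinf_two_mul (n : ℕ) (Q : Place k K) : Dinf K Pinf (2 * n) Q = 2 * Dinf K Pinf n Q := by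
  classical
  haveI := QL.finiteDimensional_of_finrank hdeg
  obtain ⟨P, e, he⟩ := exists_isOverWith (isFunctionField (k := k)).isFF1 Q
  rw [Dinf, Dinf, conorm_apply (isFunctionField (k := k)).isFF1 _ he,
    conorm_apply (isFunctionField (k := k)).isFF1 _ he, Finsupp.single_apply, Finsupp.single_apply]
  split_ifs
  · push_cast; ring
  · ring

include hdeg in
lemma sq_mem_Dinf_iff (n : ℕ) (z : K) :
    z ^ 2 ∈ L (Dinf K Pinf (2 * n)) ↔ z ∈ L (Dinf K Pinf n) := by
  rw [mem_L, mem_L]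
  refine forall_congr' (fun Q => ?_)
  rw [Dinf_two_mul hdeg]
  rcases eq_or_ne z 0 with rfl | hz
  · simp
  rw [map_pow, Q.v_eq_exp_neg_ord hz, ← exp_nsmul, exp_le_exp, exp_le_exp, nsmul_eq_mul]
  push_cast
  constructor <;> intro h <;> linarith

include hdeg in
lemma poly_mem_Dinf_iff (n : ℕ) (t : RatFunc k) :
    ι t ∈ L (Dinf K Pinf n) ↔
      t ∈ L (Finsupp.single Pinf (n : ℤ) : Divisor k (RatFunc k)) := by
  haveI := QL.finiteDimensional_of_finrank hdeg
  exact QL.algebraMap_mem_L_conorm_iff isFunctionField _ t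

variable {y : K} {f : k[X]}

include hdeg in
theorem mem_Dinf_of_poly (hf : Squarefree f) (hd : 1 ≤ f.natDegree) (hyf : y ^ 2 = ι (φ f))
    (hinf : 1 < Pinf.1 RatFunc.X) (n : ℕ) {a b : k[X]} (ha : a ∈ degreeLT k (n + 1))
    (hb : b = 0 ∨ 2 * b.natDegree + f.natDegree ≤ 2 * n) :
    ι (φ a) + ι (φ b) * y ∈ L (Dinf K Pinf n) := by
  refine Submodule.add_mem _ ?_ ?_
  · rw [poly_mem_Dinf_iff hdeg, mem_L_single_pole_iff hinf]
    exact ⟨a, ha, rfl⟩
  · rw [← sq_mem_Dinf_iff hdeg, mul_pow, hyf, ← map_pow, ← map_mul, ← map_pow, ← map_mul,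
      poly_mem_Dinf_iff hdeg, mem_L_single_pole_iff hinf]
    refine ⟨b ^ 2 * f, ?_, rfl⟩
    rw [mem_degreeLT]
    rcases hb with rfl | hb
    · rw [zero_pow two_ne_zero, zero_mul, degree_zero]; exact WithBot.bot_lt_coe _
    · rcases eq_or_ne b 0 with rfl | hb0
      · rw [zero_pow two_ne_zero, zero_mul, degree_zero]; exact WithBot.bot_lt_coe _
      have hne : b ^ 2 * f ≠ 0 := mul_ne_zero (pow_ne_zero 2 hb0) hf.ne_zero
      rw [degree_eq_natDegree hne, natDegree_mul (pow_ne_zero 2 hb0) hf.ne_zero, natDegree_pow]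
      have : 2 * b.natDegree + f.natDegree < 2 * n + 1 := by omega
      exact_mod_cast this

include hdeg in
theorem exists_poly_of_mem_Dinf (hf : Squarefree f) (hd : 1 ≤ f.natDegree)
    (hyf : y ^ 2 = ι (φ f)) (hinf : 1 < Pinf.1 RatFunc.X) (h2 : ringChar k ≠ 2) (n : ℕ) {z : K}
    (hz : z ∈ L (Dinf K Pinf n)) :
    ∃ a b : k[X], a ∈ degreeLT k (n + 1) ∧ (b = 0 ∨ 2 * b.natDegree + f.natDegree ≤ 2 * n) ∧
      z = ι (φ a) + ι (φ b) * y := by
  haveI := QL.finiteDimensional_of_finrank hdeg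
  have hy := notMem_range_of_sq hf hd hyf
  obtain ⟨σ, hσ⟩ := QL.exists_involution hdeg hy hyf
  obtain ⟨a', b', hab⟩ := QL.exists_repr hdeg hy z
  have hσz : σ z = ι a' - ι b' * y := by
    rw [hab, map_add, map_mul, σ.commutes, σ.commutes, hσ]
    ring
  have hσmem : σ z ∈ L (Dinf K Pinf n) :=
    QL.conj_mem_L_conorm (isFunctionField (k := k)).isFF1 _ σ hz
  have h2k : (2 : k) ≠ 0 := Ring.two_ne_zero h2
  have h2K : (2 : K) ≠ 0 := by
    rw [← map_ofNat (algebraMap k K) 2, Ne, map_eq_zero_iff _ (algebraMap k K).injective]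
    exact h2k
  have hinv : algebraMap k K (2⁻¹ : k) = (2 : K)⁻¹ := by
    rw [map_inv₀, map_ofNat]
  have ha'mem : ι a' ∈ L (Dinf K Pinf n) := by
    have h1 := Submodule.smul_mem _ (2⁻¹ : k) (Submodule.add_mem _ hz hσmem)
    have h3 : (2⁻¹ : k) • (z + σ z) = ι a' := by
      rw [Algebra.smul_def, hinv, hσz, hab]
      field_simp
      ring
    rwa [h3] at h1
  have hb'mem : ι b' * y ∈ L (Dinf K Pinf n) := by
    have h1 := Submodule.smul_mem _ (2⁻¹ : k) (Submodule.sub_mem _ hz hσmem)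
    have h3 : (2⁻¹ : k) • (z - σ z) = ι b' * y := by
      rw [Algebra.smul_def, hinv, hσz, hab]
      field_simp
      ring
    rwa [h3] at h1
  rw [poly_mem_Dinf_iff hdeg, mem_L_single_pole_iff hinf] at ha'mem
  obtain ⟨a, ha, rfl⟩ := ha'mem
  rw [← sq_mem_Dinf_iff hdeg, mul_pow, hyf, ← map_pow, ← map_mul, poly_mem_Dinf_iff hdeg] at hb'mem
  have hb'mem' := hb'mem
  rw [mem_L_single_pole_iff hinf] at hb'mem'
  obtain ⟨c, hc, hceq⟩ := hb'mem'
  obtain ⟨b, rfl⟩ := exists_poly_of_sq_mul hf b' (fun P hP => by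
    classical
    have hne : P ≠ Pinf := by
      rintro rfl
      exact absurd hinf (not_lt.2 hP)
    have := (mem_L.1 hb'mem) P
    rwa [Finsupp.single_eq_of_ne hne, exp_zero] at this)
  refine ⟨a, b, ha, ?_, hab⟩
  rw [← map_pow, ← map_mul] at hceq
  have hceq' : b ^ 2 * f = c := RatFunc.algebraMap_injective k hceq
  rcases eq_or_ne b 0 with hb0 | hb0
  · exact Or.inl hb0
  right
  have hne : b ^ 2 * f ≠ 0 := mul_ne_zero (pow_ne_zero 2 hb0) hf.ne_zero
  rw [mem_degreeLT, ← hceq', degree_eq_natDegree hne,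
    natDegree_mul (pow_ne_zero 2 hb0) hf.ne_zero, natDegree_pow] at hc
  have : 2 * b.natDegree + f.natDegree < 2 * n + 1 := by exact_mod_cast hc
  omega

omit [Algebra k K] [Algebra (RatFunc k) K] [IsScalarTower k (RatFunc k) K] in
lemma mem_degreeLT_iff' {b : k[X]} {m : ℕ} : b ∈ degreeLT k m ↔ b = 0 ∨ b.natDegree < m := by
  rw [mem_degreeLT]
  rcases eq_or_ne b 0 with rfl | hb
  · simp only [degree_zero, true_or, iff_true]
    exact WithBot.bot_lt_coe _
  · rw [degree_eq_natDegree hb]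
    constructor
    · intro h
      exact Or.inr (by exact_mod_cast h)
    · rintro (h | h)
      · exact absurd h hb
      · exact_mod_cast h

include hdeg in
theorem finrank_L_Dinf (hf : Squarefree f) (hd : 1 ≤ f.natDegree)
    (hyf : y ^ 2 = ι (φ f)) (hinf : 1 < Pinf.1 RatFunc.X) (h2 : ringChar k ≠ 2) (n : ℕ)
    (hn : (f.natDegree + 1) / 2 ≤ n) :
    Module.finrank k (L (Dinf K Pinf n)) = (n + 1) + (n + 1 - (f.natDegree + 1) / 2) := by
  set c := (f.natDegree + 1) / 2 with hc
  set x : K := ι RatFunc.X with hxdef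
  have hx : ∀ a : k[X], aeval x a = ι (φ a) := fun a => by
    rw [hxdef, aeval_algebraMap_apply, RatFunc.aeval_X_left_eq_algebraMap]
  have hy := notMem_range_of_sq hf hd hyf
  let f₁ : degreeLT k (n + 1) →ₗ[k] K := (aeval x).toLinearMap ∘ₗ (degreeLT k (n + 1)).subtype
  let f₂ : degreeLT k (n + 1 - c) →ₗ[k] K :=
    (LinearMap.mulRight k y) ∘ₗ (aeval x).toLinearMap ∘ₗ (degreeLT k (n + 1 - c)).subtype
  let Φ : (degreeLT k (n + 1) × degreeLT k (n + 1 - c)) →ₗ[k] K := f₁.coprod f₂
  have hΦ : ∀ p : degreeLT k (n + 1) × degreeLT k (n + 1 - c),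
      Φ p = ι (φ (p.1 : k[X])) + ι (φ (p.2 : k[X])) * y := fun p => by
    simp only [Φ, f₁, f₂, LinearMap.coprod_apply, LinearMap.coe_comp, Function.comp_apply,
      Submodule.subtype_apply, AlgHom.toLinearMap_apply, LinearMap.mulRight_apply, hx]
  have hιinj : Function.Injective ι := (algebraMap (RatFunc k) K).injective
  have hinj : Function.Injective Φ := by
    rw [← LinearMap.ker_eq_bot, LinearMap.ker_eq_bot']
    rintro ⟨a, b⟩ h0
    rw [hΦ] at h0
    have hb0 : (b : k[X]) = 0 := by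
      by_contra hb0
      apply hy
      have hb' : ι (φ (b : k[X])) ≠ 0 := by
        rw [Ne, map_eq_zero_iff _ hιinj]
        exact RatFunc.algebraMap_ne_zero hb0
      refine ⟨-(φ (a : k[X])) / φ (b : k[X]), ?_⟩
      rw [map_div₀, map_neg, eq_comm, eq_div_iff hb']
      linear_combination h0
    have ha0 : (a : k[X]) = 0 := by
      simp only [hb0, map_zero, zero_mul, add_zero] at h0
      exact RatFunc.algebraMap_injective k ((map_eq_zero_iff _ hιinj).1 h0 |>.trans (map_zero _).symm)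
    exact Prod.ext (Subtype.ext ha0) (Subtype.ext hb0)
  have hrange : LinearMap.range Φ = L (Dinf K Pinf n) := by
    ext z
    constructor
    · rintro ⟨⟨a, b⟩, rfl⟩
      rw [hΦ]
      refine mem_Dinf_of_poly hdeg hf hd hyf hinf n a.2 ?_
      dsimp only
      rcases mem_degreeLT_iff'.1 b.2 with h | h
      · exact Or.inl h
      · right
        omega
    · intro hz
      obtain ⟨a, b, ha, hb, rfl⟩ := exists_poly_of_mem_Dinf hdeg hf hd hyf hinf h2 n hz
      have hb' : b ∈ degreeLT k (n + 1 - c) := by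
        rw [mem_degreeLT_iff']
        rcases hb with h | h
        · exact Or.inl h
        · right
          omega
      exact ⟨(⟨a, ha⟩, ⟨b, hb'⟩), hΦ _⟩
  haveI : Module.Finite k (degreeLT k (n + 1)) :=
    Module.Finite.equiv (degreeLTEquiv k (n + 1)).symm
  haveI : Module.Finite k (degreeLT k (n + 1 - c)) :=
    Module.Finite.equiv (degreeLTEquiv k (n + 1 - c)).symm
  rw [← hrange, LinearMap.finrank_range_of_inj hinj, Module.finrank_prod,
    LinearEquiv.finrank_eq (degreeLTEquiv k (n + 1)),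
    LinearEquiv.finrank_eq (degreeLTEquiv k (n + 1 - c))]
  simp

include hdeg in
/-- the genus of `y² = f(x)` -/
theorem genus_of_sq (hK : IsFunctionField k K) (h2 : ringChar k ≠ 2) (hf : Squarefree f)
    (hd : 1 ≤ f.natDegree) (hyf : y ^ 2 = ι (φ f)) :
    genus k K = (f.natDegree - 1) / 2 := by
  haveI := QL.finiteDimensional_of_finrank hdeg
  obtain ⟨Pinf, hinf⟩ := exists_pole (k := k)
  set c := (f.natDegree + 1) / 2 with hc
  set n := genus k K + c + 1 with hn
  have hfin := finrank_L_Dinf hdeg hf hd hyf hinf h2 n (by omega)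
  have hdegD : (Dinf K Pinf n).deg = 2 * n := by
    rw [Dinf, deg_conorm isFunctionField, Divisor.deg_single, hdeg, deg_of_pole Pinf hinf]
    push_cast
    ring
  have hell := ell_eq_of_large_deg hK (D := Dinf K Pinf n) (by rw [hdegD]; push_cast; omega)
  rw [hdegD, ell, hfin] at hell
  push_cast at hell
  omega

end quad

end Groth.Agent.H7.RF
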