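import Groth.Agent.Lib.Helper7.RF3

/-! Hyperelliptic fields `y² = f(x)`: ramification at every place (helper7). -/

set_option autoImplicit false
set_option linter.unusedSectionVars false

namespace Groth.Agent.H7.RF

open FunFld WithZero Polynomial

section ratfunc

variable {k : Type*} [Field k]

local notation "φ" => algebraMap k[X] (RatFunc k)

/-- the center of a finite place -/
theorem exists_center (P : Place k (RatFunc k)) (hX : P.1 RatFunc.X ≤ 1) :
    ∃ p : k[X], Irreducible p ∧ P.1 (φ p) < 1 := by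
  obtain ⟨t, ht⟩ := P.exists_uniformizer
  have ht0 : t ≠ 0 := by
    rintro rfl
    rw [map_zero] at ht
    exact exp_ne_zero ht.symm
  have hnum : t.num ≠ 0 := RatFunc.num_ne_zero ht0
  have hden : φ t.denom ≠ 0 := RatFunc.algebraMap_ne_zero (RatFunc.denom_ne_zero t)
  have hv : P.1 (φ t.num) < 1 := by
    have h1 : φ t.num = t * φ t.denom := by
      rw [eq_comm, ← eq_div_iff hden]
      exact (RatFunc.num_div_denom t).symm
    rw [h1, map_mul, ht]
    calc exp (-1 : ℤ) * P.1 (φ t.denom) ≤ exp (-1 : ℤ) * 1 :=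
          mul_le_mul' le_rfl (v_poly_le_one P hX _)
      _ < 1 := by rw [mul_one, ← exp_zero, exp_lt_exp]; norm_num
  obtain ⟨p, hp, -, hpv⟩ := exists_irreducible_of_lt P hX t.num hnum hv
  exact ⟨p, hp, hpv⟩

omit [Field k] in
lemma v_four {k : Type*} [Field k] (h2 : ringChar k ≠ 2) (P : Place k (RatFunc k)) :
    P.1 (4 : RatFunc k) = 1 := by
  have h4' : (4 : RatFunc k) = algebraMap k (RatFunc k) 4 := (map_ofNat _ 4).symm
  rw [h4']
  apply P.v_algebraMap
  have h2' := Ring.two_ne_zero h2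
  intro h
  apply h2'
  have h22 : (4 : k) = 2 * 2 := by norm_num
  rw [h22] at h
  exact mul_self_eq_zero.1 h

end ratfunc

section quad

variable {k K : Type*} [Field k] [Field K] [Algebra k K] [Algebra (RatFunc k) K]
  [IsScalarTower k (RatFunc k) K]

local notation "φ" => algebraMap k[X] (RatFunc k)
local notation "ι" => algebraMap (RatFunc k) K

variable (hdeg : Module.finrank (RatFunc k) K = 2) {y : K} {f : k[X]}

include hdeg in
theorem isOverWith_of_finite_unit (h2 : ringChar k ≠ 2) (hf : Squarefree f)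
    (hd : 1 ≤ f.natDegree) (hyf : y ^ 2 = ι (φ f)) {p₀ : Place k (RatFunc k)}
    (hu : p₀.1 (φ f) = 1) {P : Place k K} (hP : IsOver P p₀) : IsOverWith P p₀ 1 := by
  have hy := notMem_range_of_sq hf hd hyf
  refine QL.isOverWith_one_of_disc isFunctionField hdeg hy (b := 0) (c := φ f)
    (by rw [map_zero, zero_mul, add_zero, hyf]) (by simp) hu.le ?_ hP
  rw [zero_pow two_ne_zero, zero_add, map_mul, v_four h2, hu, one_mul]

include hdeg in
theorem isOverWith_of_finite_zero (hf : Squarefree f) (hyf : y ^ 2 = ι (φ f))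
    {p₀ : Place k (RatFunc k)} (hX : p₀.1 RatFunc.X ≤ 1) (hz : p₀.1 (φ f) < 1) {P : Place k K}
    (hP : IsOver P p₀) : IsOverWith P p₀ 2 :=
  QL.isOverWith_two_of_sq isFunctionField hdeg hyf
    (by rw [ord_squarefree p₀ hX hf hz]; exact odd_one) hP

include hdeg in
theorem isOverWith_of_pole_odd (hf : Squarefree f) (hyf : y ^ 2 = ι (φ f))
    {p₀ : Place k (RatFunc k)} (hinf : 1 < p₀.1 RatFunc.X) (hodd : Odd f.natDegree)
    {P : Place k K} (hP : IsOver P p₀) : IsOverWith P p₀ 2 := by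
  refine QL.isOverWith_two_of_sq isFunctionField hdeg hyf ?_ hP
  rw [ord_poly_of_pole p₀ hinf hf.ne_zero, ord_X_of_pole p₀ hinf, mul_neg, mul_one]
  exact ((Int.odd_coe_nat _).2 hodd).neg

include hdeg in
theorem isOverWith_of_pole_even (h2 : ringChar k ≠ 2) (hf : Squarefree f)
    (hd : 1 ≤ f.natDegree) (hyf : y ^ 2 = ι (φ f))
    {p₀ : Place k (RatFunc k)} (hinf : 1 < p₀.1 RatFunc.X) (heven : Even f.natDegree)
    {P : Place k K} (hP : IsOver P p₀) : IsOverWith P p₀ 1 := by
  obtain ⟨m, hm⟩ := heven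
  have hX0 : (RatFunc.X : RatFunc k) ≠ 0 := RatFunc.X_ne_zero
  have hf0 := hf.ne_zero
  have hordX := ord_X_of_pole p₀ hinf
  have hordf : p₀.ord (φ f) = -(f.natDegree : ℤ) := by
    rw [ord_poly_of_pole p₀ hinf hf0, hordX]
    ring
  have hy := notMem_range_of_sq hf hd hyf
  have hXm : ι ((RatFunc.X : RatFunc k) ^ m) ≠ 0 := by
    rw [Ne, map_eq_zero_iff _ (algebraMap (RatFunc k) K).injective]
    exact pow_ne_zero _ hX0
  have hy' : y / ι ((RatFunc.X : RatFunc k) ^ m) ∉ Set.range ι := by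
    rintro ⟨w, hw⟩
    apply hy
    refine ⟨w * (RatFunc.X : RatFunc k) ^ m, ?_⟩
    rw [map_mul, hw]
    field_simp
  have heq' : (y / ι ((RatFunc.X : RatFunc k) ^ m)) ^ 2 +
      ι 0 * (y / ι ((RatFunc.X : RatFunc k) ^ m)) =
      ι (φ f / ((RatFunc.X : RatFunc k) ^ m) ^ 2) := by
    rw [map_zero, zero_mul, add_zero, _root_.div_pow, hyf, ← map_pow, ← map_div₀]
  have hu1 : p₀.1 (φ f / ((RatFunc.X : RatFunc k) ^ m) ^ 2) = 1 := by
    rw [p₀.v_eq_one_iff (div_ne_zero (RatFunc.algebraMap_ne_zero hf0)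
      (pow_ne_zero _ (pow_ne_zero _ hX0))), p₀.ord_div (RatFunc.algebraMap_ne_zero hf0)
      (pow_ne_zero _ (pow_ne_zero _ hX0)), hordf, p₀.ord_pow, p₀.ord_pow, hordX, hm]
    push_cast
    ring
  exact QL.isOverWith_one_of_disc isFunctionField hdeg hy' heq' (by simp) hu1.le
    (by rw [zero_pow two_ne_zero, zero_add, map_mul, v_four h2, hu1, one_mul]) hP

end quad

end Groth.Agent.H7.RF
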