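import Mathlib

/-! Analytic lemma for the Riemann hypothesis: bounded power sums force `‖β‖ ≤ 1` (helper7). -/

set_option autoImplicit false

namespace Groth.Agent.H7.RH

open Filter Topology

/-- simultaneous recurrence of finitely many unit complex numbers -/
theorem exists_pow_near_one {n : ℕ} (u : Fin n → ℂ) (hu : ∀ i, ‖u i‖ = 1) (ε : ℝ) (hε : 0 < ε)
    (J : ℕ) : ∃ j, J ≤ j ∧ 1 ≤ j ∧ ∀ i, ‖u i ^ j - 1‖ < ε := by
  let x : ℕ → (Fin n → ℂ) := fun j i => u i ^ j
  have hx : ∀ j, x j ∈ Metric.closedBall (0 : Fin n → ℂ) 1 := by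
    intro j
    rw [mem_closedBall_zero_iff, pi_norm_le_iff_of_nonneg zero_le_one]
    intro i
    simp only [x, norm_pow, hu i, one_pow, le_refl]
  obtain ⟨a, -, φ, hφ, hlim⟩ := (isCompact_closedBall (0 : Fin n → ℂ) 1).tendsto_subseq hx
  rw [Metric.tendsto_atTop] at hlim
  obtain ⟨N, hN⟩ := hlim (ε / 2) (half_pos hε)
  have hmono : ∀ d, φ N + d ≤ φ (N + d) := by
    intro d
    induction d with
    | zero => simp
    | succ d ih =>
      have := hφ (show N + d < N + (d + 1) by omega)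
      omega
  set j := φ (N + (J + 1)) - φ N with hj
  have hjJ : J + 1 ≤ j := by have := hmono (J + 1); omega
  have hle : φ N ≤ φ (N + (J + 1)) := hφ.monotone (by omega)
  refine ⟨j, by omega, by omega, fun i => ?_⟩
  have h1 := hN N le_rfl
  have h2 := hN (N + (J + 1)) (by omega)
  have h3 : dist (x (φ (N + (J + 1)))) (x (φ N)) < ε := by
    calc dist (x (φ (N + (J + 1)))) (x (φ N)) ≤ dist (x (φ (N + (J + 1)))) a + dist a (x (φ N)) :=
          dist_triangle _ _ _
      _ < ε / 2 + ε / 2 := by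
          rw [dist_comm a]
          exact add_lt_add h2 h1
      _ = ε := by ring
  have h4 : dist (x (φ (N + (J + 1))) i) (x (φ N) i) < ε := lt_of_le_of_lt (dist_le_pi_dist _ _ i) h3
  simp only [x, Function.comp] at h4
  rw [dist_eq_norm] at h4
  have h5 : u i ^ φ (N + (J + 1)) - u i ^ φ N = u i ^ φ N * (u i ^ j - 1) := by
    rw [mul_sub, mul_one, ← pow_add, hj, Nat.add_sub_cancel' hle]
  rw [h5, norm_mul, norm_pow, hu i, one_pow, one_mul] at h4
  exact h4

/-- if all power sums of `β` are bounded then every `β i` has norm at most one -/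
theorem norm_le_one_of_bounded_power_sums {n : ℕ} (β : Fin n → ℂ) (C : ℝ)
    (h : ∀ j : ℕ, 1 ≤ j → ‖∑ i, β i ^ j‖ ≤ C) (i₀ : Fin n) : ‖β i₀‖ ≤ 1 := by
  by_contra hcon
  rw [not_le] at hcon
  let u : Fin n → ℂ := fun i => if β i = 0 then 1 else β i / (‖β i‖ : ℂ)
  have hu : ∀ i, ‖u i‖ = 1 := by
    intro i
    simp only [u]
    split_ifs with h0
    · simp
    · rw [norm_div, Complex.norm_real, norm_norm, div_self (norm_ne_zero_iff.2 h0)]
  have hβu : ∀ i, β i = (‖β i‖ : ℂ) * u i := by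
    intro i
    simp only [u]
    split_ifs with h0
    · simp [h0]
    · have : (‖β i‖ : ℂ) ≠ 0 := by exact_mod_cast (norm_ne_zero_iff.2 h0)
      field_simp
  obtain ⟨J, hJ⟩ := pow_unbounded_of_one_lt (2 * C) hcon
  obtain ⟨j, hjJ, hj1, hnear⟩ := exists_pow_near_one u hu (1 / 2) (by norm_num) J
  have hre : ∀ i, (1 / 2 : ℝ) ≤ (u i ^ j).re := by
    intro i
    have h1 : |(u i ^ j - 1).re| ≤ ‖u i ^ j - 1‖ := Complex.abs_re_le_norm _
    have h2 := (hnear i)
    rw [Complex.sub_re, Complex.one_re] at h1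
    have := abs_le.1 (h1.trans h2.le)
    linarith [this.1]
  have hsum : (∑ i, β i ^ j).re = ∑ i, ‖β i‖ ^ j * (u i ^ j).re := by
    rw [Complex.re_sum]
    refine Finset.sum_congr rfl (fun i _ => ?_)
    conv_lhs => rw [hβu i, mul_pow, ← Complex.ofReal_pow, Complex.re_ofReal_mul]
  have hge : (1 / 2 : ℝ) * ‖β i₀‖ ^ j ≤ (∑ i, β i ^ j).re := by
    rw [hsum]
    have hterm : ∀ i ∈ Finset.univ, (0 : ℝ) ≤ ‖β i‖ ^ j * (u i ^ j).re := fun i _ =>
      mul_nonneg (pow_nonneg (norm_nonneg _) _) (le_trans (by norm_num) (hre i))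
    refine le_trans ?_ (Finset.single_le_sum hterm (Finset.mem_univ i₀))
    rw [mul_comm]
    exact mul_le_mul_of_nonneg_left (hre i₀) (pow_nonneg (norm_nonneg _) _)
  have hle : (∑ i, β i ^ j).re ≤ C := (Complex.re_le_norm _).trans (h j hj1)
  have hpow : ‖β i₀‖ ^ J ≤ ‖β i₀‖ ^ j := pow_le_pow_right₀ hcon.le hjJ
  linarith

end Groth.Agent.H7.RH
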