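import Groth.Agent.Lib.Helper7.RHB

/-! Twisted Bombieri bound, main theorem (helper7). -/

set_option autoImplicit false
set_option linter.unusedSectionVars false

namespace Groth.Agent.H7.RH

open FunFld WithZero

variable {ℓ F : Type*} [Field ℓ] [Field F] [Algebra ℓ F]

lemma deg_sum_single (T : Finset (Place ℓ F)) :
    Divisor.deg (∑ P ∈ T, (Finsupp.single P (1 : ℤ) : Divisor ℓ F)) = ∑ P ∈ T, (P.deg : ℤ) := by
  classical
  induction T using Finset.induction_on with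
  | empty => simp [Divisor.deg_zero]
  | insert a s ha ih =>
    rw [Finset.sum_insert ha, Finset.sum_insert ha, Divisor.deg_add, ih, Divisor.deg_single, one_mul]

open scoped Classical in
lemma sum_single_apply (T : Finset (Place ℓ F)) (Q : Place ℓ F) :
    (∑ P ∈ T, (Finsupp.single P (1 : ℤ) : Divisor ℓ F)) Q = if Q ∈ T then 1 else 0 := by
  rw [Finsupp.finset_sum_apply]
  simp only [Finsupp.single_apply]
  rw [Finset.sum_ite_eq' T Q]

variable [Finite ℓ]

/-- **Twisted Bombieri bound.** -/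
theorem twisted_bombieri (hF : IsFunctionField ℓ F) (τ : F ≃+* F) (q₀ : ℕ)
    (hadd : ∀ x y : F, (x + y) ^ q₀ = x ^ q₀ + y ^ q₀)
    (hτ : ∀ c : ℓ, τ (algebraMap ℓ F c) = algebraMap ℓ F (c ^ (q₀ * q₀)))
    (hq₀ : (genus ℓ F + 1) ^ 2 < q₀)
    (S : Finset (Place ℓ F)) (hS : ∀ P ∈ S, P.deg = 1 ∧ ∀ x, P.1 (τ x) = P.1 x) :
    S.card ≤ q₀ * q₀ + (2 * genus ℓ F + 1) * q₀ := by
  classical
  rcases S.eq_empty_or_nonempty with rfl | ⟨P₀, hP₀S⟩
  · simp
  obtain ⟨hP₀, hfix₀⟩ := hS P₀ hP₀S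
  set g := genus ℓ F with hg
  have hq₀pos : q₀ ≠ 0 := by
    intro h; rw [h] at hq₀; exact absurd hq₀ (Nat.not_lt_zero _)
  set m := q₀ - 1 with hm
  set n := 2 * g + q₀ with hn
  have hτ' : ∀ c : ℓ, ∃ c' : ℓ, τ (algebraMap ℓ F c) = algebraMap ℓ F c' := fun c => ⟨_, hτ c⟩
  obtain ⟨J, u, hJm, hJcard, hu⟩ := exists_nongap_family hF P₀ hP₀ m
  set Dn : Divisor ℓ F := Finsupp.single P₀ (n : ℤ) with hDn
  set N₁ : ℕ := q₀ * m + n with hN₁
  set DN : Divisor ℓ F := Finsupp.single P₀ (N₁ : ℤ) with hDN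
  -- the map
  let Λ : ({j // j ∈ J} → L Dn) → L DN := fun z =>
    ⟨∑ i : {j // j ∈ J}, u i ^ q₀ * τ (z i : F), by
      refine Submodule.sum_mem _ (fun i _ => ?_)
      have h1 := pow_mem_L_single (hu i i.2).1 q₀
      have h2 := map_mem_L_single τ hτ' hfix₀ (z i).2
      have h3 := mul_mem_L_single h1 h2
      refine L_mono (single_mono P₀ ?_) h3
      have := hJm i i.2
      have h4 : (q₀ : ℤ) * ((i : ℕ) : ℤ) ≤ (q₀ : ℤ) * (m : ℤ) :=
        mul_le_mul_of_nonneg_left (by exact_mod_cast this) (by positivity)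
      rw [hN₁]
      push_cast
      linarith⟩
  -- cardinalities
  have hfinDN : Finite (L DN) := by
    have := finiteDimensional_L hF DN
    exact Module.finite_of_finite ℓ
  have hellDn : (ell Dn : ℤ) = (n : ℤ) + 1 - g := by
    have := ell_eq_of_large_deg hF (D := Dn) (by
      rw [hDn, Divisor.deg_single, hP₀, hn]; push_cast; linarith)
    rw [this, hDn, Divisor.deg_single, hP₀]; push_cast; ring
  have hellDN : (ell DN : ℤ) = (N₁ : ℤ) + 1 - g := by
    have := ell_eq_of_large_deg hF (D := DN) (by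
      rw [hDN, Divisor.deg_single, hP₀, hN₁, hn]; push_cast
      have : (0 : ℤ) ≤ (q₀ : ℤ) * (m : ℤ) := by positivity
      linarith)
    rw [this, hDN, Divisor.deg_single, hP₀]; push_cast; ring
  have hm1 : m + 1 = q₀ := by omega
  have hlt : ell DN < ell Dn * J.card := by
    have hq : ((g : ℤ) + 1) ^ 2 < (q₀ : ℤ) := by exact_mod_cast hq₀
    have hJ' : (q₀ : ℤ) ≤ (J.card : ℤ) + g := by
      have : m + 1 ≤ J.card + g := hJcard
      rw [hm1] at this
      exact_mod_cast this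
    have hmz : (m : ℤ) = (q₀ : ℤ) - 1 := by
      have : (m : ℤ) + 1 = (q₀ : ℤ) := by exact_mod_cast hm1
      linarith
    have h1 : (ell DN : ℤ) < (ell Dn : ℤ) * (J.card : ℤ) := by
      rw [hellDn, hellDN, hN₁, hn]
      push_cast
      rw [hmz]
      have h2 : ((g : ℤ) + q₀ + 1) * ((q₀ : ℤ) - g) ≤ ((g : ℤ) + q₀ + 1) * (J.card : ℤ) :=
        mul_le_mul_of_nonneg_left (by linarith) (by positivity)
      nlinarith
    exact_mod_cast h1
  have hcard : Nat.card (L DN) < Nat.card ({j // j ∈ J} → L Dn) := by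
    have hJc : Nat.card {j // j ∈ J} = J.card := by
      rw [Nat.card_eq_fintype_card, Fintype.card_coe]
    rw [Nat.card_fun, Zeta.card_L hF, Zeta.card_L hF, hJc, ← pow_mul]
    exact Nat.pow_lt_pow_right (Finite.one_lt_card) hlt
  obtain ⟨z, z', hne, heq⟩ : ∃ z z', z ≠ z' ∧ Λ z = Λ z' := by
    by_contra hcon
    push Not at hcon
    have hinj : Function.Injective Λ := fun a b hab => by
      by_contra hne
      exact hcon a b hne hab
    exact absurd (Nat.card_le_card_of_injective Λ hinj) (not_le.2 hcard)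
  set w : {j // j ∈ J} → L Dn := z - z' with hw
  have hw0 : w ≠ 0 := sub_ne_zero.2 hne
  have hΛ : ∑ i : {j // j ∈ J}, u i ^ q₀ * τ (w i : F) = 0 := by
    have h1 := congrArg Subtype.val heq
    simp only [Λ] at h1
    have h2 : ∀ i : {j // j ∈ J}, u i ^ q₀ * τ (w i : F) =
        u i ^ q₀ * τ (z i : F) - u i ^ q₀ * τ (z' i : F) := by
      intro i
      rw [hw, Pi.sub_apply, Submodule.coe_sub, map_sub, mul_sub]
    rw [Finset.sum_congr rfl (fun i _ => h2 i), Finset.sum_sub_distrib, h1, sub_self]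
  -- the function
  set f : {j // j ∈ J} → F := fun i => u i * (w i : F) ^ q₀ with hf
  set x : F := ∑ i, f i with hx
  have hv : ∀ i : {j // j ∈ J}, (w i : F) ≠ 0 →
      P₀.1 (f i) = exp (((i : ℕ) : ℤ) + (q₀ : ℤ) * (-(P₀.ord (w i : F)))) := by
    intro i hi
    simp only [hf]
    rw [map_mul, (hu i i.2).2, map_pow, P₀.v_eq_exp_neg_ord hi, ← exp_nsmul, ← exp_add,
      nsmul_eq_mul]
  have hx0 : x ≠ 0 := by
    obtain ⟨i₁, hi₁⟩ : ∃ i, w i ≠ 0 := by
      by_contra hcon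
      push Not at hcon
      exact hw0 (funext hcon)
    have hi₁' : (w i₁ : F) ≠ 0 := fun h => hi₁ (Subtype.ext h)
    set S' : Finset {j // j ∈ J} := Finset.univ.filter (fun i => (w i : F) ≠ 0) with hS'
    have hS'ne : S'.Nonempty := ⟨i₁, by rw [hS', Finset.mem_filter]; exact ⟨Finset.mem_univ _, hi₁'⟩⟩
    obtain ⟨i₀, hi₀S, hmax⟩ := Finset.exists_max_image S' (fun i => P₀.1 (f i)) hS'ne
    have hi₀ : (w i₀ : F) ≠ 0 := by
      rw [hS', Finset.mem_filter] at hi₀S; exact hi₀S.2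
    have hvi₀ : P₀.1 (f i₀) ≠ 0 := by rw [hv i₀ hi₀]; exact exp_ne_zero
    have hdom : P₀.1 x = P₀.1 (f i₀) := by
      apply v_sum_eq_of_dominant' P₀.1 Finset.univ f (Finset.mem_univ i₀) hvi₀
      intro i _ hne
      by_cases hwi : (w i : F) = 0
      · have : f i = 0 := by simp only [hf]; rw [hwi, zero_pow hq₀pos, mul_zero]
        rw [this, map_zero]
        exact zero_lt_iff.2 hvi₀
      · have hiS : i ∈ S' := by rw [hS', Finset.mem_filter]; exact ⟨Finset.mem_univ _, hwi⟩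
        refine lt_of_le_of_ne (hmax i hiS) ?_
        intro heqv
        rw [hv i hwi, hv i₀ hi₀, exp_inj] at heqv
        apply hne
        apply Subtype.ext
        have h1 : ((i : ℕ) : ℤ) - ((i₀ : ℕ) : ℤ) =
            (q₀ : ℤ) * (P₀.ord (w i : F) - P₀.ord (w i₀ : F)) := by linarith
        have h2 : (q₀ : ℤ) ∣ ((i : ℕ) : ℤ) - ((i₀ : ℕ) : ℤ) := ⟨_, h1⟩
        have hb1 := hJm i i.2
        have hb2 := hJm i₀ i₀.2
        have h3 : |((i : ℕ) : ℤ) - ((i₀ : ℕ) : ℤ)| < (q₀ : ℤ) := by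
          rw [abs_lt]
          constructor <;> omega
        have h4 := Int.eq_zero_of_abs_lt_dvd h2 h3
        omega
    intro hx0
    rw [hx0, map_zero] at hdom
    exact hvi₀ hdom.symm
  set N₂ : ℕ := m + q₀ * n with hN₂
  have hxL : x ∈ L (Finsupp.single P₀ (N₂ : ℤ) : Divisor ℓ F) := by
    refine Submodule.sum_mem _ (fun i _ => ?_)
    have h1 := (hu i i.2).1
    have h2 := pow_mem_L_single (w i).2 q₀
    have h3 := mul_mem_L_single h1 h2
    refine L_mono (single_mono P₀ ?_) h3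
    have := hJm i i.2
    rw [hN₂]
    push_cast
    have : ((i : ℕ) : ℤ) ≤ (m : ℤ) := by exact_mod_cast this
    linarith
  -- vanishing at the other fixed places
  have hvan : ∀ P ∈ S, P ≠ P₀ → P.1 x < 1 := by
    intro P hPS hPne
    obtain ⟨hPdeg, hPfix⟩ := hS P hPS
    have hu1 : ∀ i : {j // j ∈ J}, P.1 (u i) ≤ 1 := fun i =>
      ((mem_L_single_iff P₀ _ _).1 (hu i i.2).1).2 P hPne
    have hw1 : ∀ i : {j // j ∈ J}, P.1 (w i : F) ≤ 1 := fun i =>
      ((mem_L_single_iff P₀ _ _).1 (w i).2).2 P hPne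
    have hxq : x ^ q₀ = ∑ i : {j // j ∈ J}, u i ^ q₀ * ((w i : F) ^ (q₀ * q₀) - τ (w i : F)) := by
      have h1 : x ^ q₀ = ∑ i : {j // j ∈ J}, u i ^ q₀ * (w i : F) ^ (q₀ * q₀) := by
        rw [hx, sum_pow_of_add q₀ hadd hq₀pos]
        refine Finset.sum_congr rfl (fun i _ => ?_)
        simp only [hf]
        rw [mul_pow, ← pow_mul]
      have h2 : ∀ i : {j // j ∈ J}, u i ^ q₀ * ((w i : F) ^ (q₀ * q₀) - τ (w i : F)) =
          u i ^ q₀ * (w i : F) ^ (q₀ * q₀) - u i ^ q₀ * τ (w i : F) := fun i => mul_sub _ _ _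
      rw [Finset.sum_congr rfl (fun i _ => h2 i), Finset.sum_sub_distrib, hΛ, sub_zero, h1]
    have hlt1 : P.1 (x ^ q₀) < 1 := by
      rw [hxq]
      refine Valuation.map_sum_lt P.1 one_ne_zero (fun i _ => ?_)
      rw [map_mul, map_pow]
      have ha : P.1 (u i) ^ q₀ ≤ 1 := pow_le_one' (hu1 i) q₀
      have hb := v_pow_sub_map_lt q₀ hadd hq₀pos τ hτ P hPdeg hPfix (hw1 i)
      calc P.1 (u i) ^ q₀ * P.1 ((w i : F) ^ (q₀ * q₀) - τ (w i : F))
          ≤ 1 * P.1 ((w i : F) ^ (q₀ * q₀) - τ (w i : F)) := mul_le_mul' ha le_rfl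
        _ < 1 := by rw [one_mul]; exact hb
    rw [map_pow] at hlt1
    by_contra hcon
    rw [not_lt] at hcon
    exact absurd hlt1 (not_lt.2 (one_le_pow_of_one_le' hcon q₀))
  -- counting zeros
  set T : Finset (Place ℓ F) := S.erase P₀ with hT
  set A : Divisor ℓ F := Finsupp.single P₀ (N₂ : ℤ) - ∑ P ∈ T, Finsupp.single P (1 : ℤ) with hA
  have hxA : x ∈ L A := by
    intro P
    rw [hA, Finsupp.sub_apply, sum_single_apply]
    by_cases hP : P = P₀
    · subst hP
      rw [if_neg (by rw [hT]; exact Finset.notMem_erase _ _), sub_zero, Finsupp.single_eq_same]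
      exact ((mem_L_single_iff _ _ _).1 hxL).1
    · rw [Finsupp.single_eq_of_ne hP]
      by_cases hPT : P ∈ T
      · rw [if_pos hPT]
        have hPS : P ∈ S := Finset.mem_of_mem_erase hPT
        have := hvan P hPS hP
        rw [P.v_lt_one_iff hx0] at this
        rw [P.v_le_exp_iff hx0]
        omega
      · rw [if_neg hPT, sub_zero, exp_zero]
        exact ((mem_L_single_iff _ _ _).1 hxL).2 P hP
  have hdegA : A.deg = (N₂ : ℤ) - (T.card : ℤ) := by
    rw [hA, Divisor.deg_sub, Divisor.deg_single, hP₀, deg_sum_single]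
    have : ∀ P ∈ T, (P.deg : ℤ) = 1 := fun P hP => by
      rw [(hS P (Finset.mem_of_mem_erase hP)).1]; rfl
    rw [Finset.sum_congr rfl this, Finset.sum_const]
    simp
  have hnn : ¬ A.deg < 0 := by
    intro hneg
    have := L_eq_bot_of_deg_neg hF hneg
    rw [this, Submodule.mem_bot] at hxA
    exact hx0 hxA
  rw [hdegA] at hnn
  have hTcard : T.card = S.card - 1 := Finset.card_erase_of_mem hP₀S
  have hSpos : 0 < S.card := Finset.card_pos.2 ⟨P₀, hP₀S⟩
  have h5 : S.card ≤ N₂ + 1 := by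
    have : (T.card : ℤ) ≤ N₂ := by linarith
    have : T.card ≤ N₂ := by exact_mod_cast this
    omega
  have h6 : N₂ + 1 = q₀ * q₀ + (2 * g + 1) * q₀ := by
    rw [hN₂, hn]
    have : m + 1 = q₀ := hm1
    calc m + q₀ * (2 * g + q₀) + 1 = (m + 1) + q₀ * (2 * g + q₀) := by ring
      _ = q₀ + q₀ * (2 * g + q₀) := by rw [this]
      _ = q₀ * q₀ + (2 * g + 1) * q₀ := by ring
  rw [← h6]
  exact h5

end Groth.Agent.H7.RH
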