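import Groth.Agent.Lib.Helper7.ZF

/-! Automorphisms of a constant field extension (helper7). -/

set_option autoImplicit false
set_option linter.unusedSectionVars false

namespace Groth.Agent.H7.RH

open FunFld TensorProduct

section tens

variable {k ℓ K K' : Type*} [Field k] [Field ℓ] [Field K] [Field K'] [Algebra k ℓ] [Algebra k K]
  [Algebra K K'] [Algebra ℓ K'] [Algebra k K'] [IsScalarTower k ℓ K'] [IsScalarTower k K K']
  (h : Function.Bijective (Algebra.TensorProduct.productMap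
      (IsScalarTower.toAlgHom k ℓ K') (IsScalarTower.toAlgHom k K K')))

/-- the constant extension as a tensor product -/
noncomputable def tensEquiv : ℓ ⊗[k] K ≃ₐ[k] K' := AlgEquiv.ofBijective _ h

lemma tensEquiv_tmul (c : ℓ) (x : K) :
    tensEquiv h (c ⊗ₜ x) = algebraMap ℓ K' c * algebraMap K K' x := by
  change Algebra.TensorProduct.productMap _ _ (c ⊗ₜ x) = _
  rw [Algebra.TensorProduct.productMap_apply_tmul]
  rfl

/-- the automorphism `φ ⊗ σ` of a constant extension -/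
noncomputable def tensAut (σ : K ≃ₐ[k] K) (φ : ℓ ≃ₐ[k] ℓ) : K' ≃ₐ[k] K' :=
  (tensEquiv h).symm.trans ((Algebra.TensorProduct.congr φ σ).trans (tensEquiv h))

lemma tensAut_mul_apply (σ : K ≃ₐ[k] K) (φ : ℓ ≃ₐ[k] ℓ) (c : ℓ) (x : K) :
    tensAut h σ φ (algebraMap ℓ K' c * algebraMap K K' x) =
      algebraMap ℓ K' (φ c) * algebraMap K K' (σ x) := by
  rw [← tensEquiv_tmul h, ← tensEquiv_tmul h]
  simp only [tensAut, AlgEquiv.trans_apply, AlgEquiv.symm_apply_apply,
    Algebra.TensorProduct.congr_apply, Algebra.TensorProduct.map_tmul]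
  rfl

lemma tensAut_algebraMap_K (σ : K ≃ₐ[k] K) (φ : ℓ ≃ₐ[k] ℓ) (x : K) :
    tensAut h σ φ (algebraMap K K' x) = algebraMap K K' (σ x) := by
  have := tensAut_mul_apply h σ φ 1 x
  simpa using this

lemma tensAut_algebraMap_ℓ (σ : K ≃ₐ[k] K) (φ : ℓ ≃ₐ[k] ℓ) (c : ℓ) :
    tensAut h σ φ (algebraMap ℓ K' c) = algebraMap ℓ K' (φ c) := by
  have := tensAut_mul_apply h σ φ c 1
  simpa using this

include h in
/-- algebra maps out of a constant extension are determined on `K` and on the constants -/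
lemma algHom_ext_constExt {A : Type*} [Semiring A] [Algebra k A] (f g : K' →ₐ[k] A)
    (h1 : ∀ x : K, f (algebraMap K K' x) = g (algebraMap K K' x))
    (h2 : ∀ c : ℓ, f (algebraMap ℓ K' c) = g (algebraMap ℓ K' c)) : f = g := by
  have key : f.comp (tensEquiv h : ℓ ⊗[k] K →ₐ[k] K') = g.comp (tensEquiv h : ℓ ⊗[k] K →ₐ[k] K') := by
    apply Algebra.TensorProduct.ext'
    intro c x
    simp only [AlgHom.comp_apply, AlgEquiv.coe_algHom]
    rw [tensEquiv_tmul, map_mul, map_mul, h1, h2]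
  ext y
  obtain ⟨t, rfl⟩ := (tensEquiv h).surjective y
  exact DFunLike.congr_fun key t

include h in
lemma algEquiv_ext_constExt (f g : K' ≃ₐ[k] K')
    (h1 : ∀ x : K, f (algebraMap K K' x) = g (algebraMap K K' x))
    (h2 : ∀ c : ℓ, f (algebraMap ℓ K' c) = g (algebraMap ℓ K' c)) : f = g := by
  have := algHom_ext_constExt h (f : K' →ₐ[k] K') (g : K' →ₐ[k] K') h1 h2
  exact AlgEquiv.ext (fun y => DFunLike.congr_fun this y)

lemma tensAut_mul (σ₁ σ₂ : K ≃ₐ[k] K) (φ₁ φ₂ : ℓ ≃ₐ[k] ℓ) :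
    tensAut h (σ₁ * σ₂) (φ₁ * φ₂) = tensAut h σ₁ φ₁ * tensAut h σ₂ φ₂ := by
  apply algEquiv_ext_constExt h
  · intro x
    rw [AlgEquiv.mul_apply, tensAut_algebraMap_K, tensAut_algebraMap_K, tensAut_algebraMap_K,
      AlgEquiv.mul_apply]
  · intro c
    rw [AlgEquiv.mul_apply, tensAut_algebraMap_ℓ, tensAut_algebraMap_ℓ, tensAut_algebraMap_ℓ,
      AlgEquiv.mul_apply]

lemma tensAut_one : tensAut h (1 : K ≃ₐ[k] K) (1 : ℓ ≃ₐ[k] ℓ) = 1 := by
  apply algEquiv_ext_constExt h
  · intro x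
    rw [tensAut_algebraMap_K]; rfl
  · intro c
    rw [tensAut_algebraMap_ℓ]; rfl

lemma tensAut_pow (σ : K ≃ₐ[k] K) (φ : ℓ ≃ₐ[k] ℓ) (n : ℕ) :
    tensAut h σ φ ^ n = tensAut h (σ ^ n) (φ ^ n) := by
  induction n with
  | zero => rw [pow_zero, pow_zero, pow_zero, tensAut_one]
  | succ n ih => rw [pow_succ, pow_succ, pow_succ, ih, tensAut_mul]

lemma tensAut_inv (σ : K ≃ₐ[k] K) (φ : ℓ ≃ₐ[k] ℓ) :
    (tensAut h σ φ)⁻¹ = tensAut h σ⁻¹ φ⁻¹ := by
  rw [inv_eq_iff_mul_eq_one, ← tensAut_mul, mul_inv_cancel, mul_inv_cancel, tensAut_one]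

/-- `1 ⊗ φ` as an automorphism over `K` -/
noncomputable def constAut (φ : ℓ ≃ₐ[k] ℓ) : K' ≃ₐ[K] K' :=
  AlgEquiv.ofRingEquiv (f := (tensAut h 1 φ).toRingEquiv) (fun x => by
    change tensAut h 1 φ (algebraMap K K' x) = _
    rw [tensAut_algebraMap_K]; rfl)

lemma constAut_apply (φ : ℓ ≃ₐ[k] ℓ) (y : K') : constAut h φ y = tensAut h 1 φ y := rfl

lemma constAut_algebraMap_ℓ (φ : ℓ ≃ₐ[k] ℓ) (c : ℓ) :
    constAut h φ (algebraMap ℓ K' c) = algebraMap ℓ K' (φ c) := by
  rw [constAut_apply, tensAut_algebraMap_ℓ]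

lemma constAut_mul (φ₁ φ₂ : ℓ ≃ₐ[k] ℓ) :
    constAut h (φ₁ * φ₂) = constAut h φ₁ * constAut h φ₂ := by
  apply AlgEquiv.ext
  intro y
  rw [AlgEquiv.mul_apply, constAut_apply, constAut_apply, constAut_apply]
  have := tensAut_mul h (1 : K ≃ₐ[k] K) 1 φ₁ φ₂
  rw [one_mul] at this
  rw [this, AlgEquiv.mul_apply]

lemma constAut_one : constAut h (1 : ℓ ≃ₐ[k] ℓ) = 1 := by
  apply AlgEquiv.ext
  intro y
  rw [constAut_apply, tensAut_one]; rfl

/-- `φ ↦ 1 ⊗ φ` as a group homomorphism -/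
noncomputable def constAutHom : (ℓ ≃ₐ[k] ℓ) →* (K' ≃ₐ[K] K') where
  toFun := constAut h
  map_one' := constAut_one h
  map_mul' := constAut_mul h

lemma constAutHom_injective : Function.Injective (constAutHom h (K := K)) := by
  intro φ₁ φ₂ h12
  apply AlgEquiv.ext
  intro c
  have := DFunLike.congr_fun h12 (algebraMap ℓ K' c)
  change constAut h φ₁ _ = constAut h φ₂ _ at this
  rw [constAut_algebraMap_ℓ, constAut_algebraMap_ℓ] at this
  exact (algebraMap ℓ K').injective this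

end tens

section galois

variable {k ℓ K K' : Type*} [Field k] [Field ℓ] [Field K] [Field K'] [Algebra k ℓ] [Algebra k K]
  [Algebra K K'] [Algebra ℓ K'] [Algebra k K'] [IsScalarTower k ℓ K'] [IsScalarTower k K K']
  [Finite k] [FiniteDimensional k ℓ]
  (h : Function.Bijective (Algebra.TensorProduct.productMap
      (IsScalarTower.toAlgHom k ℓ K') (IsScalarTower.toAlgHom k K K')))

include h in
/-- a constant extension of a function field over a finite field is Galois, with all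
automorphisms coming from the constants -/
theorem constAutHom_bijective :
    Function.Bijective (constAutHom h (K := K)) ∧ IsGalois K K' := by
  classical
  have hfinℓ : Finite ℓ := Module.finite_of_finite k
  have hfd : FiniteDimensional K K' := FF.finiteDimensional_constExt h
  have hrank : Module.finrank K K' = Module.finrank k ℓ := FF.finrank_constExt h
  have hcardℓ : Nat.card (ℓ ≃ₐ[k] ℓ) = Module.finrank k ℓ := IsGalois.card_aut_eq_finrank k ℓ
  have hinj := constAutHom_injective h (K := K)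
  have hle : Nat.card (K' ≃ₐ[K] K') ≤ Module.finrank K K' := by
    rw [Nat.card_eq_fintype_card]; exact AlgEquiv.card_le
  have hge : Nat.card (ℓ ≃ₐ[k] ℓ) ≤ Nat.card (K' ≃ₐ[K] K') :=
    Nat.card_le_card_of_injective _ hinj
  have hcard : Nat.card (K' ≃ₐ[K] K') = Module.finrank K K' := by omega
  refine ⟨?_, IsGalois.of_card_aut_eq_finrank K K' hcard⟩
  rw [Nat.bijective_iff_injective_and_card]
  exact ⟨hinj, by omega⟩

end galois

end Groth.Agent.H7.RH
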