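import Groth.Agent.Lib.Helper7.RHC1
import Groth.Agent.Lib.Helper5.FunFld.Galois2

/-! Rational places of a constant extension fixed by a power of Frobenius (helper7). -/

set_option autoImplicit false
set_option linter.unusedSectionVars false

attribute [-instance] IsLocalRing.instModuleResidueFieldOfAlgebra

namespace Groth.Agent.H7.RH

open FunFld TensorProduct Groth.Agent.H7.Zeta

section frob

variable {k ℓ : Type*} [Field k] [Field ℓ] [Algebra k ℓ] [Finite k] [FiniteDimensional k ℓ]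

/-- the Frobenius of a finite extension of a finite field generates the Galois group -/
theorem exists_pow_frob (φ₀ : ℓ ≃ₐ[k] ℓ) (hφ₀ : ∀ c, φ₀ c = c ^ Nat.card k) (φ : ℓ ≃ₐ[k] ℓ) :
    ∃ i : ℕ, φ = φ₀ ^ i := by
  classical
  letI : Fintype k := Fintype.ofFinite k
  have hfinℓ : Finite ℓ := Module.finite_of_finite k
  have heq : FiniteField.frobeniusAlgEquivOfAlgebraic k ℓ = φ₀ := by
    apply AlgEquiv.ext
    intro c
    rw [hφ₀, FiniteField.coe_frobeniusAlgEquivOfAlgebraic, Nat.card_eq_fintype_card]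
  obtain ⟨i, hi⟩ := (FiniteField.bijective_frobeniusAlgEquivOfAlgebraic_pow k ℓ).2 φ
  exact ⟨i.1, by rw [← heq]; exact hi.symm⟩

/-- existence of the Frobenius -/
theorem exists_frob (k ℓ : Type*) [Field k] [Field ℓ] [Algebra k ℓ] [Finite k]
    [FiniteDimensional k ℓ] : ∃ φ₀ : ℓ ≃ₐ[k] ℓ, ∀ c, φ₀ c = c ^ Nat.card k := by
  classical
  letI : Fintype k := Fintype.ofFinite k
  refine ⟨FiniteField.frobeniusAlgEquivOfAlgebraic k ℓ, fun c => ?_⟩
  rw [FiniteField.coe_frobeniusAlgEquivOfAlgebraic, Nat.card_eq_fintype_card]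

end frob

section lemmaC

variable {k ℓ K K' : Type*} [Field k] [Field ℓ] [Field K] [Field K'] [Algebra k ℓ] [Algebra k K]
  [Algebra K K'] [Algebra ℓ K'] [Algebra k K'] [IsScalarTower k ℓ K'] [IsScalarTower k K K']
  [Finite k] [FiniteDimensional k ℓ]
  (hK : IsFunctionField k K)
  (h : Function.Bijective (Algebra.TensorProduct.productMap
      (IsScalarTower.toAlgHom k ℓ K') (IsScalarTower.toAlgHom k K K')))
  (φ₀ : ℓ ≃ₐ[k] ℓ) (hφ₀ : ∀ c, φ₀ c = c ^ Nat.card k)

lemma iterate_conj (Φ : K' ≃ₐ[K] K') (Q : Place k K') (i : ℕ) :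
    (fun Q : Place k K' => Q.conj Φ)^[i] Q = Q.conj (Φ ^ i) := by
  induction i generalizing Q with
  | zero => rw [Function.iterate_zero, id, pow_zero, Place.conj_one]
  | succ i ih => rw [Function.iterate_succ_apply, ih, pow_succ', Place.conj_mul]

include hK h hφ₀ in
/-- Frobenius acts transitively on the places above a given place -/
theorem exists_frob_conj_eq {P : Place k K} {Q Q' : Place k K'} (hQ : IsOver Q P)
    (hQ' : IsOver Q' P) : ∃ i : ℕ, Q.conj (constAut h φ₀ ^ i) = Q' := by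
  obtain ⟨hbij, hgal⟩ := constAutHom_bijective h (K := K)
  haveI := hgal
  haveI : FiniteDimensional K K' := FF.finiteDimensional_constExt h
  obtain ⟨τ, hτ⟩ := exists_conj_eq hQ hQ'
  obtain ⟨φ, hφ⟩ := hbij.2 τ
  obtain ⟨i, hi⟩ := exists_pow_frob φ₀ hφ₀ φ
  refine ⟨i, ?_⟩
  rw [← hτ, ← hφ, hi, map_pow]
  rfl

include hK h hφ₀ in
/-- a place over `P` is fixed by the `r`-th power of Frobenius iff `gcd (deg P) s ∣ r` -/
theorem conj_frob_pow_eq_iff {P : Place k K} {Q : Place k K'} (hQ : IsOver Q P) (r : ℕ) :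
    Q.conj (constAut h φ₀ ^ r) = Q ↔ Nat.gcd P.deg (Module.finrank k ℓ) ∣ r := by
  classical
  haveI : FiniteDimensional K K' := FF.finiteDimensional_constExt h
  set Φ := constAut h φ₀ with hΦ
  set f : Place k K' → Place k K' := fun Q => Q.conj Φ with hf
  have hfin := finite_isOver (K' := K') hK.isFF1 P
  set Qs := hfin.toFinset with hQs
  have hmem : ∀ Q', Q' ∈ Qs ↔ IsOver Q' P := fun Q' => by rw [hQs, Set.Finite.mem_toFinset]; rfl
  have hcard := card_places_over hK h P Qs hmem
  have hper : Q ∈ Function.periodicPts f := by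
    refine ⟨orderOf Φ, orderOf_pos Φ, ?_⟩
    rw [Function.IsPeriodicPt, Function.IsFixedPt, iterate_conj, pow_orderOf_eq_one, Place.conj_one]
  set t := Function.minimalPeriod f Q with ht
  have htpos : 0 < t := Function.minimalPeriod_pos_of_mem_periodicPts hper
  have hcard' : Qs.card = t := by
    rw [← Finset.card_range t]
    symm
    refine Finset.card_bij (fun i _ => f^[i] Q) ?_ ?_ ?_
    · intro i _
      rw [hmem, iterate_conj]
      exact hQ.conj _
    · intro i hi j hj hij
      rw [Finset.mem_range] at hi hj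
      exact Function.iterate_injOn_Iio_minimalPeriod (Set.mem_Iio.2 hi) (Set.mem_Iio.2 hj) hij
    · intro Q' hQ'
      obtain ⟨i, hi⟩ := exists_frob_conj_eq hK h φ₀ hφ₀ hQ ((hmem Q').1 hQ')
      refine ⟨i % t, Finset.mem_range.2 (Nat.mod_lt _ htpos), ?_⟩
      rw [Function.iterate_mod_minimalPeriod_eq, iterate_conj]
      exact hi
  rw [← hcard, hcard', ht, ← Function.isPeriodicPt_iff_minimalPeriod_dvd, Function.IsPeriodicPt,
    Function.IsFixedPt, iterate_conj]

include hK h hφ₀ in
/-- **Lemma C**: the rational places of the constant extension fixed by the `r`-th power of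
Frobenius are counted by `N_r`. -/
theorem card_fixed_rational {r : ℕ} (hr : 0 < r) (hrs : r ∣ Module.finrank k ℓ) :
    {Q : Place k K' | Q.deg = Module.finrank k ℓ ∧ Q.conj (constAut h φ₀ ^ r) = Q}.Finite ∧
    Set.ncard {Q : Place k K' | Q.deg = Module.finrank k ℓ ∧ Q.conj (constAut h φ₀ ^ r) = Q} =
      Nm k K r := by
  classical
  haveI : FiniteDimensional K K' := FF.finiteDimensional_constExt h
  set s := Module.finrank k ℓ with hs
  have hs0 : 0 < s := Module.finrank_pos
  set A := (finite_places_dvd hK hr).toFinset with hA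
  let Qs : Place k K → Finset (Place k K') := fun P =>
    (finite_isOver (K' := K') hK.isFF1 P).toFinset
  have hmemQs : ∀ P Q, Q ∈ Qs P ↔ IsOver Q P := fun P Q => by simp [Qs]
  have hset : {Q : Place k K' | Q.deg = s ∧ Q.conj (constAut h φ₀ ^ r) = Q} =
      ↑(A.biUnion Qs) := by
    ext Q
    simp only [Set.mem_setOf_eq, Finset.coe_biUnion, Set.mem_iUnion, Finset.mem_coe, hmemQs, hA,
      Set.Finite.mem_toFinset, exists_prop]
    constructor
    · rintro ⟨hdeg, hfix⟩
      obtain ⟨P, e, hP⟩ := exists_isOverWith hK.isFF1 Q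
      have hPQ : IsOver Q P := ⟨e, hP⟩
      refine ⟨P, ?_, hPQ⟩
      have h1 := deg_constExt hK h P hPQ
      rw [hdeg, ← hs] at h1
      have h2 : P.deg ∣ s := by rw [h1]; exact Nat.dvd_lcm_left _ _
      have h3 := (conj_frob_pow_eq_iff hK h φ₀ hφ₀ hPQ r).1 hfix
      rwa [← hs, Nat.gcd_eq_left h2] at h3
    · rintro ⟨P, hP, hPQ⟩
      have h2 : P.deg ∣ s := hP.trans hrs
      refine ⟨?_, ?_⟩
      · rw [deg_constExt hK h P hPQ, ← hs]
        exact Nat.lcm_eq_right h2 |>.trans rfl
      · rw [conj_frob_pow_eq_iff hK h φ₀ hφ₀ hPQ r, ← hs, Nat.gcd_eq_left h2]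
        exact hP
  rw [hset]
  refine ⟨Finset.finite_toSet _, ?_⟩
  rw [Set.ncard_coe_finset]
  have hdisj : (A : Set (Place k K)).PairwiseDisjoint Qs := by
    intro P _ P' _ hne
    rw [Function.onFun, Finset.disjoint_left]
    intro Q hQ hQ'
    rw [hmemQs] at hQ hQ'
    exact hne (hQ.unique hQ')
  rw [Finset.card_biUnion hdisj]
  unfold Nm
  rw [finsum_mem_eq_finite_toFinset_sum _ (finite_places_dvd hK hr), ← hA]
  refine Finset.sum_congr rfl (fun P hP => ?_)
  rw [hA, Set.Finite.mem_toFinset] at hP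
  have h2 : P.deg ∣ s := (show P.deg ∣ r from hP).trans hrs
  rw [card_places_over hK h P (Qs P) (hmemQs P), ← hs, Nat.gcd_eq_left h2]

end lemmaC

end Groth.Agent.H7.RH
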