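import Groth.Agent.Lib.Helper5.FunFld.Galois2
import Groth.Agent.Lib.Helper7.PI1

/-! Counting pairs `(u, Q)` with `u Q = Φ Q` in a Galois extension (helper7). -/

set_option autoImplicit false
set_option linter.unusedSectionVars false

namespace Groth.Agent.H7.RH

open FunFld

section lemmaG

variable {k F₀ F : Type*} [Field k] [Field F₀] [Field F] [Algebra k F₀] [Algebra F₀ F] [Algebra k F]
  [IsScalarTower k F₀ F] [FiniteDimensional F₀ F] [IsGalois F₀ F]

open scoped Classical in
/-- **Lemma G**: if `Φ` permutes the places above `P` then the number of pairs `(u, Q)` with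
`Q ∣ P` and `Q^u = Q^Φ` is the degree of the Galois extension. -/
theorem sum_card_conj_eq (P : Place k F₀) (hex : ∃ Q : Place k F, IsOver Q P) (Φ : F ≃ₐ[k] F)
    (hΦ : ∀ Q : Place k F, IsOver Q P → IsOver (Q.conj Φ) P)
    (Ys : Finset (Place k F)) (hYs : ∀ Q, Q ∈ Ys ↔ IsOver Q P) :
    ∑ Q ∈ Ys, (Finset.univ.filter (fun u : F ≃ₐ[F₀] F => Q.conj u = Q.conj Φ)).card =
      Module.finrank F₀ F := by
  have hterm : ∀ Q ∈ Ys, (Finset.univ.filter (fun u : F ≃ₐ[F₀] F => Q.conj u = Q.conj Φ)).card =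
      Nat.card (Q.O.decompositionSubgroup F₀) := by
    intro Q hQ
    have hQP := (hYs Q).1 hQ
    obtain ⟨u₀, hu₀⟩ := exists_conj_eq hQP (hΦ Q hQP)
    have h1 : (Finset.univ.filter (fun u : F ≃ₐ[F₀] F => Q.conj u = Q.conj Φ)).card =
        (Finset.univ.filter (fun u : F ≃ₐ[F₀] F => Q.conj u = Q)).card := by
      refine Finset.card_nbij' (fun u => u * u₀⁻¹) (fun u => u * u₀) ?_ ?_ ?_ ?_
      · intro u hu
        simp only [Finset.coe_filter, Finset.mem_univ, true_and, Set.mem_setOf_eq] at hu ⊢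
        rw [Place.conj_mul, hu, ← hu₀, ← Place.conj_mul, mul_inv_cancel, Place.conj_one]
      · intro u hu
        simp only [Finset.coe_filter, Finset.mem_univ, true_and, Set.mem_setOf_eq] at hu ⊢
        rw [Place.conj_mul, hu, hu₀]
      · intro u _
        simp
      · intro u _
        simp
    rw [h1, Nat.card_eq_fintype_card, Fintype.card_subtype]
    congr 1
    ext u
    simp only [Finset.mem_filter, Finset.mem_univ, true_and]
    exact (mem_decompositionSubgroup_iff Q u).symm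
  rw [Finset.sum_congr rfl hterm]
  obtain ⟨Q₀, hQ₀⟩ := hex
  have hQ₀Y : Q₀ ∈ Ys := (hYs Q₀).2 hQ₀
  have hcardY : Nat.card {Q' : Place k F // IsOver Q' P} = Ys.card := by
    rw [Nat.card_congr (Equiv.subtypeEquivRight (fun Q => (hYs Q).symm)),
      Nat.card_eq_fintype_card, Fintype.card_coe]
  have hall : ∀ Q ∈ Ys, Ys.card * Nat.card (Q.O.decompositionSubgroup F₀) = Module.finrank F₀ F := by
    intro Q hQ
    rw [← hcardY]
    exact card_isOver_mul_card_decomposition ((hYs Q).1 hQ)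
  have hpos : 0 < Ys.card := Finset.card_pos.2 ⟨Q₀, hQ₀Y⟩
  have heq : ∀ Q ∈ Ys, Nat.card (Q.O.decompositionSubgroup F₀) =
      Nat.card (Q₀.O.decompositionSubgroup F₀) := by
    intro Q hQ
    have h1 := hall Q hQ
    have h2 := hall Q₀ hQ₀Y
    exact Nat.eq_of_mul_eq_mul_left hpos (h1.trans h2.symm)
  rw [Finset.sum_congr rfl heq, Finset.sum_const, smul_eq_mul]
  exact hall Q₀ hQ₀Y

end lemmaG

end Groth.Agent.H7.RH
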