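import Groth.Agent.Lib.Helper7.Z2

/-! Zeta function: finiteness of the class group and the count of effective divisors of large
degree (helper7, S11037). -/

set_option autoImplicit false
set_option linter.unusedSectionVars false

namespace Groth.Agent.H7.Zeta

open FunFld WithZero

variable {k K : Type*} [Field k] [Field K] [Algebra k K]

section prin

variable (hK : IsFunctionField k K)

lemma degHom_apply (D : Divisor k K) : degHom k K D = D.deg := by
  unfold degHom Divisor.deg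
  rw [Finsupp.liftAddHom_apply]
  rfl

include hK in
/-- principal divisors are exactly the divisors of nonzero elements -/
lemma mem_prinDivs_iff (D : Divisor k K) :
    D ∈ prinDivs k K ↔ ∃ x : K, x ≠ 0 ∧ D = div k x := by
  constructor
  · intro h
    unfold prinDivs at h
    induction h using AddSubgroup.closure_induction with
    | mem y hy =>
      obtain ⟨x, rfl⟩ := hy
      by_cases hx : x = 0
      · exact ⟨1, one_ne_zero, by rw [hx, div_zero hK, div_one hK]⟩
      · exact ⟨x, hx, rfl⟩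
    | zero => exact ⟨1, one_ne_zero, (div_one hK).symm⟩
    | add a b _ _ ha hb =>
      obtain ⟨x, hx, rfl⟩ := ha
      obtain ⟨y, hy, rfl⟩ := hb
      exact ⟨x * y, mul_ne_zero hx hy, (div_mul hK hx hy).symm⟩
    | neg a _ ha =>
      obtain ⟨x, hx, rfl⟩ := ha
      exact ⟨x⁻¹, inv_ne_zero hx, (div_inv hK x).symm⟩
  · rintro ⟨x, -, rfl⟩
    exact AddSubgroup.subset_closure ⟨x, rfl⟩

end prin

section classes

variable [Finite k] (hK : IsFunctionField k K)

/-- the class group of degree zero divisors -/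
abbrev Cl0 (k K : Type*) [Field k] [Field K] [Algebra k K] : Type _ :=
  (degHom k K).ker ⧸ (prinDivs k K).addSubgroupOf (degHom k K).ker

/-- the class of `D - D₀` -/
noncomputable def classOf (D₀ : Divisor k K) (n : ℤ) (hD₀ : D₀.deg = n)
    (D : {D : Divisor k K // 0 ≤ D ∧ D.deg = n}) : Cl0 k K :=
  QuotientAddGroup.mk ⟨D.1 - D₀, by
    rw [AddMonoidHom.mem_ker, degHom_apply, Divisor.deg_sub, D.2.2, hD₀, sub_self]⟩

include hK in
lemma classOf_eq_iff (D₀ : Divisor k K) (n : ℤ) (hD₀ : D₀.deg = n)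
    (D : {D : Divisor k K // 0 ≤ D ∧ D.deg = n}) (Z : (degHom k K).ker) :
    classOf D₀ n hD₀ D = QuotientAddGroup.mk Z ↔ D.1 ∈ Eff (D₀ + Z.1) := by
  unfold classOf
  rw [QuotientAddGroup.eq, AddSubgroup.mem_addSubgroupOf]
  simp only [AddSubgroup.coe_add, NegMemClass.coe_neg]
  rw [mem_prinDivs_iff hK]
  constructor
  · rintro ⟨x, hx, h⟩
    refine ⟨D.2.1, x⁻¹, inv_ne_zero hx, ?_⟩
    rw [div_inv hK, ← h]
    abel
  · rintro ⟨-, x, hx, h⟩
    refine ⟨x⁻¹, inv_ne_zero hx, ?_⟩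
    rw [div_inv hK, h]
    abel

include hK in
lemma deg_of_mem_eff {C D : Divisor k K} (hD : D ∈ Eff C) : D.deg = C.deg := by
  obtain ⟨-, x, -, rfl⟩ := hD
  rw [Divisor.deg_add, deg_div hK, add_zero]

include hK in
lemma ell_large {C : Divisor k K} {n : ℕ} (hn : 2 * genus k K ≤ n + 1) (hC : C.deg = n) :
    ell C = n + 1 - genus k K := by
  have h := ell_eq_of_large_deg hK (D := C) (by rw [hC]; omega)
  rw [hC] at h
  omega

include hK in
theorem classOf_surjective {n : ℕ} (hn : 2 * genus k K ≤ n + 1) (D₀ : Divisor k K)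
    (hD₀ : D₀.deg = (n : ℤ)) : Function.Surjective (classOf D₀ (n : ℤ) hD₀) := by
  intro c
  obtain ⟨Z, rfl⟩ := QuotientAddGroup.mk_surjective c
  have hZ : Z.1.deg = 0 := by
    have := Z.2
    rwa [AddMonoidHom.mem_ker, degHom_apply] at this
  have hdeg : (D₀ + Z.1).deg = n := by rw [Divisor.deg_add, hD₀, hZ, add_zero]
  have hell := ell_large hK hn hdeg
  have hpos : 0 < ell (D₀ + Z.1) := by rw [hell]; omega
  obtain ⟨x, hx, hxD⟩ := (ell_pos_iff hK _).1 hpos
  have hmem : D₀ + Z.1 + div k x ∈ Eff (D₀ + Z.1) := ⟨hxD, x, hx, rfl⟩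
  refine ⟨⟨D₀ + Z.1 + div k x, hxD, by rw [deg_of_mem_eff hK hmem, hdeg]⟩, ?_⟩
  rw [classOf_eq_iff hK]
  exact hmem

include hK in
/-- The class group is finite. -/
theorem finite_Cl0 : Finite (Cl0 k K) := by
  obtain ⟨P⟩ := nonempty_place hK
  have hP := P.deg_pos hK
  set m := 2 * genus k K with hm
  set n := m * P.deg with hn
  have hn' : 2 * genus k K ≤ n + 1 := by
    have : m ≤ m * P.deg := Nat.le_mul_of_pos_right _ hP
    omega
  set D₀ : Divisor k K := Finsupp.single P (m : ℤ) with hD₀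
  have hdeg : D₀.deg = (n : ℤ) := by
    rw [hD₀, Divisor.deg_single, hn]; push_cast; ring
  have hfin : Finite {D : Divisor k K // 0 ≤ D ∧ D.deg = (n : ℤ)} :=
    (finite_effDiv hK n).to_subtype
  exact Finite.of_surjective _ (classOf_surjective hK hn' D₀ hdeg)

/-- the fibre of the class map is `Eff` -/
noncomputable def fiberEquiv (D₀ : Divisor k K) (n : ℕ) (hD₀ : D₀.deg = (n : ℤ))
    (hK : IsFunctionField k K) (Z : (degHom k K).ker) :
    {D : {D : Divisor k K // 0 ≤ D ∧ D.deg = (n : ℤ)} //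
      classOf D₀ (n : ℤ) hD₀ D = QuotientAddGroup.mk Z} ≃ Eff (D₀ + Z.1) where
  toFun D := ⟨D.1.1, (classOf_eq_iff hK D₀ n hD₀ D.1 Z).1 D.2⟩
  invFun D := ⟨⟨D.1, D.2.1, by
      rw [deg_of_mem_eff hK D.2, Divisor.deg_add, hD₀]
      have := Z.2
      rw [AddMonoidHom.mem_ker, degHom_apply] at this
      rw [this, add_zero]⟩, (classOf_eq_iff hK D₀ n hD₀ _ Z).2 D.2⟩
  left_inv D := rfl
  right_inv D := rfl

include hK in
/-- **S11037**, the count: `(q - 1) a(n) = h (q^(n+1-g) - 1)` for `n ≥ 2g - 1` a degree. -/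
theorem effDivCount_eq {n : ℕ} (hn : 2 * genus k K ≤ n + 1) (D₀ : Divisor k K)
    (hD₀ : D₀.deg = (n : ℤ)) :
    ((Nat.card k : ℤ) - 1) * (effDivCount k K n : ℤ) =
      (classNum k K : ℤ) * ((Nat.card k : ℤ) ^ (n + 1 - genus k K) - 1) := by
  classical
  have hfinC := finite_Cl0 hK
  let _ : Fintype (Cl0 k K) := Fintype.ofFinite _
  have hfinE : Finite {D : Divisor k K // 0 ≤ D ∧ D.deg = (n : ℤ)} :=
    (finite_effDiv hK n).to_subtype
  have h1 : effDivCount k K n =
      ∑ c : Cl0 k K, Nat.card {D : {D : Divisor k K // 0 ≤ D ∧ D.deg = (n : ℤ)} //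
        classOf D₀ (n : ℤ) hD₀ D = c} := by
    unfold effDivCount
    rw [← Nat.card_congr (Equiv.sigmaFiberEquiv (classOf D₀ (n : ℤ) hD₀)), Nat.card_sigma]
  have h2 : ∀ c : Cl0 k K, ((Nat.card k : ℤ) - 1) *
      (Nat.card {D : {D : Divisor k K // 0 ≤ D ∧ D.deg = (n : ℤ)} //
        classOf D₀ (n : ℤ) hD₀ D = c} : ℤ) = (Nat.card k : ℤ) ^ (n + 1 - genus k K) - 1 := by
    intro c
    obtain ⟨Z, rfl⟩ := QuotientAddGroup.mk_surjective c
    rw [Nat.card_congr (fiberEquiv D₀ n hD₀ hK Z)]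
    have hZ : Z.1.deg = 0 := by
      have := Z.2
      rwa [AddMonoidHom.mem_ker, degHom_apply] at this
    have hdeg : (D₀ + Z.1).deg = n := by rw [Divisor.deg_add, hD₀, hZ, add_zero]
    have h3 := card_eff hK (D₀ + Z.1)
    rw [ell_large hK hn hdeg] at h3
    have h4 : (1 : ℤ) ≤ Nat.card k := by
      have : 0 < Nat.card k := Nat.card_pos
      exact_mod_cast this
    have h5 : ((Nat.card (Eff (D₀ + Z.1)) * (Nat.card k - 1) + 1 : ℕ) : ℤ) =
        (Nat.card k : ℤ) ^ (n + 1 - genus k K) := by exact_mod_cast h3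
    rw [Nat.cast_add, Nat.cast_mul, Nat.cast_sub Nat.card_pos] at h5
    push_cast at h5
    linarith
  rw [h1, Nat.cast_sum, Finset.mul_sum, Finset.sum_congr rfl (fun c _ => h2 c), Finset.sum_const,
    nsmul_eq_mul]
  congr 1
  unfold classNum
  rw [Finset.card_univ, Fintype.card_eq_nat_card]

include hK in
/-- **S11037**. -/
theorem S11037 :
    Finite (Cl0 k K) ∧
    ∀ n : ℕ, 2 * genus k K ≤ n + 1 →
      ((∃ D : Divisor k K, D.deg = n) →
        ((Nat.card k : ℤ) - 1) * (effDivCount k K n : ℤ) =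
          (classNum k K : ℤ) * ((Nat.card k : ℤ) ^ (n + 1 - genus k K) - 1)) ∧
      ((¬ ∃ D : Divisor k K, D.deg = n) → effDivCount k K n = 0) := by
  refine ⟨finite_Cl0 hK, fun n hn => ⟨?_, ?_⟩⟩
  · rintro ⟨D₀, hD₀⟩
    exact effDivCount_eq hK hn D₀ hD₀
  · intro hno
    unfold effDivCount
    have : IsEmpty {D : Divisor k K // 0 ≤ D ∧ D.deg = (n : ℤ)} :=
      ⟨fun D => hno ⟨D.1, D.2.2⟩⟩
    exact Nat.card_of_isEmpty

end classes

end Groth.Agent.H7.Zeta
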