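import Groth.Agent.Lib.Helper7.Z5
import Groth.Agent.Lib.Helper7.Z3
import Groth.Agent.Lib.Helper5.FunFld.Geometric

/-! Existence of constant field extensions of a function field over a finite field (helper7). -/

set_option autoImplicit false
set_option linter.unusedSectionVars false

namespace Groth.Agent.H7.Zeta

universe u v

open FunFld TensorProduct Polynomial

/-- a finite field has an extension of each positive degree in the same universe -/
theorem exists_finite_ext (k : Type u) [Field k] [Finite k] (r : ℕ) (hr : 0 < r) :
    ∃ (k' : Type u) (_ : Field k') (_ : Algebra k k') (_ : FiniteDimensional k k'),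
      Module.finrank k k' = r := by
  obtain ⟨p, hp⟩ := CharP.exists k
  have hprime : Fact p.Prime := ⟨CharP.char_is_prime k p⟩
  have : NeZero r := ⟨hr.ne'⟩
  let f : k[X] := X ^ Nat.card k ^ r - X
  let e : FiniteField.Extension k p r ≃ₐ[k] f.SplittingField :=
    Polynomial.IsSplittingField.algEquiv _ f
  refine ⟨f.SplittingField, inferInstance, inferInstance, inferInstance, ?_⟩
  rw [← e.toLinearEquiv.finrank_eq, FiniteField.finrank_extension]

/-- a function field over a finite field has a constant field extension of each positive degree -/
theorem exists_constExt {k : Type u} {K : Type v} [Field k] [Finite k] [Field K] [Algebra k K]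
    (hK : IsFunctionField k K) (r : ℕ) (hr : 0 < r) :
    ∃ (k' : Type u) (K' : Type (max u v)) (_ : Field k') (_ : Field K') (_ : Algebra k k')
      (_ : Algebra K K') (_ : Algebra k' K') (_ : Algebra k K') (_ : IsScalarTower k k' K')
      (_ : IsScalarTower k K K') (_ : FiniteDimensional k k'),
      Module.finrank k k' = r ∧ Function.Bijective (Algebra.TensorProduct.productMap
        (IsScalarTower.toAlgHom k k' K') (IsScalarTower.toAlgHom k K K')) := by
  obtain ⟨k', _, _, _, hfr⟩ := exists_finite_ext k r hr
  have hsep : Algebra.IsSeparable k k' := Algebra.IsAlgebraic.isSeparable_of_perfectField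
  have hF : IsField (k' ⊗[k] K) := isField_tensor_of_isSeparable hK.2 k'
  letI : Field (k' ⊗[k] K) := hF.toField
  letI : Algebra K (k' ⊗[k] K) := Algebra.TensorProduct.rightAlgebra
  have hst1 : IsScalarTower k k' (k' ⊗[k] K) := inferInstance
  have hst2 : IsScalarTower k K (k' ⊗[k] K) := Algebra.TensorProduct.right_isScalarTower
  refine ⟨k', k' ⊗[k] K, inferInstance, inferInstance, inferInstance, inferInstance,
    inferInstance, inferInstance, hst1, hst2, inferInstance, hfr, ?_⟩
  have hid : ∀ t : k' ⊗[k] K, Algebra.TensorProduct.productMap
      (IsScalarTower.toAlgHom k k' (k' ⊗[k] K)) (IsScalarTower.toAlgHom k K (k' ⊗[k] K)) t = t := by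
    intro t
    induction t using TensorProduct.induction_on with
    | zero => simp
    | tmul c x =>
      rw [Algebra.TensorProduct.productMap_apply_tmul]
      simp [Algebra.TensorProduct.algebraMap_apply, Algebra.TensorProduct.right_algebraMap_apply]
    | add a b ha hb => rw [map_add, ha, hb]
  exact ⟨fun a b hab => by rwa [hid, hid] at hab, fun t => ⟨t, hid t⟩⟩

end Groth.Agent.H7.Zeta
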