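import Groth.Agent.Lib.Helper7.RHU
import Groth.Agent.Lib.Helper7.Z6

/-! Bounds for `N_r` of an intermediate field of a Galois extension of `k(x)` (helper7). -/

set_option autoImplicit false
set_option linter.unusedSectionVars false

attribute [-instance] IsLocalRing.instModuleResidueFieldOfAlgebra

namespace Groth.Agent.H7.RH

open FunFld TensorProduct Groth.Agent.H7.Zeta

universe u v

section genus0

variable {k K : Type*} [Field k] [Finite k] [Field K] [Algebra k K]

/-- `N_r = q^r + 1` in genus zero -/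
theorem Nm_of_genus_zero (hK : IsFunctionField k K) (hg : genus k K = 0) {r : ℕ} (hr : 0 < r) :
    Nm k K r = Nat.card k ^ r + 1 := by
  obtain ⟨α, -, hα, -⟩ := S11040 hK
  have h1 := Nm_eq hK α hα hr
  haveI : IsEmpty (Fin (2 * genus k K)) := by rw [hg]; exact Fin.isEmpty
  rw [Finset.sum_of_isEmpty, sub_zero] at h1
  have h2 : (Nm k K r : ℂ) = ((Nat.card k ^ r + 1 : ℕ) : ℂ) := by
    rw [h1]; push_cast; ring
  exact_mod_cast h2

end genus0

section main

variable {k : Type u} {K₀ K E : Type v} [Field k] [Finite k] [Field K₀] [Field K] [Field E]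
  [Algebra k K₀] [Algebra k K] [Algebra k E] [Algebra K₀ K] [Algebra K E] [Algebra K₀ E]
  [IsScalarTower k K₀ K] [IsScalarTower k K E] [IsScalarTower k K₀ E] [IsScalarTower K₀ K E]
  [FiniteDimensional K₀ E] [IsGalois K₀ E]

/-- **Theorem M** (natural number form) -/
theorem Nm_bounds_nat (hE : IsFunctionField k E) (hK : IsFunctionField k K)
    (hK₀ : IsFunctionField k K₀) (hg0 : genus k K₀ = 0) (a : ℕ) (ha : 0 < a)
    (hq : (genus k E + 1) ^ 2 < Nat.card k ^ a) :
    Nm k K (2 * a) ≤ Nat.card k ^ a * Nat.card k ^ a + (2 * genus k E + 1) * Nat.card k ^ a ∧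
    Module.finrank K₀ E * (Nat.card k ^ (2 * a) + 1) ≤
      Module.finrank K E * Nm k K (2 * a) +
        (Module.finrank K₀ E - Module.finrank K E) *
          (Nat.card k ^ a * Nat.card k ^ a + (2 * genus k E + 1) * Nat.card k ^ a) := by
  classical
  haveI : FiniteDimensional K E := FiniteDimensional.right K₀ K E
  haveI : IsGalois K E := IsGalois.tower_top_of_isGalois K₀ K E
  set n := Module.finrank K₀ E with hn
  set m := Module.finrank K E with hm
  have hn0 : 0 < n := Module.finrank_pos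
  have hm0 : 0 < m := Module.finrank_pos
  haveI : FiniteDimensional K₀ K := FiniteDimensional.left K₀ K E
  have hmn : m ∣ n := Dvd.intro_left _ (Module.finrank_mul_finrank K₀ K E)
  set r := 2 * a with hr
  have hr0 : 0 < r := by omega
  obtain ⟨ℓ, F, _, _, _, _, _, _, _, _, _, hs, h⟩ := exists_constExt hE (n * r) (Nat.mul_pos hn0 hr0)
  have hF : IsFunctionField ℓ F := (FF.constExt h hE (isGeometric_of_perfectField k E hE)).1
  have hgen : genus ℓ F = genus k E := genus_constExt h hE hF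
  obtain ⟨φ₀, hφ₀⟩ := exists_frob k ℓ
  -- algebra structures over `K₀` and `K`
  letI : Algebra K₀ F := ((algebraMap E F).comp (algebraMap K₀ E)).toAlgebra
  haveI : IsScalarTower K₀ E F := IsScalarTower.of_algebraMap_eq (fun _ => rfl)
  haveI : IsScalarTower k K₀ F := IsScalarTower.of_algebraMap_eq (fun c => by
    change algebraMap k F c = algebraMap E F (algebraMap K₀ E (algebraMap k K₀ c))
    rw [← IsScalarTower.algebraMap_apply k K₀ E, ← IsScalarTower.algebraMap_apply k E F])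
  letI : Algebra K F := ((algebraMap E F).comp (algebraMap K E)).toAlgebra
  haveI : IsScalarTower K E F := IsScalarTower.of_algebraMap_eq (fun _ => rfl)
  haveI : IsScalarTower k K F := IsScalarTower.of_algebraMap_eq (fun c => by
    change algebraMap k F c = algebraMap E F (algebraMap K E (algebraMap k K c))
    rw [← IsScalarTower.algebraMap_apply k K E, ← IsScalarTower.algebraMap_apply k E F])
  -- the two counting identities
  have hc0 := sum_Nfix (M := K₀) h hE hK₀ φ₀ hφ₀ hr0 (by rw [hs])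
  have hc1 := sum_Nfix (M := K) h hE hK φ₀ hφ₀ hr0 (by rw [hs]; exact Nat.mul_dvd_mul_right hmn r)
  rw [Nm_of_genus_zero hK₀ hg0 hr0] at hc0
  -- the bound
  set B := Nat.card k ^ a * Nat.card k ^ a + (2 * genus k E + 1) * Nat.card k ^ a with hB
  have hbound : ∀ σ : E ≃ₐ[k] E, Nfix h σ (φ₀ ^ r) ≤ B := by
    intro σ
    have := Nfix_le h hF σ φ₀ hφ₀ a (by rw [hgen]; exact hq)
    rw [hgen] at this
    exact this
  -- the injection `Gal(E/K) → Gal(E/K₀)`
  let ρ : (E ≃ₐ[K] E) → (E ≃ₐ[K₀] E) := fun σ => σ.restrictScalars K₀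
  have hρ : Function.Injective ρ := AlgEquiv.restrictScalars_injective K₀
  have hρk : ∀ σ : E ≃ₐ[K] E, (ρ σ).restrictScalars k = σ.restrictScalars k := fun σ =>
    AlgEquiv.ext (fun _ => rfl)
  set f : (E ≃ₐ[K₀] E) → ℕ := fun g => Nfix h (g.restrictScalars k) (φ₀ ^ r) with hf
  set I : Finset (E ≃ₐ[K₀] E) := Finset.univ.image ρ with hI
  have hsumI : ∑ g ∈ I, f g = m * Nm k K r := by
    rw [hI, Finset.sum_image (fun _ _ _ _ hxy => hρ hxy), ← hc1]
    refine Finset.sum_congr rfl (fun σ _ => ?_)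
    simp only [hf]
    rw [hρk]
  have hcardI : I.card = m := by
    rw [hI, Finset.card_image_of_injective _ hρ, Finset.card_univ, ← Nat.card_eq_fintype_card,
      IsGalois.card_aut_eq_finrank]
  have hcardG : (Finset.univ : Finset (E ≃ₐ[K₀] E)).card = n := by
    rw [Finset.card_univ, ← Nat.card_eq_fintype_card, IsGalois.card_aut_eq_finrank]
  have hsplit : ∑ g, f g = ∑ g ∈ I, f g + ∑ g ∈ Iᶜ, f g := (Finset.sum_add_sum_compl I f).symm
  have hcompl : ∑ g ∈ Iᶜ, f g ≤ (n - m) * B := by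
    calc ∑ g ∈ Iᶜ, f g ≤ ∑ _g ∈ Iᶜ, B := Finset.sum_le_sum (fun g _ => hbound _)
      _ = (n - m) * B := by
        rw [Finset.sum_const, smul_eq_mul, Finset.card_compl, hcardI, ← Finset.card_univ, hcardG]
  constructor
  · have h1 : m * Nm k K r ≤ m * B := by
      rw [← hsumI]
      calc ∑ g ∈ I, f g ≤ ∑ _g ∈ I, B := Finset.sum_le_sum (fun g _ => hbound _)
        _ = m * B := by rw [Finset.sum_const, smul_eq_mul, hcardI]
    exact Nat.le_of_mul_le_mul_left h1 hm0
  · rw [← hc0]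
    change ∑ g, f g ≤ _
    rw [hsplit, hsumI]
    exact Nat.add_le_add_left hcompl _

/-- **Theorem M** (real form) -/
theorem Nm_bounds_real (hE : IsFunctionField k E) (hK : IsFunctionField k K)
    (hK₀ : IsFunctionField k K₀) (hg0 : genus k K₀ = 0) (a : ℕ) (ha : 0 < a)
    (hq : (genus k E + 1) ^ 2 < Nat.card k ^ a) :
    |(Nm k K (2 * a) : ℝ) - (Nat.card k : ℝ) ^ (2 * a) - 1| ≤
      ((Module.finrank K₀ E * (2 * genus k E + 1) : ℕ) : ℝ) * (Nat.card k : ℝ) ^ a := by
  obtain ⟨h1, h2⟩ := Nm_bounds_nat hE hK hK₀ hg0 a ha hq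
  haveI : FiniteDimensional K E := FiniteDimensional.right K₀ K E
  haveI : FiniteDimensional K₀ K := FiniteDimensional.left K₀ K E
  set n := Module.finrank K₀ E with hn
  set m := Module.finrank K E with hm
  have hn0 : 0 < n := Module.finrank_pos
  have hm0 : 0 < m := Module.finrank_pos
  have hmn : m ≤ n := Nat.le_of_dvd hn0 (Dvd.intro_left _ (Module.finrank_mul_finrank K₀ K E))
  set N : ℝ := (Nm k K (2 * a) : ℝ) with hN
  set Q : ℝ := (Nat.card k : ℝ) ^ a with hQ
  set g : ℝ := (genus k E : ℝ) with hg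
  have hQ2 : (Nat.card k : ℝ) ^ (2 * a) = Q * Q := by rw [hQ, ← pow_add, two_mul]
  have hQ0 : 0 ≤ Q := by positivity
  have hg0' : 0 ≤ g := Nat.cast_nonneg _
  have h1' : N ≤ Q * Q + (2 * g + 1) * Q := by
    have : ((Nm k K (2 * a) : ℕ) : ℝ) ≤ ((Nat.card k ^ a * Nat.card k ^ a +
        (2 * genus k E + 1) * Nat.card k ^ a : ℕ) : ℝ) := by exact_mod_cast h1
    push_cast at this
    exact this
  have h2' : (n : ℝ) * (Q * Q + 1) ≤ (m : ℝ) * N + ((n : ℝ) - m) * (Q * Q + (2 * g + 1) * Q) := by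
    have : ((n * (Nat.card k ^ (2 * a) + 1) : ℕ) : ℝ) ≤ ((m * Nm k K (2 * a) +
        (n - m) * (Nat.card k ^ a * Nat.card k ^ a + (2 * genus k E + 1) * Nat.card k ^ a) : ℕ) : ℝ) := by
      exact_mod_cast h2
    push_cast [Nat.cast_sub hmn] at this
    rw [hQ2] at this
    exact this
  have hnR : (1 : ℝ) ≤ n := by exact_mod_cast hn0
  have hmR : (1 : ℝ) ≤ m := by exact_mod_cast hm0
  have hmnR : (m : ℝ) ≤ n := by exact_mod_cast hmn
  have hW : 0 ≤ (2 * g + 1) * Q := by positivity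
  rw [hQ2]
  push_cast
  rw [abs_le]
  constructor
  · -- lower bound
    have h3 : (m : ℝ) * (N - Q * Q - 1) ≥ -(((n : ℝ) - m) * ((2 * g + 1) * Q)) := by nlinarith
    have h4 : -(((n : ℝ) - m) * ((2 * g + 1) * Q)) ≥ -((m : ℝ) * ((n : ℝ) * ((2 * g + 1) * Q))) := by
      have : ((n : ℝ) - m) * ((2 * g + 1) * Q) ≤ (n : ℝ) * ((2 * g + 1) * Q) :=
        mul_le_mul_of_nonneg_right (by linarith) hW
      have : (n : ℝ) * ((2 * g + 1) * Q) ≤ (m : ℝ) * ((n : ℝ) * ((2 * g + 1) * Q)) := by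
        have hnW : 0 ≤ (n : ℝ) * ((2 * g + 1) * Q) := by positivity
        nlinarith
      linarith
    have h5 : (m : ℝ) * (N - Q * Q - 1) ≥ (m : ℝ) * (-((n : ℝ) * ((2 * g + 1) * Q))) := by linarith
    have h6 := le_of_mul_le_mul_left h5 (by linarith : (0 : ℝ) < m)
    linarith
  · have : (2 * g + 1) * Q ≤ (n : ℝ) * ((2 * g + 1) * Q) := by nlinarith
    linarith

end main

end Groth.Agent.H7.RH
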