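import Groth.Agent.Lib.Helper7.RHC1

/-! The tower `M ⊆ M ℓ ⊆ F = E ℓ` for a Galois extension `E/M` of function fields and a constant
extension `F` of `E` (helper7). -/

set_option autoImplicit false
set_option linter.unusedSectionVars false

namespace Groth.Agent.H7.RH

open FunFld TensorProduct

section Ms

variable (k ℓ M E F : Type*) [Field k] [Field ℓ] [Field M] [Field E] [Field F]
  [Algebra k ℓ] [Algebra k M] [Algebra M E] [Algebra k E] [IsScalarTower k M E]
  [Algebra E F] [Algebra ℓ F] [Algebra k F] [IsScalarTower k ℓ F] [IsScalarTower k E F]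
  [Algebra M F] [IsScalarTower M E F] [IsScalarTower k M F]

/-- the compositum `M ℓ` inside `F` -/
noncomputable def Ms : IntermediateField M F :=
  IntermediateField.adjoin M (Set.range (algebraMap ℓ F))

noncomputable instance algℓMs : Algebra ℓ (Ms ℓ M F) :=
  ((algebraMap ℓ F).codRestrict (Ms ℓ M F)
    (fun c => IntermediateField.subset_adjoin _ _ ⟨c, rfl⟩)).toAlgebra

lemma algebraMap_ℓ_Ms (c : ℓ) : ((algebraMap ℓ (Ms ℓ M F) c : Ms ℓ M F) : F) = algebraMap ℓ F c := rfl

instance towerℓMsF : IsScalarTower ℓ (Ms ℓ M F) F := IsScalarTower.of_algebraMap_eq (fun _ => rfl)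

instance towerkℓMs : IsScalarTower k ℓ (Ms ℓ M F) := by
  refine IsScalarTower.of_algebraMap_eq (fun c => ?_)
  apply Subtype.ext
  change algebraMap k F c = algebraMap ℓ F (algebraMap k ℓ c)
  rw [← IsScalarTower.algebraMap_apply]

example : IsScalarTower k M (Ms ℓ M F) := inferInstance

instance towerkMsF : IsScalarTower k (Ms ℓ M F) F := IsScalarTower.of_algebraMap_eq (fun _ => rfl)
example : IsScalarTower M (Ms ℓ M F) F := inferInstance

end Ms

section alg

lemma isAlgebraic_const (k : Type*) {ℓ M F : Type*} [Field k] [Field ℓ] [Field M] [Field F]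
    [Algebra k ℓ] [Algebra k M] [Algebra ℓ F] [Algebra k F] [IsScalarTower k ℓ F]
    [Algebra M F] [IsScalarTower k M F] [FiniteDimensional k ℓ] (c : ℓ) :
    IsAlgebraic M (algebraMap ℓ F c) := by
  have h1 : IsAlgebraic k c := Algebra.IsAlgebraic.isAlgebraic c
  have h2 : IsAlgebraic k (algebraMap ℓ F c) := h1.algebraMap
  exact h2.tower_top M

lemma Ms_toSubalgebra (k : Type*) {ℓ M F : Type*} [Field k] [Field ℓ] [Field M] [Field F]
    [Algebra k ℓ] [Algebra k M] [Algebra ℓ F] [Algebra k F] [IsScalarTower k ℓ F]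
    [Algebra M F] [IsScalarTower k M F] [FiniteDimensional k ℓ] :
    (Ms ℓ M F).toSubalgebra = Algebra.adjoin M (Set.range (algebraMap ℓ F)) := by
  apply IntermediateField.adjoin_toSubalgebra_of_isAlgebraic
  rintro _ ⟨c, rfl⟩
  exact isAlgebraic_const k c

end alg

section main

variable {k ℓ M E F : Type*} [Field k] [Field ℓ] [Field M] [Field E] [Field F]
  [Algebra k ℓ] [Algebra k M] [Algebra M E] [Algebra k E] [IsScalarTower k M E]
  [Algebra E F] [Algebra ℓ F] [Algebra k F] [IsScalarTower k ℓ F] [IsScalarTower k E F]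
  [Algebra M F] [IsScalarTower M E F] [IsScalarTower k M F]
  [FiniteDimensional k ℓ]
  (h : Function.Bijective (Algebra.TensorProduct.productMap
      (IsScalarTower.toAlgHom k ℓ F) (IsScalarTower.toAlgHom k E F)))

include h in
/-- `M ℓ` is the constant extension of `M` -/
theorem bijective_Ms : Function.Bijective (Algebra.TensorProduct.productMap
      (IsScalarTower.toAlgHom k ℓ (Ms ℓ M F)) (IsScalarTower.toAlgHom k M (Ms ℓ M F))) := by
  set pM := Algebra.TensorProduct.productMap
      (IsScalarTower.toAlgHom k ℓ (Ms ℓ M F)) (IsScalarTower.toAlgHom k M (Ms ℓ M F)) with hpM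
  set pF := Algebra.TensorProduct.productMap
      (IsScalarTower.toAlgHom k ℓ F) (IsScalarTower.toAlgHom k E F) with hpF
  let j : ℓ ⊗[k] M →ₐ[k] ℓ ⊗[k] E :=
    Algebra.TensorProduct.map (AlgHom.id k ℓ) (IsScalarTower.toAlgHom k M E)
  have hj : Function.Injective j :=
    Module.Flat.lTensor_preserves_injective_linearMap (M := ℓ)
      (IsScalarTower.toAlgHom k M E).toLinearMap (algebraMap M E).injective
  have hcomp : ∀ t : ℓ ⊗[k] M, ((pM t : Ms ℓ M F) : F) = pF (j t) := by
    intro t
    induction t using TensorProduct.induction_on with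
    | zero => simp
    | tmul c m =>
      simp only [hpM, hpF, j, Algebra.TensorProduct.map_tmul,
        Algebra.TensorProduct.productMap_apply_tmul, AlgHom.id_apply, IsScalarTower.coe_toAlgHom']
      rw [MulMemClass.coe_mul, algebraMap_ℓ_Ms, ← IsScalarTower.algebraMap_apply M E F]
      rfl
    | add a b ha hb => rw [map_add, map_add, map_add, AddMemClass.coe_add, ha, hb]
  constructor
  · intro a b hab
    apply hj
    apply h.1
    rw [← hcomp, ← hcomp, hab]
  · intro y
    have hy : (y : F) ∈ Algebra.adjoin M (Set.range (algebraMap ℓ F)) := by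
      rw [← Ms_toSubalgebra k]; exact y.2
    have key : ∀ x ∈ Algebra.adjoin M (Set.range (algebraMap ℓ F)),
        ∃ t : ℓ ⊗[k] M, ((pM t : Ms ℓ M F) : F) = x := by
      intro x hx
      induction hx using Algebra.adjoin_induction with
      | mem x hx =>
        obtain ⟨c, rfl⟩ := hx
        refine ⟨c ⊗ₜ 1, ?_⟩
        rw [hcomp]
        simp only [hpF, j, Algebra.TensorProduct.map_tmul,
          Algebra.TensorProduct.productMap_apply_tmul, AlgHom.id_apply, map_one, mul_one,
          IsScalarTower.coe_toAlgHom']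
      | algebraMap m =>
        refine ⟨1 ⊗ₜ m, ?_⟩
        rw [hcomp]
        simp only [hpF, j, Algebra.TensorProduct.map_tmul,
          Algebra.TensorProduct.productMap_apply_tmul, map_one, one_mul,
          IsScalarTower.coe_toAlgHom']
        rw [← IsScalarTower.algebraMap_apply M E F]
      | add x y _ _ hx hy =>
        obtain ⟨a, ha⟩ := hx
        obtain ⟨b, hb⟩ := hy
        exact ⟨a + b, by rw [map_add, AddMemClass.coe_add, ha, hb]⟩
      | mul x y _ _ hx hy =>
        obtain ⟨a, ha⟩ := hx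
        obtain ⟨b, hb⟩ := hy
        exact ⟨a * b, by rw [map_mul, MulMemClass.coe_mul, ha, hb]⟩
    obtain ⟨t, ht⟩ := key _ hy
    exact ⟨t, Subtype.ext ht⟩

lemma tensAut_fix_Ms (σ : E ≃ₐ[M] E) (y : Ms ℓ M F) :
    tensAut h (σ.restrictScalars k) 1 (y : F) = y := by
  have hy : (y : F) ∈ Algebra.adjoin M (Set.range (algebraMap ℓ F)) := by
    rw [← Ms_toSubalgebra k]; exact y.2
  have key : ∀ x ∈ Algebra.adjoin M (Set.range (algebraMap ℓ F)),
      tensAut h (σ.restrictScalars k) 1 x = x := by
    intro x hx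
    induction hx using Algebra.adjoin_induction with
    | mem x hx =>
      obtain ⟨c, rfl⟩ := hx
      rw [tensAut_algebraMap_ℓ]; rfl
    | algebraMap m =>
      rw [IsScalarTower.algebraMap_apply M E F, tensAut_algebraMap_K]
      congr 1
      exact σ.commutes m
    | add x y _ _ hx hy => rw [map_add, hx, hy]
    | mul x y _ _ hx hy => rw [map_mul, hx, hy]
  exact key _ hy

/-- the lift of an automorphism of `E/M` to `F / M ℓ` -/
noncomputable def liftU (σ : E ≃ₐ[M] E) : F ≃ₐ[Ms ℓ M F] F :=
  AlgEquiv.ofRingEquiv (f := (tensAut h (σ.restrictScalars k) 1).toRingEquiv)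
    (fun y => tensAut_fix_Ms h σ y)

lemma liftU_apply (σ : E ≃ₐ[M] E) (y : F) :
    liftU h σ y = tensAut h (σ.restrictScalars k) 1 y := rfl

lemma liftU_injective : Function.Injective (liftU h (M := M)) := by
  intro σ₁ σ₂ h12
  apply AlgEquiv.ext
  intro e
  have := DFunLike.congr_fun h12 (algebraMap E F e)
  rw [liftU_apply, liftU_apply, tensAut_algebraMap_K, tensAut_algebraMap_K] at this
  exact (algebraMap E F).injective this

/-- compatibility of the constant automorphisms of `F` and of `M ℓ` -/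
theorem tensAut_algebraMap_Ms (φ : ℓ ≃ₐ[k] ℓ) (y : Ms ℓ M F) :
    tensAut h 1 φ (algebraMap (Ms ℓ M F) F y) =
      algebraMap (Ms ℓ M F) F (constAut (bijective_Ms h) φ y) := by
  let f : Ms ℓ M F →ₐ[k] F :=
    ((tensAut h 1 φ : F ≃ₐ[k] F) : F →ₐ[k] F).comp (IsScalarTower.toAlgHom k (Ms ℓ M F) F)
  let g : Ms ℓ M F →ₐ[k] F :=
    (IsScalarTower.toAlgHom k (Ms ℓ M F) F).comp
      ((tensAut (bijective_Ms h) (1 : M ≃ₐ[k] M) φ : Ms ℓ M F ≃ₐ[k] Ms ℓ M F) : Ms ℓ M F →ₐ[k] Ms ℓ M F)
  have hfg : f = g := by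
    apply algHom_ext_constExt (bijective_Ms h)
    · intro m
      simp only [f, g, AlgHom.comp_apply, AlgEquiv.coe_algHom, IsScalarTower.coe_toAlgHom']
      rw [tensAut_algebraMap_K, ← IsScalarTower.algebraMap_apply M (Ms ℓ M F) F,
        IsScalarTower.algebraMap_apply M E F, tensAut_algebraMap_K, AlgEquiv.one_apply,
        AlgEquiv.one_apply, ← IsScalarTower.algebraMap_apply M E F,
        ← IsScalarTower.algebraMap_apply M (Ms ℓ M F) F]
    · intro c
      simp only [f, g, AlgHom.comp_apply, AlgEquiv.coe_algHom, IsScalarTower.coe_toAlgHom']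
      rw [tensAut_algebraMap_ℓ, ← IsScalarTower.algebraMap_apply ℓ (Ms ℓ M F) F,
        ← IsScalarTower.algebraMap_apply ℓ (Ms ℓ M F) F, tensAut_algebraMap_ℓ]
  exact DFunLike.congr_fun hfg y

end main

section galois

variable {k ℓ M E F : Type*} [Field k] [Field ℓ] [Field M] [Field E] [Field F]
  [Algebra k ℓ] [Algebra k M] [Algebra M E] [Algebra k E] [IsScalarTower k M E]
  [Algebra E F] [Algebra ℓ F] [Algebra k F] [IsScalarTower k ℓ F] [IsScalarTower k E F]
  [Algebra M F] [IsScalarTower M E F] [IsScalarTower k M F]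
  [FiniteDimensional k ℓ] [FiniteDimensional M E] [IsGalois M E]
  (h : Function.Bijective (Algebra.TensorProduct.productMap
      (IsScalarTower.toAlgHom k ℓ F) (IsScalarTower.toAlgHom k E F)))

include h in
/-- `F / M ℓ` is Galois with group `Gal(E/M)` -/
theorem liftU_bijective :
    FiniteDimensional (Ms ℓ M F) F ∧ Module.finrank (Ms ℓ M F) F = Module.finrank M E ∧
      IsGalois (Ms ℓ M F) F ∧ Function.Bijective (liftU h (M := M)) := by
  haveI : FiniteDimensional E F := FF.finiteDimensional_constExt h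
  haveI : FiniteDimensional M F := Module.Finite.trans E F
  haveI : FiniteDimensional (Ms ℓ M F) F := inferInstance
  have hM := bijective_Ms h (M := M)
  have h1 : Module.finrank M (Ms ℓ M F) = Module.finrank k ℓ := FF.finrank_constExt hM
  have h2 : Module.finrank E F = Module.finrank k ℓ := FF.finrank_constExt h
  have h3 := Module.finrank_mul_finrank M (Ms ℓ M F) F
  have h4 := Module.finrank_mul_finrank M E F
  have hs0 : 0 < Module.finrank k ℓ := Module.finrank_pos
  have hrank : Module.finrank (Ms ℓ M F) F = Module.finrank M E := by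
    rw [h1] at h3
    rw [h2, ← h3] at h4
    exact Nat.eq_of_mul_eq_mul_left hs0 (h4.symm.trans (mul_comm _ _))
  have hinj := liftU_injective h (M := M)
  have hcardU : Nat.card (E ≃ₐ[M] E) = Module.finrank M E := IsGalois.card_aut_eq_finrank M E
  have hle : Nat.card (F ≃ₐ[Ms ℓ M F] F) ≤ Module.finrank (Ms ℓ M F) F := by
    rw [Nat.card_eq_fintype_card]; exact AlgEquiv.card_le
  have hge : Nat.card (E ≃ₐ[M] E) ≤ Nat.card (F ≃ₐ[Ms ℓ M F] F) :=
    Nat.card_le_card_of_injective _ hinj
  have hcard : Nat.card (F ≃ₐ[Ms ℓ M F] F) = Module.finrank (Ms ℓ M F) F := by omega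
  refine ⟨inferInstance, hrank, IsGalois.of_card_aut_eq_finrank _ _ hcard, ?_⟩
  rw [Nat.bijective_iff_injective_and_card]
  exact ⟨hinj, by omega⟩

end galois

end Groth.Agent.H7.RH
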