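import Groth.Agent.Lib.Helper7.RHC2
import Groth.Agent.Lib.Helper7.RHX
import Groth.Agent.Lib.Helper7.RHG
import Groth.Agent.Lib.Helper7.Hil1

/-! Rationality of the places above fixed rational places; auxiliary place lemmas (helper7). -/

set_option autoImplicit false
set_option linter.unusedSectionVars false

attribute [-instance] IsLocalRing.instModuleResidueFieldOfAlgebra

namespace Groth.Agent.H7.RH

open FunFld TensorProduct Groth.Agent.H7.Zeta

section deg

variable {k K K' : Type*} [Field k] [Field K] [Field K'] [Algebra k K] [Algebra K K'] [Algebra k K']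
  [IsScalarTower k K K']

lemma deg_dvd_of_isOver {Q : Place k K'} {P : Place k K} (h : IsOver Q P) : P.deg ∣ Q.deg :=
  Dvd.intro_left _ (Hil.finrank_F0_mul h)

/-- in a Galois extension the degree of a place divides `[K':K] deg P` -/
theorem deg_dvd_of_isGalois [FiniteDimensional K K'] [IsGalois K K'] (hK : IsFunctionField k K)
    {Q : Place k K'} {P : Place k K} (h : IsOver Q P) :
    Q.deg ∣ Module.finrank K K' * P.deg := by
  obtain ⟨e, he⟩ := h
  have h1 := card_decomposition_mul_deg hK he
  have h2 := card_isOver_mul_card_decomposition (⟨e, he⟩ : IsOver Q P)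
  have h3 : Nat.card (Q.O.decompositionSubgroup K) ∣ Module.finrank K K' := Dvd.intro_left _ h2
  have h4 : e * Q.deg ∣ Module.finrank K K' * P.deg := by
    rw [← h1]; exact Nat.mul_dvd_mul_right h3 _
  exact (Dvd.intro_left e rfl).trans h4

end deg

section exist

variable {k ℓ K K' : Type*} [Field k] [Field ℓ] [Field K] [Field K'] [Algebra k ℓ] [Algebra ℓ K]
  [Algebra k K] [IsScalarTower k ℓ K] [Algebra K K'] [Algebra ℓ K'] [Algebra k K']
  [IsScalarTower k ℓ K'] [IsScalarTower ℓ K K'] [IsScalarTower k K K']
  [Algebra.IsAlgebraic k ℓ] [FiniteDimensional K K']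

/-- places over `k` of a function field over `ℓ ⊇ k` extend to finite extensions -/
theorem exists_isOver_of_const (hK : IsFunctionField ℓ K) (P : Place k K) :
    ∃ Q : Place k K', IsOver Q P := by
  obtain ⟨Q', e, he⟩ := PI.exists_isOver (K' := K') hK (up (k' := ℓ) P)
  exact ⟨down (k := k) Q', e, fun x => he x⟩

end exist

end Groth.Agent.H7.RH
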