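import Groth.Agent.Lib.Helper7.RHR

/-! The counting theorem `∑_σ N(σ) = [E:M] N_r(M)` (helper7). -/

set_option autoImplicit false
set_option linter.unusedSectionVars false

attribute [-instance] IsLocalRing.instModuleResidueFieldOfAlgebra

namespace Groth.Agent.H7.RH

open FunFld TensorProduct Groth.Agent.H7.Zeta

universe u

section count

variable {k ℓ : Type u} {M E F : Type*} [Field k] [Field ℓ] [Field M] [Field E] [Field F]
  [Algebra k ℓ] [Algebra k M] [Algebra M E] [Algebra k E] [IsScalarTower k M E]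
  [Algebra E F] [Algebra ℓ F] [Algebra k F] [IsScalarTower k ℓ F] [IsScalarTower k E F]
  [Algebra M F] [IsScalarTower M E F] [IsScalarTower k M F]
  [Finite k] [FiniteDimensional k ℓ] [FiniteDimensional M E] [IsGalois M E]
  (h : Function.Bijective (Algebra.TensorProduct.productMap
      (IsScalarTower.toAlgHom k ℓ F) (IsScalarTower.toAlgHom k E F)))

/-- the number of rational places `Q` of `F` with `Q^{σ ⊗ 1} = Q^{1 ⊗ φ}` -/
noncomputable def Nfix (σ : E ≃ₐ[k] E) (φ : ℓ ≃ₐ[k] ℓ) : ℕ :=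
  Set.ncard {Q : Place k F | Q.deg = Module.finrank k ℓ ∧
    Q.conj (tensAut h σ 1) = Q.conj (tensAut h 1 φ)}

variable (hE : IsFunctionField k E) (hM : IsFunctionField k M)
  (φ₀ : ℓ ≃ₐ[k] ℓ) (hφ₀ : ∀ c, φ₀ c = c ^ Nat.card k)

include hE hM hφ₀ in
/-- all places above a fixed rational place of `M ℓ` are rational -/
theorem deg_eq_of_isOver_fixed {r : ℕ} (hrs : Module.finrank M E * r ∣ Module.finrank k ℓ)
    {Q'' : Place k (Ms ℓ M F)} (hdeg : Q''.deg = Module.finrank k ℓ)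
    (hfix : Q''.conj (constAut (bijective_Ms h) φ₀ ^ r) = Q'')
    {Q : Place k F} (hQ : IsOver Q Q'') : Q.deg = Module.finrank k ℓ := by
  have hMs := bijective_Ms h (M := M)
  haveI : FiniteDimensional M (Ms ℓ M F) := FF.finiteDimensional_constExt hMs
  haveI : FiniteDimensional E F := FF.finiteDimensional_constExt h
  set s := Module.finrank k ℓ with hs
  -- the place of `M` below
  obtain ⟨P, e₁, hP⟩ := exists_isOverWith hM.isFF1 Q''
  have hPQ'' : IsOver Q'' P := ⟨e₁, hP⟩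
  have h1 := deg_constExt hM hMs P hPQ''
  rw [hdeg, ← hs] at h1
  have hds : P.deg ∣ s := by rw [h1]; exact Nat.dvd_lcm_left _ _
  have h3 := (conj_frob_pow_eq_iff hM hMs φ₀ hφ₀ hPQ'' r).1 hfix
  rw [← hs, Nat.gcd_eq_left hds] at h3
  -- the place of `E` below
  obtain ⟨R, e₂, hR⟩ := exists_isOverWith hE.isFF1 Q
  have hQR : IsOver Q R := ⟨e₂, hR⟩
  obtain ⟨P', e₃, hP'⟩ := exists_isOverWith hM.isFF1 R
  obtain ⟨e₄, hQ4⟩ := hQ
  have hQP : IsOver Q P := ⟨_, hQ4.trans hP⟩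
  have hQP' : IsOver Q P' := ⟨_, hR.trans hP'⟩
  have hPP' : P = P' := hQP.unique hQP'
  subst hPP'
  have hRdeg : R.deg ∣ Module.finrank M E * P.deg := deg_dvd_of_isGalois hM ⟨e₃, hP'⟩
  have hRs : R.deg ∣ s := (hRdeg.trans (Nat.mul_dvd_mul_left _ h3)).trans hrs
  rw [deg_constExt hE h R hQR, ← hs]
  exact Nat.lcm_eq_right hRs

include hE hM hφ₀ in
/-- **Counting theorem**: `∑_{σ ∈ Gal(E/M)} N_r(σ) = [E:M] N_r(M)`. -/
theorem sum_Nfix {r : ℕ} (hr : 0 < r)
    (hrs : Module.finrank M E * r ∣ Module.finrank k ℓ) :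
    ∑ σ : E ≃ₐ[M] E, Nfix h (σ.restrictScalars k) (φ₀ ^ r) =
      Module.finrank M E * Nm k M r := by
  classical
  obtain ⟨hfdF, hrank, hgal, hbij⟩ := liftU_bijective h (M := M)
  haveI := hfdF
  haveI := hgal
  have hMs := bijective_Ms h (M := M)
  haveI : FiniteDimensional M (Ms ℓ M F) := FF.finiteDimensional_constExt hMs
  set s := Module.finrank k ℓ with hs
  have hr_s : r ∣ s := (Dvd.intro_left _ rfl).trans hrs
  obtain ⟨hfinC, hcardC⟩ := card_fixed_rational hM hMs φ₀ hφ₀ hr hr_s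
  set SC := hfinC.toFinset with hSC
  have hmemSC : ∀ Q'' : Place k (Ms ℓ M F), Q'' ∈ SC ↔
      (Q''.deg = s ∧ Q''.conj (constAut hMs φ₀ ^ r) = Q'') := fun Q'' => by
    rw [hSC, Set.Finite.mem_toFinset]; rfl
  have hcardSC : SC.card = Nm k M r := by
    rw [← hcardC, Set.ncard_eq_toFinset_card _ hfinC]
  have hMsFF1 : IsFF1 k (Ms ℓ M F) := hM.isFF1.of_finite
  let Ys : Place k (Ms ℓ M F) → Finset (Place k F) := fun Q'' =>
    (finite_isOver (K' := F) hMsFF1 Q'').toFinset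
  have hmemYs : ∀ Q'' Q, Q ∈ Ys Q'' ↔ IsOver Q Q'' := fun Q'' Q => by simp [Ys]
  set X := SC.biUnion Ys with hX
  set Φ := tensAut h (1 : E ≃ₐ[k] E) (φ₀ ^ r) with hΦ
  set ΦM := constAut hMs φ₀ ^ r with hΦMdef
  have hΦM : ∀ y : Ms ℓ M F, Φ (algebraMap _ F y) = algebraMap _ F (ΦM y) := by
    intro y
    rw [hΦ, tensAut_algebraMap_Ms]
    congr 1
    have : constAut hMs (φ₀ ^ r) = constAut hMs φ₀ ^ r := map_pow (constAutHom hMs) φ₀ r
    rw [this]
  have hover : ∀ (Q : Place k F) (Q'' : Place k (Ms ℓ M F)) (e : ℕ), IsOverWith Q Q'' e →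
      IsOverWith (Q.conj Φ) (Q''.conj ΦM) e := by
    intro Q Q'' e he y
    rw [Place.conj_apply, hΦM, he, Place.conj_apply]
  have hconjU : ∀ (σ : E ≃ₐ[M] E) (Q : Place k F),
      Q.conj (liftU h σ) = Q.conj (tensAut h (σ.restrictScalars k) 1) := fun σ Q =>
    Place.ext' (fun _ => rfl)
  have hIsFFMs : IsFunctionField ℓ (Ms ℓ M F) :=
    (FF.constExt hMs hM (isGeometric_of_perfectField k M hM)).1
  -- Claim A
  have hA : ∀ σ : E ≃ₐ[M] E, Nfix h (σ.restrictScalars k) (φ₀ ^ r) =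
      (X.filter (fun Q => Q.conj (liftU h σ) = Q.conj Φ)).card := by
    intro σ
    unfold Nfix
    rw [← Set.ncard_coe_finset]
    congr 1
    ext Q
    simp only [Set.mem_setOf_eq, Finset.coe_filter, hX, Finset.mem_biUnion, hmemYs, hmemSC]
    rw [← hconjU σ Q]
    constructor
    · rintro ⟨hdeg, hfix⟩
      obtain ⟨Q'', e, he⟩ := exists_isOverWith hMsFF1 Q
      have hQQ'' : IsOver Q Q'' := ⟨e, he⟩
      refine ⟨⟨Q'', ⟨?_, ?_⟩, hQQ''⟩, hfix⟩
      · have h1 : Q''.deg ∣ s := by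
          have := deg_dvd_of_isOver hQQ''
          rwa [hdeg] at this
        have h2 : s ∣ Q''.deg := by
          have := deg_down (k := k) (up (k' := ℓ) Q'')
          rw [down_up] at this
          rw [this]
          exact Dvd.intro _ rfl
        exact Nat.dvd_antisymm h1 h2
      · have h1 : IsOver (Q.conj (liftU h σ)) Q'' := hQQ''.conj _
        have h2 : IsOver (Q.conj Φ) (Q''.conj ΦM) := ⟨e, hover Q Q'' e he⟩
        rw [hfix] at h1
        exact h2.unique h1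
    · rintro ⟨⟨Q'', ⟨hdeg, hfixM⟩, hQQ''⟩, hfix⟩
      exact ⟨deg_eq_of_isOver_fixed h hE hM φ₀ hφ₀ hrs hdeg hfixM hQQ'', hfix⟩
  rw [Finset.sum_congr rfl (fun σ _ => hA σ)]
  -- reindex by `Gal(F / M ℓ)`
  have hre : ∑ σ : E ≃ₐ[M] E, (X.filter (fun Q => Q.conj (liftU h σ) = Q.conj Φ)).card =
      ∑ u : F ≃ₐ[Ms ℓ M F] F, (X.filter (fun Q => Q.conj u = Q.conj Φ)).card :=
    hbij.sum_comp (fun u : F ≃ₐ[Ms ℓ M F] F => (X.filter (fun Q => Q.conj u = Q.conj Φ)).card)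
  rw [hre]
  have hswap := Finset.sum_card_bipartiteAbove_eq_sum_card_bipartiteBelow
    (s := (Finset.univ : Finset (F ≃ₐ[Ms ℓ M F] F))) (t := X)
    (fun (u : F ≃ₐ[Ms ℓ M F] F) (Q : Place k F) => Q.conj u = Q.conj Φ)
  simp only [Finset.bipartiteAbove, Finset.bipartiteBelow] at hswap
  rw [hswap, hX]
  have hdisj : (SC : Set (Place k (Ms ℓ M F))).PairwiseDisjoint Ys := by
    intro P _ P' _ hne
    rw [Function.onFun, Finset.disjoint_left]
    intro Q hQ hQ'
    rw [hmemYs] at hQ hQ'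
    exact hne (hQ.unique hQ')
  rw [Finset.sum_biUnion hdisj]
  have hterm : ∀ Q'' ∈ SC, ∑ Q ∈ Ys Q'',
      (Finset.univ.filter (fun u : F ≃ₐ[Ms ℓ M F] F => Q.conj u = Q.conj Φ)).card =
      Module.finrank M E := by
    intro Q'' hQ''
    obtain ⟨-, hfixM⟩ := (hmemSC Q'').1 hQ''
    rw [← hrank]
    refine sum_card_conj_eq Q'' (exists_isOver_of_const hIsFFMs Q'') Φ ?_ (Ys Q'') (hmemYs Q'')
    rintro Q ⟨e, he⟩
    have := hover Q Q'' e he
    rw [hfixM] at this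
    exact ⟨e, this⟩
  rw [Finset.sum_congr rfl hterm, Finset.sum_const, smul_eq_mul, hcardSC, mul_comm]

end count

end Groth.Agent.H7.RH
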