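import Groth.Agent.Lib.Helper7.RHT
import Groth.Agent.Lib.Helper7.RHB2

/-! Genus invariance under constant extensions and the twisted bound for `Nfix` (helper7). -/

set_option autoImplicit false
set_option linter.unusedSectionVars false

attribute [-instance] IsLocalRing.instModuleResidueFieldOfAlgebra

namespace Groth.Agent.H7.RH

open FunFld TensorProduct Groth.Agent.H7.Zeta

section genus

variable {k ℓ K K' : Type*} [Field k] [Field ℓ] [Field K] [Field K'] [Algebra k ℓ] [Algebra k K]
  [Algebra K K'] [Algebra ℓ K'] [Algebra k K'] [IsScalarTower k ℓ K'] [IsScalarTower k K K']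
  [FiniteDimensional k ℓ]
  (h : Function.Bijective (Algebra.TensorProduct.productMap
      (IsScalarTower.toAlgHom k ℓ K') (IsScalarTower.toAlgHom k K K')))

include h in
lemma isConstExt_of_bijective : IsConstExt k K ℓ K' := by
  refine ⟨fun c => ?_, ?_, FF.finrank_constExt h⟩
  · rw [← IsScalarTower.algebraMap_apply, ← IsScalarTower.algebraMap_apply]
  · rw [eq_top_iff]
    intro y _
    obtain ⟨t, rfl⟩ := (tensEquiv h).surjective y
    have key : ∀ t : ℓ ⊗[k] K, tensEquiv h t ∈ Algebra.adjoin K (Set.range (algebraMap ℓ K')) := by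
      intro t
      induction t using TensorProduct.induction_on with
      | zero => rw [map_zero]; exact Subalgebra.zero_mem _
      | tmul c x =>
        rw [tensEquiv_tmul, mul_comm, ← Algebra.smul_def]
        exact Subalgebra.smul_mem _ (Algebra.subset_adjoin (Set.mem_range_self c)) x
      | add a b ha hb => rw [map_add]; exact Subalgebra.add_mem _ ha hb
    exact key t

open Polynomial in
include h in
/-- the genus is invariant under constant field extensions of finite fields -/
theorem genus_constExt [Finite k] (hK : IsFunctionField k K) (hK' : IsFunctionField ℓ K') :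
    genus ℓ K' = genus k K := by
  haveI : Finite ℓ := Module.finite_of_finite k
  obtain ⟨α, -, hα, hpair⟩ := S11040 hK
  have hq0 : (Nat.card k : ℂ) ≠ 0 := by
    have : 0 < Nat.card k := Nat.card_pos
    exact_mod_cast this.ne'
  have hα0 : ∀ i, α i ≠ 0 := fun i hi => hq0 (by rw [← hpair i, hi, zero_mul])
  have hce := isConstExt_of_bijective h
  have h61 := S11061 k K ℓ K' hK hK' hce α hα
  set s := Module.finrank k ℓ with hs
  set p : ℂ[X] := ∏ i : Fin (2 * genus k K), (1 - C (α i ^ s) * X) with hp
  have hfac : ∀ i : Fin (2 * genus k K), (1 - C (α i ^ s) * X : ℂ[X]).natDegree = 1 := by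
    intro i
    have hne : α i ^ s ≠ 0 := pow_ne_zero _ (hα0 i)
    rw [natDegree_sub_eq_right_of_natDegree_lt]
    · exact natDegree_C_mul_X _ hne
    · rw [natDegree_one, natDegree_C_mul_X _ hne]; norm_num
  have hdeg : p.natDegree = 2 * genus k K := by
    rw [hp, natDegree_prod]
    · rw [Finset.sum_congr rfl (fun i _ => hfac i)]; simp
    · intro i _ h0
      have := hfac i
      rw [h0, natDegree_zero] at this
      omega
  have hcoeff : ∀ n, p.coeff n = ((PowerSeries.coeff n (numerZ ℓ K') : ℤ) : ℂ) := by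
    intro n
    have := congrArg (PowerSeries.coeff n) h61
    rw [PowerSeries.coeff_map, Polynomial.coeff_coe] at this
    rw [← this]; rfl
  obtain ⟨h39a, h39b, -⟩ := S11039 hK'
  have h1 : 2 * genus ℓ K' ≤ p.natDegree := by
    apply le_natDegree_of_ne_zero
    rw [hcoeff]
    exact_mod_cast h39b
  have h2 : p.natDegree ≤ 2 * genus ℓ K' := by
    rw [natDegree_le_iff_coeff_eq_zero]
    intro n hn
    rw [hcoeff, h39a n hn]; simp
  omega

end genus

section bound

universe u

variable {k ℓ : Type u} {E F : Type*} [Field k] [Field ℓ] [Field E] [Field F]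
  [Algebra k ℓ] [Algebra k E] [Algebra E F] [Algebra ℓ F] [Algebra k F] [IsScalarTower k ℓ F]
  [IsScalarTower k E F] [Finite k] [FiniteDimensional k ℓ]
  (h : Function.Bijective (Algebra.TensorProduct.productMap
      (IsScalarTower.toAlgHom k ℓ F) (IsScalarTower.toAlgHom k E F)))

lemma frob_pow_apply (φ₀ : ℓ ≃ₐ[k] ℓ) (hφ₀ : ∀ c, φ₀ c = c ^ Nat.card k) (n : ℕ) (c : ℓ) :
    (φ₀ ^ n) c = c ^ (Nat.card k ^ n) := by
  induction n generalizing c with
  | zero => simp
  | succ n ih =>
    rw [pow_succ, AlgEquiv.mul_apply, ih, hφ₀, ← pow_mul, pow_succ, mul_comm]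

/-- `q`-power maps are additive on a field containing the finite field `k` -/
theorem add_pow_card_pow (k : Type*) {F : Type*} [Field k] [Finite k] [Field F] [Algebra k F]
    (a : ℕ) (x y : F) :
    (x + y) ^ (Nat.card k ^ a) = x ^ (Nat.card k ^ a) + y ^ (Nat.card k ^ a) := by
  classical
  letI : Fintype k := Fintype.ofFinite k
  obtain ⟨p, hp⟩ := CharP.exists k
  haveI : Fact p.Prime := ⟨CharP.char_is_prime k p⟩
  haveI : CharP F p := charP_of_injective_algebraMap (algebraMap k F).injective p
  obtain ⟨n, -, hn⟩ := FiniteField.card k p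
  rw [Nat.card_eq_fintype_card, hn, ← pow_mul]
  exact add_pow_char_pow x y p _

include h in
/-- the twisted Bombieri bound for `Nfix` -/
theorem Nfix_le (hF : IsFunctionField ℓ F) (σ : E ≃ₐ[k] E) (φ₀ : ℓ ≃ₐ[k] ℓ)
    (hφ₀ : ∀ c, φ₀ c = c ^ Nat.card k) (a : ℕ)
    (hq₀ : (genus ℓ F + 1) ^ 2 < Nat.card k ^ a) :
    Nfix h σ (φ₀ ^ (2 * a)) ≤
      Nat.card k ^ a * Nat.card k ^ a + (2 * genus ℓ F + 1) * Nat.card k ^ a := by
  classical
  haveI : Finite ℓ := Module.finite_of_finite k
  set q₀ := Nat.card k ^ a with hq₀def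
  set s := Module.finrank k ℓ with hs
  have hs0 : 0 < s := Module.finrank_pos
  set φ := φ₀ ^ (2 * a) with hφ
  set τ : F ≃+* F := (tensAut h σ⁻¹ φ).toRingEquiv with hτdef
  have hτapp : ∀ x, τ x = tensAut h σ⁻¹ φ x := fun _ => rfl
  unfold Nfix
  set T := {Q : Place k F | Q.deg = Module.finrank k ℓ ∧
    Q.conj (tensAut h σ 1) = Q.conj (tensAut h 1 φ)} with hT
  by_cases hfin : T.Finite
  swap
  · rw [Set.Infinite.ncard hfin]; exact Nat.zero_le _
  have hupinj : Function.Injective (up (k := k) (k' := ℓ) (K' := F)) := by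
    intro Q₁ Q₂ h12
    have := congrArg (down (k := k)) h12
    exact this
  set S : Finset (Place ℓ F) := hfin.toFinset.image (up (k' := ℓ)) with hS
  have hcard : T.ncard = S.card := by
    rw [hS, Finset.card_image_of_injective _ hupinj, Set.ncard_eq_toFinset_card _ hfin]
  rw [hcard]
  refine twisted_bombieri hF τ q₀ (add_pow_card_pow k a) ?_ hq₀ S ?_
  · intro c
    rw [hτapp, tensAut_algebraMap_ℓ, hφ, frob_pow_apply φ₀ hφ₀, hq₀def, ← pow_add, two_mul]
  · intro P hP
    rw [hS, Finset.mem_image] at hP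
    obtain ⟨Q, hQ, rfl⟩ := hP
    rw [Set.Finite.mem_toFinset, hT] at hQ
    obtain ⟨hdeg, hfix⟩ := hQ
    constructor
    · have := deg_down (k := k) (up (k' := ℓ) Q)
      rw [down_up, hdeg] at this
      have h2 : s * 1 = s * (up (k' := ℓ) Q).deg := by rw [mul_one]; exact this
      exact (Nat.eq_of_mul_eq_mul_left hs0 h2).symm
    · intro x
      change Q.1 (τ x) = Q.1 x
      have h1 := congrArg (fun P : Place k F => P.1 (tensAut h σ⁻¹ 1 x)) hfix
      simp only [Place.conj_apply] at h1
      have e1 : tensAut h σ 1 (tensAut h σ⁻¹ 1 x) = x := by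
        rw [← AlgEquiv.mul_apply, ← tensAut_mul, mul_inv_cancel, mul_one, tensAut_one]; rfl
      have e2 : tensAut h 1 φ (tensAut h σ⁻¹ 1 x) = τ x := by
        rw [← AlgEquiv.mul_apply, ← tensAut_mul, one_mul, mul_one]; rfl
      rw [e1, e2] at h1
      exact h1.symm

end bound

end Groth.Agent.H7.RH
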