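import Groth.Agent.Lib.Helper7.RHZ
import Groth.Agent.Lib.Helper7.RHA

/-! The Riemann hypothesis for function fields over finite fields (helper7). -/

set_option autoImplicit false
set_option linter.unusedSectionVars false

attribute [-instance] IsLocalRing.instModuleResidueFieldOfAlgebra

namespace Groth.Agent.H7.RH

open FunFld TensorProduct Groth.Agent.H7.Zeta IntermediateField

universe u v

section final

variable {k : Type u} {K : Type v} [Field k] [Finite k] [Field K] [Algebra k K]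

/-- `N_{2da} = q^{2da} + 1 + O(q^{da})` for a suitable `d` -/
theorem Nm_asymptotic (hK : IsFunctionField k K) :
    ∃ (d : ℕ) (C : ℝ) (a₀ : ℕ), 0 < d ∧ ∀ a, a₀ ≤ a →
      |(Nm k K (d * (2 * a)) : ℝ) - (Nat.card k : ℝ) ^ (d * (2 * a)) - 1| ≤
        C * (Nat.card k : ℝ) ^ (d * a) := by
  obtain ⟨x, hxt, E, _, _, hfd, hgal⟩ := exists_galois_closure hK
  letI : Algebra k E := ((algebraMap K E).comp (algebraMap k K)).toAlgebra
  haveI : IsScalarTower k K E := IsScalarTower.of_algebraMap_eq (fun _ => rfl)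
  exact Nm_asymptotic_aux (E := E) hK x hxt

/-- **Riemann hypothesis**: the reciprocal roots of the `L`-polynomial have absolute value
`√q`. -/
theorem norm_sq_alpha (hK : IsFunctionField k K) {n : ℕ} (α : Fin n → ℂ)
    (hα : PowerSeries.map (Int.castRingHom ℂ) (numerZ k K) =
      ((∏ i, (1 - Polynomial.C (α i) * Polynomial.X) : Polynomial ℂ) : PowerSeries ℂ))
    (hpair : ∀ i, ∃ j, α i * α j = (Nat.card k : ℂ)) (i : Fin n) :
    ‖α i‖ ^ 2 = (Nat.card k : ℝ) := by
  obtain ⟨d, C, a₀, hd, hbound⟩ := Nm_asymptotic hK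
  have hq1 : (1 : ℝ) < (Nat.card k : ℝ) := by
    have : 1 < Nat.card k := Finite.one_lt_card
    exact_mod_cast this
  have hq0 : (0 : ℝ) < (Nat.card k : ℝ) := by linarith
  have hupper : ∀ i, ‖α i‖ ^ 2 ≤ (Nat.card k : ℝ) := by
    intro i₀
    set A := max a₀ 1 with hA
    have hA1 : 1 ≤ A := le_max_right _ _
    have hAa : a₀ ≤ A := le_max_left _ _
    let β : Fin n → ℂ := fun i => (α i ^ (d * 2) / ((Nat.card k : ℝ) : ℂ) ^ d) ^ A
    have hβ : ∀ j, 1 ≤ j → ‖∑ i, β i ^ j‖ ≤ C := by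
      intro j hj
      have hAj : a₀ ≤ A * j := hAa.trans (Nat.le_mul_of_pos_right A hj)
      have hb := hbound (A * j) hAj
      have hAj0 : 0 < A * j := Nat.mul_pos hA1 hj
      have hm : 0 < d * (2 * (A * j)) := by positivity
      have hNm := Nm_eq hK α hα hm
      have hsum : ∑ i, α i ^ (d * (2 * (A * j))) =
          ((1 + (Nat.card k : ℝ) ^ (d * (2 * (A * j))) - (Nm k K (d * (2 * (A * j))) : ℝ) : ℝ) : ℂ) := by
        push_cast
        rw [hNm]; ring
      have hsplit : ∑ i, β i ^ j = (∑ i, α i ^ (d * (2 * (A * j)))) /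
          ((Nat.card k : ℝ) : ℂ) ^ (d * (A * j)) := by
        rw [Finset.sum_div]
        apply Finset.sum_congr rfl
        intro i _
        simp only [β]
        rw [← pow_mul, _root_.div_pow, ← pow_mul, ← pow_mul]
        congr 2 <;> ring
      rw [hsplit, norm_div, hsum, Complex.norm_real, norm_pow, Complex.norm_real,
        Real.norm_eq_abs, Real.norm_eq_abs, abs_of_pos hq0, div_le_iff₀ (by positivity)]
      calc |1 + (Nat.card k : ℝ) ^ (d * (2 * (A * j))) - (Nm k K (d * (2 * (A * j))) : ℝ)|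
          = |(Nm k K (d * (2 * (A * j))) : ℝ) - (Nat.card k : ℝ) ^ (d * (2 * (A * j))) - 1| := by
            rw [← abs_neg]; congr 1; ring
        _ ≤ C * (Nat.card k : ℝ) ^ (d * (A * j)) := hb
    have h1 := norm_le_one_of_bounded_power_sums β C hβ i₀
    simp only [β] at h1
    rw [norm_pow, norm_div, norm_pow, norm_pow, Complex.norm_real, Real.norm_eq_abs,
      abs_of_pos hq0] at h1
    have h2 : ‖α i₀‖ ^ (d * 2) / (Nat.card k : ℝ) ^ d ≤ 1 :=
      (pow_le_one_iff_of_nonneg (by positivity) (by omega)).1 h1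
    rw [div_le_one (by positivity), mul_comm, pow_mul] at h2
    exact (pow_le_pow_iff_left₀ (by positivity) hq0.le hd.ne').1 h2
  apply le_antisymm (hupper i)
  obtain ⟨j, hj⟩ := hpair i
  have h1 : ‖α i‖ * ‖α j‖ = (Nat.card k : ℝ) := by
    rw [← norm_mul, hj, Complex.norm_natCast]
  have h2 := hupper j
  have h3 : 0 ≤ ‖α i‖ := norm_nonneg _
  have h4 : 0 ≤ ‖α j‖ := norm_nonneg _
  by_contra hlt
  push Not at hlt
  have h5 : (‖α i‖ * ‖α j‖) ^ 2 < (Nat.card k : ℝ) * (Nat.card k : ℝ) := by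
    rw [mul_pow]
    calc ‖α i‖ ^ 2 * ‖α j‖ ^ 2 ≤ ‖α i‖ ^ 2 * (Nat.card k : ℝ) :=
          mul_le_mul_of_nonneg_left h2 (by positivity)
      _ < (Nat.card k : ℝ) * (Nat.card k : ℝ) := mul_lt_mul_of_pos_right hlt hq0
  rw [h1] at h5
  nlinarith

end final

end Groth.Agent.H7.RH
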