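import Groth.Agent.Lib.Helper7.RHX

/-! The compositum `M ℓ` as a constant extension when `ℓ ⊗ M` is a field (helper7). -/

set_option autoImplicit false
set_option linter.unusedSectionVars false

namespace Groth.Agent.H7.RH

open FunFld TensorProduct

section

variable {k ℓ M F : Type*} [Field k] [Field ℓ] [Field M] [Field F]
  [Algebra k ℓ] [Algebra k M] [Algebra ℓ F] [Algebra k F] [IsScalarTower k ℓ F]
  [Algebra M F] [IsScalarTower k M F] [FiniteDimensional k ℓ]

/-- if `ℓ ⊗ M` is a field then the compositum `M ℓ` is the constant extension of `M` -/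
theorem bijective_Ms_of_isField (hfield : IsField (ℓ ⊗[k] M)) :
    Function.Bijective (Algebra.TensorProduct.productMap
      (IsScalarTower.toAlgHom k ℓ (Ms ℓ M F)) (IsScalarTower.toAlgHom k M (Ms ℓ M F))) := by
  set pM := Algebra.TensorProduct.productMap
      (IsScalarTower.toAlgHom k ℓ (Ms ℓ M F)) (IsScalarTower.toAlgHom k M (Ms ℓ M F)) with hpM
  constructor
  · letI : Field (ℓ ⊗[k] M) := hfield.toField
    exact (pM : ℓ ⊗[k] M →+* Ms ℓ M F).injective
  · intro y
    have hy : (y : F) ∈ Algebra.adjoin M (Set.range (algebraMap ℓ F)) := by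
      rw [← Ms_toSubalgebra k]; exact y.2
    have key : ∀ x ∈ Algebra.adjoin M (Set.range (algebraMap ℓ F)),
        ∃ t : ℓ ⊗[k] M, ((pM t : Ms ℓ M F) : F) = x := by
      intro x hx
      induction hx using Algebra.adjoin_induction with
      | mem x hx =>
        obtain ⟨c, rfl⟩ := hx
        refine ⟨c ⊗ₜ 1, ?_⟩
        simp only [hpM, Algebra.TensorProduct.productMap_apply_tmul, map_one, mul_one,
          IsScalarTower.coe_toAlgHom']
        rfl
      | algebraMap m =>
        refine ⟨1 ⊗ₜ m, ?_⟩
        simp only [hpM, Algebra.TensorProduct.productMap_apply_tmul, map_one, one_mul,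
          IsScalarTower.coe_toAlgHom']
        rfl
      | add x y _ _ hx hy =>
        obtain ⟨a, ha⟩ := hx
        obtain ⟨b, hb⟩ := hy
        exact ⟨a + b, by rw [map_add, AddMemClass.coe_add, ha, hb]⟩
      | mul x y _ _ hx hy =>
        obtain ⟨a, ha⟩ := hx
        obtain ⟨b, hb⟩ := hy
        exact ⟨a * b, by rw [map_mul, MulMemClass.coe_mul, ha, hb]⟩
    obtain ⟨t, ht⟩ := key _ hy
    exact ⟨t, Subtype.ext ht⟩

end

end Groth.Agent.H7.RH
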