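import Groth.Agent.Lib.Helper7.RHY
import Groth.Agent.Lib.Helper7.RHM
import Groth.Agent.Lib.Helper7.Hil0
import Groth.Agent.Lib.Helper5.Geom.Sep

/-! Reduction of the general case to a Galois tower over the exact constant field (helper7). -/

set_option autoImplicit false
set_option linter.unusedSectionVars false

attribute [-instance] IsLocalRing.instModuleResidueFieldOfAlgebra

namespace Groth.Agent.H7.RH

open FunFld TensorProduct Groth.Agent.H7.Zeta IntermediateField

universe u v

section galoisClosure

/-- a finite extension embedded in a Galois extension lies in a finite Galois extension -/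
theorem exists_galois_closure_aux {K₀ K Ω : Type v} [Field K₀] [Field K] [Field Ω] [Algebra K₀ K]
    [Algebra K₀ Ω] [IsGalois K₀ Ω] [FiniteDimensional K₀ K] (ι : K →ₐ[K₀] Ω) :
    ∃ (E : Type v) (_ : Field E) (_ : Algebra K₀ E) (_ : Algebra K E)
      (_ : IsScalarTower K₀ K E) (_ : FiniteDimensional K₀ E), IsGalois K₀ E := by
  letI : Algebra K Ω := ι.toRingHom.toAlgebra
  haveI : IsScalarTower K₀ K Ω := IsScalarTower.of_algebraMap_eq (fun y => (ι.commutes y).symm)
  exact ⟨normalClosure K₀ K Ω, inferInstance, inferInstance, inferInstance, inferInstance,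
    inferInstance, inferInstance⟩

variable {k : Type u} {K : Type v} [Field k] [Field K] [Algebra k K]

/-- a function field over a perfect field sits in a Galois extension of some `k(x)` -/
theorem exists_galois_closure [PerfectField k] (hK : IsFunctionField k K) :
    ∃ (x : K) (_ : Transcendental k x) (E : Type v) (_ : Field E) (_ : Algebra K E),
      FiniteDimensional (adjoin k ({x} : Set K)) E ∧ IsGalois (adjoin k ({x} : Set K)) E := by
  have hg := isGeometric_of_perfectField k K hK
  obtain ⟨x, hxt, hsep⟩ := Geom.exists_separating hK hg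
  haveI := hsep
  haveI : FiniteDimensional (adjoin k ({x} : Set K)) K := hK.finiteDimensional_adjoin hxt
  obtain ⟨E, _, instA, instK, htower, hfd, hgal⟩ := exists_galois_closure_aux
    (IsSepClosed.lift : K →ₐ[adjoin k ({x} : Set K)] SeparableClosure (adjoin k ({x} : Set K)))
  have hinst : instA = (adjoin k ({x} : Set K)).instAlgebraSubtypeMem := by
    apply Algebra.algebra_ext
    intro y
    rw [IsScalarTower.algebraMap_apply (adjoin k ({x} : Set K)) K E]
    rfl
  subst hinst
  exact ⟨x, hxt, E, inferInstance, instK, hfd, hgal⟩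

end galoisClosure

section constField

variable {k : Type u} {E : Type v} [Field k] [Field E] [Algebra k E]

/-- the exact constant field of a weak function field is finite over the base -/
theorem finiteDimensional_algebraicClosure (hE : IsFF1 k E) :
    FiniteDimensional k (algebraicClosure k E) := by
  obtain ⟨Q⟩ := W.nonempty_place hE
  have h1 := deg_down (k := k) (up (k' := algebraicClosure k E) Q)
  rw [down_up] at h1
  have h2 := W.Place.deg_pos Q hE
  apply Module.finite_of_finrank_pos
  rcases Nat.eq_zero_or_pos (Module.finrank k (algebraicClosure k E)) with h0 | h0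
  · rw [h0, zero_mul] at h1; omega
  · exact h0

end constField

section reduction

variable {k : Type u} {K E : Type v} [Field k] [Finite k] [Field K] [Field E] [Algebra k K]
  [Algebra K E] [Algebra k E] [IsScalarTower k K E]

lemma adjoin_gen_eq_top (x : K) :
    adjoin k ({(⟨x, mem_adjoin_simple_self k x⟩ : adjoin k ({x} : Set K))} :
      Set (adjoin k ({x} : Set K))) = ⊤ := by
  rw [eq_top_iff]
  intro y _
  rw [← mem_lift, IntermediateField.lift, IntermediateField.adjoin_map]
  have : (⇑(adjoin k ({x} : Set K)).val '' {(⟨x, mem_adjoin_simple_self k x⟩ :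
      adjoin k ({x} : Set K))}) = {x} := by simp
  rw [this]
  exact y.2

/-- the asymptotic point count for a function field inside a Galois extension of a rational
subfield -/
theorem Nm_asymptotic_aux (hK : IsFunctionField k K) (x : K) (hxt : Transcendental k x)
    [FiniteDimensional (adjoin k ({x} : Set K)) E] [IsGalois (adjoin k ({x} : Set K)) E] :
    ∃ (d : ℕ) (C : ℝ) (a₀ : ℕ), 0 < d ∧ ∀ a, a₀ ≤ a →
      |(Nm k K (d * (2 * a)) : ℝ) - (Nat.card k : ℝ) ^ (d * (2 * a)) - 1| ≤
        C * (Nat.card k : ℝ) ^ (d * a) := by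
  haveI : FiniteDimensional (adjoin k ({x} : Set K)) K := hK.finiteDimensional_adjoin hxt
  haveI : FiniteDimensional K E := FiniteDimensional.right (adjoin k ({x} : Set K)) K E
  have hE1 : IsFF1 k E := hK.isFF1.of_finite
  have hE' : IsFunctionField (algebraicClosure k E) E := Hil.isFunctionField_algebraicClosure hE1
  haveI hfdk : FiniteDimensional k (algebraicClosure k E) := finiteDimensional_algebraicClosure hE1
  haveI : Finite (algebraicClosure k E) := Module.finite_of_finite k
  haveI : Algebra.IsSeparable k (algebraicClosure k E) :=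
    Algebra.IsAlgebraic.isSeparable_of_perfectField
  have hK₀' : IsFunctionField k (adjoin k ({x} : Set K)) :=
    FF.isFunctionField_sub hK _ ⟨x, mem_adjoin_simple_self k x, hxt⟩
  have hg₀' : genus k (adjoin k ({x} : Set K)) = 0 :=
    genus_eq_zero_of_adjoin_eq_top hK₀' (adjoin_gen_eq_top x)
  have h₁ := bijective_Ms_of_isField (F := E)
    (isField_tensor_of_isSeparable hK.2 (algebraicClosure k E))
  have h₀₁ := bijective_Ms_of_isField (F := E)
    (isField_tensor_of_isSeparable hK₀'.2 (algebraicClosure k E))
  have hK₁ : IsFunctionField (algebraicClosure k E) (Ms (algebraicClosure k E) K E) := by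
    refine ⟨FF.isFF1_constExt h₁ hK, fun y hy => ?_⟩
    have hy' : IsAlgebraic (algebraicClosure k E) (algebraMap (Ms (algebraicClosure k E) K E) E y) :=
      hy.algebraMap
    obtain ⟨c, hc⟩ := hE'.2 _ hy'
    exact ⟨c, Subtype.ext hc⟩
  have hK₀₁ : IsFunctionField (algebraicClosure k E)
      (Ms (algebraicClosure k E) (adjoin k ({x} : Set K)) E) := by
    refine ⟨FF.isFF1_constExt h₀₁ hK₀', fun y hy => ?_⟩
    have hy' : IsAlgebraic (algebraicClosure k E)
        (algebraMap (Ms (algebraicClosure k E) (adjoin k ({x} : Set K)) E) E y) :=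
      hy.algebraMap
    obtain ⟨c, hc⟩ := hE'.2 _ hy'
    exact ⟨c, Subtype.ext hc⟩
  have hg0 : genus (algebraicClosure k E)
      (Ms (algebraicClosure k E) (adjoin k ({x} : Set K)) E) = 0 := by
    rw [genus_constExt h₀₁ hK₀' hK₀₁, hg₀']
  have hle : ∀ y : E, y ∈ Ms (algebraicClosure k E) (adjoin k ({x} : Set K)) E →
      y ∈ Ms (algebraicClosure k E) K E := by
    have h1 : Ms (algebraicClosure k E) (adjoin k ({x} : Set K)) E ≤
        (Ms (algebraicClosure k E) K E).restrictScalars (adjoin k ({x} : Set K)) := by
      unfold Ms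
      rw [adjoin_le_iff]
      rintro _ ⟨c, rfl⟩
      exact subset_adjoin _ _ ⟨c, rfl⟩
    exact fun y hy => h1 hy
  letI algK₀₁K₁ : Algebra (Ms (algebraicClosure k E) (adjoin k ({x} : Set K)) E)
      (Ms (algebraicClosure k E) K E) :=
    (RingHom.codRestrict (algebraMap (Ms (algebraicClosure k E) (adjoin k ({x} : Set K)) E) E)
      (Ms (algebraicClosure k E) K E) (fun y => hle _ y.2)).toAlgebra
  haveI : IsScalarTower (algebraicClosure k E)
      (Ms (algebraicClosure k E) (adjoin k ({x} : Set K)) E) (Ms (algebraicClosure k E) K E) :=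
    IsScalarTower.of_algebraMap_eq (fun c => Subtype.ext rfl)
  haveI : IsScalarTower (Ms (algebraicClosure k E) (adjoin k ({x} : Set K)) E)
      (Ms (algebraicClosure k E) K E) E :=
    IsScalarTower.of_algebraMap_eq (fun c => rfl)
  -- the field size
  set d := Module.finrank k (algebraicClosure k E) with hd
  have hd0 : 0 < d := Module.finrank_pos
  have hcard : Nat.card (algebraicClosure k E) = Nat.card k ^ d :=
    Module.natCard_eq_pow_finrank
  have hq2 : 2 ≤ Nat.card k ^ d := by
    have h1 : 1 < Nat.card k := Finite.one_lt_card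
    calc 2 ≤ Nat.card k := h1
      _ = Nat.card k ^ 1 := (pow_one _).symm
      _ ≤ Nat.card k ^ d := Nat.pow_le_pow_right (by omega) hd0
  refine ⟨d, ((Module.finrank (Ms (algebraicClosure k E) (adjoin k ({x} : Set K)) E) E *
    (2 * genus (algebraicClosure k E) E + 1) : ℕ) : ℝ), (genus (algebraicClosure k E) E + 1) ^ 2 + 1,
    hd0, fun a ha => ?_⟩
  have ha0 : 0 < a := by omega
  have hq : (genus (algebraicClosure k E) E + 1) ^ 2 < Nat.card (algebraicClosure k E) ^ a := by
    rw [hcard]
    calc (genus (algebraicClosure k E) E + 1) ^ 2 < a := by omega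
      _ < 2 ^ a := Nat.lt_two_pow_self
      _ ≤ (Nat.card k ^ d) ^ a := Nat.pow_le_pow_left hq2 a
  have hmain := Nm_bounds_real (K₀ := Ms (algebraicClosure k E) (adjoin k ({x} : Set K)) E)
    (K := Ms (algebraicClosure k E) K E) hE' hK₁ hK₀₁ hg0 a ha0 hq
  rw [Nm_constExt hK h₁ hK₁ (by omega : 0 < 2 * a), hcard] at hmain
  rw [← hd] at hmain
  have e1 : ((Nat.card k ^ d : ℕ) : ℝ) ^ (2 * a) = (Nat.card k : ℝ) ^ (d * (2 * a)) := by
    push_cast; rw [← pow_mul]
  have e2 : ((Nat.card k ^ d : ℕ) : ℝ) ^ a = (Nat.card k : ℝ) ^ (d * a) := by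
    push_cast; rw [← pow_mul]
  rw [e1, e2] at hmain
  exact hmain

end reduction

end Groth.Agent.H7.RH
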