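import Groth.Agent.Lib.Helper7.GeoSep
import Groth.Agent.Lib.Helper5.Geom.WeilKaehler
import Groth.Agent.Lib.Helper5.Geom.DiffExp
import Groth.Agent.Lib.Helper5.FunFld.Ext2

/-! Riemann–Hurwitz through expansions (helper7). -/

set_option autoImplicit false
set_option linter.unusedSectionVars false

attribute [-instance] IsLocalRing.instModuleResidueFieldOfAlgebra

namespace Groth.Agent.H7.RHur

open FunFld LocRes WithZero LaurentSeries HahnSeries Groth.Agent.H7.Zeta

universe u v w

section residue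

variable {k : Type u} {K : Type v} [Field k] [Field K] [Algebra k K] {F : Type w} [Field F]
  [Algebra k F]

lemma mem_powerSeries_as_subring (P : Place k K) {φ : K →ₐ[k] F⸨X⸩} (hφ : IsExpansionAt P.1 φ)
    (a : P.O) : φ a ∈ LaurentSeries.powerSeries_as_subring F := by
  have h1 : Valued.v (φ a) ≤ (1 : ℤᵐ⁰) := by rw [hφ.1]; exact P.mem_O_iff.1 a.2
  obtain ⟨G, hG⟩ := (LaurentSeries.val_le_one_iff_eq_coe F (φ a)).1 h1
  exact Subring.mem_map.2 ⟨G, trivial, hG⟩

/-- the constant-term ring hom on the valuation ring of an expansion -/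
noncomputable def constHom (P : Place k K) {φ : K →ₐ[k] F⸨X⸩} (hφ : IsExpansionAt P.1 φ) :
    P.O →+* F :=
  (PowerSeries.constantCoeff (R := F)).comp
    (((LaurentSeries.powerSeriesEquivSubring F).symm : _ →+* _).comp
      (((φ : K →+* F⸨X⸩).comp P.O.subtype).codRestrict (LaurentSeries.powerSeries_as_subring F)
        (fun a => mem_powerSeries_as_subring P hφ a)))

lemma constHom_apply (P : Place k K) {φ : K →ₐ[k] F⸨X⸩} (hφ : IsExpansionAt P.1 φ) (a : P.O) :
    constHom P hφ a = (φ a).coeff 0 := by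
  set b : LaurentSeries.powerSeries_as_subring F := ⟨φ a, mem_powerSeries_as_subring P hφ a⟩ with hb
  set G := (LaurentSeries.powerSeriesEquivSubring F).symm b with hG
  have h1 : (LaurentSeries.powerSeriesEquivSubring F G : F⸨X⸩) = φ a := by
    rw [hG, RingEquiv.apply_symm_apply]
  rw [LaurentSeries.powerSeriesEquivSubring_coe_apply] at h1
  have h2 : constHom P hφ a = PowerSeries.constantCoeff G := rfl
  rw [h2, ← h1, ← PowerSeries.coeff_zero_eq_constantCoeff_apply]
  exact (HahnSeries.ofPowerSeries_apply_coeff G 0).symm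

lemma lt_one_iff_le_exp (x : ℤᵐ⁰) : x < 1 ↔ x ≤ exp (-1 : ℤ) := by
  rcases eq_or_ne x 0 with rfl | hx
  · simp
  · obtain ⟨n, rfl⟩ : ∃ n : ℤ, x = exp n := ⟨log x, (exp_log hx).symm⟩
    rw [← exp_zero, exp_lt_exp, exp_le_exp]
    omega

lemma constHom_eq_zero_iff (P : Place k K) {φ : K →ₐ[k] F⸨X⸩} (hφ : IsExpansionAt P.1 φ)
    (a : P.O) : constHom P hφ a = 0 ↔ P.1 (a : K) < 1 := by
  rw [constHom_apply, ← hφ.1, lt_one_iff_le_exp]
  have h1 : Valued.v (φ a) ≤ exp (-(0 : ℤ)) := by
    rw [neg_zero, exp_zero, hφ.1]; exact P.mem_O_iff.1 a.2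
  rw [LaurentSeries.valuation_le_iff_coeff_lt_eq_zero] at h1
  have h2 := LaurentSeries.valuation_le_iff_coeff_lt_eq_zero F (D := 1) (f := φ a)
  rw [h2]
  constructor
  · intro h0 n hn
    rcases lt_or_eq_of_le (show n ≤ 0 by omega) with h | rfl
    · exact h1 n h
    · exact h0
  · intro h
    exact h 0 (by norm_num)

/-- the coefficient field of an expansion is the residue field -/
theorem exists_residue_algHom (P : Place k K) {φ : K →ₐ[k] F⸨X⸩} (hφ : IsExpansionAt P.1 φ) :
    ∃ f : IsLocalRing.ResidueField P.O →ₐ[k] F, Function.Bijective f := by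
  have hker : ∀ a ∈ IsLocalRing.maximalIdeal P.O, constHom P hφ a = 0 := by
    intro a ha
    rw [constHom_eq_zero_iff]
    rw [← IsLocalRing.residue_eq_zero_iff, P.residue_eq_zero_iff] at ha
    exact ha
  let f₀ : IsLocalRing.ResidueField P.O →+* F := Ideal.Quotient.lift _ (constHom P hφ) hker
  have hf₀ : ∀ a : P.O, f₀ (IsLocalRing.residue P.O a) = constHom P hφ a := fun a =>
    Ideal.Quotient.lift_mk _ _ _
  let f : IsLocalRing.ResidueField P.O →ₐ[k] F :=
    { f₀ with
      commutes' := fun c => by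
        change f₀ (IsLocalRing.residue P.O (algebraMap k P.O c)) = _
        rw [hf₀, constHom_apply]
        change (φ (algebraMap k K c)).coeff 0 = _
        rw [LocRes.map_algebraMap, HahnSeries.C_apply, HahnSeries.coeff_single_same] }
  refine ⟨f, f₀.injective, fun b => ?_⟩
  obtain ⟨x, hx, hxb⟩ := hφ.2.1 b
  refine ⟨IsLocalRing.residue P.O ⟨x, P.mem_O_iff.2 hx⟩, ?_⟩
  change f₀ _ = b
  rw [hf₀, constHom_apply]
  exact hxb

theorem finiteDimensional_coeffField (hK : IsFunctionField k K) (P : Place k K)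
    {φ : K →ₐ[k] F⸨X⸩} (hφ : IsExpansionAt P.1 φ) : FiniteDimensional k F := by
  obtain ⟨f, hf⟩ := exists_residue_algHom P hφ
  have hfin := P.finiteDimensional_residueField hK
  exact Module.Finite.of_surjective (hM := hfin) f.toLinearMap hf.2

end residue

section fibres

variable {k k' : Type u} {K K' : Type v} [Field k] [Field k'] [Field K] [Field K']
  [Algebra k k'] [Algebra k K] [Algebra K K'] [Algebra k' K'] [Algebra k K']
  [IsScalarTower k k' K'] [IsScalarTower k K K'] [FiniteDimensional k k'] [FiniteDimensional K K']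

lemma down_injective : Function.Injective (down (k := k) : Place k' K' → Place k K') := by
  intro Q Q' h
  apply Subtype.ext
  have h1 : (down (k := k) Q).1 = (down (k := k) Q').1 := by rw [h]
  exact h1

/-- the places above `P` form a finite set -/
lemma finite_fibre (hK : IsFunctionField k K) (below : Place k' K' → Place k K)
    (e : Place k' K' → ℕ)
    (he : ∀ Q (z : K), Q.1 (algebraMap K K' z) = (below Q).1 z ^ e Q) (P : Place k K) :
    {Q : Place k' K' | below Q = P}.Finite := by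
  refine ((finite_isOver (K' := K') hK.isFF1 P).preimage
    (down_injective (k := k) (k' := k') (K' := K')).injOn).subset ?_
  intro Q hQ
  rw [Set.mem_setOf_eq] at hQ
  subst hQ
  exact ⟨e Q, fun z => he Q z⟩

/-- the fundamental identity with constants: `[k':k] ∑ e(Q) deg_{k'} Q = [K':K] deg P` -/
theorem sum_fibre (hK : IsFunctionField k K) (below : Place k' K' → Place k K)
    (e : Place k' K' → ℕ)
    (he : ∀ Q (z : K), Q.1 (algebraMap K K' z) = (below Q).1 z ^ e Q) (P : Place k K) :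
    Module.finrank k k' * ∑ Q ∈ (finite_fibre hK below e he P).toFinset, e Q * Q.deg =
      Module.finrank K K' * P.deg := by
  classical
  set Qs₀ := (finite_isOver (K' := K') hK.isFF1 P).toFinset with hQs₀
  have hmem : ∀ Q, Q ∈ Qs₀ ↔ IsOver Q P := fun Q => by rw [hQs₀, Set.Finite.mem_toFinset]; rfl
  have h1 := sum_ramIdx_mul_deg hK P Qs₀ hmem
  have himg : Qs₀ = (finite_fibre hK below e he P).toFinset.image (down (k := k)) := by
    ext Q₀
    rw [hmem, Finset.mem_image]
    constructor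
    · intro hQ₀
      refine ⟨up (k' := k') Q₀, ?_, down_up Q₀⟩
      rw [Set.Finite.mem_toFinset, Set.mem_setOf_eq]
      have h2 : IsOver (down (k := k) (up (k' := k') Q₀)) (below (up (k' := k') Q₀)) :=
        ⟨e _, fun z => he _ z⟩
      rw [down_up] at h2
      exact h2.unique hQ₀
    · rintro ⟨Q, hQ, rfl⟩
      rw [Set.Finite.mem_toFinset, Set.mem_setOf_eq] at hQ
      subst hQ
      exact ⟨e Q, fun z => he Q z⟩
  rw [himg, Finset.sum_image (fun a _ b _ h => down_injective h)] at h1
  rw [← h1, Finset.mul_sum]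
  refine Finset.sum_congr rfl (fun Q hQ => ?_)
  rw [Set.Finite.mem_toFinset, Set.mem_setOf_eq] at hQ
  have h3 : IsOverWith (down (k := k) Q) P (e Q) := by
    subst hQ
    exact fun z => he Q z
  rw [h3.ramIdx_eq, deg_down]
  ring

end fibres

section main

variable {k k' : Type u} {K K' : Type v} [Field k] [Field k'] [Field K] [Field K']
  [Algebra k k'] [Algebra k K] [Algebra K K'] [Algebra k' K'] [Algebra k K']
  [IsScalarTower k k' K'] [IsScalarTower k K K'] [FiniteDimensional k k'] [FiniteDimensional K K']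
  [Algebra.IsSeparable K K']

/-- **Riemann–Hurwitz** -/
theorem riemann_hurwitz
    (hK : IsFunctionField k K) (hg : IsGeometric k K) (hK' : IsFunctionField k' K')
    (F : Place k K → Type w) [∀ P, Field (F P)] [∀ P, Algebra k (F P)]
    (φ : ∀ P, K →ₐ[k] LaurentSeries (F P)) (hφ : ∀ P, IsExpansionAt P.1 (φ P))
    (F' : Place k' K' → Type w) [∀ Q, Field (F' Q)] [∀ Q, Algebra k' (F' Q)]
    (ψ : ∀ Q, K' →ₐ[k'] LaurentSeries (F' Q)) (hψ : ∀ Q, IsExpansionAt Q.1 (ψ Q))
    (below : Place k' K' → Place k K) (e : Place k' K' → ℕ)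
    (he : ∀ Q (z : K), Q.1 (algebraMap K K' z) = (below Q).1 z ^ e Q)
    (x : K) (hx : ∀ P, vDiff (φ P) 1 x ≠ 0)
    (hx' : ∀ Q, vDiff (ψ Q) 1 (algebraMap K K' x) ≠ 0) :
    (Function.support fun Q => diffExp (φ (below Q)) (ψ Q) (e Q) x).Finite ∧
    (Module.finrank k k' : ℤ) * (2 * (genus k' K' : ℤ) - 2) =
      (Module.finrank K K' : ℤ) * (2 * (genus k K : ℤ) - 2) +
      (Module.finrank k k' : ℤ) *
        ∑ᶠ Q, diffExp (φ (below Q)) (ψ Q) (e Q) x * (Q.deg : ℤ) := by
  classical
  haveI : ∀ P, FiniteDimensional k (F P) := fun P => finiteDimensional_coeffField hK P (hφ P)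
  haveI : ∀ Q, FiniteDimensional k' (F' Q) := fun Q => finiteDimensional_coeffField hK' Q (hψ Q)
  have hg' : IsGeometric k' K' := GeoSep.isGeometric_of_isSeparable hK hg hK'
  obtain ⟨P₀⟩ := nonempty_place hK
  have hDx : KaehlerDifferential.D k K x ≠ 0 := by
    apply Geom.D_ne_zero_of_expansion (φ P₀)
    have := hx P₀
    rw [Geom.vDiff_one] at this
    intro h0
    rw [h0, map_zero] at this
    exact this rfl
  obtain ⟨Q₀⟩ := nonempty_place hK'
  have hDx' : KaehlerDifferential.D k' K' (algebraMap K K' x) ≠ 0 := by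
    apply Geom.D_ne_zero_of_expansion (ψ Q₀)
    have := hx' Q₀
    rw [Geom.vDiff_one] at this
    intro h0
    rw [h0, map_zero] at this
    exact this rfl
  obtain ⟨C, hC, hCdiv, hCne⟩ := Geom.exists_divisor_dv hK hg F φ hφ x hDx
  obtain ⟨C', hC', hC'div, hC'ne⟩ :=
    Geom.exists_divisor_dv hK' hg' F' ψ hψ (algebraMap K K' x) hDx'
  have hdegC : C.deg = 2 * (genus k K : ℤ) - 2 := deg_canonical hK ⟨_, hCne, hCdiv⟩
  have hdegC' : C'.deg = 2 * (genus k' K' : ℤ) - 2 := deg_canonical hK' ⟨_, hC'ne, hC'div⟩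
  -- the finite sets
  set T : Finset (Place k' K') :=
    C.support.biUnion (fun P => (finite_fibre hK below e he P).toFinset) with hT
  have hTmem : ∀ Q, Q ∈ T ↔ below Q ∈ C.support := by
    intro Q
    rw [hT, Finset.mem_biUnion]
    constructor
    · rintro ⟨P, hP, hQ⟩
      rw [Set.Finite.mem_toFinset, Set.mem_setOf_eq] at hQ
      rwa [hQ]
    · intro h
      exact ⟨below Q, h, by rw [Set.Finite.mem_toFinset, Set.mem_setOf_eq]⟩
  have hdE : ∀ Q, diffExp (φ (below Q)) (ψ Q) (e Q) x = C' Q - (e Q : ℤ) * C (below Q) := by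
    intro Q
    rw [diffExp, hC, hC']
  set U : Finset (Place k' K') := C'.support ∪ T with hU
  have hsupp : (Function.support fun Q => diffExp (φ (below Q)) (ψ Q) (e Q) x * (Q.deg : ℤ)) ⊆
      (U : Set (Place k' K')) := by
    intro Q hQ
    rw [Function.mem_support] at hQ
    by_contra hQU
    rw [Finset.mem_coe, hU, Finset.mem_union, not_or, hTmem, Finsupp.mem_support_iff,
      Finsupp.mem_support_iff, not_not, not_not] at hQU
    rw [hdE, hQU.1, hQU.2] at hQ
    simp at hQ
  refine ⟨(U.finite_toSet).subset ?_, ?_⟩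
  · intro Q hQ
    rw [Function.mem_support] at hQ
    by_contra hQU
    rw [Finset.mem_coe, hU, Finset.mem_union, not_or, hTmem, Finsupp.mem_support_iff,
      Finsupp.mem_support_iff, not_not, not_not] at hQU
    rw [hdE, hQU.1, hQU.2] at hQ
    simp at hQ
  rw [finsum_eq_sum_of_support_subset _ hsupp]
  -- split the sum
  have h1 : ∑ Q ∈ U, diffExp (φ (below Q)) (ψ Q) (e Q) x * (Q.deg : ℤ) =
      ∑ Q ∈ U, C' Q * (Q.deg : ℤ) - ∑ Q ∈ U, (e Q : ℤ) * C (below Q) * (Q.deg : ℤ) := by
    rw [← Finset.sum_sub_distrib]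
    refine Finset.sum_congr rfl (fun Q _ => ?_)
    rw [hdE]; ring
  have h2 : ∑ Q ∈ U, C' Q * (Q.deg : ℤ) = C'.deg := by
    rw [Divisor.deg, Finsupp.sum]
    refine (Finset.sum_subset Finset.subset_union_left (fun Q _ hQ => ?_)).symm
    rw [Finsupp.notMem_support_iff.1 hQ, zero_mul]
  have h3 : ∑ Q ∈ U, (e Q : ℤ) * C (below Q) * (Q.deg : ℤ) =
      ∑ Q ∈ T, (e Q : ℤ) * C (below Q) * (Q.deg : ℤ) := by
    refine (Finset.sum_subset Finset.subset_union_right (fun Q _ hQ => ?_)).symm
    rw [hTmem, Finsupp.notMem_support_iff] at hQ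
    rw [hQ, mul_zero, zero_mul]
  have h4 : ∑ Q ∈ T, (e Q : ℤ) * C (below Q) * (Q.deg : ℤ) =
      ∑ P ∈ C.support, C P * ∑ Q ∈ (finite_fibre hK below e he P).toFinset,
        ((e Q * Q.deg : ℕ) : ℤ) := by
    rw [hT, Finset.sum_biUnion]
    · refine Finset.sum_congr rfl (fun P _ => ?_)
      rw [Finset.mul_sum]
      refine Finset.sum_congr rfl (fun Q hQ => ?_)
      rw [Set.Finite.mem_toFinset, Set.mem_setOf_eq] at hQ
      rw [hQ]; push_cast; ring
    · intro P _ P' _ hPP'
      rw [Function.onFun, Finset.disjoint_left]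
      intro Q hQ hQ'
      rw [Set.Finite.mem_toFinset, Set.mem_setOf_eq] at hQ hQ'
      exact hPP' (hQ.symm.trans hQ')
  have h5 : (Module.finrank k k' : ℤ) * ∑ P ∈ C.support, C P *
      ∑ Q ∈ (finite_fibre hK below e he P).toFinset, ((e Q * Q.deg : ℕ) : ℤ) =
      (Module.finrank K K' : ℤ) * C.deg := by
    rw [Divisor.deg, Finsupp.sum, Finset.mul_sum, Finset.mul_sum]
    refine Finset.sum_congr rfl (fun P _ => ?_)
    have := sum_fibre hK below e he P
    have hc : ((Module.finrank k k' * ∑ Q ∈ (finite_fibre hK below e he P).toFinset,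
        e Q * Q.deg : ℕ) : ℤ) = ((Module.finrank K K' * P.deg : ℕ) : ℤ) := by rw [this]
    push_cast at hc
    push_cast
    calc (Module.finrank k k' : ℤ) * (C P * ∑ Q ∈ (finite_fibre hK below e he P).toFinset,
          ((e Q : ℤ) * (Q.deg : ℤ)))
        = C P * ((Module.finrank k k' : ℤ) * ∑ Q ∈ (finite_fibre hK below e he P).toFinset,
          ((e Q : ℤ) * (Q.deg : ℤ))) := by ring
      _ = C P * ((Module.finrank K K' : ℤ) * (P.deg : ℤ)) := by rw [hc]
      _ = (Module.finrank K K' : ℤ) * (C P * (P.deg : ℤ)) := by ring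
  rw [h1, h2, h3, h4, hdegC']
  rw [hdegC] at h5
  linear_combination h5

end main

end Groth.Agent.H7.RHur
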