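import Groth.Agent.Lib.Helper5.FunFld.Plane1
import Groth.Agent.Lib.Helper5.FunFld.Rational

/-! Riemann's inequality `g ≤ (n-1)(m-1)` in the case `n = m = 2` (helper7). -/

set_option autoImplicit false
set_option linter.unusedSectionVars false

namespace Groth.Agent.H7.RI

open FunFld WithZero Polynomial

variable {k K : Type*} [Field k] [Field K] [Algebra k K] (hK : IsFunctionField k K)

include hK in
lemma aeval_mem_L_nsmul_poleDiv (x : K) {l : ℕ} {a : k[X]} (ha : a ∈ degreeLT k (l + 1)) :
    aeval x a ∈ L (l • poleDiv (k := k) x) := by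
  rw [mem_degreeLT] at ha
  rw [aeval_eq_sum_range' (n := l + 1) (by
    rcases eq_or_ne a 0 with rfl | ha0
    · simp
    · rw [Polynomial.natDegree_lt_iff_degree_lt ha0]; exact_mod_cast ha)]
  exact Submodule.sum_mem _ (fun i hi => Submodule.smul_mem _ _
    (pow_mem_L_nsmul_poleDiv hK x (Nat.lt_succ_iff.1 (Finset.mem_range.1 hi))))

include hK in
lemma notMem_range_of_finrank {x : K} {n : ℕ} (hn : 0 < n)
    (hx : Module.finrank (IntermediateField.adjoin k ({x} : Set K)) K = n) :
    x ∉ Set.range (algebraMap k K) := by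
  intro hxr
  have hbot : IntermediateField.adjoin k ({x} : Set K) = ⊥ := by
    rw [IntermediateField.adjoin_simple_eq_bot_iff, IntermediateField.mem_bot]
    exact hxr
  rw [hbot, IntermediateField.finrank_bot'] at hx
  haveI : FiniteDimensional k K := Module.finite_of_finrank_pos (by rw [hx]; exact hn)
  obtain ⟨⟨y, hy, -⟩, -⟩ := id hK
  exact hy (Algebra.IsAlgebraic.isAlgebraic y)

include hK in
/-- two distinct rational subfields of index two force genus at most one -/
theorem genus_le_one {x x' : K}
    (hx : Module.finrank (IntermediateField.adjoin k ({x} : Set K)) K = 2)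
    (hx' : Module.finrank (IntermediateField.adjoin k ({x'} : Set K)) K = 2)
    (hne : x' ∉ IntermediateField.adjoin k ({x} : Set K)) : genus k K ≤ 1 := by
  have hxr := notMem_range_of_finrank hK two_pos hx
  have hx'r := notMem_range_of_finrank hK two_pos hx'
  have htr := hK.transcendental_of_notMem hxr
  have hinj0 : Function.Injective (aeval (R := k) x) := transcendental_iff_injective.1 htr
  have hdA : (poleDiv (k := k) x).deg = 2 := by rw [deg_poleDiv hK hxr, hx]; rfl
  have hdB : (poleDiv (k := k) x').deg = 2 := by rw [deg_poleDiv hK hx'r, hx']; rfl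
  obtain ⟨N, hN⟩ := exists_forall_deg_add_one_sub_ell_eq_genus hK
  set l : ℕ := N.toNat with hl
  set D : Divisor k K := l • poleDiv (k := k) x + poleDiv (k := k) x' with hD
  have hdD : D.deg = 2 * l + 2 := by
    rw [hD, Divisor.deg_add, Divisor.deg_nsmul, hdA, hdB]; ring
  have hfin := finiteDimensional_L hK D
  let f₁ : degreeLT k (l + 1) →ₗ[k] K := (aeval x).toLinearMap ∘ₗ (degreeLT k (l + 1)).subtype
  let f₂ : degreeLT k (l + 1) →ₗ[k] K :=
    (LinearMap.mulRight k x') ∘ₗ (aeval x).toLinearMap ∘ₗ (degreeLT k (l + 1)).subtype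
  let Φ : (degreeLT k (l + 1) × degreeLT k (l + 1)) →ₗ[k] K := f₁.coprod f₂
  have hΦ : ∀ p : degreeLT k (l + 1) × degreeLT k (l + 1),
      Φ p = aeval x (p.1 : k[X]) + aeval x (p.2 : k[X]) * x' := fun p => by
    simp only [Φ, f₁, f₂, LinearMap.coprod_apply, LinearMap.coe_comp, Function.comp_apply,
      Submodule.subtype_apply, AlgHom.toLinearMap_apply, LinearMap.mulRight_apply]
  have hinj : Function.Injective Φ := by
    rw [← LinearMap.ker_eq_bot, LinearMap.ker_eq_bot']
    rintro ⟨a, b⟩ h0
    rw [hΦ] at h0
    have hb0 : (b : k[X]) = 0 := by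
      by_contra hb0
      apply hne
      have hb' : aeval x (b : k[X]) ≠ 0 := by
        intro h
        exact hb0 (hinj0 (h.trans (map_zero _).symm))
      have hx'eq : x' = -(aeval x (a : k[X])) / aeval x (b : k[X]) := by
        rw [eq_div_iff hb']
        linear_combination h0
      rw [hx'eq]
      have hmem : ∀ g : k[X], aeval x g ∈ IntermediateField.adjoin k ({x} : Set K) := fun g => by
        rw [← IntermediateField.AdjoinSimple.coe_aeval_gen_apply]
        exact SetLike.coe_mem _
      exact div_mem (neg_mem (hmem _)) (hmem _)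
    have ha0 : (a : k[X]) = 0 := by
      simp only [hb0, map_zero, zero_mul, add_zero] at h0
      exact hinj0 (h0.trans (map_zero _).symm)
    exact Prod.ext (Subtype.ext ha0) (Subtype.ext hb0)
  have hrange : LinearMap.range Φ ≤ L D := by
    rintro _ ⟨⟨a, b⟩, rfl⟩
    rw [hΦ]
    have hB0 : (0 : Divisor k K) ≤ poleDiv (k := k) x' := poleDiv_nonneg _
    have hA0 : (0 : Divisor k K) ≤ l • poleDiv (k := k) x := nsmul_nonneg (poleDiv_nonneg _) l
    refine Submodule.add_mem _ ?_ ?_
    · refine L_mono ?_ (aeval_mem_L_nsmul_poleDiv hK x a.2)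
      rw [hD]
      exact le_add_of_nonneg_right hB0
    · have h1 : x' ∈ L (poleDiv (k := k) x') := by
        have := pow_mem_L_nsmul_poleDiv hK x' (le_refl 1)
        rwa [pow_one, one_smul] at this
      exact mul_mem_L_add (aeval_mem_L_nsmul_poleDiv hK x b.2) h1
  haveI : Module.Finite k (degreeLT k (l + 1)) :=
    Module.Finite.equiv (degreeLTEquiv k (l + 1)).symm
  have h1 : Module.finrank k (LinearMap.range Φ) = (l + 1) + (l + 1) := by
    rw [LinearMap.finrank_range_of_inj hinj, Module.finrank_prod,
      LinearEquiv.finrank_eq (degreeLTEquiv k (l + 1))]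
    simp
  have h2 : Module.finrank k (LinearMap.range Φ) ≤ ell D := Submodule.finrank_mono hrange
  have h3 := hN D (by rw [hdD, hl]; have := Int.self_le_toNat N; omega)
  rw [hdD] at h3
  have h4 : ((l + 1 + (l + 1) : ℕ) : ℤ) ≤ (ell D : ℤ) := by rw [← h1]; exact_mod_cast h2
  push_cast at h4
  have : (genus k K : ℤ) ≤ 1 := by omega
  exact_mod_cast this

include hK in
/-- genus `≥ 2`: at most one rational subfield of index two -/
theorem adjoin_eq_of_genus {x x' : K} (hg : 2 ≤ genus k K)
    (hx : Module.finrank (IntermediateField.adjoin k ({x} : Set K)) K = 2)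
    (hx' : Module.finrank (IntermediateField.adjoin k ({x'} : Set K)) K = 2) :
    IntermediateField.adjoin k ({x} : Set K) = IntermediateField.adjoin k ({x'} : Set K) := by
  by_contra hne
  have hmem : x' ∉ IntermediateField.adjoin k ({x} : Set K) := by
    intro hmem
    apply hne
    haveI : FiniteDimensional (IntermediateField.adjoin k ({x'} : Set K)) K :=
      Module.finite_of_finrank_pos (by rw [hx']; norm_num)
    symm
    apply IntermediateField.eq_of_le_of_finrank_eq'
    · rw [IntermediateField.adjoin_simple_le_iff]; exact hmem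
    · rw [hx, hx']
  have := genus_le_one hK hx hx' hmem
  omega

end Groth.Agent.H7.RI
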