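import Mathlib
import Groth.Prelude.Def_SixF1
import Groth.Prelude.Def_EtBC2
import Groth.Agent.Lib.Helper7.ModPull1

/-!
# Helper7: RPlusComp1 — composition of bounded-below right derived functors
-/

set_option autoImplicit false

universe v₁ v₂ v₃ u₁ u₂ u₃ u

open CategoryTheory CategoryTheory.Limits AlgebraicGeometry

namespace Groth.Agent.H7.RPlus

section Generic

variable {A : Type u₁} [Category.{v₁} A] [Abelian A] {B : Type u₂} [Category.{v₂} B] [Abelian B]
  {C : Type u₃} [Category.{v₃} C] [Abelian C]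

lemma isIso_mapHomotopyCategory {F G : A ⥤ B} [F.Additive] [G.Additive] (θ : F ⟶ G) [IsIso θ] :
    IsIso (NatTrans.mapHomotopyCategory θ (ComplexShape.up ℤ)) :=
  ⟨⟨NatTrans.mapHomotopyCategory (inv θ) (ComplexShape.up ℤ), by
    rw [← NatTrans.mapHomotopyCategory_comp, IsIso.hom_inv_id, NatTrans.mapHomotopyCategory_id], by
    rw [← NatTrans.mapHomotopyCategory_comp, IsIso.inv_hom_id, NatTrans.mapHomotopyCategory_id]⟩⟩

lemma ι_map_plusNatTrans_app {F G : A ⥤ B} [F.Additive] [G.Additive] (θ : F ⟶ G)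
    (K : HomotopyCategory.Plus A) :
    (HomotopyCategory.Plus.ι B).map ((EtSix.plusNatTrans θ).app K) =
      (NatTrans.mapHomotopyCategory θ (ComplexShape.up ℤ)).app ((HomotopyCategory.Plus.ι A).obj K) := by
  have h : Functor.whiskerRight (EtSix.plusNatTrans θ) (HomotopyCategory.Plus.ι B) =
      Functor.whiskerLeft (HomotopyCategory.Plus.ι A)
        (NatTrans.mapHomotopyCategory θ (ComplexShape.up ℤ)) :=
    ((HomotopyCategory.plus B).fullyFaithfulι.whiskeringRight
      (HomotopyCategory.Plus A)).map_preimage (X := F.mapHomotopyCategoryPlus)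
      (Y := G.mapHomotopyCategoryPlus) _
  exact congr_app h K

instance isIso_plusNatTrans_app {F G : A ⥤ B} [F.Additive] [G.Additive] (θ : F ⟶ G) [IsIso θ]
    (K : HomotopyCategory.Plus A) : IsIso ((EtSix.plusNatTrans θ).app K) := by
  haveI := isIso_mapHomotopyCategory θ
  haveI : IsIso ((HomotopyCategory.Plus.ι B).map ((EtSix.plusNatTrans θ).app K)) := by
    rw [ι_map_plusNatTrans_app]
    exact NatIso.isIso_app_of_isIso (NatTrans.mapHomotopyCategory θ (ComplexShape.up ℤ)) _
  exact isIso_of_fully_faithful (HomotopyCategory.Plus.ι B) _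

variable [HasDerivedCategory A] [HasDerivedCategory B] [HasDerivedCategory C]
  {F : A ⥤ B} {G : B ⥤ C} {H : A ⥤ C} [F.Additive] [G.Additive] [H.Additive]
  [EnoughInjectives A] [EnoughInjectives B]

/-- Grothendieck's composition theorem on `D⁺`: if `F` preserves injectives, then
`R⁺(F ⋙ G) ≅ R⁺F ⋙ R⁺G` through the canonical map. -/
theorem isIso_rPlusDesc₂ (θ : H ⟶ F ⋙ G) [IsIso θ] [F.PreservesInjectiveObjects] :
    IsIso (EtSix.rPlusDesc₂ θ) := by
  unfold EtSix.rPlusDesc₂
  rw [← Functor.isRightDerivedFunctor_iff_isIso_rightDerivedDesc]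
  refine (HomotopyCategory.Plus.localizerMorphism_derives _).isRightDerivedFunctor_of_isIso _ ?_
  intro Y
  let K : HomotopyCategory.Plus A := (InjectiveObject.ι A).mapHomotopyCategoryPlus.obj Y
  change IsIso ((EtSix.rPlusUnit₂ θ).app K)
  haveI hK : ∀ n : ℤ, Injective (K.obj.as.X n) := fun n => inferInstance
  haveI hFK : ∀ n : ℤ, Injective ((F.mapHomotopyCategoryPlus.obj K).obj.as.X n) := fun n =>
    inferInstanceAs (Injective (F.obj (K.obj.as.X n)))
  haveI h1 : IsIso (F.rightDerivedFunctorPlusUnit.app K) := inferInstance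
  haveI h2 : IsIso (G.rightDerivedFunctorPlusUnit.app (F.mapHomotopyCategoryPlus.obj K)) :=
    inferInstance
  simp only [EtSix.rPlusUnit₂, NatTrans.comp_app, Functor.whiskerRight_app,
    Functor.whiskerLeft_app, Functor.associator_hom_app, Functor.associator_inv_app,
    Category.id_comp, Category.comp_id]
  infer_instance

end Generic

section Et

attribute [local instance] HasDerivedCategory.standard

theorem S4330_main (Λ : Type (u + 1)) [CommRing Λ] {X Y Z : Scheme.{u}} (f : X ⟶ Y) (g : Y ⟶ Z) :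
    IsIso (EtSix.compMapMod Λ f g) := by
  haveI := Groth.Agent.H7.ModPull.pullMod_preservesFiniteLimits Λ f
  exact isIso_rPlusDesc₂ (EtSix.pushModComp Λ g f).inv

end Et

end Groth.Agent.H7.RPlus
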