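import Mathlib
import Groth.Prelude.Def_RegImm
import Groth.Agent.Lib.Helper5.CA2.H1Reg
import Groth.Agent.Lib.Helper5.QRBC.A
import Groth.Agent.Lib.Helper8.RegBC.Imm

set_option autoImplicit false
universe u
open CategoryTheory CategoryTheory.Limits TensorProduct

namespace Groth.Agent.H7.RRI

/-- flatness of a quotient read off on a surjection with that kernel. -/
theorem flat_quot_of_surjective {A B C : Type u} [CommRing A] [CommRing B] [CommRing C]
    [Algebra A B] (π : B →+* C) (hπ : Function.Surjective π) (J : Ideal B)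
    (hJ : RingHom.ker π = J) (hfl : (π.comp (algebraMap A B)).Flat) :
    Module.Flat A (B ⧸ J) := by
  subst hJ
  letI : Algebra A C := (π.comp (algebraMap A B)).toAlgebra
  haveI : Module.Flat A C := hfl
  let e : (B ⧸ RingHom.ker π) ≃+* C := RingHom.quotientKerEquivOfSurjective hπ
  let e' : (B ⧸ RingHom.ker π) ≃ₗ[A] C :=
    { e.toAddEquiv with
      map_smul' := by
        intro a x
        obtain ⟨b, rfl⟩ := Ideal.Quotient.mk_surjective x
        change e (a • Ideal.Quotient.mk _ b) = a • e (Ideal.Quotient.mk _ b)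
        rw [Algebra.smul_def, Algebra.smul_def, map_mul]
        rfl }
  exact Module.Flat.of_linearEquiv e'

/-- the two sequence kinds `h1`, `quasi` are transported by ring isomorphisms. -/
theorem kindSeq_ringEquiv (k : RegImm.Kind) (hk : k = RegImm.Kind.h1 ∨ k = RegImm.Kind.quasi)
    {R R' : Type u} [CommRing R] [CommRing R'] (e : R ≃+* R') (rs : List R)
    (h : k.Seq R rs) : k.Seq R' (rs.map e) := by
  letI : Algebra R R' := e.toRingHom.toAlgebra
  haveI : Module.Flat R R' := by
    have : (e.toRingHom).Flat := RingHom.Flat.of_bijective e.bijective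
    exact this
  rcases hk with rfl | rfl
  · have h' : CAlgX.IsH1Regular rs.get := h
    exact Groth.Agent.H8.RegBC.isH1Regular_of_cast (List.length_map _) _ _
      (fun i => by simp only [List.get_eq_getElem, List.getElem_map, Fin.val_cast]; rfl)
      (Groth.Agent.H8.RegBC.isH1Regular_map_of_flat (R' := R') rs.get h')
  · have h' : CAlgX.IsQuasiRegular rs.get := h
    exact Groth.Agent.H8.RegBC.isQuasiRegular_of_cast (List.length_map _) _ _
      (fun i => by simp only [List.get_eq_getElem, List.getElem_map, Fin.val_cast]; rfl)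
      (Groth.Agent.H8.RegBC.isQuasiRegular_map_of_flat (R' := R') rs.get h')

/-- base change of `H_1`/quasi-regular sequences with flat quotient, tensor form. -/
theorem kindSeq_tensor (k : RegImm.Kind) (hk : k = RegImm.Kind.h1 ∨ k = RegImm.Kind.quasi)
    (A B A' : Type u) [CommRing A] [CommRing B] [CommRing A'] [Algebra A B] [Algebra A A']
    (rs : List B) (h : k.Seq B rs) (hflat : Module.Flat A (B ⧸ Ideal.ofList rs)) :
    k.Seq (A' ⊗[A] B) (rs.map (Algebra.TensorProduct.includeRight : B →ₐ[A] A' ⊗[A] B)) := by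
  have hspan : Ideal.span (Set.range rs.get) = Ideal.ofList rs := by
    rw [Ideal.ofList, Set.range_list_get]
  have hflat' : Module.Flat A (B ⧸ Ideal.span (Set.range rs.get)) := by
    rw [hspan]; exact hflat
  rcases hk with rfl | rfl
  · have h' : CAlgX.IsH1Regular rs.get := h
    exact Groth.Agent.H8.RegBC.isH1Regular_of_cast (List.length_map _) _ _ (fun i => by simp)
      (H5H1Reg.h1_baseChange A B A' rs.length rs.get hflat' h')
  · have h' : CAlgX.IsQuasiRegular rs.get := h
    exact Groth.Agent.H8.RegBC.isQuasiRegular_of_cast (List.length_map _) _ _ (fun i => by simp)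
      (Groth.Agent.Lib.Helper5.QRBC.main A B A' rs.length rs.get hflat' h')

/-- pushout-square form. -/
theorem kindSeq_of_isPushout (k : RegImm.Kind) (hk : k = RegImm.Kind.h1 ∨ k = RegImm.Kind.quasi)
    {A B A' B' : CommRingCat.{u}} (φ : A ⟶ B) (ψ : A ⟶ A') (φ' : A' ⟶ B') (ψ' : B ⟶ B')
    (h : IsPushout φ ψ ψ' φ') (rs : List B) (hrs : k.Seq B rs)
    (hflat : letI := φ.hom.toAlgebra; Module.Flat A (B ⧸ Ideal.ofList rs)) :
    k.Seq B' (rs.map ψ'.hom) := by
  letI : Algebra A B := φ.hom.toAlgebra
  letI : Algebra A A' := ψ.hom.toAlgebra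
  have h0 := CommRingCat.isPushout_tensorProduct A A' B
  have h1 : IsPushout ψ φ φ' ψ' := h.flip
  let E := h0.isoIsPushout _ _ h1
  have hE : (CommRingCat.ofHom (Algebra.TensorProduct.includeRight (R := A) (A := A') (B := B)).toRingHom) ≫ E.hom = ψ' :=
    h0.inr_isoIsPushout_hom _ _ h1
  let e : (A' ⊗[A] B) ≃+* B' := E.commRingCatIsoToRingEquiv
  have key := kindSeq_ringEquiv k hk e _ (kindSeq_tensor k hk A B A' rs hrs hflat)
  rw [List.map_map] at key
  convert key using 2
  ext b
  have := congr($(hE).hom b)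
  exact this.symm

end Groth.Agent.H7.RRI
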