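import Mathlib
import Groth.Prelude.Def_RegImm
import Groth.Agent.Lib.Helper7.RRI1
import Groth.Agent.Lib.Helper8.KosBCImm.BC

set_option autoImplicit false
universe u
open CategoryTheory CategoryTheory.Limits AlgebraicGeometry TopologicalSpace

namespace Groth.Agent.H7.RRI

variable {Z X S S' X' Z' : Scheme.{u}}

/-- shrink a chart of kind `k` into a given open neighbourhood. -/
theorem exists_chart_le (k : RegImm.Kind) (i : Z ⟶ X) (z : Z)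
    (h : RegImm.IsRegularImmersionAt k i z) (V : X.Opens) (hzV : i z ∈ V) :
    ∃ U : X.affineOpens, U.1 ≤ V ∧ i z ∈ U.1 ∧ IsClosedImmersion (i ∣_ U.1) ∧
      ∃ rs : List Γ(X, U.1), k.Seq Γ(X, U.1) rs ∧
        RingHom.ker (i.app U.1).hom = Ideal.ofList rs := by
  obtain ⟨U, hzU, hcl, rs, hrs, hker⟩ := h
  obtain ⟨D, hD, hzD, hle⟩ :=
    (TopologicalSpace.Opens.isBasis_iff_nbhd.mp X.isBasis_affineOpens)
      (show i z ∈ U.1 ⊓ V from ⟨hzU, hzV⟩)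
  have hDU : D ≤ U.1 := hle.trans inf_le_left
  have hDU' : D ≤ (𝟙 X) ⁻¹ᵁ U.1 := hDU
  have hsq : IsPullback (𝟙 Z) i i (𝟙 X) := IsPullback.of_horiz_isIso ⟨by simp⟩
  obtain ⟨hcl', hker'⟩ :=
    Groth.Agent.H8.KosBCImm.chart_baseChange i (𝟙 X) i (𝟙 Z) hsq U.1 U.2 hcl D hD hDU'
  refine ⟨⟨D, hD⟩, hle.trans inf_le_right, hzD, hcl', rs.map (Scheme.Hom.appLE (𝟙 X) U.1 D hDU').hom, ?_, ?_⟩
  · letI : Algebra Γ(X, U.1) Γ(X, D) := (Scheme.Hom.appLE (𝟙 X) U.1 D hDU').hom.toAlgebra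
    haveI : Module.Flat Γ(X, U.1) Γ(X, D) := by
      have h0 : (Scheme.Hom.appLE (𝟙 X) U.1 D hDU').hom.Flat :=
        HasRingHomProperty.appLE (P := @Flat) (𝟙 X) inferInstance U ⟨D, hD⟩ hDU'
      exact h0
    refine Groth.Agent.H8.RegBC.kindSeq_map_of_flat k rs hrs ?_
    change Ideal.ofList (rs.map (Scheme.Hom.appLE (𝟙 X) U.1 D hDU').hom) ≠ ⊤
    rw [← Ideal.map_ofList, ← hker, ← hker']
    haveI : Nonempty (i ⁻¹ᵁ D : Z.Opens) := ⟨⟨z, hzD⟩⟩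
    haveI : Nontrivial Γ(Z, i ⁻¹ᵁ D) := Scheme.component_nontrivial Z (i ⁻¹ᵁ D)
    exact RingHom.ker_ne_top _
  · rw [hker', hker, Ideal.map_ofList]

/-- the "product" open of a fibre product over affine opens is affine. -/
theorem isAffineOpen_inf_of_isPullback {f : X ⟶ S} {g : S' ⟶ S} {gX : X' ⟶ X} {f' : X' ⟶ S'}
    (hX : IsPullback gX f' f g) {W : S.Opens} {W' : S'.Opens} {D : X.Opens}
    (hW : IsAffineOpen W) (hW' : IsAffineOpen W') (hD : IsAffineOpen D)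
    (hle : W' ≤ g ⁻¹ᵁ W) (hD' : D ≤ f ⁻¹ᵁ W) :
    IsAffineOpen (gX ⁻¹ᵁ D ⊓ f' ⁻¹ᵁ W') := by
  have : IsAffine _ := hW
  have : IsAffine _ := hW'
  have : IsAffine _ := hD
  exact .of_isIso (Scheme.Hom.isPullback_resLE hX hle hD' rfl).isoPullback.hom

/-- **base change of relative `H_1`-regular / quasi-regular immersions**, general cartesian
squares. -/
theorem relRegularImmersion_of_isPullback (k : RegImm.Kind)
    (hk : k = RegImm.Kind.h1 ∨ k = RegImm.Kind.quasi) (f : X ⟶ S) (i : Z ⟶ X)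
    (hi : RegImm.IsRelRegularImmersion k f i) (g : S' ⟶ S) (f' : X' ⟶ S') (gX : X' ⟶ X)
    (hX : IsPullback gX f' f g) (i' : Z' ⟶ X') (gZ : Z' ⟶ Z) (hZ : IsPullback gZ i' i gX) :
    RegImm.IsRelRegularImmersion k f' i' := by
  obtain ⟨⟨himm, hreg⟩, hfl⟩ := hi
  have hpaste : IsPullback gZ (i' ≫ f') (i ≫ f) g := hZ.paste_vert hX
  refine ⟨⟨MorphismProperty.of_isPullback hZ himm, fun z' => ?_⟩,
    MorphismProperty.of_isPullback hpaste hfl⟩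
  -- points
  have e1 : i (gZ z') = gX (i' z') := by
    have := congrArg (fun φ : Z' ⟶ X => φ z') hZ.w
    simpa using this
  have e2 : f (gX (i' z')) = g (f' (i' z')) := by
    have := congrArg (fun φ : X' ⟶ S => φ (i' z')) hX.w
    simpa using this
  -- affine opens on the bases
  obtain ⟨W, hW, hzW, -⟩ :=
    (TopologicalSpace.Opens.isBasis_iff_nbhd.mp S.isBasis_affineOpens)
      (show f (i (gZ z')) ∈ (⊤ : S.Opens) from trivial)
  have hz'W : f' (i' z') ∈ g ⁻¹ᵁ W := by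
    change g (f' (i' z')) ∈ W
    rw [← e2, ← e1]; exact hzW
  obtain ⟨W', hW', hzW', hle⟩ :=
    (TopologicalSpace.Opens.isBasis_iff_nbhd.mp S'.isBasis_affineOpens) hz'W
  -- chart inside f⁻¹ W
  obtain ⟨D, hDW, hzD, hcl, rs, hrs, hker⟩ :=
    exists_chart_le k i (gZ z') (hreg (gZ z')) (f ⁻¹ᵁ W) hzW
  haveI := hcl
  have hU' : IsAffineOpen (gX ⁻¹ᵁ D.1 ⊓ f' ⁻¹ᵁ W') :=
    isAffineOpen_inf_of_isPullback hX hW hW' D.2 hle hDW
  have hzU' : i' z' ∈ gX ⁻¹ᵁ D.1 ⊓ f' ⁻¹ᵁ W' := by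
    refine ⟨?_, hzW'⟩
    change gX (i' z') ∈ D.1
    rw [← e1]; exact hzD
  obtain ⟨hcl', hker'⟩ :=
    Groth.Agent.H8.KosBCImm.chart_baseChange i gX i' gZ hZ D.1 D.2 hcl _ hU' inf_le_left
  refine ⟨⟨_, hU'⟩, hzU', hcl', rs.map (gX.appLE D.1 _ inf_le_left).hom, ?_, ?_⟩
  · have hpo : IsPushout (f.appLE W D.1 hDW) (g.appLE W W' hle)
        (gX.appLE D.1 (gX ⁻¹ᵁ D.1 ⊓ f' ⁻¹ᵁ W') inf_le_left)
        (f'.appLE W' (gX ⁻¹ᵁ D.1 ⊓ f' ⁻¹ᵁ W') inf_le_right) :=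
      (isIso_pushoutSection_iff hX hle hDW rfl).mp
        (isIso_pushoutSection_of_isAffineOpen hX hle hDW rfl hW hW' D.2)
    refine kindSeq_of_isPushout k hk _ _ _ _ hpo rs hrs ?_
    letI : Algebra Γ(S, W) Γ(X, D.1) := (f.appLE W D.1 hDW).hom.toAlgebra
    obtain ⟨hV, hsurj⟩ :=
      Groth.Agent.H1.RegImmersion.affine_and_surjective_of_isClosedImmersion_restrict i D.1 D.2
    refine flat_quot_of_surjective (i.app D.1).hom hsurj _ hker ?_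
    have hleZ : i ⁻¹ᵁ D.1 ≤ (i ≫ f) ⁻¹ᵁ W := by
      intro y hy
      exact hDW hy
    have hfl' := HasRingHomProperty.appLE (P := @Flat) (i ≫ f) hfl ⟨W, hW⟩ ⟨i ⁻¹ᵁ D.1, hV⟩ hleZ
    have heq : (i ≫ f).appLE W (i ⁻¹ᵁ D.1) hleZ = f.appLE W D.1 hDW ≫ i.app D.1 := by
      rw [Scheme.Hom.app_eq_appLE, Scheme.Hom.appLE_comp_appLE]
    rw [heq] at hfl'
    exact hfl'
  · rw [hker', hker, Ideal.map_ofList]

end Groth.Agent.H7.RRI
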