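import Mathlib
import Groth.Prelude.Def_RegImm
import Groth.Agent.Lib.Helper7.RRI1
import Groth.Agent.Lib.Helper1.GrFlat
import Groth.Agent.Lib.Helper1.RegImmersion

set_option autoImplicit false
universe u
open CategoryTheory CategoryTheory.Limits AlgebraicGeometry TopologicalSpace

namespace Groth.Agent.H7.RRI

/-- ring level: a Noetherian local `A`-algebra `B` with a quasi-regular sequence in the maximal
ideal whose quotient is `A`-flat is `A`-flat. -/
theorem flat_of_quasiRegular_of_flat_quot {A B : Type u} [CommRing A] [CommRing B] [Algebra A B]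
    [IsLocalRing B] [IsNoetherianRing B] {c : ℕ} (g : Fin c → B) (hq : CAlgX.IsQuasiRegular g)
    (hne : Ideal.span (Set.range g) ≠ ⊤)
    (hfl : Module.Flat A (B ⧸ Ideal.span (Set.range g))) : Module.Flat A B := by
  have hJ : Ideal.span (Set.range g) ≤ Ideal.jacobson ⊥ := by
    rw [IsLocalRing.jacobson_eq_maximalIdeal ⊥ bot_ne_top]
    exact IsLocalRing.le_maximalIdeal hne
  refine Groth.Agent.H1.GrFlat.flat_of_flat_quot_pow (A := A) (B := B) B
    (Ideal.span (Set.range g)) hJ (fun n => ?_)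
  haveI := hfl
  have h1 := Groth.Agent.Lib.Helper5.QRBC.flat_quot_pow (A := A) g hq n
  have h2 : (Ideal.span (Set.range g) ^ n • (⊤ : Submodule B B)) =
      (Ideal.span (Set.range g) ^ n : Ideal B) := by
    rw [smul_eq_mul, Ideal.mul_top]
  rw [h2]
  exact h1

variable {Z X S : Scheme.{u}}

theorem flat_stalkMap_of_relQuasiRegular (f : X ⟶ S) (i : Z ⟶ X)
    (hi : RegImm.IsRelRegularImmersion RegImm.Kind.quasi f i) (z : Z)
    [IsNoetherianRing (X.presheaf.stalk (i z))] :
    (f.stalkMap (i z)).hom.Flat := by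
  obtain ⟨⟨himm, hreg⟩, hfl⟩ := hi
  obtain ⟨U, hy, hcl, rs, hrs, hI⟩ := hreg z
  haveI := hcl
  obtain ⟨hW, hsurj⟩ :=
    Groth.Agent.H1.RegImmersion.affine_and_surjective_of_isClosedImmersion_restrict i U.1 U.2
  letI : Algebra Γ(X, U.1) (X.presheaf.stalk (i z)) := X.presheaf.algebra_section_stalk ⟨i z, hy⟩
  haveI hloc := U.2.isLocalization_stalk ⟨i z, hy⟩
  have hker := Groth.Agent.H1.RegImmersion.ker_stalkMap_of_app_surjective i U.1 U.2 hW hsurj z hy
  have hker' : RingHom.ker (i.stalkMap z).hom =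
      Ideal.span (Set.range (fun j => algebraMap Γ(X, U.1) (X.presheaf.stalk (i z)) (rs.get j))) := by
    rw [hker, hI, Ideal.ofList, ← Set.range_list_get, Ideal.map_span, ← Set.range_comp]
    rfl
  haveI : Module.Flat Γ(X, U.1) (X.presheaf.stalk (i z)) :=
    IsLocalization.flat _ (U.2.primeIdealOf ⟨i z, hy⟩).asIdeal.primeCompl
  have hrs' : CAlgX.IsQuasiRegular rs.get := hrs
  have hq := Groth.Agent.H8.RegBC.isQuasiRegular_map_of_flat (R' := X.presheaf.stalk (i z))
    rs.get hrs'
  have hne : RingHom.ker (i.stalkMap z).hom ≠ ⊤ := RingHom.ker_ne_top _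
  letI : Algebra (S.presheaf.stalk (f (i z))) (X.presheaf.stalk (i z)) :=
    (f.stalkMap (i z)).hom.toAlgebra
  haveI := himm
  have hsurj' : Function.Surjective (i.stalkMap z).hom := i.stalkMap_surjective z
  have hflz : ((i ≫ f).stalkMap z).hom.Flat := Flat.stalkMap (i ≫ f) z
  have hcomp : (i ≫ f).stalkMap z = f.stalkMap (i z) ≫ i.stalkMap z :=
    Scheme.Hom.stalkMap_comp i f z
  have hflq : Module.Flat (S.presheaf.stalk (f (i z)))
      (X.presheaf.stalk (i z) ⧸ RingHom.ker (i.stalkMap z).hom) := by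
    refine flat_quot_of_surjective (i.stalkMap z).hom hsurj' _ rfl ?_
    rw [hcomp] at hflz
    exact hflz
  rw [hker'] at hflq hne
  exact flat_of_quasiRegular_of_flat_quot _ hq hne hflq

end Groth.Agent.H7.RRI
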