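import Mathlib
import Groth.Prelude.Def_W4c2filtblowupsingRees

/-!
# Helper7: RV1 — Rees algebra of a filtration cut out by valuations is integrally closed (S14652)
-/

set_option autoImplicit false

universe u

open Polynomial

namespace Groth.Agent.H7.RV

/-- `⊤ ↦ 0`, `n ↦ 2 ^ (-n)`. -/
noncomputable def g : WithTop ℤ → ℝ
  | ⊤ => 0
  | (n : ℤ) => (2 : ℝ) ^ (-n)

@[simp] lemma g_top : g ⊤ = 0 := rfl
@[simp] lemma g_coe (n : ℤ) : g (n : WithTop ℤ) = (2 : ℝ) ^ (-n) := rfl

lemma g_nonneg (a : WithTop ℤ) : 0 ≤ g a := by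
  induction a using WithTop.recTopCoe with
  | top => simp
  | coe n => simp only [g_coe]; positivity

lemma g_eq_zero_iff (a : WithTop ℤ) : g a = 0 ↔ a = ⊤ := by
  induction a using WithTop.recTopCoe with
  | top => simp
  | coe n =>
    simp only [g_coe, WithTop.coe_ne_top, iff_false]
    positivity

lemma g_add (a b : WithTop ℤ) : g (a + b) = g a * g b := by
  induction a using WithTop.recTopCoe with
  | top => simp
  | coe n =>
    induction b using WithTop.recTopCoe with
    | top => simp
    | coe m =>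
      rw [← WithTop.coe_add, g_coe, g_coe, g_coe, neg_add, zpow_add₀ (by norm_num)]

lemma g_zero : g 0 = 1 := by
  have : g ((0 : ℤ) : WithTop ℤ) = 1 := by rw [g_coe]; simp
  exact this

lemma g_antitone {a b : WithTop ℤ} (h : a ≤ b) : g b ≤ g a := by
  induction b using WithTop.recTopCoe with
  | top => simpa using g_nonneg a
  | coe m =>
    induction a using WithTop.recTopCoe with
    | top => simp at h
    | coe n =>
      simp only [g_coe]
      have h' : n ≤ m := by exact_mod_cast h
      exact zpow_le_zpow_right₀ (by norm_num) (by omega)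

lemma key_iff (a : WithTop ℤ) (k p q : ℕ) (hq : 0 < q) :
    ((k * p : ℕ) : WithTop ℤ) ≤ (q : WithTop ℤ) * a ↔ g a ^ q * ((2 : ℝ) ^ p) ^ k ≤ 1 := by
  induction a using WithTop.recTopCoe with
  | top =>
    have hq' : (q : WithTop ℤ) ≠ 0 := by exact_mod_cast hq.ne'
    rw [WithTop.mul_top hq']
    simp [hq.ne']
  | coe n =>
    have e1 : (q : WithTop ℤ) * (n : WithTop ℤ) = (((q : ℤ) * n : ℤ) : WithTop ℤ) := by
      push_cast; rfl
    have e2 : ((k * p : ℕ) : WithTop ℤ) = (((k : ℤ) * p : ℤ) : WithTop ℤ) := by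
      push_cast; rfl
    rw [e1, e2, WithTop.coe_le_coe, g_coe]
    have e3 : ((2 : ℝ) ^ (-n)) ^ q * ((2 : ℝ) ^ p) ^ k = (2 : ℝ) ^ ((k : ℤ) * p - q * n) := by
      rw [← zpow_natCast ((2 : ℝ) ^ (-n)) q, ← zpow_mul, ← pow_mul, ← zpow_natCast (2 : ℝ) (p * k),
        ← zpow_add₀ (by norm_num)]
      congr 1
      push_cast
      ring
    rw [e3]
    constructor
    · intro h
      exact zpow_le_one_of_nonpos₀ (by norm_num) (by omega)
    · intro h
      by_contra hlt
      push Not at hlt
      have : (1 : ℝ) < (2 : ℝ) ^ ((k : ℤ) * p - q * n) :=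
        one_lt_zpow₀ (by norm_num) (by omega)
      linarith

variable {A K : Type u} [CommRing A] [IsDomain A] [Field K] [Algebra A K] [IsFractionRing A K]

/-- the absolute value `x ↦ 2 ^ (- q v(x))` on `A`. -/
noncomputable def av (v : AddValuation K (WithTop ℤ)) (q : ℕ) (hq : 0 < q) : AbsoluteValue A ℝ where
  toFun x := g (v (algebraMap A K x)) ^ q
  map_mul' x y := by
    simp only [map_mul, AddValuation.map_mul, g_add, mul_pow]
  nonneg' x := pow_nonneg (g_nonneg _) _
  eq_zero' x := by
    rw [pow_eq_zero_iff hq.ne', g_eq_zero_iff, AddValuation.top_iff,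
      map_eq_zero_iff _ (IsFractionRing.injective A K)]
  add_le' x y := by
    rw [map_add]
    rcases AddValuation.map_add' v (algebraMap A K x) (algebraMap A K y) with h1 | h1
    · have h2 := g_antitone h1
      calc _ ≤ g (v (algebraMap A K x)) ^ q := pow_le_pow_left₀ (g_nonneg _) h2 q
        _ ≤ _ := le_add_of_nonneg_right (pow_nonneg (g_nonneg _) _)
    · have h2 := g_antitone h1
      calc _ ≤ g (v (algebraMap A K y)) ^ q := pow_le_pow_left₀ (g_nonneg _) h2 q
        _ ≤ _ := le_add_of_nonneg_left (pow_nonneg (g_nonneg _) _)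

lemma av_apply (v : AddValuation K (WithTop ℤ)) (q : ℕ) (hq : 0 < q) (x : A) :
    av v q hq x = g (v (algebraMap A K x)) ^ q := rfl

lemma isNonarchimedean_av (v : AddValuation K (WithTop ℤ)) (q : ℕ) (hq : 0 < q) :
    IsNonarchimedean (av (A := A) v q hq) := by
  intro x y
  rw [av_apply, av_apply, av_apply, map_add]
  rcases AddValuation.map_add' v (algebraMap A K x) (algebraMap A K y) with h1 | h1
  · exact le_max_of_le_left (pow_le_pow_left₀ (g_nonneg _) (g_antitone h1) q)
  · exact le_max_of_le_right (pow_le_pow_left₀ (g_nonneg _) (g_antitone h1) q)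

end Groth.Agent.H7.RV
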