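import Mathlib
import Groth.Agent.Lib.Helper7.RV1

/-!
# Helper7: RV2 — Rees algebra of a filtration cut out by valuations is integrally closed (S14652)
-/

set_option autoImplicit false

universe u

open Polynomial

namespace Groth.Agent.H7.RV

/-- elements integral over a subring of the unit ball of a nonarchimedean absolute value have
norm at most one. -/
lemma le_one_of_isIntegral {R S : Type*} [CommRing R] [CommRing S] [IsDomain S] [Algebra R S]
    (N : AbsoluteValue S ℝ) (hna : IsNonarchimedean N)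
    (hR : ∀ r : R, N (algebraMap R S r) ≤ 1) (x : S) (hx : IsIntegral R x) : N x ≤ 1 := by
  obtain ⟨P, hm, hP⟩ := hx
  by_contra hlt
  push Not at hlt
  have hx0 : 0 < N x := lt_trans zero_lt_one hlt
  by_cases hn : P.natDegree = 0
  · rw [Polynomial.natDegree_eq_zero] at hn
    obtain ⟨c, rfl⟩ := hn
    have hc : c = 1 := by
      have := hm.leadingCoeff
      simpa using this
    subst hc
    simp at hP
  · rw [Polynomial.eval₂_eq_sum_range, Finset.sum_range_succ, hm.coeff_natDegree, map_one,
      one_mul, add_eq_zero_iff_eq_neg] at hP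
    have h1 : N (x ^ P.natDegree) = N x ^ P.natDegree := map_pow N x _
    have hne : (Finset.range P.natDegree).Nonempty := by
      rw [Finset.nonempty_range_iff]; exact hn
    obtain ⟨j, hj, hle⟩ := IsNonarchimedean.finset_image_add_of_nonempty hna
      (fun i => algebraMap R S (P.coeff i) * x ^ i) hne
    rw [Finset.mem_range] at hj
    have h2 : N (x ^ P.natDegree) ≤ N x ^ j := by
      have hP' : x ^ P.natDegree =
          -∑ i ∈ Finset.range P.natDegree, algebraMap R S (P.coeff i) * x ^ i := by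
        rw [hP, neg_neg]
      rw [hP', AbsoluteValue.map_neg]
      refine hle.trans ?_
      rw [map_mul, map_pow]
      calc N (algebraMap R S (P.coeff j)) * N x ^ j ≤ 1 * N x ^ j := by
            gcongr
            exact hR _
        _ = N x ^ j := one_mul _
    rw [h1] at h2
    have h3 : N x ^ j < N x ^ P.natDegree := pow_lt_pow_right₀ hlt hj
    linarith

variable {A K : Type u} [CommRing A] [IsDomain A] [Field K] [Algebra A K] [IsFractionRing A K]

section
variable {ι : Type} (v : ι → AddValuation K (WithTop ℤ)) (p q : ι → ℕ) (hq : ∀ i, 0 < q i)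

/-- the weighted Gauss norm attached to `v i`, `p i / q i`. -/
noncomputable def N (i : ι) (f : A[X]) : ℝ :=
  f.gaussNorm (av (A := A) (v i) (q i) (hq i)) ((2 : ℝ) ^ (p i))

lemma N_le_one_iff (i : ι) (f : A[X]) :
    N v p q hq i f ≤ 1 ↔
      ∀ n, av (A := A) (v i) (q i) (hq i) (f.coeff n) * ((2 : ℝ) ^ (p i)) ^ n ≤ 1 := by
  constructor
  · intro h n
    exact (Polynomial.le_gaussNorm _ _ (by positivity) n).trans h
  · intro h
    obtain ⟨n, hn⟩ := Polynomial.exists_eq_gaussNorm (av (A := A) (v i) (q i) (hq i))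
      ((2 : ℝ) ^ (p i)) f
    unfold N
    rw [hn]
    exact h n

variable (𝓕 : FiltBl.IdealFiltration A)
  (hF : ∀ (k : ℕ) (x : A), x ∈ 𝓕.F k ↔
      ∀ i, ((k * p i : ℕ) : WithTop ℤ) ≤ (q i : WithTop ℤ) * v i (algebraMap A K x))

include hF in
lemma mem_rees_iff (f : A[X]) : f ∈ 𝓕.rees ↔ ∀ i, N v p q hq i f ≤ 1 := by
  have h0 : f ∈ 𝓕.rees ↔ ∀ n, f.coeff n ∈ 𝓕.F n := Iff.rfl
  rw [h0]
  simp only [N_le_one_iff, hF, av_apply, ← key_iff _ _ _ _ (hq _)]
  exact forall_comm

/-- the Gauss norm as a bundled absolute value -/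
noncomputable def Nabs (i : ι) : AbsoluteValue A[X] ℝ :=
  @IsAbsoluteValue.toAbsoluteValue _ _ _ _ _ (N (A := A) v p q hq i)
    (Polynomial.gaussNorm_isAbsoluteValue (isNonarchimedean_av (v i) (q i) (hq i))
      (by positivity))

lemma Nabs_apply (i : ι) (f : A[X]) : Nabs v p q hq i f = N v p q hq i f := rfl

lemma isNonarchimedean_Nabs (i : ι) : IsNonarchimedean (Nabs (A := A) v p q hq i) :=
  Polynomial.isNonarchimedean_gaussNorm _ (isNonarchimedean_av (v i) (q i) (hq i)) (by positivity)

include hF hq in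
theorem isIntegrallyClosedIn_rees : IsIntegrallyClosedIn 𝓕.rees A[X] := by
  rw [isIntegrallyClosedIn_iff]
  refine ⟨Subtype.val_injective, ?_⟩
  intro f hf
  have hmem : f ∈ 𝓕.rees := by
    rw [mem_rees_iff v p q hq 𝓕 hF]
    intro i
    rw [← Nabs_apply]
    refine le_one_of_isIntegral (R := 𝓕.rees) (Nabs v p q hq i) (isNonarchimedean_Nabs v p q hq i)
      ?_ f hf
    intro r
    rw [Nabs_apply]
    exact (mem_rees_iff v p q hq 𝓕 hF _).1 r.2 i
  exact ⟨⟨f, hmem⟩, rfl⟩

include hF hq in
theorem S14652_main [IsIntegrallyClosed A] : IsIntegrallyClosed 𝓕.rees := by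
  haveI := isIntegrallyClosedIn_rees v p q hq 𝓕 hF
  exact IsIntegrallyClosed.of_isIntegrallyClosed_of_isIntegrallyClosedIn 𝓕.rees A[X]

end

end Groth.Agent.H7.RV
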