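import Groth.Agent.Lib.Helper7.Ram1

/-! Higher ramification groups: `G_i/G_{i+1}` for `i ≥ 2` and `G_1/G_2` (helper7). -/

set_option autoImplicit false

namespace Groth.Agent.H7.Ram

open FunFld WithZero Polynomial

variable {k F L : Type*} [Field k] [Field F] [Field L] [Algebra k F] [Algebra F L] [Algebra k L]
  [IsScalarTower k F L] (Q : Place k L)

/-- `σ ∈ G_i`. -/
def InG (i : ℕ) (σ : L ≃ₐ[F] L) : Prop :=
  ∀ x : L, Q.1 x ≤ 1 → Q.1 (σ x - x) ≤ exp (-(i : ℤ))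

/-- the underlying `k`-algebra endomorphism -/
abbrev toK (σ : L ≃ₐ[F] L) : L →ₐ[k] L := (σ : L →ₐ[F] L).restrictScalars k

variable {Q}

lemma InG.mono {i j : ℕ} (hij : i ≤ j) {σ : L ≃ₐ[F] L} (h : InG Q j σ) : InG Q i σ :=
  fun x hx => (h x hx).trans (by rw [exp_le_exp]; omega)

lemma InG.one (i : ℕ) : InG Q i (1 : L ≃ₐ[F] L) := fun x _ => by simp

lemma InG.hσ {i : ℕ} (hi : 1 ≤ i) {σ : L ≃ₐ[F] L} (h : InG Q i σ) :
    ∀ x, Q.1 x ≤ 1 → Q.1 (toK (k := k) σ x - x) ≤ exp (-1) := by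
  intro x hx
  have := (h.mono hi) x hx
  simpa using this

lemma InG.mul {i : ℕ} (hi : 1 ≤ i) {σ τ : L ≃ₐ[F] L} (hσ : InG Q i σ) (hτ : InG Q i τ) :
    InG Q i (σ * τ) := by
  intro x hx
  obtain ⟨t, ht⟩ := Q.exists_uniformizer
  have : (σ * τ) x - x = σ (τ x - x) + (σ x - x) := by
    rw [AlgEquiv.mul_apply, map_sub]; ring
  rw [this]
  refine (Q.1.map_add _ _).trans (max_le ?_ (hσ x hx))
  exact map_le_exp Q (toK (k := k) σ) (hσ.hσ hi) ht i (hτ x hx)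

lemma InG.pow {i : ℕ} (hi : 1 ≤ i) {σ : L ≃ₐ[F] L} (hσ : InG Q i σ) (n : ℕ) :
    InG Q i (σ ^ n) := by
  induction n with
  | zero => simpa using InG.one i
  | succ n ih => rw [pow_succ]; exact ih.mul hi hσ

lemma InG.inv [Finite (L ≃ₐ[F] L)] {i : ℕ} (hi : 1 ≤ i) {σ : L ≃ₐ[F] L} (hσ : InG Q i σ) :
    InG Q i σ⁻¹ := by
  have h1 : σ⁻¹ = σ ^ (orderOf σ - 1) := by
    have hpos : 0 < orderOf σ := orderOf_pos σ
    rw [inv_eq_iff_mul_eq_one, ← pow_succ', Nat.sub_add_cancel hpos, pow_orderOf_eq_one]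
  rw [h1]; exact hσ.pow hi _

/-- `σ ∈ G_i`, `y ∈ m^n` ⟹ `σ y - y ∈ m^{n+i-1}`. -/
lemma InG.sub_le {i : ℕ} (hi : 1 ≤ i) {σ : L ≃ₐ[F] L} (hσ : InG Q i σ) (n : ℕ) {y : L}
    (hy : Q.1 y ≤ exp (-(n : ℤ))) : Q.1 (σ y - y) ≤ exp (-((n : ℤ) + i - 1)) := by
  obtain ⟨t, ht⟩ := Q.exists_uniformizer
  have ht1 : Q.1 t ≤ 1 := by rw [ht]; simpa using exp_neg_le_one 1
  obtain ⟨z, hz1, rfl⟩ := exists_eq_pow_mul Q ht n hy
  have hst : Q.1 (σ t) ≤ exp (-1) := by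
    have := map_le_exp Q (toK (k := k) σ) (hσ.hσ hi) ht 1 (x := t) (by simpa using ht.le)
    simpa using this
  have e1 : σ (t ^ n * z) - t ^ n * z = σ t ^ n * (σ z - z) + (σ t ^ n - t ^ n) * z := by
    rw [map_mul, map_pow]; ring
  rw [e1]
  refine (Q.1.map_add _ _).trans (max_le ?_ ?_)
  · rw [map_mul, map_pow]
    calc Q.1 (σ t) ^ n * Q.1 (σ z - z) ≤ exp (-1) ^ n * exp (-(i : ℤ)) :=
          mul_le_mul' (pow_le_pow_left' hst n) (hσ z hz1)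
      _ = exp (-((n : ℤ) + i)) := by
          rw [exp_neg_pow, ← exp_add]; congr 1; ring
      _ ≤ _ := by rw [exp_le_exp]; omega
  · rw [← Commute.geom_sum₂_mul (Commute.all _ _), map_mul, map_mul]
    have hsum : Q.1 (∑ j ∈ Finset.range n, σ t ^ j * t ^ (n - 1 - j)) ≤ exp (-((n : ℤ) - 1)) := by
      apply Valuation.map_sum_le
      intro j hj
      rw [Finset.mem_range] at hj
      rw [map_mul, map_pow, map_pow, ht]
      calc Q.1 (σ t) ^ j * exp (-1) ^ (n - 1 - j) ≤ exp (-1) ^ j * exp (-1) ^ (n - 1 - j) :=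
            mul_le_mul' (pow_le_pow_left' hst j) le_rfl
        _ = exp (-((n : ℤ) - 1)) := by
            rw [← pow_add, exp_neg_pow]; congr 2; omega
    calc Q.1 (∑ j ∈ Finset.range n, σ t ^ j * t ^ (n - 1 - j)) * Q.1 (σ t - t) * Q.1 z
        ≤ exp (-((n : ℤ) - 1)) * exp (-(i : ℤ)) * 1 :=
          mul_le_mul' (mul_le_mul' hsum (hσ t ht1)) hz1
      _ = _ := by rw [mul_one, ← exp_add]; congr 1; ring

/-- additivity of `σ ↦ σ t - t` modulo `m^{i+1}` on `G_i`, `i ≥ 2`. -/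
lemma InG.additive {i : ℕ} (hi : 2 ≤ i) {σ τ : L ≃ₐ[F] L} (hσ : InG Q i σ) (hτ : InG Q i τ)
    {t : L} (ht1 : Q.1 t ≤ 1) :
    Q.1 ((σ * τ) t - t - ((σ t - t) + (τ t - t))) ≤ exp (-((i : ℤ) + 1)) := by
  have e1 : (σ * τ) t - t - ((σ t - t) + (τ t - t)) = σ (τ t - t) - (τ t - t) := by
    rw [AlgEquiv.mul_apply, map_sub]; ring
  rw [e1]
  refine (hσ.sub_le (k := k) (by omega) i (hτ t ht1)).trans ?_
  rw [exp_le_exp]; omega

variable [Algebra.IsSeparable k (IsLocalRing.ResidueField Q.O)]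

/-- membership in `G_j` from the action on a uniformizer. -/
lemma InG.of_uniformizer {σ : L ≃ₐ[F] L} (hσ : InG Q 1 σ) {t : L} (ht : Q.1 t = exp (-1))
    (j : ℕ) (hj : 1 ≤ j) (htj : Q.1 (σ t - t) ≤ exp (-(j : ℤ))) : InG Q j σ := by
  intro x hx
  exact forall_sub_le_of_uniformizer Q (toK (k := k) σ) (hσ.hσ le_rfl) ht j hj htj hx

variable [Finite (L ≃ₐ[F] L)]

/-- `σ^n t - t ≡ n (σ t - t)` mod `m^{i+1}`. -/
lemma InG.pow_sub {i : ℕ} (hi : 2 ≤ i) {σ : L ≃ₐ[F] L} (hσ : InG Q i σ) {t : L}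
    (ht1 : Q.1 t ≤ 1) (n : ℕ) :
    Q.1 ((σ ^ n) t - t - (n : L) * (σ t - t)) ≤ exp (-((i : ℤ) + 1)) := by
  induction n with
  | zero => simp
  | succ n ih =>
    have h1 := (hσ.pow (by omega) n).additive (k := k) hi hσ ht1
    have e : (σ ^ (n + 1)) t - t - ((n + 1 : ℕ) : L) * (σ t - t) =
        ((σ ^ n * σ) t - t - (((σ ^ n) t - t) + (σ t - t))) +
          ((σ ^ n) t - t - (n : L) * (σ t - t)) := by
      rw [pow_succ]; push_cast; ring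
    rw [e]
    exact (Q.1.map_add _ _).trans (max_le h1 ih)

theorem commutator_mem {i : ℕ} (hi : 2 ≤ i) {σ τ : L ≃ₐ[F] L} (hσ : InG Q i σ) (hτ : InG Q i τ) :
    InG Q (i + 1) (σ * τ * σ⁻¹ * τ⁻¹) := by
  obtain ⟨t, ht⟩ := Q.exists_uniformizer
  have ht1 : Q.1 t ≤ 1 := by rw [ht]; simpa using exp_neg_le_one 1
  have hi1 : 1 ≤ i := by omega
  have hσi := hσ.inv hi1
  have hτi := hτ.inv hi1
  have hρ : InG Q i (σ * τ * σ⁻¹ * τ⁻¹) := ((hσ.mul hi1 hτ).mul hi1 hσi).mul hi1 hτi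
  refine InG.of_uniformizer (k := k) (hρ.mono hi1) ht (i + 1) (by omega) ?_
  -- decompose
  have a1 := ((hσ.mul hi1 hτ).mul hi1 hσi).additive (k := k) hi hτi ht1
  have a2 := (hσ.mul hi1 hτ).additive (k := k) hi hσi ht1
  have a3 := hσ.additive (k := k) hi hτ ht1
  have a4 := hσ.additive (k := k) hi hσi ht1
  have a5 := hτ.additive (k := k) hi hτi ht1
  rw [mul_inv_cancel] at a4 a5
  simp only [AlgEquiv.one_apply, sub_self, zero_sub] at a4 a5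
  rw [Valuation.map_neg] at a4 a5
  have e : (σ * τ * σ⁻¹ * τ⁻¹) t - t =
      ((σ * τ * σ⁻¹ * τ⁻¹) t - t - (((σ * τ * σ⁻¹) t - t) + (τ⁻¹ t - t))) +
      (((σ * τ * σ⁻¹) t - t - (((σ * τ) t - t) + (σ⁻¹ t - t))) +
      (((σ * τ) t - t - ((σ t - t) + (τ t - t))) +
      (((σ t - t) + (σ⁻¹ t - t)) + ((τ t - t) + (τ⁻¹ t - t))))) := by ring
  rw [e]
  have hcast : (exp (-((i : ℤ) + 1)) : WithZero (Multiplicative ℤ)) = exp (-((i + 1 : ℕ) : ℤ)) := by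
    push_cast; rfl
  rw [← hcast]
  refine (Q.1.map_add _ _).trans (max_le a1 ?_)
  refine (Q.1.map_add _ _).trans (max_le a2 ?_)
  refine (Q.1.map_add _ _).trans (max_le a3 ?_)
  exact (Q.1.map_add _ _).trans (max_le a4 a5)

theorem pow_char_mem {i : ℕ} (hi : 2 ≤ i) {σ : L ≃ₐ[F] L} (hσ : InG Q i σ) (p : ℕ)
    (hp : (p : L) = 0) : InG Q (i + 1) (σ ^ p) := by
  obtain ⟨t, ht⟩ := Q.exists_uniformizer
  have ht1 : Q.1 t ≤ 1 := by rw [ht]; simpa using exp_neg_le_one 1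
  have hi1 : 1 ≤ i := by omega
  refine InG.of_uniformizer (k := k) ((hσ.pow hi1 p).mono hi1) ht (i + 1) (by omega) ?_
  have := hσ.pow_sub (k := k) hi ht1 p
  rw [hp, zero_mul, sub_zero] at this
  refine this.trans (le_of_eq ?_)
  push_cast; rfl

theorem mem_succ_of_charZero {i : ℕ} (hi : 2 ≤ i) {σ : L ≃ₐ[F] L} (hσ : InG Q i σ)
    (h0 : ∀ n : ℕ, n ≠ 0 → (n : k) ≠ 0) : InG Q (i + 1) σ := by
  obtain ⟨t, ht⟩ := Q.exists_uniformizer
  have ht1 : Q.1 t ≤ 1 := by rw [ht]; simpa using exp_neg_le_one 1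
  have hi1 : 1 ≤ i := by omega
  refine InG.of_uniformizer (k := k) (hσ.mono hi1) ht (i + 1) (by omega) ?_
  have := hσ.pow_sub (k := k) hi ht1 (orderOf σ)
  rw [pow_orderOf_eq_one, AlgEquiv.one_apply, sub_self, zero_sub, Valuation.map_neg, map_mul] at this
  have hn : Q.1 ((orderOf σ : ℕ) : L) = 1 := by
    have : ((orderOf σ : ℕ) : L) = algebraMap k L ((orderOf σ : ℕ) : k) := by simp
    rw [this]
    exact Q.v_algebraMap (h0 _ (orderOf_pos σ).ne')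
  rw [hn, one_mul] at this
  refine this.trans (le_of_eq ?_)
  push_cast; rfl

end Groth.Agent.H7.Ram
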