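import Groth.Agent.Lib.Helper7.Ram2

/-! `G_1/G_2` is cyclic (helper7). -/

set_option autoImplicit false

namespace Groth.Agent.H7.Ram

open FunFld WithZero Polynomial

variable {k F L : Type*} [Field k] [Field F] [Field L] [Algebra k F] [Algebra F L] [Algebra k L]
  [IsScalarTower k F L] {Q : Place k L} [Finite (L ≃ₐ[F] L)]

lemma InG.map_le {σ : L ≃ₐ[F] L} (hσ : InG Q 1 σ) {x : L} (hx : Q.1 x ≤ 1) : Q.1 (σ x) ≤ Q.1 x := by
  rcases eq_or_ne x 0 with rfl | hx0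
  · simp
  obtain ⟨t, ht⟩ := Q.exists_uniformizer
  have h1 : 0 ≤ Q.ord x := (Q.v_le_one_iff hx0).1 hx
  obtain ⟨n, hn⟩ := Int.eq_ofNat_of_zero_le h1
  have h2 : Q.1 x = exp (-(n : ℤ)) := by rw [Q.v_eq_exp_neg_ord hx0, hn]
  rw [h2]
  exact map_le_exp Q (toK (k := k) σ) (hσ.hσ le_rfl) ht n h2.le

lemma InG.map_eq {σ : L ≃ₐ[F] L} (hσ : InG Q 1 σ) (x : L) : Q.1 (σ x) = Q.1 x := by
  have hi := hσ.inv le_rfl
  have key : ∀ x : L, Q.1 x ≤ 1 → Q.1 (σ x) = Q.1 x := by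
    intro x hx
    refine le_antisymm (hσ.map_le hx) ?_
    have h1 := hσ.map_le hx
    have h2 := hi.map_le (h1.trans hx)
    have : σ⁻¹ (σ x) = x := by
      rw [← AlgEquiv.mul_apply, inv_mul_cancel, AlgEquiv.one_apply]
    rwa [this] at h2
  rcases le_or_gt (Q.1 x) 1 with hx | hx
  · exact key x hx
  · have hx0 : x ≠ 0 := by rintro rfl; simp at hx
    have h1 : Q.1 x⁻¹ ≤ 1 := by
      rw [map_inv₀]; exact inv_le_one_of_one_le₀ hx.le
    have h2 := key x⁻¹ h1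
    rw [map_inv₀, map_inv₀, map_inv₀, inv_inj] at h2
    exact h2

variable (Q) in
/-- the inertia group `G_1` as a subgroup -/
def G1 : Subgroup (L ≃ₐ[F] L) where
  carrier := {σ | InG Q 1 σ}
  mul_mem' := fun ha hb => InG.mul le_rfl ha hb
  one_mem' := InG.one 1
  inv_mem' := fun ha => InG.inv le_rfl ha

lemma v_div_eq_one {σ : L ≃ₐ[F] L} (hσ : InG Q 1 σ) {t : L} (ht0 : t ≠ 0) :
    Q.1 (σ t / t) = 1 := by
  rw [map_div₀, hσ.map_eq, div_self (Q.v_ne_zero ht0)]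

open scoped Classical in
/-- residue class (junk value `0` off the valuation ring) -/
noncomputable def evalAux (Q : Place k L) (z : L) : IsLocalRing.ResidueField Q.O :=
  if h : Q.1 z ≤ 1 then IsLocalRing.residue Q.O ⟨z, Q.mem_O_iff.2 h⟩ else 0

/-- the residue class of `σ t / t`. -/
noncomputable def thetaFun (t : L) (σ : L ≃ₐ[F] L) : IsLocalRing.ResidueField Q.O :=
  evalAux Q (σ t / t)

lemma evalAux_eq {z : L} (h : Q.1 z ≤ 1) :
    evalAux Q z = IsLocalRing.residue Q.O ⟨z, Q.mem_O_iff.2 h⟩ := by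
  unfold evalAux; rw [dif_pos h]

lemma evalAux_mul {z w : L} (hz : Q.1 z ≤ 1) (hw : Q.1 w ≤ 1) :
    evalAux Q (z * w) = evalAux Q z * evalAux Q w := by
  have hzw : Q.1 (z * w) ≤ 1 := by rw [map_mul]; exact mul_le_one' hz hw
  rw [evalAux_eq hz, evalAux_eq hw, evalAux_eq hzw, ← map_mul]
  rfl

lemma evalAux_eq_of_sub {z w : L} (hz : Q.1 z ≤ 1) (hw : Q.1 w ≤ 1) (h : Q.1 (z - w) < 1) :
    evalAux Q z = evalAux Q w := by
  rw [evalAux_eq hz, evalAux_eq hw, ← sub_eq_zero, ← map_sub, Q.residue_eq_zero_iff]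
  exact h

lemma evalAux_eq_one_iff {z : L} (hz : Q.1 z ≤ 1) :
    evalAux Q z = 1 ↔ Q.1 (z - 1) < 1 := by
  rw [evalAux_eq hz, ← sub_eq_zero, ← map_one (IsLocalRing.residue Q.O), ← map_sub,
    Q.residue_eq_zero_iff]
  rfl

lemma evalAux_ne_zero {z : L} (hz : Q.1 z = 1) : evalAux Q z ≠ 0 := by
  rw [evalAux_eq hz.le, Ne, Q.residue_eq_zero_iff]
  simp [hz]

lemma thetaFun_mul {t : L} (ht0 : t ≠ 0) {σ τ : L ≃ₐ[F] L} (hσ : InG Q 1 σ) (hτ : InG Q 1 τ) :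
    thetaFun (Q := Q) t (σ * τ) = thetaFun t σ * thetaFun t τ := by
  unfold thetaFun
  have e : (σ * τ) t / t = σ (τ t / t) * (σ t / t) := by
    rw [AlgEquiv.mul_apply, map_div₀]
    have : σ t ≠ 0 := by simpa using ht0
    field_simp
  have h1 := v_div_eq_one hσ ht0
  have h2 := v_div_eq_one hτ ht0
  have h3 : Q.1 (σ (τ t / t)) ≤ 1 := by rw [hσ.map_eq]; exact h2.le
  rw [e, evalAux_mul h3 h1.le, mul_comm]
  congr 1
  apply evalAux_eq_of_sub h3 h2.le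
  rw [lt_one_iff_le_exp]
  exact hσ _ h2.le

variable (Q) in
/-- the character `θ : G_1 → F_Q^×`. -/
noncomputable def theta {t : L} (ht0 : t ≠ 0) : G1 (F := F) Q →* (IsLocalRing.ResidueField Q.O)ˣ :=
  MonoidHom.mk' (fun σ => Units.mk0 (thetaFun t σ.1) (evalAux_ne_zero (v_div_eq_one σ.2 ht0)))
    (fun σ τ => by
      apply Units.ext
      simp only [Units.val_mul, Units.val_mk0]
      exact thetaFun_mul ht0 σ.2 τ.2)

variable [Algebra.IsSeparable k (IsLocalRing.ResidueField Q.O)]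

theorem exists_generator_G1_mod_G2 :
    ∃ σ₀ : L ≃ₐ[F] L, InG Q 1 σ₀ ∧ ∀ σ : L ≃ₐ[F] L, InG Q 1 σ →
      ∃ n : ℕ, InG Q 2 ((σ₀ ^ n)⁻¹ * σ) := by
  obtain ⟨t, ht⟩ := Q.exists_uniformizer
  have ht0 : t ≠ 0 := by
    rintro rfl; rw [map_zero] at ht; exact exp_ne_zero ht.symm
  set θ := theta (F := F) Q ht0 with hθ
  have : Finite θ.range := Set.finite_range θ
  obtain ⟨g, hg⟩ := IsCyclic.exists_monoid_generator (α := θ.range)
  obtain ⟨σ₀, hσ₀⟩ := g.2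
  refine ⟨σ₀.1, σ₀.2, ?_⟩
  intro σ hσ
  obtain ⟨n, hn⟩ := hg ⟨θ ⟨σ, hσ⟩, ⟨_, rfl⟩⟩
  refine ⟨n, ?_⟩
  have hn' : θ σ₀ ^ n = θ ⟨σ, hσ⟩ := by
    have := congrArg Subtype.val hn
    simpa [← hσ₀] using this
  have hker : θ ((σ₀ ^ n)⁻¹ * ⟨σ, hσ⟩) = 1 := by
    rw [map_mul, map_inv, map_pow, hn', inv_mul_cancel]
  set ρ : G1 (F := F) Q := (σ₀ ^ n)⁻¹ * ⟨σ, hσ⟩ with hρ
  have hρ1 : InG Q 1 ρ.1 := ρ.2
  have hval : (ρ.1 : L ≃ₐ[F] L) = (σ₀.1 ^ n)⁻¹ * σ := by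
    rw [hρ]; simp
  rw [← hval]
  refine InG.of_uniformizer (k := k) hρ1 ht 2 (by norm_num) ?_
  have h1 : thetaFun (Q := Q) t ρ.1 = 1 := by
    have := congrArg Units.val hker
    simpa [hθ, theta] using this
  unfold thetaFun at h1
  rw [evalAux_eq_one_iff (v_div_eq_one hρ1 ht0).le, lt_one_iff_le_exp] at h1
  have e : ρ.1 t - t = (ρ.1 t / t - 1) * t := by field_simp
  rw [e, map_mul, ht]
  calc Q.1 (ρ.1 t / t - 1) * exp (-1) ≤ exp (-1) * exp (-1) := mul_le_mul' h1 le_rfl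
    _ = _ := by rw [← exp_add]; rfl

end Groth.Agent.H7.Ram
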