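import Mathlib

open CategoryTheory CategoryTheory.Limits Opposite

universe u

namespace Groth.Agent.H7.RanCocont

variable {C : Type u} [SmallCategory C] {C' : Type u} [SmallCategory C']
  (J : GrothendieckTopology C) (J' : GrothendieckTopology C') (u : C ⥤ C')

/-- the classifier sheaf -/
noncomputable abbrev Ω : Cᵒᵖ ⥤ Type u := (Functor.closedSieves J).toFunctor

theorem isClosed_top (X : C) : J.IsClosed (⊤ : Sieve X) := fun _ _ _ => trivial

/-- The classifying map. -/
noncomputable def χ {Y : C} (R : Sieve (u.obj Y)) :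
    ((Functor.whiskeringLeft Cᵒᵖ C'ᵒᵖ (Type u)).obj u.op).obj (yoneda.obj (u.obj Y)) ⟶ Ω J where
  app Z := ↾fun (h : u.obj Z.unop ⟶ u.obj Y) =>
    (⟨J.close ((R.pullback h).functorPullback u), J.close_isClosed _⟩ : (Ω J).obj Z)
  naturality Z Z' m := by
    ext (h : u.obj Z.unop ⟶ u.obj Y)
    apply Subtype.ext
    show J.close ((R.pullback (u.map m.unop ≫ h)).functorPullback u) =
      (J.close ((R.pullback h).functorPullback u)).pullback m.unop
    rw [← J.pullback_close, Sieve.pullback_comp, Sieve.functorPullback_pullback]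

theorem χ_app_val {Y : C} (R : Sieve (u.obj Y)) (Z : Cᵒᵖ) (h : u.obj Z.unop ⟶ u.obj Y) :
    ((χ J u R).app Z h).1 = J.close ((R.pullback h).functorPullback u) := rfl

/-- The constant top map. -/
noncomputable def τ (Y : C) :
    ((Functor.whiskeringLeft Cᵒᵖ C'ᵒᵖ (Type u)).obj u.op).obj (yoneda.obj (u.obj Y)) ⟶ Ω J where
  app Z := ↾fun (_ : u.obj Z.unop ⟶ u.obj Y) =>
    (⟨(⊤ : Sieve Z.unop), isClosed_top J _⟩ : (Ω J).obj Z)
  naturality Z Z' m := by
    ext (h : u.obj Z.unop ⟶ u.obj Y)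
    apply Subtype.ext
    show (⊤ : Sieve Z'.unop) = (⊤ : Sieve Z.unop).pullback m.unop
    simp

theorem τ_app_val (Y : C) (Z : Cᵒᵖ) (h : u.obj Z.unop ⟶ u.obj Y) :
    ((τ J u Y).app Z h).1 = (⊤ : Sieve Z.unop) := rfl

theorem main (h : ∀ G : Sheaf J (Type u), Presheaf.IsSheaf J' ((u.op.ran).obj G.obj)) :
    u.IsCocontinuous J J' := by
  refine ⟨fun {Y R} hR => ?_⟩
  let G : Sheaf J (Type u) := ⟨Ω J, (isSheaf_iff_isSheaf_of_type _ _).mpr (classifier_isSheaf J)⟩
  have hG := (isSheaf_iff_isSheaf_of_type _ _).mp (h G)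
  have hR' : Presieve.IsSheafFor ((u.op.ran).obj (Ω J)) R.arrows := hG _ hR
  let adj := u.op.ranAdjunction (Type u)
  have key : adj.homEquiv _ _ (χ J u R) = adj.homEquiv _ _ (τ J u Y) := by
    apply hR'.hom_ext
    rw [← Adjunction.homEquiv_naturality_left, ← Adjunction.homEquiv_naturality_left]
    congr 1
    ext Z ⟨k, hk⟩
    apply Subtype.ext
    show J.close ((R.pullback k).functorPullback u) = ⊤
    rw [J.close_eq_top_iff_mem]
    have : R.pullback k = ⊤ := Sieve.pullback_eq_top_of_mem R hk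
    rw [this, Sieve.functorPullback_top]
    exact J.top_mem _
  have key2 : χ J u R = τ J u Y := (adj.homEquiv _ _).injective key
  have h3 : ((χ J u R).app (op Y) (𝟙 (u.obj Y))).1 = ((τ J u Y).app (op Y) (𝟙 (u.obj Y))).1 := by
    rw [key2]
  rw [χ_app_val, τ_app_val, Sieve.pullback_id] at h3
  exact (J.close_eq_top_iff_mem _).mp h3

end Groth.Agent.H7.RanCocont
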