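import Mathlib
import Groth.Agent.Lib.Lead.QC.InvBasis
import Groth.Agent.Lib.Lead.QC.InvIntegral
import Groth.Agent.Lib.Lead.QC.AmpleBase
import Groth.Agent.Lib.Lead.QC.AmpleBasis
import Groth.Prelude.Def_LinSer

set_option autoImplicit false
universe u
open CategoryTheory AlgebraicGeometry Opposite TopologicalSpace

namespace Groth.Agent.H7.RatPt

open Groth.Agent.LD.QC

variable {X : Scheme.{u}}

/-- a point of `Spec k` is the closed point. -/
lemma mem_basicOpen_spec_field (k : Type u) [Field k] (b : Γ(Spec (CommRingCat.of k), ⊤))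
    (y : ↥(Spec (CommRingCat.of k))) :
    y ∈ (Spec (CommRingCat.of k)).basicOpen b ↔ (Scheme.ΓSpecIso (CommRingCat.of k)).hom.hom b ≠ 0 := by
  constructor
  · intro h hb
    have hb0 : b = 0 := by
      have := congrArg (Scheme.ΓSpecIso (CommRingCat.of k)).inv.hom hb
      simpa using this
    rw [hb0, Scheme.basicOpen_zero] at h
    exact h
  · intro h
    have hu : IsUnit ((Scheme.ΓSpecIso (CommRingCat.of k)).hom.hom b) := by
      have : IsUnit ((Scheme.ΓSpecIso (CommRingCat.of k)).hom.hom b : k) := isUnit_iff_ne_zero.mpr h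
      exact this
    have hub : IsUnit b := by
      have := hu.map (Scheme.ΓSpecIso (CommRingCat.of k)).inv.hom
      simpa using this
    rw [Scheme.basicOpen_of_isUnit _ hub]
    trivial

/-- evaluation at a `k`-point through the comorphism. -/
lemma mem_basicOpen_iff (k : Type u) [Field k] (p : Spec (CommRingCat.of k) ⟶ X)
    (y : ↥(Spec (CommRingCat.of k))) (U : X.Opens) (e : ⊤ ≤ p ⁻¹ᵁ U) (a : Γ(X, U)) :
    p y ∈ X.basicOpen a ↔
      (Scheme.ΓSpecIso (CommRingCat.of k)).hom.hom ((p.appLE U ⊤ e).hom a) ≠ 0 := by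
  rw [← mem_basicOpen_spec_field k _ y]
  have h1 : (p.appLE U ⊤ e).hom a =
      (Spec (CommRingCat.of k)).presheaf.map (homOfLE e).op ((p.app U).hom a) := rfl
  rw [h1, Scheme.basicOpen_res, ← Scheme.preimage_basicOpen]
  constructor
  · intro h
    exact ⟨trivial, h⟩
  · intro h
    exact h.2

/-- linear algebra: a homogeneous system of `n` equations in `n + 1` unknowns has a nonzero
solution. -/
lemma exists_ne_zero_solution (k : Type u) [Field k] (n : ℕ) (A : Fin n → Fin (n + 1) → k) :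
    ∃ c : Fin (n + 1) → k, c ≠ 0 ∧ ∀ i, ∑ j, c j * A i j = 0 := by
  let f : (Fin (n + 1) → k) →ₗ[k] (Fin n → k) :=
    { toFun := fun c i => ∑ j, c j * A i j
      map_add' := by
        intro c c'
        funext i
        simp [add_mul, Finset.sum_add_distrib]
      map_smul' := by
        intro r c
        funext i
        simp [Finset.mul_sum, mul_assoc] }
  have h : LinearMap.ker f ≠ ⊥ := by
    apply LinearMap.ker_ne_bot_of_finrank_lt
    simp
  obtain ⟨c, hc, hc0⟩ := (Submodule.ne_bot_iff _).mp h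
  exact ⟨c, hc0, fun i => congrFun (LinearMap.mem_ker.mp hc) i⟩

theorem main (k : Type u) [Field k] (X : Scheme.{u}) [X.Over (Spec (CommRingCat.of k))]
    (L : X.Modules) (hL : PicF.IsInvertible L)
    (n : ℕ) (p : Fin n → (Spec (CommRingCat.of k) ⟶ X))
    (hp : ∀ i, p i ≫ (X ↘ Spec (CommRingCat.of k)) = 𝟙 _)
    (t : Fin (n + 1) → (Coh.structureModule X ⟶ L))
    (ht : LinSer.LinIndep k X L (fun j => (L.unitHomEquiv (t j)).val (op ⊤))) :
    ∃ s : Coh.structureModule X ⟶ L, s ≠ 0 ∧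
      ∀ i, (p i) (IsLocalRing.closedPoint k) ∉ CohB1.genLocus L s := by
  classical
  have hb := fun i =>
    (isInvertible_iff_exists_isBasisOver L).mp hL ((p i) (IsLocalRing.closedPoint k))
  choose U e hxU he using hb
  have hle : ∀ i, (⊤ : (Spec (CommRingCat.of k)).Opens) ≤ (p i) ⁻¹ᵁ (U i) := by
    intro i y _
    have : y = IsLocalRing.closedPoint k := Subsingleton.elim _ _
    rw [this]; exact hxU i
  obtain ⟨ev, hev⟩ : ∃ ev : ∀ i, Γ(X, U i) →+* k, ∀ i, ev i =
      (Scheme.ΓSpecIso (CommRingCat.of k)).hom.hom.comp ((p i).appLE (U i) ⊤ (hle i)).hom :=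
    ⟨_, fun _ => rfl⟩
  obtain ⟨σ, hσ⟩ : ∃ σ : Fin (n + 1) → Γ(L, ⊤), ∀ j, σ j = SecTwist.val (t j) ⊤ := ⟨_, fun _ => rfl⟩
  have hγ := fun i j => (he i).self_smul (L.presheaf.map (homOfLE (le_top : U i ≤ ⊤)).op (σ j))
  choose γ hγ using hγ
  obtain ⟨c, hc0, hc⟩ := exists_ne_zero_solution k n (fun i j => ev i (γ i j))
  obtain ⟨g, hg⟩ : ∃ g : k →+* Γ(X, ⊤), g = Coh.toGlobal (X ↘ Spec (CommRingCat.of k)) := ⟨_, rfl⟩
  obtain ⟨τ, hτ⟩ : ∃ τ : Γ(L, ⊤), τ = ∑ j, g (c j) • σ j := ⟨_, rfl⟩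
  refine ⟨homOfSection L τ, ?_, ?_⟩
  · intro h0
    apply hc0
    apply ht c
    have h1 : SecTwist.val (homOfSection L τ) ⊤ = τ := by
      rw [val_homOfSection]
      exact res_self L _ τ
    rw [h0] at h1
    have h2 : SecTwist.val (0 : Coh.structureModule X ⟶ L) ⊤ = 0 := rfl
    rw [h2] at h1
    rw [← h1] at hτ
    rw [hτ]
    refine Finset.sum_congr rfl (fun j _ => ?_)
    rw [hg, hσ]
    rfl
  · intro i hmem
    have hev_g : ∀ a : k, ev i (X.presheaf.map (homOfLE (le_top : U i ≤ ⊤)).op (g a)) = a := by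
      intro a
      rw [hev i, hg]
      change (Scheme.ΓSpecIso (CommRingCat.of k)).hom.hom
        ((X.presheaf.map (homOfLE (le_top : U i ≤ ⊤)).op ≫ (p i).appLE (U i) ⊤ (hle i)).hom
          (((X ↘ Spec (CommRingCat.of k)).appTop).hom
            ((Scheme.ΓSpecIso (CommRingCat.of k)).inv.hom a))) = a
      rw [Scheme.Hom.map_appLE]
      have h5 : (p i).appLE ⊤ ⊤ ((hle i).trans ((Opens.map (p i).base).map
          (homOfLE (le_top : U i ≤ ⊤)).op.unop).le) = (p i).appTop := by
        rw [Scheme.Hom.appLE, Scheme.Hom.appTop]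
        simp
      rw [h5]
      have h6 : ((p i).appTop).hom (((X ↘ Spec (CommRingCat.of k)).appTop).hom
          ((Scheme.ΓSpecIso (CommRingCat.of k)).inv.hom a)) =
          (Scheme.ΓSpecIso (CommRingCat.of k)).inv.hom a := by
        have h7 := Scheme.Hom.comp_appTop (p i) (X ↘ Spec (CommRingCat.of k))
        rw [hp i] at h7
        have h8 := congrArg (fun φ => φ.hom ((Scheme.ΓSpecIso (CommRingCat.of k)).inv.hom a)) h7
        simp only [CommRingCat.hom_comp, RingHom.comp_apply] at h8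
        rw [← h8]
        simp
      rw [h6]
      simp
    obtain ⟨f, hf⟩ : ∃ f : Γ(X, U i), f =
        ∑ j, X.presheaf.map (homOfLE (le_top : U i ≤ ⊤)).op (g (c j)) * γ i j := ⟨_, rfl⟩
    have hval : SecTwist.val (homOfSection L τ) (U i) = f • e i := by
      rw [val_homOfSection, hτ, map_sum, hf, Finset.sum_smul]
      refine Finset.sum_congr rfl (fun j _ => ?_)
      rw [← smul_smul, hγ i j]
      exact Scheme.Modules.map_smul L (homOfLE (le_top : U i ≤ ⊤)) (g (c j)) (σ j)
    have h1 := genLocus_inf_eq_basicOpen (homOfSection L τ) (he i) f hval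
    have h2 : (p i) (IsLocalRing.closedPoint k) ∈ X.basicOpen f := by
      rw [← h1]
      exact ⟨hmem, hxU i⟩
    have h3 := (mem_basicOpen_iff k (p i) (IsLocalRing.closedPoint k) (U i) (hle i) f).mp h2
    apply h3
    have h4 : (Scheme.ΓSpecIso (CommRingCat.of k)).hom.hom (((p i).appLE (U i) ⊤ (hle i)).hom f) =
        ev i f := by rw [hev i]; rfl
    rw [h4, hf, map_sum]
    rw [← hc i]
    refine Finset.sum_congr rfl (fun j _ => ?_)
    rw [map_mul, hev_g]

end Groth.Agent.H7.RatPt
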