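import Mathlib

/-!
# Helper7: Rcl1 — abstract recollement (gluing) equivalence
-/

set_option autoImplicit false

open CategoryTheory Limits

namespace Groth.Agent.H7.Rcl

universe v₁ v₂ v₃ u₁ u₂ u₃

variable {𝒜 : Type u₁} [Category.{v₁} 𝒜] [Abelian 𝒜]
  {𝒵 : Type u₂} [Category.{v₂} 𝒵] [Abelian 𝒵]
  {𝒰 : Type u₃} [Category.{v₃} 𝒰] [Abelian 𝒰]
  {Li : 𝒜 ⥤ 𝒵} {Ri : 𝒵 ⥤ 𝒜} (adjI : Li ⊣ Ri)
  {Lj : 𝒜 ⥤ 𝒰} {Rj : 𝒰 ⥤ 𝒜} (adjJ : Lj ⊣ Rj)

/-- the abstract recollement functor `F ↦ (i⁻¹F, j⁻¹F, i⁻¹(F → j_*j⁻¹F))` -/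
@[simps]
def recoll (Li : 𝒜 ⥤ 𝒵) : 𝒜 ⥤ Comma (𝟭 𝒵) (Rj ⋙ Li) where
  obj F :=
    { left := Li.obj F
      right := Lj.obj F
      hom := Li.map (adjJ.unit.app F) }
  map {F G} φ :=
    { left := Li.map φ
      right := Lj.map φ
      w := by
        dsimp
        rw [← Functor.map_comp, ← Functor.map_comp]
        congr 1
        exact (adjJ.unit.naturality φ) }
  map_id F := by ext <;> simp
  map_comp φ ψ := by ext <;> simp

theorem isIso_kernel_ι_of_eq_zero {𝒟 : Type*} [Category 𝒟] [Abelian 𝒟] {X Y : 𝒟} (f : X ⟶ Y)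
    (h : f = 0) : IsIso (kernel.ι f) := by
  subst h; infer_instance

theorem isIso_map_kernel_ι {𝒟 : Type*} [Category 𝒟] [Abelian 𝒟] (L : 𝒜 ⥤ 𝒟) [L.Additive]
    [PreservesFiniteLimits L] {A B : 𝒜} (g : A ⟶ B) (h : L.map g = 0) :
    IsIso (L.map (kernel.ι g)) := by
  have h3 : L.map (kernel.ι g) = (PreservesKernel.iso L g).hom ≫ kernel.ι (L.map g) := by
    simp
  rw [h3]
  haveI : IsIso (kernel.ι (L.map g)) := isIso_kernel_ι_of_eq_zero _ h
  infer_instance

section

variable [Li.Additive] [Lj.Additive] [PreservesFiniteLimits Li] [PreservesFiniteLimits Lj]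
  [PreservesFiniteColimits Li] [PreservesFiniteColimits Lj]
  (hdet : ∀ M : 𝒜, IsZero (Li.obj M) → IsZero (Lj.obj M) → IsZero M)

include hdet

theorem isIso_of_map {A B : 𝒜} (g : A ⟶ B) (h1 : IsIso (Li.map g)) (h2 : IsIso (Lj.map g)) :
    IsIso g := by
  haveI : Mono g := by
    apply Preadditive.mono_of_kernel_zero
    apply IsZero.eq_of_src
    apply hdet
    · exact (isZero_kernel_of_mono (Li.map g)).of_iso (PreservesKernel.iso Li g)
    · exact (isZero_kernel_of_mono (Lj.map g)).of_iso (PreservesKernel.iso Lj g)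
  haveI : Epi g := by
    apply Preadditive.epi_of_cokernel_zero
    apply IsZero.eq_of_tgt
    apply hdet
    · exact (isZero_cokernel_of_epi (Li.map g)).of_iso (PreservesCokernel.iso Li g)
    · exact (isZero_cokernel_of_epi (Lj.map g)).of_iso (PreservesCokernel.iso Lj g)
  exact isIso_of_mono_of_epi g

theorem eq_zero_of_map {A B : 𝒜} (g : A ⟶ B) (h1 : Li.map g = 0) (h2 : Lj.map g = 0) : g = 0 := by
  haveI := isIso_of_map hdet (kernel.ι g) (isIso_map_kernel_ι Li g h1) (isIso_map_kernel_ι Lj g h2)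
  rw [← cancel_epi (kernel.ι g)]
  simp

end

section Main

variable [Li.Additive] [Lj.Additive] [PreservesFiniteLimits Li] [PreservesFiniteLimits Lj]
  [PreservesFiniteColimits Li] [PreservesFiniteColimits Lj]
  (hI : ∀ G, IsIso (adjI.counit.app G)) (hJ : ∀ H, IsIso (adjJ.counit.app H))
  (hJI : ∀ G, IsZero (Lj.obj (Ri.obj G)))
  (hdet : ∀ M : 𝒜, IsZero (Li.obj M) → IsZero (Lj.obj M) → IsZero M)

omit [Abelian 𝒜] [Abelian 𝒵] in
theorem isIso_map_unit {𝒟 : Type*} [Category 𝒟] {L : 𝒜 ⥤ 𝒟} {R : 𝒟 ⥤ 𝒜} (adj : L ⊣ R)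
    (h : ∀ G, IsIso (adj.counit.app G)) (M : 𝒜) : IsIso (L.map (adj.unit.app M)) := by
  haveI := h (L.obj M)
  have := adj.left_triangle_components M
  haveI : IsIso (L.map (adj.unit.app M) ≫ adj.counit.app (L.obj M)) := by
    rw [this]; exact IsIso.id _
  exact IsIso.of_isIso_comp_right _ (adj.counit.app (L.obj M))

omit [Abelian 𝒜] in
theorem isIso_of_isZero {𝒟 : Type*} [Category 𝒟] {X Y : 𝒟} (f : X ⟶ Y) (hX : IsZero X)
    (hY : IsZero Y) : IsIso f :=
  ⟨hY.to_ X, hX.eq_of_src _ _, hY.eq_of_src _ _⟩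

include hI hJ hJI hdet in
/-- the fundamental cartesian square -/
theorem isPullback_unit (F : 𝒜) :
    IsPullback (adjJ.unit.app F) (adjI.unit.app F) (adjI.unit.app (Rj.obj (Lj.obj F)))
      (Ri.map (Li.map (adjJ.unit.app F))) := by
  have w : adjJ.unit.app F ≫ adjI.unit.app (Rj.obj (Lj.obj F)) =
      adjI.unit.app F ≫ Ri.map (Li.map (adjJ.unit.app F)) :=
    adjI.unit.naturality (adjJ.unit.app F)
  let f := adjI.unit.app (Rj.obj (Lj.obj F))
  let g := Ri.map (Li.map (adjJ.unit.app F))
  have hP := IsPullback.of_hasPullback f g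
  let t : F ⟶ pullback f g := pullback.lift _ _ w
  have ht1 : t ≫ pullback.fst f g = adjJ.unit.app F := pullback.lift_fst _ _ _
  have ht2 : t ≫ pullback.snd f g = adjI.unit.app F := pullback.lift_snd _ _ _
  haveI : IsIso t := by
    apply isIso_of_map hdet
    · haveI : IsIso (Li.map f) := isIso_map_unit adjI hI _
      haveI : IsIso (Li.map (pullback.snd f g)) := (hP.map Li).isIso_snd_of_isIso
      haveI : IsIso (Li.map t ≫ Li.map (pullback.snd f g)) := by
        rw [← Functor.map_comp, ht2]; exact isIso_map_unit adjI hI _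
      exact IsIso.of_isIso_comp_right _ (Li.map (pullback.snd f g))
    · haveI : IsIso (Lj.map g) := isIso_of_isZero _ (hJI _) (hJI _)
      haveI : IsIso (Lj.map (pullback.fst f g)) := (hP.map Lj).isIso_fst_of_isIso
      haveI : IsIso (Lj.map t ≫ Lj.map (pullback.fst f g)) := by
        rw [← Functor.map_comp, ht1]; exact isIso_map_unit adjJ hJ _
      exact IsIso.of_isIso_comp_right _ (Lj.map (pullback.fst f g))
  exact IsPullback.of_iso_pullback ⟨w⟩ (asIso t) ht1 ht2

include hdet in
theorem recoll_faithful : (recoll adjJ Li).Faithful where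
  map_injective {F F'} φ ψ h := by
    have h1 : Li.map φ = Li.map ψ := congrArg CommaMorphism.left h
    have h2 : Lj.map φ = Lj.map ψ := congrArg CommaMorphism.right h
    rw [← sub_eq_zero]
    apply eq_zero_of_map hdet
    · rw [Functor.map_sub, h1, sub_self]
    · rw [Functor.map_sub, h2, sub_self]

include adjI hI hJ hJI hdet in
theorem recoll_full : (recoll adjJ Li).Full where
  map_surjective {F F'} m := by
    let a : Li.obj F ⟶ Li.obj F' := m.left
    let b : Lj.obj F ⟶ Lj.obj F' := m.right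
    have hw : a ≫ Li.map (adjJ.unit.app F') =
        Li.map (adjJ.unit.app F) ≫ Li.map (Rj.map b) := m.w
    have comm : (adjJ.unit.app F ≫ Rj.map b) ≫ adjI.unit.app (Rj.obj (Lj.obj F')) =
        (adjI.unit.app F ≫ Ri.map a) ≫ Ri.map (Li.map (adjJ.unit.app F')) := by
      have h1 := adjI.unit.naturality (adjJ.unit.app F ≫ Rj.map b)
      simp only [Functor.id_obj, Functor.id_map, Functor.comp_obj, Functor.comp_map] at h1
      rw [h1, Category.assoc, ← Ri.map_comp, hw, ← Li.map_comp]
    let φ := (isPullback_unit adjI adjJ hI hJ hJI hdet F').lift _ _ comm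
    have hφ1 : φ ≫ adjJ.unit.app F' = adjJ.unit.app F ≫ Rj.map b :=
      (isPullback_unit adjI adjJ hI hJ hJI hdet F').lift_fst _ _ comm
    have hφ2 : φ ≫ adjI.unit.app F' = adjI.unit.app F ≫ Ri.map a :=
      (isPullback_unit adjI adjJ hI hJ hJI hdet F').lift_snd _ _ comm
    refine ⟨φ, ?_⟩
    ext
    · apply (adjI.homEquiv _ _).injective
      rw [Adjunction.homEquiv_unit, Adjunction.homEquiv_unit]
      have := adjI.unit.naturality φ
      simp only [Functor.id_obj, Functor.id_map, Functor.comp_obj, Functor.comp_map] at this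
      exact this.symm.trans hφ2
    · apply (adjJ.homEquiv _ _).injective
      rw [Adjunction.homEquiv_unit, Adjunction.homEquiv_unit]
      have := adjJ.unit.naturality φ
      simp only [Functor.id_obj, Functor.id_map, Functor.comp_obj, Functor.comp_map] at this
      exact this.symm.trans hφ1

include adjI hI hJ hJI in
omit [PreservesFiniteColimits Li] [PreservesFiniteColimits Lj] [Li.Additive] [Lj.Additive] in
theorem recoll_essSurj : (recoll adjJ Li).EssSurj where
  mem_essImage c := by
    let f := adjI.unit.app (Rj.obj c.right)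
    let g := Ri.map c.hom
    have hP := IsPullback.of_hasPullback f g
    haveI : IsIso (Li.map f) := isIso_map_unit adjI hI _
    haveI h1 : IsIso (Li.map (pullback.snd f g)) := (hP.map Li).isIso_snd_of_isIso
    haveI : IsIso (Lj.map g) := isIso_of_isZero _ (hJI _) (hJI _)
    haveI h2 : IsIso (Lj.map (pullback.fst f g)) := (hP.map Lj).isIso_fst_of_isIso
    haveI := hI c.left
    haveI := hJ c.right
    let l : Li.obj (pullback f g) ≅ c.left :=
      asIso (Li.map (pullback.snd f g)) ≪≫ asIso (adjI.counit.app c.left)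
    let r : Lj.obj (pullback f g) ≅ c.right :=
      asIso (Lj.map (pullback.fst f g)) ≪≫ asIso (adjJ.counit.app c.right)
    refine ⟨pullback f g, ⟨Comma.isoMk l r ?_⟩⟩
    change (Li.map (pullback.snd f g) ≫ adjI.counit.app c.left) ≫ c.hom =
      Li.map (adjJ.unit.app (pullback f g)) ≫
        Li.map (Rj.map (Lj.map (pullback.fst f g) ≫ adjJ.counit.app c.right))
    have e1 : adjJ.unit.app (pullback f g) ≫
        Rj.map (Lj.map (pullback.fst f g) ≫ adjJ.counit.app c.right) = pullback.fst f g := by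
      have := adjJ.unit.naturality (pullback.fst f g)
      simp only [Functor.id_obj, Functor.id_map, Functor.comp_obj, Functor.comp_map] at this
      rw [Rj.map_comp, ← Category.assoc, ← this, Category.assoc,
        adjJ.right_triangle_components, Category.comp_id]
    rw [← Li.map_comp, e1]
    have e2 := adjI.counit.naturality c.hom
    simp only [Functor.id_obj, Functor.id_map, Functor.comp_obj, Functor.comp_map] at e2
    rw [Category.assoc, ← e2, ← Category.assoc, ← Li.map_comp]
    have e3 : pullback.snd f g ≫ Ri.map c.hom = pullback.fst f g ≫ f := pullback.condition.symm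
    rw [e3, Li.map_comp, Category.assoc]
    have e4 := adjI.left_triangle_components (Rj.obj c.right)
    rw [e4]
    exact Category.comp_id _

include adjI hI hJ hJI hdet in
theorem recoll_isEquivalence : (recoll adjJ Li).IsEquivalence :=
  { faithful := recoll_faithful adjJ hdet
    full := recoll_full adjI adjJ hI hJ hJI hdet
    essSurj := recoll_essSurj adjI adjJ hI hJ hJI }

end Main

end Groth.Agent.H7.Rcl
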