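import Mathlib
import Groth.Prelude.Def_EtBase
import Groth.Prelude.Def_W4c1etweilhu916Glue
import Groth.Agent.Lib.Helper7.Rcl1
import Groth.Agent.Lib.Helper7.ES4
import Groth.Agent.Lib.Helper7.CI8
import Groth.Agent.Lib.Helper7.CI13

/-!
# Helper7: Rcl2 — the recollement equivalence for étale abelian sheaves
-/

set_option autoImplicit false

open CategoryTheory Limits AlgebraicGeometry Opposite

namespace Groth.Agent.H7.Rcl

universe u

open Groth.Agent.H7.CI Groth.Agent.H7.ES

theorem S14449_main {X Z U : Scheme.{u}}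
    (i : Z ⟶ X) [IsClosedImmersion i] (j : U ⟶ X) [IsOpenImmersion j]
    (hZU : Set.range j.base = (Set.range i.base)ᶜ) :
    (EtCore.recollTriple i j).IsEquivalence := by
  have h := recoll_isEquivalence (EtCoh.pullPushAdj i) (EtCoh.pullPushAdj j)
    (fun G => inferInstance) (fun H => isIso_pullPushAdj_counit j H)
    (fun G => isZero_pull_push i j hZU G)
    (fun M h1 h2 => isZero_of_pull i j hZU M h1 h2)
  exact h

end Groth.Agent.H7.Rcl
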