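import Mathlib

open CategoryTheory CategoryTheory.Limits Opposite

universe u

namespace Groth.Agent.H7.ReflTop

variable {C : Type u} [SmallCategory C] (P : ObjectProperty (Cᵒᵖ ⥤ Type u))
  [P.IsClosedUnderIsomorphisms] [Reflective P.ι] [PreservesFiniteLimits (reflector P.ι)]

/-- orthogonality -/
theorem isIso_iff_isSheafFor {X : C} (S : Sieve X) :
    IsIso ((reflector P.ι).map S.functorInclusion) ↔
      ∀ F, P F → Presieve.IsSheafFor F S.arrows := by
  rw [isIso_iff_coyoneda_map_bijective]
  have key : ∀ F' : P.FullSubcategory,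
      Function.Bijective (fun x : (reflector P.ι).obj (yoneda.obj X) ⟶ F' =>
        (reflector P.ι).map S.functorInclusion ≫ x) ↔
      Presieve.IsSheafFor F'.obj S.arrows := by
    intro F'
    rw [Presieve.isSheafFor_iff_yonedaSheafCondition, Presieve.YonedaSheafCondition,
      ← Function.bijective_iff_existsUnique]
    let e₁ := (reflectorAdjunction P.ι).homEquiv (yoneda.obj X) F'
    let e₂ := (reflectorAdjunction P.ι).homEquiv S.functor F'
    have hcomp : (fun g : yoneda.obj X ⟶ P.ι.obj F' => S.functorInclusion ≫ g) ∘ e₁ =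
        e₂ ∘ (fun x : (reflector P.ι).obj (yoneda.obj X) ⟶ F' =>
          (reflector P.ι).map S.functorInclusion ≫ x) := by
      funext x
      exact ((reflectorAdjunction P.ι).homEquiv_naturality_left _ _).symm
    rw [← Function.Bijective.of_comp_iff' e₂.bijective, ← hcomp,
      Function.Bijective.of_comp_iff _ e₁.bijective]
    rfl
  constructor
  · intro h F hF
    exact (key ⟨F, hF⟩).mp (h ⟨F, hF⟩)
  · intro h F'
    exact (key F').mpr (h F'.obj F'.property)

/-- The key lemma: if `φ : A ⟶ yX` is inverted by the reflector and factors through the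
sieve `S`, then `S` is inverted. -/
theorem isIso_of_factor {X : C} {A : Cᵒᵖ ⥤ Type u} (φ : A ⟶ yoneda.obj X)
    (hφ : IsIso ((reflector P.ι).map φ)) (S : Sieve X)
    (hS : ∀ (Y : C) (a : A.obj (op Y)), S.arrows (φ.app (op Y) a)) :
    IsIso ((reflector P.ι).map S.functorInclusion) := by
  let e : A ⟶ S.functor :=
    { app := fun Y => ↾fun a => ⟨φ.app Y a, hS Y.unop a⟩
      naturality := by
        intro Y Z g
        ext a
        apply Subtype.ext
        exact NatTrans.naturality_apply φ g a }
  have he : e ≫ S.functorInclusion = φ := by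
    ext Y a
    rfl
  have h2 : (reflector P.ι).map e ≫ (reflector P.ι).map S.functorInclusion =
      (reflector P.ι).map φ := by
    rw [← Functor.map_comp, he]
  haveI : Mono S.functorInclusion := inferInstance
  haveI : Mono ((reflector P.ι).map S.functorInclusion) := inferInstance
  haveI : IsSplitEpi ((reflector P.ι).map S.functorInclusion) :=
    IsSplitEpi.mk' ⟨inv ((reflector P.ι).map φ) ≫ (reflector P.ι).map e, by
      rw [Category.assoc, h2, IsIso.inv_hom_id]⟩
  exact isIso_of_mono_of_isSplitEpi _

/-- The topology. -/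
noncomputable def J : GrothendieckTopology C := Sheaf.finestTopology {F | P F}

theorem mem_J_iff {X : C} (S : Sieve X) :
    S ∈ J P X ↔ IsIso ((reflector P.ι).map S.functorInclusion) := by
  constructor
  · intro hS
    rw [isIso_iff_isSheafFor]
    intro F hF
    exact Sheaf.sheaf_for_finestTopology {F | P F} hF _ hS
  · intro hS
    apply Sheaf.mem_finestTopology_of_forall_isSheafFor
    intro F hF Y f
    refine (isIso_iff_isSheafFor P (S.pullback f)).mp ?_ F hF
    -- pullback stability
    have hpb := (IsPullback.of_hasPullback S.functorInclusion (yoneda.map f)).map (reflector P.ι)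
    have hiso : IsIso ((reflector P.ι).map (pullback.snd S.functorInclusion (yoneda.map f))) :=
      hpb.isIso_snd_of_isIso
    apply isIso_of_factor P _ hiso
    intro Z a
    show S.arrows (_ ≫ f)
    have h1 := congrArg (fun t => t.app (op Z) a)
      (pullback.condition (f := S.functorInclusion) (g := yoneda.map f))
    have h3 : (pullback.snd S.functorInclusion (yoneda.map f)).app (op Z) a ≫ f =
        ((pullback.fst S.functorInclusion (yoneda.map f)).app (op Z) a).1 := h1.symm
    rw [h3]
    exact ((pullback.fst S.functorInclusion (yoneda.map f)).app (op Z) a).2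

/-- unit -/
noncomputable abbrev η (F : Cᵒᵖ ⥤ Type u) : F ⟶ ((reflector P.ι).obj F).obj :=
  (reflectorAdjunction P.ι).unit.app F

theorem isIso_map_η (F : Cᵒᵖ ⥤ Type u) : IsIso ((reflector P.ι).map (η P F)) := by
  have h := (reflectorAdjunction P.ι).left_triangle_components F
  haveI : IsIso ((reflector P.ι).map (η P F) ≫
      (reflectorAdjunction P.ι).counit.app ((reflector P.ι).obj F)) := by
    rw [h]; infer_instance
  exact IsIso.of_isIso_comp_right _ ((reflectorAdjunction P.ι).counit.app ((reflector P.ι).obj F))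

/-- sieve of agreement -/
def eqSieve (F : Cᵒᵖ ⥤ Type u) {X : C} (s s' : F.obj (op X)) : Sieve X where
  arrows Y f := F.map f.op s = F.map f.op s'
  downward_closed := by
    intro Y Z f hf g
    show F.map (g ≫ f).op s = F.map (g ≫ f).op s'
    rw [op_comp, Functor.map_comp_apply, Functor.map_comp_apply, hf]

theorem eqSieve_mem (F : Cᵒᵖ ⥤ Type u) {X : C} (s s' : F.obj (op X))
    (h : (η P F).app _ s = (η P F).app _ s') : eqSieve F s s' ∈ J P X := by
  rw [mem_J_iff]
  let σ : yoneda.obj X ⟶ F := yonedaEquiv.symm s
  let σ' : yoneda.obj X ⟶ F := yonedaEquiv.symm s'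
  have hσ : σ ≫ η P F = σ' ≫ η P F := by
    apply yonedaEquiv.injective
    rw [yonedaEquiv_comp, yonedaEquiv_comp, Equiv.apply_symm_apply, Equiv.apply_symm_apply]
    exact h
  have hL : (reflector P.ι).map σ = (reflector P.ι).map σ' := by
    haveI := isIso_map_η P F
    rw [← cancel_mono ((reflector P.ι).map (η P F)), ← Functor.map_comp, ← Functor.map_comp, hσ]
  have hlim := isLimitOfHasEqualizerOfPreservesLimit (reflector P.ι) σ σ'
  have hiso : IsIso ((reflector P.ι).map (equalizer.ι σ σ')) :=
    isIso_limit_cone_parallelPair_of_eq hL hlim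
  apply isIso_of_factor P _ hiso
  intro Y e
  show F.map ((equalizer.ι σ σ').app (op Y) e).op s = F.map ((equalizer.ι σ σ').app (op Y) e).op s'
  have h1 := congrArg (fun t => t.app (op Y) e) (equalizer.condition σ σ')
  exact h1

/-- sieve of local liftability -/
def liftSieve (F : Cᵒᵖ ⥤ Type u) {X : C} (t : ((reflector P.ι).obj F).obj.obj (op X)) :
    Sieve X where
  arrows Y f := ∃ r : F.obj (op Y),
    (η P F).app (op Y) r = ((reflector P.ι).obj F).obj.map f.op t
  downward_closed := by
    rintro Y Z f ⟨r, hr⟩ g
    refine ⟨F.map g.op r, ?_⟩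
    rw [NatTrans.naturality_apply, hr, op_comp, Functor.map_comp_apply]

theorem liftSieve_mem (F : Cᵒᵖ ⥤ Type u) {X : C} (t : ((reflector P.ι).obj F).obj.obj (op X)) :
    liftSieve P F t ∈ J P X := by
  rw [mem_J_iff]
  let τ : yoneda.obj X ⟶ ((reflector P.ι).obj F).obj := yonedaEquiv.symm t
  have hpb := (IsPullback.of_hasPullback τ (η P F)).map (reflector P.ι)
  haveI := isIso_map_η P F
  have hiso : IsIso ((reflector P.ι).map (pullback.fst τ (η P F))) := hpb.isIso_fst_of_isIso
  apply isIso_of_factor P _ hiso
  intro Y a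
  refine ⟨(pullback.snd τ (η P F)).app (op Y) a, ?_⟩
  have h1 := congrArg (fun m => m.app (op Y) a) (pullback.condition (f := τ) (g := η P F))
  exact h1.symm

theorem prop_of_isSheaf (F : Cᵒᵖ ⥤ Type u) (hF : Presieve.IsSheaf (J P) F) : P F := by
  have haF : Presieve.IsSheaf (J P) ((reflector P.ι).obj F).obj :=
    Sheaf.sheaf_for_finestTopology {F | P F} ((reflector P.ι).obj F).property
  have hinj : ∀ X, Function.Injective ((η P F).app X) := by
    intro X s s' h
    have hS := eqSieve_mem P F (X := X.unop) s s' h
    have hsep := (hF _ hS).isSeparatedFor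
    apply hsep.ext
    intro Y f hf
    exact hf
  have hsurj : ∀ X, Function.Surjective ((η P F).app X) := by
    intro X t
    have hS := liftSieve_mem P F (X := X.unop) t
    choose r hr using fun (Y : C) (f : Y ⟶ X.unop) (hf : (liftSieve P F t).arrows f) => hf
    let x : Presieve.FamilyOfElements F (liftSieve P F t).arrows := fun Y f hf => r Y f hf
    have hx : x.Compatible := by
      rw [Presieve.compatible_iff_sieveCompatible]
      intro Y Z f g hf
      apply hinj
      show (η P F).app _ (r _ (g ≫ f) _) = (η P F).app _ (F.map g.op (r _ f hf))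
      rw [hr, NatTrans.naturality_apply, hr, op_comp, Functor.map_comp_apply]
    obtain ⟨r0, hr0, -⟩ := hF _ hS x hx
    refine ⟨r0, ?_⟩
    have hsep := (haF _ hS).isSeparatedFor
    apply hsep.ext
    intro Y f hf
    rw [← NatTrans.naturality_apply, hr0 f hf]
    exact hr Y f hf
  haveI : IsIso (η P F) := by
    haveI : ∀ X, IsIso ((η P F).app X) := fun X =>
      (isIso_iff_bijective _).mpr ⟨hinj X, hsurj X⟩
    exact NatIso.isIso_of_isIso_app _
  exact P.prop_of_iso (asIso (η P F)).symm ((reflector P.ι).obj F).property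

theorem main : ∃ J : GrothendieckTopology C,
      (∀ (X : C) (S : Sieve X), S ∈ J X ↔ IsIso ((reflector P.ι).map S.functorInclusion)) ∧
      ∀ F : Cᵒᵖ ⥤ Type u, P F ↔ Presieve.IsSheaf J F :=
  ⟨J P, fun X S => mem_J_iff P S, fun F =>
    ⟨fun hF => Sheaf.sheaf_for_finestTopology {F | P F} hF, prop_of_isSheaf P F⟩⟩

end Groth.Agent.H7.ReflTop
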