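import Groth.Agent.Lib.Helper1.FibInj5
import Groth.Agent.Lib.Helper1.FibInj7
import Groth.Agent.Lib.Helper1.LimFlat4
import Mathlib

/-!
# Slicing by a fibrewise regular sequence, ring level (EGA IV 11.3.8), for S1459
-/

set_option autoImplicit false
universe u

open TensorProduct RingTheory.Sequence

namespace Groth.Agent.H7.RegSlice

/-- elementary form of weak regularity of a sequence on a ring -/
theorem isWeaklyRegular_iff_forall {R : Type*} [CommRing R] (rs : List R) :
    IsWeaklyRegular R rs ↔ ∀ i (h : i < rs.length), ∀ c : R,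
      rs[i] * c ∈ Ideal.ofList (rs.take i) → c ∈ Ideal.ofList (rs.take i) := by
  rw [isWeaklyRegular_iff]
  refine forall_congr' fun i => forall_congr' fun h => ?_
  rw [isSMulRegular_quotient_iff_mem_of_smul_mem]
  have e : (Ideal.ofList (rs.take i) • (⊤ : Submodule R R)) = Ideal.ofList (rs.take i) := by
    rw [smul_eq_mul, Ideal.mul_top]
  rw [e]
  rfl

/-- transport of flatness of a localized module along a linear equivalence -/
theorem flat_localizedModule_congr {A B : Type*} [CommRing A] [CommRing B] [Algebra A B]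
    (S : Submonoid B) {M M' : Type*} [AddCommGroup M] [Module B M] [Module A M]
    [IsScalarTower A B M] [AddCommGroup M'] [Module B M'] [Module A M'] [IsScalarTower A B M']
    (e : M ≃ₗ[B] M') (h : Module.Flat A (LocalizedModule S M)) :
    Module.Flat A (LocalizedModule S M') := by
  haveI : IsLocalizedModule S ((LocalizedModule.mkLinearMap S M') ∘ₗ e.toLinearMap) :=
    IsLocalizedModule.of_linearEquiv_right S (LocalizedModule.mkLinearMap S M') e
  let ε := IsLocalizedModule.linearEquiv S (LocalizedModule.mkLinearMap S M)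
    ((LocalizedModule.mkLinearMap S M') ∘ₗ e.toLinearMap)
  exact Module.Flat.of_linearEquiv (ε.symm.restrictScalars A)

/-- the cokernel of multiplication by `a` on `B/I` is `B/(I + (a))`. -/
noncomputable def quotRangeEquiv {B : Type*} [CommRing B] (I : Ideal B) (a : B) :
    ((B ⧸ I) ⧸ LinearMap.range (LinearMap.lsmul B (B ⧸ I) a)) ≃ₗ[B] (B ⧸ (I ⊔ Ideal.span {a})) :=
  have h : LinearMap.range (LinearMap.lsmul B (B ⧸ I) a) =
      Submodule.map (Submodule.mkQ I) (Ideal.span {a} : Submodule B B) := by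
    ext x
    rw [LinearMap.mem_range, Submodule.mem_map]
    constructor
    · rintro ⟨y, rfl⟩
      obtain ⟨b, rfl⟩ := Submodule.mkQ_surjective I y
      exact ⟨b * a, Ideal.mul_mem_left _ _ (Ideal.mem_span_singleton_self a), by
        rw [LinearMap.lsmul_apply, ← map_smul, smul_eq_mul, mul_comm]⟩
    · rintro ⟨z, hz, rfl⟩
      obtain ⟨c, rfl⟩ := Ideal.mem_span_singleton'.mp hz
      exact ⟨Submodule.mkQ I c, by
        rw [LinearMap.lsmul_apply, ← map_smul, smul_eq_mul, mul_comm]⟩
  (Submodule.quotEquivOfEq _ _ h).trans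
    (Submodule.quotientQuotientEquivQuotientSup I (Ideal.span {a} : Submodule B B))

open Groth.Agent.H1.FibInj in
/-- membership in the fibre submodule of a quotient of `B`. -/
theorem mk_mem_smul_top_iff {A B : Type*} [CommRing A] [CommRing B] [Algebra A B] (I : Ideal B)
    (p : Ideal A) (z : B) :
    (Submodule.Quotient.mk z : B ⧸ I) ∈ p • (⊤ : Submodule A (B ⧸ I)) ↔
      z ∈ I ⊔ p.map (algebraMap A B) := by
  rw [← mem_map_smul_top_iff (A := A) (B := B) (F := B ⧸ I) p]
  have h1 : (p.map (algebraMap A B)) • (⊤ : Submodule B (B ⧸ I)) =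
      Submodule.map (Submodule.mkQ I) (p.map (algebraMap A B) : Submodule B B) := by
    have h2 : (⊤ : Submodule B (B ⧸ I)) = Submodule.map (Submodule.mkQ I) ⊤ := by
      rw [Submodule.map_top, Submodule.range_mkQ]
    rw [h2, ← Submodule.map_smul'', smul_eq_mul, Ideal.mul_top]
  rw [h1, Submodule.mem_map]
  constructor
  · rintro ⟨j, hj, hjz⟩
    have h3 : j - z ∈ I := (Submodule.Quotient.eq I).mp hjz
    have h4 : z = -(j - z) + j := by ring
    rw [h4]
    exact Submodule.add_mem_sup (I.neg_mem h3) hj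
  · intro hz
    obtain ⟨i, hi, j, hj, rfl⟩ := Submodule.mem_sup.mp hz
    refine ⟨j, hj, (Submodule.Quotient.eq I).mpr ?_⟩
    have : j - (i + j) = -i := by ring
    rw [this]
    exact I.neg_mem hi

section main

variable {A B : Type u} [CommRing A] [CommRing B] [Algebra A B] [Algebra.FinitePresentation A B]

/-- the local statement at a prime `q'`, up to level `k`. -/
def GoodAt (as : List B) (k : ℕ) (q' : Ideal B) [q'.IsPrime] : Prop :=
  (∀ i (h : i < as.length), i < k → ∀ b : B, as[i] * b ∈ Ideal.ofList (as.take i) →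
      ∃ τ ∈ q'.primeCompl, τ * b ∈ Ideal.ofList (as.take i)) ∧
  (∀ i, i ≤ k → Module.Flat A (LocalizedModule q'.primeCompl (B ⧸ Ideal.ofList (as.take i))))

theorem finitePresentation_quot (I : Ideal B) (hI : I.FG) : Module.FinitePresentation B (B ⧸ I) :=
  Module.finitePresentation_of_surjective (Submodule.mkQ I) (Submodule.mkQ_surjective I)
    (by rw [Submodule.ker_mkQ]; exact hI)

theorem ofList_fg (l : List B) : (Ideal.ofList l).FG :=
  Submodule.fg_span (List.finite_toSet l)

open Groth.Agent.H1.FibInj Groth.Agent.H1.LimFlat in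
set_option maxHeartbeats 1600000 in
/-- **EGA IV 11.3.8 for a sequence**, pointwise form on a basic open neighbourhood. -/
theorem exists_nhd_goodAt (q : Ideal B) [q.IsPrime] (as : List B)
    (hflat : Module.Flat A (LocalizedModule q.primeCompl B))
    (hfib : ∀ i (h : i < as.length), ∀ b : B,
      (∃ σ ∈ q.primeCompl, σ * (as[i] * b) ∈
        Ideal.ofList (as.take i) ⊔ (q.comap (algebraMap A B)).map (algebraMap A B)) →
      ∃ τ ∈ q.primeCompl, τ * b ∈
        Ideal.ofList (as.take i) ⊔ (q.comap (algebraMap A B)).map (algebraMap A B)) :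
    ∀ k, k ≤ as.length → ∃ g : B, g ∉ q ∧ ∀ (q' : Ideal B) [q'.IsPrime], g ∉ q' →
      GoodAt (A := A) as k q' := by
  intro k
  induction k with
  | zero =>
    intro _
    haveI : Module.FinitePresentation B (B ⧸ Ideal.ofList (as.take 0)) :=
      finitePresentation_quot _ (ofList_fg _)
    have hbot : Ideal.ofList (as.take 0) = ⊥ := by
      rw [List.take_zero, Ideal.ofList_nil]
    haveI : Module.Flat A (LocalizedModule q.primeCompl (B ⧸ Ideal.ofList (as.take 0))) :=
      flat_localizedModule_congr q.primeCompl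
        (Submodule.quotEquivOfEqBot (Ideal.ofList (as.take 0)) hbot).symm hflat
    obtain ⟨g, hg, hg'⟩ := exists_flat_nhd_of_finitePresentation (R := A) (S := B)
      (M := B ⧸ Ideal.ofList (as.take 0)) q
    refine ⟨g, hg, fun q' _ hq' => ⟨fun i _ hi => absurd hi (Nat.not_lt_zero i), fun i hi => ?_⟩⟩
    obtain rfl : i = 0 := Nat.le_zero.mp hi
    exact hg' q' hq'
  | succ k ih =>
    intro hk
    have hk' : k < as.length := hk
    obtain ⟨g₀, hg₀, hgood₀⟩ := ih (Nat.le_of_lt hk')
    obtain ⟨I, hI⟩ : ∃ I, I = Ideal.ofList (as.take k) := ⟨_, rfl⟩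
    obtain ⟨a, ha⟩ : ∃ a, a = as[k] := ⟨_, rfl⟩
    haveI fpM : Module.FinitePresentation B (B ⧸ I) :=
      finitePresentation_quot _ (hI ▸ ofList_fg _)
    haveI fM : Module.Finite B (B ⧸ I) := inferInstance
    have hflatk : Module.Flat A (LocalizedModule q.primeCompl (B ⧸ I)) := by
      rw [hI]; exact (hgood₀ q hg₀).2 k le_rfl
    let u : (B ⧸ I) →ₗ[B] (B ⧸ I) := LinearMap.lsmul B (B ⧸ I) a
    have hu : ∀ b : B, u (Submodule.Quotient.mk b) = Submodule.Quotient.mk (a * b) := fun b => rfl
    have hfib' : ∀ x : B ⧸ I, (∃ σ ∈ q.primeCompl, σ • u x ∈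
          (q.comap (algebraMap A B)) • (⊤ : Submodule A (B ⧸ I))) →
        ∃ τ ∈ q.primeCompl, τ • x ∈ (q.comap (algebraMap A B)) • (⊤ : Submodule A (B ⧸ I)) := by
      intro x
      obtain ⟨b, rfl⟩ := Submodule.Quotient.mk_surjective I x
      rintro ⟨σ, hσ, hσb⟩
      rw [hu, ← Submodule.Quotient.mk_smul, smul_eq_mul, mk_mem_smul_top_iff, hI, ha] at hσb
      obtain ⟨τ, hτ, hτb⟩ := hfib k hk' b ⟨σ, hσ, hσb⟩
      refine ⟨τ, hτ, ?_⟩
      rw [← Submodule.Quotient.mk_smul, smul_eq_mul, mk_mem_smul_top_iff, hI]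
      exact hτb
    obtain ⟨hinj, hflc⟩ := fibInj_at_prime q u hflatk hfib'
    obtain ⟨g₁, hg₁, hnhd⟩ := exists_nhd_injective_flat (A := A) (B := B) u q hinj hflc
    have hIsucc : Ideal.ofList (as.take (k + 1)) = I ⊔ Ideal.span {a} := by
      rw [List.take_succ_eq_append_getElem hk', Ideal.ofList_append, Ideal.ofList_singleton,
        hI, ha]
    refine ⟨g₀ * g₁, fun h => (Ideal.IsPrime.mem_or_mem inferInstance h).elim hg₀ hg₁,
      fun q' _ hq' => ?_⟩
    have hq'₀ : g₀ ∉ q' := fun h => hq' (Ideal.mul_mem_right _ _ h)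
    have hq'₁ : g₁ ∉ q' := fun h => hq' (Ideal.mul_mem_left _ _ h)
    obtain ⟨hA, hB⟩ := hgood₀ q' hq'₀
    obtain ⟨hinj', hflc'⟩ := hnhd q' hq'₁
    refine ⟨fun i hi hik b hb => ?_, fun i hi => ?_⟩
    · rcases Nat.lt_succ_iff_lt_or_eq.mp hik with h1 | h1
      · exact hA i hi h1 b hb
      · subst h1
        have h2 : u (Submodule.Quotient.mk b) = 0 := by
          rw [hu, Submodule.Quotient.mk_eq_zero, hI, ha]
          exact hb
        obtain ⟨τ, hτ, hτb⟩ := hinj' _ h2
        refine ⟨τ, hτ, ?_⟩
        rw [← Submodule.Quotient.mk_smul, Submodule.Quotient.mk_eq_zero, hI] at hτb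
        exact hτb
    · rcases Nat.le_succ_iff.mp hi with h1 | h1
      · exact hB i h1
      · subst h1
        exact flat_localizedModule_congr q'.primeCompl
          ((quotRangeEquiv I a).trans (Submodule.quotEquivOfEq _ _ hIsucc.symm)) hflc'

end main

section away

variable {A B : Type u} [CommRing A] [CommRing B] [Algebra A B]

/-- localization away from `g` commutes with the quotient by an ideal, as modules (flatness). -/
theorem flat_quot_map_away_of_flat_localizedModule (g : B) (I : Ideal B) (C : Type*) [CommRing C]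
    [Algebra B C] [Algebra A C] [IsScalarTower A B C] [IsLocalization.Away g C]
    (h : Module.Flat A (LocalizedModule (Submonoid.powers g) (B ⧸ I))) :
    Module.Flat A (C ⧸ I.map (algebraMap B C)) := by
  haveI : IsLocalizedModule (Submonoid.powers g) (Algebra.linearMap B C) := inferInstance
  have hloc : Submodule.localized' C (Submonoid.powers g) (Algebra.linearMap B C) I =
      I.map (algebraMap B C) := Ideal.localized'_eq_map C (Submonoid.powers g) I
  let e := IsLocalizedModule.linearEquiv (Submonoid.powers g)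
    (LocalizedModule.mkLinearMap (Submonoid.powers g) (B ⧸ I))
    (Submodule.toLocalizedQuotient' C (Submonoid.powers g) (Algebra.linearMap B C) I)
  have h2 : Module.Flat A (C ⧸ Submodule.localized' C (Submonoid.powers g)
      (Algebra.linearMap B C) I) :=
    Module.Flat.of_linearEquiv (e.symm.restrictScalars A)
  rw [hloc] at h2
  exact h2

/-- pointwise regularity on `D(g)` gives weak regularity on the localization away from `g`. -/
theorem isWeaklyRegular_away (g : B) (as : List B)
    (hgood : ∀ (q' : Ideal B) [q'.IsPrime], g ∉ q' → ∀ i (h : i < as.length), ∀ b : B,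
      as[i] * b ∈ Ideal.ofList (as.take i) →
      ∃ τ ∈ q'.primeCompl, τ * b ∈ Ideal.ofList (as.take i))
    (C : Type*) [CommRing C] [Algebra B C] [IsLocalization.Away g C] :
    IsWeaklyRegular C (as.map (algebraMap B C)) := by
  rw [isWeaklyRegular_iff_forall]
  intro i hi c hc
  have hi' : i < as.length := by rwa [List.length_map] at hi
  rw [List.getElem_map, ← List.map_take, ← Ideal.map_ofList] at hc
  rw [← List.map_take, ← Ideal.map_ofList]
  obtain ⟨I, hI⟩ : ∃ I, I = Ideal.ofList (as.take i) := ⟨_, rfl⟩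
  rw [← hI] at hc ⊢
  obtain ⟨n, b, hcb⟩ := IsLocalization.Away.surj g c
  have hgu : IsUnit (algebraMap B C g) := IsLocalization.Away.algebraMap_isUnit g
  -- `a_i * b` lies in `I C`
  have h1 : algebraMap B C (as[i] * b) ∈ I.map (algebraMap B C) := by
    rw [map_mul, ← hcb, ← mul_assoc]
    exact Ideal.mul_mem_right _ _ hc
  obtain ⟨⟨⟨j, hj⟩, s⟩, hs⟩ :=
    (IsLocalization.mem_map_algebraMap_iff (Submonoid.powers g) C).mp h1
  have h2 : algebraMap B C (as[i] * b * (s : B)) = algebraMap B C j := by
    rw [map_mul]; exact hs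
  obtain ⟨t, ht⟩ := (IsLocalization.eq_iff_exists (Submonoid.powers g) C).mp h2
  obtain ⟨b', hb'⟩ : ∃ b', b' = (t : B) * (s : B) * b := ⟨_, rfl⟩
  have h3 : as[i] * b' ∈ I := by
    have : as[i] * b' = (t : B) * (as[i] * b * (s : B)) := by rw [hb']; ring
    rw [this, ht]
    exact Ideal.mul_mem_left _ _ hj
  -- the colon ideal contains a power of `g`
  have h4 : g ∈ (I.colon ({b'} : Set B)).radical := by
    rw [Ideal.radical_eq_sInf, Ideal.mem_sInf]
    rintro P ⟨hJP, hP⟩
    by_contra hgP
    haveI := hP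
    obtain ⟨τ, hτ, hτb⟩ := hgood P hgP i hi' b' (hI ▸ h3)
    apply hτ
    apply hJP
    rw [Submodule.mem_colon_singleton, smul_eq_mul, hI]
    exact hτb
  obtain ⟨N, hN⟩ := h4
  rw [Submodule.mem_colon_singleton, smul_eq_mul] at hN
  -- conclude
  have h5 : algebraMap B C (g ^ N * b') ∈ I.map (algebraMap B C) := Ideal.mem_map_of_mem _ hN
  have htu : IsUnit (algebraMap B C (t : B)) := IsLocalization.map_units C t
  have hsu : IsUnit (algebraMap B C (s : B)) := IsLocalization.map_units C s
  have h6 : IsUnit (algebraMap B C (g ^ N * ((t : B) * (s : B))) * algebraMap B C g ^ n) := by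
    rw [map_mul, map_mul, map_pow]
    exact ((hgu.pow N).mul (htu.mul hsu)).mul (hgu.pow n)
  have h7 : algebraMap B C (g ^ N * ((t : B) * (s : B))) * algebraMap B C g ^ n * c =
      algebraMap B C (g ^ N * b') := by
    have e1 : algebraMap B C (g ^ N * ((t : B) * (s : B))) * algebraMap B C g ^ n * c =
        algebraMap B C (g ^ N * ((t : B) * (s : B))) * (c * algebraMap B C g ^ n) := by ring
    rw [e1, hcb, ← map_mul, hb']
    congr 1
    ring
  obtain ⟨v, hv⟩ := h6.exists_left_inv
  have h8 : c = v * algebraMap B C (g ^ N * b') := by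
    rw [← h7, ← mul_assoc, hv, one_mul]
  rw [h8]
  exact Ideal.mul_mem_left _ _ h5

end away

end Groth.Agent.H7.RegSlice
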