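import Groth.Agent.Lib.Helper7.RelCartA
import Groth.Agent.Lib.Helper7.RegSliceA
import Mathlib

/-!
# Base change of a regular sequence with flat partial quotients, for S1459
-/

set_option autoImplicit false
universe u

open TensorProduct RingTheory.Sequence

namespace Groth.Agent.H7.RegSlice

/-- base change of a weakly regular sequence with flat partial quotients (tensor form). -/
theorem isWeaklyRegular_tmul {R B R' : Type*} [CommRing R] [CommRing B] [CommRing R']
    [Algebra R B] [Algebra R R'] (rs : List B) (hreg : IsWeaklyRegular B rs)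
    (hflat : ∀ i, i < rs.length → Module.Flat R (B ⧸ Ideal.ofList (rs.take (i + 1)))) :
    IsWeaklyRegular (B ⊗[R] R') (rs.map (algebraMap B (B ⊗[R] R'))) := by
  rw [isWeaklyRegular_iff_forall] at hreg ⊢
  intro i hi c hc
  have hi' : i < rs.length := by rwa [List.length_map] at hi
  rw [List.getElem_map, ← List.map_take, ← Ideal.map_ofList] at hc
  rw [← List.map_take, ← Ideal.map_ofList]
  obtain ⟨I, hI⟩ : ∃ I, I = Ideal.ofList (rs.take i) := ⟨_, rfl⟩
  obtain ⟨a, ha⟩ : ∃ a, a = rs[i] := ⟨_, rfl⟩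
  rw [← hI, ← ha] at hc
  rw [← hI]
  have hregi : ∀ c : B, a * c ∈ I → c ∈ I := by
    intro c hc
    rw [hI, ha] at hc
    rw [hI]
    exact hreg i hi' c hc
  -- the element `ā` of `B/I`
  have hnzd : Ideal.Quotient.mk I a ∈ nonZeroDivisors (B ⧸ I) := by
    rw [mem_nonZeroDivisors_iff_right]
    intro z hz
    obtain ⟨z, rfl⟩ := Ideal.Quotient.mk_surjective z
    rw [← map_mul, Ideal.Quotient.eq_zero_iff_mem, mul_comm] at hz
    exact Ideal.Quotient.eq_zero_iff_mem.mpr (hregi z hz)
  have hIsucc : I ⊔ Ideal.span {a} = Ideal.ofList (rs.take (i + 1)) := by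
    rw [List.take_succ_eq_append_getElem hi', Ideal.ofList_append, Ideal.ofList_singleton,
      hI, ha]
  have hmapspan : (Ideal.span {a}).map (Ideal.Quotient.mk I) =
      Ideal.span {Ideal.Quotient.mk I a} := by
    rw [Ideal.map_span, Set.image_singleton]
  haveI hfl : Module.Flat R ((B ⧸ I) ⧸ Ideal.span {Ideal.Quotient.mk I a}) := by
    haveI := hflat i hi'
    let e1 : ((B ⧸ I) ⧸ Ideal.span {Ideal.Quotient.mk I a}) ≃ₐ[R]
        ((B ⧸ I) ⧸ (Ideal.span {a}).map (Ideal.Quotient.mk I)) :=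
      Ideal.quotientEquivAlgOfEq R hmapspan.symm
    let e2 : ((B ⧸ I) ⧸ (Ideal.span {a}).map (Ideal.Quotient.mk I)) ≃ₐ[R]
        (B ⧸ (I ⊔ Ideal.span {a})) := DoubleQuot.quotQuotEquivQuotSupₐ R I (Ideal.span {a})
    let e3 : (B ⧸ (I ⊔ Ideal.span {a})) ≃ₐ[R] (B ⧸ Ideal.ofList (rs.take (i + 1))) :=
      Ideal.quotientEquivAlgOfEq R hIsucc
    exact Module.Flat.of_linearEquiv ((e1.trans (e2.trans e3)).toLinearEquiv)
  have hnz := Groth.Agent.H7.RelCart.tmul_mem_nonZeroDivisors_of_flat_quot (R := R) (R' := R')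
    (Ideal.Quotient.mk I a) hnzd
  -- the surjection `B ⊗ R' → B/I ⊗ R'`
  let φ : B ⊗[R] R' →ₐ[R] (B ⧸ I) ⊗[R] R' :=
    Algebra.TensorProduct.map (Ideal.Quotient.mkₐ R I) (AlgHom.id R R')
  have hker : RingHom.ker φ = I.map (algebraMap B (B ⊗[R] R')) := by
    have h1 := Algebra.TensorProduct.rTensor_ker (R := R) (S := R) (C := R')
      (Ideal.Quotient.mkₐ R I) (Ideal.Quotient.mkₐ_surjective R I)
    have h2 : RingHom.ker (Ideal.Quotient.mkₐ R I) = I := Ideal.Quotient.mkₐ_ker R I
    rw [h2] at h1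
    exact h1
  have hφa : φ (algebraMap B (B ⊗[R] R') a) = (Ideal.Quotient.mk I a) ⊗ₜ 1 := by
    rw [Algebra.TensorProduct.algebraMap_apply]
    rfl
  have h3 : φ c * ((Ideal.Quotient.mk I a) ⊗ₜ 1) = 0 := by
    rw [← hφa, ← map_mul, mul_comm]
    have : algebraMap B (B ⊗[R] R') a * c ∈ RingHom.ker φ := by rw [hker]; exact hc
    exact this
  have h4 : φ c = 0 := (mem_nonZeroDivisors_iff_right.mp hnz) _ h3
  have h5 : c ∈ RingHom.ker φ := h4
  rw [hker] at h5
  exact h5

/-- base change of a weakly regular sequence with flat partial quotients (pushout form). -/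
theorem isWeaklyRegular_of_isPushout {R B R' B' : Type*} [CommRing R] [CommRing B] [CommRing R']
    [CommRing B'] [Algebra R B] [Algebra R R'] [Algebra B B'] [Algebra R' B'] [Algebra R B']
    [IsScalarTower R B B'] [IsScalarTower R R' B'] [Algebra.IsPushout R B R' B']
    (rs : List B) (hreg : IsWeaklyRegular B rs)
    (hflat : ∀ i, i < rs.length → Module.Flat R (B ⧸ Ideal.ofList (rs.take (i + 1)))) :
    IsWeaklyRegular B' (rs.map (algebraMap B B')) := by
  have h1 := isWeaklyRegular_tmul (R := R) (R' := R') rs hreg hflat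
  rw [isWeaklyRegular_map_algebraMap_iff (B ⊗[R] R') (B ⊗[R] R') rs] at h1
  rw [isWeaklyRegular_map_algebraMap_iff B' B' rs]
  exact (LinearEquiv.isWeaklyRegular_congr
    (Algebra.IsPushout.equiv R B R' B').toLinearEquiv rs).mp h1

/-- transport of flatness of a quotient along a ring isomorphism compatible with the base. -/
theorem flat_quot_of_ringEquiv {A C C' : Type*} [CommRing A] [CommRing C] [CommRing C']
    [Algebra A C] [Algebra A C'] (e : C ≃+* C')
    (he : ∀ r : A, e (algebraMap A C r) = algebraMap A C' r) (I : Ideal C)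
    [Module.Flat A (C ⧸ I)] : Module.Flat A (C' ⧸ I.map (e : C →+* C')) := by
  let ea : C ≃ₐ[A] C' := AlgEquiv.ofRingEquiv (f := e) he
  have hI : I.map (e : C →+* C') = I.map (ea : C →+* C') := rfl
  let ε : (C ⧸ I) ≃ₐ[A] (C' ⧸ I.map (ea : C →+* C')) := Ideal.quotientEquivAlg I _ ea rfl
  rw [hI]
  exact Module.Flat.of_linearEquiv ε.symm.toLinearEquiv

end Groth.Agent.H7.RegSlice
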