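import Groth.Agent.Lib.Helper7.RelCartF
import Groth.Agent.Lib.Helper7.RegSliceB
import Groth.Agent.Lib.Helper1.RegComp
import Mathlib

/-!
# Slicing a flat morphism by a fibrewise regular sequence: chart form (S1459)
-/

set_option autoImplicit false
universe u

open CategoryTheory Limits AlgebraicGeometry TensorProduct RingTheory.Sequence

namespace Groth.Agent.H7.RegSlice

section Scheme

variable {X S : Scheme.{u}}

/-- finitely many germs at `x` are defined on a common affine open neighbourhood. -/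
theorem exists_sections (x : X) (hs : List (X.presheaf.stalk x)) (V₀ : X.Opens) (hxV₀ : x ∈ V₀) :
    ∃ (U : X.Opens) (_ : IsAffineOpen U) (hx : x ∈ U) (_ : U ≤ V₀) (as : List Γ(X, U)),
      as.map (X.presheaf.germ U x hx) = hs := by
  induction hs with
  | nil =>
    obtain ⟨U, hU, hxU, hle⟩ := exists_isAffineOpen_mem_and_subset (x := x) (U := V₀) hxV₀
    exact ⟨U, hU, hxU, hle, [], rfl⟩
  | cons h t ih =>
    obtain ⟨U₁, hU₁, hxU₁, hle₁, as, has⟩ := ih
    obtain ⟨V, hxV, s, hs⟩ := TopCat.Presheaf.exists_germ_eq X.presheaf h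
    obtain ⟨U, hU, hxU, hle⟩ :=
      exists_isAffineOpen_mem_and_subset (x := x) (U := U₁ ⊓ V) ⟨hxU₁, hxV⟩
    have e1 : U ≤ U₁ := hle.trans inf_le_left
    have e2 : U ≤ V := hle.trans inf_le_right
    refine ⟨U, hU, hxU, e1.trans hle₁,
      X.presheaf.map (homOfLE e2).op s :: as.map (X.presheaf.map (homOfLE e1).op), ?_⟩
    rw [List.map_cons, TopCat.Presheaf.germ_res_apply, hs, List.map_map, ← has]
    congr 1
    apply List.map_congr_left
    intro a _
    exact TopCat.Presheaf.germ_res_apply X.presheaf (homOfLE e1) x hxU a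

open Groth.Agent.LD.QC Groth.Agent.H1.FibInj Groth.Agent.H1.SchFlat Groth.Agent.H7.RelCart in
set_option maxHeartbeats 1600000 in
/-- **slicing by a fibrewise regular sequence** (EGA IV 11.3.8): chart form. -/
theorem exists_regSlice_chart (f : X ⟶ S) [LocallyOfFinitePresentation f] (x : X)
    (hflat : (f.stalkMap x).hom.Flat) (hs : List (X.presheaf.stalk x))
    (hreg : IsRegular (X.presheaf.stalk x ⧸ Ideal.map (f.stalkMap x).hom
        (IsLocalRing.maximalIdeal (S.presheaf.stalk (f x))))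
      (hs.map (Ideal.Quotient.mk (Ideal.map (f.stalkMap x).hom
        (IsLocalRing.maximalIdeal (S.presheaf.stalk (f x))))))) :
    ∃ (U : X.Opens) (hU : IsAffineOpen U) (hx : x ∈ U) (W : S.Opens) (_ : IsAffineOpen W)
      (e : U ≤ f ⁻¹ᵁ W) (hs' : List Γ(X, U)),
      hs'.map (X.presheaf.germ U x hx) = hs ∧ IsWeaklyRegular Γ(X, U) hs' ∧
      Ideal.ofList hs' ≤ (hU.primeIdealOf ⟨x, hx⟩).asIdeal ∧
      ∀ i, i ≤ hs'.length →
        ((Ideal.Quotient.mk (Ideal.ofList (hs'.take i))).comp (f.appLE W U e).hom).Flat := by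
  -- charts
  obtain ⟨W, hW, hfxW, -⟩ := exists_isAffineOpen_mem_and_subset (x := f x) (U := ⊤) trivial
  obtain ⟨U₁, hU₁, hxU₁, e₁, as, has⟩ := exists_sections x hs (f ⁻¹ᵁ W) hfxW
  subst has
  -- ring-level data
  letI algAB : Algebra Γ(S, W) Γ(X, U₁) := (f.appLE W U₁ e₁).hom.toAlgebra
  haveI fpAB : Algebra.FinitePresentation Γ(S, W) Γ(X, U₁) :=
    f.finitePresentation_appLE hW hU₁ e₁
  obtain ⟨q, hq_def⟩ : ∃ q : Ideal Γ(X, U₁), q = (hU₁.primeIdealOf ⟨x, hxU₁⟩).asIdeal := ⟨_, rfl⟩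
  haveI hqp : q.IsPrime := hq_def ▸ (hU₁.primeIdealOf ⟨x, hxU₁⟩).isPrime
  letI algBC : Algebra Γ(X, U₁) (X.presheaf.stalk x) :=
    (X.presheaf.germ U₁ x hxU₁).hom.toAlgebra
  haveI locC : IsLocalization.AtPrime (X.presheaf.stalk x) q :=
    hq_def ▸ hU₁.isLocalization_stalk ⟨x, hxU₁⟩
  letI algAC : Algebra Γ(S, W) (X.presheaf.stalk x) :=
    ((X.presheaf.germ U₁ x hxU₁).hom.comp (f.appLE W U₁ e₁).hom).toAlgebra
  haveI towABC : IsScalarTower Γ(S, W) Γ(X, U₁) (X.presheaf.stalk x) :=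
    IsScalarTower.of_algebraMap_eq fun _ => rfl
  -- `O_{X,x}` is flat over `Γ(S, W)`
  haveI flatAC : Module.Flat Γ(S, W) (X.presheaf.stalk x) := by
    letI algAR : Algebra Γ(S, W) (S.presheaf.stalk (f x)) :=
      (S.presheaf.germ W (f x) (e₁ hxU₁)).hom.toAlgebra
    letI algRC : Algebra (S.presheaf.stalk (f x)) (X.presheaf.stalk x) :=
      (f.stalkMap x).hom.toAlgebra
    haveI : IsScalarTower Γ(S, W) (S.presheaf.stalk (f x)) (X.presheaf.stalk x) :=
      IsScalarTower.of_algebraMap_eq fun r => (stalkMap_germ_appLE f e₁ x hxU₁ r).symm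
    haveI := hW.isLocalization_stalk ⟨f x, e₁ hxU₁⟩
    haveI : Module.Flat Γ(S, W) (S.presheaf.stalk (f x)) :=
      IsLocalization.flat _ (hW.primeIdealOf ⟨f x, e₁ hxU₁⟩).asIdeal.primeCompl
    haveI : Module.Flat (S.presheaf.stalk (f x)) (X.presheaf.stalk x) := hflat
    exact Module.Flat.trans Γ(S, W) (S.presheaf.stalk (f x)) (X.presheaf.stalk x)
  have hflatB : Module.Flat Γ(S, W) (LocalizedModule q.primeCompl Γ(X, U₁)) := by
    haveI : IsLocalizedModule q.primeCompl (Algebra.linearMap Γ(X, U₁) (X.presheaf.stalk x)) :=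
      inferInstance
    let e := IsLocalizedModule.linearEquiv q.primeCompl
      (LocalizedModule.mkLinearMap q.primeCompl Γ(X, U₁))
      (Algebra.linearMap Γ(X, U₁) (X.presheaf.stalk x))
    exact Module.Flat.of_linearEquiv (e.restrictScalars Γ(S, W))
  -- the fibre ideal
  obtain ⟨M, hM_def⟩ : ∃ M : Ideal (X.presheaf.stalk x), M = Ideal.map (f.stalkMap x).hom
    (IsLocalRing.maximalIdeal (S.presheaf.stalk (f x))) := ⟨_, rfl⟩
  rw [← hM_def] at hreg
  obtain ⟨pe, hpe_def⟩ : ∃ pe : Ideal Γ(X, U₁), pe =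
    (q.comap (algebraMap Γ(S, W) Γ(X, U₁))).map (algebraMap Γ(S, W) Γ(X, U₁)) := ⟨_, rfl⟩
  have hmax : M = pe.map (algebraMap Γ(X, U₁) (X.presheaf.stalk x)) := by
    rw [hM_def, hpe_def, hq_def]
    exact map_stalkMap_maximalIdeal f hU₁ hW e₁ x hxU₁
  obtain ⟨hs, hhs_def⟩ : ∃ hs : List (X.presheaf.stalk x),
    hs = as.map (algebraMap Γ(X, U₁) (X.presheaf.stalk x)) := ⟨_, rfl⟩
  have hhs_def' : as.map (X.presheaf.germ U₁ x hxU₁) = hs := hhs_def.symm
  rw [hhs_def'] at hreg
  -- the elementwise form of regularity on the fibre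
  have hreg' : ∀ i (h : i < hs.length) (c : X.presheaf.stalk x),
      hs[i] * c ∈ Ideal.ofList (hs.take i) ⊔ M → c ∈ Ideal.ofList (hs.take i) ⊔ M := by
    have h1 := (isWeaklyRegular_iff_forall _).mp hreg.toIsWeaklyRegular
    intro i hi c hc
    have hi' : i < (hs.map (Ideal.Quotient.mk M)).length := by rwa [List.length_map]
    have h2 := h1 i hi' (Ideal.Quotient.mk M c)
    rw [List.getElem_map, ← List.map_take, ← Ideal.map_ofList, ← map_mul,
      Ideal.mem_quotient_iff_mem_sup, Ideal.mem_quotient_iff_mem_sup] at h2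
    exact h2 hc
  have hfib : ∀ i (h : i < as.length), ∀ b : Γ(X, U₁),
      (∃ σ ∈ q.primeCompl, σ * (as[i] * b) ∈ Ideal.ofList (as.take i) ⊔ pe) →
      ∃ τ ∈ q.primeCompl, τ * b ∈ Ideal.ofList (as.take i) ⊔ pe := by
    rintro i hi b ⟨σ, hσ, hσb⟩
    have hi' : i < hs.length := by rw [hhs_def, List.length_map]; exact hi
    have hK : (Ideal.ofList (as.take i) ⊔ pe).map (algebraMap Γ(X, U₁) (X.presheaf.stalk x)) =
        Ideal.ofList (hs.take i) ⊔ M := by
      rw [Ideal.map_sup, Ideal.map_ofList, List.map_take, ← hhs_def, ← hmax]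
    have h1 := Ideal.mem_map_of_mem (algebraMap Γ(X, U₁) (X.presheaf.stalk x)) hσb
    rw [hK, map_mul, map_mul] at h1
    have hσu : IsUnit (algebraMap Γ(X, U₁) (X.presheaf.stalk x) σ) :=
      IsLocalization.map_units (X.presheaf.stalk x) (⟨σ, hσ⟩ : q.primeCompl)
    have h3 : hs[i] * algebraMap Γ(X, U₁) (X.presheaf.stalk x) b ∈
        Ideal.ofList (hs.take i) ⊔ M := by
      obtain ⟨t, ht⟩ := hσu.exists_left_inv
      have h2 := Ideal.mul_mem_left _ t h1
      rw [← mul_assoc, ht, one_mul] at h2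
      have h4 : hs[i] = algebraMap Γ(X, U₁) (X.presheaf.stalk x) as[i] := by
        simp only [hhs_def, List.getElem_map]
      rw [h4]
      exact h2
    have h4 := hreg' i hi' _ h3
    rw [← hK] at h4
    exact (IsLocalization.algebraMap_mem_map_algebraMap_iff q.primeCompl (X.presheaf.stalk x)
      _ b).mp h4
  obtain ⟨g, hg, hgood⟩ := exists_nhd_goodAt (A := Γ(S, W)) q as hflatB
    (hpe_def ▸ hfib) as.length le_rfl
  -- the neighbourhood
  have hUg : IsAffineOpen (X.basicOpen g) := hU₁.basicOpen g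
  have hle : X.basicOpen g ≤ U₁ := X.basicOpen_le g
  have hxg : x ∈ X.basicOpen g := mem_basicOpen_of_notMem hU₁ x hxU₁ g (hq_def ▸ hg)
  letI algAG : Algebra Γ(S, W) Γ(X, X.basicOpen g) :=
    (f.appLE W (X.basicOpen g) (hle.trans e₁)).hom.toAlgebra
  letI algBG : Algebra Γ(X, U₁) Γ(X, X.basicOpen g) :=
    (X.presheaf.map (homOfLE hle).op).hom.toAlgebra
  haveI locG : IsLocalization.Away g Γ(X, X.basicOpen g) := hU₁.isLocalization_basicOpen g
  haveI towG : IsScalarTower Γ(S, W) Γ(X, U₁) Γ(X, X.basicOpen g) :=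
    IsScalarTower.of_algebraMap_eq' (by
      change (f.appLE W (X.basicOpen g) (hle.trans e₁)).hom =
        (X.presheaf.map (homOfLE hle).op).hom.comp (f.appLE W U₁ e₁).hom
      rw [← CommRingCat.hom_comp, Scheme.Hom.appLE_map])
  obtain ⟨hs', hhs'_def⟩ : ∃ hs' : List Γ(X, X.basicOpen g),
    hs' = as.map (algebraMap Γ(X, U₁) Γ(X, X.basicOpen g)) := ⟨_, rfl⟩
  have hgerm : hs'.map (X.presheaf.germ (X.basicOpen g) x hxg) =
      as.map (X.presheaf.germ U₁ x hxU₁) := by
    rw [hhs'_def, List.map_map]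
    apply List.map_congr_left
    intro a _
    exact TopCat.Presheaf.germ_res_apply X.presheaf (homOfLE hle) x hxg a
  refine ⟨X.basicOpen g, hUg, hxg, W, hW, hle.trans e₁, hs', hgerm, ?_, ?_, ?_⟩
  · rw [hhs'_def]
    exact isWeaklyRegular_away g as (fun q' _ hq' i hi b hb => (hgood q' hq').1 i hi hi b hb) _
  · -- `x` lies on the zero locus
    intro r hr
    by_contra hrq
    letI algGC : Algebra Γ(X, X.basicOpen g) (X.presheaf.stalk x) :=
      (X.presheaf.germ (X.basicOpen g) x hxg).hom.toAlgebra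
    haveI locGC : IsLocalization.AtPrime (X.presheaf.stalk x)
        (hUg.primeIdealOf ⟨x, hxg⟩).asIdeal := hUg.isLocalization_stalk ⟨x, hxg⟩
    have hru : IsUnit (algebraMap Γ(X, X.basicOpen g) (X.presheaf.stalk x) r) :=
      IsLocalization.map_units (X.presheaf.stalk x)
        (⟨r, hrq⟩ : (hUg.primeIdealOf ⟨x, hxg⟩).asIdeal.primeCompl)
    obtain ⟨ψ, hψ_def⟩ : ∃ ψ : Γ(X, X.basicOpen g) →+* (X.presheaf.stalk x ⧸ M),
      ψ = (Ideal.Quotient.mk M).comp (algebraMap Γ(X, X.basicOpen g) (X.presheaf.stalk x)) :=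
      ⟨_, rfl⟩
    have hψu : IsUnit (ψ r) := by
      rw [hψ_def, RingHom.comp_apply]
      exact hru.map _
    have h1 : (Ideal.ofList hs').map ψ = ⊤ :=
      Ideal.eq_top_of_isUnit_mem _ (Ideal.mem_map_of_mem ψ hr) hψu
    have h2 : (Ideal.ofList hs').map ψ = Ideal.ofList (hs.map (Ideal.Quotient.mk M)) := by
      rw [Ideal.map_ofList, ← hhs_def', ← hgerm, List.map_map, hψ_def]
      rfl
    rw [h2] at h1
    exact ((Groth.Agent.H1.RegComp.isRegular_iff_ne_top _).mp hreg).2 h1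
  · intro i hi
    have hi' : i ≤ as.length := by rwa [hhs'_def, List.length_map] at hi
    rw [ringHom_flat_mk_comp_iff]
    have h7 : Module.Flat Γ(S, W)
        (LocalizedModule (Submonoid.powers g) (Γ(X, U₁) ⧸ Ideal.ofList (as.take i))) :=
      flat_away_of_forall_flat_prime g (fun q' _ hgq' => (hgood q' hgq').2 i hi')
    have h8 := flat_quot_map_away_of_flat_localizedModule g (Ideal.ofList (as.take i))
      Γ(X, X.basicOpen g) h7
    rw [Ideal.map_ofList, List.map_take, ← hhs'_def] at h8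
    exact h8

end Scheme

end Groth.Agent.H7.RegSlice
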