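import Groth.Agent.Lib.Helper7.RegSliceC
import Groth.Agent.Lib.Helper1.RegCutSch
import Mathlib

/-!
# Slicing a flat morphism by a fibrewise regular sequence: base change and assembly (S1459)
-/

set_option autoImplicit false
universe u

open CategoryTheory Limits AlgebraicGeometry TensorProduct RingTheory.Sequence

namespace Groth.Agent.H7.RegSlice

/-- transport of flatness of `A → C → C/J` along a ring isomorphism `C ≃ C'`. -/
theorem flat_mk_comp_ringEquiv {A C C' : Type u} [CommRing A] [CommRing C] [CommRing C']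
    (φ : A →+* C) (τ : C ≃+* C') (J : Ideal C) (h : ((Ideal.Quotient.mk J).comp φ).Flat) :
    ((Ideal.Quotient.mk (J.map (τ : C →+* C'))).comp ((τ : C →+* C').comp φ)).Flat := by
  let ε : (C ⧸ J) ≃+* (C' ⧸ J.map (τ : C →+* C')) := Ideal.quotientEquiv J _ τ rfl
  have h1 : (Ideal.Quotient.mk (J.map (τ : C →+* C'))).comp ((τ : C →+* C').comp φ) =
      (ε : (C ⧸ J) →+* _).comp ((Ideal.Quotient.mk J).comp φ) := by
    ext a
    rfl
  rw [h1]
  exact RingHom.Flat.comp h (RingHom.Flat.of_bijective ε.bijective)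

section Scheme

variable {Y S S' Z : Scheme.{u}}

open Groth.Agent.LD.QC in
set_option maxHeartbeats 1600000 in
/-- base change of a regular closed immersion into an affine scheme, cut out by a weakly regular
sequence whose partial quotients are flat over the base, is a regular closed immersion. -/
theorem isRegularClosedImmersion_pullback_map (fY : Y ⟶ S) (i : Z ⟶ Y) (fZ : Z ⟶ S) (g : S' ⟶ S)
    (h1 : fZ ≫ 𝟙 S = i ≫ fY) (h2 : g ≫ 𝟙 S = 𝟙 S' ≫ g)
    [IsAffine Y] [IsClosedImmersion i] {W : S.Opens} (hW : IsAffineOpen W)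
    (eW : (⊤ : Y.Opens) ≤ fY ⁻¹ᵁ W)
    (rs : List Γ(Y, ⊤)) (hrs : IsWeaklyRegular Γ(Y, ⊤) rs)
    (hker : i.ker.ideal ⟨⊤, isAffineOpen_top Y⟩ = Ideal.ofList rs)
    (hfl : ∀ j, j < rs.length →
      ((Ideal.Quotient.mk (Ideal.ofList (rs.take (j + 1)))).comp (fY.appLE W ⊤ eW).hom).Flat) :
    Mor2.IsRegularClosedImmersion (pullback.map fZ g fY g i (𝟙 S') (𝟙 S) h1 h2) := by
  obtain ⟨i', hi'_def⟩ : ∃ i', i' = pullback.map fZ g fY g i (𝟙 S') (𝟙 S) h1 h2 := ⟨_, rfl⟩
  rw [← hi'_def]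
  have hfst : i' ≫ pullback.fst fY g = pullback.fst fZ g ≫ i := by
    rw [hi'_def]; exact pullback.lift_fst _ _ _
  have hsnd : i' ≫ pullback.snd fY g = pullback.snd fZ g := by
    rw [hi'_def]
    exact (pullback.lift_snd _ _ _).trans (Category.comp_id _)
  have hfZ : fZ = i ≫ fY := by rw [← h1, Category.comp_id]
  -- the pullback square
  have hsq : IsPullback i' (pullback.fst fZ g) (pullback.fst fY g) i := by
    have hbig : IsPullback (i' ≫ pullback.snd fY g) (pullback.fst fZ g) g (i ≫ fY) := by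
      rw [hsnd, ← hfZ]
      exact (IsPullback.of_hasPullback fZ g).flip
    exact IsPullback.of_right hbig hfst (IsPullback.of_hasPullback fY g).flip
  haveI hci' : IsClosedImmersion i' :=
    MorphismProperty.of_isPullback (P := @IsClosedImmersion) hsq.flip inferInstance
  have hkeri' : i'.ker = i.ker.comap (pullback.fst fY g) := by
    have h3 : i' = hsq.isoPullback.hom ≫ pullback.fst (pullback.fst fY g) i :=
      (hsq.isoPullback_hom_fst).symm
    rw [h3, Scheme.Hom.ker_comp_of_isIso, Scheme.IdealSheafData.ker_fst_of_isClosedImmersion]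
  refine ⟨hci', fun z' => ?_⟩
  obtain ⟨y, hy_def⟩ : ∃ y, y = i' z' := ⟨_, rfl⟩
  rw [← hy_def]
  have hc : IsPullback (pullback.fst fY g) (pullback.snd fY g) fY g :=
    IsPullback.of_hasPullback fY g
  have hyW : pullback.snd fY g y ∈ g ⁻¹ᵁ W := by
    change g (pullback.snd fY g y) ∈ W
    have e : g (pullback.snd fY g y) = fY (pullback.fst fY g y) := by
      rw [← Scheme.Hom.comp_apply, ← Scheme.Hom.comp_apply, hc.w]
    rw [e]; exact eW trivial
  obtain ⟨W', hW', hyW', eW'⟩ :=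
    exists_isAffineOpen_mem_and_subset (x := pullback.snd fY g y) (U := g ⁻¹ᵁ W) hyW
  obtain ⟨UY, hUYdef⟩ : ∃ UY : (pullback fY g).Opens,
    UY = pullback.fst fY g ⁻¹ᵁ ⊤ ⊓ pullback.snd fY g ⁻¹ᵁ W' := ⟨_, rfl⟩
  have hyUY : y ∈ UY := by rw [hUYdef]; exact ⟨trivial, hyW'⟩
  have e1 : UY ≤ pullback.fst fY g ⁻¹ᵁ ⊤ := by rw [hUYdef]; exact inf_le_left
  have e2 : UY ≤ pullback.snd fY g ⁻¹ᵁ W' := by rw [hUYdef]; exact inf_le_right
  have hTop : IsAffineOpen (⊤ : Y.Opens) := isAffineOpen_top Y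
  have hUY : IsAffineOpen UY := by
    haveI : IsAffine (W : Scheme.{u}) := hW
    haveI : IsAffine (W' : Scheme.{u}) := hW'
    haveI : IsAffine ((⊤ : Y.Opens) : Scheme.{u}) := hTop
    exact .of_isIso (Scheme.Hom.isPullback_resLE hc eW' eW hUYdef).isoPullback.hom
  have hpo := (isIso_pushoutSection_iff hc eW' eW hUYdef).mp
    (isIso_pushoutSection_of_isAffineOpen hc eW' eW hUYdef hW hW' hTop)
  have hideal : i'.ker.ideal ⟨UY, hUY⟩ =
      Ideal.ofList (rs.map ((pullback.fst fY g).appLE ⊤ UY e1).hom) := by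
    rw [hkeri', ideal_comap_of_le i.ker (pullback.fst fY g) ⟨⊤, hTop⟩ ⟨UY, hUY⟩ e1, hker,
      Ideal.map_ofList]
  refine ⟨UY, hUY, hyUY, rs.map ((pullback.fst fY g).appLE ⊤ UY e1).hom, ?_, hideal⟩
  letI aRB : Algebra Γ(S, W) Γ(Y, ⊤) := (fY.appLE W ⊤ eW).hom.toAlgebra
  letI aRR' : Algebra Γ(S, W) Γ(S', W') := (g.appLE W W' eW').hom.toAlgebra
  letI aBB' : Algebra Γ(Y, ⊤) Γ(pullback fY g, UY) :=
    ((pullback.fst fY g).appLE ⊤ UY e1).hom.toAlgebra
  letI aR'B' : Algebra Γ(S', W') Γ(pullback fY g, UY) :=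
    ((pullback.snd fY g).appLE W' UY e2).hom.toAlgebra
  letI aRB' : Algebra Γ(S, W) Γ(pullback fY g, UY) :=
    (((pullback.fst fY g).appLE ⊤ UY e1).hom.comp (fY.appLE W ⊤ eW).hom).toAlgebra
  haveI t1 : IsScalarTower Γ(S, W) Γ(Y, ⊤) Γ(pullback fY g, UY) :=
    IsScalarTower.of_algebraMap_eq fun _ => rfl
  haveI t2 : IsScalarTower Γ(S, W) Γ(S', W') Γ(pullback fY g, UY) :=
    IsScalarTower.of_algebraMap_eq fun r => by
      have := congr($(hpo.w) r)
      exact this
  haveI hPO : Algebra.IsPushout Γ(S, W) Γ(Y, ⊤) Γ(S', W') Γ(pullback fY g, UY) :=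
    CommRingCat.isPushout_iff_isPushout.mp hpo
  have hfl' : ∀ j, j < rs.length →
      Module.Flat Γ(S, W) (Γ(Y, ⊤) ⧸ Ideal.ofList (rs.take (j + 1))) := by
    intro j hj
    exact (ringHom_flat_mk_comp_iff _ _).mp (hfl j hj)
  have hwr := isWeaklyRegular_of_isPushout (R := Γ(S, W)) (B := Γ(Y, ⊤)) (R' := Γ(S', W'))
    (B' := Γ(pullback fY g, UY)) rs hrs hfl'
  rw [Groth.Agent.H1.RegComp.isRegular_iff_ne_top]
  refine ⟨hwr, ?_⟩
  intro htop
  have hsupp : y ∈ i'.ker.support := i'.range_subset_ker_support ⟨z', hy_def.symm⟩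
  rw [Scheme.IdealSheafData.mem_support_iff_of_mem (U := ⟨UY, hUY⟩) hyUY, hideal, htop,
    Scheme.mem_zeroLocus_iff] at hsupp
  have h5 := hsupp 1 Submodule.mem_top
  rw [Scheme.basicOpen_one] at h5
  exact h5 hyUY

end Scheme

section Main

variable {X S : Scheme.{u}}

open Groth.Agent.H1.RegCutSch in
set_option backward.isDefEq.respectTransparency false in
set_option maxHeartbeats 1600000 in
/-- **S1459**. -/
theorem S1459_main (f : X ⟶ S) [LocallyOfFinitePresentation f] (x : X)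
    (hflat : (f.stalkMap x).hom.Flat) (hs : List (X.presheaf.stalk x))
    (hreg : IsRegular (X.presheaf.stalk x ⧸ Ideal.map (f.stalkMap x).hom
        (IsLocalRing.maximalIdeal (S.presheaf.stalk (f x))))
      (hs.map (Ideal.Quotient.mk (Ideal.map (f.stalkMap x).hom
        (IsLocalRing.maximalIdeal (S.presheaf.stalk (f x))))))) :
    ∃ (U : X.Opens) (hU : IsAffineOpen U) (hx : x ∈ U) (hs' : List Γ(X, U)),
      hs'.map (X.presheaf.germ U x hx) = hs ∧
      Mor2.IsRegularClosedImmersion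
        (Spec.map (CommRingCat.ofHom (Ideal.Quotient.mk (Ideal.ofList hs'))) ≫ hU.isoSpec.inv) ∧
      x ∈ Set.range ⇑(Spec.map (CommRingCat.ofHom (Ideal.Quotient.mk (Ideal.ofList hs'))) ≫
        hU.fromSpec) ∧
      Flat (Spec.map (CommRingCat.ofHom (Ideal.Quotient.mk (Ideal.ofList hs'))) ≫
        hU.fromSpec ≫ f) ∧
      LocallyOfFinitePresentation
        (Spec.map (CommRingCat.ofHom (Ideal.Quotient.mk (Ideal.ofList hs'))) ≫ hU.fromSpec ≫ f) ∧
      ∀ (S' : Scheme.{u}) (g : S' ⟶ S), Mor2.IsRegularClosedImmersion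
        (pullback.map (Spec.map (CommRingCat.ofHom (Ideal.Quotient.mk (Ideal.ofList hs'))) ≫
            hU.isoSpec.inv ≫ U.ι ≫ f) g (U.ι ≫ f) g
          (Spec.map (CommRingCat.ofHom (Ideal.Quotient.mk (Ideal.ofList hs'))) ≫ hU.isoSpec.inv)
          (𝟙 S') (𝟙 S) (Category.comp_id _)
          ((Category.comp_id g).trans (Category.id_comp g).symm)) := by
  obtain ⟨U, hU, hx, W, hW, e, hs', hgerm, hwr, hIq, hfl⟩ :=
    exists_regSlice_chart f x hflat hs hreg
  haveI : IsAffine (U : Scheme.{u}) := hU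
  obtain ⟨I, hI⟩ : ∃ I : Ideal Γ(X, U), I = Ideal.ofList hs' := ⟨_, rfl⟩
  rw [← hI] at hIq
  obtain ⟨y₀, hy₀⟩ : ∃ y₀, y₀ = hU.primeIdealOf ⟨x, hx⟩ := ⟨_, rfl⟩
  rw [← hy₀] at hIq
  have hIne : I ≠ ⊤ := fun h => y₀.2.ne_top (top_le_iff.mp (h ▸ hIq))
  have hR : IsRegular Γ(X, U) hs' :=
    (Groth.Agent.H1.RegComp.isRegular_iff_ne_top hs').mpr ⟨hwr, hI ▸ hIne⟩
  refine ⟨U, hU, hx, hs', hgerm, ?_⟩
  rw [← hI]
  obtain ⟨a, ha_def⟩ : ∃ a : Spec (CommRingCat.of (Γ(X, U) ⧸ I)) ⟶ Spec Γ(X, U),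
    a = Spec.map (CommRingCat.ofHom (Ideal.Quotient.mk I)) := ⟨_, rfl⟩
  rw [← ha_def]
  haveI hca : IsClosedImmersion a := by
    rw [ha_def]
    exact IsClosedImmersion.spec_of_surjective _ Ideal.Quotient.mk_surjective
  have hiι : (a ≫ hU.isoSpec.inv) ≫ U.ι = a ≫ hU.fromSpec := by
    simp only [Category.assoc, IsAffineOpen.isoSpec_inv_ι]
  have hif : a ≫ hU.fromSpec ≫ f =
      Spec.map (f.appLE W U e ≫ CommRingCat.ofHom (Ideal.Quotient.mk I)) ≫ hW.fromSpec := by
    rw [← IsAffineOpen.SpecMap_appLE_fromSpec f hW hU e, ← Category.assoc, ha_def,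
      ← Spec.map_comp]
  have hrange : ∀ y : PrimeSpectrum Γ(X, U), y ∈ Set.range ⇑a ↔ I ≤ y.asIdeal := by
    intro y
    have : Set.range ⇑a = PrimeSpectrum.zeroLocus (I : Set Γ(X, U)) := by
      have h1 := _root_.range_comap_of_surjective (Γ(X, U) ⧸ I) (Ideal.Quotient.mk I)
        Ideal.Quotient.mk_surjective
      rw [Ideal.mk_ker] at h1
      rw [ha_def]
      exact h1
    rw [this, PrimeSpectrum.mem_zeroLocus, SetLike.coe_subset_coe]
  have hkertop : (a ≫ hU.isoSpec.inv).ker.ideal ⟨⊤, isAffineOpen_top (U : Scheme.{u})⟩ =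
      Ideal.ofList (hs'.map U.topIso.inv.hom) := by
    rw [ha_def, ker_ideal_top hU I, hI, Ideal.map_ofList]
  have hRtop : IsRegular Γ((U : Scheme.{u}), ⊤) (hs'.map U.topIso.inv.hom) :=
    isRegular_map_ringEquiv U.topIso.symm.commRingCatIsoToRingEquiv hs' hR
  refine ⟨⟨inferInstance, fun z => ?_⟩, ?_, ?_, ?_, ?_⟩
  · exact ⟨⊤, isAffineOpen_top _, trivial, hs'.map U.topIso.inv.hom, hRtop, hkertop⟩
  · obtain ⟨z, hz⟩ := (hrange y₀).mpr hIq
    refine ⟨z, ?_⟩
    rw [Scheme.Hom.comp_apply]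
    have h1 : hU.fromSpec (a z) = hU.fromSpec y₀ := congrArg _ hz
    refine Eq.trans h1 ?_
    rw [hy₀, hU.fromSpec_primeIdealOf]
  · rw [hif]
    haveI : Flat (Spec.map (f.appLE W U e ≫ CommRingCat.ofHom (Ideal.Quotient.mk I))) := by
      rw [HasRingHomProperty.Spec_iff (P := @Flat)]
      have h1 := hfl hs'.length le_rfl
      rw [List.take_length, ← hI] at h1
      exact h1
    infer_instance
  · rw [hif]
    haveI : LocallyOfFinitePresentation
        (Spec.map (f.appLE W U e ≫ CommRingCat.ofHom (Ideal.Quotient.mk I))) := by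
      rw [HasRingHomProperty.Spec_iff (P := @LocallyOfFinitePresentation)]
      rw [CommRingCat.hom_comp, CommRingCat.hom_ofHom]
      refine RingHom.FinitePresentation.comp ?_ (f.finitePresentation_appLE hW hU e)
      exact RingHom.FinitePresentation.of_surjective _ Ideal.Quotient.mk_surjective (by
        rw [Ideal.mk_ker, hI]; exact Submodule.fg_span (List.finite_toSet hs'))
    infer_instance
  · intro S' g
    have eW : (⊤ : (U : Scheme.{u}).Opens) ≤ (U.ι ≫ f) ⁻¹ᵁ W := by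
      intro z _
      change f (U.ι z) ∈ W
      exact e z.2
    have happ : ((U.ι ≫ f).appLE W ⊤ eW).hom =
        (U.topIso.symm.commRingCatIsoToRingEquiv : Γ(X, U) →+* Γ((U : Scheme.{u}), ⊤)).comp
          (f.appLE W U e).hom := by
      have happ0 : (U.ι ≫ f).appLE W ⊤ eW = f.appLE W U e ≫ U.topIso.inv := by
        rw [Scheme.Hom.comp_appLE, Scheme.Opens.ι_appLE, Scheme.Hom.appLE, Category.assoc,
          Scheme.Opens.topIso_inv]
        refine congrArg (f.app W ≫ ·) ?_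
        exact (X.presheaf.map_comp _ _)
      rw [happ0]
      rfl
    refine isRegularClosedImmersion_pullback_map (U.ι ≫ f) (a ≫ hU.isoSpec.inv) _ g _ _ hW eW
      (hs'.map U.topIso.inv.hom) hRtop.toIsWeaklyRegular hkertop ?_
    intro j hj
    rw [List.length_map] at hj
    have h1 := flat_mk_comp_ringEquiv (f.appLE W U e).hom
      U.topIso.symm.commRingCatIsoToRingEquiv _ (hfl (j + 1) hj)
    rw [← happ, Ideal.map_ofList, List.map_take] at h1
    exact h1

end Main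

end Groth.Agent.H7.RegSlice
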