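import Groth.Agent.Lib.Helper7.RelCartA
import Groth.Agent.Lib.Helper7.EffCart5
import Groth.Agent.Lib.Helper5.AlgSp.LocPMore
import Mathlib

/-!
# Relative effective Cartier divisors on algebraic spaces: base change (S10797)
-/

set_option autoImplicit false
universe u

open CategoryTheory CategoryTheory.Limits AlgebraicGeometry Opposite Topology

namespace Groth.Agent.H7.RelCart

open _root_.AlgSp Groth.Agent.H5.AlgSp Groth.Agent.H7.EffCart

variable {S : Scheme.{u}}

theorem S10797_main (X Y D Y' X' D' : AlgSp.Space S)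
    (f : X ⟶ Y) (i : D ⟶ X) (hD : AlgSp.IsEffCartierSub i.hom)
    (hflat : AlgSp.LocP @Flat (i ≫ f).hom)
    (g : Y' ⟶ Y) (g' : X' ⟶ X) (f' : X' ⟶ Y') (hX' : IsPullback g'.hom f'.hom f.hom g.hom)
    (k : D' ⟶ D) (i' : D' ⟶ X') (hD' : IsPullback k.hom i'.hom i.hom g'.hom) :
    AlgSp.IsEffCartierSub i'.hom := by
  have hi : RepWith @IsClosedImmersion i.hom := hD.1
  have hi' : RepWith @IsClosedImmersion i'.hom :=
    (RepWith @IsClosedImmersion).of_isPullback hD' hi
  -- charts
  obtain ⟨V, b, hbe, hbs⟩ := Y.property.atlas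
  obtain ⟨V', b', k₀, hb'e, hb's, commY⟩ := exists_chart_diagram_surj Y'.property g.hom hbe hbs
  obtain ⟨U, a, h, c, hae, commX, hce, hcs, hca, hch⟩ := exists_chart_diagram X.property f.hom hbe
  -- the scheme `U' = U ×_V V'`
  have wS : pullback.snd h.left k₀.left ≫ V'.hom = pullback.fst h.left k₀.left ≫ U.hom := by
    rw [← Over.w k₀, ← Category.assoc, ← pullback.condition, Category.assoc, Over.w h]
  let U' : Over S := Over.mk (pullback.fst h.left k₀.left ≫ U.hom)
  let p₁ : U' ⟶ U := Over.homMk (pullback.fst h.left k₀.left) rfl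
  let p₂ : U' ⟶ V' := Over.homMk (pullback.snd h.left k₀.left) wS
  have hp : p₁ ≫ h = p₂ ≫ k₀ := Over.OverMorphism.ext pullback.condition
  have sqU' : IsPullback p₁ p₂ h k₀ :=
    IsPullback.of_map (Over.forget S) hp (IsPullback.of_hasPullback h.left k₀.left)
  have sqU'y := sqU'.map (yon S)
  -- `T₁ = R ×_V V'`
  have sqR := IsPullback.of_hasPullback f.hom b
  have sqT := IsPullback.of_hasPullback (pullback.snd f.hom b) ((yon S).map k₀)
  -- `T₁ ⟶ X'`
  have wt : (pullback.fst (pullback.snd f.hom b) ((yon S).map k₀) ≫ pullback.fst f.hom b) ≫ f.hom =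
      (pullback.snd (pullback.snd f.hom b) ((yon S).map k₀) ≫ b') ≫ g.hom := by
    rw [Category.assoc, sqR.w, ← Category.assoc, sqT.w, Category.assoc, Category.assoc, commY]
  let t := hX'.lift _ _ wt
  have ht1 : t ≫ g'.hom = pullback.fst (pullback.snd f.hom b) ((yon S).map k₀) ≫
      pullback.fst f.hom b := hX'.lift_fst _ _ _
  have ht2 : t ≫ f'.hom = pullback.snd (pullback.snd f.hom b) ((yon S).map k₀) ≫ b' :=
    hX'.lift_snd _ _ _
  have sqt : IsPullback t (pullback.snd (pullback.snd f.hom b) ((yon S).map k₀)) f'.hom b' := by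
    refine IsPullback.of_right (h₁₂ := g'.hom) (h₂₂ := g.hom) ?_ ht2 hX'
    rw [ht1, commY]
    exact sqT.paste_horiz sqR
  have hte : RepWith @Etale t := MorphismProperty.of_isPullback (P := RepWith @Etale) sqt.flip hb'e
  have hts : RepWith @Surjective t :=
    MorphismProperty.of_isPullback (P := RepWith @Surjective) sqt.flip hb's
  -- `yon U' ⟶ T₁`
  have wu : ((yon S).map p₁ ≫ c) ≫ pullback.snd f.hom b = (yon S).map p₂ ≫ (yon S).map k₀ := by
    rw [Category.assoc, hch, ← Functor.map_comp, ← Functor.map_comp, hp]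
  let u₁ := sqT.lift _ _ wu
  have hu1 : u₁ ≫ pullback.fst (pullback.snd f.hom b) ((yon S).map k₀) = (yon S).map p₁ ≫ c :=
    sqT.lift_fst _ _ _
  have hu2 : u₁ ≫ pullback.snd (pullback.snd f.hom b) ((yon S).map k₀) = (yon S).map p₂ :=
    sqT.lift_snd _ _ _
  have squ : IsPullback u₁ ((yon S).map p₁)
      (pullback.fst (pullback.snd f.hom b) ((yon S).map k₀)) c := by
    refine IsPullback.of_right (h₁₂ := pullback.snd (pullback.snd f.hom b) ((yon S).map k₀))
      (h₂₂ := pullback.snd f.hom b) ?_ hu1 sqT.flip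
    rw [hu2, hch]
    exact sqU'y.flip
  have hue : RepWith @Etale u₁ := MorphismProperty.of_isPullback (P := RepWith @Etale) squ.flip hce
  have hus : RepWith @Surjective u₁ :=
    MorphismProperty.of_isPullback (P := RepWith @Surjective) squ.flip hcs
  -- the chart of `X'`
  have hφe : RepWith @Etale (u₁ ≫ t) := (RepWith @Etale).comp_mem _ _ hue hte
  have hφs : RepWith @Surjective (u₁ ≫ t) := (RepWith @Surjective).comp_mem _ _ hus hts
  have hφg : (u₁ ≫ t) ≫ g'.hom = (yon S).map p₁ ≫ a := by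
    rw [Category.assoc, ht1, ← Category.assoc, hu1, Category.assoc, hca]
  -- the ideal of `D` on `U`
  obtain ⟨𝓘, fstD, sqD⟩ := exists_chart_ideal hi a
  have hC : BlowUp.IsEffCartierIdeal 𝓘 :=
    isEffCartierIdeal_of_isEffCartierSub X.property hD hae 𝓘 fstD sqD
  have hfstDe : RepWith @Etale fstD := MorphismProperty.of_isPullback (P := RepWith @Etale) sqD.flip hae
  have commD : fstD ≫ (i ≫ f).hom = (yon S).map (subOverι U 𝓘 ≫ h) ≫ b := by
    change fstD ≫ i.hom ≫ f.hom = _
    rw [← Category.assoc, sqD.w, Category.assoc, commX, Functor.map_comp, Category.assoc]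
  haveI hfl : Flat (𝓘.subschemeι ≫ h.left) := hflat fstD b (subOverι U 𝓘 ≫ h) hfstDe hbe commD
  have hK : BlowUp.IsEffCartierIdeal (𝓘.comap p₁.left) :=
    isEffCartierIdeal_comap_of_flat_over h.left k₀.left p₁.left p₂.left
      (IsPullback.of_hasPullback h.left k₀.left) 𝓘 hC
  obtain ⟨m, sqY⟩ := isPullback_comap p₁ 𝓘
  have hw : ((yon S).map m ≫ fstD) ≫ i.hom =
      ((yon S).map (subOverι U' (𝓘.comap p₁.left)) ≫ (u₁ ≫ t)) ≫ g'.hom := by
    rw [Category.assoc, sqD.w, ← Category.assoc, ← sqY.w, Category.assoc, Category.assoc, hφg]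
  refine ⟨hi', U', u₁ ≫ t, 𝓘.comap p₁.left, hD'.lift _ _ hw, hφe, hφs, ?_, hK⟩
  have big : IsPullback ((yon S).map (subOverι U' (𝓘.comap p₁.left)))
      (hD'.lift _ _ hw ≫ k.hom) ((u₁ ≫ t) ≫ g'.hom) i.hom := by
    rw [hD'.lift_fst, hφg]
    exact sqY.paste_vert sqD.flip
  exact (IsPullback.of_bot big (hD'.lift_snd _ _ hw).symm hD'.flip).flip

end Groth.Agent.H7.RelCart
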