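import Groth.Agent.Lib.Helper7.RelCartA
import Groth.Agent.Lib.Helper1.FibreStalk
import Groth.Agent.Lib.Helper1.FibInj4
import Groth.Agent.Lib.Helper1.CritFib2
import Groth.Agent.Lib.Helper1.CartierKit
import Groth.Prelude.Def_CurvBase
import Mathlib

/-!
# Relative effective Cartier divisors from the fibres (S8848)
-/

set_option autoImplicit false
universe u

open CategoryTheory Limits AlgebraicGeometry TensorProduct

namespace Groth.Agent.H7.RelCart

/-- two generators of a principal ideal, one of which is a nonzerodivisor -/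
theorem nzd_of_span_eq {B : Type*} [CommRing B] (a g : B) (hg : g ∈ nonZeroDivisors B)
    (h : Ideal.span {a} = Ideal.span {g}) : a ∈ nonZeroDivisors B := by
  have h1 : a ∈ Ideal.span {g} := h ▸ Ideal.mem_span_singleton_self a
  have h2 : g ∈ Ideal.span {a} := h.symm ▸ Ideal.mem_span_singleton_self g
  obtain ⟨c, hc⟩ := Ideal.mem_span_singleton'.mp h1
  obtain ⟨d, hd⟩ := Ideal.mem_span_singleton'.mp h2
  -- `c * g = a`, `d * a = g`
  have h3 : (d * c - 1) * g = 0 := by
    rw [sub_mul, mul_assoc, hc, hd, one_mul, sub_self]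
  have h4 : d * c = 1 := by
    have := (mem_nonZeroDivisors_iff_right.mp hg) _ h3
    exact sub_eq_zero.mp this
  have hcu : IsUnit c := IsUnit.of_mul_eq_one d (by rw [mul_comm]; exact h4)
  rw [← hc]
  exact mul_mem (hcu.mem_nonZeroDivisors) hg

section Scheme

variable {X S : Scheme.{u}}

open Groth.Agent.H1.FibreStalk in
/-- the canonical map to the local ring of the fibre, on germs -/
theorem toFiberStalk_germ (φ : X ⟶ S) (x : X) (U : X.Opens) (hxU : x ∈ U)
    (V : (φ.fiber (φ x)).Opens) (hxV : φ.asFiber x ∈ V) (e : V ≤ (φ.fiberι (φ x)) ⁻¹ᵁ U)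
    (a : Γ(X, U)) :
    toFiberStalk φ x (X.presheaf.germ U x hxU a) =
      (φ.fiber (φ x)).presheaf.germ V (φ.asFiber x) hxV ((φ.fiberι (φ x)).appLE U V e a) := by
  have hx' : (φ.fiberι (φ x)) (φ.asFiber x) ∈ U := by rw [φ.fiberι_asFiber x]; exact hxU
  have h1 : (X.presheaf.stalkCongr (Inseparable.of_eq (φ.fiberι_asFiber x).symm)).hom.hom
      (X.presheaf.germ U x hxU a) = X.presheaf.germ U ((φ.fiberι (φ x)) (φ.asFiber x)) hx' a := by
    have := TopCat.Presheaf.germ_stalkSpecializes X.presheaf (U := U) hxU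
      (Inseparable.of_eq (φ.fiberι_asFiber x).symm).ge
    exact congr($this a)
  rw [toFiberStalk, RingHom.comp_apply, h1]
  erw [Scheme.Hom.germ_stalkMap_apply]
  rw [Scheme.Hom.appLE]
  simp only [CommRingCat.comp_apply]
  erw [TopCat.Presheaf.germ_res_apply]

/-- germs at a point of an affine open preserve nonzerodivisors -/
theorem germ_mem_nonZeroDivisors {Y : Scheme.{u}} {V : Y.Opens} (hV : IsAffineOpen V) (y : Y)
    (hy : y ∈ V) (g : Γ(Y, V)) (hg : g ∈ nonZeroDivisors Γ(Y, V)) :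
    Y.presheaf.germ V y hy g ∈ nonZeroDivisors (Y.presheaf.stalk y) := by
  letI : Algebra Γ(Y, V) (Y.presheaf.stalk y) := (Y.presheaf.germ V y hy).hom.toAlgebra
  haveI := hV.isLocalization_stalk ⟨y, hy⟩
  haveI : Module.Flat Γ(Y, V) (Y.presheaf.stalk y) :=
    IsLocalization.flat _ (hV.primeIdealOf ⟨y, hy⟩).asIdeal.primeCompl
  exact Groth.Agent.LD.QC.map_mem_nonZeroDivisors_of_flat (A := Γ(Y, V))
    (B := Y.presheaf.stalk y) hg

open Groth.Agent.H1.FibreStalk in
/-- if the inverse image of `𝓘 = (a)` on the fibre through `x` is effective Cartier, then the image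
of `a` in the local ring of the fibre at `x` is a nonzerodivisor. -/
theorem toFiberStalk_germ_mem_nonZeroDivisors (φ : X ⟶ S) (𝓘 : X.IdealSheafData) (x : X)
    (U : X.affineOpens) (hxU : x ∈ U.1) (a : Γ(X, U.1)) (hIa : 𝓘.ideal U = Ideal.span {a})
    (hfib : BlowUp.IsEffCartierIdeal (𝓘.comap (φ.fiberι (φ x)))) :
    toFiberStalk φ x (X.presheaf.germ U.1 x hxU a) ∈
      nonZeroDivisors ((φ.fiber (φ x)).presheaf.stalk (φ.asFiber x)) := by
  obtain ⟨V₀, hxV₀, g₀, hg₀, hI₀⟩ := hfib (φ.asFiber x)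
  have hx' : φ.asFiber x ∈ (φ.fiberι (φ x)) ⁻¹ᵁ U.1 := by
    change (φ.fiberι (φ x)) (φ.asFiber x) ∈ U.1
    rw [φ.fiberι_asFiber x]; exact hxU
  obtain ⟨V, hV, hxV, eV⟩ := exists_isAffineOpen_mem_and_subset (x := φ.asFiber x)
    (U := V₀.1 ⊓ (φ.fiberι (φ x)) ⁻¹ᵁ U.1) ⟨hxV₀, hx'⟩
  have eV₀ : V ≤ V₀.1 := eV.trans inf_le_left
  have eVU : V ≤ (φ.fiberι (φ x)) ⁻¹ᵁ U.1 := eV.trans inf_le_right
  obtain ⟨g, hg_def⟩ : ∃ g : Γ(φ.fiber (φ x), V),
      g = (φ.fiber (φ x)).presheaf.map (homOfLE eV₀).op g₀ := ⟨_, rfl⟩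
  have hIg : (𝓘.comap (φ.fiberι (φ x))).ideal ⟨V, hV⟩ = Ideal.span {g} := by
    rw [← (𝓘.comap (φ.fiberι (φ x))).map_ideal (U := ⟨V, hV⟩) (V := V₀) eV₀, hI₀, Ideal.map_span,
      Set.image_singleton, hg_def]
    rfl
  have hgNZD : g ∈ nonZeroDivisors Γ(φ.fiber (φ x), V) := by
    letI : Algebra Γ(φ.fiber (φ x), V₀.1) Γ(φ.fiber (φ x), V) :=
      ((φ.fiber (φ x)).presheaf.map (homOfLE eV₀).op).hom.toAlgebra
    haveI : Module.Flat Γ(φ.fiber (φ x), V₀.1) Γ(φ.fiber (φ x), V) :=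
      flat_restrict_of_isAffineOpen hV V₀.2 eV₀
    rw [hg_def]
    exact Groth.Agent.LD.QC.map_mem_nonZeroDivisors_of_flat (A := Γ(φ.fiber (φ x), V₀.1))
      (B := Γ(φ.fiber (φ x), V)) hg₀
  have hIa' : (𝓘.comap (φ.fiberι (φ x))).ideal ⟨V, hV⟩ =
      Ideal.span {(φ.fiberι (φ x)).appLE U.1 V eVU a} := by
    rw [Groth.Agent.LD.QC.ideal_comap_of_le 𝓘 (φ.fiberι (φ x)) U ⟨V, hV⟩ eVU, hIa, Ideal.map_span,
      Set.image_singleton]
  have hnz : (φ.fiberι (φ x)).appLE U.1 V eVU a ∈ nonZeroDivisors Γ(φ.fiber (φ x), V) :=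
    nzd_of_span_eq _ g hgNZD (hIa'.symm.trans hIg)
  rw [toFiberStalk_germ φ x U.1 hxU V hxV eVU a]
  exact germ_mem_nonZeroDivisors hV _ hxV _ hnz

open Groth.Agent.H1.FibreStalk Groth.Agent.H1.FibInj Groth.Agent.H1.CritFib in
/-- **EGA IV 11.3.7 for a principal ideal, at a stalk**: if `φ` is flat and locally of finite
presentation and the image of `α ∈ O_{X,x}` in the local ring of the fibre is a nonzerodivisor, then
`α` is a nonzerodivisor and `O_{X,x}/(α)` is flat over `O_{S,φ x}`. -/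
theorem stalk_nzd_and_flat (φ : X ⟶ S) [Flat φ] [LocallyOfFinitePresentation φ] (x : X)
    (α : X.presheaf.stalk x)
    (hα : toFiberStalk φ x α ∈
      nonZeroDivisors ((φ.fiber (φ x)).presheaf.stalk (φ.asFiber x))) :
    α ∈ nonZeroDivisors (X.presheaf.stalk x) ∧
      (letI := (φ.stalkMap x).hom.toAlgebra
       Module.Flat (S.presheaf.stalk (φ x)) (X.presheaf.stalk x ⧸ Ideal.span {α})) := by
  letI alg : Algebra (S.presheaf.stalk (φ x)) (X.presheaf.stalk x) :=
    (φ.stalkMap x).hom.toAlgebra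
  haveI loc : IsLocalHom (algebraMap (S.presheaf.stalk (φ x)) (X.presheaf.stalk x)) :=
    show IsLocalHom (φ.stalkMap x).hom from inferInstance
  haveI fl : Module.Flat (S.presheaf.stalk (φ x)) (X.presheaf.stalk x) := Flat.stalkMap φ x
  obtain ⟨S₀', _, _, _, _, Mon, hfp, hloc⟩ := exists_essFP_stalkMap φ x
  let u : X.presheaf.stalk x →ₗ[X.presheaf.stalk x] X.presheaf.stalk x :=
    LinearMap.mulLeft (X.presheaf.stalk x) α
  have hker := ker_toFiberStalk φ x
  have hu : ∀ c : X.presheaf.stalk x,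
      u c ∈ (IsLocalRing.maximalIdeal (S.presheaf.stalk (φ x))).map
        (algebraMap (S.presheaf.stalk (φ x)) (X.presheaf.stalk x)) •
          (⊤ : Submodule (X.presheaf.stalk x) (X.presheaf.stalk x)) →
      c ∈ (IsLocalRing.maximalIdeal (S.presheaf.stalk (φ x))).map
        (algebraMap (S.presheaf.stalk (φ x)) (X.presheaf.stalk x)) •
          (⊤ : Submodule (X.presheaf.stalk x) (X.presheaf.stalk x)) := by
    intro c hc
    have e : ∀ J : Ideal (X.presheaf.stalk x),
        J • (⊤ : Submodule (X.presheaf.stalk x) (X.presheaf.stalk x)) = J := fun J => by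
      rw [smul_eq_mul, ← Ideal.one_eq_top, mul_one]
    rw [e] at hc ⊢
    change α * c ∈ Ideal.map (φ.stalkMap x).hom _ at hc
    change c ∈ Ideal.map (φ.stalkMap x).hom _
    rw [← hker, RingHom.mem_ker] at hc ⊢
    rw [map_mul] at hc
    have := (mem_nonZeroDivisors_iff.mp hα).1 _ hc
    exact this
  obtain ⟨hinj, hflat⟩ := fibInj_of_isLocalization (R := S.presheaf.stalk (φ x))
    (S₀ := S₀') (S := X.presheaf.stalk x) Mon u hu
  have hrange : LinearMap.range u = Ideal.span {α} := by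
    ext c
    rw [LinearMap.mem_range, Ideal.mem_span_singleton']
    constructor
    · rintro ⟨b, hb⟩
      exact ⟨b, by rw [mul_comm]; exact hb⟩
    · rintro ⟨b, hb⟩
      exact ⟨b, by change α * b = c; rw [mul_comm]; exact hb⟩
  refine ⟨?_, ?_⟩
  · rw [mem_nonZeroDivisors_iff_right]
    intro c hc
    apply hinj
    rw [map_zero]
    change α * c = 0
    rw [mul_comm]; exact hc
  · rw [← hrange]
    exact hflat

/-- a section all of whose germs are nonzerodivisors is a nonzerodivisor -/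
theorem mem_nonZeroDivisors_of_germ {U : X.Opens} (a : Γ(X, U))
    (h : ∀ y (hy : y ∈ U), X.presheaf.germ U y hy a ∈ nonZeroDivisors (X.presheaf.stalk y)) :
    a ∈ nonZeroDivisors Γ(X, U) := by
  rw [mem_nonZeroDivisors_iff_right]
  intro b hb
  refine TopCat.Presheaf.section_ext X.sheaf U _ _ (fun y hy => ?_)
  have h1 : X.presheaf.germ U y hy b * X.presheaf.germ U y hy a = 0 := by
    rw [← map_mul, hb, map_zero]
  have h2 := (mem_nonZeroDivisors_iff_right.mp (h y hy)) _ h1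
  have h3 : X.presheaf.germ U y hy 0 = 0 := map_zero _
  exact h2.trans h3.symm

open Groth.Agent.H1.FibreStalk Groth.Agent.H1.CartierKit in
/-- **S8848**: a locally principal ideal on a flat, locally finitely presented `X/S` whose
restriction to every fibre is effective Cartier is a relative effective Cartier divisor. -/
theorem S8848_main (φ : X ⟶ S) [Flat φ] [LocallyOfFinitePresentation φ]
    (𝓘 : X.IdealSheafData) (hZ : Curv2.IsLocPrincipal 𝓘)
    (hfib : ∀ s : ↥S, BlowUp.IsEffCartierIdeal (𝓘.comap (φ.fiberι s))) :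
    BlowUp.IsEffCartierIdeal 𝓘 ∧ Flat (𝓘.subschemeι ≫ φ) := by
  have key : ∀ (U : X.affineOpens) (a : Γ(X, U.1)) (_ : 𝓘.ideal U = Ideal.span {a}) (y : X)
      (hy : y ∈ U.1),
      X.presheaf.germ U.1 y hy a ∈ nonZeroDivisors (X.presheaf.stalk y) ∧
      (letI := (φ.stalkMap y).hom.toAlgebra
       Module.Flat (S.presheaf.stalk (φ y))
        (X.presheaf.stalk y ⧸ Ideal.span {X.presheaf.germ U.1 y hy a})) :=
    fun U a hIa y hy => stalk_nzd_and_flat φ y _
      (toFiberStalk_germ_mem_nonZeroDivisors φ 𝓘 y U hy a hIa (hfib (φ y)))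
  constructor
  · intro x
    by_cases hx : x ∈ 𝓘.support
    · obtain ⟨U, hxU, a, hIa⟩ := hZ x hx
      exact ⟨U, hxU, a, mem_nonZeroDivisors_of_germ a (fun y hy => (key U a hIa y hy).1), hIa⟩
    · exact cartier_of_not_mem_support 𝓘 x hx
  · apply Flat.of_stalkMap
    intro z
    have hx : 𝓘.subschemeι z ∈ 𝓘.support := by
      rw [← SetLike.mem_coe, ← 𝓘.range_subschemeι]
      exact ⟨z, rfl⟩
    obtain ⟨U, hxU, a, hIa⟩ := hZ _ hx
    obtain ⟨-, hflat⟩ := key U a hIa _ hxU
    rw [Scheme.Hom.stalkMap_comp]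
    have hsurj : Function.Surjective (𝓘.subschemeι.stalkMap z).hom :=
      𝓘.subschemeι.stalkMap_surjective z
    have hker : RingHom.ker (𝓘.subschemeι.stalkMap z).hom =
        Ideal.span {X.presheaf.germ U.1 (𝓘.subschemeι z) hxU a} := by
      rw [ker_stalkMap_subschemeι 𝓘 U z hxU, hIa, Ideal.map_span, Set.image_singleton]
    letI alg : Algebra (S.presheaf.stalk (φ (𝓘.subschemeι z))) (X.presheaf.stalk (𝓘.subschemeι z)) :=
      (φ.stalkMap (𝓘.subschemeι z)).hom.toAlgebra
    letI alg2 : Algebra (S.presheaf.stalk (φ (𝓘.subschemeι z))) (𝓘.subscheme.presheaf.stalk z) :=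
      ((𝓘.subschemeι.stalkMap z).hom.comp (φ.stalkMap (𝓘.subschemeι z)).hom).toAlgebra
    let ψ : X.presheaf.stalk (𝓘.subschemeι z) →ₐ[S.presheaf.stalk (φ (𝓘.subschemeι z))]
        𝓘.subscheme.presheaf.stalk z :=
      { (𝓘.subschemeι.stalkMap z).hom with commutes' := fun r => rfl }
    have hψs : Function.Surjective ψ := hsurj
    have hψk : RingHom.ker ψ = Ideal.span {X.presheaf.germ U.1 (𝓘.subschemeι z) hxU a} := hker
    haveI h7 : Module.Flat (S.presheaf.stalk (φ (𝓘.subschemeι z)))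
        (X.presheaf.stalk (𝓘.subschemeι z) ⧸ RingHom.ker ψ) := by
      rw [hψk]; exact hflat
    have h8 : Module.Flat (S.presheaf.stalk (φ (𝓘.subschemeι z))) (𝓘.subscheme.presheaf.stalk z) :=
      Module.Flat.of_linearEquiv (Ideal.quotientKerAlgEquivOfSurjective hψs).symm.toLinearEquiv
    exact h8

end Scheme

end Groth.Agent.H7.RelCart
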