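import Groth.Agent.Lib.Helper7.RelCartC
import Groth.Agent.Lib.Helper1.FibInj5
import Groth.Agent.Lib.Helper1.FibInj7
import Groth.Agent.Lib.Helper1.SchFlat
import Groth.Agent.Lib.Lead.QC.RelCartier
import Mathlib

/-!
# Slicing a flat morphism by a fibrewise nonzerodivisor (S1348, S9756)
-/

set_option autoImplicit false
universe u

open CategoryTheory Limits AlgebraicGeometry TensorProduct

namespace Groth.Agent.H7.RelCart

/-- an element whose annihilator vanishes at the prime `q` maps to a nonzerodivisor of the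
localization at `q`. -/
theorem algebraMap_mem_nonZeroDivisors_of_forall {B : Type*} [CommRing B] (q : Ideal B) [q.IsPrime]
    (C : Type*) [CommRing C] [Algebra B C] [IsLocalization.AtPrime C q] (a : B)
    (h : ∀ b : B, a * b = 0 → ∃ τ ∈ q.primeCompl, τ * b = 0) :
    algebraMap B C a ∈ nonZeroDivisors C := by
  rw [mem_nonZeroDivisors_iff_right]
  intro c hc
  obtain ⟨b, s, rfl⟩ := IsLocalization.exists_mk'_eq q.primeCompl c
  have h1 : algebraMap B C (b * a) = 0 := by
    have h0 : IsLocalization.mk' C b s * algebraMap B C a * algebraMap B C (s : B) = 0 := by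
      rw [hc, zero_mul]
    rw [mul_right_comm, IsLocalization.mk'_spec] at h0
    rw [map_mul]; exact h0
  obtain ⟨t, ht⟩ := (IsLocalization.map_eq_zero_iff q.primeCompl C _).mp h1
  have h2 : a * ((t : B) * b) = 0 := by
    rw [← ht]; ring
  obtain ⟨τ, hτ, h3⟩ := h _ h2
  have h4 : algebraMap B C b = 0 := by
    rw [IsLocalization.map_eq_zero_iff q.primeCompl C]
    exact ⟨⟨τ * t, q.primeCompl.mul_mem hτ t.2⟩, by
      change τ * (t : B) * b = 0
      rw [mul_assoc]; exact h3⟩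
  rw [IsLocalization.mk'_eq_mul_mk'_one, h4, zero_mul]

/-- localization away from `g` commutes with the quotient by a principal ideal, as modules. -/
theorem flat_quot_away_of_flat_localizedModule {A B : Type*} [CommRing A] [CommRing B]
    [Algebra A B] (g a : B) (Bg : Type*) [CommRing Bg] [Algebra B Bg] [Algebra A Bg]
    [IsScalarTower A B Bg] [IsLocalization.Away g Bg]
    (h : Module.Flat A (LocalizedModule (Submonoid.powers g) (B ⧸ Ideal.span {a}))) :
    Module.Flat A (Bg ⧸ Ideal.span {algebraMap B Bg a}) := by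
  haveI : IsLocalizedModule (Submonoid.powers g) (Algebra.linearMap B Bg) := inferInstance
  let M' : Submodule B B := Ideal.span {a}
  have hloc : M'.localized' Bg (Submonoid.powers g) (Algebra.linearMap B Bg) =
      Ideal.span {algebraMap B Bg a} := by
    change (Submodule.span B {a}).localized' Bg (Submonoid.powers g) (Algebra.linearMap B Bg) = _
    rw [Submodule.localized'_span, Set.image_singleton]
    rfl
  let e := IsLocalizedModule.linearEquiv (Submonoid.powers g)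
    (LocalizedModule.mkLinearMap (Submonoid.powers g) (B ⧸ M'))
    (M'.toLocalizedQuotient' Bg (Submonoid.powers g) (Algebra.linearMap B Bg))
  have h2 : Module.Flat A (Bg ⧸ M'.localized' Bg (Submonoid.powers g) (Algebra.linearMap B Bg)) :=
    Module.Flat.of_linearEquiv (e.symm.restrictScalars A)
  rw [hloc] at h2
  exact h2

section Scheme

variable {X S : Scheme.{u}}

open Groth.Agent.LD.QC in
/-- the ideal of `O_{X,x}` generated by the maximal ideal of `O_{S,f x}`, in terms of charts -/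
theorem map_stalkMap_maximalIdeal (f : X ⟶ S) {U : X.Opens} {W : S.Opens} (hU : IsAffineOpen U)
    (hW : IsAffineOpen W) (e : U ≤ f ⁻¹ᵁ W) (x : X) (hx : x ∈ U) :
    Ideal.map (f.stalkMap x).hom (IsLocalRing.maximalIdeal (S.presheaf.stalk (f x))) =
      Ideal.map (X.presheaf.germ U x hx).hom
        (Ideal.map (f.appLE W U e).hom
          ((hU.primeIdealOf ⟨x, hx⟩).asIdeal.comap (f.appLE W U e).hom)) := by
  letI : Algebra Γ(S, W) (S.presheaf.stalk (f x)) := (S.presheaf.germ W (f x) (e hx)).hom.toAlgebra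
  haveI := hW.isLocalization_stalk ⟨f x, e hx⟩
  have h1 : IsLocalRing.maximalIdeal (S.presheaf.stalk (f x)) =
      Ideal.map (S.presheaf.germ W (f x) (e hx)).hom (hW.primeIdealOf ⟨f x, e hx⟩).asIdeal :=
    (IsLocalization.AtPrime.map_eq_maximalIdeal (hW.primeIdealOf ⟨f x, e hx⟩).asIdeal
      (S.presheaf.stalk (f x))).symm
  have h2 : (hU.primeIdealOf ⟨x, hx⟩).asIdeal.comap (f.appLE W U e).hom =
      (hW.primeIdealOf ⟨f x, e hx⟩).asIdeal := by
    have := IsAffineOpen.comap_primeIdealOf_appLE (f := f) (x := x) W hW U hU e hx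
    exact congrArg PrimeSpectrum.asIdeal this
  have h3 : (f.stalkMap x).hom.comp (S.presheaf.germ W (f x) (e hx)).hom =
      (X.presheaf.germ U x hx).hom.comp (f.appLE W U e).hom := by
    ext a
    exact stalkMap_germ_appLE f e x hx a
  rw [h1, h2, Ideal.map_map, Ideal.map_map, h3]

open Groth.Agent.LD.QC Groth.Agent.H1.FibInj Groth.Agent.H1.SchFlat in
set_option maxHeartbeats 1600000 in
/-- **slicing by a fibrewise nonzerodivisor** (EGA IV 11.3.8, one element): chart form. -/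
theorem exists_slice (f : X ⟶ S) [LocallyOfFinitePresentation f] (x : X)
    (hflat : (f.stalkMap x).hom.Flat) (h : X.presheaf.stalk x)
    (hreg : ∀ c : X.presheaf.stalk x,
      h * c ∈ Ideal.map (f.stalkMap x).hom (IsLocalRing.maximalIdeal (S.presheaf.stalk (f x))) →
      c ∈ Ideal.map (f.stalkMap x).hom (IsLocalRing.maximalIdeal (S.presheaf.stalk (f x)))) :
    ∃ (U : X.Opens) (hU : IsAffineOpen U) (hx : x ∈ U) (W : S.Opens) (_ : IsAffineOpen W)
      (e : U ≤ f ⁻¹ᵁ W) (h' : Γ(X, U)),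
      X.presheaf.germ U x hx h' = h ∧ h' ∈ nonZeroDivisors Γ(X, U) ∧
      ((Ideal.Quotient.mk (Ideal.span {h'})).comp (f.appLE W U e).hom).Flat := by
  -- charts
  obtain ⟨W, hW, hfxW, -⟩ := exists_isAffineOpen_mem_and_subset (x := f x) (U := ⊤) trivial
  obtain ⟨V, hxV, s, hs⟩ := TopCat.Presheaf.exists_germ_eq X.presheaf h
  obtain ⟨U₁, hU₁, hxU₁, hU₁le⟩ :=
    exists_isAffineOpen_mem_and_subset (x := x) (U := V ⊓ f ⁻¹ᵁ W) ⟨hxV, hfxW⟩
  have e₁ : U₁ ≤ f ⁻¹ᵁ W := hU₁le.trans inf_le_right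
  have eV : U₁ ≤ V := hU₁le.trans inf_le_left
  obtain ⟨a, ha_def⟩ : ∃ a : Γ(X, U₁), a = X.presheaf.map (homOfLE eV).op s := ⟨_, rfl⟩
  have hga : X.presheaf.germ U₁ x hxU₁ a = h := by
    rw [ha_def, TopCat.Presheaf.germ_res_apply]; exact hs
  -- ring-level data
  letI algAB : Algebra Γ(S, W) Γ(X, U₁) := (f.appLE W U₁ e₁).hom.toAlgebra
  haveI fpAB : Algebra.FinitePresentation Γ(S, W) Γ(X, U₁) :=
    f.finitePresentation_appLE hW hU₁ e₁
  obtain ⟨q, hq_def⟩ : ∃ q : Ideal Γ(X, U₁), q = (hU₁.primeIdealOf ⟨x, hxU₁⟩).asIdeal := ⟨_, rfl⟩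
  haveI hqp : q.IsPrime := hq_def ▸ (hU₁.primeIdealOf ⟨x, hxU₁⟩).isPrime
  letI algBC : Algebra Γ(X, U₁) (X.presheaf.stalk x) :=
    (X.presheaf.germ U₁ x hxU₁).hom.toAlgebra
  haveI locC : IsLocalization.AtPrime (X.presheaf.stalk x) q :=
    hq_def ▸ hU₁.isLocalization_stalk ⟨x, hxU₁⟩
  letI algAC : Algebra Γ(S, W) (X.presheaf.stalk x) :=
    ((X.presheaf.germ U₁ x hxU₁).hom.comp (f.appLE W U₁ e₁).hom).toAlgebra
  haveI towABC : IsScalarTower Γ(S, W) Γ(X, U₁) (X.presheaf.stalk x) :=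
    IsScalarTower.of_algebraMap_eq fun _ => rfl
  -- `O_{X,x}` is flat over `Γ(S, W)`
  haveI flatAC : Module.Flat Γ(S, W) (X.presheaf.stalk x) := by
    letI algAR : Algebra Γ(S, W) (S.presheaf.stalk (f x)) :=
      (S.presheaf.germ W (f x) (e₁ hxU₁)).hom.toAlgebra
    letI algRC : Algebra (S.presheaf.stalk (f x)) (X.presheaf.stalk x) :=
      (f.stalkMap x).hom.toAlgebra
    haveI : IsScalarTower Γ(S, W) (S.presheaf.stalk (f x)) (X.presheaf.stalk x) :=
      IsScalarTower.of_algebraMap_eq fun r => (stalkMap_germ_appLE f e₁ x hxU₁ r).symm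
    haveI := hW.isLocalization_stalk ⟨f x, e₁ hxU₁⟩
    haveI : Module.Flat Γ(S, W) (S.presheaf.stalk (f x)) :=
      IsLocalization.flat _ (hW.primeIdealOf ⟨f x, e₁ hxU₁⟩).asIdeal.primeCompl
    haveI : Module.Flat (S.presheaf.stalk (f x)) (X.presheaf.stalk x) := hflat
    exact Module.Flat.trans Γ(S, W) (S.presheaf.stalk (f x)) (X.presheaf.stalk x)
  have hflatB : Module.Flat Γ(S, W) (LocalizedModule q.primeCompl Γ(X, U₁)) := by
    haveI : IsLocalizedModule q.primeCompl (Algebra.linearMap Γ(X, U₁) (X.presheaf.stalk x)) :=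
      inferInstance
    let e := IsLocalizedModule.linearEquiv q.primeCompl
      (LocalizedModule.mkLinearMap q.primeCompl Γ(X, U₁))
      (Algebra.linearMap Γ(X, U₁) (X.presheaf.stalk x))
    exact Module.Flat.of_linearEquiv (e.restrictScalars Γ(S, W))
  let u : Γ(X, U₁) →ₗ[Γ(X, U₁)] Γ(X, U₁) := LinearMap.mulLeft Γ(X, U₁) a
  have hrange : LinearMap.range u = Ideal.span {a} := by
    ext c
    rw [LinearMap.mem_range, Ideal.mem_span_singleton']
    constructor
    · rintro ⟨b, hb⟩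
      exact ⟨b, by rw [mul_comm]; exact hb⟩
    · rintro ⟨b, hb⟩
      exact ⟨b, by change a * b = c; rw [mul_comm]; exact hb⟩
  -- the fibre condition
  have hmax := map_stalkMap_maximalIdeal f hU₁ hW e₁ x hxU₁
  rw [← hq_def] at hmax
  have hfib : ∀ b : Γ(X, U₁), (∃ σ ∈ q.primeCompl, σ • u b ∈
        (q.comap (algebraMap Γ(S, W) Γ(X, U₁))) • (⊤ : Submodule Γ(S, W) Γ(X, U₁))) →
      ∃ τ ∈ q.primeCompl, τ • b ∈
        (q.comap (algebraMap Γ(S, W) Γ(X, U₁))) • (⊤ : Submodule Γ(S, W) Γ(X, U₁)) := by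
    rintro b ⟨σ, hσ, hσb⟩
    have etop : ∀ (J : Ideal Γ(S, W)) (z : Γ(X, U₁)),
        z ∈ J • (⊤ : Submodule Γ(S, W) Γ(X, U₁)) ↔ z ∈ J.map (algebraMap Γ(S, W) Γ(X, U₁)) := by
      intro J z
      rw [← mem_map_smul_top_iff (A := Γ(S, W)) (B := Γ(X, U₁)) (F := Γ(X, U₁)) J z,
        smul_eq_mul, ← Ideal.one_eq_top, mul_one]
    rw [etop] at hσb
    have h1 : algebraMap Γ(X, U₁) (X.presheaf.stalk x) (σ • u b) ∈
        Ideal.map (f.stalkMap x).hom (IsLocalRing.maximalIdeal (S.presheaf.stalk (f x))) := by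
      rw [hmax]
      exact Ideal.mem_map_of_mem _ hσb
    have h2 : algebraMap Γ(X, U₁) (X.presheaf.stalk x) (σ • u b) =
        algebraMap Γ(X, U₁) (X.presheaf.stalk x) σ *
          (h * algebraMap Γ(X, U₁) (X.presheaf.stalk x) b) := by
      change algebraMap Γ(X, U₁) (X.presheaf.stalk x) (σ * (a * b)) = _
      rw [map_mul, map_mul]
      congr 2
    rw [h2] at h1
    have hσu : IsUnit (algebraMap Γ(X, U₁) (X.presheaf.stalk x) σ) :=
      IsLocalization.map_units (X.presheaf.stalk x) (⟨σ, hσ⟩ : q.primeCompl)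
    have h3 : h * algebraMap Γ(X, U₁) (X.presheaf.stalk x) b ∈
        Ideal.map (f.stalkMap x).hom (IsLocalRing.maximalIdeal (S.presheaf.stalk (f x))) := by
      obtain ⟨t, ht⟩ := hσu.exists_left_inv
      have := Ideal.mul_mem_left _ t h1
      rwa [← mul_assoc, ht, one_mul] at this
    have h4 := hreg _ h3
    rw [hmax] at h4
    obtain ⟨⟨⟨i, hi⟩, τ⟩, hτ⟩ :=
      (IsLocalization.mem_map_algebraMap_iff q.primeCompl (X.presheaf.stalk x)).mp h4
    have h5 : algebraMap Γ(X, U₁) (X.presheaf.stalk x) (b * τ) =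
        algebraMap Γ(X, U₁) (X.presheaf.stalk x) i := by
      rw [map_mul]; exact hτ
    obtain ⟨τ', hτ'⟩ := (IsLocalization.eq_iff_exists q.primeCompl (X.presheaf.stalk x)).mp h5
    refine ⟨(τ' : Γ(X, U₁)) * (τ : Γ(X, U₁)), q.primeCompl.mul_mem τ'.2 τ.2, ?_⟩
    rw [etop]
    have h6 : ((τ' : Γ(X, U₁)) * (τ : Γ(X, U₁))) • b = (τ' : Γ(X, U₁)) * i := by
      rw [smul_eq_mul, ← hτ']; ring
    rw [h6]
    exact Ideal.mul_mem_left _ _ hi
  obtain ⟨hinj, hfl⟩ := fibInj_at_prime q u hflatB hfib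
  obtain ⟨g, hg, hnhd⟩ := exists_nhd_injective_flat (A := Γ(S, W)) (B := Γ(X, U₁)) u q hinj hfl
  -- the neighbourhood
  have hUg : IsAffineOpen (X.basicOpen g) := hU₁.basicOpen g
  have hle : X.basicOpen g ≤ U₁ := X.basicOpen_le g
  have hxg : x ∈ X.basicOpen g := mem_basicOpen_of_notMem hU₁ x hxU₁ g (hq_def ▸ hg)
  refine ⟨X.basicOpen g, hUg, hxg, W, hW, hle.trans e₁, X.presheaf.map (homOfLE hle).op a, ?_, ?_, ?_⟩
  · rw [TopCat.Presheaf.germ_res_apply]; exact hga
  · -- nonzerodivisor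
    refine mem_nonZeroDivisors_of_germ _ (fun y hy => ?_)
    rw [TopCat.Presheaf.germ_res_apply]
    have hyU₁ : y ∈ U₁ := hle hy
    letI algBy : Algebra Γ(X, U₁) (X.presheaf.stalk y) :=
      (X.presheaf.germ U₁ y hyU₁).hom.toAlgebra
    haveI := hU₁.isLocalization_stalk ⟨y, hyU₁⟩
    have hgy : g ∉ (hU₁.primeIdealOf ⟨y, hyU₁⟩).asIdeal :=
      mem_primeCompl_of_mem_basicOpen hU₁ y hyU₁ g hy
    obtain ⟨hinj', -⟩ := hnhd (hU₁.primeIdealOf ⟨y, hyU₁⟩).asIdeal hgy
    exact algebraMap_mem_nonZeroDivisors_of_forall (hU₁.primeIdealOf ⟨y, hyU₁⟩).asIdeal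
      (X.presheaf.stalk y) a (fun b hb => hinj' b hb)
  · -- flatness
    rw [ringHom_flat_mk_comp_iff]
    letI algAG : Algebra Γ(S, W) Γ(X, X.basicOpen g) :=
      (f.appLE W (X.basicOpen g) (hle.trans e₁)).hom.toAlgebra
    letI algBG : Algebra Γ(X, U₁) Γ(X, X.basicOpen g) :=
      (X.presheaf.map (homOfLE hle).op).hom.toAlgebra
    haveI : IsLocalization.Away g Γ(X, X.basicOpen g) := hU₁.isLocalization_basicOpen g
    haveI : IsScalarTower Γ(S, W) Γ(X, U₁) Γ(X, X.basicOpen g) :=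
      IsScalarTower.of_algebraMap_eq' (by
        change (f.appLE W (X.basicOpen g) (hle.trans e₁)).hom =
          (X.presheaf.map (homOfLE hle).op).hom.comp (f.appLE W U₁ e₁).hom
        rw [← CommRingCat.hom_comp, Scheme.Hom.appLE_map])
    have h7 : Module.Flat Γ(S, W)
        (LocalizedModule (Submonoid.powers g) (Γ(X, U₁) ⧸ LinearMap.range u)) :=
      flat_away_of_forall_flat_prime g (fun q' _ hgq' => (hnhd q' hgq').2)
    rw [hrange] at h7
    exact flat_quot_away_of_flat_localizedModule g a Γ(X, X.basicOpen g) h7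

/-- **S1348**. -/
theorem S1348_main (f : X ⟶ S) [LocallyOfFinitePresentation f] (x : X)
    (hflat : (f.stalkMap x).hom.Flat) (h : X.presheaf.stalk x)
    (hreg : Ideal.Quotient.mk (Ideal.map (f.stalkMap x).hom
        (IsLocalRing.maximalIdeal (S.presheaf.stalk (f x)))) h ∈
      nonZeroDivisors (X.presheaf.stalk x ⧸ Ideal.map (f.stalkMap x).hom
        (IsLocalRing.maximalIdeal (S.presheaf.stalk (f x))))) :
    ∃ (U : X.Opens) (hU : IsAffineOpen U) (hx : x ∈ U) (h' : Γ(X, U)),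
      X.presheaf.germ U x hx h' = h ∧ h' ∈ nonZeroDivisors Γ(X, U) ∧
      Flat (Spec.map (CommRingCat.ofHom (Ideal.Quotient.mk (Ideal.span {h'}))) ≫
        hU.fromSpec ≫ f) ∧
      LocallyOfFinitePresentation
        (Spec.map (CommRingCat.ofHom (Ideal.Quotient.mk (Ideal.span {h'}))) ≫ hU.fromSpec ≫ f) := by
  have hreg' : ∀ c : X.presheaf.stalk x,
      h * c ∈ Ideal.map (f.stalkMap x).hom (IsLocalRing.maximalIdeal (S.presheaf.stalk (f x))) →
      c ∈ Ideal.map (f.stalkMap x).hom (IsLocalRing.maximalIdeal (S.presheaf.stalk (f x))) := by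
    intro c hc
    rw [← Ideal.Quotient.eq_zero_iff_mem] at hc ⊢
    rw [map_mul] at hc
    exact (mem_nonZeroDivisors_iff.mp hreg).1 _ hc
  obtain ⟨U, hU, hx, W, hW, e, h', hgerm, hnzd, hfl⟩ := exists_slice f x hflat h hreg'
  refine ⟨U, hU, hx, h', hgerm, hnzd, ?_, ?_⟩
  · have e3 : hU.fromSpec ≫ f = Spec.map (f.appLE W U e) ≫ hW.fromSpec :=
      (IsAffineOpen.SpecMap_appLE_fromSpec f hW hU e).symm
    rw [e3, ← Category.assoc, ← Spec.map_comp]
    haveI : Flat (Spec.map (f.appLE W U e ≫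
        CommRingCat.ofHom (Ideal.Quotient.mk (Ideal.span {h'})))) :=
      Flat.SpecMap_iff.mpr hfl
    infer_instance
  · haveI : LocallyOfFinitePresentation
        (Spec.map (CommRingCat.ofHom (Ideal.Quotient.mk (Ideal.span {h'})))) := by
      rw [LocallyOfFinitePresentation.SpecMap_iff]
      refine RingHom.FinitePresentation.of_surjective _ Ideal.Quotient.mk_surjective ?_
      change (RingHom.ker (Ideal.Quotient.mk (Ideal.span {h'}))).FG
      rw [Ideal.mk_ker]
      exact ⟨{h'}, by simp⟩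
    infer_instance

end Scheme

end Groth.Agent.H7.RelCart
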