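import Groth.Agent.Lib.Helper7.RelCartF
import Groth.Agent.Lib.Helper1.AusBuch
import Mathlib

/-!
# An effective Cartier divisor through a point, flat over the base (S9756)
-/

set_option autoImplicit false
universe u

open CategoryTheory Limits AlgebraicGeometry TensorProduct

namespace Groth.Agent.H7.RelCart

variable {X S : Scheme.{u}}

/-- scheme form of `exists_slice`. -/
theorem exists_slice' (f : X ⟶ S) [LocallyOfFinitePresentation f] (x : X)
    (hflat : (f.stalkMap x).hom.Flat) (h : X.presheaf.stalk x)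
    (hreg : ∀ c : X.presheaf.stalk x,
      h * c ∈ Ideal.map (f.stalkMap x).hom (IsLocalRing.maximalIdeal (S.presheaf.stalk (f x))) →
      c ∈ Ideal.map (f.stalkMap x).hom (IsLocalRing.maximalIdeal (S.presheaf.stalk (f x)))) :
    ∃ (U : X.Opens) (hU : IsAffineOpen U) (hx : x ∈ U) (h' : Γ(X, U)),
      X.presheaf.germ U x hx h' = h ∧ h' ∈ nonZeroDivisors Γ(X, U) ∧
      Flat (Spec.map (CommRingCat.ofHom (Ideal.Quotient.mk (Ideal.span {h'}))) ≫
        hU.fromSpec ≫ f) ∧
      LocallyOfFinitePresentation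
        (Spec.map (CommRingCat.ofHom (Ideal.Quotient.mk (Ideal.span {h'}))) ≫ hU.fromSpec ≫ f) := by
  obtain ⟨U, hU, hx, W, hW, e, h', hgerm, hnzd, hfl⟩ := exists_slice f x hflat h hreg
  refine ⟨U, hU, hx, h', hgerm, hnzd, ?_, ?_⟩
  · have e3 : hU.fromSpec ≫ f = Spec.map (f.appLE W U e) ≫ hW.fromSpec :=
      (IsAffineOpen.SpecMap_appLE_fromSpec f hW hU e).symm
    rw [e3, ← Category.assoc, ← Spec.map_comp]
    haveI : Flat (Spec.map (f.appLE W U e ≫
        CommRingCat.ofHom (Ideal.Quotient.mk (Ideal.span {h'})))) :=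
      Flat.SpecMap_iff.mpr hfl
    infer_instance
  · haveI : LocallyOfFinitePresentation
        (Spec.map (CommRingCat.ofHom (Ideal.Quotient.mk (Ideal.span {h'})))) := by
      rw [LocallyOfFinitePresentation.SpecMap_iff]
      refine RingHom.FinitePresentation.of_surjective _ Ideal.Quotient.mk_surjective ?_
      change (RingHom.ker (Ideal.Quotient.mk (Ideal.span {h'}))).FG
      rw [Ideal.mk_ker]
      exact ⟨{h'}, by simp⟩
    infer_instance

open Groth.Agent.H1.FibreStalk in
/-- **S9756**. -/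
theorem S9756_main (f : X ⟶ S) [LocallyOfFinitePresentation f] (x : X)
    (hflat : (f.stalkMap x).hom.Flat)
    (hdepth : 1 ≤ LocCoh.depth ↑((f.fiber (f x)).presheaf.stalk (f.asFiber x))
      ↑((f.fiber (f x)).presheaf.stalk (f.asFiber x))) :
    ∃ (U : X.Opens) (hU : IsAffineOpen U) (hx : x ∈ U) (h' : Γ(X, U)),
      h' ∈ nonZeroDivisors Γ(X, U) ∧
      X.presheaf.germ U x hx h' ∈ IsLocalRing.maximalIdeal ↑(X.presheaf.stalk x) ∧
      Flat (Spec.map (CommRingCat.ofHom (Ideal.Quotient.mk (Ideal.span {h'}))) ≫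
        hU.fromSpec ≫ f) ∧
      LocallyOfFinitePresentation
        (Spec.map (CommRingCat.ofHom (Ideal.Quotient.mk (Ideal.span {h'}))) ≫ hU.fromSpec ≫ f) := by
  have hne : LocCoh.depth ↑((f.fiber (f x)).presheaf.stalk (f.asFiber x))
      ↑((f.fiber (f x)).presheaf.stalk (f.asFiber x)) ≠ 0 := by
    intro h0
    rw [h0] at hdepth
    exact absurd hdepth (by simp)
  obtain ⟨xb, hxb, hxreg⟩ := Groth.Agent.H1.AB.exists_isSMulRegular_of_depth_ne_zero
    (R := ↑((f.fiber (f x)).presheaf.stalk (f.asFiber x)))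
    ↑((f.fiber (f x)).presheaf.stalk (f.asFiber x)) hne
  obtain ⟨h, hh⟩ := toFiberStalk_surjective f x xb
  have hker := ker_toFiberStalk f x
  have hreg : ∀ c : X.presheaf.stalk x,
      h * c ∈ Ideal.map (f.stalkMap x).hom (IsLocalRing.maximalIdeal (S.presheaf.stalk (f x))) →
      c ∈ Ideal.map (f.stalkMap x).hom (IsLocalRing.maximalIdeal (S.presheaf.stalk (f x))) := by
    intro c hc
    rw [← hker, RingHom.mem_ker] at hc ⊢
    rw [map_mul, hh] at hc
    have h1 : xb • (toFiberStalk f x c) = xb • 0 := by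
      rw [smul_zero]; exact hc
    exact hxreg h1
  obtain ⟨U, hU, hx, h', hgerm, hnzd, hfl, hfp⟩ := exists_slice' f x hflat h hreg
  refine ⟨U, hU, hx, h', hnzd, ?_, hfl, hfp⟩
  rw [hgerm, IsLocalRing.mem_maximalIdeal, mem_nonunits_iff]
  intro hu
  have h2 : IsUnit (toFiberStalk f x h) := hu.map _
  rw [hh] at h2
  exact (IsLocalRing.mem_maximalIdeal _).mp hxb h2

end Groth.Agent.H7.RelCart
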