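import Groth.Agent.Lib.Helper5.AlgSp.RedInduced
import Groth.Agent.Lib.Helper5.AlgSp.InterClosed
import Groth.Agent.Lib.Helper5.AlgSp.IntegralMor
import Groth.Prelude.Def_AlgSpMor5
import Mathlib
set_option autoImplicit false
universe u
open CategoryTheory CategoryTheory.Limits AlgebraicGeometry Topology

namespace Groth.Agent.H7.RelNorm
open _root_.AlgSp Groth.Agent.H5.AlgSp

variable {S : Scheme.{u}}

/-- Reducedness is invariant under isomorphism. -/
lemma isReducedSp_of_iso {F G : Sp S} (e : F ≅ G) (h : IsReducedSp F) : IsReducedSp G := by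
  obtain ⟨U, q, hqe, hqs, hU⟩ := h
  exact ⟨U, q ≫ e.hom, MorphismProperty.comp_mem _ _ _ hqe (MorphismProperty.of_isIso (RepWith (S := S) @Etale) e.hom),
    MorphismProperty.comp_mem _ _ _ hqs (MorphismProperty.of_isIso (RepWith (S := S) @Surjective) e.hom), hU⟩

/-- The normalization of `X` in a reduced `Y` is reduced. -/
theorem isReducedSp_of_isRelNormalization {Y X X' : Sp S} (hX' : IsAlgSpace X')
    (f : Y ⟶ X) (ν : X' ⟶ X) (f' : Y ⟶ X')
    (hn : IsRelNormalization f ν f') (hY : IsReducedSp Y) : IsReducedSp X' := by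
  obtain ⟨hfac, hν, huniv⟩ := hn
  obtain ⟨R, r, hR, hrc, hrr, hRred⟩ := exists_isRedInduced hX' Set.univ isClosed_univ
  obtain ⟨g, hg⟩ := exists_lift_closed_of_isReducedSp r hrc hY f' (by rw [hrr]; exact Set.subset_univ _)
  have hrint : IsIntegralMor r :=
    isIntegralMor_iff_repWith.2 (repWith_mono isClosedImmersion_le_isIntegralHom hrc)
  have hπ : IsIntegralMor (r ≫ ν) :=
    isIntegralMor_iff_repWith.2 (MorphismProperty.comp_mem _ _ _
      (isIntegralMor_iff_repWith.1 hrint) (isIntegralMor_iff_repWith.1 hν))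
  obtain ⟨h, ⟨hh1, hh2⟩, -⟩ := huniv hR (r ≫ ν) g hπ (by rw [← Category.assoc, hg, hfac])
  obtain ⟨k, -, hkuniq⟩ := huniv hX' ν f' hν hfac
  have e1 : h ≫ r = k := hkuniq _ ⟨by rw [← Category.assoc, hh1, hg], by rw [Category.assoc, hh2]⟩
  have e2 : 𝟙 X' = k := hkuniq _ ⟨Category.comp_id _, Category.id_comp _⟩
  have hhr : h ≫ r = 𝟙 X' := e1.trans e2.symm
  haveI : Mono r := mono_of_repWith_isClosedImmersion hrc
  have hrh : r ≫ h = 𝟙 R := by
    rw [← cancel_mono r, Category.assoc, hhr, Category.comp_id, Category.id_comp]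
  exact isReducedSp_of_iso ⟨r, h, hrh, hhr⟩ hRred

end Groth.Agent.H7.RelNorm
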