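import Groth.Agent.Lib.Helper7.QFin15
import Mathlib

set_option autoImplicit false
universe u

open AlgebraicGeometry CategoryTheory Limits

namespace Groth.Agent.H7.RepLqf

open _root_.AlgSp Groth.Agent.H5.AlgSp Groth.Agent.H5.EtSrc Groth.Agent.H5.Descent
open Groth.Agent.H7.QFin Groth.Agent.H7.QFinSp

variable {S : Scheme.{u}}

instance : IsEtaleLocalSource (⊤ : MorphismProperty Scheme.{u}) := ⟨fun _ _ _ _ _ => trivial⟩

theorem lqf_lft_cancel {X Y Z : Scheme.{u}} (u : X ⟶ Y) (v : Y ⟶ Z)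
    (h : (@LocallyQuasiFinite ⊓ @LocallyOfFiniteType : MorphismProperty Scheme.{u}) (u ≫ v))
    (_ : (⊤ : MorphismProperty Scheme.{u}) v) :
    (@LocallyQuasiFinite ⊓ @LocallyOfFiniteType : MorphismProperty Scheme.{u}) u := by
  obtain ⟨h1, h2⟩ := h
  have : LocallyQuasiFinite (u ≫ v) := h1
  have : LocallyOfFiniteType (u ≫ v) := h2
  exact ⟨LocallyQuasiFinite.of_comp u v, locallyOfFiniteType_of_comp u v⟩

/-- an algebraic space with a pair of maps to schemes `X`, `T`, jointly monic, with the second locally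
quasi-finite, is a scheme. -/
theorem exists_iso_of_jointly_mono {W : Sp S} (hW : IsAlgSpace W) {X T : Over S}
    (a : W ⟶ (yon S).obj X) (b : W ⟶ (yon S).obj T)
    (hmono : ∀ {Z : Sp S} (x y : Z ⟶ W), x ≫ a = y ≫ a → x ≫ b = y ≫ b → x = y)
    (hl : LocP (@LocallyQuasiFinite ⊓ @LocallyOfFiniteType) b) :
    ∃ Z : Over S, Nonempty ((yon S).obj Z ≅ W) := by
  let m : W ⟶ (yon S).obj (X ⨯ T) := prod.lift a b ≫ (PreservesLimitPair.iso (yon S) X T).inv
  have hm1 : m ≫ (yon S).map prod.fst = a := by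
    simp only [m, Category.assoc, PreservesLimitPair.iso_inv_fst, prod.lift_fst]
  have hm2 : m ≫ (yon S).map prod.snd = b := by
    simp only [m, Category.assoc, PreservesLimitPair.iso_inv_snd, prod.lift_snd]
  haveI : Mono m := ⟨fun x y hxy => hmono x y
    (by rw [← hm1, ← Category.assoc, hxy, Category.assoc])
    (by rw [← hm2, ← Category.assoc, hxy, Category.assoc])⟩
  have hsep : IsSeparatedMor m := isSeparatedMor_of_mono m
  have hl' : LocP (@LocallyQuasiFinite ⊓ @LocallyOfFiniteType) m := by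
    refine locP_of_comp (Pc := ⊤) etale_le_lqf_lft (fun u v h h' => lqf_lft_cancel u v h h')
      (g := (yon S).map prod.snd) (IsAlgSpace.yon_obj T) (by rw [hm2]; exact hl) ?_
    exact (locP_yon_map_iff (P := ⊤) le_top _).2 trivial
  exact exists_iso_of_sepLQF hW m hsep hl'

theorem S10100_main (F : AlgSp.PSp S) (X : Over S)
    (p : (AlgSp.pyon S).obj X ⟶ F)
    (hp : AlgSp.RepBySpWith (AlgSp.LocP (@LocallyQuasiFinite ⊓ @LocallyOfFiniteType)) p) :
    (AlgSp.pyon S).relativelyRepresentable p := by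
  intro T g
  have sq := IsPullback.of_hasPullback p g
  obtain ⟨h, hA, hQ⟩ := hp g _ _ sq
  let W : Sp S := ⟨pullback p g, h⟩
  let a : W ⟶ (yon S).obj X := ObjectProperty.homMk (pullback.fst p g)
  let b : W ⟶ (yon S).obj T := ObjectProperty.homMk (pullback.snd p g)
  obtain ⟨Z, ⟨e⟩⟩ := exists_iso_of_jointly_mono hA a b (fun x y h1 h2 => by
    apply ObjectProperty.hom_ext
    apply sq.hom_ext
    · exact congrArg (fun k => k.hom) h1
    · exact congrArg (fun k => k.hom) h2) hQ
  obtain ⟨w, hw⟩ := (yon S).map_surjective (e.hom ≫ b)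
  refine ⟨Z, w, e.hom.hom ≫ pullback.fst p g, ?_⟩
  haveI : IsIso e.hom.hom := (inferInstance : IsIso ((sheafToPresheaf _ _).map e.hom))
  have sq' : IsPullback e.hom.hom ((pyon S).map w) (pullback.snd p g) (𝟙 _) :=
    IsPullback.of_horiz_isIso ⟨by
      rw [Category.comp_id]
      exact (congrArg (fun k => k.hom) hw).symm⟩
  have := sq'.paste_horiz sq
  rwa [Category.id_comp] at this

end Groth.Agent.H7.RepLqf
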