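import Groth.Agent.Lib.Helper7.RepLqf1
import Groth.Agent.Lib.Helper5.AlgSp.RepBySpCover
import Groth.Agent.Lib.Helper5.Descent.SepLQFLocal
import Groth.Agent.Lib.Helper5.AlgSp.FlatDescentMore
import Mathlib

set_option autoImplicit false
universe u

open AlgebraicGeometry CategoryTheory Limits

namespace Groth.Agent.H7.RepLqf

open _root_.AlgSp Groth.Agent.H5.AlgSp Groth.Agent.H5.EtSrc Groth.Agent.H5.Descent
open Groth.Agent.H7.QFin Groth.Agent.H7.QFinSp

variable {S : Scheme.{u}}

/-- A map of sheaves representable by algebraic spaces, separated and locally quasi-finite, is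
representable by schemes, with separated, locally quasi-finite base changes locally of finite type. -/
theorem repWith_of_repBySpWith_sepLQF {E F : Sp S} (a : E ⟶ F)
    (ha : RepBySpWith (IsSeparatedMor ⊓ LocP (@LocallyQuasiFinite ⊓ @LocallyOfFiniteType)) a.hom) :
    RepWith @IsSeparated a ∧ RepWith @LocallyQuasiFinite a ∧ RepWith @LocallyOfFiniteType a := by
  rw [repBySpWith_hom_iff] at ha
  have hrep : Representable a := by
    intro U ξ
    have sq := IsPullback.of_hasPullback a ξ
    obtain ⟨hA, hsep, hl⟩ := ha ξ _ _ sq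
    obtain ⟨W, ⟨e⟩⟩ := exists_iso_of_sepLQF hA (pullback.snd a ξ) hsep hl
    obtain ⟨w, hw⟩ := (yon S).map_surjective (e.hom ≫ pullback.snd a ξ)
    refine ⟨W, w, e.hom ≫ pullback.fst a ξ, ?_⟩
    have sq' : IsPullback e.hom ((yon S).map w) (pullback.snd a ξ) (𝟙 _) :=
      IsPullback.of_horiz_isIso ⟨by rw [hw, Category.comp_id]⟩
    have := sq'.paste_horiz sq
    rwa [Category.id_comp] at this
  have key : ∀ ⦃U V : Over S⦄ (g : (yon S).obj U ⟶ F) (fst : (yon S).obj V ⟶ E) (snd : V ⟶ U),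
      IsPullback fst ((yon S).map snd) a g →
        IsSeparated snd.left ∧ LocallyQuasiFinite snd.left ∧ LocallyOfFiniteType snd.left := by
    intro U V g fst snd sq
    obtain ⟨-, hsep, hl⟩ := ha g fst ((yon S).map snd) sq
    have h1 := (repWith_yon_map_iff @IsSeparated snd).1
      (repWith_isSeparated_of_isSeparatedMor (representable_yon_map snd) hsep)
    have h2 := (locP_yon_map_iff etale_le_lqf_lft snd).1 hl
    exact ⟨h1, h2.1, h2.2⟩
  exact ⟨⟨hrep, fun U V g fst snd sq => (key g fst snd sq).1⟩,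
    ⟨hrep, fun U V g fst snd sq => (key g fst snd sq).2.1⟩,
    ⟨hrep, fun U V g fst snd sq => (key g fst snd sq).2.2⟩⟩

theorem S10098_main (E F G H : AlgSp.Sp S)
    (a : E ⟶ F) (f : E ⟶ H) (g : F ⟶ G) (b : H ⟶ G) (sq : IsPullback a f g b)
    (hg : AlgSp.RepBySpWith (AlgSp.IsSurjectiveMor ⊓ AlgSp.LocP @Flat ⊓ AlgSp.LocP @LocallyOfFinitePresentation) g.hom)
    (ha : AlgSp.RepBySpWith
      (AlgSp.IsSeparatedMor ⊓ AlgSp.LocP (@LocallyQuasiFinite ⊓ @LocallyOfFiniteType)) a.hom) :
    AlgSp.RepWith @IsSeparated b ∧ AlgSp.RepWith (@LocallyQuasiFinite ⊓ @LocallyOfFiniteType) b := by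
  haveI : Sheaf.IsLocallySurjective g := epi_of_repBySpWith_fppf g hg
  obtain ⟨h1, h2, h3⟩ := repWith_of_repBySpWith_sepLQF a ha
  have hrep : Representable b :=
    representable_of_locallySurjective_baseChange_sepLQF sq.flip h1 h2 h3
  have r1 := repWith_of_locallySurjective_baseChange b hrep g f a sq.flip @IsSeparated h1
  have r2 := repWith_of_locallySurjective_baseChange b hrep g f a sq.flip @LocallyQuasiFinite h2
  have r3 := repWith_of_locallySurjective_baseChange b hrep g f a sq.flip @LocallyOfFiniteType h3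
  exact ⟨r1, ⟨hrep, fun U V ξ fst snd sqV =>
    ⟨r2.2 ξ fst snd sqV, r3.2 ξ fst snd sqV⟩⟩⟩

end Groth.Agent.H7.RepLqf
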