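import Mathlib
open CategoryTheory CategoryTheory.Limits AlgebraicGeometry Opposite
universe u
namespace Groth.Agent.H7.RetractRep

theorem main {S : Scheme.{u}} (Y : Over S) [IsSeparated Y.hom]
    (F : (Over S)ᵒᵖ ⥤ Type u) (f : yoneda.obj Y ⟶ F) (s : F ⟶ yoneda.obj Y) (hsf : s ≫ f = 𝟙 F) :
    ∃ (Z : Over S) (i : Z ⟶ Y), IsClosedImmersion i.left ∧
      ∃ e : F ≅ yoneda.obj Z, e.hom ≫ yoneda.map i = s := by
  -- the idempotent
  obtain ⟨ε, hε⟩ : ∃ ε : Y ⟶ Y, yoneda.map ε = f ≫ s := ⟨_, (yoneda.map_preimage (f ≫ s))⟩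
  let Z : Over S := equalizer (𝟙 Y) ε
  let i : Z ⟶ Y := equalizer.ι (𝟙 Y) ε
  have hi : i ≫ ε = i := by
    have := equalizer.condition (𝟙 Y) ε
    rw [Category.comp_id] at this
    exact this.symm
  refine ⟨Z, i, inferInstance, ?_⟩
  -- s lands in the equalizer
  have hsε : s ≫ yoneda.map ε = s := by
    rw [hε, ← Category.assoc, hsf, Category.id_comp]
  have hsε' : ∀ (T : (Over S)ᵒᵖ) (x : F.obj T), (s.app T x : T.unop ⟶ Y) ≫ ε = s.app T x := by
    intro T x
    have h1 : (s ≫ yoneda.map ε).app T = s.app T := congrArg (fun t => t.app T) hsε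
    have := ConcreteCategory.congr_hom h1 x
    exact this
  let lift : F ⟶ yoneda.obj Z :=
    { app := fun T => TypeCat.ofHom fun x =>
        equalizer.lift (f := 𝟙 Y) (g := ε) (s.app T x : T.unop ⟶ Y)
        (by rw [Category.comp_id, hsε' T x])
      naturality := by
        intro T T' g
        ext x
        apply equalizer.hom_ext
        have := NatTrans.naturality_apply s g x
        simp only [yoneda_obj_obj, yoneda_obj_map] at this
        simp [this] }
  have hlift : lift ≫ yoneda.map i = s := by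
    ext T x
    simp [lift, i]
  refine ⟨⟨lift, yoneda.map i ≫ f, ?_, ?_⟩, hlift⟩
  · rw [← Category.assoc, hlift, hsf]
  · haveI : Mono (yoneda.map i) := inferInstance
    rw [← cancel_mono (yoneda.map i), Category.assoc, Category.assoc, hlift, Category.id_comp,
      ← hε, ← Functor.map_comp, hi]

end Groth.Agent.H7.RetractRep
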