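import Groth.Agent.Lib.Helper7.SF1
import Groth.Agent.Lib.Helper5.SV.Classical
import Groth.Agent.Lib.Helper5.FunFld.Gaps
import Groth.Agent.Lib.Helper5.FunFld.AffFinite

/-! The complete linear system `|(n+g)P₀|` normalized at `P₀` (helper7). -/

set_option autoImplicit false

namespace Groth.Agent.H7.SF

open FunFld LocRes WithZero

variable {k K : Type*} [Field k] [IsAlgClosed k] [Field K] [Algebra k K]
  (hK : IsFunctionField k K)

include hK in
/-- Pole numbers `≥ 2g` are non-gaps. -/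
theorem exists_pole (P₀ : Place k K) (m : ℕ) (hm : 2 * genus k K ≤ m) :
    ∃ x ∈ L (Finsupp.single P₀ (m : ℤ) : Divisor k K), P₀.1 x = exp (m : ℤ) := by
  have hP := Place.deg_eq_one_of_isAlgClosed hK P₀
  rw [← not_isGap_iff]
  intro hgap
  rw [IsGap] at hgap
  rcases Nat.eq_zero_or_pos m with h0 | hpos
  · -- m = 0: L(0) ≠ L(-P)
    subst h0
    have h1 : (1 : K) ∈ L (Finsupp.single P₀ ((0 : ℕ) : ℤ) : Divisor k K) := by
      intro Q; simp
    rw [hgap] at h1
    have := h1 P₀
    rw [map_one, Finsupp.single_eq_same, ← exp_zero, exp_le_exp] at this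
    omega
  have h1 := ell_eq_of_large_deg hK (D := (Finsupp.single P₀ (m : ℤ) : Divisor k K)) (by
    rw [Divisor.deg_single, hP]; push_cast; omega)
  have h2 := ell_eq_of_large_deg hK (D := (Finsupp.single P₀ ((m : ℤ) - 1) : Divisor k K)) (by
    rw [Divisor.deg_single, hP]; push_cast; omega)
  rw [Divisor.deg_single, hP] at h1 h2
  have h3 : ell (Finsupp.single P₀ (m : ℤ) : Divisor k K) =
      ell (Finsupp.single P₀ ((m : ℤ) - 1) : Divisor k K) := by
    unfold ell; rw [hgap]
  rw [h3] at h1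
  push_cast at h1 h2
  omega

include hK in
/-- The complete linear system `|(n+g)P₀|`, normalized at `P₀`. -/
theorem exists_setup (P₀ : Place k K) (n : ℕ) (hn : genus k K < n) :
    ∃ φ : Fin (n + 1) → K, LinearIndependent k φ ∧
      (1 : K) ∈ Submodule.span k (Set.range φ) ∧ (∀ i, P₀.1 (φ i) ≤ 1) ∧
      (mapDiv k φ).deg ≤ (n : ℤ) + genus k K ∧
      ∀ j : ℕ, j + genus k K ≤ n → ∃ f ∈ Submodule.span k (Set.range φ),
        P₀.1 f = exp (-(j : ℤ)) := by
  classical
  have hP := Place.deg_eq_one_of_isAlgClosed hK P₀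
  set g := genus k K with hg
  set N : ℕ := n + g with hN
  set D : Divisor k K := Finsupp.single P₀ (N : ℤ) with hD
  have hfin : FiniteDimensional k (L D) := finiteDimensional_L hK D
  have hell : Module.finrank k (L D) = n + 1 := by
    have h1 := ell_eq_of_large_deg hK (D := D) (by
      rw [hD, Divisor.deg_single, hP]; push_cast; omega)
    rw [hD, Divisor.deg_single, hP] at h1
    have h2 : (ell D : ℤ) = (n : ℤ) + 1 := by
      rw [hD, h1, hN, ← hg]; push_cast; ring
    have h3 : ell D = n + 1 := by exact_mod_cast h2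
    exact h3
  let b : Module.Basis (Fin (n + 1)) k (L D) := Module.finBasisOfFinrankEq k (L D) hell
  set ψ : Fin (n + 1) → K := fun i => ((b i : L D) : K) with hψ
  have hψli : LinearIndependent k ψ :=
    b.linearIndependent.map' (L D).subtype (Submodule.ker_subtype _)
  have hψspan : Submodule.span k (Set.range ψ) = L D := by
    have : Set.range ψ = (L D).subtype '' Set.range b := by
      rw [← Set.range_comp]; rfl
    rw [this, ← Submodule.map_span, b.span_eq, Submodule.map_top, Submodule.range_subtype]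
  obtain ⟨x₀, hx₀L, hx₀v⟩ := exists_pole hK P₀ N (by omega)
  have hx₀ : x₀ ≠ 0 := by
    rintro rfl
    rw [map_zero] at hx₀v
    exact exp_ne_zero hx₀v.symm
  set φ : Fin (n + 1) → K := fun i => x₀⁻¹ * ψ i with hφ
  have hmul : ∀ S : Set K, Submodule.span k ((fun y => x₀⁻¹ * y) '' S) =
      (Submodule.span k S).map (LinearMap.mulLeft k x₀⁻¹) := by
    intro S
    rw [Submodule.map_span]; rfl
  have hφspan : Submodule.span k (Set.range φ) =
      (L D).map (LinearMap.mulLeft k x₀⁻¹) := by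
    have : Set.range φ = (fun y => x₀⁻¹ * y) '' Set.range ψ := by
      rw [← Set.range_comp]; rfl
    rw [this, hmul, hψspan]
  have hmem : ∀ y ∈ L D, x₀⁻¹ * y ∈ Submodule.span k (Set.range φ) := by
    intro y hy
    rw [hφspan]
    exact ⟨y, hy, rfl⟩
  have hφli : LinearIndependent k φ := by
    refine hψli.map' (LinearMap.mulLeft k x₀⁻¹) ?_
    rw [LinearMap.ker_eq_bot]
    intro a b hab
    exact mul_left_cancel₀ (inv_ne_zero hx₀) hab
  have hψL : ∀ i, ψ i ∈ L D := fun i => (b i).2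
  have hv0 : P₀.1 x₀⁻¹ = exp (-(N : ℤ)) := by
    rw [map_inv₀, hx₀v, ← exp_neg]
  refine ⟨φ, hφli, ?_, ?_, ?_, ?_⟩
  · have := hmem x₀ hx₀L
    rwa [inv_mul_cancel₀ hx₀] at this
  · intro i
    rw [hφ]
    simp only
    rw [map_mul, hv0]
    have := hψL i P₀
    rw [hD, Finsupp.single_eq_same] at this
    calc exp (-(N : ℤ)) * P₀.1 (ψ i) ≤ exp (-(N : ℤ)) * exp (N : ℤ) := mul_le_mul_right this _
      _ = 1 := by rw [← exp_add]; simp
  · have hle : mapDiv k φ ≤ D + div k x₀ := by
      intro Q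
      rw [mapDiv_apply hK, Finsupp.add_apply, div_apply hK]
      obtain ⟨i, hi⟩ := exists_minOrd_eq φ Q
      rw [hi]
      have hψi : ψ i ≠ 0 := hψli.ne_zero i
      rw [hφ]
      simp only
      rw [Q.ord_mul (inv_ne_zero hx₀) hψi, Q.ord_inv]
      have := (Q.v_le_exp_iff hψi).1 (hψL i Q)
      linarith
    have := Divisor.deg_mono hle
    rw [Divisor.deg_add, deg_div hK, hD, Divisor.deg_single, hP] at this
    rw [hN] at this
    push_cast at this
    linarith
  · intro j hj
    obtain ⟨xm, hxmL, hxmv⟩ := exists_pole hK P₀ (N - j) (by omega)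
    have hxmD : xm ∈ L D := by
      refine L_single_mono (k := k) P₀ ?_ hxmL
      push_cast
      omega
    refine ⟨x₀⁻¹ * xm, hmem xm hxmD, ?_⟩
    rw [map_mul, hv0, hxmv, ← exp_add]
    congr 1
    have : j ≤ N := by omega
    push_cast [Nat.cast_sub this]
    ring

section comb

lemma succ_le_of_strictMono {n : ℕ} {J : Fin n → ℕ} (hJ : StrictMono J) (h1 : ∀ l, 1 ≤ J l) :
    ∀ (i : ℕ) (h : i < n), i + 1 ≤ J ⟨i, h⟩ := by
  intro i
  induction i with
  | zero => intro h; exact h1 _
  | succ i ih =>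
    intro h
    have h2 := ih (by omega)
    have h3 : J ⟨i, by omega⟩ < J ⟨i + 1, h⟩ := hJ (Fin.mk_lt_mk.2 (Nat.lt_succ_self i))
    omega

lemma le_of_strictMono {n : ℕ} {J : Fin n → ℕ} (hJ : StrictMono J) :
    ∀ (i : ℕ) (h : i < n), i ≤ J ⟨i, h⟩ := by
  intro i
  induction i with
  | zero => intro h; exact Nat.zero_le _
  | succ i ih =>
    intro h
    have h2 := ih (by omega)
    have h3 : J ⟨i, by omega⟩ < J ⟨i + 1, h⟩ := hJ (Fin.mk_lt_mk.2 (Nat.lt_succ_self i))
    omega

lemma add_le_of_strictMono {n : ℕ} {J : Fin n → ℕ} (hJ : StrictMono J) (i : ℕ) :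
    ∀ (d : ℕ) (h : i + d < n), J ⟨i, by omega⟩ + d ≤ J ⟨i + d, h⟩ := by
  intro d
  induction d with
  | zero => intro h; exact le_rfl
  | succ d ih =>
    intro h
    have h2 := ih (by omega)
    have h3 : J ⟨i + d, by omega⟩ < J ⟨i + (d + 1), h⟩ :=
      hJ (Fin.mk_lt_mk.2 (by omega))
    omega

lemma two_mul_sum_succ (n : ℕ) : 2 * ∑ i ∈ Finset.range n, (i + 1) = n * (n + 1) := by
  induction n with
  | zero => simp
  | succ n ih => rw [Finset.sum_range_succ, mul_add, ih]; ring

lemma two_mul_sum_id (n : ℕ) : 2 * ∑ i ∈ Finset.range n, i + n = n * n := by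
  induction n with
  | zero => simp
  | succ n ih => rw [Finset.sum_range_succ, mul_add]; linarith [ih]

lemma card_filter_top {n g : ℕ} (hg : g ≤ n) :
    ((Finset.range n).filter (fun i => n ≤ i + g)).card = g := by
  have : (Finset.range n).filter (fun i => n ≤ i + g) = Finset.Ico (n - g) n := by
    ext i
    simp only [Finset.mem_filter, Finset.mem_range, Finset.mem_Ico]
    omega
  rw [this, Nat.card_Ico]
  omega

/-- The orders at `P₀` of `|(n+g)P₀|` sum to at most `n(n+1)/2 + g²`. -/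
theorem sum_orders_le {n g : ℕ} (hg : g ≤ n) {J' : Fin n → ℕ} (hJ' : StrictMono J')
    (h1 : ∀ l, 1 ≤ J' l) (hN : ∀ l, J' l ≤ n + g)
    (hsmall : ∀ j, 1 ≤ j → j + g ≤ n → j ∈ Set.range J') :
    2 * ∑ l, J' l ≤ n * (n + 1) + 2 * (g * g) := by
  have hlow := succ_le_of_strictMono hJ' h1
  have hsm : ∀ (i : ℕ) (h : i < n), i + 1 + g ≤ n → J' ⟨i, h⟩ = i + 1 := by
    intro i
    induction i using Nat.strong_induction_on with
    | _ i ih =>
      intro h hi
      obtain ⟨m, hm⟩ := hsmall (i + 1) (by omega) hi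
      have h2 := hlow m.1 m.2
      have h3 : (m : ℕ) ≤ i := by
        have : J' ⟨m.1, m.2⟩ = i + 1 := hm
        omega
      rcases Nat.lt_or_ge (m : ℕ) i with hlt | hge
      · exfalso
        have := ih m.1 hlt m.2 (by omega)
        have h4 : J' ⟨m.1, m.2⟩ = i + 1 := hm
        omega
      · have hmi : m = ⟨i, h⟩ := Fin.ext (by simp; omega)
        rw [← hmi, hm]
  have hterm : ∀ l : Fin n, J' l ≤ (l : ℕ) + 1 + (if n ≤ (l : ℕ) + g then g else 0) := by
    intro l
    split_ifs with hl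
    · have h2 := add_le_of_strictMono hJ' l.1 (n - 1 - l.1) (by omega)
      have h3 := hN ⟨l.1 + (n - 1 - l.1), by omega⟩
      have : J' ⟨l.1, l.2⟩ = J' l := rfl
      omega
    · have := hsm l.1 l.2 (by omega)
      have h2 : J' ⟨l.1, l.2⟩ = J' l := rfl
      omega
  have hsum : ∑ l, J' l ≤ ∑ l : Fin n, ((l : ℕ) + 1 + (if n ≤ (l : ℕ) + g then g else 0)) :=
    Finset.sum_le_sum (fun l _ => hterm l)
  have h2 : ∑ l : Fin n, ((l : ℕ) + 1 + (if n ≤ (l : ℕ) + g then g else 0)) =
      ∑ i ∈ Finset.range n, (i + 1 + (if n ≤ i + g then g else 0)) :=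
    Fin.sum_univ_eq_sum_range (fun i => i + 1 + (if n ≤ i + g then g else 0)) n
  rw [h2, Finset.sum_add_distrib] at hsum
  have h3 : ∑ i ∈ Finset.range n, (if n ≤ i + g then g else 0) = g * g := by
    rw [← Finset.sum_filter, Finset.sum_const, card_filter_top hg, smul_eq_mul]
  rw [h3] at hsum
  have h4 := two_mul_sum_succ n
  omega

/-- strictly increasing sequences have sum at least `n(n-1)/2`. -/
theorem sum_ge_of_strictMono {n : ℕ} {J : Fin n → ℕ} (hJ : StrictMono J) :
    n * n ≤ 2 * ∑ l, J l + n := by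
  have hterm : ∀ l : Fin n, (l : ℕ) ≤ J l := fun l => le_of_strictMono hJ l.1 l.2
  have hsum : ∑ l : Fin n, (l : ℕ) ≤ ∑ l, J l := Finset.sum_le_sum (fun l _ => hterm l)
  have h2 : ∑ l : Fin n, (l : ℕ) = ∑ i ∈ Finset.range n, i :=
    Fin.sum_univ_eq_sum_range (fun i => i) n
  rw [h2] at hsum
  have h3 := two_mul_sum_id n
  omega

end comb

end Groth.Agent.H7.SF
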