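import Groth.Agent.Lib.Helper7.SF2
import Groth.Agent.S12600
import Groth.Agent.S12604
import Groth.Agent.S12606

/-! The bound for the number of strong fixed points of an endomorphism (helper7). -/

set_option autoImplicit false

namespace Groth.Agent.H7.SF

open FunFld LocRes WithZero

variable {k K : Type*} [Field k] [IsAlgClosed k] [Field K] [Algebra k K]
  (hK : IsFunctionField k K)

include hK in
theorem strongFixed_bound_int (τ : K →ₐ[k] K) (n : ℕ) (hn : genus k K < n)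
    (hex : ∃ P₀ : Place k K, IsStrongFixedPt τ P₀) :
    {P : Place k K | IsStrongFixedPt τ P}.Finite ∧
    (n : ℤ) * (Set.ncard {P : Place k K | IsStrongFixedPt τ P} : ℤ) ≤
      ((n : ℤ) + Module.finrank τ.fieldRange K) * ((n : ℤ) + genus k K) +
        ((genus k K : ℤ) - 1) * ((n : ℤ) * ((n : ℤ) - 1) + 2 * ((genus k K : ℤ) * genus k K)) := by
  classical
  obtain ⟨P₀, hP₀⟩ := hex
  have hP := Place.deg_eq_one_of_isAlgClosed hK P₀
  obtain ⟨s, Hs, hHs⟩ := exists_isHasseFamily hK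
  obtain ⟨t, Ht, ht, hHt⟩ := SV.exists_param_hasseFamily hHs P₀
  obtain ⟨φ, hφ, heff, hnorm, hdeg, hsmallf⟩ := exists_setup hK P₀ n hn
  have hn0 : 0 < n := by omega
  -- `τ φ` is not a multiple of `φ`
  have hτφ : ¬ ∃ y : K, ∀ i, τ (φ i) = y * φ i := by
    rintro ⟨y, hy⟩
    have hall : ∀ f ∈ Submodule.span k (Set.range φ), τ f = y * f := by
      intro f hf
      induction hf using Submodule.span_induction with
      | mem x hx => obtain ⟨i, rfl⟩ := hx; exact hy i
      | zero => simp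
      | add a b _ _ ha hb => rw [map_add, ha, hb, mul_add]
      | smul c a _ ha => rw [map_smul, ha, mul_smul_comm]
    have hy1 : y = 1 := by
      have := hall 1 heff
      rw [map_one, mul_one] at this
      exact this.symm
    obtain ⟨f₁, hf₁, hvf₁⟩ := hsmallf 1 (by omega)
    have h1 : P₀.1 f₁ < 1 := by
      rw [hvf₁, ← exp_zero, exp_lt_exp]; norm_num
    have h2 := hP₀ f₁ h1
    rw [hall f₁ hf₁, hy1, one_mul, hvf₁, exp_le_exp] at h2
    norm_num at h2
  obtain ⟨J, hJ, -⟩ := Groth.Agent.S12600.result k K hK φ hφ τ t Ht hHt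
  obtain ⟨J', hJ'⟩ := SV.exists_isOrdersAt hK ht hHt hφ heff hnorm
  obtain ⟨hfin, h604⟩ := Groth.Agent.S12604.result k K hK τ φ hφ hτφ t Ht hHt J hJ
  have h606 := Groth.Agent.S12606.result k K hK τ P₀ hP₀ hn0 φ hφ heff hnorm hτφ t ht Ht hHt J hJ
    J' hJ'
  refine ⟨hfin, ?_⟩
  -- facts on `J'`
  have hJ'1 : ∀ l, 1 ≤ J' l := by
    intro l
    have := ((SV.mem_range_orders_iff hK hP ht hHt hnorm hJ' (J' l)).1 ⟨l, rfl⟩).1
    omega
  have hJ'N : ∀ l, J' l ≤ n + genus k K := by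
    intro l
    have := SV.ordersAt_le_deg hK ht hHt hφ heff hnorm hJ' l
    have h2 : (J' l : ℤ) ≤ (n : ℤ) + genus k K := this.trans hdeg
    exact_mod_cast h2
  have hsmall : ∀ j, 1 ≤ j → j + genus k K ≤ n → j ∈ Set.range J' := by
    intro j hj1 hj
    rw [SV.mem_range_orders_iff hK hP ht hHt hnorm hJ' j]
    exact ⟨by omega, hsmallf j hj⟩
  have hS' := sum_orders_le (le_of_lt hn) hJ'.1 hJ'1 hJ'N hsmall
  have hSJ : ∑ l, J l + n ≤ ∑ l, J' l := by
    have h1 : ∀ l, J l + 1 ≤ J' l := by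
      intro l
      have := h606 l
      have h0 := hJ'1 ⟨0, hn0⟩
      omega
    have := Finset.sum_le_sum (fun l (_ : l ∈ Finset.univ) => h1 l)
    rw [Finset.sum_add_distrib] at this
    simpa using this
  have hSge := sum_ge_of_strictMono hJ.1
  -- cast to integers
  set g : ℤ := (genus k K : ℤ) with hg
  set d : ℤ := (Module.finrank τ.fieldRange K : ℤ) with hd
  set SJ : ℤ := ∑ l, (J l : ℤ) with hSJdef
  have hSJcast : ((∑ l, J l : ℕ) : ℤ) = SJ := by push_cast; rfl
  have e1 : 2 * SJ ≤ (n : ℤ) * ((n : ℤ) - 1) + 2 * (g * g) := by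
    have h1 : (2 * (∑ l, J l) + 2 * n : ℕ) ≤ n * (n + 1) + 2 * (genus k K * genus k K) := by
      omega
    have h2 : ((2 * (∑ l, J l) + 2 * n : ℕ) : ℤ) ≤
        ((n * (n + 1) + 2 * (genus k K * genus k K) : ℕ) : ℤ) := by exact_mod_cast h1
    push_cast at h2
    rw [← hSJdef] at h2
    linarith
  have e2 : (n : ℤ) * ((n : ℤ) - 1) ≤ 2 * SJ := by
    have h2 : ((n * n : ℕ) : ℤ) ≤ ((2 * (∑ l, J l) + n : ℕ) : ℤ) := by exact_mod_cast hSge
    push_cast at h2
    rw [← hSJdef] at h2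
    linarith
  have hg0 : 0 ≤ g := Int.natCast_nonneg _
  have hd0 : 0 ≤ d := Int.natCast_nonneg _
  have hn' : (0 : ℤ) ≤ n := Int.natCast_nonneg _
  have e3 : ((n : ℤ) + d) * (mapDiv k φ).deg ≤ ((n : ℤ) + d) * ((n : ℤ) + g) :=
    mul_le_mul_of_nonneg_left hdeg (by linarith)
  have e4 : (2 * g - 2) * SJ ≤ (g - 1) * ((n : ℤ) * ((n : ℤ) - 1) + 2 * (g * g)) := by
    rcases eq_or_lt_of_le hg0 with h0 | hpos
    · rw [← h0]
      linarith
    · have h1 : 0 ≤ g - 1 := by omega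
      have := mul_le_mul_of_nonneg_left e1 h1
      linarith
  linarith

end Groth.Agent.H7.SF
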