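import Mathlib
import Groth.Prelude.Def_EtShriek2
import Groth.Agent.Lib.Helper7.SHB

/-!
# Helper7: SHC — the composition isomorphism `(h ≫ g)_! ≅ h_! ⋙ g_!` is pinned by compatibility
with the inclusions into direct images (S12103)
-/

set_option autoImplicit false

universe u

open CategoryTheory CategoryTheory.Limits Opposite AlgebraicGeometry MorphismProperty

namespace Groth.Agent.H7.SH

open EtShriek Groth.Agent.H1 Groth.Agent.H7.ShrSheaf Groth.Agent.H7.EZ

section One

variable {X Y : Scheme.{u}} (f : X ⟶ Y) [LocallyOfFiniteType f]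

lemma shrIso_inv_app_hom (F : EtCoh.Ab X) :
    ((shrIso f).inv.app F).hom = toSheafify Y.smallEtaleTopology (lowerShriekPre f F) := by
  simp [shrIso]
  rfl

lemma shrIso_inv_app_comp_lowerShriekToPush (F : EtCoh.Ab X) :
    (shrIso f).inv.app F ≫ lowerShriekToPush f F = (shrToPush f).app F := by
  apply Sheaf.hom_ext
  rw [ObjectProperty.FullSubcategory.comp_hom, shrIso_inv_app_hom]
  exact toSheafify_sheafifyLift _ _ _

lemma lowerShriekToPush_eq (F : EtCoh.Ab X) :
    lowerShriekToPush f F = (shrIso f).hom.app F ≫ (shrToPush f).app F := by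
  rw [← shrIso_inv_app_comp_lowerShriekToPush, ← Category.assoc, ← NatTrans.comp_app,
    Iso.hom_inv_id, NatTrans.id_app, Category.id_comp]

instance mono_shrToPush_app (F : EtCoh.Ab X) : Mono ((shrToPush f).app F) := by
  haveI : Mono ((shrToPush f).app F).hom := by
    change Mono (lowerShriekPreι f F)
    haveI : ∀ W, Mono ((lowerShriekPreι f F).app W) := by
      intro W
      exact ConcreteCategory.mono_of_injective _ Subtype.val_injective
    exact NatTrans.mono_of_mono_app _
  exact Sheaf.Hom.mono_of_presheaf_mono _ _ _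

/-- `f_!` of a morphism injective on sections is a monomorphism -/
lemma mono_shr_map {F G : EtCoh.Ab X} (m : F ⟶ G)
    (hm : ∀ U : X.Etale, Function.Injective (m.hom.app (op U))) : Mono ((shr f).map m) := by
  haveI : Mono ((shr f).map m).hom := by
    haveI : ∀ W, Mono (((shr f).map m).hom.app W) := by
      intro W
      refine ConcreteCategory.mono_of_injective _ ?_
      intro a b hab
      apply Subtype.ext
      apply hm
      exact congrArg Subtype.val hab
    exact NatTrans.mono_of_mono_app _
  exact Sheaf.Hom.mono_of_presheaf_mono _ _ _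

end One

section Two

variable {X Y Z : Scheme.{u}} (h : X ⟶ Y) (g : Y ⟶ Z)
  [IsSeparated h] [LocallyOfFiniteType h] [IsSeparated g] [LocallyOfFiniteType g]

/-- the inclusion `g_! h_! F ⟶ g_* h_* F` for the honest functors -/
noncomputable def incl2 (F : EtCoh.Ab X) :
    (shr g).obj ((shr h).obj F) ⟶ (EtCoh.push g).obj ((EtCoh.push h).obj F) :=
  (shr g).map ((shrToPush h).app F) ≫ (shrToPush g).app ((EtCoh.push h).obj F)

instance mono_incl2 (F : EtCoh.Ab X) : Mono (incl2 h g F) := by
  haveI : Mono ((shr g).map ((shrToPush h).app F)) :=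
    mono_shr_map g _ (fun U => Subtype.val_injective)
  exact mono_comp _ _

set_option backward.isDefEq.respectTransparency false in
lemma compHom_incl2 (F : EtCoh.Ab X) :
    (compHom h g).app F ≫ incl2 h g F =
      (shrToPush (h ≫ g)).app F ≫ (EtCoh.pushComp g h).inv.app F := by
  apply Sheaf.hom_ext
  ext W ⟨s, hs⟩
  rfl

/-- the pinned inclusion decomposes through the honest one -/
lemma pinned_eq (F : EtCoh.Ab X) :
    (lowerShriek g).map (lowerShriekToPush h F) ≫
        lowerShriekToPush g ((EtCoh.push h).obj F) =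
      (lowerShriek g).map ((shrIso h).hom.app F) ≫ (shrIso g).hom.app ((shr h).obj F) ≫
        incl2 h g F := by
  rw [lowerShriekToPush_eq h F, lowerShriekToPush_eq g, Functor.map_comp, Category.assoc, incl2]
  congr 1
  rw [← Category.assoc, ← Category.assoc]
  congr 1
  exact (shrIso g).hom.naturality ((shrToPush h).app F)

instance mono_pinned (F : EtCoh.Ab X) :
    Mono ((lowerShriek g).map (lowerShriekToPush h F) ≫
        lowerShriekToPush g ((EtCoh.push h).obj F)) := by
  rw [pinned_eq]
  haveI : Mono ((shrIso g).hom.app ((shr h).obj F) ≫ incl2 h g F) := mono_comp _ _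
  exact mono_comp _ _

lemma lowerShriekComp_hom_app (F : EtCoh.Ab X) :
    (lowerShriekComp h g).hom.app F =
      (shrIso (h ≫ g)).hom.app F ≫ (compHom h g).app F ≫
        (shrIso g).inv.app ((shr h).obj F) ≫ (lowerShriek g).map ((shrIso h).inv.app F) := by
  simp [lowerShriekComp, shrComp]

lemma lowerShriekComp_pinned (F : EtCoh.Ab X) :
    (lowerShriekComp h g).hom.app F ≫ (lowerShriek g).map (lowerShriekToPush h F) ≫
        lowerShriekToPush g ((EtCoh.push h).obj F) =
      lowerShriekToPush (h ≫ g) F ≫ (EtCoh.pushComp g h).inv.app F := by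
  rw [pinned_eq, lowerShriekComp_hom_app, lowerShriekToPush_eq (h ≫ g) F]
  simp only [Category.assoc]
  congr 1
  rw [← compHom_incl2]
  congr 1
  have e1 : (lowerShriek g).map ((shrIso h).inv.app F) ≫
      (lowerShriek g).map ((shrIso h).hom.app F) = 𝟙 _ := by
    rw [← CategoryTheory.Functor.map_comp, ← NatTrans.comp_app, Iso.inv_hom_id, NatTrans.id_app,
      CategoryTheory.Functor.map_id]
  have e2 : (shrIso g).inv.app ((shr h).obj F) ≫ (shrIso g).hom.app ((shr h).obj F) = 𝟙 _ := by
    rw [← NatTrans.comp_app, Iso.inv_hom_id, NatTrans.id_app]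
  calc _ = (shrIso g).inv.app ((shr h).obj F) ≫ ((lowerShriek g).map ((shrIso h).inv.app F) ≫
        (lowerShriek g).map ((shrIso h).hom.app F)) ≫ (shrIso g).hom.app ((shr h).obj F) ≫
          incl2 h g F := by simp only [Category.assoc]
    _ = _ := by rw [e1, Category.id_comp, ← Category.assoc, e2, Category.id_comp]

theorem S12103_main :
    ∃! φ : lowerShriek (h ≫ g) ≅ lowerShriek h ⋙ lowerShriek g,
      ∀ F : EtCoh.Ab X,
        φ.hom.app F ≫ (lowerShriek g).map (lowerShriekToPush h F) ≫
            lowerShriekToPush g ((EtCoh.push h).obj F) =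
          lowerShriekToPush (h ≫ g) F ≫ (EtCoh.pushComp g h).inv.app F := by
  refine ⟨lowerShriekComp h g, lowerShriekComp_pinned h g, ?_⟩
  intro φ hφ
  apply Iso.ext
  apply NatTrans.ext
  funext F
  rw [← cancel_mono ((lowerShriek g).map (lowerShriekToPush h F) ≫
    lowerShriekToPush g ((EtCoh.push h).obj F))]
  rw [hφ F, lowerShriekComp_pinned h g F]

end Two

end Groth.Agent.H7.SH
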