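import Mathlib
import Groth.Prelude.Def_EtShriek2
import Groth.Prelude.Def_EtCore
import Groth.Agent.Lib.Helper7.SHB

/-!
# Helper7: SHD — sections with compact support as global sections of `j_!` on a compactification
(S0687)
-/

set_option autoImplicit false

universe u

open CategoryTheory CategoryTheory.Limits Opposite AlgebraicGeometry MorphismProperty

namespace Groth.Agent.H7.SH

open EtShriek Groth.Agent.H1 Groth.Agent.H7.ShrSheaf Groth.Agent.H7.EZ

section Transfer

variable {X S : Scheme.{u}} (F : EtCoh.Ab X)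

set_option backward.isDefEq.respectTransparency false in
/-- proper support transfers along an isomorphism of the small étale site -/
lemma hasProperSupport_map_iso {U U' : X.Etale} (a : U' ≅ U) (g : U.left ⟶ S)
    [LocallyOfFiniteType g] (s : EtCoh.sect F U) (hs : HasProperSupport F U s g) :
    HasProperSupport F U' (F.obj.map a.hom.op s) (a.hom.left ≫ g) := by
  obtain ⟨Z, hZ, hp⟩ := hs
  haveI : IsIso a.hom.left :=
    inferInstanceAs (IsIso ((MorphismProperty.Over.forget _ _ _ ⋙
      CategoryTheory.Over.forget _).map a.hom))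
  refine ⟨a.hom.left ⁻¹' Z, (sectSupp_map_subset_preimage F _ s).trans (Set.preimage_mono hZ), ?_⟩
  exact isProperOver_preimage_of_isProper (a.hom.left ≫ g) g a.hom.left rfl Z hp

end Transfer

section H0c

variable {k : Type u} [Field k] {X : Scheme.{u}} (p : X ⟶ Spec (CommRingCat.of k))
  [LocallyOfFiniteType p] (F : EtCoh.Ab X)

lemma mem_H0c_iff (s : EtCoh.sect F (EtCoh.top X)) :
    s ∈ H0c p F ↔ HasProperSupport F (EtCoh.top X) s p := by
  constructor
  · intro hs
    induction hs using AddSubgroup.closure_induction with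
    | mem x hx => exact hx
    | zero => exact ⟨∅, by rw [sectSupp_zero], isProperOver_empty p⟩
    | add x y _ _ hx hy =>
      obtain ⟨Z, hZ, hp⟩ := hx
      obtain ⟨Z', hZ', hp'⟩ := hy
      exact ⟨Z ∪ Z', (sectSupp_add_subset F _ _ _).trans (Set.union_subset_union hZ hZ'),
        isProperOver_union p hp hp'⟩
    | neg x _ hx =>
      obtain ⟨Z, hZ, hp⟩ := hx
      exact ⟨Z, by rwa [sectSupp_neg], hp⟩
  · intro hs
    exact AddSubgroup.subset_closure hs

set_option backward.isDefEq.respectTransparency false in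
lemma bcTopIso_hom_left_comp :
    (EtCore.bcTopIso p).hom.left ≫ p = prV p (EtCoh.top (Spec (CommRingCat.of k))) := by
  have h1 : (EtCore.bcTopIso p).hom.left = pullback.snd (𝟙 _) p := by
    have h0 : (EtCore.bcTopIso p).hom.left ≫ 𝟙 X = pullback.snd (𝟙 _) p :=
      MorphismProperty.Over.w (EtCore.bcTopIso p).hom
    exact (Category.comp_id _).symm.trans h0
  rw [h1]
  have := pullback.condition (f := 𝟙 (Spec (CommRingCat.of k))) (g := p)
  rw [Category.comp_id] at this
  exact this.symm

set_option backward.isDefEq.respectTransparency false in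
lemma mem_H0c_iff_mem_shriekSubgroup
    (s : EtCoh.sect F ((EtCoh.bc p).obj (EtCoh.top (Spec (CommRingCat.of k))))) :
    F.obj.map (EtCore.bcTopIso p).inv.op s ∈ H0c p F ↔
      s ∈ shriekSubgroup p F (EtCoh.top (Spec (CommRingCat.of k))) := by
  rw [mem_H0c_iff, mem_shriekSubgroup_iff']
  constructor
  · intro h
    have := hasProperSupport_map_iso F (EtCore.bcTopIso p) p _ h
    rw [bcTopIso_hom_left_comp, map_map_apply, Iso.hom_inv_id] at this
    simpa using this
  · intro h
    have := hasProperSupport_map_iso F (EtCore.bcTopIso p).symm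
      (prV p (EtCoh.top (Spec (CommRingCat.of k)))) _ h
    rw [← bcTopIso_hom_left_comp, ← Category.assoc] at this
    have e : (EtCore.bcTopIso p).symm.hom.left ≫ (EtCore.bcTopIso p).hom.left = 𝟙 _ := by
      change ((EtCore.bcTopIso p).inv ≫ (EtCore.bcTopIso p).hom).left = _
      rw [Iso.inv_hom_id]
      rfl
    rw [e, Category.id_comp] at this
    exact this

set_option backward.isDefEq.respectTransparency false in
/-- sections with compact support are the sections over the base of the honest `p_!` -/
noncomputable def H0cEquiv :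
    shriekSubgroup p F (EtCoh.top (Spec (CommRingCat.of k))) ≃+ H0c p F where
  toFun s := ⟨F.obj.map (EtCore.bcTopIso p).inv.op s.1,
    (mem_H0c_iff_mem_shriekSubgroup p F s.1).mpr s.2⟩
  invFun t := ⟨F.obj.map (EtCore.bcTopIso p).hom.op t.1, by
    rw [← mem_H0c_iff_mem_shriekSubgroup, map_map_apply, Iso.inv_hom_id]
    simpa using t.2⟩
  left_inv s := by
    apply Subtype.ext
    change F.obj.map (EtCore.bcTopIso p).hom.op (F.obj.map (EtCore.bcTopIso p).inv.op s.1) = s.1
    rw [map_map_apply, Iso.hom_inv_id]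
    simp
  right_inv t := by
    apply Subtype.ext
    change F.obj.map (EtCore.bcTopIso p).inv.op (F.obj.map (EtCore.bcTopIso p).hom.op t.1) = t.1
    rw [map_map_apply, Iso.inv_hom_id]
    simp
  map_add' a b := by
    apply Subtype.ext
    exact map_add _ _ _

end H0c

section Main

theorem S0687_main {k : Type u} [Field k] {X Xb : Scheme.{u}} (j : X ⟶ Xb)
    [IsOpenImmersion j] (pb : Xb ⟶ Spec (CommRingCat.of k)) [IsProper pb]
    (p : X ⟶ Spec (CommRingCat.of k)) (hp : p = j ≫ pb) [IsSeparated p] [LocallyOfFiniteType p]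
    [EtShriek.JCont j] (F : EtCoh.Ab X) :
    Nonempty ((EtShriek.H0c p F) ≃+ EtCoh.sect ((EtShriek.extZero j).obj F) (EtCoh.top Xb)) := by
  obtain ⟨e⟩ := S0686_main j pb p hp
  let S := Spec (CommRingCat.of k)
  -- sections over the base
  let e1 : ((shr p).obj F).obj.obj (op (EtCoh.top S)) ≅
      ((lowerShriek p).obj F).obj.obj (op (EtCoh.top S)) :=
    ((sheafSections _ _).obj (op (EtCoh.top S))).mapIso ((shrIso p).symm.app F)
  let e2 : ((lowerShriek p).obj F).obj.obj (op (EtCoh.top S)) ≅
      ((EtShriek.extZero j).obj F).obj.obj (op ((EtCoh.bc pb).obj (EtCoh.top S))) :=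
    ((sheafSections _ _).obj (op (EtCoh.top S))).mapIso (e.app F)
  let e3 : ((EtShriek.extZero j).obj F).obj.obj (op ((EtCoh.bc pb).obj (EtCoh.top S))) ≅
      ((EtShriek.extZero j).obj F).obj.obj (op (EtCoh.top Xb)) :=
    ((EtShriek.extZero j).obj F).obj.mapIso (EtCore.bcTopIso pb).op.symm
  exact ⟨(H0cEquiv p F).symm.trans (e1 ≪≫ e2 ≪≫ e3).addCommGroupIsoToAddEquiv⟩

end Main

end Groth.Agent.H7.SH
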