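import Mathlib
import Groth.Prelude.Def_EtShriek2
import Groth.Agent.Lib.Helper7.ShrSheaf
import Groth.Agent.Lib.Helper7.EZD

/-!
# Helper7: SHE — sections of a coproduct of abelian étale sheaves are locally finite sums
-/

set_option autoImplicit false

universe u

open CategoryTheory CategoryTheory.Limits Opposite AlgebraicGeometry MorphismProperty

namespace Groth.Agent.H7.SH

open Groth.Agent.H7.ShrSheaf Groth.Agent.H7.EZ

section Sub

variable {X : Scheme.{u}}

/-- sub-presheaf given by restriction-stable subgroups -/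
noncomputable def subPre (T : X.Etaleᵒᵖ ⥤ AddCommGrpCat.{u + 1})
    (S : ∀ U : X.Etale, AddSubgroup (T.obj (op U)))
    (hS : ∀ {U U' : X.Etale} (g : U' ⟶ U) (s : T.obj (op U)), s ∈ S U → T.map g.op s ∈ S U') :
    X.Etaleᵒᵖ ⥤ AddCommGrpCat.{u + 1} where
  obj U := AddCommGrpCat.of (S U.unop)
  map {U U'} g := AddCommGrpCat.ofHom
    (((T.map g).hom.comp (S U.unop).subtype).codRestrict (S U'.unop)
      (fun s => hS g.unop s.1 s.2))
  map_id U := by
    ext ⟨s, hs⟩
    simp
  map_comp φ ψ := by
    ext ⟨s, hs⟩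
    simp

/-- inclusion of the sub-presheaf -/
noncomputable def subPreι (T : X.Etaleᵒᵖ ⥤ AddCommGrpCat.{u + 1})
    (S : ∀ U : X.Etale, AddSubgroup (T.obj (op U)))
    (hS : ∀ {U U' : X.Etale} (g : U' ⟶ U) (s : T.obj (op U)), s ∈ S U → T.map g.op s ∈ S U') :
    subPre T S hS ⟶ T where
  app U := AddCommGrpCat.ofHom (S U.unop).subtype

end Sub

section Coprod

variable {X : Scheme.{u}} {ι : Type u} (G : ι → EtCoh.Ab X)

/-- sections over `U` which are finite sums of sections of the summands -/
noncomputable def finSub (U : X.Etale) : AddSubgroup ((∐ G).obj.obj (op U)) :=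
  AddSubgroup.closure (⋃ i, Set.range ((Sigma.ι G i).hom.app (op U)))

set_option backward.isDefEq.respectTransparency false in
lemma finSub_map {U U' : X.Etale} (g : U' ⟶ U) (s : (∐ G).obj.obj (op U)) (hs : s ∈ finSub G U) :
    (∐ G).obj.map g.op s ∈ finSub G U' := by
  induction hs using AddSubgroup.closure_induction with
  | mem x hx =>
    obtain ⟨_, ⟨i, rfl⟩, a, rfl⟩ := hx
    refine AddSubgroup.subset_closure (Set.mem_iUnion.mpr ⟨i, (G i).obj.map g.op a, ?_⟩)
    have := congrArg (fun φ => φ.hom a) ((Sigma.ι G i).hom.naturality g.op)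
    simp only [AddCommGrpCat.hom_comp, AddMonoidHom.coe_comp, Function.comp_apply] at this
    exact this
  | zero => rw [map_zero]; exact zero_mem _
  | add x y _ _ hx hy => rw [map_add]; exact add_mem hx hy
  | neg x _ hx => rw [map_neg]; exact neg_mem hx

/-- sections which are locally finite sums -/
noncomputable def locFinSub (U : X.Etale) : AddSubgroup ((∐ G).obj.obj (op U)) where
  carrier := {s | ∃ R : Sieve U, R ∈ X.smallEtaleTopology U ∧
    ∀ ⦃U' : X.Etale⦄ (h : U' ⟶ U), R h → (∐ G).obj.map h.op s ∈ finSub G U'}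
  zero_mem' := ⟨⊤, X.smallEtaleTopology.top_mem U, fun U' h _ => by
    rw [map_zero]; exact zero_mem _⟩
  add_mem' := by
    rintro a b ⟨R, hR, h1⟩ ⟨R', hR', h2⟩
    refine ⟨R ⊓ R', X.smallEtaleTopology.intersection_covering hR hR', fun U' h hh => ?_⟩
    rw [map_add]
    exact add_mem (h1 h hh.1) (h2 h hh.2)
  neg_mem' := by
    rintro a ⟨R, hR, h1⟩
    refine ⟨R, hR, fun U' h hh => ?_⟩
    rw [map_neg]
    exact neg_mem (h1 h hh)

set_option backward.isDefEq.respectTransparency false in
lemma locFinSub_map {U U' : X.Etale} (g : U' ⟶ U) (s : (∐ G).obj.obj (op U))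
    (hs : s ∈ locFinSub G U) : (∐ G).obj.map g.op s ∈ locFinSub G U' := by
  obtain ⟨R, hR, h1⟩ := hs
  refine ⟨R.pullback g, X.smallEtaleTopology.pullback_stable g hR, fun U'' h hh => ?_⟩
  rw [map_map_apply]
  exact h1 (h ≫ g) hh

/-- the sheaf of locally finite sums -/
noncomputable def locFinSheaf : EtCoh.Ab X :=
  ⟨subPre (∐ G).obj (locFinSub G) (fun g s hs => locFinSub_map G g s hs), by
    refine isSheaf_of_sub X.smallEtaleTopology _ (∐ G).obj
      (subPreι (∐ G).obj (locFinSub G) (fun g s hs => locFinSub_map G g s hs))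
      (fun V => Subtype.val_injective) (∐ G).property ?_
    intro V S hS s hs
    choose t ht using hs
    have hmem : ∀ ⦃V' : X.Etale⦄ (g : V' ⟶ V) (hg : S g),
        (∐ G).obj.map g.op s ∈ locFinSub G V' := by
      intro V' g hg
      have := (t g hg).2
      have e : ((t g hg).1 : (∐ G).obj.obj (op V')) = (∐ G).obj.map g.op s := ht g hg
      rwa [e] at this
    choose R hR h1 using hmem
    refine ⟨⟨s, Sieve.bind S (fun V' g hg => R g hg),
      X.smallEtaleTopology.bind_covering hS (fun V' g hg => hR g hg), ?_⟩, rfl⟩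
    rintro U' h ⟨V', a, g, hg, ha, rfl⟩
    rw [← map_map_apply]
    exact h1 g hg a ha⟩

/-- inclusion -/
noncomputable def locFinIncl : locFinSheaf G ⟶ ∐ G :=
  ⟨subPreι (∐ G).obj (locFinSub G) (fun g s hs => locFinSub_map G g s hs)⟩

/-- the summands map to the sheaf of locally finite sums -/
noncomputable def locFinκ (i : ι) : G i ⟶ locFinSheaf G :=
  ⟨{ app := fun U => AddCommGrpCat.ofHom
      (((Sigma.ι G i).hom.app U).hom.codRestrict (locFinSub G U.unop) (fun a =>
        ⟨⊤, X.smallEtaleTopology.top_mem _, fun U' h _ =>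
          finSub_map G h _ (AddSubgroup.subset_closure (Set.mem_iUnion.mpr ⟨i, a, rfl⟩))⟩))
     naturality := fun U U' g => by
      ext a
      apply Subtype.ext
      have := congrArg (fun φ => φ.hom a) ((Sigma.ι G i).hom.naturality g)
      simp only [AddCommGrpCat.hom_comp, AddMonoidHom.coe_comp, Function.comp_apply] at this
      exact this }⟩

set_option backward.isDefEq.respectTransparency false in
lemma locFinκ_incl (i : ι) : locFinκ G i ≫ locFinIncl G = Sigma.ι G i := by
  apply Sheaf.hom_ext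
  ext U a
  simp only [ObjectProperty.FullSubcategory.comp_hom, NatTrans.comp_app,
    AddCommGrpCat.hom_comp, AddMonoidHom.coe_comp, Function.comp_apply]
  rfl

set_option backward.isDefEq.respectTransparency false in
/-- every section of a coproduct of abelian étale sheaves is locally a finite sum -/
theorem mem_locFinSub (U : X.Etale) (s : (∐ G).obj.obj (op U)) : s ∈ locFinSub G U := by
  have h : Sigma.desc (locFinκ G) ≫ locFinIncl G = 𝟙 (∐ G) := by
    apply Sigma.hom_ext
    intro i
    rw [← Category.assoc, Sigma.ι_desc, locFinκ_incl, Category.comp_id]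
  have h2 := congrArg (fun φ => φ.hom.app (op U) s) h
  simp only [ObjectProperty.FullSubcategory.comp_hom, NatTrans.comp_app,
    AddCommGrpCat.hom_comp, AddMonoidHom.coe_comp, Function.comp_apply,
    ObjectProperty.FullSubcategory.id_hom, NatTrans.id_app, AddCommGrpCat.hom_id,
    AddMonoidHom.id_apply] at h2
  have h3 := (((Sigma.desc (locFinκ G)).hom.app (op U)) s).2
  have h4 : ((((Sigma.desc (locFinκ G)).hom.app (op U)) s).1 : (∐ G).obj.obj (op U)) = s := h2
  rwa [h4] at h3

end Coprod

section EI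

variable {X : Scheme.{u}} {ι : Type u} [DecidableEq ι] (G : ι → EtCoh.Ab X)

set_option backward.isDefEq.respectTransparency false in
lemma π_ι_self (i : ι) (U : X.Etale) (a : (G i).obj.obj (op U)) :
    (Sigma.π G i).hom.app (op U) ((Sigma.ι G i).hom.app (op U) a) = a := by
  have := congrArg (fun φ => φ.hom.app (op U) a) (Sigma.ι_π_eq_id G i)
  simp only [ObjectProperty.FullSubcategory.comp_hom, NatTrans.comp_app,
    AddCommGrpCat.hom_comp, AddMonoidHom.coe_comp, Function.comp_apply,
    ObjectProperty.FullSubcategory.id_hom, NatTrans.id_app, AddCommGrpCat.hom_id,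
    AddMonoidHom.id_apply] at this
  exact this

set_option backward.isDefEq.respectTransparency false in
lemma π_ι_ne {i k : ι} (h : i ≠ k) (U : X.Etale) (a : (G i).obj.obj (op U)) :
    (Sigma.π G k).hom.app (op U) ((Sigma.ι G i).hom.app (op U) a) = 0 := by
  have := congrArg (fun φ => φ.hom.app (op U) a) (Sigma.ι_π_of_ne G h)
  simpa using this

/-- `t ↦ t - Σ_{k ∈ I} ι_k (π_k t)` -/
noncomputable def eI (I : Finset ι) (U : X.Etale) :
    (∐ G).obj.obj (op U) →+ (∐ G).obj.obj (op U) :=
  AddMonoidHom.id _ - ∑ k ∈ I, ((Sigma.ι G k).hom.app (op U)).hom.comp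
    ((Sigma.π G k).hom.app (op U)).hom

lemma eI_apply (I : Finset ι) (U : X.Etale) (t : (∐ G).obj.obj (op U)) :
    eI G I U t = t - ∑ k ∈ I, (Sigma.ι G k).hom.app (op U) ((Sigma.π G k).hom.app (op U) t) := by
  simp [eI, AddMonoidHom.sub_apply, AddMonoidHom.finset_sum_apply]

set_option backward.isDefEq.respectTransparency false in
lemma eI_map (I : Finset ι) {U U' : X.Etale} (h : U' ⟶ U) (t : (∐ G).obj.obj (op U)) :
    (∐ G).obj.map h.op (eI G I U t) = eI G I U' ((∐ G).obj.map h.op t) := by
  rw [eI_apply, eI_apply, map_sub, map_sum]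
  congr 1
  refine Finset.sum_congr rfl (fun k _ => ?_)
  have h1 := congrArg (fun φ => φ.hom ((Sigma.π G k).hom.app (op U) t))
    ((Sigma.ι G k).hom.naturality h.op)
  have h2 := congrArg (fun φ => φ.hom t) ((Sigma.π G k).hom.naturality h.op)
  simp only [AddCommGrpCat.hom_comp, AddMonoidHom.coe_comp, Function.comp_apply] at h1 h2
  rw [← h1, h2]

lemma eI_ι_of_mem (I : Finset ι) (i : ι) (hi : i ∈ I) (U : X.Etale) (a : (G i).obj.obj (op U)) :
    eI G I U ((Sigma.ι G i).hom.app (op U) a) = 0 := by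
  rw [eI_apply, Finset.sum_eq_single i, π_ι_self, sub_self]
  · intro k _ hk
    rw [π_ι_ne G (Ne.symm hk), map_zero]
  · intro h
    exact absurd hi h

lemma exists_finset_eI_eq_zero (U : X.Etale) (t : (∐ G).obj.obj (op U)) (ht : t ∈ finSub G U) :
    ∃ I₀ : Finset ι, ∀ I : Finset ι, I₀ ⊆ I → eI G I U t = 0 := by
  induction ht using AddSubgroup.closure_induction with
  | mem x hx =>
    obtain ⟨_, ⟨i, rfl⟩, a, rfl⟩ := hx
    exact ⟨{i}, fun I hI => eI_ι_of_mem G I i (hI (Finset.mem_singleton_self i)) U a⟩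
  | zero => exact ⟨∅, fun I _ => map_zero _⟩
  | add x y _ _ hx hy =>
    obtain ⟨I1, h1⟩ := hx
    obtain ⟨I2, h2⟩ := hy
    refine ⟨I1 ∪ I2, fun I hI => ?_⟩
    rw [map_add, h1 I (Finset.union_subset_left hI), h2 I (Finset.union_subset_right hI),
      add_zero]
  | neg x _ hx =>
    obtain ⟨I1, h1⟩ := hx
    exact ⟨I1, fun I hI => by rw [map_neg, h1 I hI, neg_zero]⟩

/-- every section of a coproduct is, étale locally around each point, killed by `eI I` for all
large finite `I` -/
theorem exists_nbhd_eI_eq_zero (U : X.Etale) (s : (∐ G).obj.obj (op U)) (x : U.left) :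
    ∃ (U' : X.Etale) (h : U' ⟶ U) (x' : U'.left) (I₀ : Finset ι), h.left x' = x ∧
      ∀ I : Finset ι, I₀ ⊆ I → eI G I U' ((∐ G).obj.map h.op s) = 0 := by
  obtain ⟨R, hR, h1⟩ := mem_locFinSub G U s
  obtain ⟨U', h, x', hh, hx'⟩ := exists_of_mem_smallEtaleTopology R hR x
  obtain ⟨I₀, hI₀⟩ := exists_finset_eI_eq_zero G U' _ (h1 h hh)
  exact ⟨U', h, x', I₀, hx', hI₀⟩

set_option backward.isDefEq.respectTransparency false in
/-- the projections from a coproduct are jointly injective on sections -/
theorem eq_zero_of_π_eq_zero (U : X.Etale) (s : (∐ G).obj.obj (op U))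
    (hs : ∀ k, (Sigma.π G k).hom.app (op U) s = 0) : s = 0 := by
  refine eq_zero_of_locally_zero (∐ G) s (fun x => ?_)
  obtain ⟨U', h, x', I₀, hx', hI₀⟩ := exists_nbhd_eI_eq_zero G U s x
  refine ⟨U', h, x', hx', ?_⟩
  have h1 := hI₀ I₀ (Finset.Subset.refl _)
  rw [eI_apply] at h1
  have h2 : ∀ k, (Sigma.π G k).hom.app (op U') ((∐ G).obj.map h.op s) = 0 := by
    intro k
    have := congrArg (fun φ => φ.hom s) ((Sigma.π G k).hom.naturality h.op)
    simp only [AddCommGrpCat.hom_comp, AddMonoidHom.coe_comp, Function.comp_apply] at this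
    rw [this, hs k, map_zero]
  simp only [h2, map_zero, Finset.sum_const_zero, sub_zero] at h1
  exact h1

end EI

end Groth.Agent.H7.SH
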