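import Mathlib
import Groth.Prelude.Def_EtShriek2
import Groth.Agent.Lib.Helper7.SHA
import Groth.Agent.Lib.Helper7.SHE

/-!
# Helper7: SHF — direct image with proper support commutes with direct sums (S0682)
-/

set_option autoImplicit false

universe u

open CategoryTheory CategoryTheory.Limits Opposite AlgebraicGeometry MorphismProperty

namespace Groth.Agent.H7.SH

open EtShriek Groth.Agent.H1 Groth.Agent.H7.ShrSheaf Groth.Agent.H7.EZ

section Geo

variable {X Y : Scheme.{u}} (f : X ⟶ Y) [LocallyOfFiniteType f] {ι : Type u} [DecidableEq ι]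
  (F : ι → EtCoh.Ab X)

lemma isCompact_of_isProperOver {S T : Scheme.{u}} (q : T ⟶ S) [CompactSpace S] (Z : Set T)
    (hZ : ClSub.IsProperOver q Z) : IsCompact Z := by
  obtain ⟨T₀, i, hi, rfl, hp⟩ := IsProperOver.exists_closedImmersion hZ
  haveI : CompactSpace T₀ := QuasiCompact.compactSpace_of_compactSpace (i ≫ q)
  exact isCompact_range i.continuous

set_option backward.isDefEq.respectTransparency false in
/-- a section of the direct sum with proper support is, Zariski locally on the base, a finite sum -/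
theorem exists_nbhd_eI_eq_zero_of_mem (V : Y.Etale)
    (s : (∐ F).obj.obj (op ((EtCoh.bc f).obj V))) (hs : s ∈ shriekSubgroup f (∐ F) V)
    (v : V.left) :
    ∃ (N : Y.Etale) (h : N ⟶ V) (n : N.left) (I : Finset ι), h.left n = v ∧
      eI F I ((EtCoh.bc f).obj N) ((∐ F).obj.map ((EtCoh.bc f).map h).op s) = 0 := by
  obtain ⟨_, ⟨O₀, hO, rfl⟩, hvO, -⟩ := V.left.isBasis_affineOpens.exists_subset_of_mem_open
    (Set.mem_univ v) isOpen_univ
  let O : V.left.Opens := O₀
  let N : Y.Etale := Scheme.Etale.mk (O.ι ≫ V.hom)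
  let h : N ⟶ V := MorphismProperty.Over.homMk O.ι rfl
  haveI : IsAffine N.left := hO
  set sN := (∐ F).obj.map ((EtCoh.bc f).map h).op s with hsN
  have hsN' : sN ∈ shriekSubgroup f (∐ F) N := shriekSubgroup_le_comap f (∐ F) h hs
  obtain ⟨Z, hZ, hp⟩ := (mem_shriekSubgroup_iff' f (∐ F) N sN).mp hsN'
  have hZc : IsCompact Z := isCompact_of_isProperOver (prV f N) Z hp
  choose U' c x' I₀ hx' hI using
    fun z : ((EtCoh.bc f).obj N).left => exists_nbhd_eI_eq_zero F ((EtCoh.bc f).obj N) sN z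
  obtain ⟨t, ht⟩ := hZc.elim_nhds_subcover' (fun z _ => Set.range (c z).left)
    (fun z _ => (c z).left.isOpenMap.isOpen_range.mem_nhds ⟨x' z, hx' z⟩)
  refine ⟨N, h, ⟨v, hvO⟩, t.sup (fun z => I₀ z.1), rfl, ?_⟩
  refine eq_zero_of_locally_zero (∐ F) _ (fun x => ?_)
  by_cases hxZ : x ∈ Z
  · obtain ⟨z, hz, y, hy⟩ := Set.mem_iUnion₂.mp (ht hxZ)
    refine ⟨U' z.1, c z.1, y, hy, ?_⟩
    rw [eI_map]
    exact hI z.1 _ (Finset.le_sup (f := fun z : Z => I₀ z.1) hz)
  · have hx : x ∉ sectSupp (∐ F) _ sN := fun h' => hxZ (hZ h')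
    simp only [sectSupp, Set.mem_setOf_eq, not_forall, not_not] at hx
    obtain ⟨W, g, ⟨w, hw⟩, e0⟩ := hx
    refine ⟨W, g, w, hw, ?_⟩
    rw [eI_map, e0, map_zero]

end Geo

section Main

variable {X Y : Scheme.{u}} (f : X ⟶ Y) [LocallyOfFiniteType f] {ι : Type u} [DecidableEq ι]
  (F : ι → EtCoh.Ab X)

lemma shr_map_zero (A B : EtCoh.Ab X) : (shr f).map (0 : A ⟶ B) = 0 := by
  apply Sheaf.hom_ext
  ext W ⟨s, hs⟩
  apply Subtype.ext
  rfl

lemma shr_map_apply_val {A B : EtCoh.Ab X} (α : A ⟶ B) (V : Y.Etale)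
    (t : shriekSubgroup f A V) :
    ((((shr f).map α).hom.app (op V) t : shriekSubgroup f B V)).1 =
      α.hom.app (op ((EtCoh.bc f).obj V)) t.1 := rfl

/-- the comparison map `⊕ f_! F_i ⟶ f_! (⊕ F_i)` -/
noncomputable abbrev Φ : (∐ fun i => (shr f).obj (F i)) ⟶ (shr f).obj (∐ F) :=
  sigmaComparison (shr f) F

lemma Φ_comp_map_π (k : ι) :
    Φ f F ≫ (shr f).map (Sigma.π F k) = Sigma.π (fun i => (shr f).obj (F i)) k := by
  apply Sigma.hom_ext
  intro j
  rw [← Category.assoc, ι_comp_sigmaComparison, ← Functor.map_comp]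
  by_cases hjk : j = k
  · subst hjk
    rw [Sigma.ι_π_eq_id, Sigma.ι_π_eq_id, CategoryTheory.Functor.map_id]
  · rw [Sigma.ι_π_of_ne F hjk, Sigma.ι_π_of_ne _ hjk, shr_map_zero]

set_option backward.isDefEq.respectTransparency false in
instance mono_Φ : Mono (Φ f F) := by
  haveI : Mono (Φ f F).hom := by
    haveI : ∀ W, Mono ((Φ f F).hom.app W) := by
      intro W
      refine ConcreteCategory.mono_of_injective _ ?_
      rw [injective_iff_map_eq_zero]
      intro σ hσ
      refine eq_zero_of_π_eq_zero (fun i => (shr f).obj (F i)) W.unop σ (fun k => ?_)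
      rw [← Φ_comp_map_π f F k]
      simp only [ObjectProperty.FullSubcategory.comp_hom, NatTrans.comp_app,
        AddCommGrpCat.hom_comp, AddMonoidHom.coe_comp, Function.comp_apply]
      rw [hσ, map_zero]
    exact NatTrans.mono_of_mono_app _
  exact Sheaf.Hom.mono_of_presheaf_mono _ _ _

end Main

section Epi

variable {X Y : Scheme.{u}} (f : X ⟶ Y) [LocallyOfFiniteType f] {ι : Type u} [DecidableEq ι]
  (F : ι → EtCoh.Ab X)

set_option backward.isDefEq.respectTransparency false in
lemma Φ_ι_apply (k : ι) (W : Y.Etale) (a : shriekSubgroup f (F k) W) :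
    (Φ f F).hom.app (op W) ((Sigma.ι (fun i => (shr f).obj (F i)) k).hom.app (op W) a) =
      ((shr f).map (Sigma.ι F k)).hom.app (op W) a := by
  have := congrArg (fun φ => φ.hom.app (op W) a) (ι_comp_sigmaComparison (shr f) F k)
  simp only [ObjectProperty.FullSubcategory.comp_hom, NatTrans.comp_app,
    AddCommGrpCat.hom_comp, AddMonoidHom.coe_comp, Function.comp_apply] at this
  exact this

set_option backward.isDefEq.respectTransparency false in
instance epi_Φ : Epi (Φ f F) := by
  haveI : Presheaf.IsLocallySurjective Y.smallEtaleTopology (Φ f F).hom := by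
    constructor
    intro V t
    obtain ⟨s, hs⟩ := t
    refine sieve_mem_of_jointly_surjective _ (fun v => ?_)
    obtain ⟨N, h, n, I, hn, hI⟩ := exists_nbhd_eI_eq_zero_of_mem f F V s hs v
    refine ⟨N, h, n, ?_, hn⟩
    -- the restricted section
    let sN : shriekSubgroup f (∐ F) N := ((shr f).obj (∐ F)).obj.map h.op ⟨s, hs⟩
    refine ⟨∑ k ∈ I, (Sigma.ι (fun i => (shr f).obj (F i)) k).hom.app (op N)
      (((shr f).map (Sigma.π F k)).hom.app (op N) sN), ?_⟩
    rw [map_sum]
    apply Subtype.ext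
    rw [eI_apply, sub_eq_zero] at hI
    have e : ((((shr f).obj (∐ F)).obj.map h.op ⟨s, hs⟩ : shriekSubgroup f (∐ F) N)).1 =
        (∐ F).obj.map ((EtCoh.bc f).map h).op s := rfl
    rw [e, hI, AddSubgroup.val_finset_sum]
    refine Finset.sum_congr rfl (fun k _ => ?_)
    rw [Φ_ι_apply]
    rfl
  haveI : Sheaf.IsLocallySurjective (Φ f F) := ‹_›
  exact Sheaf.epi_of_isLocallySurjective _

instance isIso_Φ : IsIso (Φ f F) := isIso_of_mono_of_epi _

end Epi

section Final

variable {X Y : Scheme.{u}} (f : X ⟶ Y) [LocallyOfFiniteType f]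

theorem S0682_main (ι : Type u) : PreservesColimitsOfShape (Discrete ι) (lowerShriek f) := by
  classical
  haveI : ∀ F : ι → EtCoh.Ab X, PreservesColimit (Discrete.functor F) (shr f) := by
    intro F
    haveI : IsIso (sigmaComparison (shr f) F) := isIso_Φ f F
    exact PreservesCoproduct.of_iso_comparison (shr f) F
  haveI : PreservesColimitsOfShape (Discrete ι) (shr f) := preservesColimitsOfShape_of_discrete _
  exact preservesColimitsOfShape_of_natIso (shrIso f).symm

end Final

end Groth.Agent.H7.SH
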