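import Mathlib
import Groth.Agent.Lib.Helper1.EtLocCore
import Groth.Agent.Lib.Helper7.ShrSheaf

/-!
# Helper7: SHG — étale-locally on the base, a closed subset proper over the base of a separated
locally quasi-finite morphism lies in an open and closed part finite over the base
-/

set_option autoImplicit false

universe u

open CategoryTheory CategoryTheory.Limits Opposite AlgebraicGeometry MorphismProperty

namespace Groth.Agent.H7.SH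

open Groth.Agent.H1 Groth.Agent.H7.ShrSheaf

section Geo

variable {P S : Scheme.{u}} (q : P ⟶ S) [IsSeparated q] [LocallyOfFiniteType q]
  [LocallyQuasiFinite q]

omit [IsSeparated q] in
lemma finite_inter_fiber (Z : Set P) (hZ : ClSub.IsProperOver q Z) (s : S) :
    (Z ∩ q ⁻¹' {s}).Finite := by
  obtain ⟨T, i, hi, rfl, hp⟩ := IsProperOver.exists_closedImmersion hZ
  have h1 : ((i ≫ q) ⁻¹' {s}).Finite := Scheme.Hom.finite_preimage_singleton (i ≫ q) s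
  refine (h1.image i).subset ?_
  rintro _ ⟨⟨t, rfl⟩, ht⟩
  exact ⟨t, by simpa using ht, rfl⟩

/-- the image of a subset proper over the base is closed -/
lemma isClosed_image_of_isProperOver {P S : Scheme.{u}} (q : P ⟶ S) [LocallyOfFiniteType q]
    (D : Set P) (hD : ClSub.IsProperOver q D) : IsClosed (q '' D) :=
  (isProperOver_image_of_isSeparated q (𝟙 S) q (Category.comp_id q) D hD).1

theorem exists_finite_clopen (Z : Set P) (hZ : ClSub.IsProperOver q Z) (s : S) :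
    ∃ (U : Scheme.{u}) (g : U ⟶ S) (u : U), Etale g ∧ g u = s ∧
      ∃ (P' : Scheme.{u}) (fst' : P' ⟶ P) (snd' : P' ⟶ U), IsPullback fst' snd' q g ∧
        ∃ C : P'.Opens, IsClosed (C : Set P') ∧ IsFinite (C.ι ≫ snd') ∧ fst' ⁻¹' Z ⊆ C := by
  obtain ⟨n, x, hx⟩ := (finite_inter_fiber q Z hZ s).fin_embedding
  have hxs : ∀ i, q (x i) = s := fun i => by
    have : x i ∈ Z ∩ q ⁻¹' {s} := hx ▸ ⟨i, rfl⟩
    exact this.2
  have hxZ : ∀ i, x i ∈ Z := fun i => by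
    have : x i ∈ Z ∩ q ⁻¹' {s} := hx ▸ ⟨i, rfl⟩
    exact this.1
  obtain ⟨U₀, g₀, u₀, hg₀, hgu₀, m, idx, V, v, hvinj, hFP, hall⟩ :=
    EtLocCore.core q s x x.injective hxs (fun i => q.quasiFiniteAt (x i))
  haveI := hg₀
  set q₀ := pullback.snd q g₀ with hq₀
  set p₀ := pullback.fst q g₀ with hp₀
  have sq₀ : IsPullback p₀ q₀ q g₀ := IsPullback.of_hasPullback q g₀
  -- the bad locus
  have hZ₀ : ClSub.IsProperOver q₀ (p₀ ⁻¹' Z) :=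
    isProperOver_preimage_of_isPullback q g₀ p₀ q₀ sq₀ Z hZ
  have hVcl : ∀ k, IsClosed ((V k : (pullback q g₀).Opens) : Set ↑(pullback q g₀)) :=
    fun k => (hFP k).1.isClosed
  let C₀ : Set ↑(pullback q g₀) := ⋃ k, (V k : Set ↑(pullback q g₀))
  have hC₀cl : IsClosed C₀ := isClosed_iUnion_of_finite hVcl
  have hC₀op : IsOpen C₀ := isOpen_iUnion (fun k => (V k).2)
  have hD : ClSub.IsProperOver q₀ (p₀ ⁻¹' Z ∩ C₀ᶜ) :=
    isProperOver_of_subset q₀ hZ₀ (hZ₀.1.inter hC₀op.isClosed_compl) Set.inter_subset_left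
  have hB : IsClosed (q₀ '' (p₀ ⁻¹' Z ∩ C₀ᶜ)) := isClosed_image_of_isProperOver q₀ _ hD
  have hu₀ : u₀ ∉ q₀ '' (p₀ ⁻¹' Z ∩ C₀ᶜ) := by
    rintro ⟨w, ⟨hwZ, hwC⟩, hwu⟩
    have h1 : q (p₀ w) = s := by
      have := congrArg (fun φ : pullback q g₀ ⟶ S => φ w) sq₀.w
      simp only [Scheme.Hom.comp_apply] at this
      rw [this, hwu, hgu₀]
    have h2 : p₀ w ∈ Z ∩ q ⁻¹' {s} := ⟨hwZ, h1⟩
    rw [← hx] at h2
    obtain ⟨i, hi⟩ := h2
    obtain ⟨k, -, hk⟩ := hall w i hwu hi.symm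
    exact hwC (Set.mem_iUnion.mpr ⟨k, hk ▸ (hFP k).1.mem⟩)
  -- shrink the base
  let U' : U₀.Opens := ⟨(q₀ '' (p₀ ⁻¹' Z ∩ C₀ᶜ))ᶜ, hB.isOpen_compl⟩
  have sq₁ : IsPullback (q₀ ⁻¹ᵁ U').ι (q₀ ∣_ U') q₀ U'.ι := (isPullback_morphismRestrict q₀ U').flip
  have sq : IsPullback ((q₀ ⁻¹ᵁ U').ι ≫ p₀) (q₀ ∣_ U') q (U'.ι ≫ g₀) := sq₁.paste_horiz sq₀
  have hh : EtLoc.ElemNbhd U'.ι (⟨u₀, hu₀⟩ : U') u₀ :=
    { etale := inferInstance
      eq := rfl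
      bij := by
        have : IsIso (U'.ι.residueFieldMap (⟨u₀, hu₀⟩ : U')) := inferInstance
        exact (ConcreteCategory.isIso_iff_bijective _).mp this }
  have hfin : ∀ k, IsFinite (((q₀ ⁻¹ᵁ U').ι ⁻¹ᵁ (V k)).ι ≫ (q₀ ∣_ U')) := fun k => by
    obtain ⟨v', hv'⟩ := (hFP k).1.refine sq₁ hh
    exact hv'.finite
  haveI : IsSeparated (q₀ ∣_ U') := MorphismProperty.of_isPullback (P := @IsSeparated) sq ‹_›
  haveI : LocallyOfFiniteType (q₀ ∣_ U') :=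
    MorphismProperty.of_isPullback (P := @LocallyOfFiniteType) sq ‹_›
  refine ⟨U', U'.ι ≫ g₀, ⟨u₀, hu₀⟩, inferInstance, hgu₀, _, _, _, sq,
    ⨆ k, (q₀ ⁻¹ᵁ U').ι ⁻¹ᵁ (V k), ?_, EtLoc.isFinite_iSup _ _ hfin, ?_⟩
  · have : ((⨆ k, (q₀ ⁻¹ᵁ U').ι ⁻¹ᵁ (V k) : (↑(q₀ ⁻¹ᵁ U') : Scheme.{u}).Opens) :
        Set ↑(↑(q₀ ⁻¹ᵁ U') : Scheme.{u})) = (q₀ ⁻¹ᵁ U').ι ⁻¹' C₀ := by
      ext y
      simp [C₀]
    rw [this]
    exact hC₀cl.preimage (q₀ ⁻¹ᵁ U').ι.continuous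
  · intro y hy
    by_contra hyC
    have h1 : (q₀ ⁻¹ᵁ U').ι y ∉ C₀ := by
      intro h
      apply hyC
      obtain ⟨k, hk⟩ := Set.mem_iUnion.mp h
      simp only [TopologicalSpace.Opens.coe_iSup, Set.mem_iUnion]
      exact ⟨k, hk⟩
    have h2 : q₀ ((q₀ ⁻¹ᵁ U').ι y) ∈ (U' : Set U₀) := by
      have : (q₀ ⁻¹ᵁ U').ι y ∈ Set.range (q₀ ⁻¹ᵁ U').ι := ⟨y, rfl⟩
      rw [Scheme.Opens.range_ι] at this
      exact this
    exact h2 ⟨(q₀ ⁻¹ᵁ U').ι y, ⟨by simpa [Scheme.Hom.comp_apply] using hy, h1⟩, rfl⟩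

end Geo

end Groth.Agent.H7.SH
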