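import Mathlib
import Groth.Prelude.Def_EtShriek2
import Groth.Agent.Lib.Helper7.SHH
import Groth.Agent.Lib.Helper7.SHA
import Groth.Agent.Lib.Helper7.SHG
import Groth.Agent.Lib.Helper7.ES1
import Groth.Agent.Lib.Helper7.ES2
import Groth.Agent.Lib.Helper2.FinPushExact

/-!
# Helper7: SHI — lifting sections with finite clopen support along an epimorphism
-/

set_option autoImplicit false

universe u

open CategoryTheory CategoryTheory.Limits Opposite AlgebraicGeometry MorphismProperty

namespace Groth.Agent.H7.SH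

open EtShriek Groth.Agent.H1 Groth.Agent.H7.ShrSheaf Groth.Agent.H7.EZ

section Small

variable {X : Scheme.{u}}

set_option backward.isDefEq.respectTransparency false in
lemma sectSupp_subset_of_suppIn (F : EtCoh.Ab X) {B : X.Etale} (s : F.obj.obj (op B))
    (C : B.left.Opens) (hC : IsClosed (C : Set B.left)) (h : SuppIn F s (C : Set B.left)) :
    sectSupp F B s ⊆ (C : Set B.left) := by
  intro x hx
  by_contra hxC
  let C' : B.left.Opens := ⟨(C : Set B.left)ᶜ, hC.isOpen_compl⟩
  exact hx (openObj B C') (openHom B C') ⟨⟨x, hxC⟩, rfl⟩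
    (h _ (openHom B C') (fun y => openHom_mem B C' y))

lemma app_map_apply {F G : EtCoh.Ab X} (α : F ⟶ G) {B T : X.Etale} (b : T ⟶ B)
    (t : F.obj.obj (op B)) :
    α.hom.app (op T) (F.obj.map b.op t) = G.obj.map b.op (α.hom.app (op B) t) := by
  have := congrArg (fun φ => φ.hom t) (α.hom.naturality b.op)
  simp only [AddCommGrpCat.hom_comp, AddMonoidHom.coe_comp, Function.comp_apply] at this
  exact this

lemma suppIn_app {F G : EtCoh.Ab X} (α : F ⟶ G) {B : X.Etale} (t : F.obj.obj (op B))
    (A : Set B.left) (h : SuppIn F t A) : SuppIn G (α.hom.app (op B) t) A := by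
  intro T b hb
  rw [← app_map_apply, h T b hb, map_zero]

end Small

section SL

variable {X Y : Scheme.{u}} (f : X ⟶ Y) (N : Y.Etale) (C : ((EtCoh.bc f).obj N).left.Opens)

/-- the projection from the open part to the base -/
noncomputable abbrev piC : (C : Scheme.{u}) ⟶ N.left := C.ι ≫ prV f N

/-- the étale map from the open part to `X` -/
noncomputable abbrev jC : (C : Scheme.{u}) ⟶ X := C.ι ≫ ((EtCoh.bc f).obj N).hom

instance etale_jC : Etale (jC f N C) := by
  haveI : Etale ((EtCoh.bc f).obj N).hom := ((EtCoh.bc f).obj N).prop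
  infer_instance

set_option backward.isDefEq.respectTransparency false in
/-- `W ×_N C → C` as a morphism of the small étale site of `X` -/
noncomputable def aW (W : N.left.Etale) :
    (compEtale (jC f N C)).obj ((EtCoh.bc (piC f N C)).obj W) ⟶ openObj ((EtCoh.bc f).obj N) C :=
  MorphismProperty.Over.homMk (pullback.snd W.hom (piC f N C)) rfl

set_option backward.isDefEq.respectTransparency false in
lemma aW_nat {W W' : N.left.Etale} (w : W' ⟶ W) :
    (compEtale (jC f N C)).map ((EtCoh.bc (piC f N C)).map w) ≫ aW f N C W = aW f N C W' := by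
  apply MorphismProperty.Over.Hom.ext
  change ((EtCoh.bc (piC f N C)).map w).left ≫ pullback.snd W.hom (piC f N C) =
    pullback.snd W'.hom (piC f N C)
  dsimp [EtCoh.bc]
  exact pullback.lift_snd _ _ _

/-- the object `W → N → Y` -/
noncomputable def NW (W : N.left.Etale) : Y.Etale :=
  haveI : Etale W.hom := W.prop
  haveI : Etale N.hom := N.prop
  Scheme.Etale.mk (W.hom ≫ N.hom)

/-- the map `NW W ⟶ N` -/
noncomputable def hW (W : N.left.Etale) : NW N W ⟶ N :=
  MorphismProperty.Over.homMk W.hom rfl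

/-- the preimage of the open part -/
noncomputable def CW (W : N.left.Etale) : ((EtCoh.bc f).obj (NW N W)).left.Opens :=
  ((EtCoh.bc f).map (hW N W)).left ⁻¹ᵁ C

set_option backward.isDefEq.respectTransparency false in
lemma kappa_cond (W : N.left.Etale) :
    ((CW f N C W).ι ≫ prV f (NW N W)) ≫ W.hom =
      (((EtCoh.bc f).map (hW N W)).left ∣_ C) ≫ piC f N C := by
  have h1 : (((EtCoh.bc f).map (hW N W)).left ∣_ C) ≫ C.ι =
      (CW f N C W).ι ≫ ((EtCoh.bc f).map (hW N W)).left := morphismRestrict_ι _ _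
  have h2 := bc_map_left_prV f (hW N W)
  calc ((CW f N C W).ι ≫ prV f (NW N W)) ≫ W.hom
      = (CW f N C W).ι ≫ (prV f (NW N W) ≫ (hW N W).left) := by rw [Category.assoc]; rfl
    _ = (CW f N C W).ι ≫ (((EtCoh.bc f).map (hW N W)).left ≫ prV f N) := by rw [h2]
    _ = ((((EtCoh.bc f).map (hW N W)).left ∣_ C) ≫ C.ι) ≫ prV f N := by
        rw [h1, Category.assoc]
    _ = _ := by rw [Category.assoc]

/-- underlying morphism of `kappa` -/
noncomputable def kappaLeft (W : N.left.Etale) :
    ((CW f N C W : ((EtCoh.bc f).obj (NW N W)).left.Opens) : Scheme.{u}) ⟶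
      pullback W.hom (piC f N C) :=
  pullback.lift ((CW f N C W).ι ≫ prV f (NW N W)) (((EtCoh.bc f).map (hW N W)).left ∣_ C)
    (kappa_cond f N C W)

set_option backward.isDefEq.respectTransparency false in
/-- the comparison `C' ⟶ W ×_N C` -/
noncomputable def kappa (W : N.left.Etale) :
    openObj ((EtCoh.bc f).obj (NW N W)) (CW f N C W) ⟶
      (compEtale (jC f N C)).obj ((EtCoh.bc (piC f N C)).obj W) :=
  MorphismProperty.Over.homMk (kappaLeft f N C W) (by
    have h1 : (((EtCoh.bc f).map (hW N W)).left ∣_ C) ≫ C.ι =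
        (CW f N C W).ι ≫ ((EtCoh.bc f).map (hW N W)).left := morphismRestrict_ι _ _
    have h2 : ((EtCoh.bc f).map (hW N W)).left ≫ ((EtCoh.bc f).obj N).hom =
        ((EtCoh.bc f).obj (NW N W)).hom := MorphismProperty.Over.w _
    change kappaLeft f N C W ≫ (pullback.snd W.hom (piC f N C) ≫ jC f N C) =
      (CW f N C W).ι ≫ ((EtCoh.bc f).obj (NW N W)).hom
    rw [← Category.assoc]
    unfold kappaLeft
    rw [pullback.lift_snd]
    calc (((EtCoh.bc f).map (hW N W)).left ∣_ C) ≫ C.ι ≫ ((EtCoh.bc f).obj N).hom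
        = ((((EtCoh.bc f).map (hW N W)).left ∣_ C) ≫ C.ι) ≫ ((EtCoh.bc f).obj N).hom := by
          rw [Category.assoc]
      _ = _ := by rw [h1, Category.assoc, h2])

set_option backward.isDefEq.respectTransparency false in
lemma kappa_comp (W : N.left.Etale) :
    kappa f N C W ≫ aW f N C W ≫ openHom ((EtCoh.bc f).obj N) C =
      openHom ((EtCoh.bc f).obj (NW N W)) (CW f N C W) ≫ (EtCoh.bc f).map (hW N W) := by
  apply MorphismProperty.Over.Hom.ext
  change kappaLeft f N C W ≫ pullback.snd W.hom (piC f N C) ≫ C.ι =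
    (CW f N C W).ι ≫ ((EtCoh.bc f).map (hW N W)).left
  rw [← Category.assoc]
  unfold kappaLeft
  rw [pullback.lift_snd]
  exact morphismRestrict_ι _ _

set_option backward.isDefEq.respectTransparency false in
lemma isClosed_CW (W : N.left.Etale) (hC : IsClosed (C : Set ((EtCoh.bc f).obj N).left)) :
    IsClosed ((CW f N C W : ((EtCoh.bc f).obj (NW N W)).left.Opens) :
      Set ((EtCoh.bc f).obj (NW N W)).left) :=
  hC.preimage ((EtCoh.bc f).map (hW N W)).left.continuous

set_option backward.isDefEq.respectTransparency false in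
lemma isFinite_CW (W : N.left.Etale) [IsFinite (piC f N C)] :
    IsFinite ((CW f N C W).ι ≫ prV f (NW N W)) := by
  have sq1 := isPullback_morphismRestrict ((EtCoh.bc f).map (hW N W)).left C
  have sq2 := EtCoh.isPullback_bc_map f (hW N W)
  have sq := sq1.paste_vert sq2
  exact MorphismProperty.of_isPullback (P := @IsFinite) sq ‹_›

set_option backward.isDefEq.respectTransparency false in
theorem exists_lift_of_suppIn {F G : EtCoh.Ab X} (α : F ⟶ G) [Epi α]
    (hC : IsClosed (C : Set ((EtCoh.bc f).obj N).left)) [IsFinite (piC f N C)]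
    (s : G.obj.obj (op ((EtCoh.bc f).obj N)))
    (hs : SuppIn G s (C : Set ((EtCoh.bc f).obj N).left)) (n : N.left) :
    ∃ (W : N.left.Etale) (n' : W.left), W.hom n' = n ∧
      ∃ t : F.obj.obj (op ((EtCoh.bc f).obj (NW N W))),
        SuppIn F t ((CW f N C W : ((EtCoh.bc f).obj (NW N W)).left.Opens) :
          Set ((EtCoh.bc f).obj (NW N W)).left) ∧
        α.hom.app _ t = G.obj.map ((EtCoh.bc f).map (hW N W)).op s := by
  haveI : (restrAlong (jC f N C)).PreservesEpimorphisms :=
    Functor.preservesEpimorphisms_of_adjunction (Groth.Agent.H7.ES.restrPushAdj (jC f N C))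
  haveI : Epi ((restrAlong (jC f N C)).map α) := inferInstance
  let β := (EtCoh.push (piC f N C)).map ((restrAlong (jC f N C)).map α)
  haveI : Epi β := Groth.Agent.H2.FinStalk.epi_push_of_finite (piC f N C) _
  haveI : Sheaf.IsLocallySurjective β :=
    (Sheaf.isLocallySurjective_iff_epi' (φ := β)).2 inferInstance
  obtain ⟨σ, hσ⟩ : ∃ σ : G.obj.obj (op ((compEtale (jC f N C)).obj
      ((EtCoh.bc (piC f N C)).obj (EtCoh.top N.left)))),
      σ = G.obj.map (aW f N C (EtCoh.top N.left)).op (G.obj.map (openHom _ C).op s) := ⟨_, rfl⟩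
  have hS := Presheaf.imageSieve_mem N.left.smallEtaleTopology β.hom σ
  obtain ⟨W, w, n', ⟨tW, htW⟩, hn'⟩ := exists_of_mem_smallEtaleTopology _ hS n
  have htW' : α.hom.app (op ((compEtale (jC f N C)).obj ((EtCoh.bc (piC f N C)).obj W))) tW =
      G.obj.map ((compEtale (jC f N C)).map ((EtCoh.bc (piC f N C)).map w)).op σ := htW
  have hw : W.hom = w.left := by
    have := MorphismProperty.Over.w w
    rw [← this]
    exact (Category.comp_id _).symm
  refine ⟨W, n', by rw [hw]; exact hn', ?_⟩
  have hC' := isClosed_CW f N C W hC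
  refine ⟨extClopen F _ (CW f N C W) hC' (F.obj.map (kappa f N C W).op tW),
    suppIn_extClopen F _ _ hC' _, ?_⟩
  refine eq_of_suppIn_of_res_eq G _ (CW f N C W) hC' _ _
    (suppIn_app α _ _ (suppIn_extClopen F _ _ hC' _))
    (hs.map G ((EtCoh.bc f).map (hW N W))) ?_
  rw [← app_map_apply, extClopen_res, app_map_apply, htW', hσ]
  have key : kappa f N C W ≫ (compEtale (jC f N C)).map ((EtCoh.bc (piC f N C)).map w) ≫
      aW f N C (EtCoh.top N.left) ≫ openHom ((EtCoh.bc f).obj N) C =
      openHom ((EtCoh.bc f).obj (NW N W)) (CW f N C W) ≫ (EtCoh.bc f).map (hW N W) := by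
    have hn := aW_nat f N C w
    have h0 : kappa f N C W ≫ (compEtale (jC f N C)).map ((EtCoh.bc (piC f N C)).map w) ≫
        aW f N C (EtCoh.top N.left) ≫ openHom ((EtCoh.bc f).obj N) C =
        kappa f N C W ≫ ((compEtale (jC f N C)).map ((EtCoh.bc (piC f N C)).map w) ≫
          aW f N C (EtCoh.top N.left)) ≫ openHom ((EtCoh.bc f).obj N) C := by
      rw [Category.assoc]
    exact h0.trans ((congrArg (fun m => kappa f N C W ≫ m ≫ openHom ((EtCoh.bc f).obj N) C)
      hn).trans (kappa_comp f N C W))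
  have e1 := map_map_apply G (aW f N C (EtCoh.top N.left)) (openHom ((EtCoh.bc f).obj N) C) s
  have e2 := map_map_apply G ((compEtale (jC f N C)).map ((EtCoh.bc (piC f N C)).map w))
    (aW f N C (EtCoh.top N.left) ≫ openHom ((EtCoh.bc f).obj N) C) s
  have e3 := map_map_apply G (kappa f N C W)
    ((compEtale (jC f N C)).map ((EtCoh.bc (piC f N C)).map w) ≫
      aW f N C (EtCoh.top N.left) ≫ openHom ((EtCoh.bc f).obj N) C) s
  have e4 := map_map_apply G (openHom ((EtCoh.bc f).obj (NW N W)) (CW f N C W))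
    ((EtCoh.bc f).map (hW N W)) s
  refine ((congrArg (fun z => G.obj.map (kappa f N C W).op z)
    ((congrArg (fun z => G.obj.map
      ((compEtale (jC f N C)).map ((EtCoh.bc (piC f N C)).map w)).op z) e1).trans e2)).trans
        e3).trans ((congrArg (fun m => G.obj.map m.op s) key).trans e4.symm)

end SL

section Main

variable {X Y : Scheme.{u}} (f : X ⟶ Y) [IsSeparated f] [LocallyOfFiniteType f]
  [LocallyQuasiFinite f]

instance lqf_prV (V : Y.Etale) : LocallyQuasiFinite (prV f V) := by
  change LocallyQuasiFinite (pullback.fst V.hom f)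
  infer_instance

set_option backward.isDefEq.respectTransparency false in
/-- étale-locally on the base, a closed subset proper over the base lies in an open and closed
part finite over the base (site-level form of `exists_finite_clopen`) -/
theorem exists_clopen_nbhd (V : Y.Etale) (Z : Set ((EtCoh.bc f).obj V).left)
    (hZ : ClSub.IsProperOver (prV f V) Z) (v : V.left) :
    ∃ (N : Y.Etale) (h : N ⟶ V) (n : N.left), h.left n = v ∧
      ∃ C : ((EtCoh.bc f).obj N).left.Opens, IsClosed (C : Set ((EtCoh.bc f).obj N).left) ∧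
        IsFinite (piC f N C) ∧ ((EtCoh.bc f).map h).left ⁻¹' Z ⊆ (C : Set _) := by
  obtain ⟨U, g, u, hg, hgu, P', fst', snd', sq, C, hCcl, hCfin, hZC⟩ :=
    exists_finite_clopen (prV f V) Z hZ v
  haveI := hg
  let N : Y.Etale := Scheme.Etale.mk (g ≫ V.hom)
  let h : N ⟶ V := MorphismProperty.Over.homMk g rfl
  have sqN := EtCoh.isPullback_bc_map f h
  let e := sqN.isoIsPullback _ _ sq
  have he1 : e.hom ≫ fst' = ((EtCoh.bc f).map h).left := IsPullback.isoIsPullback_hom_fst _ _ sqN sq
  have he2 : e.hom ≫ snd' = prV f N := IsPullback.isoIsPullback_hom_snd _ _ sqN sq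
  refine ⟨N, h, u, hgu, e.hom ⁻¹ᵁ C, hCcl.preimage e.hom.continuous, ?_, ?_⟩
  · have h1 : (e.hom ∣_ C) ≫ C.ι = (e.hom ⁻¹ᵁ C).ι ≫ e.hom := morphismRestrict_ι _ _
    have h3 : piC f N (e.hom ⁻¹ᵁ C) = (e.hom ∣_ C) ≫ (C.ι ≫ snd') := by
      unfold piC
      rw [← he2, ← Category.assoc, ← h1, Category.assoc]
    rw [h3]
    infer_instance
  · intro y hy
    apply hZC
    change fst' (e.hom y) ∈ Z
    rw [← Scheme.Hom.comp_apply, he1]
    exact hy

set_option backward.isDefEq.respectTransparency false in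
theorem epi_shr_map {F G : EtCoh.Ab X} (α : F ⟶ G) [Epi α] : Epi ((shr f).map α) := by
  haveI : Sheaf.IsLocallySurjective ((shr f).map α) := by
    constructor
    intro V s
    refine sieve_mem_of_jointly_surjective _ (fun v => ?_)
    obtain ⟨Z, hsZ, hZ⟩ := (mem_shriekSubgroup_iff' f G V (s : shriekSubgroup f G V).1).1
      (s : shriekSubgroup f G V).2
    obtain ⟨N, h, n, hn, C, hCcl, hCfin, hZC⟩ := exists_clopen_nbhd f V Z hZ v
    haveI := hCfin
    have hsN : SuppIn G (G.obj.map ((EtCoh.bc f).map h).op (s : shriekSubgroup f G V).1)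
        (C : Set ((EtCoh.bc f).obj N).left) :=
      ((suppIn_of_sectSupp G _ _ hsZ).map G ((EtCoh.bc f).map h)).mono G hZC
    obtain ⟨W, n', hn', t, ht, hαt⟩ := exists_lift_of_suppIn f N C α hCcl _ hsN n
    have hCW := isClosed_CW f N C W hCcl
    have htmem : t ∈ shriekSubgroup f F (NW N W) := by
      rw [mem_shriekSubgroup_iff']
      refine ⟨((CW f N C W : ((EtCoh.bc f).obj (NW N W)).left.Opens) : Set _),
        sectSupp_subset_of_suppIn F t _ hCW ht, ?_⟩
      haveI := isFinite_CW f N C W
      haveI : IsClosedImmersion (CW f N C W).ι :=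
        IsClosedImmersion.of_isPreimmersion _ (by rw [Scheme.Opens.range_ι]; exact hCW)
      have := (isProperOver_range_iff (prV f (NW N W)) (CW f N C W).ι).2 inferInstance
      rwa [Scheme.Opens.range_ι] at this
    refine ⟨NW N W, hW N W ≫ h, n', ⟨⟨t, htmem⟩, ?_⟩, ?_⟩
    · apply Subtype.ext
      change α.hom.app _ t = G.obj.map ((EtCoh.bc f).map (hW N W ≫ h)).op
        (s : shriekSubgroup f G V).1
      rw [hαt, map_map_apply, ← Functor.map_comp]
    · change h.left (W.hom n') = v
      rw [hn', hn]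
  infer_instance

end Main

end Groth.Agent.H7.SH
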