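import Mathlib
import Groth.Prelude.Def_EtShriek2
import Groth.Agent.Lib.Helper7.SHI
import Groth.Agent.Lib.Helper7.SHC
import Groth.Agent.Lib.Helper2.SerreAbC

/-!
# Helper7: SHJ — exactness of `f_!` for `f` separated and locally quasi-finite (S0684)
-/

set_option autoImplicit false

universe u

open CategoryTheory CategoryTheory.Limits Opposite AlgebraicGeometry MorphismProperty

namespace Groth.Agent.H7.SH

open EtShriek Groth.Agent.H1 Groth.Agent.H7.ShrSheaf Groth.Agent.H7.EZ

section Exact

/-- exactness of abelian étale sheaves can be checked on sections -/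
theorem exact_of_sections_et {Y : Scheme.{u}} (S : ShortComplex (EtCoh.Ab Y))
    (h : ∀ (U : Y.Etaleᵒᵖ) (x : S.X₂.obj.obj U), S.g.hom.app U x = 0 →
      ∃ y, S.f.hom.app U y = x) : S.Exact := by
  let P : ShortComplex (Y.Etaleᵒᵖ ⥤ AddCommGrpCat.{u + 1}) :=
    S.map (sheafToPresheaf Y.smallEtaleTopology AddCommGrpCat.{u + 1})
  have hP : P.Exact := by
    rw [ShortComplex.exact_iff_isZero_homology, Functor.isZero_iff]
    intro U
    refine IsZero.of_iso ?_ (P.mapHomologyIso ((evaluation _ _).obj U)).symm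
    rw [← ShortComplex.exact_iff_isZero_homology, ShortComplex.ab_exact_iff]
    intro x hx
    exact h U x hx
  haveI : PreservesFiniteLimits (presheafToSheaf Y.smallEtaleTopology AddCommGrpCat.{u + 1}) :=
    inferInstance
  haveI : PreservesFiniteColimits (presheafToSheaf Y.smallEtaleTopology AddCommGrpCat.{u + 1}) :=
    inferInstance
  have h2 : (P.map (presheafToSheaf Y.smallEtaleTopology AddCommGrpCat.{u + 1})).Exact := hP.map _
  let e : sheafToPresheaf Y.smallEtaleTopology AddCommGrpCat.{u + 1} ⋙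
      presheafToSheaf Y.smallEtaleTopology AddCommGrpCat.{u + 1} ≅ 𝟭 _ :=
    asIso (sheafificationAdjunction Y.smallEtaleTopology AddCommGrpCat.{u + 1}).counit
  have e2 : P.map (presheafToSheaf Y.smallEtaleTopology AddCommGrpCat.{u + 1}) ≅ S :=
    (S.mapNatIso e : S.map (sheafToPresheaf Y.smallEtaleTopology AddCommGrpCat.{u + 1} ⋙
      presheafToSheaf Y.smallEtaleTopology AddCommGrpCat.{u + 1}) ≅ S.map (𝟭 _))
  exact ShortComplex.exact_of_iso e2 h2

variable {X Y : Scheme.{u}} (f : X ⟶ Y) [LocallyOfFiniteType f]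

instance shr_additive : (shr f).Additive where
  map_add := by
    intro F G α β
    apply Sheaf.hom_ext
    ext V ⟨s, hs⟩
    rfl

lemma sectSupp_eq_of_injective {F G : EtCoh.Ab X} (m : F ⟶ G)
    (hm : ∀ U : X.Etale, Function.Injective (m.hom.app (op U))) (U : X.Etale)
    (a : F.obj.obj (op U)) :
    sectSupp F U a = sectSupp G U (m.hom.app (op U) a) := by
  refine subset_antisymm ?_ (sectSupp_map_subset m U a)
  intro x hx W g hw h0
  refine hx W g hw ?_
  apply hm W
  rw [app_map_apply, h0, map_zero]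

theorem exact_shr (S : ShortComplex (EtCoh.Ab X)) (hS : S.ShortExact) :
    (S.map (shr f)).Exact := by
  apply exact_of_sections_et
  intro V y hy
  have hy' : (S.g.hom.app (op ((EtCoh.bc f).obj V.unop))).hom
      (y : shriekSubgroup f S.X₂ V.unop).1 = 0 := congrArg Subtype.val hy
  obtain ⟨a, ha⟩ := Groth.Agent.H2.SerreAb.exists_of_shortExact hS _ _ hy'
  haveI := hS.mono_f
  have hinj : ∀ U : X.Etale, Function.Injective (S.f.hom.app (op U)) :=
    fun U => Groth.Agent.H2.SerreAb.injective_of_mono_sec S.f U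
  refine ⟨⟨a, ?_⟩, Subtype.ext ha⟩
  rw [mem_shriekSubgroup_iff']
  obtain ⟨Z, hZ, hp⟩ := (mem_shriekSubgroup_iff' f S.X₂ V.unop
    (y : shriekSubgroup f S.X₂ V.unop).1).1 (y : shriekSubgroup f S.X₂ V.unop).2
  refine ⟨Z, ?_, hp⟩
  rw [sectSupp_eq_of_injective S.f hinj]
  have ha' : S.f.hom.app (op ((EtCoh.bc f).obj V.unop)) a =
      (y : shriekSubgroup f S.X₂ V.unop).1 := ha
  rw [ha']
  exact hZ

variable [IsSeparated f] [LocallyQuasiFinite f]

theorem S0684_main :
    PreservesFiniteLimits (lowerShriek f) ∧ PreservesFiniteColimits (lowerShriek f) := by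
  have h1 : ∀ S : ShortComplex (EtCoh.Ab X), S.ShortExact →
      (S.map (shr f)).Exact ∧ Mono ((shr f).map S.f) := fun S hS =>
    ⟨exact_shr f S hS, by
      haveI := hS.mono_f
      exact mono_shr_map f S.f (fun U => Groth.Agent.H2.SerreAb.injective_of_mono_sec S.f U)⟩
  have h2 : ∀ S : ShortComplex (EtCoh.Ab X), S.ShortExact →
      (S.map (shr f)).Exact ∧ Epi ((shr f).map S.g) := fun S hS =>
    ⟨exact_shr f S hS, by
      haveI := hS.epi_g
      exact epi_shr_map f S.g⟩
  haveI : PreservesFiniteLimits (shr f) :=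
    ((Functor.preservesFiniteLimits_tfae (shr f)).out 0 3).1 h1
  haveI : PreservesFiniteColimits (shr f) :=
    ((Functor.preservesFiniteColimits_tfae (shr f)).out 0 3).1 h2
  exact ⟨preservesFiniteLimits_of_natIso (shrIso f).symm,
    preservesFiniteColimits_of_natIso (shrIso f).symm⟩

end Exact

end Groth.Agent.H7.SH
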