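import Mathlib
import Groth.Prelude.Def_EtShriek2
import Groth.Agent.Lib.Helper7.SHJ
import Groth.Agent.Lib.Helper7.SHF2

/-!
# Helper7: SHK — `f_!` is a left adjoint for `f` separated and locally quasi-finite (S0689)
-/

set_option autoImplicit false

universe u

open CategoryTheory CategoryTheory.Limits Opposite AlgebraicGeometry MorphismProperty

namespace Groth.Agent.H7.SH

open EtShriek

variable {X Y : Scheme.{u}} (f : X ⟶ Y) [IsSeparated f] [LocallyOfFiniteType f]
  [LocallyQuasiFinite f]

theorem preservesColimits_lowerShriek : PreservesColimitsOfSize.{u + 1, u + 1} (lowerShriek f) := by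
  obtain ⟨h1, h2⟩ := S0684_main f
  haveI := h2
  haveI : ∀ J : Type (u + 1), PreservesColimitsOfShape (Discrete J) (lowerShriek f) :=
    fun J => Groth.Agent.H7.SH2.preservesCoproducts_lowerShriek f J
  exact preservesColimits_of_preservesCoequalizers_and_coproducts _

theorem S0689_main : (lowerShriek f).IsLeftAdjoint := by
  haveI := preservesColimits_lowerShriek f
  exact isLeftAdjoint_of_preservesColimits_of_isSeparating
    (isSeparator_separator (EtCoh.Ab X)) _

end Groth.Agent.H7.SH
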