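import Mathlib

/-!
# Helper7: SHL — recognising a coproduct of abelian groups from projections
-/

set_option autoImplicit false

universe w v

open CategoryTheory CategoryTheory.Limits

namespace Groth.Agent.H7.SH

section Alg

variable {ι : Type v} {A : AddCommGrpCat.{w}} {B : ι → AddCommGrpCat.{w}}
  (P : ∀ i, A ⟶ B i)

/-- An abelian group with projections to a family of groups which are jointly injective, have
finite supports, and admit "delta" preimages is a coproduct of the family. -/
theorem nonempty_iso_sigma_of_proj [HasCoproduct B]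
    (hI : ∀ z : A, (∀ i, P i z = 0) → z = 0)
    (hII : ∀ z : A, {i | P i z ≠ 0}.Finite)
    (hIII : ∀ (i : ι) (t : B i), ∃ z : A, P i z = t ∧ ∀ j, j ≠ i → P j z = 0) :
    Nonempty (A ≅ ∐ B) := by
  classical
  choose σ hσ1 hσ2 using hIII
  have hσ : ∀ (i j : ι) (t : B i), P j (σ i t) = if h : i = j then h ▸ t else 0 := by
    intro i j t
    by_cases h : i = j
    · subst h
      simp [hσ1]
    · rw [dif_neg h]
      exact hσ2 i t j (fun e => h e.symm)
  have hσadd : ∀ (i : ι) (t t' : B i), σ i (t + t') = σ i t + σ i t' := by
    intro i t t'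
    rw [← sub_eq_zero]
    apply hI
    intro j
    rw [map_sub, map_add, hσ, hσ, hσ]
    by_cases h : i = j
    · subst h
      simp
    · simp [h]
  let σh : ∀ i, B i ⟶ A := fun i => AddCommGrpCat.ofHom (AddMonoidHom.mk' (σ i) (hσadd i))
  have hσh : ∀ i (t : B i), σh i t = σ i t := fun i t => rfl
  -- support
  have hsupp : ∀ (T : AddCommGrpCat.{w}) (g : ∀ i, B i ⟶ T) (z : A),
      (Function.support (fun i => g i (P i z))).Finite := by
    intro T g z
    refine (hII z).subset ?_
    intro i hi
    simp only [Function.mem_support] at hi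
    intro h0
    apply hi
    rw [h0, map_zero]
  -- decomposition
  have hdec : ∀ z : A, z = ∑ᶠ i, σh i (P i z) := by
    intro z
    rw [← sub_eq_zero]
    apply hI
    intro j
    rw [map_sub, sub_eq_zero]
    have h1 : (P j) (∑ᶠ i, σh i (P i z)) = ∑ᶠ i, (P j) (σh i (P i z)) :=
      AddMonoidHom.map_finsum (P j).hom (hsupp A σh z)
    rw [h1]
    rw [finsum_eq_single _ j]
    · rw [hσh, hσ]
      simp
    · intro i hi
      rw [hσh, hσ, dif_neg hi]
  let c : Cofan B := Cofan.mk A σh
  have hc : IsColimit c := by
    refine mkCofanColimit c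
      (fun s => AddCommGrpCat.ofHom
        { toFun := fun z => ∑ᶠ i, s.inj i (P i z)
          map_zero' := by simp
          map_add' := by
            intro z z'
            have := finsum_add_distrib (hsupp s.pt s.inj z) (hsupp s.pt s.inj z')
            rw [← this]
            congr 1
            funext i
            rw [map_add, map_add] })
      ?_ ?_
    · intro s j
      ext t
      change ∑ᶠ i, s.inj i (P i (σ j t)) = s.inj j t
      rw [finsum_eq_single _ j]
      · rw [hσ]
        simp
      · intro i hi
        rw [hσ, dif_neg (fun e => hi e.symm), map_zero]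
    · intro s m hm
      ext z
      change m z = ∑ᶠ i, s.inj i (P i z)
      conv_lhs => rw [hdec z]
      have h1 : m (∑ᶠ i, σh i (P i z)) = ∑ᶠ i, m (σh i (P i z)) :=
        AddMonoidHom.map_finsum m.hom (hsupp A σh z)
      rw [h1]
      congr 1
      funext i
      have := ConcreteCategory.congr_hom (hm i) (P i z)
      exact this
  exact ⟨hc.coconePointUniqueUpToIso (colimit.isColimit _)⟩

end Alg

end Groth.Agent.H7.SH
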