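import Mathlib
import Groth.Prelude.Def_EtShriek2
import Groth.Agent.Lib.Helper7.SHI
import Groth.Agent.Lib.Helper7.SHB
import Groth.Agent.Lib.Helper7.Sup1
import Groth.Agent.Lib.Helper2.FinStalkE

/-!
# Helper7: SHM — projections from the stalk of `f_! F` to the stalks of `F` at the lifts;
joint injectivity
-/

set_option autoImplicit false

universe u

open CategoryTheory CategoryTheory.Limits Opposite AlgebraicGeometry MorphismProperty

namespace Groth.Agent.H7.SH

open EtShriek Groth.Agent.H1 Groth.Agent.H7.ShrSheaf Groth.Agent.H7.EZ Groth.Agent.H2.FinStalk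

set_option backward.isDefEq.respectTransparency.types false in
/-- Over an algebraically closed field, geometric points lift along locally quasi-finite morphisms
through any given point of the fibre (copy of helper2's `exists_lift_of_finite`). -/
theorem exists_lift_of_lqf {X S : Scheme.{u}} (f : X ⟶ S) [LocallyQuasiFinite f]
    {Ω : Type u} [Field Ω] [IsAlgClosed Ω] (s : Spec (.of Ω) ⟶ S)
    (x : X) (hx : f x = s default) :
    ∃ (l : Spec (.of Ω) ⟶ X), l ≫ f = s ∧ l default = x := by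
  obtain ⟨⟨s, a⟩, rfl⟩ := (Scheme.SpecToEquivOfField Ω S).symm.surjective s
  obtain rfl : f x = s := by simp [hx, Scheme.SpecToEquivOfField]
  have hfin : (f.residueFieldMap x).hom.Finite :=
    Groth.Agent.H1.ResFin.finite_residueFieldMap_of_quasiFiniteAt f (f.quasiFiniteAt x)
  let m := (f.residueFieldMap x).hom
  dsimp at m
  algebraize [m, a.hom]
  haveI : Module.Finite (S.residueField (f x)) (X.residueField x) := hfin
  haveI : Algebra.IsAlgebraic (S.residueField (f x)) (X.residueField x) :=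
    Algebra.IsAlgebraic.of_finite _ _
  let b : X.residueField x →ₐ[S.residueField (f x)] Ω :=
    IsAlgClosed.lift
  have : f.residueFieldMap x ≫ CommRingCat.ofHom b.toRingHom = a := by
    ext1; exact b.comp_algebraMap
  refine ⟨Spec.map (CommRingCat.ofHom b.toRingHom) ≫ X.fromSpecResidueField x, ?_, ?_⟩
  · simp [Scheme.SpecToEquivOfField, ← this]
    rfl
  · dsimp
    apply Scheme.fromSpecResidueField_apply

section Pr

variable {X Y : Scheme.{u}} (f : X ⟶ Y) [IsSeparated f] [LocallyOfFiniteType f]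
  {Ω : Type u} [Field Ω] [IsAlgClosed Ω]

/-- the projection from the stalk of `f_! F` at `η` to the stalk of `F` at a lift `ξ` -/
noncomputable def pr (F : EtCoh.Ab X) (η : Spec (.of Ω) ⟶ Y) (ξ : Spec (.of Ω) ⟶ X)
    (hξ : ξ ≫ f = η) :
    (EtCoh.stalk η).obj ((shr f).obj F) ⟶ (EtCoh.stalk ξ).obj F :=
  (EtCoh.stalk η).map ((shrToPush f).app F) ≫ proj f F η ξ hξ

lemma pr_germ (F : EtCoh.Ab X) (η : Spec (.of Ω) ⟶ Y) (ξ : Spec (.of Ω) ⟶ X)
    (hξ : ξ ≫ f = η) (V : Y.Etale) (x : (Scheme.pointSmallEtale η).fiber.obj V)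
    (s : ((shr f).obj F).obj.obj (op V)) :
    pr f F η ξ hξ ((Scheme.pointSmallEtale η).toPresheafFiber V x ((shr f).obj F).obj s) =
      (Scheme.pointSmallEtale ξ).toPresheafFiber ((EtCoh.bc f).obj V) (liftPt f η ξ hξ V x) F.obj
        (s : shriekSubgroup f F V).1 := by
  have h1 := ConcreteCategory.congr_hom ((Scheme.pointSmallEtale η).toPresheafFiber_naturality
    ((shrToPush f).app F).hom V x) s
  unfold pr
  rw [ConcreteCategory.comp_apply]
  have h2 : (EtCoh.stalk η).map ((shrToPush f).app F)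
      ((Scheme.pointSmallEtale η).toPresheafFiber V x ((shr f).obj F).obj s) =
      (Scheme.pointSmallEtale η).toPresheafFiber V x ((EtCoh.push f).obj F).obj
        (s : shriekSubgroup f F V).1 := h1
  rw [h2]
  exact germ_proj_apply f F η ξ hξ V x _

section Inj

variable {X Y : Scheme.{u}} (f : X ⟶ Y) [IsSeparated f] [LocallyOfFiniteType f]
  [LocallyQuasiFinite f] {Ω : Type u} [Field Ω] [IsAlgClosed Ω]

lemma mem_vanOpen_of_not_mem_sectSupp (F : EtCoh.Ab X) (B : X.Etale) (σ : F.obj.obj (op B))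
    (y : B.left) (hy : y ∉ sectSupp F B σ) : y ∈ Groth.Agent.H7.Sup.vanOpen F B σ := by
  simp only [sectSupp, Set.mem_setOf_eq, not_forall, not_not] at hy
  obtain ⟨W, g, ⟨w, hw⟩, h0⟩ := hy
  exact (Groth.Agent.H7.Sup.mem_vanOpen F).2 ⟨W, g, h0, ⟨w, hw⟩⟩

/-- the lift of a geometric point of `V` through a geometric point of `X ×_Y V` -/
lemma liftPt_left_eq (η : Spec (.of Ω) ⟶ Y) (V : Y.Etale)
    (x : (Scheme.pointSmallEtale η).fiber.obj V)
    (l : Spec (.of Ω) ⟶ ((EtCoh.bc f).obj V).left) (hl : l ≫ prV f V = x.left) :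
    ∃ hξ : (l ≫ pullback.snd V.hom f) ≫ f = η,
      (liftPt f η (l ≫ pullback.snd V.hom f) hξ V x).left = l := by
  have hξ : (l ≫ pullback.snd V.hom f) ≫ f = η :=
    calc (l ≫ pullback.snd V.hom f) ≫ f = l ≫ (pullback.snd V.hom f ≫ f) := Category.assoc _ _ _
      _ = l ≫ (pullback.fst V.hom f ≫ V.hom) :=
          congrArg (fun m => l ≫ m) pullback.condition.symm
      _ = (l ≫ pullback.fst V.hom f) ≫ V.hom := (Category.assoc _ _ _).symm
      _ = x.left ≫ V.hom := congrArg (fun m => m ≫ V.hom) hl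
      _ = η := Over.w x
  refine ⟨hξ, ?_⟩
  apply pullback.hom_ext
  · exact (pullback.lift_fst _ _ _).trans hl.symm
  · exact pullback.lift_snd _ _ _

set_option backward.isDefEq.respectTransparency.types false in
/-- joint injectivity of the projections -/
theorem pr_injective (F : EtCoh.Ab X) (η : Spec (.of Ω) ⟶ Y)
    (z : ToType ((EtCoh.stalk η).obj ((shr f).obj F)))
    (hz : ∀ (ξ : Spec (.of Ω) ⟶ X) (hξ : ξ ≫ f = η), pr f F η ξ hξ z = 0) : z = 0 := by
  obtain ⟨V, x, s, rfl⟩ := (Scheme.pointSmallEtale η).toPresheafFiber_jointly_surjective z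
  obtain ⟨σ, hσ⟩ : ∃ σ : F.obj.obj (op ((EtCoh.bc f).obj V)),
    σ = (s : shriekSubgroup f F V).1 := ⟨_, rfl⟩
  have hvan : ∀ (ξ : Spec (.of Ω) ⟶ X) (hξ : ξ ≫ f = η),
      (liftPt f η ξ hξ V x).left (default : ↥(Spec (CommRingCat.of Ω))) ∈
        Groth.Agent.H7.Sup.vanOpen F ((EtCoh.bc f).obj V) σ := by
    intro ξ hξ
    have h1 : (Scheme.pointSmallEtale ξ).toPresheafFiber ((EtCoh.bc f).obj V)
        (liftPt f η ξ hξ V x) F.obj σ = 0 := by
      rw [hσ]
      exact (pr_germ f F η ξ hξ V x s).symm.trans (hz ξ hξ)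
    have h2 : (Scheme.pointSmallEtale ξ).toPresheafFiber ((EtCoh.bc f).obj V)
        (liftPt f η ξ hξ V x) F.obj σ =
        (Scheme.pointSmallEtale ξ).toPresheafFiber ((EtCoh.bc f).obj V)
        (liftPt f η ξ hξ V x) F.obj 0 := by
      rw [h1, map_zero]
    obtain ⟨W, g, w, hw, hs⟩ := ((Scheme.pointSmallEtale ξ).toPresheafFiber_eq_iff' _ _ _ _).mp h2
    rw [map_zero] at hs
    refine (Groth.Agent.H7.Sup.mem_vanOpen F).2 ⟨W, g, hs,
      w.left (default : ↥(Spec (CommRingCat.of Ω))), ?_⟩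
    rw [← hw]
    rfl
  -- the support
  obtain ⟨Z, hsZ, hZ⟩ := (mem_shriekSubgroup_iff' f F V (s : shriekSubgroup f F V).1).1
    (s : shriekSubgroup f F V).2
  rw [← hσ] at hsZ
  let O := Groth.Agent.H7.Sup.vanOpen F ((EtCoh.bc f).obj V) σ
  have hOZ : (O : Set ((EtCoh.bc f).obj V).left)ᶜ ⊆ Z := by
    intro y hy
    by_contra hyZ
    exact hy (mem_vanOpen_of_not_mem_sectSupp F _ σ y (fun h => hyZ (hsZ h)))
  have hZs : ClSub.IsProperOver (prV f V) (O : Set ((EtCoh.bc f).obj V).left)ᶜ :=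
    isProperOver_of_subset (prV f V) hZ O.2.isClosed_compl hOZ
  have hcl := isClosed_image_of_isProperOver (prV f V) _ hZs
  let Vo : V.left.Opens := ⟨(prV f V '' (O : Set ((EtCoh.bc f).obj V).left)ᶜ)ᶜ, hcl.isOpen_compl⟩
  have hVo1 : x.left (default : ↥(Spec (CommRingCat.of Ω))) ∈ Vo := by
    rintro ⟨y, hyO, hy⟩
    obtain ⟨l, hl1, hl2⟩ := exists_lift_of_lqf (prV f V) x.left y hy
    obtain ⟨hξ, hl⟩ := liftPt_left_eq f η V x l hl1
    have h2 := hvan (l ≫ pullback.snd V.hom f) hξ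
    have h3 : (liftPt f η (l ≫ pullback.snd V.hom f) hξ V x).left
        (default : ↥(Spec (CommRingCat.of Ω))) = y := by
      rw [hl]
      exact hl2
    exact hyO (h3 ▸ h2)
  obtain ⟨xo, hxo⟩ := exists_fiber_openObj η V Vo x hVo1
  have hzero : F.obj.map ((EtCoh.bc f).map (openIncl V Vo)).op σ = 0 := by
    rw [Groth.Agent.H7.Sup.map_eq_zero_iff]
    rintro _ ⟨q, rfl⟩
    by_contra hq
    have e0 : ((EtCoh.bc f).map (openIncl V Vo)).left ≫ pullback.fst V.hom f =
        pullback.fst (Groth.Agent.H2.FinStalk.openObj V Vo).hom f ≫ (openIncl V Vo).left :=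
      (EtCoh.isPullback_bc_map f (openIncl V Vo)).w
    have h2 : (pullback.fst V.hom f) (((EtCoh.bc f).map (openIncl V Vo)).left q) =
        Vo.ι ((pullback.fst (Groth.Agent.H2.FinStalk.openObj V Vo).hom f) q) :=
      congrArg (fun m : ((EtCoh.bc f).obj (Groth.Agent.H2.FinStalk.openObj V Vo)).left ⟶ V.left =>
        m q) e0
    have h3 : Vo.ι ((pullback.fst (Groth.Agent.H2.FinStalk.openObj V Vo).hom f) q) ∈ Vo :=
      ((pullback.fst (Groth.Agent.H2.FinStalk.openObj V Vo).hom f) q).2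
    exact h3 ⟨_, hq, h2⟩
  have hw := (Scheme.pointSmallEtale η).toPresheafFiber_w_apply (openIncl V Vo) xo
    ((shr f).obj F).obj s
  rw [hxo] at hw
  refine hw.symm.trans ?_
  have h0 : ((shr f).obj F).obj.map (openIncl V Vo).op s = 0 := by
    rw [shr_eq_zero_iff, shr_map_val, ← hσ]
    exact hzero
  rw [h0, map_zero]
  rfl

end Inj

end Pr

end Groth.Agent.H7.SH
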