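import Mathlib
import Groth.Prelude.Def_EtShriek2
import Groth.Agent.Lib.Helper7.SHM

/-!
# Helper7: SHN — refinement to a finite clopen part; finiteness of the support of the projections
-/

set_option autoImplicit false

universe u

open CategoryTheory CategoryTheory.Limits Opposite AlgebraicGeometry MorphismProperty

namespace Groth.Agent.H7.SH

open EtShriek Groth.Agent.H1 Groth.Agent.H7.ShrSheaf Groth.Agent.H7.EZ Groth.Agent.H2.FinStalk

section Germ

variable {X : Scheme.{u}} {Ω : Type u} [Field Ω] [IsAlgClosed Ω]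

set_option backward.isDefEq.respectTransparency.types false in
/-- the germ of a section supported in a closed and open set vanishes at geometric points outside -/
lemma germ_eq_zero_of_suppIn (F : EtCoh.Ab X) (ξ : Spec (.of Ω) ⟶ X) (B : X.Etale)
    (p : (Scheme.pointSmallEtale ξ).fiber.obj B) (σ : F.obj.obj (op B)) (C : B.left.Opens)
    (hC : IsClosed (C : Set B.left)) (hσ : SuppIn F σ (C : Set B.left))
    (hp : p.left (default : ↥(Spec (CommRingCat.of Ω))) ∉ C) :
    (Scheme.pointSmallEtale ξ).toPresheafFiber B p F.obj σ = 0 := by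
  let C' : B.left.Opens := ⟨(C : Set B.left)ᶜ, hC.isOpen_compl⟩
  obtain ⟨po, hpo⟩ := exists_fiber_openObj ξ B C' p hp
  have hw := (Scheme.pointSmallEtale ξ).toPresheafFiber_w_apply (openIncl B C') po F.obj σ
  rw [hpo] at hw
  rw [← hw]
  have h0 : F.obj.map (openIncl B C').op σ = 0 := by
    refine hσ _ (openIncl B C') (fun y => ?_)
    have : C'.ι y ∈ Set.range C'.ι := ⟨y, rfl⟩
    rw [Scheme.Opens.range_ι] at this
    exact this
  rw [h0, map_zero]

end Germ

section Refine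

variable {X Y : Scheme.{u}} (f : X ⟶ Y) [IsSeparated f] [LocallyOfFiniteType f]
  [LocallyQuasiFinite f] {Ω : Type u} [Field Ω] [IsAlgClosed Ω]

set_option backward.isDefEq.respectTransparency.types false in
theorem exists_refine (F : EtCoh.Ab X) (η : Spec (.of Ω) ⟶ Y) (V : Y.Etale)
    (x : (Scheme.pointSmallEtale η).fiber.obj V) (σ : F.obj.obj (op ((EtCoh.bc f).obj V)))
    (hσ : σ ∈ shriekSubgroup f F V) :
    ∃ (N : Y.Etale) (h : N ⟶ V) (x' : (Scheme.pointSmallEtale η).fiber.obj N),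
      (Scheme.pointSmallEtale η).fiber.map h x' = x ∧
      ∃ C : ((EtCoh.bc f).obj N).left.Opens, IsClosed (C : Set ((EtCoh.bc f).obj N).left) ∧
        IsFinite (piC f N C) ∧
        SuppIn F (F.obj.map ((EtCoh.bc f).map h).op σ) (C : Set ((EtCoh.bc f).obj N).left) := by
  obtain ⟨Z, hsZ, hZ⟩ := (mem_shriekSubgroup_iff' f F V σ).1 hσ
  obtain ⟨N, h, n, hn, C, hCcl, hCfin, hZC⟩ :=
    exists_clopen_nbhd f V Z hZ (x.left (default : ↥(Spec (CommRingCat.of Ω))))
  haveI : Etale h.left :=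
    EtCoh.etaleMP.of_postcomp (W' := EtCoh.etaleMP) h.left V.hom V.prop
      (by rw [MorphismProperty.Over.w h]; exact N.prop)
  obtain ⟨l, hl1, hl2⟩ := Scheme.exists_fac_of_etale_of_isSepClosed h.left x.left n hn
  have hw : l ≫ N.hom = η := by
    rw [← MorphismProperty.Over.w h, ← Category.assoc, hl1]
    exact Over.w x
  obtain ⟨x', hx'⟩ : ∃ x' : (Scheme.pointSmallEtale η).fiber.obj N, x'.left = l :=
    ⟨Over.homMk l hw, rfl⟩
  refine ⟨N, h, x', ?_, C, hCcl, hCfin, ?_⟩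
  · apply Over.OverMorphism.ext
    change x'.left ≫ h.left = x.left
    exact (congrArg (fun m => m ≫ h.left) hx').trans hl1
  · exact ((suppIn_of_sectSupp F _ _ hsZ).map F ((EtCoh.bc f).map h)).mono F hZC

lemma jC_lift (η : Spec (.of Ω) ⟶ Y) (N : Y.Etale) (C : ((EtCoh.bc f).obj N).left.Opens)
    (x' : (Scheme.pointSmallEtale η).fiber.obj N) (ξC : Spec (.of Ω) ⟶ (C : Scheme.{u}))
    (h : ξC ≫ piC f N C = x'.left) : (ξC ≫ jC f N C) ≫ f = η := by
  have hc : prV f N ≫ N.hom = ((EtCoh.bc f).obj N).hom ≫ f := pullback.condition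
  calc (ξC ≫ jC f N C) ≫ f = ξC ≫ C.ι ≫ (((EtCoh.bc f).obj N).hom ≫ f) := by
        simp only [Category.assoc]
    _ = ξC ≫ C.ι ≫ (prV f N ≫ N.hom) := by rw [hc]
    _ = (ξC ≫ piC f N C) ≫ N.hom := by simp only [Category.assoc]
    _ = x'.left ≫ N.hom := congrArg (fun m => m ≫ N.hom) h
    _ = η := Over.w x'

/-- the projection at `ξ` of a germ, after refinement -/
lemma pr_germ_refine (F : EtCoh.Ab X) (η : Spec (.of Ω) ⟶ Y) (ξ : Spec (.of Ω) ⟶ X)
    (hξ : ξ ≫ f = η) {V N : Y.Etale} (h : N ⟶ V)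
    (x' : (Scheme.pointSmallEtale η).fiber.obj N)
    (s : ((shr f).obj F).obj.obj (op V)) :
    pr f F η ξ hξ ((Scheme.pointSmallEtale η).toPresheafFiber V
      ((Scheme.pointSmallEtale η).fiber.map h x') ((shr f).obj F).obj s) =
      (Scheme.pointSmallEtale ξ).toPresheafFiber ((EtCoh.bc f).obj N) (liftPt f η ξ hξ N x') F.obj
        (F.obj.map ((EtCoh.bc f).map h).op (s : shriekSubgroup f F V).1) := by
  have hw := (Scheme.pointSmallEtale η).toPresheafFiber_w_apply h x' ((shr f).obj F).obj s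
  rw [← hw, pr_germ]
  rfl

set_option backward.isDefEq.respectTransparency.types false in
/-- finiteness of the support of the projections -/
theorem pr_finite_support (F : EtCoh.Ab X) (η : Spec (.of Ω) ⟶ Y)
    (z : ToType ((EtCoh.stalk η).obj ((shr f).obj F))) :
    {ξ : {ξ : Spec (.of Ω) ⟶ X // ξ ≫ f = η} | pr f F η ξ.1 ξ.2 z ≠ 0}.Finite := by
  obtain ⟨V, x, s, rfl⟩ := (Scheme.pointSmallEtale η).toPresheafFiber_jointly_surjective z
  obtain ⟨N, h, x', hx', C, hCcl, hCfin, hsupp⟩ := exists_refine f F η V x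
    (s : shriekSubgroup f F V).1 (s : shriekSubgroup f F V).2
  haveI := hCfin
  haveI : Finite {ξC : Spec (.of Ω) ⟶ (C : Scheme.{u}) // ξC ≫ piC f N C = x'.left} :=
    finite_lifts (piC f N C) x'.left
  let ψ : {ξC : Spec (.of Ω) ⟶ (C : Scheme.{u}) // ξC ≫ piC f N C = x'.left} →
      {ξ : Spec (.of Ω) ⟶ X // ξ ≫ f = η} :=
    fun ξC => ⟨ξC.1 ≫ jC f N C, jC_lift f η N C x' ξC.1 ξC.2⟩
  refine (Set.finite_range ψ).subset ?_
  rintro ⟨ξ, hξ⟩ hne
  subst hx'
  have e2 := pr_germ_refine f F η ξ hξ h x' s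
  obtain ⟨l, hl⟩ : ∃ l : Spec (.of Ω) ⟶ ((EtCoh.bc f).obj N).left,
    l = (liftPt f η ξ hξ N x').left := ⟨_, rfl⟩
  have hl1 : l ≫ prV f N = x'.left := by rw [hl]; exact pullback.lift_fst _ _ _
  have hl2 : l ≫ ((EtCoh.bc f).obj N).hom = ξ := by rw [hl]; exact pullback.lift_snd _ _ _
  have hp : l (default : ↥(Spec (CommRingCat.of Ω))) ∈ C := by
    by_contra hp
    rw [hl] at hp
    exact hne (e2.trans (germ_eq_zero_of_suppIn F ξ _ _ _ C hCcl hsupp hp))
  have hrange : Set.range l ⊆ Set.range C.ι := by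
    rintro _ ⟨a, rfl⟩
    have ha : a = (default : ↥(Spec (CommRingCat.of Ω))) := Subsingleton.elim _ _
    rw [Scheme.Opens.range_ι, ha]
    exact hp
  refine ⟨⟨IsOpenImmersion.lift C.ι l hrange, ?_⟩, Subtype.ext ?_⟩
  · change IsOpenImmersion.lift C.ι l hrange ≫ C.ι ≫ prV f N = x'.left
    rw [← Category.assoc, IsOpenImmersion.lift_fac, hl1]
  · change IsOpenImmersion.lift C.ι l hrange ≫ C.ι ≫ ((EtCoh.bc f).obj N).hom = ξ
    rw [← Category.assoc, IsOpenImmersion.lift_fac, hl2]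

end Refine

end Groth.Agent.H7.SH
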