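import Mathlib
import Groth.Prelude.Def_EtShriek2
import Groth.Agent.Lib.Helper7.SHN

/-!
# Helper7: SHO — a finite clopen part through a given point; stalks of a restriction along an
étale morphism
-/

set_option autoImplicit false

universe u

open CategoryTheory CategoryTheory.Limits Opposite AlgebraicGeometry MorphismProperty

namespace Groth.Agent.H7.SH

open EtShriek Groth.Agent.H1 Groth.Agent.H7.ShrSheaf Groth.Agent.H7.EZ Groth.Agent.H2.FinStalk

section Pt

variable {X Y : Scheme.{u}} (f : X ⟶ Y) [IsSeparated f] [LocallyOfFiniteType f]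
  [LocallyQuasiFinite f]

set_option backward.isDefEq.respectTransparency false in
/-- étale-locally on the base, a given point lies in an open and closed part finite over the
base -/
theorem exists_clopen_nbhd_pt (V : Y.Etale) (y₀ : ((EtCoh.bc f).obj V).left) :
    ∃ (N : Y.Etale) (h : N ⟶ V) (n : N.left), h.left n = prV f V y₀ ∧
      ∃ C : ((EtCoh.bc f).obj N).left.Opens, IsClosed (C : Set ((EtCoh.bc f).obj N).left) ∧
        IsFinite (piC f N C) ∧
        ∀ w : ((EtCoh.bc f).obj N).left, prV f N w = n → ((EtCoh.bc f).map h).left w = y₀ →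
          w ∈ C := by
  obtain ⟨U, g, u, hg, hgu, m, idx, V', v', hvinj, hFP, hall⟩ :=
    EtLocCore.core (prV f V) (prV f V y₀) (fun _ : Fin 1 => y₀)
      (fun a b _ => Subsingleton.elim a b) (fun _ => rfl)
      (fun _ => (prV f V).quasiFiniteAt y₀)
  haveI := hg
  let N : Y.Etale := Scheme.Etale.mk (g ≫ V.hom)
  let h : N ⟶ V := MorphismProperty.Over.homMk g rfl
  have sqN := EtCoh.isPullback_bc_map f h
  have sq : IsPullback (pullback.fst (prV f V) g) (pullback.snd (prV f V) g) (prV f V) g :=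
    IsPullback.of_hasPullback _ _
  let e := sqN.isoIsPullback _ _ sq
  have he1 : e.hom ≫ pullback.fst (prV f V) g = ((EtCoh.bc f).map h).left :=
    IsPullback.isoIsPullback_hom_fst _ _ sqN sq
  have he2 : e.hom ≫ pullback.snd (prV f V) g = prV f N :=
    IsPullback.isoIsPullback_hom_snd _ _ sqN sq
  let C₀ : (pullback (prV f V) g).Opens := ⨆ k, V' k
  have hC₀cl : IsClosed (C₀ : Set ↑(pullback (prV f V) g)) := by
    have : (C₀ : Set ↑(pullback (prV f V) g)) = ⋃ k, (V' k : Set ↑(pullback (prV f V) g)) := by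
      ext y
      simp [C₀]
    rw [this]
    exact isClosed_iUnion_of_finite (fun k => (hFP k).1.isClosed)
  haveI : IsSeparated (pullback.snd (prV f V) g) :=
    MorphismProperty.pullback_snd (P := @IsSeparated) _ _ inferInstance
  haveI : LocallyOfFiniteType (pullback.snd (prV f V) g) :=
    MorphismProperty.pullback_snd (P := @LocallyOfFiniteType) _ _ inferInstance
  have hC₀fin : IsFinite (C₀.ι ≫ pullback.snd (prV f V) g) :=
    EtLoc.isFinite_iSup _ _ (fun k => (hFP k).1.finite)
  refine ⟨N, h, u, hgu, e.hom ⁻¹ᵁ C₀, hC₀cl.preimage e.hom.continuous, ?_, ?_⟩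
  · have h1 : (e.hom ∣_ C₀) ≫ C₀.ι = (e.hom ⁻¹ᵁ C₀).ι ≫ e.hom := morphismRestrict_ι _ _
    have h3 : piC f N (e.hom ⁻¹ᵁ C₀) = (e.hom ∣_ C₀) ≫ (C₀.ι ≫ pullback.snd (prV f V) g) := by
      unfold piC
      rw [← he2, ← Category.assoc, ← h1, Category.assoc]
    rw [h3]
    infer_instance
  · intro w hw1 hw2
    have h1 : pullback.snd (prV f V) g (e.hom w) = u := by
      rw [← Scheme.Hom.comp_apply, he2]
      exact hw1
    have h2 : pullback.fst (prV f V) g (e.hom w) = y₀ := by
      rw [← Scheme.Hom.comp_apply, he1]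
      exact hw2
    obtain ⟨k, -, hk⟩ := hall (e.hom w) 0 h1 h2
    change e.hom w ∈ C₀
    rw [hk]
    simp only [C₀, TopologicalSpace.Opens.mem_iSup]
    exact ⟨k, (hFP k).1.mem⟩

end Pt

section Cmp

variable {U X : Scheme.{u}} (j : U ⟶ X) [Etale j] {Ω : Type u} [Field Ω] [IsSepClosed Ω]

/-- the geometric point of `T → U → X` induced by a geometric point of `T → U` -/
noncomputable def cpt (ξU : Spec (.of Ω) ⟶ U) (T : U.Etale)
    (p : (Scheme.pointSmallEtale ξU).fiber.obj T) :
    (Scheme.pointSmallEtale (ξU ≫ j)).fiber.obj ((compEtale j).obj T) :=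
  Over.homMk p.left (by
    change p.left ≫ T.hom ≫ j = ξU ≫ j
    rw [← Category.assoc]
    exact congrArg (fun m => m ≫ j) (Over.w p))

lemma cpt_left (ξU : Spec (.of Ω) ⟶ U) (T : U.Etale)
    (p : (Scheme.pointSmallEtale ξU).fiber.obj T) : (cpt j ξU T p).left = p.left := rfl

set_option backward.isDefEq.respectTransparency.types false in
lemma cpt_map (ξU : Spec (.of Ω) ⟶ U) {T T' : U.Etale} (g : T' ⟶ T)
    (p : (Scheme.pointSmallEtale ξU).fiber.obj T') :
    (Scheme.pointSmallEtale (ξU ≫ j)).fiber.map ((compEtale j).map g) (cpt j ξU T' p) =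
      cpt j ξU T ((Scheme.pointSmallEtale ξU).fiber.map g p) := by
  apply Over.OverMorphism.ext
  rfl

/-- comparison of the stalk of the restriction with the stalk -/
noncomputable def cmp (F : EtCoh.Ab X) (ξU : Spec (.of Ω) ⟶ U) :
    (EtCoh.stalk ξU).obj ((restrAlong j).obj F) ⟶ (EtCoh.stalk (ξU ≫ j)).obj F :=
  (Scheme.pointSmallEtale ξU).presheafFiberDesc (P := ((restrAlong j).obj F).obj)
    (fun T p => (Scheme.pointSmallEtale (ξU ≫ j)).toPresheafFiber ((compEtale j).obj T)
      (cpt j ξU T p) F.obj)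
    (by
      intro T' T g p
      have := (Scheme.pointSmallEtale (ξU ≫ j)).toPresheafFiber_w ((compEtale j).map g)
        (cpt j ξU T' p) F.obj
      rw [cpt_map] at this
      exact this)

lemma germ_cmp (F : EtCoh.Ab X) (ξU : Spec (.of Ω) ⟶ U) (T : U.Etale)
    (p : (Scheme.pointSmallEtale ξU).fiber.obj T) :
    (Scheme.pointSmallEtale ξU).toPresheafFiber T p ((restrAlong j).obj F).obj ≫ cmp j F ξU =
      (Scheme.pointSmallEtale (ξU ≫ j)).toPresheafFiber ((compEtale j).obj T) (cpt j ξU T p)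
        F.obj :=
  (Scheme.pointSmallEtale ξU).toPresheafFiber_presheafFiberDesc _ _ T p

lemma cmp_germ (F : EtCoh.Ab X) (ξU : Spec (.of Ω) ⟶ U) (T : U.Etale)
    (p : (Scheme.pointSmallEtale ξU).fiber.obj T)
    (b : F.obj.obj (op ((compEtale j).obj T))) :
    cmp j F ξU ((Scheme.pointSmallEtale ξU).toPresheafFiber T p ((restrAlong j).obj F).obj b) =
      (Scheme.pointSmallEtale (ξU ≫ j)).toPresheafFiber ((compEtale j).obj T) (cpt j ξU T p)
        F.obj b :=
  ConcreteCategory.congr_hom (germ_cmp j F ξU T p) b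

set_option backward.isDefEq.respectTransparency.types false in
lemma cmp_surjective (F : EtCoh.Ab X) (ξU : Spec (.of Ω) ⟶ U)
    (t : ToType ((EtCoh.stalk (ξU ≫ j)).obj F)) : ∃ t', cmp j F ξU t' = t := by
  obtain ⟨B, q, a, rfl⟩ := (Scheme.pointSmallEtale (ξU ≫ j)).toPresheafFiber_jointly_surjective t
  let T : U.Etale := (EtCoh.bc j).obj B
  have hq : q.left ≫ B.hom = ξU ≫ j := Over.w q
  obtain ⟨p, hp⟩ : ∃ p : (Scheme.pointSmallEtale ξU).fiber.obj T,
      p.left = pullback.lift q.left ξU hq :=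
    ⟨Over.homMk (pullback.lift q.left ξU hq) (pullback.lift_snd _ _ _), rfl⟩
  let ε : (compEtale j).obj T ⟶ B :=
    MorphismProperty.Over.homMk (pullback.fst B.hom j) pullback.condition
  refine ⟨(Scheme.pointSmallEtale ξU).toPresheafFiber T p ((restrAlong j).obj F).obj
    (F.obj.map ε.op a), ?_⟩
  rw [cmp_germ]
  have hw := (Scheme.pointSmallEtale (ξU ≫ j)).toPresheafFiber_w_apply ε (cpt j ξU T p) F.obj a
  rw [hw]
  have hq' : (Scheme.pointSmallEtale (ξU ≫ j)).fiber.map ε (cpt j ξU T p) = q := by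
    apply Over.OverMorphism.ext
    change p.left ≫ pullback.fst B.hom j = q.left
    rw [hp]
    exact pullback.lift_fst _ _ _
  rw [hq']
  rfl

end Cmp

end Groth.Agent.H7.SH
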