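import Mathlib
import Groth.Prelude.Def_EtShriek2
import Groth.Agent.Lib.Helper7.SHO
import Groth.Agent.Lib.Helper7.SHL

/-!
# Helper7: SHP — the stalk of `f_! F` for `f` separated and locally quasi-finite (S0683)
-/

set_option autoImplicit false

universe u

open CategoryTheory CategoryTheory.Limits Opposite AlgebraicGeometry MorphismProperty

namespace Groth.Agent.H7.SH

open EtShriek Groth.Agent.H1 Groth.Agent.H7.ShrSheaf Groth.Agent.H7.EZ Groth.Agent.H2.FinStalk

section Core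

variable {X Y : Scheme.{u}} (f : X ⟶ Y) [IsSeparated f] [LocallyOfFiniteType f]
  [LocallyQuasiFinite f] {Ω : Type u} [Field Ω] [IsAlgClosed Ω]

set_option backward.isDefEq.respectTransparency false in
lemma mem_shriekSubgroup_of_suppIn_CW (F : EtCoh.Ab X) (N : Y.Etale)
    (C : ((EtCoh.bc f).obj N).left.Opens) (hC : IsClosed (C : Set ((EtCoh.bc f).obj N).left))
    [IsFinite (piC f N C)] (W : N.left.Etale)
    (σ : F.obj.obj (op ((EtCoh.bc f).obj (NW N W))))
    (hσ : SuppIn F σ ((CW f N C W : ((EtCoh.bc f).obj (NW N W)).left.Opens) :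
      Set ((EtCoh.bc f).obj (NW N W)).left)) : σ ∈ shriekSubgroup f F (NW N W) := by
  have hCW := isClosed_CW f N C W hC
  rw [mem_shriekSubgroup_iff']
  refine ⟨((CW f N C W : ((EtCoh.bc f).obj (NW N W)).left.Opens) : Set _),
    sectSupp_subset_of_suppIn F σ _ hCW hσ, ?_⟩
  haveI := isFinite_CW f N C W
  haveI : IsClosedImmersion (CW f N C W).ι :=
    IsClosedImmersion.of_isPreimmersion _ (by rw [Scheme.Opens.range_ι]; exact hCW)
  have := (isProperOver_range_iff (prV f (NW N W)) (CW f N C W).ι).2 inferInstance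
  rwa [Scheme.Opens.range_ι] at this

/-- a lift of a geometric point of `N` to the open part gives a lift of `η` through the part -/
lemma liftPt_left_eq_of_lift (η : Spec (.of Ω) ⟶ Y) (N : Y.Etale)
    (C : ((EtCoh.bc f).obj N).left.Opens) (x' : (Scheme.pointSmallEtale η).fiber.obj N)
    (ξC : Spec (.of Ω) ⟶ (C : Scheme.{u})) (h : ξC ≫ piC f N C = x'.left) :
    (liftPt f η (ξC ≫ jC f N C) (jC_lift f η N C x' ξC h) N x').left = ξC ≫ C.ι := by
  apply pullback.hom_ext
  · refine (pullback.lift_fst _ _ _).trans ?_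
    exact h.symm.trans (Category.assoc _ _ _).symm
  · refine (pullback.lift_snd _ _ _).trans ?_
    exact (Category.assoc _ _ _).symm

set_option backward.isDefEq.respectTransparency false in
/-- the geometric point of `X ×_Y N'` at a lift through the open part, and its images -/
lemma liftPt_hW (η : Spec (.of Ω) ⟶ Y) (N : Y.Etale) (W : N.left.Etale)
    (ξ : Spec (.of Ω) ⟶ X) (hξ : ξ ≫ f = η)
    (x'' : (Scheme.pointSmallEtale η).fiber.obj (NW N W)) :
    (liftPt f η ξ hξ (NW N W) x'').left ≫ ((EtCoh.bc f).map (hW N W)).left =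
      (liftPt f η ξ hξ N ((Scheme.pointSmallEtale η).fiber.map (hW N W) x'')).left := by
  have := liftPt_map f η ξ hξ (hW N W) x''
  exact congrArg (fun m => m.left) this

set_option backward.isDefEq.respectTransparency false in
theorem exists_germ_of_family (F : EtCoh.Ab X) (η : Spec (.of Ω) ⟶ Y) (N : Y.Etale)
    (C : ((EtCoh.bc f).obj N).left.Opens) (hC : IsClosed (C : Set ((EtCoh.bc f).obj N).left))
    [IsFinite (piC f N C)] (x' : (Scheme.pointSmallEtale η).fiber.obj N)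
    (t' : ∀ ξC : {ξC : Spec (.of Ω) ⟶ (C : Scheme.{u}) // ξC ≫ piC f N C = x'.left},
      ToType ((EtCoh.stalk ξC.1).obj ((restrAlong (jC f N C)).obj F))) :
    ∃ z : ToType ((EtCoh.stalk η).obj ((shr f).obj F)),
      (∀ ξC : {ξC : Spec (.of Ω) ⟶ (C : Scheme.{u}) // ξC ≫ piC f N C = x'.left},
        pr f F η (ξC.1 ≫ jC f N C) (jC_lift f η N C x' ξC.1 ξC.2) z =
          cmp (jC f N C) F ξC.1 (t' ξC)) ∧
      (∀ (ξ : Spec (.of Ω) ⟶ X) (hξ : ξ ≫ f = η),
        (liftPt f η ξ hξ N x').left (default : ↥(Spec (CommRingCat.of Ω))) ∉ C →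
          pr f F η ξ hξ z = 0) := by
  obtain ⟨zC, hzC⟩ := proj_surjective (piC f N C) ((restrAlong (jC f N C)).obj F) x'.left t'
  obtain ⟨W, w, b, rfl⟩ :=
    (Scheme.pointSmallEtale x'.left).toPresheafFiber_jointly_surjective zC
  obtain ⟨b', hb'⟩ : ∃ b' : F.obj.obj (op ((compEtale (jC f N C)).obj
      ((EtCoh.bc (piC f N C)).obj W))), b' = b := ⟨b, rfl⟩
  have hC' := isClosed_CW f N C W hC
  obtain ⟨σ, hσ⟩ : ∃ σ : F.obj.obj (op ((EtCoh.bc f).obj (NW N W))),
      σ = extClopen F _ (CW f N C W) hC' (F.obj.map (kappa f N C W).op b') := ⟨_, rfl⟩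
  have hσsupp : SuppIn F σ ((CW f N C W : ((EtCoh.bc f).obj (NW N W)).left.Opens) :
      Set ((EtCoh.bc f).obj (NW N W)).left) := by
    rw [hσ]
    exact suppIn_extClopen F _ _ hC' _
  have hσmem := mem_shriekSubgroup_of_suppIn_CW f F N C hC W σ hσsupp
  have hσres : F.obj.map (openHom _ (CW f N C W)).op σ = F.obj.map (kappa f N C W).op b' := by
    rw [hσ]
    exact extClopen_res F _ _ hC' _
  -- the geometric point of `N'`
  have hw : w.left ≫ W.hom = x'.left := Over.w w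
  have hw' : w.left ≫ (NW N W).hom = η := by
    change w.left ≫ W.hom ≫ N.hom = η
    rw [← Category.assoc, hw]
    exact Over.w x'
  obtain ⟨x'', hx''⟩ : ∃ x'' : (Scheme.pointSmallEtale η).fiber.obj (NW N W),
      x''.left = w.left := ⟨Over.homMk w.left hw', rfl⟩
  have hx''map : (Scheme.pointSmallEtale η).fiber.map (hW N W) x'' = x' := by
    apply Over.OverMorphism.ext
    change x''.left ≫ W.hom = x'.left
    exact (congrArg (fun m => m ≫ W.hom) hx'').trans hw
  refine ⟨(Scheme.pointSmallEtale η).toPresheafFiber (NW N W) x'' ((shr f).obj F).obj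
    ⟨σ, hσmem⟩, ?_, ?_⟩
  · intro ξC
    obtain ⟨ξ, hξdef⟩ : ∃ ξ : Spec (.of Ω) ⟶ X, ξ = ξC.1 ≫ jC f N C := ⟨_, rfl⟩
    have hξ : ξ ≫ f = η := hξdef ▸ jC_lift f η N C x' ξC.1 ξC.2
    -- the point over `N'`
    obtain ⟨p'', hp''⟩ : ∃ p'' : (Scheme.pointSmallEtale ξ).fiber.obj
        ((EtCoh.bc f).obj (NW N W)), p'' = liftPt f η ξ hξ (NW N W) x'' := ⟨_, rfl⟩
    have hl1 : p''.left ≫ prV f (NW N W) = x''.left := by
      rw [hp'']
      exact pullback.lift_fst _ _ _
    have hl2 : p''.left ≫ ((EtCoh.bc f).map (hW N W)).left = ξC.1 ≫ C.ι := by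
      rw [hp'', liftPt_hW]
      subst hξdef
      have := liftPt_left_eq_of_lift f η N C x' ξC.1 ξC.2
      rw [← this]
      congr 2
    have hmem : p''.left (default : ↥(Spec (CommRingCat.of Ω))) ∈ CW f N C W := by
      change ((EtCoh.bc f).map (hW N W)).left
        (p''.left (default : ↥(Spec (CommRingCat.of Ω)))) ∈ C
      have e : ((EtCoh.bc f).map (hW N W)).left
          (p''.left (default : ↥(Spec (CommRingCat.of Ω)))) =
          C.ι (ξC.1 (default : ↥(Spec (CommRingCat.of Ω)))) :=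
        congrArg (fun m : Spec (.of Ω) ⟶ ((EtCoh.bc f).obj N).left =>
          m (default : ↥(Spec (CommRingCat.of Ω)))) hl2
      rw [e]
      have : C.ι (ξC.1 (default : ↥(Spec (CommRingCat.of Ω)))) ∈ Set.range C.ι := ⟨_, rfl⟩
      rw [Scheme.Opens.range_ι] at this
      exact this
    obtain ⟨po, hpo⟩ : ∃ po : (Scheme.pointSmallEtale ξ).fiber.obj
        (openObj ((EtCoh.bc f).obj (NW N W)) (CW f N C W)),
        (Scheme.pointSmallEtale ξ).fiber.map (openHom _ (CW f N C W)) po = p'' :=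
      exists_fiber_openObj ξ _ (CW f N C W) p'' hmem
    have hpo' : po.left ≫ (CW f N C W).ι = p''.left := congrArg (fun m => m.left) hpo
    subst hξdef
    have key : (Scheme.pointSmallEtale (ξC.1 ≫ jC f N C)).fiber.map (kappa f N C W) po =
        cpt (jC f N C) ξC.1 ((EtCoh.bc (piC f N C)).obj W)
          (liftPt (piC f N C) x'.left ξC.1 ξC.2 W w) := by
      apply Over.OverMorphism.ext
      change po.left ≫ kappaLeft f N C W = pullback.lift w.left ξC.1 _
      apply pullback.hom_ext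
      · rw [Category.assoc]
        unfold kappaLeft
        rw [pullback.lift_fst, pullback.lift_fst]
        exact ((Category.assoc _ _ _).symm.trans
          (congrArg (fun m => m ≫ prV f (NW N W)) hpo')).trans (hl1.trans hx'')
      · rw [Category.assoc]
        unfold kappaLeft
        rw [pullback.lift_snd, pullback.lift_snd, ← cancel_mono C.ι, Category.assoc,
          morphismRestrict_ι]
        exact ((Category.assoc _ _ _).symm.trans
          (congrArg (fun m => m ≫ ((EtCoh.bc f).map (hW N W)).left) hpo')).trans hl2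
    have lhs : pr f F η (ξC.1 ≫ jC f N C) (jC_lift f η N C x' ξC.1 ξC.2)
        ((Scheme.pointSmallEtale η).toPresheafFiber (NW N W) x'' ((shr f).obj F).obj
          ⟨σ, hσmem⟩) =
        (Scheme.pointSmallEtale (ξC.1 ≫ jC f N C)).toPresheafFiber _
          ((Scheme.pointSmallEtale (ξC.1 ≫ jC f N C)).fiber.map (kappa f N C W) po) F.obj b' := by
      rw [pr_germ]
      change (Scheme.pointSmallEtale (ξC.1 ≫ jC f N C)).toPresheafFiber _
        (liftPt f η (ξC.1 ≫ jC f N C) _ (NW N W) x'') F.obj σ = _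
      rw [← hp'', ← hpo, ← (Scheme.pointSmallEtale (ξC.1 ≫ jC f N C)).toPresheafFiber_w_apply,
        hσres, (Scheme.pointSmallEtale (ξC.1 ≫ jC f N C)).toPresheafFiber_w_apply]
    have h3 := germ_proj_apply (piC f N C) ((restrAlong (jC f N C)).obj F) x'.left ξC.1 ξC.2 W w b
    have h4 := cmp_germ (jC f N C) F ξC.1 _ (liftPt (piC f N C) x'.left ξC.1 ξC.2 W w) b'
    rw [lhs, key]
    subst hb'
    exact h4.symm.trans (congrArg (fun t => cmp (jC f N C) F ξC.1 t) (h3.symm.trans (hzC ξC)))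
  · intro ξ hξ hnot
    rw [pr_germ]
    refine germ_eq_zero_of_suppIn F ξ _ _ σ (CW f N C W) hC' hσsupp ?_
    intro hmem
    apply hnot
    have h1 := liftPt_hW f η N W ξ hξ x''
    rw [hx''map] at h1
    have e : (liftPt f η ξ hξ N x').left (default : ↥(Spec (CommRingCat.of Ω))) =
        ((EtCoh.bc f).map (hW N W)).left
          ((liftPt f η ξ hξ (NW N W) x'').left (default : ↥(Spec (CommRingCat.of Ω)))) :=
      congrArg (fun m : Spec (.of Ω) ⟶ ((EtCoh.bc f).obj N).left =>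
        m (default : ↥(Spec (CommRingCat.of Ω)))) h1.symm
    rw [e]
    exact hmem

set_option backward.isDefEq.respectTransparency false in
/-- every lift of `η` factors through a finite open and closed part of some `X ×_Y N` -/
theorem exists_lift_to_clopen (η : Spec (.of Ω) ⟶ Y) (ξ₀ : Spec (.of Ω) ⟶ X)
    (hξ₀ : ξ₀ ≫ f = η) :
    ∃ (N : Y.Etale) (x' : (Scheme.pointSmallEtale η).fiber.obj N)
      (C : ((EtCoh.bc f).obj N).left.Opens), IsClosed (C : Set ((EtCoh.bc f).obj N).left) ∧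
      IsFinite (piC f N C) ∧ ∃ ξ₀C : Spec (.of Ω) ⟶ (C : Scheme.{u}),
        ξ₀C ≫ piC f N C = x'.left ∧ ξ₀C ≫ jC f N C = ξ₀ := by
  obtain ⟨x₀, hx₀⟩ : ∃ x₀ : (Scheme.pointSmallEtale η).fiber.obj (EtCoh.top Y), x₀.left = η :=
    ⟨Over.homMk η (Category.comp_id η), rfl⟩
  obtain ⟨l₀, hl₀⟩ : ∃ l₀ : Spec (.of Ω) ⟶ ((EtCoh.bc f).obj (EtCoh.top Y)).left,
    l₀ = (liftPt f η ξ₀ hξ₀ (EtCoh.top Y) x₀).left := ⟨_, rfl⟩
  have hl₀1 : l₀ ≫ prV f (EtCoh.top Y) = x₀.left := by rw [hl₀]; exact pullback.lift_fst _ _ _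
  obtain ⟨N, h, n, hn, C, hCcl, hCfin, hall⟩ := exists_clopen_nbhd_pt f (EtCoh.top Y)
    (l₀ (default : ↥(Spec (CommRingCat.of Ω))))
  haveI : Etale h.left :=
    EtCoh.etaleMP.of_postcomp (W' := EtCoh.etaleMP) h.left (EtCoh.top Y).hom (EtCoh.top Y).prop
      (by rw [MorphismProperty.Over.w h]; exact N.prop)
  have hn' : h.left n = x₀.left (default : ↥(Spec (CommRingCat.of Ω))) := by
    rw [hn]
    exact congrArg (fun m : Spec (.of Ω) ⟶ (EtCoh.top Y).left =>
      m (default : ↥(Spec (CommRingCat.of Ω)))) hl₀1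
  obtain ⟨l, hl1, hl2⟩ := Scheme.exists_fac_of_etale_of_isSepClosed h.left x₀.left n hn'
  have hw : l ≫ N.hom = η := by
    rw [← MorphismProperty.Over.w h, ← Category.assoc, hl1]
    exact Over.w x₀
  obtain ⟨x', hx'⟩ : ∃ x' : (Scheme.pointSmallEtale η).fiber.obj N, x'.left = l :=
    ⟨Over.homMk l hw, rfl⟩
  have hx'map : (Scheme.pointSmallEtale η).fiber.map h x' = x₀ := by
    apply Over.OverMorphism.ext
    change x'.left ≫ h.left = x₀.left
    exact (congrArg (fun m => m ≫ h.left) hx').trans hl1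
  obtain ⟨l₁, hl₁⟩ : ∃ l₁ : Spec (.of Ω) ⟶ ((EtCoh.bc f).obj N).left,
    l₁ = (liftPt f η ξ₀ hξ₀ N x').left := ⟨_, rfl⟩
  have hl₁1 : l₁ ≫ prV f N = x'.left := by rw [hl₁]; exact pullback.lift_fst _ _ _
  have hl₁2 : l₁ ≫ ((EtCoh.bc f).obj N).hom = ξ₀ := by rw [hl₁]; exact pullback.lift_snd _ _ _
  have hl₁3 : l₁ ≫ ((EtCoh.bc f).map h).left = l₀ := by
    rw [hl₁, hl₀]
    have := liftPt_map f η ξ₀ hξ₀ h x'
    rw [hx'map] at this
    exact congrArg (fun m => m.left) this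
  have hmem : l₁ (default : ↥(Spec (CommRingCat.of Ω))) ∈ C := by
    apply hall
    · have e : prV f N (l₁ (default : ↥(Spec (CommRingCat.of Ω)))) =
          x'.left (default : ↥(Spec (CommRingCat.of Ω))) :=
        congrArg (fun m : Spec (.of Ω) ⟶ N.left =>
          m (default : ↥(Spec (CommRingCat.of Ω)))) hl₁1
      rw [e, hx']
      exact hl2
    · exact congrArg (fun m : Spec (.of Ω) ⟶ ((EtCoh.bc f).obj (EtCoh.top Y)).left =>
        m (default : ↥(Spec (CommRingCat.of Ω)))) hl₁3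
  have hrange : Set.range l₁ ⊆ Set.range C.ι := by
    rintro _ ⟨a, rfl⟩
    have ha : a = (default : ↥(Spec (CommRingCat.of Ω))) := Subsingleton.elim _ _
    rw [Scheme.Opens.range_ι, ha]
    exact hmem
  refine ⟨N, x', C, hCcl, hCfin, IsOpenImmersion.lift C.ι l₁ hrange, ?_, ?_⟩
  · change IsOpenImmersion.lift C.ι l₁ hrange ≫ C.ι ≫ prV f N = x'.left
    rw [← Category.assoc, IsOpenImmersion.lift_fac, hl₁1]
  · change IsOpenImmersion.lift C.ι l₁ hrange ≫ C.ι ≫ ((EtCoh.bc f).obj N).hom = ξ₀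
    rw [← Category.assoc, IsOpenImmersion.lift_fac, hl₁2]

set_option backward.isDefEq.respectTransparency false in
theorem exists_delta (F : EtCoh.Ab X) (η : Spec (.of Ω) ⟶ Y) (ξ₀ : Spec (.of Ω) ⟶ X)
    (hξ₀ : ξ₀ ≫ f = η) (t₀ : ToType ((EtCoh.stalk ξ₀).obj F)) :
    ∃ z : ToType ((EtCoh.stalk η).obj ((shr f).obj F)), pr f F η ξ₀ hξ₀ z = t₀ ∧
      ∀ (ξ : Spec (.of Ω) ⟶ X) (hξ : ξ ≫ f = η), ξ ≠ ξ₀ → pr f F η ξ hξ z = 0 := by
  classical
  obtain ⟨N, x', C, hCcl, hCfin, ξ₀C, h1, h2⟩ := exists_lift_to_clopen f η ξ₀ hξ₀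
  haveI := hCfin
  subst h2
  obtain ⟨t'₀, ht'₀⟩ := cmp_surjective (jC f N C) F ξ₀C t₀
  let L := {ξC : Spec (.of Ω) ⟶ (C : Scheme.{u}) // ξC ≫ piC f N C = x'.left}
  let i₀ : L := ⟨ξ₀C, h1⟩
  obtain ⟨t', ht'⟩ : ∃ t' : ∀ ξC : L,
      ((EtCoh.stalk ξC.1).obj ((restrAlong (jC f N C)).obj F) : Type (u + 1)),
      t' = Pi.single i₀ t'₀ := ⟨_, rfl⟩
  obtain ⟨z, hz1, hz2⟩ := exists_germ_of_family f F η N C hCcl x' t'
  refine ⟨z, ?_, ?_⟩
  · have := hz1 i₀
    have e : t' i₀ = t'₀ := by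
      rw [ht']
      exact Pi.single_eq_same (M := fun ξC : L =>
        ((EtCoh.stalk ξC.1).obj ((restrAlong (jC f N C)).obj F) : Type (u + 1))) i₀ t'₀
    rw [e, ht'₀] at this
    exact this
  · intro ξ hξ hne
    by_cases hmem : (liftPt f η ξ hξ N x').left (default : ↥(Spec (CommRingCat.of Ω))) ∈ C
    · obtain ⟨l, hl⟩ : ∃ l : Spec (.of Ω) ⟶ ((EtCoh.bc f).obj N).left,
        l = (liftPt f η ξ hξ N x').left := ⟨_, rfl⟩
      have hl1 : l ≫ prV f N = x'.left := by rw [hl]; exact pullback.lift_fst _ _ _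
      have hl2 : l ≫ ((EtCoh.bc f).obj N).hom = ξ := by rw [hl]; exact pullback.lift_snd _ _ _
      have hrange : Set.range l ⊆ Set.range C.ι := by
        rintro _ ⟨a, rfl⟩
        have ha : a = (default : ↥(Spec (CommRingCat.of Ω))) := Subsingleton.elim _ _
        rw [Scheme.Opens.range_ι, ha, hl]
        exact hmem
      obtain ⟨ξC, hξC⟩ : ∃ ξC : Spec (.of Ω) ⟶ (C : Scheme.{u}), ξC ≫ C.ι = l :=
        ⟨IsOpenImmersion.lift C.ι l hrange, IsOpenImmersion.lift_fac _ _ _⟩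
      have k1 : ξC ≫ piC f N C = x'.left := by
        change ξC ≫ C.ι ≫ prV f N = x'.left
        rw [← Category.assoc, hξC, hl1]
      have k2 : ξC ≫ jC f N C = ξ := by
        change ξC ≫ C.ι ≫ ((EtCoh.bc f).obj N).hom = ξ
        rw [← Category.assoc, hξC, hl2]
      clear hl hl1 hl2 hrange hξC hmem
      subst k2
      have hne' : (⟨ξC, k1⟩ : L) ≠ i₀ := by
        intro e
        apply hne
        have : ξC = ξ₀C := congrArg Subtype.val e
        rw [this]
      have := hz1 ⟨ξC, k1⟩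
      have e : t' ⟨ξC, k1⟩ = 0 := by
        rw [ht']
        exact Pi.single_eq_of_ne (M := fun ξC : L =>
          ((EtCoh.stalk ξC.1).obj ((restrAlong (jC f N C)).obj F) : Type (u + 1))) hne' t'₀
      rw [e, map_zero] at this
      exact this
    · exact hz2 ξ hξ hmem

end Core

section Final

variable {X Y : Scheme.{u}} (f : X ⟶ Y) [IsSeparated f] [LocallyOfFiniteType f]
  [LocallyQuasiFinite f] {Ω : Type u} [Field Ω] [IsAlgClosed Ω]

theorem S0683_main (F : EtCoh.Ab X) (η : Spec (CommRingCat.of Ω) ⟶ Y) :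
    Nonempty ((EtCoh.stalk η).obj ((EtShriek.lowerShriek f).obj F) ≅
      ∐ fun ξ : {ξ : Spec (CommRingCat.of Ω) ⟶ X // ξ ≫ f = η} => (EtCoh.stalk ξ.1).obj F) := by
  obtain ⟨e⟩ := nonempty_iso_sigma_of_proj (A := (EtCoh.stalk η).obj ((shr f).obj F))
    (B := fun ξ : {ξ : Spec (CommRingCat.of Ω) ⟶ X // ξ ≫ f = η} => (EtCoh.stalk ξ.1).obj F)
    (fun ξ => pr f F η ξ.1 ξ.2)
    (fun z h => pr_injective f F η z (fun ξ hξ => h ⟨ξ, hξ⟩))
    (fun z => pr_finite_support f F η z)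
    (fun i t => by
      obtain ⟨z, hz1, hz2⟩ := exists_delta f F η i.1 i.2 t
      exact ⟨z, hz1, fun j hj => hz2 j.1 j.2 (fun e => hj (Subtype.ext e))⟩)
  exact ⟨(EtCoh.stalk η).mapIso ((shrIso f).app F) ≪≫ e⟩

end Final

end Groth.Agent.H7.SH
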