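import Mathlib
import Groth.Prelude.Def_GSzCSA
import Groth.Agent.Lib.Helper7.Desc2

set_option autoImplicit false

namespace Groth.Agent.H7.SLn
universe u
open scoped MatrixGroups Matrix
attribute [local instance] CSAGal.matrixAction GpH1.unitsAction

theorem smul_eq_map {K L : Type u} [Field K] [Field L] [Algebra K L] {n : ℕ}
    (σ : L ≃ₐ[K] L) (M : Matrix (Fin n) (Fin n) L) : σ • M = M.map σ := by
  ext i j
  simp [Matrix.smul_apply, AlgEquiv.smul_def]

theorem det_map {K L : Type u} [Field K] [Field L] [Algebra K L] {n : ℕ}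
    (σ : L ≃ₐ[K] L) (M : Matrix (Fin n) (Fin n) L) : (M.map σ).det = σ M.det := by
  have := RingHom.map_det (σ : L →+* L) M
  exact this.symm

theorem map_mul' {K L : Type u} [Field K] [Field L] [Algebra K L] {n : ℕ}
    (σ : L ≃ₐ[K] L) (M N : Matrix (Fin n) (Fin n) L) :
    (M * N).map σ = M.map σ * N.map σ := by
  exact Matrix.map_mul (f := (σ : L →+* L))

theorem map_one' {K L : Type u} [Field K] [Field L] [Algebra K L] {n : ℕ}
    (σ : L ≃ₐ[K] L) : (1 : Matrix (Fin n) (Fin n) L).map σ = 1 := by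
  exact Matrix.map_one (σ : L →+* L) (map_zero _) (map_one _)

theorem exists_fixed_diag {K L : Type u} [Field K] [Field L] [Algebra K L] (n : ℕ) (d : K)
    (M : Matrix (Fin n) (Fin n) L) (hM : M.det = algebraMap K L d) :
    ∃ D : Matrix (Fin n) (Fin n) L, D.det = M.det ∧ ∀ σ : L ≃ₐ[K] L, D.map σ = D := by
  classical
  rcases Nat.eq_zero_or_pos n with hn | hn
  · subst hn
    exact ⟨1, by rw [Matrix.det_isEmpty, Matrix.det_isEmpty], fun σ => map_one' σ⟩
  · refine ⟨Matrix.diagonal (fun i => if i = ⟨0, hn⟩ then algebraMap K L d else 1), ?_, fun σ => ?_⟩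
    · rw [Matrix.det_diagonal, hM, Finset.prod_ite_eq' Finset.univ (⟨0, hn⟩ : Fin n)]
      simp
    · ext i j
      rw [Matrix.map_apply, Matrix.diagonal_apply]
      split_ifs <;> simp

theorem main (K L : Type u) [Field K] [Field L]
    [Algebra K L] [FiniteDimensional K L] [IsGalois K L] (n : ℕ)
    (B : (L ≃ₐ[K] L) → GL (Fin n) L)
    (hB : ∀ σ τ : L ≃ₐ[K] L,
      (B σ : Matrix (Fin n) (Fin n) L) * (B τ : Matrix (Fin n) (Fin n) L).map σ =
        (B (σ * τ) : Matrix (Fin n) (Fin n) L))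
    (hdet : ∀ σ : L ≃ₐ[K] L, Matrix.det (B σ : Matrix (Fin n) (Fin n) L) = 1) :
    ∃ A : GL (Fin n) L, Matrix.det (A : Matrix (Fin n) (Fin n) L) = 1 ∧ ∀ σ : L ≃ₐ[K] L,
      (B σ : Matrix (Fin n) (Fin n) L) =
        ((A⁻¹ : GL (Fin n) L) : Matrix (Fin n) (Fin n) L) * (A : Matrix (Fin n) (Fin n) L).map σ := by
  classical
  -- the cocycle
  let a : GpH1.OneCocycle (L ≃ₐ[K] L) (GL (Fin n) L) := ⟨B, fun σ τ => by
    apply Units.ext
    rw [Units.val_mul, Groth.Agent.H7.Desc.coe_smul_GL, smul_eq_map]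
    exact (hB σ τ).symm⟩
  obtain ⟨C, hC⟩ := Groth.Agent.H7.Desc.exists_GL_coboundary a
  have hC' : ∀ σ : L ≃ₐ[K] L,
      (B σ : Matrix (Fin n) (Fin n) L) * (C : Matrix (Fin n) (Fin n) L).map σ = C := by
    intro σ
    have h := congrArg (fun g : GL (Fin n) L => (g : Matrix (Fin n) (Fin n) L)) (hC σ)
    simp only [Units.val_mul, Groth.Agent.H7.Desc.coe_smul_GL, smul_eq_map] at h
    exact h
  -- determinant of C is Galois-fixed
  have hdetC : ∀ σ : L ≃ₐ[K] L, σ (Matrix.det (C : Matrix (Fin n) (Fin n) L)) =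
      Matrix.det (C : Matrix (Fin n) (Fin n) L) := by
    intro σ
    have h := congrArg Matrix.det (hC' σ)
    rw [Matrix.det_mul, hdet σ, one_mul, det_map] at h
    exact h
  obtain ⟨d, hd⟩ := (IsGalois.mem_range_algebraMap_iff_fixed
    (Matrix.det (C : Matrix (Fin n) (Fin n) L))).mpr hdetC
  have hCu : IsUnit (Matrix.det (C : Matrix (Fin n) (Fin n) L)) :=
    (Matrix.isUnit_iff_isUnit_det _).mp C.isUnit
  obtain ⟨D, hDdet, hDfix⟩ := exists_fixed_diag n d (C : Matrix (Fin n) (Fin n) L) hd.symm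
  have hDu : IsUnit D := (Matrix.isUnit_iff_isUnit_det _).mpr (hDdet ▸ hCu)
  -- `(C.map σ) * (C⁻¹.map σ) = 1`
  have hinv : ∀ σ : L ≃ₐ[K] L, (C : Matrix (Fin n) (Fin n) L).map σ *
      ((C⁻¹ : GL (Fin n) L) : Matrix (Fin n) (Fin n) L).map σ = 1 := by
    intro σ
    rw [← map_mul', ← Units.val_mul, mul_inv_cancel, Units.val_one, map_one']
  refine ⟨hDu.unit * C⁻¹, ?_, fun σ => ?_⟩
  · rw [Units.val_mul, Matrix.det_mul, IsUnit.unit_spec, hDdet]
    rw [← Matrix.det_mul, ← Units.val_mul, mul_inv_cancel, Units.val_one, Matrix.det_one]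
  · rw [mul_inv_rev, inv_inv, Units.val_mul, Units.val_mul, map_mul', IsUnit.unit_spec, hDfix σ]
    have h1 : ((hDu.unit⁻¹ : GL (Fin n) L) : Matrix (Fin n) (Fin n) L) * D = 1 := by
      have h2 : ((hDu.unit⁻¹ * hDu.unit : GL (Fin n) L) : Matrix (Fin n) (Fin n) L) = 1 := by
        rw [inv_mul_cancel, Units.val_one]
      rw [Units.val_mul, IsUnit.unit_spec] at h2
      exact h2
    calc (B σ : Matrix (Fin n) (Fin n) L)
        = (B σ : Matrix (Fin n) (Fin n) L) * ((C : Matrix (Fin n) (Fin n) L).map σ *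
            ((C⁻¹ : GL (Fin n) L) : Matrix (Fin n) (Fin n) L).map σ) := by
          rw [hinv σ, mul_one]
      _ = (C : Matrix (Fin n) (Fin n) L) *
            ((C⁻¹ : GL (Fin n) L) : Matrix (Fin n) (Fin n) L).map σ := by
          rw [← mul_assoc, hC' σ]
      _ = _ := by
          rw [mul_assoc (C : Matrix (Fin n) (Fin n) L), ← mul_assoc _ D, h1, one_mul]

end Groth.Agent.H7.SLn
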