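import Mathlib

/-!
# Abstract facts about the pullback sheaf on topological spaces (via the adjunction only)

For `f : Y ⟶ X` and a sheaf of types `F` on `X`, with unit `η : F ⟶ f_* f⁻¹ F`:
* `germ_eq_of_unit_eq`: `η_U s = η_U s'` implies `s`, `s'` have the same germ at `f y`, `y ∈ f⁻¹ U`;
* `exists_local_unit`: every section of `f⁻¹F` is locally of the form `η_U s`.
-/

open CategoryTheory CategoryTheory.Limits TopologicalSpace Opposite TopCat

namespace Groth.Agent.H7.SP

universe u

variable {X Y : TopCat.{u}} (f : Y ⟶ X) (F : TopCat.Sheaf (Type u) X)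

/-- the adjunction -/
noncomputable abbrev Adj := TopCat.Sheaf.pullbackPushforwardAdjunction (Type u) f
/-- pullback -/
noncomputable abbrev Pb := TopCat.Sheaf.pullback (Type u) f
/-- pushforward -/
noncomputable abbrev Pf := TopCat.Sheaf.pushforward (Type u) f

/-- the unit on sections over `U` -/
noncomputable def uApp (U : Opens X) :
    F.obj.obj (op U) → ((Pb f).obj F).obj.obj (op ((Opens.map f).obj U)) :=
  fun s => ((Adj f).unit.app F).hom.app (op U) s

lemma uApp_res {U U' : Opens X} (h : U' ≤ U) (s : F.obj.obj (op U)) :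
    uApp f F U' (F.obj.map (homOfLE h).op s) =
      ((Pb f).obj F).obj.map (homOfLE ((Opens.map f).monotone h)).op (uApp f F U s) := by
  have := NatTrans.naturality_apply ((Adj f).unit.app F).hom (homOfLE h).op s
  exact this

/-- test sheaf of germ families -/
noncomputable def germSheaf : TopCat.Sheaf (Type u) Y :=
  TopCat.sheafToTypes Y (fun y => F.presheaf.stalk (f y))

/-- the germ map -/
noncomputable def germMap : F ⟶ (Pf f).obj (germSheaf f F) :=
  ⟨{ app := fun U => ↾ fun s => fun (y : ((Opens.map f).obj U.unop : Opens Y)) =>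
        F.presheaf.germ U.unop (f y.1) y.2 s
     naturality := by
       intro U V i
       ext s
       funext y
       exact (TopCat.Presheaf.germ_res_apply F.presheaf i.unop (f y.1) y.2 s) }⟩

lemma germ_eq_of_unit_eq {U : Opens X} (s s' : F.obj.obj (op U))
    (h : uApp f F U s = uApp f F U s') (y : Y) (hy : f y ∈ U) :
    F.presheaf.germ U (f y) hy s = F.presheaf.germ U (f y) hy s' := by
  obtain ⟨ψ, hψ⟩ : ∃ ψ, ψ = ((Adj f).homEquiv F (germSheaf f F)).symm (germMap f F) := ⟨_, rfl⟩
  have key : (Adj f).unit.app F ≫ (Pf f).map ψ = germMap f F := by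
    have h1 := (Adj f).homEquiv_unit F (germSheaf f F) ψ
    rw [← h1, hψ]; exact Equiv.apply_symm_apply _ _
  have e1 : (germMap f F).hom.app (op U) s = (germMap f F).hom.app (op U) s' := by
    rw [← key]
    change ((Pf f).map ψ).hom.app (op U) (uApp f F U s) = ((Pf f).map ψ).hom.app (op U) (uApp f F U s')
    rw [h]
  exact congrFun e1 ⟨y, hy⟩

/-- the predicate: `σ` is, near `y`, in the image of the unit -/
def LocAt {V : Opens Y} (σ : ((Pb f).obj F).obj.obj (op V)) (y : Y) : Prop :=
  ∃ (U : Opens X) (s : F.obj.obj (op U)) (V' : Opens Y) (_ : y ∈ V') (h1 : V' ≤ V)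
    (h2 : V' ≤ (Opens.map f).obj U),
    ((Pb f).obj F).obj.map (homOfLE h1).op σ =
      ((Pb f).obj F).obj.map (homOfLE h2).op (uApp f F U s)

lemma locAt_res {V V₁ : Opens Y} (i : V₁ ≤ V) (σ : ((Pb f).obj F).obj.obj (op V)) (y : Y)
    (hy : y ∈ V₁) (h : LocAt f F σ y) :
    LocAt f F (((Pb f).obj F).obj.map (homOfLE i).op σ) y := by
  obtain ⟨U, s, V', hyV', h1, h2, e⟩ := h
  refine ⟨U, s, V' ⊓ V₁, ⟨hyV', hy⟩, inf_le_right, inf_le_left.trans h2, ?_⟩
  have e' := congrArg (((Pb f).obj F).obj.map (homOfLE (inf_le_left : V' ⊓ V₁ ≤ V')).op) e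
  rw [← FunctorToTypes.map_comp_apply, ← FunctorToTypes.map_comp_apply] at e'
  rw [← FunctorToTypes.map_comp_apply]
  exact e'

lemma locAt_of_res {V V₁ : Opens Y} (i : V₁ ≤ V) (σ : ((Pb f).obj F).obj.obj (op V)) (y : Y)
    (h : LocAt f F (((Pb f).obj F).obj.map (homOfLE i).op σ) y) :
    LocAt f F σ y := by
  obtain ⟨U, s, V', hyV', h1, h2, e⟩ := h
  refine ⟨U, s, V', hyV', h1.trans i, h2, ?_⟩
  rw [← FunctorToTypes.map_comp_apply] at e
  exact e

/-- sections of the pullback that are locally in the image of the unit -/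
noncomputable def locImg : Subfunctor ((Pb f).obj F).obj where
  obj V := {σ | ∀ y ∈ V.unop, LocAt f F (V := V.unop) σ y}
  map := by
    intro V V₁ i σ hσ y hy
    exact locAt_res f F i.unop.le σ y hy (hσ y (i.unop.le hy))

lemma locImg_isSheaf : TopCat.Presheaf.IsSheaf (locImg f F).toFunctor := by
  refine (isSheaf_iff_isSheaf_of_type _ _).mpr
    (((locImg f F).isSheaf_iff ((isSheaf_iff_isSheaf_of_type _ _).mp ((Pb f).obj F).property)).mpr ?_)
  intro V σ hcov y hy
  obtain ⟨V₀, g, hg, hyV₀⟩ := hcov y hy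
  exact locAt_of_res f F g.le σ y (hg y hyV₀)

/-- the subsheaf -/
noncomputable def locImgSheaf : TopCat.Sheaf (Type u) Y := ⟨(locImg f F).toFunctor, locImg_isSheaf f F⟩

/-- the unit factors through the subsheaf -/
noncomputable def unit₀ : F ⟶ (Pf f).obj (locImgSheaf f F) :=
  ⟨{ app := fun U => ↾ fun s => ⟨uApp f F U.unop s, fun y hy =>
        ⟨U.unop, s, (Opens.map f).obj U.unop, hy, le_rfl, le_rfl, rfl⟩⟩
     naturality := by
       intro U V i
       ext s
       apply Subtype.ext
       exact uApp_res f F i.unop.le s }⟩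

/-- the inclusion -/
noncomputable def locIncl : locImgSheaf f F ⟶ (Pb f).obj F := ⟨(locImg f F).ι⟩

lemma unit₀_incl : unit₀ f F ≫ (Pf f).map (locIncl f F) = (Adj f).unit.app F := by
  apply CategoryTheory.Sheaf.hom_ext
  ext U s
  rfl

lemma exists_local_unit {V : Opens Y} (σ : ((Pb f).obj F).obj.obj (op V)) (y : Y) (hy : y ∈ V) :
    LocAt f F σ y := by
  obtain ⟨ρ, hρ⟩ : ∃ ρ, ρ = ((Adj f).homEquiv F (locImgSheaf f F)).symm (unit₀ f F) := ⟨_, rfl⟩
  have key : (Adj f).unit.app F ≫ (Pf f).map ρ = unit₀ f F := by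
    have h1 := (Adj f).homEquiv_unit F (locImgSheaf f F) ρ
    rw [← h1, hρ]; exact Equiv.apply_symm_apply _ _
  have h2 : ρ ≫ locIncl f F = 𝟙 _ := by
    apply ((Adj f).homEquiv F _).injective
    rw [(Adj f).homEquiv_unit, (Adj f).homEquiv_unit, Functor.map_comp, ← Category.assoc, key,
      unit₀_incl, CategoryTheory.Functor.map_id]
    exact (Category.comp_id _).symm
  have h3 : (locIncl f F).hom.app (op V) (ρ.hom.app (op V) σ) = σ := by
    have := congrArg (fun m => m.hom.app (op V) σ) h2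
    exact this
  have h4 := (ρ.hom.app (op V) σ).2 y hy
  rw [← h3]
  exact h4

end Groth.Agent.H7.SP
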