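import Groth.Agent.Lib.Helper7.SPA
import Groth.Agent.Lib.Helper7.SPB

/-!
# Sections over a closed subset of a spectral space (Stacks 09ZG-type lemma): S0153
-/

open CategoryTheory CategoryTheory.Limits TopologicalSpace Opposite TopCat Topology Set

namespace Groth.Agent.H7.SP

universe u

section Agree

variable {X : TopCat.{u}} (F : TopCat.Sheaf (Type u) X)

/-- where two sections have equal germs -/
def agreeSet {U₁ U₂ : Opens X} (s₁ : F.obj.obj (op U₁)) (s₂ : F.obj.obj (op U₂)) : Set X :=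
  {x | ∃ (h₁ : x ∈ U₁) (h₂ : x ∈ U₂), F.presheaf.germ U₁ x h₁ s₁ = F.presheaf.germ U₂ x h₂ s₂}

lemma isOpen_agreeSet {U₁ U₂ : Opens X} (s₁ : F.obj.obj (op U₁)) (s₂ : F.obj.obj (op U₂)) :
    IsOpen (agreeSet F s₁ s₂) := by
  rw [isOpen_iff_forall_mem_open]
  rintro x ⟨h₁, h₂, e⟩
  obtain ⟨W, hxW, i₁, i₂, e'⟩ := TopCat.Presheaf.germ_eq F.presheaf x h₁ h₂ s₁ s₂ e
  refine ⟨W.1, ?_, W.2, hxW⟩
  intro x' hx'
  refine ⟨i₁.le hx', i₂.le hx', ?_⟩
  rw [← TopCat.Presheaf.germ_res_apply F.presheaf i₁ x' hx' s₁,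
    ← TopCat.Presheaf.germ_res_apply F.presheaf i₂ x' hx' s₂, e']

end Agree

section Main

variable {X : TopCat.{u}} [SpectralSpace X] (Z : Set X) (hZ : IsClosed Z)
  (hconn : ∀ x : X, IsConnected (Z ∩ closure {x})) (F : TopCat.Sheaf (Type u) X)

/-- the inclusion -/
abbrev incl : TopCat.of Z ⟶ X := TopCat.ofHom ⟨(Subtype.val : Z → X), continuous_subtype_val⟩

include hconn in
lemma unit_injective : Function.Injective (uApp (incl Z) F ⊤) := by
  intro s s' h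
  apply TopCat.Presheaf.section_ext F ⊤ s s'
  intro x hx
  obtain ⟨z, hzZ, hzc⟩ := (hconn x).nonempty
  have hz : z ∈ agreeSet F s s' :=
    ⟨trivial, trivial, germ_eq_of_unit_eq (incl Z) F s s' h ⟨z, hzZ⟩ trivial⟩
  obtain ⟨_, _, e⟩ := gen_mem hzc (isOpen_agreeSet F s s') hz
  exact e

lemma map_map_eq {Y : TopCat.{u}} (H : TopCat.Sheaf (Type u) Y) {A B C : Opens Y} (h1 : A ≤ B)
    (h2 : B ≤ C) (h3 : A ≤ C) (σ : H.obj.obj (op C)) :
    H.obj.map (homOfLE h1).op (H.obj.map (homOfLE h2).op σ) = H.obj.map (homOfLE h3).op σ := by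
  rw [← FunctorToTypes.map_comp_apply]
  rfl

include hZ hconn in
lemma unit_surjective : Function.Surjective (uApp (incl Z) F ⊤) := by
  intro σ
  obtain ⟨H, hH⟩ : ∃ H, H = (Pb (incl Z)).obj F := ⟨_, rfl⟩
  have step1 : ∀ z : Z, ∃ (U : Opens X) (_ : z.1 ∈ U) (_ : IsCompact (U : Set X))
      (s : F.obj.obj (op U)),
      uApp (incl Z) F U s = ((Pb (incl Z)).obj F).obj.map
        (homOfLE ((Opens.map (incl Z)).monotone (le_top : U ≤ ⊤))).op σ := by
    intro z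
    obtain ⟨U₀, s₀, V', hzV', h1, h2, e⟩ := exists_local_unit (incl Z) F σ z trivial
    obtain ⟨O, hO, hOV'⟩ := isOpen_induced_iff.mp V'.2
    have hzO : z.1 ∈ O ∩ (U₀ : Set X) := by
      refine ⟨?_, h2 hzV'⟩
      have : z ∈ Subtype.val ⁻¹' O := by rw [hOV']; exact hzV'
      exact this
    obtain ⟨Us, ⟨hUso, hUsc⟩, hzUs, hUssub⟩ :=
      (PrespectralSpace.isTopologicalBasis (X := X)).exists_subset_of_mem_open hzO (hO.inter U₀.2)
    have hUU₀ : (⟨Us, hUso⟩ : Opens X) ≤ U₀ := fun x hx => (hUssub hx).2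
    have hUV' : (Opens.map (incl Z)).obj ⟨Us, hUso⟩ ≤ V' := by
      intro w hw
      have : w ∈ Subtype.val ⁻¹' O := (hUssub hw).1
      rw [hOV'] at this
      exact this
    refine ⟨⟨Us, hUso⟩, hzUs, hUsc, F.obj.map (homOfLE hUU₀).op s₀, ?_⟩
    rw [uApp_res (incl Z) F hUU₀ s₀]
    rw [← map_map_eq ((Pb (incl Z)).obj F) hUV' h2 _ (uApp (incl Z) F U₀ s₀), ← e,
      map_map_eq ((Pb (incl Z)).obj F) hUV' h1]
  choose Uz hzU hUc sz hsz using step1
  have hZc : IsCompact Z := hZ.isCompact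
  obtain ⟨t, ht⟩ := hZc.elim_nhds_subcover' (fun z hz => (Uz ⟨z, hz⟩ : Set X))
    (fun z hz => (Uz ⟨z, hz⟩).2.mem_nhds (hzU ⟨z, hz⟩))
  let J := {z : Z // z ∈ t}
  let U : J → Set X := fun j => (Uz j.1 : Set X)
  have hUo : ∀ j, IsOpen (U j) := fun j => (Uz j.1).2
  have hUcj : ∀ j, IsCompact (U j) := fun j => hUc j.1
  have hcov : Z ⊆ ⋃ j, U j := by
    intro z hz
    obtain ⟨x, hx, hzx⟩ := mem_iUnion₂.mp (ht hz)
    exact mem_iUnion.mpr ⟨⟨x, hx⟩, hzx⟩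
  let W : J → J → Set X := fun j k => agreeSet F (sz j.1) (sz k.1)
  have hWo : ∀ j k, IsOpen (W j k) := fun j k => isOpen_agreeSet F _ _
  have hW1 : ∀ j, U j ⊆ W j j := fun j y hy => ⟨hy, hy, rfl⟩
  have hW2 : ∀ j k, W j k ⊆ W k j := fun j k y ⟨h1, h2, e⟩ => ⟨h2, h1, e.symm⟩
  have hW3 : ∀ j k l, W j k ∩ W k l ⊆ W j l :=
    fun j k l y ⟨⟨h1, h2, e⟩, ⟨h2', h3, e'⟩⟩ => ⟨h1, h3, e.trans e'⟩
  have hW4 : ∀ j k, Z ∩ U j ∩ U k ⊆ W j k := by
    rintro j k y ⟨⟨hyZ, hyj⟩, hyk⟩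
    refine ⟨hyj, hyk, ?_⟩
    have e1 : uApp (incl Z) F (Uz j.1 ⊓ Uz k.1) (F.obj.map (homOfLE inf_le_left).op (sz j.1)) =
        uApp (incl Z) F (Uz j.1 ⊓ Uz k.1) (F.obj.map (homOfLE inf_le_right).op (sz k.1)) := by
      rw [uApp_res, uApp_res, hsz, hsz,
        map_map_eq ((Pb (incl Z)).obj F) _ _ ((Opens.map (incl Z)).monotone le_top) σ,
        map_map_eq ((Pb (incl Z)).obj F) _ _ ((Opens.map (incl Z)).monotone le_top) σ]
    have e2 := germ_eq_of_unit_eq (incl Z) F _ _ e1 ⟨y, hyZ⟩ ⟨hyj, hyk⟩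
    rw [TopCat.Presheaf.germ_res_apply, TopCat.Presheaf.germ_res_apply] at e2
    exact e2
  obtain ⟨U', hU'o, hU'sub, hU'cov, hU'W⟩ :=
    exists_shrink hZ hconn U hUo hUcj hcov W hWo hW1 hW2 hW3 hW4
  let U'o : J → Opens X := fun j => ⟨U' j, hU'o j⟩
  have hle : ∀ j, U'o j ≤ Uz j.1 := fun j => hU'sub j
  let tj : ∀ j, F.obj.obj (op (U'o j)) := fun j => F.obj.map (homOfLE (hle j)).op (sz j.1)
  have compat : TopCat.Presheaf.IsCompatible F.1 U'o tj := by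
    intro j k
    apply TopCat.Presheaf.section_ext F (U'o j ⊓ U'o k)
    intro x hx
    obtain ⟨h1, h2, e⟩ := hU'W j k ⟨hx.1, hx.2⟩
    rw [TopCat.Presheaf.germ_res_apply, TopCat.Presheaf.germ_res_apply]
    simp only [tj]
    rw [TopCat.Presheaf.germ_res_apply, TopCat.Presheaf.germ_res_apply]
    exact e
  have hcover : (⊤ : Opens X) ≤ iSup U'o := by
    intro x _
    have hx : x ∈ ⋃ j, U' j := by rw [hU'cov]; exact mem_univ x
    obtain ⟨j, hj⟩ := mem_iUnion.mp hx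
    exact Opens.mem_iSup.mpr ⟨j, hj⟩
  obtain ⟨s, hs, -⟩ := F.existsUnique_gluing' U'o ⊤ (fun j => homOfLE le_top) hcover tj compat
  refine ⟨s, ?_⟩
  apply TopCat.Sheaf.eq_of_locally_eq' ((Pb (incl Z)).obj F)
    (fun j => (Opens.map (incl Z)).obj (U'o j)) ((Opens.map (incl Z)).obj ⊤)
    (fun j => homOfLE ((Opens.map (incl Z)).monotone le_top))
  · intro z _
    obtain ⟨j, hj⟩ := Opens.mem_iSup.mp (hcover (show z.1 ∈ (⊤ : Opens X) from trivial))
    exact Opens.mem_iSup.mpr ⟨j, hj⟩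
  · intro j
    rw [← uApp_res (incl Z) F (le_top : U'o j ≤ ⊤) s, hs j]
    simp only [tj]
    rw [uApp_res (incl Z) F (hle j) (sz j.1), hsz,
      map_map_eq ((Pb (incl Z)).obj F) _ _ ((Opens.map (incl Z)).monotone le_top) σ]

end Main

end Groth.Agent.H7.SP

namespace Groth.Agent.H7.SP

universe u

open CategoryTheory CategoryTheory.Limits TopologicalSpace Opposite TopCat in
theorem S0153_main (X : TopCat.{u}) [SpectralSpace X]
    (Z : Set X) (hZ : IsClosed Z)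
    (hconn : ∀ x : X, IsConnected (Z ∩ closure {x}))
    (F : TopCat.Sheaf (Type u) X) :
    Function.Bijective
      (((TopCat.Sheaf.pullbackPushforwardAdjunction (Type u)
        (TopCat.ofHom ⟨(Subtype.val : Z → X), continuous_subtype_val⟩)).unit.app F).hom.app (op ⊤)) :=
  ⟨unit_injective Z hconn F, unit_surjective Z hZ hconn F⟩

end Groth.Agent.H7.SP
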