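import Groth.Agent.Lib.Helper7.SPE
import Groth.Prelude.Def_CohTop

/-!
# A flasque sheaf restricted to a compact set with separated points is soft: S8567
-/

open CategoryTheory CategoryTheory.Limits TopologicalSpace Opposite TopCat Topology Set

namespace Groth.Agent.H7.SPab

universe u

section Double

variable {X : TopCat.{u}} (F : TopCat.Sheaf AddCommGrpCat.{u} X) (K : Set X) (A : Set K)

/-- inclusion of `K` -/
abbrev iK : TopCat.of K ⟶ X := TopCat.ofHom ⟨((↑) : K → X), continuous_subtype_val⟩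
/-- inclusion of `A` in `K` -/
abbrev iA : TopCat.of A ⟶ TopCat.of K := TopCat.ofHom ⟨((↑) : A → K), continuous_subtype_val⟩
/-- `F|K` -/
noncomputable abbrev GK : TopCat.Sheaf AddCommGrpCat.{u} (TopCat.of K) := (Pb (iK K)).obj F
/-- `(F|K)|A` -/
noncomputable abbrev TA : TopCat.Sheaf AddCommGrpCat.{u} (TopCat.of A) := (Pb (iA K A)).obj (GK F K)

/-- preimage in `A` of an open of `X` -/
abbrev pre (U : Opens X) : Opens (TopCat.of A) :=
  (Opens.map (iA K A)).obj ((Opens.map (iK K)).obj U)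

/-- the double unit -/
noncomputable def uu (U : Opens X) : F.obj.obj (op U) →+ (TA F K A).obj.obj (op (pre K A U)) :=
  (uApp (iA K A) (GK F K) ((Opens.map (iK K)).obj U)).comp (uApp (iK K) F U)

lemma pre_mono {U U' : Opens X} (h : U' ≤ U) : pre K A U' ≤ pre K A U :=
  (Opens.map (iA K A)).monotone ((Opens.map (iK K)).monotone h)

lemma uu_res {U U' : Opens X} (h : U' ≤ U) (s : F.obj.obj (op U)) :
    uu F K A U' ((F.obj.map (homOfLE h).op).hom s) =
      ((TA F K A).obj.map (homOfLE (pre_mono K A h)).op).hom (uu F K A U s) := by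
  change uApp (iA K A) (GK F K) _ (uApp (iK K) F U' _) = _
  rw [uApp_res (iK K) F h s, uApp_res (iA K A) (GK F K) ((Opens.map (iK K)).monotone h)]
  rfl

lemma germ_eq_of_uu_eq {U : Opens X} (s s' : F.obj.obj (op U))
    (h : uu F K A U s = uu F K A U s') (a : A) (ha : a.1.1 ∈ U) :
    (F.presheaf.germ U a.1.1 ha).hom s = (F.presheaf.germ U a.1.1 ha).hom s' := by
  have h1 := germ_eq_of_unit_eq (iA K A) (GK F K) (uApp (iK K) F U s) (uApp (iK K) F U s') h a ha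
  obtain ⟨W, haW, i₁, i₂, e⟩ := TopCat.Presheaf.germ_eq (GK F K).presheaf _ _ _ _ _ h1
  obtain ⟨O, hO, hOW⟩ := isOpen_induced_iff.mp W.2
  have haO : a.1.1 ∈ O := by
    have : a.1 ∈ Subtype.val ⁻¹' O := by rw [hOW]; exact haW
    exact this
  have hU' : U ⊓ ⟨O, hO⟩ ≤ U := inf_le_left
  have hW : (Opens.map (iK K)).obj (U ⊓ ⟨O, hO⟩) ≤ W := by
    intro w hw
    have : w ∈ Subtype.val ⁻¹' O := hw.2
    rw [hOW] at this
    exact this
  have e2 : uApp (iK K) F (U ⊓ ⟨O, hO⟩) ((F.obj.map (homOfLE hU').op).hom s) =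
      uApp (iK K) F (U ⊓ ⟨O, hO⟩) ((F.obj.map (homOfLE hU').op).hom s') := by
    rw [uApp_res, uApp_res, ← map_map_eq (GK F K) hW i₁.le _ (uApp (iK K) F U s),
      ← map_map_eq (GK F K) hW i₂.le _ (uApp (iK K) F U s')]
    exact congrArg _ e
  have e3 := germ_eq_of_unit_eq (iK K) F _ _ e2 a.1 ⟨ha, haO⟩
  have a1 := TopCat.Presheaf.germ_res_apply F.presheaf (homOfLE hU') a.1.1 ⟨ha, haO⟩ s
  have a2 := TopCat.Presheaf.germ_res_apply F.presheaf (homOfLE hU') a.1.1 ⟨ha, haO⟩ s'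
  exact a1.symm.trans (e3.trans a2)

lemma exists_local_uu (τ : (TA F K A).obj.obj (op (pre K A ⊤))) (a : A) :
    ∃ (U : Opens X) (_ : a.1.1 ∈ U) (s : F.obj.obj (op U)),
      uu F K A U s = ((TA F K A).obj.map (homOfLE (pre_mono K A (le_top : U ≤ ⊤))).op).hom τ := by
  obtain ⟨V, g, V'', haV'', h1, h2, e⟩ := exists_local_unit (iA K A) (GK F K) τ a trivial
  obtain ⟨U₀, s₀, V', haV', k1, k2, e'⟩ := exists_local_unit (iK K) F g a.1 (h2 haV'')
  obtain ⟨O'', hO'', hOV''⟩ := isOpen_induced_iff.mp V''.2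
  obtain ⟨P'', hP'', hPO''⟩ := isOpen_induced_iff.mp hO''
  obtain ⟨P', hP', hPV'⟩ := isOpen_induced_iff.mp V'.2
  have haP' : a.1.1 ∈ P' := by
    have : a.1 ∈ Subtype.val ⁻¹' P' := by rw [hPV']; exact haV'
    exact this
  have haP'' : a.1.1 ∈ P'' := by
    have h3 : a ∈ Subtype.val ⁻¹' O'' := by rw [hOV'']; exact haV''
    have h4 : a.1 ∈ Subtype.val ⁻¹' P'' := by rw [hPO'']; exact h3
    exact h4
  let U : Opens X := U₀ ⊓ ⟨P', hP'⟩ ⊓ ⟨P'', hP''⟩
  have hUU₀ : U ≤ U₀ := inf_le_left.trans inf_le_left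
  have hUV' : (Opens.map (iK K)).obj U ≤ V' := by
    intro w hw
    have : w ∈ Subtype.val ⁻¹' P' := hw.1.2
    rw [hPV'] at this
    exact this
  have hUV'' : pre K A U ≤ V'' := by
    intro w hw
    have h3 : w.1 ∈ Subtype.val ⁻¹' P'' := hw.2
    rw [hPO''] at h3
    have h4 : w ∈ Subtype.val ⁻¹' O'' := h3
    rw [hOV''] at h4
    exact h4
  refine ⟨U, ⟨⟨k2 haV', haP'⟩, haP''⟩, (F.obj.map (homOfLE hUU₀).op).hom s₀, ?_⟩
  change uApp (iA K A) (GK F K) _ (uApp (iK K) F U _) = _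
  rw [uApp_res (iK K) F hUU₀ s₀, ← map_map_eq (GK F K) hUV' k2 _ (uApp (iK K) F U₀ s₀), ← e',
    map_map_eq (GK F K) hUV' k1 (hUV'.trans k1) g,
    uApp_res (iA K A) (GK F K) (hUV'.trans k1) g,
    ← map_map_eq (TA F K A) hUV'' h2 _ (uApp (iA K A) (GK F K) V g), ← e,
    map_map_eq (TA F K A) hUV'' h1]

end Double

section Main

variable {X : TopCat.{u}} {K : Set X} (hK : IsCompact K)
  (hsep : ∀ x ∈ K, ∀ y ∈ K, x ≠ y →
    ∃ U V : Set X, IsOpen U ∧ IsOpen V ∧ x ∈ U ∧ y ∈ V ∧ Disjoint U V)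
  (F : TopCat.Sheaf AddCommGrpCat.{u} X) [TopCat.Sheaf.IsFlasque F] {A : Set K} (hA : IsClosed A)

include hK hsep hA in
theorem soft_main : Function.Surjective (uApp (iA K A) (GK F K) ⊤) := by
  classical
  intro τ
  have hle : pre K A ⊤ ≤ (Opens.map (iA K A)).obj ⊤ := fun _ _ => trivial
  obtain ⟨τ₀, hτ₀⟩ : ∃ τ₀, τ₀ = ((TA F K A).obj.map (homOfLE hle).op).hom τ := ⟨_, rfl⟩
  -- the image of `A` in `X`
  let AX : Set X := Subtype.val '' A
  haveI : CompactSpace K := isCompact_iff_compactSpace.mp hK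
  have hAXc : IsCompact AX := hA.isCompact.image continuous_subtype_val
  have hAXK : ∀ x ∈ AX, x ∈ K := by
    rintro x ⟨k, -, rfl⟩
    exact k.2
  have hsepA : ∀ x ∈ AX, ∀ y ∈ AX, x ≠ y →
      ∃ U V : Set X, IsOpen U ∧ IsOpen V ∧ x ∈ U ∧ y ∈ V ∧ Disjoint U V :=
    fun x hx y hy hxy => hsep x (hAXK x hx) y (hAXK y hy) hxy
  choose Uf hUf sf hsf using exists_local_uu F K A τ₀
  have hcompat : ∀ (a b c : A) (hca : c.1.1 ∈ Uf a) (hcb : c.1.1 ∈ Uf b),
      (F.presheaf.germ (Uf a) c.1.1 hca).hom (sf a) =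
        (F.presheaf.germ (Uf b) c.1.1 hcb).hom (sf b) := by
    intro a b c hca hcb
    have e1 : uu F K A (Uf a ⊓ Uf b) ((F.obj.map (homOfLE inf_le_left).op).hom (sf a)) =
        uu F K A (Uf a ⊓ Uf b) ((F.obj.map (homOfLE inf_le_right).op).hom (sf b)) := by
      rw [uu_res, uu_res, hsf, hsf, map_map_eq (TA F K A) _ _ (pre_mono K A le_top) τ₀,
        map_map_eq (TA F K A) _ _ (pre_mono K A le_top) τ₀]
    have e2 := germ_eq_of_uu_eq F K A _ _ e1 c ⟨hca, hcb⟩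
    have a1 := TopCat.Presheaf.germ_res_apply F.presheaf
      (homOfLE (inf_le_left : Uf a ⊓ Uf b ≤ Uf a)) c.1.1 ⟨hca, hcb⟩ (sf a)
    have a2 := TopCat.Presheaf.germ_res_apply F.presheaf
      (homOfLE (inf_le_right : Uf a ⊓ Uf b ≤ Uf b)) c.1.1 ⟨hca, hcb⟩ (sf b)
    exact a1.symm.trans (e2.trans a2)
  have hcompat' : ∀ (a b : A) (c : X) (_ : ∃ a' : A, a'.1.1 = c) (hca : c ∈ Uf a) (hcb : c ∈ Uf b),
      (F.presheaf.germ (Uf a) c hca).hom (sf a) = (F.presheaf.germ (Uf b) c hcb).hom (sf b) := by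
    rintro a b c ⟨c', rfl⟩ hca hcb
    exact hcompat a b c' hca hcb
  let γ : ∀ c : X, F.presheaf.stalk c := fun c =>
    if h : ∃ a : A, a.1.1 = c then
      (F.presheaf.germ (Uf h.choose) c
        (Eq.mp (congrArg (fun z => z ∈ Uf h.choose) h.choose_spec) (hUf h.choose))).hom (sf h.choose)
    else 0
  have hγ : ∀ (a : A) (c : X) (hc : c ∈ Uf a), c ∈ AX →
      (F.presheaf.germ (Uf a) c hc).hom (sf a) = γ c := by
    rintro a c hc ⟨k, hkA, rfl⟩
    have h : ∃ a' : A, a'.1.1 = k.1 := ⟨⟨k, hkA⟩, rfl⟩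
    simp only [γ, dif_pos h]
    exact hcompat' a h.choose k.1 h hc _
  obtain ⟨U, hAU, s, hg⟩ := exists_section_nhd F hsepA γ hAXc (by
    rintro x ⟨k, hkA, rfl⟩
    exact ⟨Uf ⟨k, hkA⟩, hUf ⟨k, hkA⟩, sf ⟨k, hkA⟩, fun c hc hcA => hγ ⟨k, hkA⟩ c hc hcA⟩)
  have hepi : Epi (F.obj.map (homOfLE (le_top : U ≤ ⊤)).op) := TopCat.Presheaf.IsFlasque.epi _
  obtain ⟨s', hs'⟩ := (AddCommGrpCat.epi_iff_surjective _).mp hepi s
  have htop : (⊤ : Opens (TopCat.of K)) ≤ (Opens.map (iK K)).obj ⊤ := fun _ _ => trivial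
  refine ⟨((GK F K).obj.map (homOfLE htop).op).hom (uApp (iK K) F ⊤ s'), ?_⟩
  -- the neighbourhoods on which `s'` and `sf a` agree
  let N : A → Opens X := fun a => ⟨agreeSet F s' (sf a), isOpen_agreeSet F s' (sf a)⟩
  have hNU : ∀ a, N a ≤ Uf a := fun a x hx => hx.2.1
  have haN : ∀ a : A, a.1.1 ∈ N a := by
    intro a
    have haAX : a.1.1 ∈ AX := ⟨a.1, a.2, rfl⟩
    refine ⟨trivial, hUf a, ?_⟩
    have a1 := TopCat.Presheaf.germ_res_apply F.presheaf (homOfLE (le_top : U ≤ ⊤)) a.1.1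
      (hAU haAX) s'
    have a2 : (F.presheaf.germ U a.1.1 (hAU haAX)).hom ((F.obj.map (homOfLE le_top).op).hom s') =
        (F.presheaf.germ U a.1.1 (hAU haAX)).hom s := congrArg _ hs'
    exact a1.symm.trans (a2.trans ((hg a.1.1 (hAU haAX) haAX).trans (hγ a a.1.1 (hUf a) haAX).symm))
  have hNeq : ∀ a : A, (F.obj.map (homOfLE (le_top : N a ≤ ⊤)).op).hom s' =
      (F.obj.map (homOfLE (hNU a)).op).hom (sf a) := by
    intro a
    apply TopCat.Presheaf.section_ext F (N a)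
    intro x hx
    obtain ⟨h1, h2, e⟩ := hx
    have a1 := TopCat.Presheaf.germ_res_apply F.presheaf (homOfLE (le_top : N a ≤ ⊤)) x
      ⟨h1, h2, e⟩ s'
    have a2 := TopCat.Presheaf.germ_res_apply F.presheaf (homOfLE (hNU a)) x ⟨h1, h2, e⟩ (sf a)
    exact a1.trans (e.trans a2.symm)
  apply TopCat.Sheaf.eq_of_locally_eq' (TA F K A) (fun a : A => pre K A (N a))
    ((Opens.map (iA K A)).obj ⊤) (fun a => homOfLE (fun _ _ => trivial))
  · intro z _
    exact Opens.mem_iSup.mpr ⟨z, haN z⟩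
  · intro a
    have hNK : (Opens.map (iK K)).obj (N a) ≤ (⊤ : Opens (TopCat.of K)) := le_top
    have e1 := uApp_res (iA K A) (GK F K) hNK
      (((GK F K).obj.map (homOfLE htop).op).hom (uApp (iK K) F ⊤ s'))
    have e2 : ((GK F K).obj.map (homOfLE hNK).op).hom
        (((GK F K).obj.map (homOfLE htop).op).hom (uApp (iK K) F ⊤ s')) =
        uApp (iK K) F (N a) ((F.obj.map (homOfLE (le_top : N a ≤ ⊤)).op).hom s') := by
      rw [uApp_res (iK K) F (le_top : N a ≤ ⊤) s',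
        map_map_eq (GK F K) hNK htop ((Opens.map (iK K)).monotone le_top)]
    rw [e2, hNeq a] at e1
    have e3 : uApp (iA K A) (GK F K) ((Opens.map (iK K)).obj (N a))
        (uApp (iK K) F (N a) ((F.obj.map (homOfLE (hNU a)).op).hom (sf a))) =
        uu F K A (N a) ((F.obj.map (homOfLE (hNU a)).op).hom (sf a)) := rfl
    rw [e3, uu_res F K A (hNU a) (sf a), hsf a, hτ₀,
      map_map_eq (TA F K A) _ _ (pre_mono K A (le_top : N a ≤ ⊤)),
      map_map_eq (TA F K A) (pre_mono K A (le_top : N a ≤ ⊤)) hle (fun _ _ => trivial) τ] at e1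
    exact e1.symm

end Main

end Groth.Agent.H7.SPab

namespace Groth.Agent.H7.SPab

universe u

open CategoryTheory TopologicalSpace Opposite in
theorem S8567_main {X : TopCat.{u}} {K : Set X} (hK : IsCompact K)
    (hsep : ∀ x ∈ K, ∀ y ∈ K, x ≠ y → ∃ U V : Set X, IsOpen U ∧ IsOpen V ∧ x ∈ U ∧ y ∈ V ∧ Disjoint U V)
    (F : CohTop.Ab X) [TopCat.Sheaf.IsFlasque F] {A : Set K} (hA : IsClosed A) :
    Function.Surjective
      ((((TopCat.Sheaf.pullbackPushforwardAdjunction AddCommGrpCat.{u}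
        (TopCat.ofHom ⟨((↑) : A → K), continuous_subtype_val⟩ : TopCat.of A ⟶ TopCat.of K)).unit.app
        ((CohTop.pull (TopCat.ofHom ⟨((↑) : K → X), continuous_subtype_val⟩ : TopCat.of K ⟶ X)).obj F)).hom.app
        (op ⊤)).hom) :=
  soft_main hK hsep F hA

end Groth.Agent.H7.SPab
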