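import Mathlib
import Groth.Prelude.Def_SGA4b
import Groth.Agent.Lib.Helper7.ST6
import Groth.Agent.Lib.Helper7.PropC1

/-!
# Helper7: SQ1 — `EtDesc.secPull` : naturality, inverse image preserves monos,
the subobject-classifier trick (S8542)
-/

set_option autoImplicit false

universe u

open CategoryTheory CategoryTheory.Limits Opposite AlgebraicGeometry

namespace Groth.Agent.H7.SQ

variable {X Y : Scheme.{u}} (h : Y ⟶ X)

/-- `secPull` is natural in the sheaf. -/
lemma secPull_naturality {F G : EtDesc.Sh X} (v : F ⟶ G) (s : EtDesc.sect F (EtCoh.top X)) :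
    EtDesc.secPull h G (v.hom.app (op (EtCoh.top X)) s) =
      ((EtDesc.pullSh h).map v).hom.app (op (EtCoh.top Y)) (EtDesc.secPull h F s) := by
  unfold EtDesc.secPull
  have h1 := (EtDesc.adjSh h).unit.naturality v
  have h2 := congrArg (fun w => w.hom.app (op (EtCoh.top X)) s) h1
  simp only [Functor.id_map, Functor.comp_map] at h2
  have h3 := NatTrans.naturality_apply ((EtDesc.pullSh h).map v).hom (EtCore.bcTopIso h).inv.op
    (((EtDesc.adjSh h).unit.app F).hom.app (op (EtCoh.top X)) s)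
  rw [h3]
  exact congrArg _ h2

/-- The inverse image of sheaves of sets preserves monomorphisms. -/
instance mono_pullSh_map {F G : EtDesc.Sh X} (v : F ⟶ G) [Mono v] :
    Mono ((EtDesc.pullSh h).map v) := by
  rw [ST.sh_mono_iff]
  intro Ω _ _ ξ
  let e := ST.stalkPullShIso h ξ
  have ha := e.hom.naturality v
  have hinj : Function.Injective ((ST.stalkSh (ξ ≫ h)).map v) := (ST.sh_mono_iff v).1 inferInstance Ω (ξ ≫ h)
  have hmono : Mono ((EtDesc.pullSh h ⋙ ST.stalkSh ξ).map v ≫ e.hom.app G) := by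
    rw [ha]
    haveI : Mono ((ST.stalkSh (ξ ≫ h)).map v) := (mono_iff_injective _).2 hinj
    infer_instance
  haveI := hmono
  haveI : Mono ((EtDesc.pullSh h ⋙ ST.stalkSh ξ).map v) := mono_of_mono _ (e.hom.app G)
  exact (mono_iff_injective _).1 this

end Groth.Agent.H7.SQ

namespace Groth.Agent.H7.SQ

variable {X Y : Scheme.{u}} (h : Y ⟶ X)

section Classifier

variable {F G : EtDesc.Sh X} (u' : F ⟶ G) [Mono u']

/-- the "constant true" map `G ⟶ Ω` -/
noncomputable def tt (G : EtDesc.Sh X) : G ⟶ Sheaf.Ω X.smallEtaleTopology :=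
  (Sheaf.isTerminalTerminal X.smallEtaleTopology Types.isTerminalPUnit).from G ≫
    Sheaf.truth X.smallEtaleTopology

lemma comp_chi_eq : u' ≫ Sheaf.χ u' = u' ≫ tt G := by
  rw [(Sheaf.isPullback_χ_truth u').w, tt, ← Category.assoc]
  congr 1

lemma mem_range_of_chi_eq (U : X.Etale) (g : G.obj.obj (op U))
    (hg : (Sheaf.χ u').hom.app (op U) g = (tt G).hom.app (op U) g) :
    g ∈ Set.range (u'.hom.app (op U)) := by
  have h1 := congrArg Subtype.val hg
  have h2 : ((Sheaf.χ u').hom.app (op U) g).1.arrows (𝟙 U) := by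
    rw [h1]
    trivial
  obtain ⟨a, ha⟩ := h2
  refine ⟨a, ?_⟩
  rw [← ha]
  simp

end Classifier

theorem S8542_main (hinj : ∀ F : EtDesc.Sh X, Function.Injective (EtDesc.secPull h F))
    {F G : EtDesc.Sh X} (u' : F ⟶ G) [Mono u']
    (ξ : EtDesc.sect ((EtDesc.pullSh h).obj F) (EtCoh.top Y))
    (hξ : ((EtDesc.pullSh h).map u').hom.app (op (EtCoh.top Y)) ξ ∈
      Set.range (EtDesc.secPull h G)) :
    ξ ∈ Set.range (EtDesc.secPull h F) := by
  obtain ⟨g, hg⟩ := hξ
  have key : (Sheaf.χ u').hom.app (op (EtCoh.top X)) g = (tt G).hom.app (op (EtCoh.top X)) g := by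
    apply hinj
    rw [secPull_naturality, secPull_naturality, hg]
    have e : (EtDesc.pullSh h).map u' ≫ (EtDesc.pullSh h).map (Sheaf.χ u') =
        (EtDesc.pullSh h).map u' ≫ (EtDesc.pullSh h).map (tt G) := by
      rw [← Functor.map_comp, ← Functor.map_comp, comp_chi_eq]
    exact congrArg (fun w => w.hom.app (op (EtCoh.top Y)) ξ) e
  obtain ⟨f', hf'⟩ := mem_range_of_chi_eq u' (EtCoh.top X) g key
  refine ⟨f', ?_⟩
  have hm : Function.Injective (((EtDesc.pullSh h).map u').hom.app (op (EtCoh.top Y))) :=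
    (PropABC.mono_iff_injective_sh _).1 inferInstance _
  apply hm
  rw [← secPull_naturality, hf', hg]

end Groth.Agent.H7.SQ
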