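import Mathlib
import Groth.Prelude.Def_SGA4b
import Groth.Prelude.Def_EtBCD
import Groth.Agent.Lib.Helper7.SQ1

/-!
# Helper7: SQ2 — `secPull` and the degree-zero base change morphism for sheaves of sets (S8547)
-/

set_option autoImplicit false

universe u

open CategoryTheory CategoryTheory.Limits Opposite AlgebraicGeometry

namespace Groth.Agent.H7.SQ

lemma bij_of_iso {Z : Scheme.{u}} {A B : EtDesc.Sh Z} (e : A ≅ B) (U : Z.Etale) :
    Function.Bijective (e.hom.hom.app (op U)) := by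
  refine ⟨Function.LeftInverse.injective (g := e.inv.hom.app (op U)) ?_,
    Function.RightInverse.surjective (g := e.inv.hom.app (op U)) ?_⟩
  · intro x
    exact congrArg (fun w => w.hom.app (op U) x) e.hom_inv_id
  · intro x
    exact congrArg (fun w => w.hom.app (op U) x) e.inv_hom_id

lemma bij_map_of_iso {Z : Scheme.{u}} (A : EtDesc.Sh Z) {U V : Z.Etale} (e : U ≅ V) :
    Function.Bijective (A.obj.map e.hom.op) := by
  refine ⟨Function.LeftInverse.injective (g := A.obj.map e.inv.op) ?_,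
    Function.RightInverse.surjective (g := A.obj.map e.inv.op) ?_⟩
  · intro x
    rw [← Functor.map_comp_apply, ← op_comp, e.inv_hom_id, op_id,
      Functor.map_id_apply]
  · intro x
    rw [← Functor.map_comp_apply, ← op_comp, e.hom_inv_id, op_id,
      Functor.map_id_apply]

variable {X Y Xb Yb : Scheme.{u}} (h : Y ⟶ X) (p : Xb ⟶ X) (hb : Yb ⟶ Xb) (pY : Yb ⟶ Y)
  (w : hb ≫ p = pY ≫ h) (Fb : EtDesc.Sh Xb)

theorem key : ∃ Ψ : EtDesc.sect ((EtDesc.pullSh hb).obj Fb) (EtCoh.top Yb) →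
      EtDesc.sect ((EtDesc.pushSh pY).obj ((EtDesc.pullSh hb).obj Fb)) (EtCoh.top Y),
    Function.Injective Ψ ∧ ∀ sb : EtDesc.sect Fb (EtCoh.top Xb),
      (EtBC.baseChange0Sh p h pY hb w Fb).hom.app (op (EtCoh.top Y))
        (EtDesc.secPull h ((EtDesc.pushSh p).obj Fb) (Fb.obj.map (EtCore.bcTopIso p).hom.op sb)) =
      Ψ (EtDesc.secPull hb Fb sb) := by
  obtain ⟨G, hG⟩ : ∃ G, G = (EtDesc.pullSh hb).obj Fb := ⟨_, rfl⟩
  obtain ⟨φ, hφ⟩ : ∃ φ, φ = (EtDesc.pushSh p).map ((EtDesc.adjSh hb).unit.app Fb) ≫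
      (EtDesc.pushCompSh p hb).hom.app _ ≫ (EtBC.pushCongrSh w).hom.app _ ≫
      (EtDesc.pushCompSh h pY).inv.app _ := ⟨_, rfl⟩
  have hA : (EtDesc.adjSh h).unit.app ((EtDesc.pushSh p).obj Fb) ≫
      (EtDesc.pushSh h).map (EtBC.baseChange0Sh p h pY hb w Fb) = φ := by
    rw [hφ]
    exact ((EtDesc.adjSh h).homEquiv_unit _ _ _).symm.trans (Equiv.apply_symm_apply _ _)
  refine ⟨fun t => ((EtDesc.pullSh hb).obj Fb).obj.map
      ((EtCoh.bc pY).map (EtCore.bcTopIso h).inv).op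
    (((EtDesc.pushCompSh h pY).inv.app ((EtDesc.pullSh hb).obj Fb)).hom.app (op (EtCoh.top X))
      (((EtBC.pushCongrSh w).hom.app ((EtDesc.pullSh hb).obj Fb)).hom.app (op (EtCoh.top X))
        (((EtDesc.pushCompSh p hb).hom.app ((EtDesc.pullSh hb).obj Fb)).hom.app (op (EtCoh.top X))
          (((EtDesc.pullSh hb).obj Fb).obj.map ((EtCoh.bc hb).map (EtCore.bcTopIso p).hom).op
            (((EtDesc.pullSh hb).obj Fb).obj.map (EtCore.bcTopIso hb).hom.op t))))), ?_, ?_⟩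
  · intro t t' htt
    have i1 := (bij_map_of_iso ((EtDesc.pullSh hb).obj Fb) (EtCore.bcTopIso hb)).1
    have i2 := (bij_map_of_iso ((EtDesc.pullSh hb).obj Fb)
      ((EtCoh.bc hb).mapIso (EtCore.bcTopIso p))).1
    have i3 := (bij_of_iso ((EtDesc.pushCompSh p hb).app ((EtDesc.pullSh hb).obj Fb))
      (EtCoh.top X)).1
    have i4 := (bij_of_iso ((EtBC.pushCongrSh w).app ((EtDesc.pullSh hb).obj Fb))
      (EtCoh.top X)).1
    have i5 := (bij_of_iso ((EtDesc.pushCompSh h pY).symm.app ((EtDesc.pullSh hb).obj Fb))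
      (EtCoh.top X)).1
    have i6 := (bij_map_of_iso ((EtDesc.pullSh hb).obj Fb)
      ((EtCoh.bc pY).mapIso (EtCore.bcTopIso h).symm)).1
    exact i1 (i2 (i3 (i4 (i5 (i6 htt)))))
  · intro sb
    have e2 := NatTrans.naturality_apply (EtBC.baseChange0Sh p h pY hb w Fb).hom
      (EtCore.bcTopIso h).inv.op
      (((EtDesc.adjSh h).unit.app ((EtDesc.pushSh p).obj Fb)).hom.app (op (EtCoh.top X))
            (Fb.obj.map (EtCore.bcTopIso p).hom.op sb))
    refine e2.trans ?_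
    have e3 := congrArg (fun v => v.hom.app (op (EtCoh.top X))
      (Fb.obj.map (EtCore.bcTopIso p).hom.op sb)) hA
    refine (congrArg (((EtDesc.pushSh pY).obj ((EtDesc.pullSh hb).obj Fb)).obj.map
      (EtCore.bcTopIso h).inv.op) e3).trans ?_
    rw [hφ]
    have e4 := NatTrans.naturality_apply ((EtDesc.adjSh hb).unit.app Fb).hom
      (EtCore.bcTopIso p).hom.op sb
    have e5 : ((EtDesc.adjSh hb).unit.app Fb).hom.app (op (EtCoh.top Xb)) sb =
        ((EtDesc.pullSh hb).obj Fb).obj.map (EtCore.bcTopIso hb).hom.op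
          (EtDesc.secPull hb Fb sb) := by
      unfold EtDesc.secPull
      rw [← Functor.map_comp_apply, ← op_comp, Iso.hom_inv_id, op_id,
        Functor.map_id_apply]
    beta_reduce
    rw [← e5]
    exact congrArg (fun z => ((EtDesc.pullSh hb).obj Fb).obj.map
      ((EtCoh.bc pY).map (EtCore.bcTopIso h).inv).op
      (((EtDesc.pushCompSh h pY).inv.app ((EtDesc.pullSh hb).obj Fb)).hom.app (op (EtCoh.top X))
      (((EtBC.pushCongrSh w).hom.app ((EtDesc.pullSh hb).obj Fb)).hom.app (op (EtCoh.top X))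
        (((EtDesc.pushCompSh p hb).hom.app ((EtDesc.pullSh hb).obj Fb)).hom.app (op (EtCoh.top X))
          z)))) e4


theorem injective_secPull_bar
    (hinj : ∀ F : EtDesc.Sh X, Function.Injective (EtDesc.secPull h F))
    [Mono (EtBC.baseChange0Sh p h pY hb w Fb)] :
    Function.Injective (EtDesc.secPull hb Fb) := by
  obtain ⟨Ψ, -, hΨ⟩ := key h p hb pY w Fb
  intro s₁ s₂ hs
  have hβ : Function.Injective ((EtBC.baseChange0Sh p h pY hb w Fb).hom.app (op (EtCoh.top Y))) :=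
    (PropABC.mono_iff_injective_sh _).1 inferInstance _
  have h1 := hΨ s₁
  have h2 := hΨ s₂
  rw [hs, ← h2] at h1
  exact (bij_map_of_iso Fb (EtCore.bcTopIso p)).1 (hinj _ (hβ h1))

theorem surjective_secPull_bar
    (hsurj : ∀ F : EtDesc.Sh X, Function.Surjective (EtDesc.secPull h F))
    [IsIso (EtBC.baseChange0Sh p h pY hb w Fb)] :
    Function.Surjective (EtDesc.secPull hb Fb) := by
  obtain ⟨Ψ, hΨi, hΨ⟩ := key h p hb pY w Fb
  intro t
  have hβ : Function.Surjective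
      ((EtBC.baseChange0Sh p h pY hb w Fb).hom.app (op (EtCoh.top Y))) :=
    (bij_of_iso (asIso (EtBC.baseChange0Sh p h pY hb w Fb)) (EtCoh.top Y)).2
  obtain ⟨r, hr⟩ := hβ (Ψ t)
  obtain ⟨s, hs⟩ := hsurj _ r
  obtain ⟨sb, hsb⟩ := (bij_map_of_iso Fb (EtCore.bcTopIso p)).2 s
  refine ⟨sb, hΨi ?_⟩
  rw [← hΨ sb, hsb, hs, hr]

theorem S8547_main :
    ((∀ F : EtDesc.Sh X, Function.Injective (EtDesc.secPull h F)) →
      (∀ Fb : EtDesc.Sh Xb, Mono (EtBC.baseChange0Sh p h pY hb w Fb)) →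
      ∀ Fb : EtDesc.Sh Xb, Function.Injective (EtDesc.secPull hb Fb)) ∧
    ((∀ F : EtDesc.Sh X, Function.Bijective (EtDesc.secPull h F)) →
      (∀ Fb : EtDesc.Sh Xb, IsIso (EtBC.baseChange0Sh p h pY hb w Fb)) →
      ∀ Fb : EtDesc.Sh Xb, Function.Bijective (EtDesc.secPull hb Fb)) := by
  refine ⟨fun hinj hm Fb => ?_, fun hbij hi Fb => ⟨?_, ?_⟩⟩
  · haveI := hm Fb
    exact injective_secPull_bar h p hb pY w Fb hinj
  · haveI := hi Fb
    exact injective_secPull_bar h p hb pY w Fb (fun F => (hbij F).1)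
  · haveI := hi Fb
    exact surjective_secPull_bar h p hb pY w Fb (fun F => (hbij F).2)

end Groth.Agent.H7.SQ
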