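import Mathlib
import Groth.Prelude.Def_SGA4b
import Groth.Prelude.Def_EtBCD
import Groth.Agent.Lib.Helper7.SQ2

/-!
# Helper7: SQ3 — descent of "sections pull back bijectively" along a surjective base change (S3517)
-/

set_option autoImplicit false

universe u

open CategoryTheory CategoryTheory.Limits Opposite AlgebraicGeometry

namespace Groth.Agent.H7.SQ

variable {X Y Xb Yb : Scheme.{u}} (h : Y ⟶ X) (p : Xb ⟶ X) (hb : Yb ⟶ Xb) (pY : Yb ⟶ Y)
  (w : hb ≫ p = pY ≫ h)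

section
variable (Fb : EtDesc.Sh Xb)

theorem key_bij : ∃ Ψ : EtDesc.sect ((EtDesc.pullSh hb).obj Fb) (EtCoh.top Yb) →
      EtDesc.sect ((EtDesc.pushSh pY).obj ((EtDesc.pullSh hb).obj Fb)) (EtCoh.top Y),
    Function.Bijective Ψ ∧ ∀ sb : EtDesc.sect Fb (EtCoh.top Xb),
      (EtBC.baseChange0Sh p h pY hb w Fb).hom.app (op (EtCoh.top Y))
        (EtDesc.secPull h ((EtDesc.pushSh p).obj Fb) (Fb.obj.map (EtCore.bcTopIso p).hom.op sb)) =
      Ψ (EtDesc.secPull hb Fb sb) := by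
  obtain ⟨G, hG⟩ : ∃ G, G = (EtDesc.pullSh hb).obj Fb := ⟨_, rfl⟩
  obtain ⟨φ, hφ⟩ : ∃ φ, φ = (EtDesc.pushSh p).map ((EtDesc.adjSh hb).unit.app Fb) ≫
      (EtDesc.pushCompSh p hb).hom.app _ ≫ (EtBC.pushCongrSh w).hom.app _ ≫
      (EtDesc.pushCompSh h pY).inv.app _ := ⟨_, rfl⟩
  have hA : (EtDesc.adjSh h).unit.app ((EtDesc.pushSh p).obj Fb) ≫
      (EtDesc.pushSh h).map (EtBC.baseChange0Sh p h pY hb w Fb) = φ := by
    rw [hφ]
    exact ((EtDesc.adjSh h).homEquiv_unit _ _ _).symm.trans (Equiv.apply_symm_apply _ _)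
  refine ⟨fun t => ((EtDesc.pullSh hb).obj Fb).obj.map
      ((EtCoh.bc pY).map (EtCore.bcTopIso h).inv).op
    (((EtDesc.pushCompSh h pY).inv.app ((EtDesc.pullSh hb).obj Fb)).hom.app (op (EtCoh.top X))
      (((EtBC.pushCongrSh w).hom.app ((EtDesc.pullSh hb).obj Fb)).hom.app (op (EtCoh.top X))
        (((EtDesc.pushCompSh p hb).hom.app ((EtDesc.pullSh hb).obj Fb)).hom.app (op (EtCoh.top X))
          (((EtDesc.pullSh hb).obj Fb).obj.map ((EtCoh.bc hb).map (EtCore.bcTopIso p).hom).op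
            (((EtDesc.pullSh hb).obj Fb).obj.map (EtCore.bcTopIso hb).hom.op t))))), ?_, ?_⟩
  · have i1 := bij_map_of_iso ((EtDesc.pullSh hb).obj Fb) (EtCore.bcTopIso hb)
    have i2 := bij_map_of_iso ((EtDesc.pullSh hb).obj Fb)
      ((EtCoh.bc hb).mapIso (EtCore.bcTopIso p))
    have i3 := bij_of_iso ((EtDesc.pushCompSh p hb).app ((EtDesc.pullSh hb).obj Fb))
      (EtCoh.top X)
    have i4 := bij_of_iso ((EtBC.pushCongrSh w).app ((EtDesc.pullSh hb).obj Fb))
      (EtCoh.top X)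
    have i5 := bij_of_iso ((EtDesc.pushCompSh h pY).symm.app ((EtDesc.pullSh hb).obj Fb))
      (EtCoh.top X)
    have i6 := bij_map_of_iso ((EtDesc.pullSh hb).obj Fb)
      ((EtCoh.bc pY).mapIso (EtCore.bcTopIso h).symm)
    exact i6.comp (i5.comp (i4.comp (i3.comp (i2.comp i1))))
  · intro sb
    have e2 := NatTrans.naturality_apply (EtBC.baseChange0Sh p h pY hb w Fb).hom
      (EtCore.bcTopIso h).inv.op
      (((EtDesc.adjSh h).unit.app ((EtDesc.pushSh p).obj Fb)).hom.app (op (EtCoh.top X))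
            (Fb.obj.map (EtCore.bcTopIso p).hom.op sb))
    refine e2.trans ?_
    have e3 := congrArg (fun v => v.hom.app (op (EtCoh.top X))
      (Fb.obj.map (EtCore.bcTopIso p).hom.op sb)) hA
    refine (congrArg (((EtDesc.pushSh pY).obj ((EtDesc.pullSh hb).obj Fb)).obj.map
      (EtCore.bcTopIso h).inv.op) e3).trans ?_
    rw [hφ]
    have e4 := NatTrans.naturality_apply ((EtDesc.adjSh hb).unit.app Fb).hom
      (EtCore.bcTopIso p).hom.op sb
    have e5 : ((EtDesc.adjSh hb).unit.app Fb).hom.app (op (EtCoh.top Xb)) sb =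
        ((EtDesc.pullSh hb).obj Fb).obj.map (EtCore.bcTopIso hb).hom.op
          (EtDesc.secPull hb Fb sb) := by
      unfold EtDesc.secPull
      rw [← Functor.map_comp_apply, ← op_comp, Iso.hom_inv_id, op_id,
        Functor.map_id_apply]
    beta_reduce
    rw [← e5]
    exact congrArg (fun z => ((EtDesc.pullSh hb).obj Fb).obj.map
      ((EtCoh.bc pY).map (EtCore.bcTopIso h).inv).op
      (((EtDesc.pushCompSh h pY).inv.app ((EtDesc.pullSh hb).obj Fb)).hom.app (op (EtCoh.top X))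
      (((EtBC.pushCongrSh w).hom.app ((EtDesc.pullSh hb).obj Fb)).hom.app (op (EtCoh.top X))
        (((EtDesc.pushCompSh p hb).hom.app ((EtDesc.pullSh hb).obj Fb)).hom.app (op (EtCoh.top X))
          z)))) e4



end

/-- for `p` surjective the unit `F ⟶ p_* p^* F` is a monomorphism -/
lemma mono_unit_of_surjective (hp : Function.Surjective p.base) (F : EtDesc.Sh X) :
    Mono ((EtDesc.adjSh p).unit.app F) := by
  haveI : Surjective p := ⟨hp⟩
  haveI : (EtDesc.pullSh p).Faithful := (ST.S3047_main p).1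
  exact Adjunction.unit_mono_of_L_faithful (EtDesc.adjSh p) F

include pY w in
theorem injective_of_bar (hp : Function.Surjective p.base)
    (hinjb : ∀ Fb : EtDesc.Sh Xb, Function.Injective (EtDesc.secPull hb Fb)) (F : EtDesc.Sh X) :
    Function.Injective (EtDesc.secPull h F) := by
  intro s₁ s₂ hs
  obtain ⟨u', hu'⟩ : ∃ u' : F ⟶ (EtDesc.pushSh p).obj ((EtDesc.pullSh p).obj F),
    u' = (EtDesc.adjSh p).unit.app F := ⟨_, rfl⟩
  haveI : Mono u' := hu' ▸ mono_unit_of_surjective p hp F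
  obtain ⟨Ψ, hΨb, hΨ⟩ := key_bij h p hb pY w ((EtDesc.pullSh p).obj F)
  have hu : Function.Injective (u'.hom.app (op (EtCoh.top X))) :=
    (PropABC.mono_iff_injective_sh _).1 inferInstance _
  apply hu
  obtain ⟨sb₁, h₁⟩ := (bij_map_of_iso ((EtDesc.pullSh p).obj F) (EtCore.bcTopIso p)).2
    (u'.hom.app (op (EtCoh.top X)) s₁)
  obtain ⟨sb₂, h₂⟩ := (bij_map_of_iso ((EtDesc.pullSh p).obj F) (EtCore.bcTopIso p)).2
    (u'.hom.app (op (EtCoh.top X)) s₂)
  have e₁ := hΨ sb₁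
  have e₂ := hΨ sb₂
  have n₁ := secPull_naturality h u' s₁
  have n₂ := secPull_naturality h u' s₂
  rw [h₁, n₁, hs, ← n₂, ← h₂, e₂] at e₁
  have := hinjb _ (hΨb.1 e₁)
  rw [← h₁, ← h₂, this]

theorem surjective_of_bar (hp : Function.Surjective p.base)
    (hbij : ∀ Fb : EtDesc.Sh Xb, Function.Bijective (EtDesc.secPull hb Fb))
    (hm : ∀ Fb : EtDesc.Sh Xb, Mono (EtBC.baseChange0Sh p h pY hb w Fb)) (F : EtDesc.Sh X) :
    Function.Surjective (EtDesc.secPull h F) := by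
  intro t
  haveI := mono_unit_of_surjective p hp F
  haveI := hm ((EtDesc.pullSh p).obj F)
  obtain ⟨Ψ, hΨb, hΨ⟩ := key_bij h p hb pY w ((EtDesc.pullSh p).obj F)
  have hβ : Function.Injective ((EtBC.baseChange0Sh p h pY hb w
      ((EtDesc.pullSh p).obj F)).hom.app (op (EtCoh.top Y))) :=
    (PropABC.mono_iff_injective_sh _).1 inferInstance _
  refine S8542_main h (fun F' => injective_of_bar h p hb pY w hp (fun Fb => (hbij Fb).1) F')
    ((EtDesc.adjSh p).unit.app F) t ?_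
  obtain ⟨tb, htb⟩ := hΨb.2 ((EtBC.baseChange0Sh p h pY hb w
      ((EtDesc.pullSh p).obj F)).hom.app (op (EtCoh.top Y))
      (((EtDesc.pullSh h).map ((EtDesc.adjSh p).unit.app F)).hom.app (op (EtCoh.top Y)) t))
  obtain ⟨sb, hsb⟩ := (hbij _).2 tb
  refine ⟨((EtDesc.pullSh p).obj F).obj.map (EtCore.bcTopIso p).hom.op sb, hβ ?_⟩
  refine (hΨ sb).trans ?_
  rw [hsb, htb]

theorem S3517_main (hp : Function.Surjective p.base) :
    ((∀ Fb : EtDesc.Sh Xb, Function.Injective (EtDesc.secPull hb Fb)) →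
      ∀ F : EtDesc.Sh X, Function.Injective (EtDesc.secPull h F)) ∧
    ((∀ Fb : EtDesc.Sh Xb, Function.Bijective (EtDesc.secPull hb Fb)) →
      (∀ Fb : EtDesc.Sh Xb, Mono (EtBC.baseChange0Sh p h pY hb w Fb)) →
      ∀ F : EtDesc.Sh X, Function.Bijective (EtDesc.secPull h F)) :=
  ⟨fun hinjb F => injective_of_bar h p hb pY w hp hinjb F,
    fun hbij hm F => ⟨injective_of_bar h p hb pY w hp (fun Fb => (hbij Fb).1) F,
      surjective_of_bar h p hb pY w hp hbij hm F⟩⟩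

end Groth.Agent.H7.SQ
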