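import Mathlib
import Groth.Prelude.Def_EtOpen
import Groth.Agent.Lib.Helper7.ES12
import Groth.Agent.Lib.Helper7.CI9
import Groth.Agent.Lib.Helper7.PropC1

/-!
# Helper7: SQ4 — opens of `X` and subobjects of the final object of the étale topos (S3896)
-/

set_option autoImplicit false

universe u

open CategoryTheory CategoryTheory.Limits Opposite AlgebraicGeometry

namespace Groth.Agent.H7.SubT

variable {X : Scheme.{u}}

/-- the representable presheaf, lifted one universe up -/
abbrev yU (U : X.Etale) : X.Etaleᵒᵖ ⥤ Type (u + 1) := yoneda.obj U ⋙ uliftFunctor.{u + 1, u}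

lemma ofOpen_hom (U : X.Opens) : (EtDesc.ofOpen U).hom = U.ι := rfl

lemma hom_ofOpen_subsingleton (U : X.Opens) (W : X.Etale) :
    Subsingleton (W ⟶ EtDesc.ofOpen U) :=
  ⟨fun α β => by
    apply MorphismProperty.Over.Hom.ext
    have hα : α.left ≫ U.ι = W.hom := MorphismProperty.Over.w α
    have hβ : β.left ≫ U.ι = W.hom := MorphismProperty.Over.w β
    exact (cancel_mono U.ι).1 (hα.trans hβ.symm)⟩

lemma nonempty_hom_ofOpen_iff (U : X.Opens) (W : X.Etale) :
    Nonempty (W ⟶ EtDesc.ofOpen U) ↔ Set.range W.hom.base ⊆ (U : Set X) := by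
  constructor
  · rintro ⟨α⟩ _ ⟨w, rfl⟩
    have hα : α.left ≫ U.ι = W.hom := MorphismProperty.Over.w α
    rw [← hα]
    exact (α.left.base w).2
  · intro h
    have h' : Set.range W.hom.base ⊆ Set.range U.ι.base := by
      rwa [Scheme.Opens.range_ι]
    let l : W.left ⟶ (U : Scheme.{u}) := IsOpenImmersion.lift U.ι W.hom h'
    have hl : l ≫ U.ι = W.hom := IsOpenImmersion.lift_fac _ _ _
    exact ⟨MorphismProperty.Over.homMk l hl⟩


/-- the unit of sheafification for the presheaf `yU V` -/
noncomputable abbrev eta (V : X.Etale) : yU V ⟶ (EtDesc.repSh V).obj :=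
  toSheafify X.smallEtaleTopology (yU V)

/-- sections of a sheaf agreeing on a covering sieve agree -/
lemma sh_ext (G : EtDesc.Sh X) {W : X.Etale} (S : Sieve W) (hS : S ∈ X.smallEtaleTopology W)
    (s t : G.obj.obj (op W))
    (h : ∀ ⦃Y : X.Etale⦄ (f : Y ⟶ W), S f → G.obj.map f.op s = G.obj.map f.op t) : s = t := by
  have hG := (isSheaf_iff_isSheaf_of_type _ _).1 G.property
  exact (hG _ hS).isSeparatedFor.ext (fun Y f hf => h f hf)

/-- the sheaf attached to an open has at most one section over every object -/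
lemma repSh_ofOpen_subsingleton (U : X.Opens) (W : X.Etale) :
    Subsingleton ((EtDesc.repSh (EtDesc.ofOpen U)).obj.obj (op W)) := by
  refine ⟨fun s t => ?_⟩
  have hs := Presheaf.imageSieve_mem X.smallEtaleTopology (eta (EtDesc.ofOpen U)) s
  have ht := Presheaf.imageSieve_mem X.smallEtaleTopology (eta (EtDesc.ofOpen U)) t
  refine sh_ext _ _ (X.smallEtaleTopology.intersection_covering hs ht) s t ?_
  rintro Y f ⟨⟨p, hp⟩, ⟨q, hq⟩⟩
  haveI := hom_ofOpen_subsingleton U Y
  have hpq : p = q := by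
    obtain ⟨p⟩ := p
    obtain ⟨q⟩ := q
    exact congrArg ULift.up (Subsingleton.elim _ _)
  rw [← hp, ← hq, hpq]

theorem mono_terminal_from_repSh (U : X.Opens) :
    Mono (terminal.from (EtDesc.repSh (EtDesc.ofOpen U))) := by
  rw [PropABC.mono_iff_injective_sh]
  intro W a b _
  haveI := repSh_ofOpen_subsingleton U W
  exact Subsingleton.elim a b

theorem le_iff_nonempty_hom (U V : X.Opens) :
    U ≤ V ↔ Nonempty (EtDesc.repSh (EtDesc.ofOpen U) ⟶ EtDesc.repSh (EtDesc.ofOpen V)) := by
  constructor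
  · intro h
    have hr : Set.range (EtDesc.ofOpen U).hom.base ⊆ (V : Set X) := by
      have e : Set.range (EtDesc.ofOpen U).hom.base = (U : Set X) := Scheme.Opens.range_ι U
      rw [e]
      exact h
    obtain ⟨m⟩ := (nonempty_hom_ofOpen_iff V (EtDesc.ofOpen U)).2 hr
    exact ⟨(presheafToSheaf X.smallEtaleTopology (Type (u + 1))).map
      (Functor.whiskerRight (yoneda.map m) uliftFunctor.{u + 1, u})⟩
  · rintro ⟨φ⟩
    let e : (EtDesc.repSh (EtDesc.ofOpen U)).obj.obj (op (EtDesc.ofOpen U)) :=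
      (eta (EtDesc.ofOpen U)).app (op (EtDesc.ofOpen U)) (ULift.up (𝟙 (EtDesc.ofOpen U)))
    let t := φ.hom.app (op (EtDesc.ofOpen U)) e
    have ht := Presheaf.imageSieve_mem X.smallEtaleTopology (eta (EtDesc.ofOpen V)) t
    intro x hx
    obtain ⟨W, g, y, ⟨p, -⟩, hy⟩ := CI.exists_of_mem_smallEtaleTopology _ ht ⟨x, hx⟩
    have hW := (nonempty_hom_ofOpen_iff V W).1 ⟨p.down⟩
    have hg : g.left ≫ U.ι = W.hom := MorphismProperty.Over.w g
    have : x = W.hom.base y := by
      rw [← hg]
      change x = U.ι.base (g.left.base y)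
      rw [hy]
      rfl
    rw [this]
    exact hW ⟨y, rfl⟩


section Sub

variable (F : EtDesc.Sh X) [hF : Mono (terminal.from F)]

include hF in
lemma sub_subsingleton (W : X.Etale) : Subsingleton (F.obj.obj (op W)) := by
  let m' : F ⟶ Sheaf.terminal X.smallEtaleTopology Types.isTerminalPUnit.{u + 1} :=
    (Sheaf.isTerminalTerminal X.smallEtaleTopology Types.isTerminalPUnit.{u + 1}).from F
  haveI : Mono m' := ⟨fun g h _ => (cancel_mono (terminal.from F)).1 (Subsingleton.elim _ _)⟩
  have hinj := (PropABC.mono_iff_injective_sh m').1 inferInstance W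
  exact ⟨fun a b => hinj (Subsingleton.elim (α := PUnit) _ _)⟩

/-- the open attached to a subterminal sheaf -/
def openOf : X.Opens :=
  ⟨⋃ (W : X.Etale) (_ : Nonempty (F.obj.obj (op W))), Set.range W.hom.base, by
    refine isOpen_iUnion (fun W => isOpen_iUnion (fun _ => ?_))
    haveI : Etale W.hom := W.prop
    exact W.hom.isOpenMap.isOpen_range⟩

lemma range_subset_openOf (W : X.Etale) (h : Nonempty (F.obj.obj (op W))) :
    Set.range W.hom.base ⊆ (openOf F : Set X) := by
  intro x hx
  exact Set.mem_iUnion.2 ⟨W, Set.mem_iUnion.2 ⟨h, hx⟩⟩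

/-- the sieve of all objects over `openOf F` on which `F` has a section -/
def secSieve : Sieve (EtDesc.ofOpen (openOf F)) where
  arrows W _ := Nonempty (F.obj.obj (op W))
  downward_closed := by
    rintro Y Z f ⟨s⟩ g
    exact ⟨F.obj.map g.op s⟩

lemma secSieve_mem : secSieve F ∈ X.smallEtaleTopology (EtDesc.ofOpen (openOf F)) := by
  refine ES.sieve_mem_of_jointly_surjective _ ?_
  rintro ⟨x, hx⟩
  obtain ⟨W, hW⟩ := Set.mem_iUnion.1 hx
  obtain ⟨hne, y, hy⟩ := Set.mem_iUnion.1 hW
  obtain ⟨g⟩ := (nonempty_hom_ofOpen_iff (openOf F) W).2 (range_subset_openOf F W hne)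
  refine ⟨W, g, y, hne, ?_⟩
  apply Subtype.ext
  have hg : g.left ≫ (openOf F).ι = W.hom := MorphismProperty.Over.w g
  have : (openOf F).ι.base (g.left.base y) = W.hom.base y := by
    rw [← hg]; rfl
  exact this.trans hy

include hF in
lemma nonempty_sec_openOf : Nonempty (F.obj.obj (op (EtDesc.ofOpen (openOf F)))) := by
  have hsh := (isSheaf_iff_isSheaf_of_type _ _).1 F.property
  let x : Presieve.FamilyOfElements F.obj (secSieve F).arrows :=
    fun W g hg => Classical.choice hg
  have hx : x.Compatible := by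
    intro Y₁ Y₂ Z g₁ g₂ f₁ f₂ h₁ h₂ _
    haveI := sub_subsingleton F Z
    exact Subsingleton.elim _ _
  exact ⟨(hsh _ (secSieve_mem F)).amalgamate x hx⟩

include hF in
theorem exists_iso_repSh : Nonempty (F ≅ EtDesc.repSh (EtDesc.ofOpen (openOf F))) := by
  obtain ⟨e⟩ := nonempty_sec_openOf F
  haveI hsub := sub_subsingleton F
  let ψ : yU (EtDesc.ofOpen (openOf F)) ⟶ F.obj :=
    { app := fun W => ↾(fun g => F.obj.map g.down.op e)
      naturality := by
        intro W W' f
        ext g
        exact Subsingleton.elim _ _ }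
  haveI : Presheaf.IsLocallyInjective X.smallEtaleTopology ψ := by
    apply Presheaf.isLocallyInjective_of_injective
    intro W a b _
    haveI := hom_ofOpen_subsingleton (openOf F) W.unop
    obtain ⟨a⟩ := a
    obtain ⟨b⟩ := b
    exact congrArg ULift.up (Subsingleton.elim _ _)
  haveI : Presheaf.IsLocallySurjective X.smallEtaleTopology ψ := by
    apply Presheaf.isLocallySurjective_of_surjective
    intro W t
    obtain ⟨g⟩ := (nonempty_hom_ofOpen_iff (openOf F) W.unop).2
      (range_subset_openOf F W.unop ⟨t⟩)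
    exact ⟨ULift.up g, Subsingleton.elim _ _⟩
  have hW : X.smallEtaleTopology.W ψ := X.smallEtaleTopology.W_of_isLocallyBijective ψ
  haveI : IsIso ((presheafToSheaf X.smallEtaleTopology (Type (u + 1))).map ψ) :=
    (X.smallEtaleTopology.W_iff ψ).1 hW
  exact ⟨(asIso ((sheafificationAdjunction X.smallEtaleTopology (Type (u + 1))).counit.app F)).symm
    ≪≫ (asIso ((presheafToSheaf X.smallEtaleTopology (Type (u + 1))).map ψ)).symm⟩

end Sub

theorem S3896_main (X : Scheme.{u}) :
    (∀ U : X.Opens, Mono (terminal.from (EtDesc.repSh (EtDesc.ofOpen U)))) ∧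
    (∀ U V : X.Opens, U ≤ V ↔
      Nonempty (EtDesc.repSh (EtDesc.ofOpen U) ⟶ EtDesc.repSh (EtDesc.ofOpen V))) ∧
    (∀ F : EtDesc.Sh X, Mono (terminal.from F) →
      ∃ U : X.Opens, Nonempty (F ≅ EtDesc.repSh (EtDesc.ofOpen U))) :=
  ⟨mono_terminal_from_repSh, le_iff_nonempty_hom, fun F hF => ⟨openOf F, exists_iso_repSh F⟩⟩

end Groth.Agent.H7.SubT
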