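import Mathlib
import Groth.Prelude.Def_SGA4b
import Groth.Prelude.Def_EtBase
import Groth.Agent.Lib.Helper7.ST12
import Groth.Agent.Lib.Helper7.ST6
import Groth.Prelude.Def_Hensel
import Groth.Prelude.Def_Hens2

set_option autoImplicit false

universe u

open CategoryTheory CategoryTheory.Limits Opposite AlgebraicGeometry

namespace Groth.Agent.H7.ST

variable (R : Type u) [CommRing R] [HenselianLocalRing R]
  [IsSepClosed (IsLocalRing.ResidueField R)]

/-- Global sections of a presheaf of sets map bijectively onto the stalk at the closed geometric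
point. -/
theorem bijective_toPresheafFiber_type (P : (Spec (CommRingCat.of R)).Etaleᵒᵖ ⥤ Type (u + 1)) :
    Function.Bijective ((Scheme.pointSmallEtale (clPt R)).toPresheafFiber
      (EtCoh.top (Spec (CommRingCat.of R))) (clPtTop R) P) := by
  constructor
  · intro z₁ z₂ h
    obtain ⟨Y, g, q, hq, hg⟩ :=
      ((Scheme.pointSmallEtale (clPt R)).toPresheafFiber_eq_iff' (P := P)
        (EtCoh.top (Spec (CommRingCat.of R))) (clPtTop R) z₁ z₂).1 h
    obtain ⟨f, hf⟩ := exists_section_of_fiber R Y q
    have hfg : f ≫ g = 𝟙 _ := (EtCore.topIsTerminal _).hom_ext _ _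
    have h1 : P.map f.op (P.map g.op z₁) = z₁ := by
      have : P.map (f ≫ g).op = 𝟙 _ := by rw [hfg, op_id, P.map_id]
      rw [op_comp, P.map_comp] at this
      exact ConcreteCategory.congr_hom this z₁
    have h2 : P.map f.op (P.map g.op z₂) = z₂ := by
      have : P.map (f ≫ g).op = 𝟙 _ := by rw [hfg, op_id, P.map_id]
      rw [op_comp, P.map_comp] at this
      exact ConcreteCategory.congr_hom this z₂
    rw [← h1, ← h2, hg]
  · intro p
    obtain ⟨U, u, z, rfl⟩ :=
      (Scheme.pointSmallEtale (clPt R)).toPresheafFiber_jointly_surjective (P := P) p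
    obtain ⟨f, hf⟩ := exists_section_of_fiber R U u
    refine ⟨P.map f.op z, ?_⟩
    have hw := (Scheme.pointSmallEtale (clPt R)).toPresheafFiber_w f (clPtTop R) P
    rw [hf] at hw
    exact ConcreteCategory.congr_hom hw z

theorem S6179_main (F : EtDesc.Sh (Spec (CommRingCat.of R))) :
    Function.Bijective ((Scheme.pointSmallEtale (clPt R)).toPresheafFiber (A := Type (u + 1))
      (EtCoh.top (Spec (CommRingCat.of R))) (clPtTop R) F.obj) :=
  bijective_toPresheafFiber_type R F.obj

end Groth.Agent.H7.ST

namespace Groth.Agent.H7.ST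

variable (R : Type u) [CommRing R] [HenselianLocalRing R]
  [IsSepClosed (IsLocalRing.ResidueField R)]

/-- Global sections are the stalk at the closed point, as functors on sheaves of sets. -/
noncomputable def gsecIsoStalkSh :
    (sheafSections (Spec (CommRingCat.of R)).smallEtaleTopology (Type (u + 1))).obj
        (op (EtCoh.top (Spec (CommRingCat.of R)))) ≅
      stalkSh (clPt R) :=
  NatIso.ofComponents (fun F =>
    @asIso _ _ _ _ ((Scheme.pointSmallEtale (clPt R)).toPresheafFiber (A := Type (u + 1))
        (EtCoh.top (Spec (CommRingCat.of R))) (clPtTop R) F.obj)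
      ((isIso_iff_bijective _).2 (S6179_main R F))) (fun {F G} a => by
    exact ((Scheme.pointSmallEtale (clPt R)).toPresheafFiber_naturality a.hom
      (EtCoh.top (Spec (CommRingCat.of R))) (clPtTop R)).symm)

end Groth.Agent.H7.ST

namespace Groth.Agent.H7.ST

theorem S6180_main (X : Scheme.{u}) (x : X)
    (R : Type u) [CommRing R] [IsLocalRing R] [Algebra (X.presheaf.stalk x) R]
    [IsLocalHom (algebraMap (X.presheaf.stalk x) R)] [Hensel.IsStrictHenselization (X.presheaf.stalk x) R]
    [IsSepClosed (IsLocalRing.ResidueField R)] :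
    Nonempty ((Scheme.pointSmallEtale (Hens2.geomPt X x R)).sheafFiber (A := Type (u + 1)) ≅
      EtDesc.pullSh (Hens2.specOf X x R) ⋙
        (sheafSections (Spec (CommRingCat.of R)).smallEtaleTopology (Type (u + 1))).obj
          (op (EtCoh.top (Spec (CommRingCat.of R))))) := by
  haveI : HenselianLocalRing R := Hensel.IsStrictHenselization.henselian (R := X.presheaf.stalk x)
  exact ⟨(stalkPullShIso (Hens2.specOf X x R) (clPt R)).symm ≪≫
    Functor.isoWhiskerLeft (EtDesc.pullSh (Hens2.specOf X x R)) (gsecIsoStalkSh R).symm⟩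

end Groth.Agent.H7.ST
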