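import Mathlib
import Groth.Prelude.Def_EtShriek2
import Groth.Agent.Lib.Helper7.ST1
import Groth.Agent.Lib.Helper7.ES4
import Groth.Agent.Lib.Helper7.ES2

set_option autoImplicit false

universe u

open CategoryTheory CategoryTheory.Limits Opposite AlgebraicGeometry

namespace Groth.Agent.H7.ST

open Groth.Agent.H7.ES

theorem S19885_main {V X : Scheme.{u}} (j : V ⟶ X) [AlgebraicGeometry.Etale j] [Mono j]
    (G : EtCoh.Ab V) {Ω : Type u} [Field Ω] [IsSepClosed Ω] (ζ : Spec (CommRingCat.of Ω) ⟶ V) :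
    Nonempty ((EtCoh.stalk (ζ ≫ j)).obj ((EtCoh.push j).obj G) ≅ (EtCoh.stalk ζ).obj G) := by
  haveI := isIso_pullPushAdj_counit j G
  exact ⟨((stalkPullIso j ζ).app ((EtCoh.push j).obj G)).symm ≪≫
    (EtCoh.stalk ζ).mapIso (asIso ((EtCoh.pullPushAdj j).counit.app G))⟩

end Groth.Agent.H7.ST
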