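import Mathlib
import Groth.Prelude.Def_EtAcyc
import Groth.Agent.Lib.Helper7.ST5

set_option autoImplicit false

universe u

open CategoryTheory CategoryTheory.Limits Opposite AlgebraicGeometry

namespace Groth.Agent.H7.ST

section Lift

variable {X : Scheme.{u}} {Ω : Type u} [Field Ω] [IsSepClosed Ω]
  (ξ : Spec (CommRingCat.of Ω) ⟶ X)

set_option backward.isDefEq.respectTransparency.types false in
/-- Lifting an element of the fibre along a morphism of étale schemes hitting its image point. -/
lemma exists_fiber_lift {U V : X.Etale} (g : V ⟶ U) (x : (Scheme.pointSmallEtale ξ).fiber.obj U)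
    (v : V.left)
    (hv : g.left.base v = x.left.base (default : Spec (CommRingCat.of Ω))) :
    ∃ y : (Scheme.pointSmallEtale ξ).fiber.obj V,
      (Scheme.pointSmallEtale ξ).fiber.map g y = x ∧
        y.left.base (default : Spec (CommRingCat.of Ω)) = v := by
  let xl : Spec (CommRingCat.of Ω) ⟶ U.left := x.left
  have hx : xl ≫ U.hom = ξ := Over.w x
  obtain ⟨l, hl1, hl2⟩ := Scheme.exists_fac_of_etale_of_isSepClosed g.left xl v hv
  have hg : g.left ≫ U.hom = V.hom := MorphismProperty.Over.w g
  refine ⟨Over.homMk l (by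
    change l ≫ V.hom = ξ
    rw [← hg, ← Category.assoc, hl1, hx]), ?_, hl2⟩
  apply Over.OverMorphism.ext
  exact hl1

end Lift

section LTorsion

variable {X : Scheme.{u}}

set_option backward.isDefEq.respectTransparency.types false in
theorem S8525_main (L : Set ℕ) (F : EtCoh.Ab X) :
    EtAcyc.IsLTorsion L F ↔
      ∀ (Ω : Type u) [Field Ω] [IsSepClosed Ω] (ξ : Spec (CommRingCat.of Ω) ⟶ X)
        (t : (EtCoh.stalk ξ).obj F), ∃ m : ℕ, EtAcyc.PrimesIn L m ∧ m • t = 0 := by
  constructor
  · intro h Ω _ _ ξ t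
    let Φ := Scheme.pointSmallEtale ξ
    obtain ⟨U, x, s, rfl⟩ := Φ.toPresheafFiber_jointly_surjective (P := F.obj) t
    obtain ⟨V, g, m, ⟨v, hv⟩, hm, hs⟩ :=
      h U s (x.left.base (default : Spec (CommRingCat.of Ω)))
    obtain ⟨y, hy, -⟩ := exists_fiber_lift ξ g x v hv
    refine ⟨m, hm, ?_⟩
    have h1 := GrothendieckTopology.Point.toPresheafFiber_w_apply Φ g y F.obj s
    rw [hy] at h1
    have h2 : m • (Φ.toPresheafFiber V y F.obj (F.obj.map g.op s)) =
        Φ.toPresheafFiber V y F.obj (m • F.obj.map g.op s) :=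
      (map_nsmul (Φ.toPresheafFiber V y F.obj).hom m _).symm
    rw [hs, map_zero, h1] at h2
    exact h2
  · intro h U s u
    let ζ := geomξ U.left u
    let ξ := ζ ≫ U.hom
    let Φ := Scheme.pointSmallEtale ξ
    let x : Φ.fiber.obj U := Over.homMk ζ rfl
    obtain ⟨m, hm, ht⟩ := h _ ξ (Φ.toPresheafFiber U x F.obj s)
    have h2 : m • (Φ.toPresheafFiber U x F.obj s) = Φ.toPresheafFiber U x F.obj (m • s) :=
      (map_nsmul (Φ.toPresheafFiber U x F.obj).hom m _).symm
    have ht' : Φ.toPresheafFiber U x F.obj (m • s) = Φ.toPresheafFiber U x F.obj 0 := by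
      rw [← h2, map_zero]
      exact ht
    obtain ⟨V, g, y, hy, hg⟩ := (Φ.toPresheafFiber_eq_iff' U x _ _).1 ht'
    refine ⟨V, g, m, ⟨y.left.base (default : Spec (CommRingCat.of _)), ?_⟩, hm, ?_⟩
    · have h2 := congrArg (fun k : Φ.fiber.obj U => k.left.base
        (default : Spec (CommRingCat.of _))) hy
      refine Eq.trans ?_ (h2.trans (geomξ_default U.left u))
      rfl
    · rw [map_nsmul, map_zero] at hg
      exact hg

end LTorsion

end Groth.Agent.H7.ST
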