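import Groth.Prelude.Def_CInt
import Groth.Agent.Lib.Helper5.AlgSp.ImmersionDense
import Mathlib

/-!
# Schematic density, topological density and irreducible components
-/

set_option autoImplicit false

universe u

open CategoryTheory CategoryTheory.Limits AlgebraicGeometry Opposite Topology

namespace Groth.Agent.H7.SchDenseRed

/-- A schematically dense open is topologically dense. -/
theorem dense_of_schDense {X : Scheme.{u}} {V : X.Opens} (hV : CInt.IsSchematicallyDense V) :
    Dense (V : Set X) := by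
  rw [dense_iff_inter_open]
  intro O hO hne
  by_contra hcon
  rw [Set.not_nonempty_iff_eq_empty] at hcon
  obtain ⟨x, hx⟩ := hne
  let O' : X.Opens := ⟨O, hO⟩
  have hbot : O' ⊓ V = ⊥ := by
    ext y
    simp only [TopologicalSpace.Opens.coe_inf, TopologicalSpace.Opens.coe_bot,
      Set.mem_empty_iff_false, iff_false]
    intro hy
    have : y ∈ O ∩ (V : Set X) := hy
    rw [hcon] at this
    exact this
  have hsub : Subsingleton Γ(X, O' ⊓ V) := by rw [hbot]; infer_instance
  have h10 : (1 : Γ(X, O')) = 0 := hV O' (Subsingleton.elim _ _)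
  have := congrArg (X.presheaf.germ O' x hx) h10
  rw [map_one, map_zero] at this
  exact one_ne_zero this

/-- With locally finitely many irreducible components, a dense open meets every irreducible
component. -/
theorem inter_nonempty_of_dense_of_locallyFinite {X : Type*} [TopologicalSpace X]
    (hfin : ∀ x : X, ∃ W : Set X, IsOpen W ∧ x ∈ W ∧
      {Z ∈ irreducibleComponents X | (Z ∩ W).Nonempty}.Finite)
    {V : Set X} (hV : Dense V) {Z : Set X} (hZ : Z ∈ irreducibleComponents X) :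
    (Z ∩ V).Nonempty := by
  obtain ⟨z, hz⟩ := hZ.1.nonempty
  obtain ⟨W, hWo, hzW, hF⟩ := hfin z
  set F := {Z' ∈ irreducibleComponents X | (Z' ∩ W).Nonempty} with hFdef
  let C := ⋃₀ (F \ {Z})
  have hCc : IsClosed C := by
    change IsClosed (⋃₀ (F \ {Z}))
    rw [Set.sUnion_eq_biUnion]
    exact hF.sdiff.isClosed_biUnion fun s hs => isClosed_of_mem_irreducibleComponents s hs.1.1
  have h1 : ¬ (Z ∩ W ⊆ C) := by
    intro h
    have h2 : Z ⊆ C :=
      (subset_closure_inter_of_isPreirreducible_of_isOpen hZ.1.2 hWo ⟨z, hz, hzW⟩).trans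
        (hCc.closure_subset_iff.2 h)
    have h3 := mem_of_subset_sUnion_irreducibleComponents Z hZ (F \ {Z}) hF.sdiff
      (fun s hs => hs.1.1) h2
    exact h3.2 rfl
  obtain ⟨y0, ⟨hy0Z, hy0W⟩, hy0C⟩ := Set.not_subset.1 h1
  obtain ⟨y, ⟨hyW, hyC⟩, hyV⟩ := hV.inter_open_nonempty (W \ C) (hWo.sdiff hCc) ⟨y0, hy0W, hy0C⟩
  have hZy := irreducibleComponent_mem_irreducibleComponents y
  have hyZy : y ∈ irreducibleComponent y := mem_irreducibleComponent
  have hZyF : irreducibleComponent y ∈ F := ⟨hZy, ⟨y, hyZy, hyW⟩⟩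
  by_cases he : irreducibleComponent y = Z
  · exact ⟨y, he ▸ hyZy, hyV⟩
  · exact (hyC ⟨_, ⟨hZyF, he⟩, hyZy⟩).elim

theorem S3842_main {X X' : Scheme.{u}} (f : X' ⟶ X) [IsReduced X']
    (hfin : ∀ x : ↥X, ∃ W : X.Opens, x ∈ W ∧
      {Z ∈ irreducibleComponents ↥X | (Z ∩ (W : Set ↥X)).Nonempty}.Finite)
    (hdom : ∀ Z' ∈ irreducibleComponents ↥X', closure (f '' Z') ∈ irreducibleComponents ↥X)
    (V : X.Opens) (hV : CInt.IsSchematicallyDense V) : CInt.IsSchematicallyDense (f ⁻¹ᵁ V) := by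
  apply Groth.Agent.H5.AlgSp.isSchematicallyDense_of_dense_of_isReduced
  have hVd : Dense (V : Set X) := dense_of_schDense hV
  have hfin' : ∀ x : X, ∃ W : Set X, IsOpen W ∧ x ∈ W ∧
      {Z ∈ irreducibleComponents X | (Z ∩ W).Nonempty}.Finite := by
    intro x
    obtain ⟨W, hxW, hW⟩ := hfin x
    exact ⟨W, W.2, hxW, hW⟩
  intro x'
  have hZ' : irreducibleComponent x' ∈ irreducibleComponents X' :=
    irreducibleComponent_mem_irreducibleComponents x'
  have hZ := hdom _ hZ'
  obtain ⟨y, hyZ, hyV⟩ := inter_nonempty_of_dense_of_locallyFinite hfin' hVd hZ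
  obtain ⟨_, hfV, ⟨z', hz', rfl⟩⟩ := mem_closure_iff.1 hyZ V V.2 hyV
  have h1 := subset_closure_inter_of_isPreirreducible_of_isOpen hZ'.1.2 (f ⁻¹ᵁ V).2
    ⟨z', hz', hfV⟩
  exact closure_mono Set.inter_subset_right (h1 mem_irreducibleComponent)

end Groth.Agent.H7.SchDenseRed
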