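import Mathlib
import Groth.Prelude.Def_AlgSp4
import Groth.Prelude.Def_AlgSpSub
import Groth.Agent.Lib.Helper5.AlgSp.RedInduced
import Groth.Agent.Lib.Helper5.AlgSp.QCompact
import Groth.Agent.Lib.Helper5.AlgSp.ImmersionDense
import Groth.Agent.Lib.Helper3.Decent.Etale

set_option autoImplicit false
universe u
open CategoryTheory CategoryTheory.Limits AlgebraicGeometry Opposite

namespace Groth.Agent.H7.SchImRed

open _root_.AlgSp Groth.Agent.H5.AlgSp

variable {S : Scheme.{u}}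

/-- Reducedness ascends along étale morphisms of algebraic spaces. -/
theorem isReducedSp_of_isEtaleMor {X Y : Sp S} (hX : IsAlgSpace X) (f : X ⟶ Y)
    (hf : IsEtaleMor f) (hYr : IsReducedSp Y) : IsReducedSp X := by
  obtain ⟨W, φ, hφe, hφs⟩ := hX.atlas
  exact ⟨W, φ, hφe, hφs, isReduced_of_etale_of_isReducedSp hYr (φ ≫ f) (hf φ hφe)⟩

theorem isOpenMap_points_map_of_isEtaleMor {X Y : Sp S} (hX : IsAlgSpace X) (hY : IsAlgSpace Y)
    {f : X ⟶ Y} (hf : IsEtaleMor f) : IsOpenMap (Points.map f) :=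
  isUnivOpenMor_of_isEtaleMor hX hf hY (𝟙 Y) (𝟙 X) f (IsPullback.of_horiz_isIso ⟨by simp⟩)

theorem S12193_sp {X Y Z V XV ZV : Sp S} (hX : IsAlgSpace X) (hY : IsAlgSpace Y)
    (hZa : IsAlgSpace Z) (hV : IsAlgSpace V) (hXV : IsAlgSpace XV) (hZV : IsAlgSpace ZV)
    (f : X ⟶ Y)
    (i : Z ⟶ Y) (hXr : AlgSp.IsReducedSp X) (hZ : AlgSp.IsSchImage f i) (b : V ⟶ Y)
    (hb : AlgSp.IsEtaleMor b) (f₁ : XV ⟶ X) (fV : XV ⟶ V) (i₁ : ZV ⟶ Z) (iV : ZV ⟶ V)
    (sqX : IsPullback f₁ fV f b) (sqZ : IsPullback i₁ iV i b) :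
    AlgSp.IsSchImage fV iV := by
  obtain ⟨hi, hrange, hZr⟩ := isRedInduced_of_isSchImage hY f i hXr hZ
  obtain ⟨-, ⟨f', hf'⟩, -⟩ := hZ
  have hiV : RepWith @IsClosedImmersion iV := (RepWith @IsClosedImmersion).of_isPullback sqZ hi
  -- `ZV` is reduced
  have hi₁ : IsEtaleMor i₁ :=
    Groth.Agent.H3.Decent.isEtaleMor_of_isPullback sqZ.flip hV hY hZa hb
  have hZVr : IsReducedSp ZV := isReducedSp_of_isEtaleMor hZV i₁ hi₁ hZr
  -- the range of `iV`
  have hbo : IsOpenMap (Points.map b) := isOpenMap_points_map_of_isEtaleMor hV hY hb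
  have hrV : Set.range (Points.map iV) = closure (Set.range (Points.map fV)) := by
    rw [range_points_map_fst sqZ.flip, hrange,
      hbo.preimage_closure_eq_closure_preimage (Points.continuous_map b),
      range_points_map_fst sqX.flip]
  refine ⟨hiV, ⟨sqZ.lift (f₁ ≫ f') fV (by rw [Category.assoc, hf', sqX.w]), sqZ.lift_snd _ _ _⟩, ?_⟩
  intro Z'' i'' hZ'' hi'' ⟨f'', hf''⟩
  apply exists_lift_closed_of_isReducedSp i'' hi'' hZVr iV
  rw [hrV]
  apply closure_minimal _ (isClosed_range_points_map_of_isClosedImmersion hV i'' hi'')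
  rintro _ ⟨x, rfl⟩
  exact ⟨Points.map f'' x, by rw [← Points.map_comp, hf'']⟩

theorem S12193_main {X Y Z V XV ZV : AlgSp.Space S} (f : X ⟶ Y)
    (i : Z ⟶ Y) (hX : AlgSp.IsReducedSp X.obj) (hZ : AlgSp.IsSchImage f.hom i.hom) (b : V ⟶ Y)
    (hb : AlgSp.IsEtaleMor b.hom) (f₁ : XV ⟶ X) (fV : XV ⟶ V) (i₁ : ZV ⟶ Z) (iV : ZV ⟶ V)
    (sqX : IsPullback f₁.hom fV.hom f.hom b.hom) (sqZ : IsPullback i₁.hom iV.hom i.hom b.hom) :
    AlgSp.IsSchImage fV.hom iV.hom :=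
  S12193_sp X.property Y.property Z.property V.property XV.property ZV.property f.hom i.hom hX hZ
    b.hom hb f₁.hom fV.hom i₁.hom iV.hom sqX sqZ

end Groth.Agent.H7.SchImRed
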