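import Mathlib

/-!
# A local homomorphism with a retraction, essentially of finite type, with trivial fibre, is
bijective
-/

set_option autoImplicit false

open IsLocalRing

namespace Groth.Agent.H7.SecIso

variable {A A' B : Type*} [CommRing A] [CommRing A'] [CommRing B]

/-- the case where the retraction is a genuine retraction -/
theorem bijective_of_retraction [IsLocalRing A] [IsLocalRing B] (φ : A →+* B) [IsLocalHom φ]
    (ψ : B →+* A) (hψφ : ∀ a, ψ (φ a) = a) (hft : φ.EssFiniteType)
    (hfib : ∀ b : B, ∃ a : A, b - φ a ∈ Ideal.map φ (maximalIdeal A)) :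
    Function.Bijective φ := by
  classical
  letI := φ.toAlgebra
  have hft' : Algebra.EssFiniteType A B := hft
  obtain ⟨σ, hσ⟩ := (Algebra.essFiniteType_iff A B).1 hft'
  let I : Ideal B := RingHom.ker ψ
  let J : Ideal B := Ideal.span ((fun g => g - φ (ψ g)) '' (σ : Set B))
  have hJI : J ≤ I := by
    rw [Ideal.span_le]
    rintro _ ⟨g, -, rfl⟩
    change ψ (g - φ (ψ g)) = 0
    rw [map_sub, hψφ, sub_self]
  -- every `b - φ (ψ b)` lies in `J`
  have hadj : ∀ b ∈ Algebra.adjoin A (σ : Set B), b - φ (ψ b) ∈ J := by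
    intro b hb
    induction hb using Algebra.adjoin_induction with
    | mem g hg => exact Ideal.subset_span ⟨g, hg, rfl⟩
    | algebraMap a =>
      change φ a - φ (ψ (φ a)) ∈ J
      rw [hψφ, sub_self]; exact J.zero_mem
    | add b b' _ _ h1 h2 =>
      have : b + b' - φ (ψ (b + b')) = (b - φ (ψ b)) + (b' - φ (ψ b')) := by
        rw [map_add, map_add]; ring
      rw [this]; exact J.add_mem h1 h2
    | mul b b' _ _ h1 h2 =>
      have : b * b' - φ (ψ (b * b')) = b * (b' - φ (ψ b')) + (b - φ (ψ b)) * φ (ψ b') := by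
        rw [map_mul, map_mul]; ring
      rw [this]
      exact J.add_mem (J.mul_mem_left _ h2) (J.mul_mem_right _ h1)
  have hall : ∀ b : B, b - φ (ψ b) ∈ J := by
    intro s
    obtain ⟨t, ht, htu, hst⟩ := hσ s
    have h1 := hadj _ hst
    have h2 := hadj _ ht
    have hu : IsUnit (φ (ψ t)) := (htu.map ψ).map φ
    have h3 : (s - φ (ψ s)) * φ (ψ t) ∈ J := by
      have : (s - φ (ψ s)) * φ (ψ t) = (s * t - φ (ψ (s * t))) - s * (t - φ (ψ t)) := by
        rw [map_mul, map_mul]; ring
      rw [this]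
      exact J.sub_mem h1 (J.mul_mem_left _ h2)
    obtain ⟨v, hv⟩ := hu.exists_right_inv
    have : s - φ (ψ s) = (s - φ (ψ s)) * φ (ψ t) * v := by
      rw [mul_assoc, hv, mul_one]
    rw [this]
    exact J.mul_mem_right _ h3
  have hIJ : I = J := by
    apply le_antisymm _ hJI
    intro b hb
    have hb0 : ψ b = 0 := hb
    have := hall b
    rwa [hb0, map_zero, sub_zero] at this
  have hIfg : I.FG := by
    rw [hIJ]
    exact ⟨σ.image (fun g => g - φ (ψ g)), by rw [Finset.coe_image]⟩
  -- `I ≤ M * I`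
  let M : Ideal B := Ideal.map φ (maximalIdeal A)
  have hψM : ∀ μ ∈ M, ψ μ ∈ maximalIdeal A := by
    have : M ≤ Ideal.comap ψ (maximalIdeal A) := by
      rw [Ideal.map_le_iff_le_comap]
      intro a ha
      change ψ (φ a) ∈ maximalIdeal A
      rwa [hψφ]
    exact fun μ hμ => this hμ
  have hMI : ∀ μ ∈ M, μ - φ (ψ μ) ∈ M * I := by
    intro μ hμ
    refine Submodule.span_induction (p := fun μ _ => μ - φ (ψ μ) ∈ M * I) ?_ ?_ ?_ ?_ hμ
    · rintro _ ⟨m, -, rfl⟩
      rw [hψφ, sub_self]; exact (M * I).zero_mem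
    · rw [map_zero, map_zero, sub_zero]; exact (M * I).zero_mem
    · intro y z _ _ hy hz
      have : y + z - φ (ψ (y + z)) = (y - φ (ψ y)) + (z - φ (ψ z)) := by
        rw [map_add, map_add]; ring
      rw [this]; exact (M * I).add_mem hy hz
    · intro b y hy hyI
      have hyM : y ∈ M := hy
      have : b • y - φ (ψ (b • y)) = b * (y - φ (ψ y)) + φ (ψ y) * (b - φ (ψ b)) := by
        rw [smul_eq_mul, map_mul, map_mul]; ring
      rw [this]
      refine (M * I).add_mem ((M * I).mul_mem_left _ hyI) (Ideal.mul_mem_mul ?_ ?_)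
      · exact Ideal.mem_map_of_mem φ (hψM y hyM)
      · exact hJI (hall b)
  have hIle : I ≤ M • I := by
    intro i hi
    obtain ⟨a, ha⟩ := hfib i
    have hi0 : ψ i = 0 := hi
    have h1 : ψ (i - φ a) = -a := by rw [map_sub, hi0, hψφ, zero_sub]
    have h2 := hMI _ ha
    rw [h1, map_neg] at h2
    have : i - φ a - -φ a = i := by ring
    rw [this] at h2
    exact h2
  have hMjac : M ≤ Ideal.jacobson ⊥ := by
    rw [IsLocalRing.jacobson_eq_maximalIdeal ⊥ bot_ne_top]
    have hloc : IsLocalHom φ := inferInstance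
    have htfae := (IsLocalRing.local_hom_TFAE φ).out 0 2
    exact htfae.mp hloc
  have hI0 : I = ⊥ := Submodule.eq_bot_of_le_smul_of_le_jacobson_bot M I hIfg hIle hMjac
  constructor
  · intro a a' h
    have := congrArg ψ h
    rwa [hψφ, hψφ] at this
  · intro b
    refine ⟨ψ b, ?_⟩
    have : b - φ (ψ b) ∈ I := hJI (hall b)
    rw [hI0, Ideal.mem_bot, sub_eq_zero] at this
    exact this.symm

/-- general form: the composite `A → B → A'` is only required to be bijective -/
theorem bijective_of_section [IsLocalRing A] [IsLocalRing B] (φ : A →+* B) [IsLocalHom φ]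
    (ψ : B →+* A') (hbij : Function.Bijective (ψ.comp φ)) (hft : φ.EssFiniteType)
    (hfib : ∀ b : B, ∃ a : A, b - φ a ∈ Ideal.map φ (maximalIdeal A)) :
    Function.Bijective φ := by
  let θ : A ≃+* A' := RingEquiv.ofBijective (ψ.comp φ) hbij
  refine bijective_of_retraction φ (θ.symm.toRingHom.comp ψ) (fun a => ?_) hft hfib
  change θ.symm (ψ (φ a)) = a
  exact θ.symm_apply_apply a

end Groth.Agent.H7.SecIso
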