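import Groth.Agent.Lib.Helper7.SecIsoA
import Groth.Agent.Lib.Helper1.SmoothFibre2
import Groth.Agent.Lib.Helper5.SO.SO3
import Mathlib

/-!
# A closed morphism with a section and a trivial fibre is an isomorphism near that fibre
-/

set_option autoImplicit false

universe u

open CategoryTheory CategoryTheory.Limits AlgebraicGeometry IsLocalRing

namespace Groth.Agent.H7.SecIso

open Groth.Agent.H1.FibreStalk Groth.Agent.H1.SmoothFibre

variable {X S : Scheme.{u}}

theorem isIso_stalkMap_of_section (π : X ⟶ S) (ε : S ⟶ X) (hε : ε ≫ π = 𝟙 S) (s : S)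
    (hft : ∃ W : X.Opens, ε s ∈ W ∧ LocallyOfFiniteType (W.ι ≫ π))
    (hs : IsIso (π.fiberToSpecResidueField s)) : IsIso (π.stalkMap (ε s)) := by
  have hπx : π (ε s) = s := by
    have := congrArg (fun f : S ⟶ S => f s) hε
    simpa using this
  have hs' : IsIso (π.fiberToSpecResidueField (π (ε s))) := by rw [hπx]; exact hs
  obtain ⟨W, hxW, hWft⟩ := hft
  have hess : (π.stalkMap (ε s)).hom.EssFiniteType := by
    have h1 := LocallyOfFiniteType.stalkMap (W.ι ≫ π) ⟨ε s, hxW⟩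
    rw [Scheme.Hom.stalkMap_comp] at h1
    exact (RingHom.EssFiniteType.respectsIso.cancel_right_isIso _
      (W.ι.stalkMap ⟨ε s, hxW⟩)).1 h1
  have hcomp : π.stalkMap (ε s) ≫ ε.stalkMap s =
      (S.presheaf.stalkCongr (.of_eq hπx)).hom := by
    rw [← Scheme.Hom.stalkMap_comp, Scheme.Hom.stalkMap_congr_hom (ε ≫ π) (𝟙 S) hε s,
      Scheme.Hom.stalkMap_id]
    exact Category.comp_id _
  have hbij : Function.Bijective ((ε.stalkMap s).hom.comp (π.stalkMap (ε s)).hom) := by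
    have : (ε.stalkMap s).hom.comp (π.stalkMap (ε s)).hom =
        (S.presheaf.stalkCongr (.of_eq hπx)).hom.hom := by
      rw [← CommRingCat.hom_comp, hcomp]
    rw [this]
    exact ConcreteCategory.bijective_of_isIso (S.presheaf.stalkCongr (.of_eq hπx)).hom
  have hfib : ∀ b : X.presheaf.stalk (ε s), ∃ a : S.presheaf.stalk (π (ε s)),
      b - (π.stalkMap (ε s)).hom a ∈
        Ideal.map (π.stalkMap (ε s)).hom (maximalIdeal (S.presheaf.stalk (π (ε s)))) := by
    intro b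
    obtain ⟨ρ₀, hρs, -, hρc⟩ := exists_toResStalk π (ε s)
    have hsurj : Function.Surjective
        ((π.fiberToSpecResidueField (π (ε s))).stalkMap (π.asFiber (ε s))).hom :=
      (ConcreteCategory.bijective_of_isIso
        ((π.fiberToSpecResidueField (π (ε s))).stalkMap (π.asFiber (ε s)))).2
    obtain ⟨c, hc⟩ := hsurj (toFiberStalk π (ε s) b)
    obtain ⟨a, rfl⟩ := hρs c
    refine ⟨a, ?_⟩
    rw [← ker_toFiberStalk, RingHom.mem_ker, map_sub, sub_eq_zero, ← hc]
    exact (congrArg (fun g => g a) hρc).symm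
  have hb := bijective_of_section (π.stalkMap (ε s)).hom (ε.stalkMap s).hom hbij hess hfib
  exact (ConcreteCategory.isIso_iff_bijective _).2 hb

theorem S5321_main (X S : Scheme.{u}) (π : X ⟶ S) (ε : S ⟶ X) (hε : ε ≫ π = 𝟙 S)
    (hcl : IsClosedMap π.base) (s : S)
    (hfp : ∃ W : X.Opens, ε.base s ∈ W ∧ LocallyOfFinitePresentation (W.ι ≫ π))
    (hs : IsIso (π.fiberToSpecResidueField s)) :
    ∃ U : S.Opens, s ∈ U ∧ IsIso (π ∣_ U) := by
  obtain ⟨W, hxW, hWfp⟩ := hfp
  have hπε : ∀ u : S, π (ε u) = u := by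
    intro u
    have := congrArg (fun f : S ⟶ S => f u) hε
    simpa using this
  have hiso : IsIso (π.stalkMap (ε s)) :=
    isIso_stalkMap_of_section π ε hε s ⟨W, hxW, inferInstance⟩ hs
  let x' : W := ⟨ε s, hxW⟩
  haveI : IsIso ((W.ι ≫ π).stalkMap x') := by
    rw [Scheme.Hom.stalkMap_comp]
    have h1 : IsIso (π.stalkMap (W.ι x')) := hiso
    have h2 : IsIso (W.ι.stalkMap x') := inferInstance
    exact IsIso.comp_isIso' h1 h2
  obtain ⟨N, hxN, hNimm⟩ :=
    Groth.Agent.H5.SO.exists_isOpenImmersion_of_isIso_stalkMap (W.ι ≫ π) x'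
  let j : (N : Scheme.{u}) ⟶ X := N.ι ≫ W.ι
  haveI hjπ : IsOpenImmersion (j ≫ π) := by
    change IsOpenImmersion ((N.ι ≫ W.ι) ≫ π)
    rw [Category.assoc]; exact hNimm
  have hxj : ε s ∈ Set.range j := ⟨⟨x', hxN⟩, rfl⟩
  -- the fibre over `s` is a single point
  have hfibre : ∀ y : X, π y = s → y = ε s := by
    intro y hy
    have h1 : y ∈ Set.range (π.fiberι s) := by
      rw [Scheme.Hom.range_fiberι]; exact hy
    have h2 : ε s ∈ Set.range (π.fiberι s) := by
      rw [Scheme.Hom.range_fiberι]; exact hπε s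
    obtain ⟨a, rfl⟩ := h1
    obtain ⟨a', ha'⟩ := h2
    rw [← ha']
    congr 1
    apply (π.fiberToSpecResidueField s).isOpenEmbedding.injective
    exact Subsingleton.elim _ _
  let U : S.Opens := ⟨(π '' (Set.range j)ᶜ)ᶜ,
    (hcl _ (j.isOpenEmbedding.isOpen_range.isClosed_compl)).isOpen_compl⟩
  have hsU : s ∈ U := by
    rintro ⟨y, hy, hys⟩
    apply hy
    rw [hfibre y hys]
    exact hxj
  have hpre : ∀ y : X, π y ∈ U → y ∈ Set.range j := by
    intro y hy
    by_contra h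
    exact hy ⟨y, h, rfl⟩
  refine ⟨U, hsU, ?_⟩
  have hsub : Set.range (π ⁻¹ᵁ U).ι ⊆ Set.range j := by
    rintro _ ⟨y, rfl⟩
    exact hpre _ y.2
  let ℓ := IsOpenImmersion.lift j (π ⁻¹ᵁ U).ι hsub
  have hℓ : ℓ ≫ j = (π ⁻¹ᵁ U).ι := IsOpenImmersion.lift_fac _ _ _
  haveI : IsOpenImmersion ℓ := by
    haveI : IsOpenImmersion (ℓ ≫ j) := by rw [hℓ]; infer_instance
    exact IsOpenImmersion.of_comp ℓ j
  haveI : IsOpenImmersion ((π ∣_ U) ≫ U.ι) := by
    rw [morphismRestrict_ι, ← hℓ, Category.assoc]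
    infer_instance
  haveI : IsOpenImmersion (π ∣_ U) := IsOpenImmersion.of_comp _ U.ι
  apply isIso_of_isOpenImmersion_of_opensRange_eq_top
  rw [eq_top_iff]
  rintro u -
  have hu : ε u.1 ∈ π ⁻¹ᵁ U := by
    change π (ε u.1) ∈ U
    rw [hπε]; exact u.2
  refine ⟨⟨ε u.1, hu⟩, ?_⟩
  apply Subtype.ext
  rw [morphismRestrict_base_coe]
  exact hπε u.1

end Groth.Agent.H7.SecIso
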