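import Mathlib
open CategoryTheory CategoryTheory.Limits AlgebraicGeometry
universe u
namespace Groth.Agent.H7.SectionDescent

lemma stalk_retract {X P : Scheme.{u}} (s : X ⟶ P) (r : P ⟶ X) (hsr : s ≫ r = 𝟙 X) (x : X) :
    ∃ ι : X.presheaf.stalk x ⟶ P.presheaf.stalk (s x),
      ι ≫ s.stalkMap x = 𝟙 _ ∧
      ∀ {R : CommRingCat.{u}} (A : R ⟶ P.presheaf.stalk (s x))
        (A' : R ⟶ X.presheaf.stalk (r (s x))), A = A' ≫ r.stalkMap (s x) →
        A ≫ s.stalkMap x ≫ ι = A := by
  have key : r (s x) = x := by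
    rw [← Scheme.Hom.comp_apply, hsr]; rfl
  have e0 : r.stalkMap (s x) ≫ s.stalkMap x =
      X.presheaf.stalkSpecializes (specializes_of_eq key.symm) := by
    have h1 := Scheme.Hom.stalkMap_congr_hom (s ≫ r) (𝟙 X) hsr x
    have h2 := Scheme.Hom.stalkMap_comp s r x
    rw [Scheme.Hom.stalkMap_id] at h1
    exact h2.symm.trans (h1.trans (Category.comp_id _))
  refine ⟨X.presheaf.stalkSpecializes (specializes_of_eq key) ≫ r.stalkMap (s x), ?_, ?_⟩
  · rw [Category.assoc, e0, TopCat.Presheaf.stalkSpecializes_comp]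
    exact TopCat.Presheaf.stalkSpecializes_refl _ _
  · intro R A A' hA
    have e3 : r.stalkMap (s x) ≫ s.stalkMap x ≫
        (X.presheaf.stalkSpecializes (specializes_of_eq key) ≫ r.stalkMap (s x)) =
        r.stalkMap (s x) := by
      rw [reassoc_of% e0, TopCat.Presheaf.stalkSpecializes_comp_assoc]
      have := TopCat.Presheaf.stalkSpecializes_refl X.presheaf (r (s x))
      erw [this]
      exact Category.id_comp _
    subst hA
    rw [Category.assoc, e3]



lemma flat_of_retract {R B C : Type u} [CommRing R] [CommRing B] [CommRing C]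
    (φ : R →+* B) (ρ : B →+* C) (ι : C →+* B)
    (h1 : ρ.comp ι = RingHom.id C) (h2 : ι.comp (ρ.comp φ) = φ) (hφ : φ.Flat) :
    (ρ.comp φ).Flat := by
  letI : Algebra R B := φ.toAlgebra
  letI : Algebra R C := (ρ.comp φ).toAlgebra
  have hB : Module.Flat R B := hφ
  show Module.Flat R C
  let i : C →ₗ[R] B :=
    { toFun := ι
      map_add' := map_add ι
      map_smul' := by
        intro r c
        show ι (ρ (φ r) * c) = φ r * ι c
        rw [map_mul]
        congr 1
        exact RingHom.congr_fun h2 r }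
  let r : B →ₗ[R] C :=
    { toFun := ρ
      map_add' := map_add ρ
      map_smul' := by
        intro r b
        show ρ (φ r * b) = ρ (φ r) * ρ b
        rw [map_mul] }
  refine Module.Flat.of_retract i r ?_
  ext c
  exact RingHom.congr_fun h1 c

theorem main {X Y S : Scheme.{u}} (f : X ⟶ S) (g : Y ⟶ S)
    (y : S ⟶ Y) (hy : y ≫ g = 𝟙 S) :
    (QuasiCompact (pullback.fst f g ≫ f) → QuasiCompact f) ∧
    (LocallyOfFiniteType (pullback.fst f g ≫ f) → LocallyOfFiniteType f) ∧
    (IsSeparated (pullback.fst f g ≫ f) → IsSeparated f) ∧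
    (Flat (pullback.fst f g ≫ f) → Flat f) := by
  let σ : X ⟶ pullback f g := pullback.lift (𝟙 X) (f ≫ y)
    (by rw [Category.id_comp, Category.assoc, hy, Category.comp_id])
  have hσ : σ ≫ pullback.fst f g = 𝟙 X := pullback.lift_fst _ _ _
  have hfac : σ ≫ (pullback.fst f g ≫ f) = f := by rw [← Category.assoc, hσ, Category.id_comp]
  refine ⟨?_, ?_, ?_, ?_⟩
  · intro h
    refine ⟨fun U hU hUc => ?_⟩
    have h1 := h.isCompact_preimage U hU hUc
    have h2 : f ⁻¹' U = (pullback.fst f g) '' ((pullback.fst f g ≫ f) ⁻¹' U) := by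
      ext x
      constructor
      · intro hx
        refine ⟨σ x, ?_, ?_⟩
        · show (pullback.fst f g ≫ f) (σ x) ∈ U
          rw [← Scheme.Hom.comp_apply, hfac]
          exact hx
        · rw [← Scheme.Hom.comp_apply, hσ]
          rfl
      · rintro ⟨z, hz, rfl⟩
        exact hz
    rw [h2]
    exact h1.image (pullback.fst f g).continuous
  · intro h
    haveI : LocallyOfFiniteType (σ ≫ pullback.fst f g) := by rw [hσ]; infer_instance
    haveI : LocallyOfFiniteType σ := locallyOfFiniteType_of_comp σ (pullback.fst f g)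
    rw [← hfac]
    infer_instance
  · intro h
    haveI : IsSeparated (σ ≫ pullback.fst f g) := by rw [hσ]; infer_instance
    haveI : IsSeparated σ := IsSeparated.of_comp σ (pullback.fst f g)
    rw [← hfac]
    infer_instance
  · intro h
    rw [← hfac]
    rw [Flat.iff_flat_stalkMap]
    intro x
    have hcomp := Scheme.Hom.stalkMap_comp σ (pullback.fst f g ≫ f) x
    have hz := (Flat.iff_flat_stalkMap (f := pullback.fst f g ≫ f)).mp h (σ x)
    obtain ⟨ι, hι1, hι2⟩ := stalk_retract σ (pullback.fst f g) hσ x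
    have h3 := hι2 ((pullback.fst f g ≫ f).stalkMap (σ x)) (f.stalkMap ((pullback.fst f g) (σ x)))
      (Scheme.Hom.stalkMap_comp (pullback.fst f g) f (σ x))
    have H : ((σ.stalkMap x).hom.comp ((pullback.fst f g ≫ f).stalkMap (σ x)).hom).Flat := by
      refine flat_of_retract _ _ ι.hom ?_ ?_ hz
      · rw [← CommRingCat.hom_comp, hι1]
        rfl
      · rw [← CommRingCat.hom_comp, ← CommRingCat.hom_comp]
        exact congrArg CommRingCat.Hom.hom h3
    exact (congrArg (fun t => (CommRingCat.Hom.hom t).Flat) hcomp).mpr H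

end Groth.Agent.H7.SectionDescent

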