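import Mathlib

/-! Fitting decomposition for a semilinear endomorphism (w.r.t. a ring automorphism) of a module of
finite length (helper7, S15504). -/

set_option autoImplicit false
universe u v

namespace Groth.Agent.H7.SemiFitting

variable {R : Type*} [CommRing R] {M : Type*} [AddCommGroup M] [Module R M]

theorem fitting (τ σ : R →+* R) (hτσ : ∀ a, τ (σ a) = a)
    [IsNoetherian R M] [IsArtinian R M] (φ : M →ₛₗ[τ] M) :
    ∃ Ms Mn : Submodule R M, IsCompl Ms Mn ∧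
      Set.MapsTo φ Ms Ms ∧ Set.MapsTo φ Mn Mn ∧ Set.BijOn φ Ms Ms ∧
      ∃ r : ℕ, ∀ x ∈ Mn, (⇑φ)^[r] x = 0 := by
  have hiter : ∀ (n : ℕ) (a : R) (x : M), (⇑φ)^[n] (a • x) = (⇑τ)^[n] a • (⇑φ)^[n] x := by
    intro n
    induction n with
    | zero => intro a x; rfl
    | succ n ih =>
      intro a x
      rw [Function.iterate_succ_apply', Function.iterate_succ_apply', Function.iterate_succ_apply',
        ih, LinearMap.map_smulₛₗ]
  have hτσn : ∀ (n : ℕ) (a : R), (⇑τ)^[n] ((⇑σ)^[n] a) = a := fun n a =>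
    (Function.LeftInverse.iterate (g := ⇑τ) (f := ⇑σ) hτσ n) a
  have hsub : ∀ (n : ℕ) (x y : M), (⇑φ)^[n] (x - y) = (⇑φ)^[n] x - (⇑φ)^[n] y :=
    fun n x y => iterate_map_sub φ n x y
  have hadd : ∀ (n : ℕ) (x y : M), (⇑φ)^[n] (x + y) = (⇑φ)^[n] x + (⇑φ)^[n] y :=
    fun n x y => iterate_map_add φ n x y
  have hzero : ∀ n : ℕ, (⇑φ)^[n] (0 : M) = 0 := fun n => iterate_map_zero φ n
  let K : ℕ → Submodule R M := fun n =>
    { carrier := {x | (⇑φ)^[n] x = 0}
      add_mem' := fun {x y} hx hy => by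
        change (⇑φ)^[n] (x + y) = 0
        rw [hadd, hx, hy, add_zero]
      zero_mem' := hzero n
      smul_mem' := fun a x hx => by
        change (⇑φ)^[n] (a • x) = 0
        rw [hiter, hx, smul_zero] }
  let I : ℕ → Submodule R M := fun n =>
    { carrier := {x | ∃ y, (⇑φ)^[n] y = x}
      add_mem' := by
        rintro _ _ ⟨y, rfl⟩ ⟨y', rfl⟩
        exact ⟨y + y', hadd n y y'⟩
      zero_mem' := ⟨0, hzero n⟩
      smul_mem' := by
        rintro a _ ⟨y, rfl⟩
        exact ⟨(⇑σ)^[n] a • y, by rw [hiter, hτσn]⟩ }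
  have hKmem : ∀ n x, x ∈ K n ↔ (⇑φ)^[n] x = 0 := fun n x => Iff.rfl
  have hImem : ∀ n x, x ∈ I n ↔ ∃ y, (⇑φ)^[n] y = x := fun n x => Iff.rfl
  have hKmono : Monotone K := by
    apply monotone_nat_of_le_succ
    intro n x hx
    rw [hKmem] at hx ⊢
    rw [Function.iterate_succ_apply', hx, map_zero]
  have hIanti : Antitone I := by
    apply antitone_nat_of_succ_le
    intro n x hx
    rw [hImem] at hx ⊢
    obtain ⟨y, rfl⟩ := hx
    exact ⟨φ y, (Function.iterate_succ_apply _ n y).symm⟩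
  obtain ⟨n₁, hn₁⟩ := monotone_stabilizes_iff_noetherian.mpr ‹IsNoetherian R M› ⟨K, hKmono⟩
  obtain ⟨n₂, hn₂⟩ := IsArtinian.monotone_stabilizes (R := R) (M := M)
    ⟨fun n => OrderDual.toDual (I n), fun a b hab => hIanti hab⟩
  set N := max n₁ n₂ + 1 with hN
  have hKN : ∀ m, N ≤ m → K N = K m := fun m hm => by
    have h1 := hn₁ N (by omega)
    have h2 := hn₁ m (by omega)
    exact h1.symm.trans h2
  have hIN : ∀ m, N ≤ m → I N = I m := fun m hm => by
    have h1 := hn₂ N (by omega)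
    have h2 := hn₂ m (by omega)
    exact OrderDual.toDual.injective (h1.symm.trans h2)
  have hdisj : I N ⊓ K N = ⊥ := by
    rw [eq_bot_iff]
    rintro x ⟨hxI, hxK⟩
    obtain ⟨y, rfl⟩ := hxI
    have h1 : (⇑φ)^[N + N] y = 0 := by rw [Function.iterate_add_apply]; exact hxK
    have h2 : y ∈ K (N + N) := h1
    rw [← hKN (N + N) (by omega)] at h2
    exact h2
  have hmapsI : Set.MapsTo φ (I N) (I N) := by
    rintro _ ⟨y, rfl⟩
    exact ⟨φ y, by rw [← Function.iterate_succ_apply, Function.iterate_succ_apply']⟩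
  have hmapsK : Set.MapsTo φ (K N) (K N) := by
    intro x hx
    change (⇑φ)^[N] (φ x) = 0
    rw [← Function.iterate_succ_apply, Function.iterate_succ_apply', (hKmem N x).mp hx, map_zero]
  refine ⟨I N, K N, ⟨disjoint_iff.mpr hdisj, ?_⟩, hmapsI, hmapsK, ⟨hmapsI, ?_, ?_⟩, N, fun x hx => hx⟩
  · rw [codisjoint_iff, eq_top_iff]
    intro x _
    have h1 : (⇑φ)^[N] x ∈ I N := ⟨x, rfl⟩
    rw [hIN (N + N) (by omega)] at h1
    obtain ⟨y, hy⟩ := h1
    rw [Function.iterate_add_apply] at hy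
    have h2 : x - (⇑φ)^[N] y ∈ K N := by
      change (⇑φ)^[N] (x - (⇑φ)^[N] y) = 0
      rw [hsub, hy, sub_self]
    have h3 : x = (⇑φ)^[N] y + (x - (⇑φ)^[N] y) := by abel
    rw [h3]
    exact Submodule.add_mem_sup ⟨y, rfl⟩ h2
  · intro x hx x' hx' hxx'
    have h1 : x - x' ∈ I N := (I N).sub_mem hx hx'
    have h2 : x - x' ∈ K N := by
      apply hKmono (show 1 ≤ N by omega)
      change (⇑φ)^[1] (x - x') = 0
      rw [Function.iterate_one, map_sub, hxx', sub_self]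
    have h3 : x - x' ∈ I N ⊓ K N := ⟨h1, h2⟩
    rw [hdisj] at h3
    exact sub_eq_zero.mp h3
  · intro x hx
    have hx' : x ∈ I (N + 1) := by rw [← hIN (N + 1) (by omega)]; exact hx
    obtain ⟨y, rfl⟩ := hx'
    exact ⟨(⇑φ)^[N] y, ⟨y, rfl⟩, (Function.iterate_succ_apply' _ N y).symm⟩

end Groth.Agent.H7.SemiFitting
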