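import Groth.Agent.S10482
import Groth.Agent.Lib.Helper6.SepDense
import Groth.Agent.Lib.Helper5.AlgSp.Points
import Mathlib

/-!
# Density of points with finite separable residue field on smooth algebraic spaces (S10490)
-/

set_option autoImplicit false
universe u

open AlgebraicGeometry CategoryTheory Limits

namespace Groth.Agent.H7.SepDenseSp

open _root_.AlgSp Groth.Agent.H5.AlgSp

attribute [local instance] Curv2.resAlgebra

variable {k : Type u} [Field k]

/-- S10490. -/
theorem S10490_main (X : AlgSp.Space (Spec (CommRingCat.of k)))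
    (p : X.obj ⟶ (AlgSp.yon (Spec (CommRingCat.of k))).obj (Over.mk (𝟙 _)))
    (hp : AlgSp.LocP @Smooth p) :
    Dense {x : AlgSp.Points X.obj | ∃ (k' : Type u) (_ : Field k') (_ : Algebra k k'),
      Module.Finite k k' ∧ Algebra.IsSeparable k k' ∧
        ∃ v : X.obj.obj.obj (Opposite.op (Over.mk (Spec.map (CommRingCat.ofHom (algebraMap k k'))))),
          AlgSp.Points.mk ⟨k', Spec.map (CommRingCat.ofHom (algebraMap k k')), v⟩ = x} := by
  have hid : RepWith @Etale (𝟙 ((yon (Spec (CommRingCat.of k))).obj (Over.mk (𝟙 _)))) :=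
    repWith_id _ _
  obtain ⟨U, a, hae, has⟩ := X.property.atlas
  have comm : a ≫ p =
      (yon _).map (Over.homMk U.hom (by simp) : U ⟶ Over.mk (𝟙 _)) ≫ 𝟙 _ := by
    rw [Category.comp_id]
    exact Groth.Agent.S10482.eq_yon_map_toTerminal _
  haveI hsm : Smooth U.hom := hp a (𝟙 _) _ hae hid comm
  letI : U.left.Over (Spec (CommRingCat.of k)) := ⟨U.hom⟩
  haveI : Smooth (U.left ↘ Spec (CommRingCat.of k)) := hsm
  have hD := Groth.Agent.H6.SepDense.s1550 k U.left
  have hdr : DenseRange (Points.ofPt a) := (ofPt_surjective_of_repWith has).denseRange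
  have hdi := hdr.dense_image (Points.continuous_ofPt a) hD
  refine hdi.mono ?_
  rintro _ ⟨u, ⟨-, hfin, hsep⟩, rfl⟩
  let m : (Over.mk (Spec.map (CommRingCat.ofHom (algebraMap k (U.left.residueField u)))) :
      Over (Spec (CommRingCat.of k))) ⟶ U :=
    Over.homMk (U.left.fromSpecResidueField u)
      (Groth.Agent.H6.SepDense.fromSpecResidueField_comp k U.left u)
  refine ⟨U.left.residueField u, inferInstance, inferInstance, hfin, hsep,
    yEquiv X.obj _ ((yon _).map m ≫ a), ?_⟩
  have h1 := mk_fpOfHom_yon_map (Spec.map (CommRingCat.ofHom (algebraMap k (U.left.residueField u))))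
    m a
  rw [show m.left (IsLocalRing.closedPoint _) = u from Scheme.fromSpecResidueField_apply _ _] at h1
  exact h1

end Groth.Agent.H7.SepDenseSp
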