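import Mathlib
import Groth.Agent.Lib.Helper7.CharGL1

/-! Generation of `GL₂` of a field by transvections and determinants (helper7). -/

namespace Groth.Agent.H7.Serre

universe u

open Matrix CharGL

section Gen
variable {B : Type u} [Field B]

theorem h01 : (0 : Fin 2) ≠ 1 := by decide
theorem h10 : (1 : Fin 2) ≠ 0 := by decide

theorem whitehead (a : Bˣ) :
    tGL (0 : Fin 2) 1 h01 (a : B) * tGL (1 : Fin 2) 0 h10 (-((a⁻¹ : Bˣ) : B)) *
      tGL (0 : Fin 2) 1 h01 (a : B) * tGL (0 : Fin 2) 1 h01 (-1 : B) *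
      tGL (1 : Fin 2) 0 h10 (1 : B) * tGL (0 : Fin 2) 1 h01 (-1 : B) =
    diagGL (Fin 2) B ![a, a⁻¹] := by
  apply Units.ext
  simp only [Units.val_mul, coe_tGL, coe_diagGL]
  have ha : (a : B) * ((a⁻¹ : Bˣ) : B) = 1 := by simp
  ext i j
  fin_cases i <;> fin_cases j <;>
    simp [transvection, Matrix.mul_apply, Fin.sum_univ_two, Matrix.single_apply,
      Matrix.one_apply]

/-- A subgroup of `GL₂(B)` containing all transvections contains every matrix of determinant one. -/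
theorem mem_of_det_eq_one (S : Subgroup (GL (Fin 2) B))
    (htr : ∀ (i j : Fin 2) (hij : i ≠ j) (c : B), tGL i j hij c ∈ S)
    (g : GL (Fin 2) B) (hg : (g : Matrix (Fin 2) (Fin 2) B).det = 1) : g ∈ S := by
  have hE : Elim.E (Fin 2) B ≤ Submonoid.map (Units.coeHom (Matrix (Fin 2) (Fin 2) B))
      S.toSubmonoid := by
    apply Submonoid.closure_le.mpr
    rintro _ ⟨i, j, c, hij, rfl⟩
    exact ⟨tGL i j hij c, htr i j hij c, rfl⟩
  have hdet : IsUnit (g : Matrix (Fin 2) (Fin 2) B).det := by rw [hg]; exact isUnit_one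
  obtain ⟨L, hL, R, hR, hred⟩ := Elim.exists_red (g : Matrix (Fin 2) (Fin 2) B) hdet Finset.univ
  obtain ⟨gL, hgL, hgLc⟩ := hE hL
  obtain ⟨gR, hgR, hgRc⟩ := hE hR
  simp only [Units.coeHom_apply] at hgLc hgRc
  set h := gL * g * gR with hh
  have hval : (h : Matrix (Fin 2) (Fin 2) B) = L * (g : Matrix (Fin 2) (Fin 2) B) * R := by
    rw [hh, Units.val_mul, Units.val_mul, hgLc, hgRc]
  have hhdet : (h : Matrix (Fin 2) (Fin 2) B).det = 1 := by
    rw [hval, det_mul, det_mul, Elim.det_eq_one_of_mem hL, Elim.det_eq_one_of_mem hR, hg]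
    simp
  have h01' : (h : Matrix (Fin 2) (Fin 2) B) 0 1 = 0 := by
    rw [hval]; exact (hred 0 (Finset.mem_univ _) 1 h10).1
  have h10' : (h : Matrix (Fin 2) (Fin 2) B) 1 0 = 0 := by
    rw [hval]; exact (hred 1 (Finset.mem_univ _) 0 h01).1
  have hprod : (h : Matrix (Fin 2) (Fin 2) B) 0 0 * (h : Matrix (Fin 2) (Fin 2) B) 1 1 = 1 := by
    rw [det_fin_two, h01', h10'] at hhdet
    simpa using hhdet
  let a : Bˣ := ⟨(h : Matrix (Fin 2) (Fin 2) B) 0 0, (h : Matrix (Fin 2) (Fin 2) B) 1 1, hprod,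
    by rw [mul_comm]; exact hprod⟩
  have hdiag : h = diagGL (Fin 2) B ![a, a⁻¹] := by
    apply Units.ext
    rw [coe_diagGL]
    ext i j
    fin_cases i <;> fin_cases j
    · simp [a]
    · simpa using h01'
    · simpa using h10'
    · simp [a]
  have hmem : h ∈ S := by
    rw [hdiag, ← whitehead a]
    exact S.mul_mem (S.mul_mem (S.mul_mem (S.mul_mem (S.mul_mem (htr _ _ _ _) (htr _ _ _ _))
      (htr _ _ _ _)) (htr _ _ _ _)) (htr _ _ _ _)) (htr _ _ _ _)
  have : g = gL⁻¹ * h * gR⁻¹ := by rw [hh]; group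
  rw [this]
  exact S.mul_mem (S.mul_mem (S.inv_mem hgL) hmem) (S.inv_mem hgR)

/-- A subgroup of `GL₂(B)` containing all transvections on which `det` is surjective is `⊤`. -/
theorem eq_top_of_transvections_of_det (S : Subgroup (GL (Fin 2) B))
    (htr : ∀ (i j : Fin 2) (hij : i ≠ j) (c : B), tGL i j hij c ∈ S)
    (hdet : ∀ δ : Bˣ, ∃ s ∈ S, Matrix.GeneralLinearGroup.det s = δ) : S = ⊤ := by
  rw [eq_top_iff]
  intro g _
  obtain ⟨s, hs, hsd⟩ := hdet (Matrix.GeneralLinearGroup.det g)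
  have h1 : ((g * s⁻¹ : GL (Fin 2) B) : Matrix (Fin 2) (Fin 2) B).det = 1 := by
    rw [← Matrix.GeneralLinearGroup.val_det_apply, map_mul, map_inv, hsd, mul_inv_cancel]
    rfl
  have h2 := mem_of_det_eq_one S htr (g * s⁻¹) h1
  have : g = (g * s⁻¹) * s := by group
  rw [this]
  exact S.mul_mem h2 hs

end Gen

end Groth.Agent.H7.Serre
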