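import Mathlib
import Groth.Agent.Lib.Helper7.Serre1
import Groth.Agent.Lib.Helper7.CommGL

/-! Serre's lemma on subgroups of `GL₂(𝔽_p)`: counting part (helper7). -/

namespace Groth.Agent.H7.Serre

universe u

open Matrix CharGL

section Grp

/-- An element of order dividing a prime `p` lies in every subgroup of index `< p`. -/
theorem mem_of_pow_eq_one {G : Type*} [Group G] [Finite G] (H : Subgroup G) (p : ℕ)
    [hp : Fact p.Prime] (τ : G) (hτ : τ ^ p = 1) (hidx : Nat.card G < p * Nat.card H) :
    τ ∈ H := by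
  by_contra hτH
  have hne : τ ≠ 1 := fun h => hτH (h ▸ H.one_mem)
  have hord : orderOf τ = p := orderOf_eq_prime hτ hne
  have hZcard : Nat.card (Subgroup.zpowers τ) = p := by rw [Nat.card_zpowers, hord]
  -- the intersection is trivial
  have hint : ∀ x : G, x ∈ Subgroup.zpowers τ → x ∈ H → x = 1 := by
    intro x hxZ hxH
    by_contra hx1
    have hxp : x ^ p = 1 := by
      obtain ⟨k, rfl⟩ := Subgroup.mem_zpowers_iff.mp hxZ
      rw [← zpow_natCast, ← _root_.zpow_mul, mul_comm, _root_.zpow_mul, zpow_natCast, hτ, _root_.one_zpow]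
    have hxord : orderOf x = p := orderOf_eq_prime hxp hx1
    have hle : Subgroup.zpowers x ≤ Subgroup.zpowers τ := Subgroup.zpowers_le.mpr hxZ
    have hcard : Nat.card (Subgroup.zpowers x) = Nat.card (Subgroup.zpowers τ) := by
      rw [Nat.card_zpowers, Nat.card_zpowers, hxord, hord]
    have heq : Subgroup.zpowers x = Subgroup.zpowers τ :=
      Subgroup.eq_of_le_of_card_ge hle (le_of_eq hcard.symm)
    have : τ ∈ Subgroup.zpowers x := by rw [heq]; exact Subgroup.mem_zpowers τ
    exact hτH (Subgroup.zpowers_le.mpr hxH this)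
  -- the product map is injective
  let f : Subgroup.zpowers τ × H → G := fun zh => (zh.1 : G) * (zh.2 : G)
  have hf : Function.Injective f := by
    rintro ⟨z, h⟩ ⟨z', h'⟩ heq
    have heq' : (z : G) * (h : G) = (z' : G) * (h' : G) := heq
    have h1 : ((z' : G))⁻¹ * (z : G) = (h' : G) * ((h : G))⁻¹ := by
      have : (z : G) = (z' : G) * (h' : G) * ((h : G))⁻¹ := by
        rw [← heq', mul_inv_cancel_right]
      rw [this]; group
    have h2 : ((z' : G))⁻¹ * (z : G) = 1 := by
      apply hint
      · exact (Subgroup.zpowers τ).mul_mem ((Subgroup.zpowers τ).inv_mem z'.2) z.2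
      · rw [h1]; exact H.mul_mem h'.2 (H.inv_mem h.2)
    have hz : (z : G) = (z' : G) := by
      have := congrArg (fun y => (z' : G) * y) h2
      simpa using this
    have hh : (h : G) = (h' : G) := by
      rw [hz] at heq'
      exact mul_left_cancel heq'
    exact Prod.ext (Subtype.ext hz) (Subtype.ext hh)
  have hle := Nat.card_le_card_of_injective f hf
  rw [Nat.card_prod, hZcard] at hle
  omega

end Grp

section CH

theorem mul_self_fin_two {R : Type*} [CommRing R] (Y : Matrix (Fin 2) (Fin 2) R) :
    Y * Y = Y.trace • Y - Y.det • (1 : Matrix (Fin 2) (Fin 2) R) := by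
  ext i j
  fin_cases i <;> fin_cases j <;>
    simp [Matrix.mul_apply, Fin.sum_univ_two, det_fin_two, trace_fin_two] <;> ring

end CH

section Main
variable (p : ℕ) [hp : Fact p.Prime]

local notation "F" => ZMod p
local notation "M" => Matrix (Fin 2) (Fin 2) (ZMod p)
local notation "G" => GL (Fin 2) (ZMod p)

theorem tGL_pow (i j : Fin 2) (hij : i ≠ j) (c : F) (n : ℕ) :
    (tGL i j hij c) ^ n = tGL i j hij (n • c) := by
  induction n with
  | zero => rw [pow_zero, zero_smul, tGL_zero]
  | succ n ih => rw [pow_succ, ih, CommGL.tGL_mul, succ_nsmul]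

theorem tGL_pow_p (i j : Fin 2) (hij : i ≠ j) (c : F) : (tGL i j hij c) ^ p = 1 := by
  rw [tGL_pow, nsmul_eq_mul, CharP.cast_eq_zero, zero_mul, tGL_zero]

theorem card_G : Nat.card G = (p ^ 2 - 1) * (p ^ 2 - p) := by
  rw [Matrix.card_GL_field 2, Fin.prod_univ_two, ZMod.card]
  simp

section Cartan
variable (C : Subgroup (GL (Fin 2) (ZMod p))) (E : Subring (Matrix (Fin 2) (Fin 2) (ZMod p)))
  (hE : IsField E)
  (hEC : (E : Set (Matrix (Fin 2) (Fin 2) (ZMod p))) =
    insert 0 ((fun g : GL (Fin 2) (ZMod p) => (g : Matrix (Fin 2) (Fin 2) (ZMod p))) ''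
      (C : Set (GL (Fin 2) (ZMod p)))))

include hEC in
theorem coe_mem_E (c : G) (hc : c ∈ C) : (c : M) ∈ E := by
  have h : (c : M) ∈ insert (0 : M) ((fun g : G => (g : M)) '' (C : Set G)) :=
    Set.mem_insert_of_mem _ ⟨c, hc, rfl⟩
  rw [← hEC] at h
  exact h

include hE in
theorem eq_zero_or_eq_zero_of_mem {u v : M} (hu : u ∈ E) (hv : v ∈ E) (huv : u * v = 0) :
    u = 0 ∨ v = 0 := by
  by_cases hu0 : u = 0
  · exact Or.inl hu0
  · right
    have hu0' : (⟨u, hu⟩ : E) ≠ 0 := fun h => hu0 (congrArg Subtype.val h)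
    obtain ⟨w, hw⟩ := hE.mul_inv_cancel hu0'
    have hw' : u * (w : M) = 1 := congrArg Subtype.val hw
    have hcomm : (w : M) * u = u * (w : M) := by
      have := hE.mul_comm w ⟨u, hu⟩
      exact congrArg Subtype.val this
    calc v = ((w : M) * u) * v := by rw [hcomm, hw', one_mul]
      _ = (w : M) * (u * v) := by rw [mul_assoc]
      _ = 0 := by rw [huv, mul_zero]

include hEC in
theorem card_C (hcard : Nat.card E = p ^ 2) : Nat.card C = p ^ 2 - 1 := by
  have h0 : (0 : M) ∉ (fun g : G => (g : M)) '' (C : Set G) := by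
    rintro ⟨g, _, hg⟩
    exact g.ne_zero hg
  have hinj : Function.Injective (fun g : G => (g : M)) := Units.val_injective
  have h1 : Nat.card E = (E : Set M).ncard := Nat.card_coe_set_eq (E : Set M)
  have h2 : (E : Set M).ncard = ((fun g : G => (g : M)) '' (C : Set G)).ncard + 1 := by
    rw [hEC]
    exact Set.ncard_insert_of_notMem h0 (Set.toFinite _)
  have h3 : ((fun g : G => (g : M)) '' (C : Set G)).ncard = (C : Set G).ncard :=
    Set.ncard_image_of_injective _ hinj
  have h4 : (C : Set G).ncard = Nat.card C := (Nat.card_coe_set_eq (C : Set G)).symm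
  omega

include hE hEC in
theorem det_surjective_of_cartan (hcard : Nat.card E = p ^ 2) :
    ∀ δ : Fˣ, ∃ c ∈ C, Matrix.GeneralLinearGroup.det c = δ := by
  classical
  have hp2 : 2 ≤ p := hp.out.two_le
  let Cf : Finset G := Finset.univ.filter (fun g => g ∈ C)
  have hCf : Cf.card = p ^ 2 - 1 := by
    rw [← card_C p C E hEC hcard, Nat.card_eq_fintype_card, Fintype.card_subtype]
  let φ : G → Fˣ × F := fun g => (Matrix.GeneralLinearGroup.det g, (g : M).trace)
  have hfib : ∀ a ∈ Cf.image φ, (Cf.filter (fun x => φ x = a)).card ≤ 2 := by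
    intro a ha
    obtain ⟨x₀, hx₀, hx₀a⟩ := Finset.mem_image.mp ha
    have hx₀C : x₀ ∈ C := (Finset.mem_filter.mp hx₀).2
    have hsub : (Cf.filter (fun x => φ x = a)).image (fun g : G => (g : M)) ⊆
        {(x₀ : M), a.2 • (1 : M) - (x₀ : M)} := by
      intro Y hY
      obtain ⟨y, hy, rfl⟩ := Finset.mem_image.mp hY
      obtain ⟨hyC, hya⟩ := Finset.mem_filter.mp hy
      have hyC' : y ∈ C := (Finset.mem_filter.mp hyC).2
      have hXE := coe_mem_E p C E hEC x₀ hx₀C
      have hYE := coe_mem_E p C E hEC y hyC'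
      have hdet : (y : M).det = (x₀ : M).det := by
        have h1 : Matrix.GeneralLinearGroup.det y = Matrix.GeneralLinearGroup.det x₀ := by
          have := congrArg Prod.fst (hya.trans hx₀a.symm)
          exact this
        have := congrArg Units.val h1
        rwa [Matrix.GeneralLinearGroup.val_det_apply, Matrix.GeneralLinearGroup.val_det_apply]
          at this
      have htr : (y : M).trace = (x₀ : M).trace := congrArg Prod.snd (hya.trans hx₀a.symm)
      have ht : (x₀ : M).trace = a.2 := congrArg Prod.snd hx₀a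
      have hcomm : (y : M) * (x₀ : M) = (x₀ : M) * (y : M) := by
        have := hE.mul_comm ⟨(y : M), hYE⟩ ⟨(x₀ : M), hXE⟩
        exact congrArg Subtype.val this
      have hprod : ((y : M) - (x₀ : M)) * ((y : M) + (x₀ : M) - a.2 • (1 : M)) = 0 := by
        have hy2 := mul_self_fin_two (y : M)
        have hx2 := mul_self_fin_two (x₀ : M)
        rw [hdet, htr, ht] at hy2
        rw [ht] at hx2
        calc ((y : M) - (x₀ : M)) * ((y : M) + (x₀ : M) - a.2 • (1 : M))
            = (y : M) * (y : M) - (x₀ : M) * (x₀ : M) + ((y : M) * (x₀ : M) - (x₀ : M) * (y : M))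
              - a.2 • (y : M) + a.2 • (x₀ : M) := by
              simp only [sub_mul, mul_sub, mul_add, Matrix.mul_smul, Matrix.mul_one]
              abel
          _ = 0 := by
              rw [hy2, hx2, hcomm]
              abel
      have hscal : a.2 • (1 : M) ∈ E := by
        have h1 : ((a.2.val : ℕ) : M) ∈ E := natCast_mem E _
        have h2 : ((a.2.val : ℕ) : M) = a.2 • (1 : M) := by
          rw [← nsmul_one, ← Nat.cast_smul_eq_nsmul F, ZMod.natCast_zmod_val]
        rwa [h2] at h1
      rcases eq_zero_or_eq_zero_of_mem p E hE (E.sub_mem hYE hXE)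
        (E.sub_mem (E.add_mem hYE hXE) hscal) hprod with h | h
      · rw [Finset.mem_insert]
        left
        exact sub_eq_zero.mp h
      · rw [Finset.mem_insert, Finset.mem_singleton]
        right
        rw [sub_eq_zero] at h
        rw [← h]
        abel
    calc (Cf.filter (fun x => φ x = a)).card
        = ((Cf.filter (fun x => φ x = a)).image (fun g : G => (g : M))).card :=
          (Finset.card_image_of_injective _ Units.val_injective).symm
      _ ≤ ({(x₀ : M), a.2 • (1 : M) - (x₀ : M)} : Finset M).card := Finset.card_le_card hsub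
      _ ≤ 2 := Finset.card_le_two
  have h1 : Cf.card ≤ 2 * (Cf.image φ).card := Finset.card_le_mul_card_image Cf 2 hfib
  let S : Subgroup Fˣ := C.map (Matrix.GeneralLinearGroup.det : G →* Fˣ)
  have hSimg : Finset.univ.filter (fun d => d ∈ S) =
      Cf.image (fun g => Matrix.GeneralLinearGroup.det g) := by
    ext d
    simp only [Finset.mem_filter, Finset.mem_univ, true_and, Finset.mem_image, S,
      Subgroup.mem_map, Cf]
  have hScard : Nat.card S = (Cf.image (fun g => Matrix.GeneralLinearGroup.det g)).card := by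
    rw [Nat.card_eq_fintype_card, Fintype.card_subtype, hSimg]
  have h2 : (Cf.image φ).card ≤ Nat.card S * p := by
    have hsub : Cf.image φ ⊆
        (Cf.image (fun g => Matrix.GeneralLinearGroup.det g)) ×ˢ (Finset.univ : Finset F) := by
      intro a ha
      obtain ⟨x, hx, rfl⟩ := Finset.mem_image.mp ha
      rw [Finset.mem_product]
      exact ⟨Finset.mem_image_of_mem _ hx, Finset.mem_univ _⟩
    calc (Cf.image φ).card ≤ _ := Finset.card_le_card hsub
      _ = Nat.card S * p := by rw [Finset.card_product, Finset.card_univ, ZMod.card, hScard]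
  have hStop : S = ⊤ := by
    by_contra hne
    have hidx : S.index ≠ 1 := fun h => hne (Subgroup.index_eq_one.mp h)
    have hidx0 : S.index ≠ 0 := Subgroup.index_ne_zero_of_finite
    have hmul : Nat.card S * S.index = p - 1 := by
      rw [Subgroup.card_mul_index, Nat.card_eq_fintype_card, ZMod.card_units]
    have h3 : 2 * Nat.card S ≤ p - 1 := by
      have : 2 ≤ S.index := by omega
      calc 2 * Nat.card S = Nat.card S * 2 := mul_comm _ _
        _ ≤ Nat.card S * S.index := Nat.mul_le_mul_left _ this
        _ = p - 1 := hmul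
    have h4 : p ^ 2 - 1 ≤ (p - 1) * p := by
      calc p ^ 2 - 1 = Cf.card := hCf.symm
        _ ≤ 2 * (Cf.image φ).card := h1
        _ ≤ 2 * (Nat.card S * p) := Nat.mul_le_mul_left _ h2
        _ = (2 * Nat.card S) * p := by ring
        _ ≤ (p - 1) * p := Nat.mul_le_mul_right _ h3
    have h5 : (p - 1) * p = p ^ 2 - p := by
      rw [Nat.sub_mul, one_mul, sq]
    have h6 : p ≤ p ^ 2 := by
      rw [sq]
      exact Nat.le_mul_of_pos_left p (by omega)
    omega
  intro δ
  have : δ ∈ S := by rw [hStop]; trivial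
  obtain ⟨c, hc, hcd⟩ := Subgroup.mem_map.mp this
  exact ⟨c, hc, hcd⟩

end Cartan

end Main

end Groth.Agent.H7.Serre
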