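import Mathlib
import Groth.Agent.Lib.Helper7.Serre2

/-! Serre's lemma on subgroups of `GL₂(𝔽_p)` (helper7). -/

namespace Groth.Agent.H7.Serre

universe u

open Matrix CharGL

section Main
variable (p : ℕ) [hp : Fact p.Prime]

/-- (⟸) direction. -/
theorem eq_top_of_cartan (H : Subgroup (GL (Fin 2) (ZMod p)))
    (C : Subgroup (GL (Fin 2) (ZMod p))) (E : Subring (Matrix (Fin 2) (Fin 2) (ZMod p)))
    (hCH : C ≤ H) (hE : IsField E) (hcard : Nat.card E = p ^ 2)
    (hEC : (E : Set (Matrix (Fin 2) (Fin 2) (ZMod p))) =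
      insert 0 ((fun g : GL (Fin 2) (ZMod p) => (g : Matrix (Fin 2) (Fin 2) (ZMod p))) ''
        (C : Set (GL (Fin 2) (ZMod p)))))
    (hpH : p ∣ Nat.card H) : H = ⊤ := by
  have hp2 : 2 ≤ p := hp.out.two_le
  have hCcard : Nat.card C = p ^ 2 - 1 := card_C p C E hEC hcard
  have hdvd1 : p ^ 2 - 1 ∣ Nat.card H := hCcard ▸ Subgroup.card_dvd_of_le hCH
  have hp1 : 1 ≤ p ^ 2 := Nat.one_le_pow _ _ (by omega)
  have hcop : Nat.Coprime p (p ^ 2 - 1) := by
    rw [Nat.Prime.coprime_iff_not_dvd hp.out]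
    intro hd
    have h2 : p ∣ p ^ 2 := dvd_pow_self p (by norm_num)
    have h3 : p ∣ p ^ 2 - (p ^ 2 - 1) := Nat.dvd_sub h2 hd
    have h4 : p ^ 2 - (p ^ 2 - 1) = 1 := by omega
    rw [h4, Nat.dvd_one] at h3
    omega
  have hdvd : p * (p ^ 2 - 1) ∣ Nat.card H := hcop.mul_dvd_of_dvd_of_dvd hpH hdvd1
  have hHpos : 0 < Nat.card H := Nat.card_pos
  have hHge : p * (p ^ 2 - 1) ≤ Nat.card H := Nat.le_of_dvd hHpos hdvd
  have hG : Nat.card (GL (Fin 2) (ZMod p)) = (p ^ 2 - 1) * (p ^ 2 - p) := card_G p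
  have hidx : Nat.card (GL (Fin 2) (ZMod p)) < p * Nat.card H := by
    rw [hG]
    have h5 : p ^ 2 - p < p * p := by
      have : p ^ 2 = p * p := sq p
      omega
    have h6 : 0 < p ^ 2 - 1 := by
      have : p ^ 2 = p * p := sq p
      have : 2 * p ≤ p * p := Nat.mul_le_mul_right p hp2
      omega
    calc (p ^ 2 - 1) * (p ^ 2 - p) < (p ^ 2 - 1) * (p * p) := Nat.mul_lt_mul_of_pos_left h5 h6
      _ = p * (p * (p ^ 2 - 1)) := by ring
      _ ≤ p * Nat.card H := Nat.mul_le_mul_left p hHge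
  apply eq_top_of_transvections_of_det H
  · intro i j hij c
    exact mem_of_pow_eq_one H p (tGL i j hij c) (tGL_pow_p p i j hij c) hidx
  · intro δ
    obtain ⟨c, hc, hcd⟩ := det_surjective_of_cartan p C E hE hEC hcard δ
    exact ⟨c, hCH hc, hcd⟩

/-- (⟹) direction: existence of a non-split Cartan subgroup. -/
theorem exists_cartan :
    ∃ (C : Subgroup (GL (Fin 2) (ZMod p))) (E : Subring (Matrix (Fin 2) (Fin 2) (ZMod p))),
      IsField E ∧ Nat.card E = p ^ 2 ∧
        (E : Set (Matrix (Fin 2) (Fin 2) (ZMod p))) =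
          insert 0 ((fun g : GL (Fin 2) (ZMod p) => (g : Matrix (Fin 2) (Fin 2) (ZMod p))) ''
            (C : Set (GL (Fin 2) (ZMod p)))) := by
  classical
  have h2 : (2 : ℕ) ≠ 0 := by norm_num
  haveI : Module.Finite (ZMod p) (GaloisField p 2) :=
    Module.finite_of_finrank_pos (by rw [GaloisField.finrank p h2]; norm_num)
  let b : Module.Basis (Fin 2) (ZMod p) (GaloisField p 2) :=
    Module.finBasisOfFinrankEq (ZMod p) (GaloisField p 2) (GaloisField.finrank p h2)
  let φ : GaloisField p 2 →ₐ[ZMod p] Matrix (Fin 2) (Fin 2) (ZMod p) := Algebra.leftMulMatrix b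
  have hφinj : Function.Injective φ := Algebra.leftMulMatrix_injective b
  let E : Subring (Matrix (Fin 2) (Fin 2) (ZMod p)) := φ.toRingHom.range
  have hEmem : ∀ y, y ∈ E ↔ ∃ x, φ x = y := fun y => RingHom.mem_range
  let e : GaloisField p 2 ≃+* E :=
    RingEquiv.ofBijective φ.toRingHom.rangeRestrict
      ⟨fun x y h => hφinj (congrArg Subtype.val h), φ.toRingHom.rangeRestrict_surjective⟩
  have hEfield : IsField E := e.symm.toMulEquiv.isField (Field.toIsField _)
  have hEcard : Nat.card E = p ^ 2 := by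
    rw [← Nat.card_congr e.toEquiv, GaloisField.card p 2 h2]
  -- units
  have hunit : ∀ x : GaloisField p 2, x ≠ 0 → φ x * φ x⁻¹ = 1 ∧ φ x⁻¹ * φ x = 1 := by
    intro x hx
    constructor
    · rw [← map_mul, mul_inv_cancel₀ hx, map_one]
    · rw [← map_mul, inv_mul_cancel₀ hx, map_one]
  let C : Subgroup (GL (Fin 2) (ZMod p)) :=
    { carrier := {g | (g : Matrix (Fin 2) (Fin 2) (ZMod p)) ∈ E}
      one_mem' := E.one_mem
      mul_mem' := fun {a b} ha hb => by
        show ((a * b : GL (Fin 2) (ZMod p)) : Matrix (Fin 2) (Fin 2) (ZMod p)) ∈ E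
        rw [Units.val_mul]
        exact E.mul_mem ha hb
      inv_mem' := fun {a} ha => by
        show ((a⁻¹ : GL (Fin 2) (ZMod p)) : Matrix (Fin 2) (Fin 2) (ZMod p)) ∈ E
        obtain ⟨x, hx⟩ := (hEmem _).mp ha
        have hx0 : x ≠ 0 := by
          rintro rfl
          rw [map_zero] at hx
          exact a.ne_zero hx.symm
        have h1 : (a : Matrix (Fin 2) (Fin 2) (ZMod p)) * φ x⁻¹ = 1 := by
          rw [← hx]; exact (hunit x hx0).1
        have h2 : ((a⁻¹ : GL (Fin 2) (ZMod p)) : Matrix (Fin 2) (Fin 2) (ZMod p)) = φ x⁻¹ :=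
          Units.inv_eq_of_mul_eq_one_right h1
        rw [h2]
        exact (hEmem _).mpr ⟨_, rfl⟩ }
  refine ⟨C, E, hEfield, hEcard, ?_⟩
  ext y
  constructor
  · intro hy
    obtain ⟨x, rfl⟩ := (hEmem _).mp hy
    by_cases hx : x = 0
    · rw [hx, map_zero]
      exact Set.mem_insert _ _
    · apply Set.mem_insert_of_mem
      exact ⟨⟨φ x, φ x⁻¹, (hunit x hx).1, (hunit x hx).2⟩, (hEmem _).mpr ⟨x, rfl⟩, rfl⟩
  · intro hy
    rcases hy with rfl | ⟨g, hg, rfl⟩
    · exact E.zero_mem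
    · exact hg

theorem prime_dvd_card_G : p ∣ Nat.card (GL (Fin 2) (ZMod p)) := by
  rw [card_G p]
  apply Dvd.dvd.mul_left
  have : p ^ 2 - p = p * (p - 1) := by
    rw [Nat.mul_sub, mul_one, sq]
  rw [this]
  exact dvd_mul_right _ _

end Main

end Groth.Agent.H7.Serre
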