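import Mathlib
open CategoryTheory CategoryTheory.Limits Opposite
universe u
namespace Groth.Agent.H7.ShPullFF

theorem main {C : Type u} [SmallCategory C] {C' : Type u} [SmallCategory C']
    (J : GrothendieckTopology C) (K : GrothendieckTopology C') (u : C ⥤ C')
    [u.IsContinuous J K] [u.IsCocontinuous J K] [u.Full] [u.Faithful] :
    (u.sheafPullback (Type u) J K).Full ∧ (u.sheafPullback (Type u) J K).Faithful := by
  let t : Adjunction.Triple (u.sheafPullback (Type u) J K)
      (u.sheafPushforwardContinuous (Type u) J K) (u.sheafPushforwardCocontinuous (Type u) J K) :=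
    ⟨u.sheafAdjunctionContinuous (Type u) J K, u.sheafAdjunctionCocontinuous (Type u) J K⟩
  haveI : IsIso t.adj₂.counit := by
    haveI : ∀ F, IsIso (t.adj₂.counit.app F) := by
      intro F
      haveI : IsIso ((sheafToPresheaf J (Type u)).map (t.adj₂.counit.app F)) := by
        show IsIso (((u.sheafAdjunctionCocontinuous (Type u) J K).counit.app F).hom)
        rw [Functor.sheafAdjunctionCocontinuous_counit_app_hom]
        haveI : u.op.Full := inferInstance
        haveI : u.op.Faithful := inferInstance
        haveI : u.op.HasPointwiseRightKanExtension F.obj := inferInstance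
        haveI : ∀ (F : Cᵒᵖ ⥤ Type u), u.op.HasRightKanExtension F := inferInstance
        exact inferInstanceAs (IsIso ((u.op.ranAdjunction (Type u)).counit.app F.obj))
      exact isIso_of_reflects_iso _ (sheafToPresheaf J (Type u))
    exact NatIso.isIso_of_isIso_app _
  have ff := t.fullyFaithfulEquiv.symm (t.adj₂.fullyFaithfulROfIsIsoCounit)
  exact ⟨ff.full, ff.faithful⟩

end Groth.Agent.H7.ShPullFF
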