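import Mathlib

/-! σ-linear algebra over a field: Fitting decomposition of a semilinear endomorphism (helper7). -/

set_option autoImplicit false

namespace Groth.Agent.H7.SigLin

open Module

variable {k : Type*} [Field k] {σ : k →+* k} {V : Type*} [AddCommGroup V] [Module k V]

section basic

lemma iterate_smul (T : V →ₛₗ[σ] V) (n : ℕ) (c : k) (v : V) :
    (⇑T)^[n] (c • v) = (⇑σ)^[n] c • (⇑T)^[n] v := by
  induction n with
  | zero => rfl
  | succ n ih => rw [Function.iterate_succ_apply', ih, T.map_smulₛₗ, Function.iterate_succ_apply',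
      Function.iterate_succ_apply']

lemma iterate_zero' (T : V →ₛₗ[σ] V) (n : ℕ) : (⇑T)^[n] 0 = 0 := by
  induction n with
  | zero => rfl
  | succ n ih => rw [Function.iterate_succ_apply', ih, map_zero]

lemma iterate_add (T : V →ₛₗ[σ] V) (n : ℕ) (v w : V) :
    (⇑T)^[n] (v + w) = (⇑T)^[n] v + (⇑T)^[n] w := by
  induction n with
  | zero => rfl
  | succ n ih => rw [Function.iterate_succ_apply', ih, map_add, Function.iterate_succ_apply',
      Function.iterate_succ_apply']

lemma iterate_sub (T : V →ₛₗ[σ] V) (n : ℕ) (v w : V) :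
    (⇑T)^[n] (v - w) = (⇑T)^[n] v - (⇑T)^[n] w := by
  induction n with
  | zero => rfl
  | succ n ih => rw [Function.iterate_succ_apply', ih, map_sub, Function.iterate_succ_apply',
      Function.iterate_succ_apply']

/-- the span of the image of the `n`-th iterate -/
def imSpan (T : V →ₛₗ[σ] V) (n : ℕ) : Submodule k V := Submodule.span k (Set.range ((⇑T)^[n]))

/-- the kernel of the `n`-th iterate -/
def kerIter (T : V →ₛₗ[σ] V) (n : ℕ) : Submodule k V where
  carrier := {v | (⇑T)^[n] v = 0}
  add_mem' := fun {a b} ha hb => by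
    change (⇑T)^[n] (a + b) = 0
    rw [iterate_add, ha, hb, add_zero]
  zero_mem' := iterate_zero' T n
  smul_mem' := fun c v hv => by
    change (⇑T)^[n] (c • v) = 0
    rw [iterate_smul, hv, smul_zero]

lemma mem_kerIter {T : V →ₛₗ[σ] V} {n : ℕ} {v : V} : v ∈ kerIter T n ↔ (⇑T)^[n] v = 0 := Iff.rfl

lemma kerIter_mono (T : V →ₛₗ[σ] V) : Monotone (kerIter T) := by
  refine monotone_nat_of_le_succ (fun n v hv => ?_)
  rw [mem_kerIter] at hv ⊢
  rw [Function.iterate_succ_apply', hv, map_zero]

lemma map_mem_imSpan (T : V →ₛₗ[σ] V) {n : ℕ} {v : V} (hv : v ∈ imSpan T n) :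
    T v ∈ imSpan T (n + 1) := by
  induction hv using Submodule.span_induction with
  | mem x hx =>
    obtain ⟨y, rfl⟩ := hx
    refine Submodule.subset_span ⟨y, ?_⟩
    rw [Function.iterate_succ_apply']
  | zero => rw [map_zero]; exact Submodule.zero_mem _
  | add x y _ _ hx hy => rw [map_add]; exact Submodule.add_mem _ hx hy
  | smul c x _ hx => rw [T.map_smulₛₗ]; exact Submodule.smul_mem _ _ hx

lemma imSpan_anti (T : V →ₛₗ[σ] V) : Antitone (imSpan T) := by
  refine antitone_nat_of_succ_le (fun n => ?_)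
  rw [imSpan, Submodule.span_le]
  rintro _ ⟨y, rfl⟩
  refine Submodule.subset_span ⟨T y, ?_⟩
  rw [Function.iterate_succ_apply]

lemma iterate_mem_imSpan (T : V →ₛₗ[σ] V) (n : ℕ) (v : V) : (⇑T)^[n] v ∈ imSpan T n :=
  Submodule.subset_span ⟨v, rfl⟩

/-- the stable image -/
def ss (T : V →ₛₗ[σ] V) : Submodule k V := ⨅ n : ℕ, imSpan T n

lemma ss_le (T : V →ₛₗ[σ] V) (n : ℕ) : ss T ≤ imSpan T n := iInf_le _ n

lemma map_mem_ss (T : V →ₛₗ[σ] V) {v : V} (hv : v ∈ ss T) : T v ∈ ss T := by
  rw [ss, Submodule.mem_iInf] at hv ⊢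
  intro n
  exact imSpan_anti T (Nat.le_succ n) (map_mem_imSpan T (hv n))

/-- restriction of a semilinear endomorphism to a stable subspace -/
def restr (T : V →ₛₗ[σ] V) (W : Submodule k V) (h : ∀ w ∈ W, T w ∈ W) : W →ₛₗ[σ] W :=
  (T.domRestrict W).codRestrict W (fun w => h w w.2)

@[simp] lemma restr_apply (T : V →ₛₗ[σ] V) (W : Submodule k V) (h : ∀ w ∈ W, T w ∈ W) (w : W) :
    ((restr T W h w : W) : V) = T w := rfl

lemma restr_iterate (T : V →ₛₗ[σ] V) (W : Submodule k V) (h : ∀ w ∈ W, T w ∈ W) (n : ℕ) (w : W) :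
    (((⇑(restr T W h))^[n] w : W) : V) = (⇑T)^[n] w := by
  induction n with
  | zero => rfl
  | succ n ih => rw [Function.iterate_succ_apply', Function.iterate_succ_apply', restr_apply, ih]

end basic

section fd

variable [FiniteDimensional k V]

lemma exists_imSpan_stab (T : V →ₛₗ[σ] V) : ∃ N, ∀ n, N ≤ n → imSpan T n = imSpan T N := by
  obtain ⟨N, hN⟩ := IsArtinian.monotone_stabilizes
    (⟨fun n => OrderDual.toDual (imSpan T n), fun a b hab => imSpan_anti T hab⟩ :
      ℕ →o (Submodule k V)ᵒᵈ)
  exact ⟨N, fun n hn => (OrderDual.toDual_inj.1 (hN n hn)).symm⟩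

lemma exists_kerIter_stab (T : V →ₛₗ[σ] V) : ∃ N, ∀ n, N ≤ n → kerIter T n = kerIter T N := by
  obtain ⟨N, hN⟩ := monotone_stabilizes_iff_noetherian.2 (inferInstance : IsNoetherian k V)
    ⟨kerIter T, kerIter_mono T⟩
  exact ⟨N, fun n hn => (hN n hn).symm⟩

lemma ss_eq_imSpan (T : V →ₛₗ[σ] V) {N : ℕ} (hN : ∀ n, N ≤ n → imSpan T n = imSpan T N) :
    ss T = imSpan T N := by
  apply le_antisymm (ss_le T N)
  rw [ss]
  refine le_iInf (fun n => ?_)
  rcases le_total N n with h | h
  · rw [hN n h]
  · exact imSpan_anti T h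

/-- a semilinear endomorphism of a finite-dimensional space whose image spans is injective and
maps a basis to a basis -/
theorem linearIndependent_map_basis (T : V →ₛₗ[σ] V) (h : Submodule.span k (Set.range T) = ⊤)
    {ι : Type*} [Fintype ι] (b : Basis ι k V) : LinearIndependent k (fun i => T (b i)) := by
  apply linearIndependent_of_top_le_span_of_card_eq_finrank
  · rw [← h, Submodule.span_le]
    rintro _ ⟨w, rfl⟩
    rw [← b.sum_repr w, map_sum]
    refine Submodule.sum_mem _ (fun i _ => ?_)
    rw [T.map_smulₛₗ]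
    exact Submodule.smul_mem _ _ (Submodule.subset_span ⟨i, rfl⟩)
  · exact (Module.finrank_eq_card_basis b).symm

theorem injective_of_span_range_eq_top (T : V →ₛₗ[σ] V)
    (h : Submodule.span k (Set.range T) = ⊤) : Function.Injective T := by
  rw [injective_iff_map_eq_zero]
  intro w hw
  let b := Module.finBasis k V
  have hli := linearIndependent_map_basis T h b
  rw [← b.sum_repr w, map_sum] at hw
  simp only [T.map_smulₛₗ] at hw
  have h0 := Fintype.linearIndependent_iff.1 hli (fun i => σ (b.repr w i)) hw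
  rw [← b.sum_repr w]
  refine Finset.sum_eq_zero (fun i _ => ?_)
  have : b.repr w i = 0 := (map_eq_zero σ).1 (h0 i)
  rw [this, zero_smul]

/-- an injective semilinear endomorphism along a surjective ring map is surjective -/
theorem surjective_of_injective (hσ : Function.Surjective σ) (T : V →ₛₗ[σ] V)
    (h : Function.Injective T) : Function.Surjective T := by
  let b := Module.finBasis k V
  have hli : LinearIndependent k (fun i => T (b i)) := by
    rw [Fintype.linearIndependent_iff]
    intro g hg i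
    choose g' hg' using fun i => hσ (g i)
    have h1 : T (∑ i, g' i • b i) = 0 := by
      rw [map_sum, ← hg]
      refine Finset.sum_congr rfl (fun i _ => ?_)
      rw [T.map_smulₛₗ, hg']
    have h2 := h (h1.trans (map_zero T).symm)
    have h3 := Fintype.linearIndependent_iff.1 b.linearIndependent g' h2 i
    rw [← hg', h3, map_zero]
  have hspan := hli.span_eq_top_of_card_eq_finrank' (Module.finrank_eq_card_basis b).symm
  intro w
  have hw : w ∈ Submodule.span k (Set.range fun i => T (b i)) := by rw [hspan]; trivial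
  obtain ⟨g, rfl⟩ := (Submodule.mem_span_range_iff_exists_fun k).1 hw
  choose g' hg' using fun i => hσ (g i)
  refine ⟨∑ i, g' i • b i, ?_⟩
  rw [map_sum]
  refine Finset.sum_congr rfl (fun i _ => ?_)
  rw [T.map_smulₛₗ, hg']

/-- the restriction of `T` to its stable image has spanning image -/
lemma span_range_restr_ss (T : V →ₛₗ[σ] V) :
    Submodule.span k (Set.range (restr T (ss T) (fun _ hw => map_mem_ss T hw))) = ⊤ := by
  obtain ⟨N, hN⟩ := exists_imSpan_stab T
  have hss := ss_eq_imSpan T hN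
  rw [eq_top_iff]
  rintro ⟨w, hw⟩ -
  have hw' : w ∈ imSpan T (N + 1) := by rw [hN (N + 1) (Nat.le_succ N), ← hss]; exact hw
  -- induction on the span
  have key : ∀ x ∈ imSpan T (N + 1), ∀ hx : x ∈ ss T,
      (⟨x, hx⟩ : ss T) ∈ Submodule.span k
        (Set.range (restr T (ss T) (fun _ hw => map_mem_ss T hw))) := by
    intro x hx
    induction hx using Submodule.span_induction with
    | mem x hx =>
      intro hx'
      obtain ⟨y, rfl⟩ := hx
      refine Submodule.subset_span ⟨⟨(⇑T)^[N] y, by rw [hss]; exact iterate_mem_imSpan T N y⟩, ?_⟩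
      apply Subtype.ext
      rw [restr_apply]
      exact (Function.iterate_succ_apply' (⇑T) N y).symm
    | zero => intro _; exact Submodule.zero_mem _
    | add x y hx hy ihx ihy =>
      intro _
      have hx' : x ∈ ss T := by rw [hss, ← hN (N + 1) (Nat.le_succ N)]; exact hx
      have hy' : y ∈ ss T := by rw [hss, ← hN (N + 1) (Nat.le_succ N)]; exact hy
      exact Submodule.add_mem _ (ihx hx') (ihy hy')
    | smul c x hx ihx =>
      intro _
      have hx' : x ∈ ss T := by rw [hss, ← hN (N + 1) (Nat.le_succ N)]; exact hx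
      exact Submodule.smul_mem _ c (ihx hx')
  exact key w hw' hw

/-- **S19229** -/
theorem eq_zero_of_iterate_eq_zero_of_mem_ss (T : V →ₛₗ[σ] V) {v : V} {n : ℕ}
    (hnil : (⇑T)^[n] v = 0) (hss : v ∈ ss T) : v = 0 := by
  have hinj := injective_of_span_range_eq_top _ (span_range_restr_ss T)
  have h1 : (⇑(restr T (ss T) (fun _ hw => map_mem_ss T hw)))^[n] ⟨v, hss⟩ = 0 := by
    apply Subtype.ext
    rw [restr_iterate]
    exact hnil
  have h2 := (hinj.iterate n) (h1.trans (iterate_zero' _ n).symm)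
  exact congrArg Subtype.val h2

lemma coe_ss (T : V →ₛₗ[σ] V) :
    ((ss T : Submodule k V) : Set V) =
      ⋂ n : ℕ, ((Submodule.span k (Set.range ((⇑T)^[n])) : Submodule k V) : Set V) := by
  ext v
  simp only [ss, imSpan, Submodule.coe_iInf]

/-- `T` is bijective on its stable image when `σ` is surjective -/
theorem bijective_restr_ss (hσ : Function.Surjective σ) (T : V →ₛₗ[σ] V) :
    Function.Bijective (restr T (ss T) (fun _ hw => map_mem_ss T hw)) := by
  have hinj := injective_of_span_range_eq_top _ (span_range_restr_ss T)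
  exact ⟨hinj, surjective_of_injective hσ _ hinj⟩

/-- **S19230**: Fitting decomposition -/
theorem fitting (hσ : Function.Surjective σ) (T : V →ₛₗ[σ] V) :
    (∃ W : Submodule k V, (W : Set V) = {v : V | ∃ n : ℕ, (⇑T)^[n] v = 0} ∧
      (∃ N : ℕ, ∀ v ∈ W, (⇑T)^[N] v = 0) ∧ IsCompl W (ss T)) ∧
    Set.BijOn (⇑T) (ss T : Set V) (ss T : Set V) := by
  obtain ⟨N₁, hN₁⟩ := exists_kerIter_stab T
  obtain ⟨N₂, hN₂⟩ := exists_imSpan_stab T
  have hss := ss_eq_imSpan T hN₂
  have hbij := bijective_restr_ss hσ T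
  refine ⟨⟨kerIter T N₁, ?_, ⟨N₁, fun v hv => hv⟩, ?_⟩, ?_⟩
  · ext v
    constructor
    · intro hv; exact ⟨N₁, hv⟩
    · rintro ⟨n, hn⟩
      have h1 : v ∈ kerIter T (max n N₁) := kerIter_mono T (le_max_left _ _) hn
      rw [hN₁ _ (le_max_right _ _)] at h1
      exact h1
  · constructor
    · rw [Submodule.disjoint_def]
      intro v hv hv'
      exact eq_zero_of_iterate_eq_zero_of_mem_ss T hv hv'
    · rw [codisjoint_iff, eq_top_iff]
      intro v _
      set N := max N₁ N₂ with hNdef
      have h1 : (⇑T)^[N] v ∈ ss T := by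
        rw [hss, ← hN₂ N (le_max_right _ _)]
        exact iterate_mem_imSpan T N v
      have hbijN := hbij.iterate N
      obtain ⟨w, hw⟩ := hbijN.2 ⟨(⇑T)^[N] v, h1⟩
      have hw' : (⇑T)^[N] (w : V) = (⇑T)^[N] v := by
        have := congrArg Subtype.val hw
        rwa [restr_iterate] at this
      have h2 : v - w ∈ kerIter T N₁ := by
        rw [← hN₁ N (le_max_left _ _), mem_kerIter, iterate_sub, hw', sub_self]
      have : v = (v - w) + w := by abel
      rw [this]
      exact Submodule.add_mem _ (Submodule.mem_sup_left h2) (Submodule.mem_sup_right w.2)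
  · refine ⟨fun v hv => map_mem_ss T hv, ?_, ?_⟩
    · intro v hv w hw hvw
      have := hbij.1 (a₁ := ⟨v, hv⟩) (a₂ := ⟨w, hw⟩) (Subtype.ext hvw)
      exact congrArg Subtype.val this
    · intro w hw
      obtain ⟨v, hv⟩ := hbij.2 ⟨w, hw⟩
      exact ⟨v, v.2, congrArg Subtype.val hv⟩

end fd

end Groth.Agent.H7.SigLin
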