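import Groth.Agent.Lib.Helper7.SigLin1

/-! σ-linear algebra: fixed vectors (helper7). -/

set_option autoImplicit false

namespace Groth.Agent.H7.SigLin

open Module

variable {k : Type*} [Field k] {σ : k →+* k} {V : Type*} [AddCommGroup V] [Module k V]

/-- the solvability hypothesis on `σ` -/
def H2 (σ : k →+* k) : Prop :=
  ∀ (n : ℕ) (b : Fin (n + 1) → k), b ≠ 0 →
    ∃ x : k, x ≠ 0 ∧ x = ∑ i : Fin (n + 1), (⇑σ)^[i.val + 1] x * (⇑σ)^[i.val] (b (Fin.rev i))

/-- the Artin–Schreier hypothesis on `σ` -/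
def H3 (σ : k →+* k) : Prop := ∀ c : k, ∃ y : k, σ y - y + c = 0

section recursion

/-- the coefficients of the fixed vector -/
def coeffY (σ : k →+* k) (x : k) (a : ℕ → k) : ℕ → k
  | 0 => σ x * a 0
  | (j + 1) => σ (coeffY σ x a j) + σ x * a (j + 1)

lemma coeffY_eq (σ : k →+* k) (x : k) (a : ℕ → k) (j : ℕ) :
    coeffY σ x a j = ∑ i ∈ Finset.range (j + 1), (⇑σ)^[i + 1] x * (⇑σ)^[i] (a (j - i)) := by
  induction j with
  | zero => simp [coeffY]
  | succ j ih =>
    rw [coeffY, ih, Finset.sum_range_succ' _ (j + 1), map_sum]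
    congr 1
    · refine Finset.sum_congr rfl (fun i hi => ?_)
      rw [map_mul, ← Function.iterate_succ_apply' (⇑σ), ← Function.iterate_succ_apply' (⇑σ)]
      congr 3
      have := Finset.mem_range.1 hi
      omega

end recursion

variable [FiniteDimensional k V]

/-- **S19232** -/
theorem exists_fixed (T : V →ₛₗ[σ] V) (h2 : H2 σ) (e : V) (he : ∀ m : ℕ, (⇑T)^[m] e ≠ 0) :
    ∃ v ∈ Submodule.span k (Set.range (fun m : ℕ => (⇑T)^[m] e)), v ≠ 0 ∧ T v = v := by
  classical
  -- the first linear dependency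
  have hex : ∃ m : ℕ, ¬ LinearIndependent k (fun i : Fin (m + 1) => (⇑T)^[i.val] e) := by
    refine ⟨Module.finrank k V, fun h => ?_⟩
    have := h.fintype_card_le_finrank
    rw [Fintype.card_fin] at this
    omega
  have h0 : LinearIndependent k (fun i : Fin (0 + 1) => (⇑T)^[i.val] e) := by
    haveI : Unique (Fin (0 + 1)) := inferInstanceAs (Unique (Fin 1))
    rw [linearIndependent_unique_iff]
    exact he _
  have hm0 : Nat.find hex ≠ 0 := by
    intro h
    have := Nat.find_spec hex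
    rw [h] at this
    exact this h0
  obtain ⟨n, hn⟩ : ∃ n, Nat.find hex = n + 1 := ⟨Nat.find hex - 1, by omega⟩
  have hindep : LinearIndependent k (fun i : Fin (n + 1) => (⇑T)^[i.val] e) := by
    have := Nat.find_min hex (m := n) (by omega)
    exact not_not.1 this
  have hdep : ¬ LinearIndependent k (fun i : Fin (n + 1 + 1) => (⇑T)^[i.val] e) := by
    have := Nat.find_spec hex
    rwa [hn] at this
  have hsnoc : (fun i : Fin (n + 1 + 1) => (⇑T)^[i.val] e) =
      Fin.snoc (fun i : Fin (n + 1) => (⇑T)^[i.val] e) ((⇑T)^[n + 1] e) := by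
    ext i
    refine Fin.lastCases ?_ (fun j => ?_) i
    · simp
    · simp
  rw [hsnoc, linearIndependent_finSnoc] at hdep
  have hmem : (⇑T)^[n + 1] e ∈ Submodule.span k (Set.range fun i : Fin (n + 1) => (⇑T)^[i.val] e) := by
    by_contra h
    exact hdep ⟨hindep, h⟩
  obtain ⟨a, ha⟩ := (Submodule.mem_span_range_iff_exists_fun k).1 hmem
  have ha0 : a ≠ 0 := by
    rintro rfl
    simp only [Pi.zero_apply, zero_smul, Finset.sum_const_zero] at ha
    exact he _ ha.symm
  obtain ⟨x, hx0, hx⟩ := h2 n a ha0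
  -- extend `a` to `ℕ`
  set a' : ℕ → k := fun i => if h : i < n + 1 then a ⟨i, h⟩ else 0 with ha'
  have ha'i : ∀ i : Fin (n + 1), a' i.val = a i := fun i => by
    simp only [ha']
    rw [dif_pos i.2]
  have hrel : (⇑T)^[n + 1] e = ∑ i ∈ Finset.range (n + 1), a' i • (⇑T)^[i] e := by
    rw [← ha, ← Fin.sum_univ_eq_sum_range (fun i => a' i • (⇑T)^[i] e) (n + 1)]
    refine Finset.sum_congr rfl (fun i _ => ?_)
    rw [ha'i]
  set y := coeffY σ x a' with hy
  have hyn : y n = x := by
    rw [hy, coeffY_eq, ← Fin.sum_univ_eq_sum_range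
      (fun i => (⇑σ)^[i + 1] x * (⇑σ)^[i] (a' (n - i))) (n + 1)]
    refine Eq.trans ?_ hx.symm
    refine Finset.sum_congr rfl (fun i _ => ?_)
    congr 2
    rw [← ha'i (Fin.rev i), Fin.val_rev]
    congr 1
    omega
  refine ⟨∑ j ∈ Finset.range (n + 1), y j • (⇑T)^[j] e, ?_, ?_, ?_⟩
  · exact Submodule.sum_mem _ (fun j _ => Submodule.smul_mem _ _ (Submodule.subset_span ⟨j, rfl⟩))
  · intro hzero
    rw [← Fin.sum_univ_eq_sum_range (fun j => y j • (⇑T)^[j] e) (n + 1)] at hzero
    have := Fintype.linearIndependent_iff.1 hindep (fun j => y j.val) hzero (Fin.last n)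
    rw [Fin.val_last, hyn] at this
    exact hx0 this
  · have hTv : T (∑ j ∈ Finset.range (n + 1), y j • (⇑T)^[j] e) =
        ∑ j ∈ Finset.range n, σ (y j) • (⇑T)^[j + 1] e + σ x • (⇑T)^[n + 1] e := by
      rw [map_sum, Finset.sum_range_succ, T.map_smulₛₗ, hyn, ← Function.iterate_succ_apply' (⇑T)]
      congr 1
      refine Finset.sum_congr rfl (fun j _ => ?_)
      rw [T.map_smulₛₗ, ← Function.iterate_succ_apply' (⇑T)]
    have hv : ∑ j ∈ Finset.range (n + 1), y j • (⇑T)^[j] e =
        ∑ j ∈ Finset.range n, y (j + 1) • (⇑T)^[j + 1] e + y 0 • e := by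
      rw [Finset.sum_range_succ']
      rfl
    have hrel' : (⇑T)^[n + 1] e =
        ∑ j ∈ Finset.range n, a' (j + 1) • (⇑T)^[j + 1] e + a' 0 • e := by
      rw [hrel, Finset.sum_range_succ']
      rfl
    have hy0 : y 0 = σ x * a' 0 := rfl
    have hys : ∀ j, y (j + 1) = σ (y j) + σ x * a' (j + 1) := fun j => rfl
    rw [hTv, hv, hrel', hy0]
    simp only [hys, smul_add, Finset.smul_sum, add_smul, mul_smul, Finset.sum_add_distrib]
    abel

/-- the span of the fixed vectors -/
def fixSpan (T : V →ₛₗ[σ] V) : Submodule k V := Submodule.span k {v | T v = v}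

lemma map_mem_fixSpan (T : V →ₛₗ[σ] V) {v : V} (hv : v ∈ fixSpan T) : T v ∈ fixSpan T := by
  induction hv using Submodule.span_induction with
  | mem x hx => rw [hx]; exact Submodule.subset_span hx
  | zero => rw [map_zero]; exact Submodule.zero_mem _
  | add x y _ _ hx hy => rw [map_add]; exact Submodule.add_mem _ hx hy
  | smul c x _ hx => rw [T.map_smulₛₗ]; exact Submodule.smul_mem _ _ hx

/-- `1 - T` is surjective on the span of the fixed vectors -/
lemma exists_sub_eq_of_mem_fixSpan (T : V →ₛₗ[σ] V) (h3 : H3 σ) {u₀ : V} (hu₀ : u₀ ∈ fixSpan T) :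
    ∃ u ∈ fixSpan T, u - T u = u₀ := by
  induction hu₀ using Submodule.closure_induction with
  | zero => exact ⟨0, Submodule.zero_mem _, by simp⟩
  | add x y _ _ hx hy =>
    obtain ⟨u, hu, rfl⟩ := hx
    obtain ⟨w, hw, rfl⟩ := hy
    exact ⟨u + w, Submodule.add_mem _ hu hw, by rw [map_add]; abel⟩
  | smul_mem c f hf =>
    obtain ⟨y, hy⟩ := h3 c
    refine ⟨y • f, Submodule.smul_mem _ _ (Submodule.subset_span hf), ?_⟩
    have hf' : T f = f := hf
    rw [T.map_smulₛₗ, hf', ← sub_smul]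
    congr 1
    linear_combination -hy

/-- **S19233**: the fixed vectors span -/
theorem fixSpan_eq_top (T : V →ₛₗ[σ] V) (h1 : Submodule.span k (Set.range ⇑T) = ⊤) (h2 : H2 σ)
    (h3 : H3 σ) : fixSpan T = ⊤ := by
  by_contra hne
  set F := fixSpan T with hF
  have hmap : F ≤ Submodule.comap T F := fun v hv => map_mem_fixSpan T hv
  let Tq : (V ⧸ F) →ₛₗ[σ] (V ⧸ F) := F.mapQ F T hmap
  have hTq : ∀ v : V, Tq (F.mkQ v) = F.mkQ (T v) := fun v => rfl
  have hspan : Submodule.span k (Set.range ⇑Tq) = ⊤ := by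
    rw [eq_top_iff]
    rintro x -
    obtain ⟨v, rfl⟩ := F.mkQ_surjective x
    have hv : v ∈ Submodule.span k (Set.range ⇑T) := by rw [h1]; trivial
    induction hv using Submodule.span_induction with
    | mem x hx =>
      obtain ⟨y, rfl⟩ := hx
      exact Submodule.subset_span ⟨F.mkQ y, hTq y⟩
    | zero => rw [map_zero]; exact Submodule.zero_mem _
    | add x y _ _ hx hy => rw [map_add]; exact Submodule.add_mem _ hx hy
    | smul c x _ hx => rw [map_smul]; exact Submodule.smul_mem _ _ hx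
  have hinj := injective_of_span_range_eq_top Tq hspan
  obtain ⟨e, -, he⟩ := SetLike.exists_of_lt (lt_top_iff_ne_top.2 hne)
  have he' : F.mkQ e ≠ 0 := by
    rw [Ne, Submodule.mkQ_apply, Submodule.Quotient.mk_eq_zero]
    exact he
  have hiter : ∀ m : ℕ, (⇑Tq)^[m] (F.mkQ e) ≠ 0 := fun m h =>
    he' ((hinj.iterate m) (h.trans (iterate_zero' Tq m).symm))
  obtain ⟨wbar, -, hw0, hwfix⟩ := exists_fixed Tq h2 (F.mkQ e) hiter
  obtain ⟨w, rfl⟩ := F.mkQ_surjective wbar
  have hw1 : w - T w ∈ F := by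
    rw [hTq] at hwfix
    have : F.mkQ (w - T w) = 0 := by rw [map_sub, hwfix, sub_self]
    rwa [Submodule.mkQ_apply, Submodule.Quotient.mk_eq_zero] at this
  obtain ⟨u, hu, huw⟩ := exists_sub_eq_of_mem_fixSpan T h3 hw1
  have hfix : T (w - u) = w - u := by
    rw [map_sub]
    have : T w - T u = (w - u) - ((w - T w) - (u - T u)) := by abel
    rw [this, huw, sub_self, sub_zero]
  have hwu : w - u ∈ F := Submodule.subset_span hfix
  have hwF : w ∈ F := by
    have : w = (w - u) + u := by abel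
    rw [this]
    exact Submodule.add_mem _ hwu hu
  apply hw0
  rw [Submodule.mkQ_apply, Submodule.Quotient.mk_eq_zero]
  exact hwF

theorem exists_fixed_basis (T : V →ₛₗ[σ] V) (h1 : Submodule.span k (Set.range ⇑T) = ⊤)
    (h2 : H2 σ) (h3 : H3 σ) :
    (∃ b : Module.Basis (Fin (Module.finrank k V)) k V, ∀ i, T (b i) = b i) ∧
      Function.Surjective (fun v : V => v - T v) := by
  have htop := fixSpan_eq_top T h1 h2 h3
  constructor
  · have hs : ⊤ ≤ Submodule.span k {v | T v = v} := by rw [← htop]; rfl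
    let b' := Module.Basis.ofSpan hs
    have hb' : ∀ i, T (b' i) = b' i := fun i => Module.Basis.ofSpan_subset hs ⟨i, rfl⟩
    let e := (Module.finBasis k V).indexEquiv b'
    refine ⟨b'.reindex e.symm, fun i => ?_⟩
    rw [Module.Basis.reindex_apply, Equiv.symm_symm]
    exact hb' _
  · intro v
    have hv : v ∈ fixSpan T := by rw [htop]; trivial
    obtain ⟨u, -, hu⟩ := exists_sub_eq_of_mem_fixSpan T h3 hv
    exact ⟨u, hu⟩

end Groth.Agent.H7.SigLin
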