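import Groth.Agent.Lib.Helper7.SigLin2

/-! σ-linear algebra: surjectivity of `1 - T` (helper7). -/

set_option autoImplicit false

namespace Groth.Agent.H7.SigLin

open Module

variable {k : Type*} [Field k] {σ : k →+* k} {V : Type*} [AddCommGroup V] [Module k V]

/-- on a vector killed by an iterate, `1 - T` has the geometric series as inverse -/
lemma geom_sub (T : V →ₛₗ[σ] V) {N : ℕ} {v : V} (hv : (⇑T)^[N] v = 0) :
    (∑ i ∈ Finset.range N, (⇑T)^[i] v) - T (∑ i ∈ Finset.range N, (⇑T)^[i] v) = v := by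
  rw [map_sum, ← Finset.sum_sub_distrib]
  have : ∀ i ∈ Finset.range N, (⇑T)^[i] v - T ((⇑T)^[i] v) = (⇑T)^[i] v - (⇑T)^[i + 1] v :=
    fun i _ => by rw [Function.iterate_succ_apply']
  rw [Finset.sum_congr rfl this, Finset.sum_range_sub', hv, sub_zero]
  rfl

variable [FiniteDimensional k V]

/-- **S19234** -/
theorem sub_surjective_and_fixed_basis (hσ : Function.Surjective σ) (T : V →ₛₗ[σ] V)
    (h2 : H2 σ) (h3 : H3 σ) :
    Function.Surjective (fun v : V => v - T v) ∧
    ∃ b : Module.Basis (Fin (Module.finrank k (ss T))) k (ss T), ∀ i, T (b i : V) = (b i : V) := by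
  obtain ⟨⟨⟨b, hb⟩, hsurj⟩⟩ : Nonempty ((∃ b : Module.Basis (Fin (Module.finrank k (ss T))) k (ss T),
      ∀ i, restr T (ss T) (fun _ hw => map_mem_ss T hw) (b i) = b i) ∧
      Function.Surjective (fun v : ss T => v - restr T (ss T) (fun _ hw => map_mem_ss T hw) v)) :=
    ⟨exists_fixed_basis _ (span_range_restr_ss T) h2 h3⟩
  refine ⟨?_, b, fun i => ?_⟩
  · obtain ⟨⟨W, hW, ⟨N, hN⟩, hcompl⟩, -⟩ := fitting hσ T
    intro v
    have hv : v ∈ W ⊔ ss T := by rw [hcompl.sup_eq_top]; trivial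
    obtain ⟨a, ha, c, hc, rfl⟩ := Submodule.mem_sup.1 hv
    obtain ⟨u, hu⟩ := hsurj ⟨c, hc⟩
    have hu' : (u : V) - T u = c := by
      have := congrArg Subtype.val hu
      exact this
    have hS := geom_sub T (hN a ha)
    refine ⟨(∑ i ∈ Finset.range N, (⇑T)^[i] a) + u, ?_⟩
    change (∑ i ∈ Finset.range N, (⇑T)^[i] a) + (u : V) -
      T ((∑ i ∈ Finset.range N, (⇑T)^[i] a) + (u : V)) = a + c
    rw [map_add, ← hu']
    nth_rewrite 3 [← hS]
    abel
  · have := congrArg Subtype.val (hb i)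
    exact this

end Groth.Agent.H7.SigLin
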