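import Groth.Agent.Lib.Helper7.SigLin4

/-! Fixed points of σ-semilinear maps over a local ring with maximal ideal `(p)`: finite generation
over the fixed subring (helper7). -/

set_option autoImplicit false

universe u v

namespace Groth.Agent.H7.SigLin

open IsLocalRing

section field

variable {k : Type*} [Field k] {σ : k →+* k} {V : Type*} [AddCommGroup V] [Module k V]
  [FiniteDimensional k V]

lemma mem_ss_of_fixed (T : V →ₛₗ[σ] V) {v : V} (hv : T v = v) : v ∈ ss T := by
  rw [ss, Submodule.mem_iInf]
  intro n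
  have : (⇑T)^[n] v = v := Function.iterate_fixed hv n
  rw [← this]
  exact iterate_mem_imSpan T n v

/-- fixed vectors are combinations of a fixed family with fixed coefficients -/
theorem exists_fixed_coeffs (hσ : Function.Surjective σ) (T : V →ₛₗ[σ] V) (h2 : H2 σ) (h3 : H3 σ) :
    ∃ (r : ℕ) (b : Fin r → V), (∀ i, T (b i) = b i) ∧
      ∀ v, T v = v → ∃ c : Fin r → k, (∀ i, σ (c i) = c i) ∧ v = ∑ i, c i • b i := by
  obtain ⟨-, b, hb⟩ := sub_surjective_and_fixed_basis hσ T h2 h3
  refine ⟨_, fun i => (b i : V), hb, fun v hv => ?_⟩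
  have hli : LinearIndependent k (fun i => ((b i : ss T) : V)) :=
    b.linearIndependent.map' (ss T).subtype (Submodule.ker_subtype _)
  set w : ss T := ⟨v, mem_ss_of_fixed T hv⟩ with hw
  have hsum : v = ∑ i, b.repr w i • (b i : V) := by
    have h1 := congrArg Subtype.val (b.sum_repr w)
    rw [Submodule.coe_sum] at h1
    exact h1.symm
  refine ⟨fun i => b.repr w i, fun i => ?_, hsum⟩
  have hT : T v = ∑ i, σ (b.repr w i) • (b i : V) := by
    conv_lhs => rw [hsum]
    rw [map_sum]
    refine Finset.sum_congr rfl (fun i _ => ?_)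
    rw [T.map_smulₛₗ, hb]
  have h0 : ∑ i, (σ (b.repr w i) - b.repr w i) • (b i : V) = 0 := by
    simp only [sub_smul]
    rw [Finset.sum_sub_distrib, ← hT, ← hsum, hv, sub_self]
  have := Fintype.linearIndependent_iff.1 hli _ h0 i
  exact sub_eq_zero.1 this

end field

section fixed

variable {R : Type u} [CommRing R] (σ : R →+* R)

/-- the subring of σ-fixed elements -/
def fixRing : Subring R := RingHom.eqLocus σ (RingHom.id R)

variable {σ}

lemma mem_fixRing {r : R} : r ∈ fixRing σ ↔ σ r = r := Iff.rfl

variable {M : Type v} [AddCommGroup M] [Module R M]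

/-- the fixed points of a σ-semilinear map as a module over the fixed ring -/
def fixedSub (T : M →ₛₗ[σ] M) : Submodule (fixRing σ) M where
  carrier := {m | T m = m}
  add_mem' := by
    intro a b ha hb
    simp only [Set.mem_setOf_eq] at ha hb ⊢
    rw [map_add, ha, hb]
  zero_mem' := map_zero T
  smul_mem' := by
    intro a m hm
    simp only [Set.mem_setOf_eq] at hm ⊢
    change T ((a : R) • m) = (a : R) • m
    rw [T.map_smulₛₗ, hm, mem_fixRing.1 a.2]

lemma mem_fixedSub {T : M →ₛₗ[σ] M} {m : M} : m ∈ fixedSub T ↔ T m = m := Iff.rfl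

end fixed

section loc

variable {R : Type u} [CommRing R] [IsLocalRing R] {σ : R →+* R}
  {σbar : ResidueField R →+* ResidueField R} {p : ℕ}

lemma residue_p_eq_zero (hmax : maximalIdeal R = Ideal.span {(p : R)}) : residue R (p : R) = 0 := by
  rw [residue_eq_zero_iff, hmax]
  exact Ideal.mem_span_singleton_self _

theorem fixedSub_fg_aux (hmax : maximalIdeal R = Ideal.span {(p : R)}) (n₀ : ℕ)
    (hn₀ : (p : R) ^ n₀ = 0)
    (hσbar : ∀ r : R, σbar (residue R r) = residue R (σ r))
    (hsurj : Function.Surjective σbar) (h2 : H2 σbar) (h3 : H3 σbar)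
    (hlift : ∀ x : ResidueField R, σbar x = x → ∃ r : R, σ r = r ∧ residue R r = x) (n : ℕ) :
    ∀ (M : Type v) [AddCommGroup M] [Module R M] [Module.Finite R M] (T : M →ₛₗ[σ] M),
      (∀ m : M, (p : R) ^ n • m = 0) → (fixedSub T).FG := by
  have hp0 := residue_p_eq_zero hmax
  induction n with
  | zero =>
    intro M _ _ _ T h
    have h0 : ∀ m : M, m = 0 := fun m => by simpa using h m
    have : fixedSub T = ⊥ := by
      ext m
      simp [h0 m]
    rw [this]
    exact Submodule.fg_bot
  | succ n ih =>
    intro M _ _ _ T h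
    let N : Submodule R M := LinearMap.range (LinearMap.lsmul R M (p : R))
    have hTN : ∀ x : N, T x ∈ N := by
      rintro ⟨x, z, rfl⟩
      refine ⟨T z, ?_⟩
      change (p : R) • T z = T ((p : R) • z)
      rw [T.map_smulₛₗ, map_natCast]
    let TN : N →ₛₗ[σ] N := (T.domRestrict N).codRestrict N hTN
    have hN : ∀ x : N, (p : R) ^ n • x = 0 := by
      rintro ⟨x, z, rfl⟩
      apply Subtype.ext
      change (p : R) ^ n • (p : R) • z = 0
      rw [smul_smul, ← pow_succ]
      exact h z
    have ihN := ih N TN hN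
    let f : M →ₗ[fixRing σ] Vq R M :=
      (Submodule.mkQ (maximalIdeal R • ⊤ : Submodule R M)).restrictScalars (fixRing σ)
    have hf : ∀ m, f m = Submodule.Quotient.mk m := fun m => rfl
    apply Submodule.fg_of_fg_map_of_fg_inf_ker f
    · obtain ⟨r, b, hb, hrepr⟩ := exists_fixed_coeffs hsurj (Tbar hσbar T) h2 h3
      have : (fixedSub T).map f = Submodule.span (fixRing σ) (Set.range b) := by
        apply le_antisymm
        · rintro _ ⟨m, hm, rfl⟩
          obtain ⟨c, hc, hv⟩ := hrepr (f m) (by
            rw [hf, Tbar_mk, mem_fixedSub.1 hm])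
          rw [hv]
          refine Submodule.sum_mem _ (fun i _ => ?_)
          obtain ⟨a, ha, hac⟩ := hlift (c i) (hc i)
          rw [← hac]
          have : residue R a • b i = (⟨a, ha⟩ : fixRing σ) • b i := by
            change residue R a • b i = a • b i
            obtain ⟨m', hm'⟩ := Submodule.Quotient.mk_surjective _ (b i)
            rw [← hm']
            rfl
          rw [this]
          exact Submodule.smul_mem _ _ (Submodule.subset_span ⟨i, rfl⟩)
        · rw [Submodule.span_le]
          rintro _ ⟨i, rfl⟩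
          obtain ⟨m, hm⟩ := Submodule.Quotient.mk_surjective _ (b i)
          have h0 : (Submodule.Quotient.mk (T m - m) : Vq R M) = 0 := by
            rw [Submodule.Quotient.mk_sub, ← Tbar_mk hσbar T, hm, hb i, sub_self]
          obtain ⟨y, hy⟩ := exists_eq_smul_of_mk_eq_zero hmax h0
          obtain ⟨z, hz⟩ := sub_surjective_of_local hmax n₀ hn₀ hσbar hsurj h2 h3 T y
          have hz' : z - T z = y := hz
          refine ⟨m + (p : R) • z, ?_, ?_⟩
          · change T (m + (p : R) • z) = m + (p : R) • z
            rw [map_add, T.map_smulₛₗ, map_natCast]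
            have : T m = m + (p : R) • y := by rw [← hy]; abel
            rw [this, ← hz', smul_sub]
            abel
          · rw [hf, Submodule.Quotient.mk_add, hm, ← residue_smul_mk, hp0, zero_smul, add_zero]
      rw [this]
      exact Submodule.fg_span (Set.finite_range b)
    · have : fixedSub T ⊓ LinearMap.ker f =
          (fixedSub TN).map (N.subtype.restrictScalars (fixRing σ)) := by
        ext m
        constructor
        · rintro ⟨hm, hk⟩
          obtain ⟨z, hz⟩ := exists_eq_smul_of_mk_eq_zero hmax (LinearMap.mem_ker.1 hk)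
          refine ⟨⟨m, z, hz.symm⟩, ?_, rfl⟩
          exact Subtype.ext hm
        · rintro ⟨x, hx, rfl⟩
          refine ⟨congrArg Subtype.val hx, ?_⟩
          obtain ⟨x, z, rfl⟩ := x
          change (Submodule.Quotient.mk ((p : R) • z) : Vq R M) = 0
          rw [← residue_smul_mk, hp0, zero_smul]
      rw [this]
      exact ihN.map _

/-- **S19236** -/
theorem fixed_fg {M : Type v} [AddCommGroup M] [Module R M] [Module.Finite R M]
    (hmax : maximalIdeal R = Ideal.span {(p : R)}) (n : ℕ)
    (hn : (p : R) ^ n = 0)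
    (hσbar : ∀ r : R, σbar (residue R r) = residue R (σ r))
    (hsurj : Function.Surjective σbar) (h2 : H2 σbar) (h3 : H3 σbar)
    (hlift : ∀ x : ResidueField R, σbar x = x → ∃ r : R, σ r = r ∧ residue R r = x)
    (T : M →ₛₗ[σ] M) :
    ∃ s : Finset M, (∀ m ∈ s, T m = m) ∧
      ∀ m : M, T m = m → ∃ c : M → R, (∀ x ∈ s, σ (c x) = c x) ∧ m = ∑ x ∈ s, c x • x := by
  have hfg := fixedSub_fg_aux hmax n hn hσbar hsurj h2 h3 hlift n M T (fun m => by
    rw [hn, zero_smul])
  obtain ⟨s, hs⟩ := hfg
  refine ⟨s, fun m hm => ?_, fun m hm => ?_⟩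
  · have : m ∈ fixedSub T := by rw [← hs]; exact Submodule.subset_span hm
    exact this
  · have hm' : m ∈ Submodule.span (fixRing σ) (s : Set M) := by rw [hs]; exact hm
    obtain ⟨g, -, hg⟩ := Submodule.mem_span_finset.1 hm'
    refine ⟨fun x => (g x : R), fun x _ => mem_fixRing.1 (g x).2, ?_⟩
    rw [← hg]
    rfl

end loc

end Groth.Agent.H7.SigLin
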