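import Groth.Agent.Lib.Helper7.SigLin3

/-! The solvability hypotheses for the Frobenius of an algebraically closed field and its inverse
(helper7). -/

set_option autoImplicit false

namespace Groth.Agent.H7.SigLin

open Polynomial

section root

variable {k : Type*} [Field k] [IsAlgClosed k]

/-- a polynomial with two nonzero coefficients has a nonzero root -/
theorem exists_root_ne_zero (P : k[X]) {i j : ℕ} (hij : i ≠ j) (hi : P.coeff i ≠ 0)
    (hj : P.coeff j ≠ 0) : ∃ x : k, x ≠ 0 ∧ P.IsRoot x := by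
  classical
  by_contra hcon
  push Not at hcon
  have hP0 : P ≠ 0 := by
    rintro rfl
    exact hi (coeff_zero i)
  have hroots : ∀ r ∈ P.roots, r = 0 := by
    intro r hr
    by_contra hr0
    exact hcon r hr0 ((mem_roots hP0).1 hr)
  have hsplit := (IsAlgClosed.splits P).eq_prod_roots
  have hrep : P.roots = Multiset.replicate (Multiset.card P.roots) 0 :=
    Multiset.eq_replicate.2 ⟨rfl, hroots⟩
  rw [hrep, Multiset.map_replicate, Multiset.prod_replicate, C_0, sub_zero] at hsplit
  have hci : P.coeff i = if i = Multiset.card P.roots then P.leadingCoeff else 0 := by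
    conv_lhs => rw [hsplit]
    rw [coeff_C_mul_X_pow]
  have hcj : P.coeff j = if j = Multiset.card P.roots then P.leadingCoeff else 0 := by
    conv_lhs => rw [hsplit]
    rw [coeff_C_mul_X_pow]
  by_cases h1 : i = Multiset.card P.roots
  · by_cases h2 : j = Multiset.card P.roots
    · exact hij (h1.trans h2.symm)
    · rw [if_neg h2] at hcj; exact hj hcj
  · rw [if_neg h1] at hci; exact hi hci

/-- coefficients of a sum of monomials with distinct exponents -/
lemma coeff_sum_monomials {n : ℕ} (c : Fin n → k) (e : Fin n → ℕ) (he : Function.Injective e)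
    (i₀ : Fin n) : (∑ i, C (c i) * X ^ e i).coeff (e i₀) = c i₀ := by
  rw [finset_sum_coeff, Finset.sum_eq_single i₀]
  · rw [coeff_C_mul_X_pow, if_pos rfl]
  · intro i _ hi
    rw [coeff_C_mul_X_pow, if_neg (fun h => hi (he h).symm)]
  · intro h; exact absurd (Finset.mem_univ _) h

lemma coeff_sum_monomials_of_ne {n : ℕ} (c : Fin n → k) (e : Fin n → ℕ) {m : ℕ}
    (hm : ∀ i, e i ≠ m) : (∑ i, C (c i) * X ^ e i).coeff m = 0 := by
  rw [finset_sum_coeff]
  refine Finset.sum_eq_zero (fun i _ => ?_)
  rw [coeff_C_mul_X_pow, if_neg (fun h => hm i h.symm)]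

end root

section frob

variable (p : ℕ) [Fact p.Prime] (k : Type*) [Field k] [CharP k p] [IsAlgClosed k]

lemma H3_frobenius : H3 (frobenius k p) := by
  intro c
  have hdeg : (X ^ p - X + C c : k[X]).degree ≠ 0 := by
    have hp : 1 < p := (Fact.out : p.Prime).one_lt
    have h1 : (X ^ p - X + C c : k[X]).degree = p := by
      rw [sub_add, degree_sub_eq_left_of_degree_lt, degree_X_pow]
      rw [degree_X_pow]
      refine lt_of_le_of_lt (degree_sub_le _ _) ?_
      rw [max_lt_iff]
      exact ⟨by rw [degree_X]; exact_mod_cast hp, lt_of_le_of_lt degree_C_le (by exact_mod_cast hp.le.trans_lt' zero_lt_one)⟩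
    rw [h1]
    exact_mod_cast (Fact.out : p.Prime).ne_zero
  obtain ⟨y, hy⟩ := IsAlgClosed.exists_root _ hdeg
  refine ⟨y, ?_⟩
  rw [IsRoot, eval_add, eval_sub, eval_pow, eval_X, eval_C] at hy
  rw [frobenius_def]
  exact hy

lemma H3_frobInv : H3 ((frobeniusEquiv k p).symm.toRingHom) := by
  intro c
  obtain ⟨z, hz⟩ := H3_frobenius p k (-c)
  rw [frobenius_def] at hz
  refine ⟨z ^ p, ?_⟩
  change (frobeniusEquiv k p).symm (z ^ p) - z ^ p + c = 0
  rw [frobeniusEquiv_symm_pow]
  linear_combination -hz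

lemma pow_injective_nat : Function.Injective (fun i : ℕ => p ^ i) :=
  Nat.pow_right_injective (Fact.out : p.Prime).two_le

lemma H2_frobenius : H2 (frobenius k p) := by
  intro n b hb
  have hp : 1 < p := (Fact.out : p.Prime).one_lt
  obtain ⟨i₀, hi₀⟩ : ∃ i, b (Fin.rev i) ≠ 0 := by
    by_contra h
    push Not at h
    apply hb
    ext j
    have := h (Fin.rev j)
    rwa [Fin.rev_rev] at this
  set c : Fin (n + 1) → k := fun i => (b (Fin.rev i)) ^ p ^ i.val with hc
  set e : Fin (n + 1) → ℕ := fun i => p ^ (i.val + 1) with he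
  have hinj : Function.Injective e := fun i j hij => by
    have := pow_injective_nat p hij
    exact Fin.ext (by omega)
  have hne1 : ∀ i, e i ≠ 1 := fun i h => by
    have : p ^ (i.val + 1) = p ^ 0 := by rw [pow_zero]; exact h
    have := pow_injective_nat p this
    omega
  set P : k[X] := (∑ i, C (c i) * X ^ e i) - X with hP
  have h1 : P.coeff 1 ≠ 0 := by
    rw [hP, coeff_sub, coeff_sum_monomials_of_ne c e hne1, coeff_X_one]
    simp
  have h2 : P.coeff (e i₀) ≠ 0 := by
    rw [hP, coeff_sub, coeff_sum_monomials c e hinj, coeff_X, if_neg (hne1 i₀).symm, sub_zero]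
    exact pow_ne_zero _ hi₀
  obtain ⟨x, hx0, hx⟩ := exists_root_ne_zero P (hne1 i₀).symm h1 h2
  refine ⟨x, hx0, ?_⟩
  rw [IsRoot, hP, eval_sub, eval_finset_sum, eval_X, sub_eq_zero] at hx
  refine hx.symm.trans ?_
  refine Finset.sum_congr rfl (fun i _ => ?_)
  rw [eval_mul, eval_C, eval_pow, eval_X, iterate_frobenius, iterate_frobenius, mul_comm]

lemma H2_frobInv : H2 ((frobeniusEquiv k p).symm.toRingHom) := by
  intro n b hb
  have hp : 1 < p := (Fact.out : p.Prime).one_lt
  obtain ⟨j₀, hj₀⟩ : ∃ j, b j ≠ 0 := by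
    by_contra h
    push Not at h
    exact hb (funext h)
  set d : Fin (n + 1) → k := fun j => (b j) ^ p ^ (j.val + 1) with hd
  set e : Fin (n + 1) → ℕ := fun j => p ^ j.val with he
  have hinj : Function.Injective e := fun i j hij => Fin.ext (pow_injective_nat p hij)
  have hne : ∀ j, e j ≠ p ^ (n + 1) := fun j h => by
    have := pow_injective_nat p h
    have := j.2
    omega
  set P : k[X] := X ^ p ^ (n + 1) - ∑ j, C (d j) * X ^ e j with hP
  have h1 : P.coeff (p ^ (n + 1)) ≠ 0 := by
    rw [hP, coeff_sub, coeff_sum_monomials_of_ne d e hne, coeff_X_pow, if_pos rfl, sub_zero]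
    exact one_ne_zero
  have h2 : P.coeff (e j₀) ≠ 0 := by
    rw [hP, coeff_sub, coeff_sum_monomials d e hinj, coeff_X_pow, if_neg (hne j₀), zero_sub,
      neg_ne_zero]
    exact pow_ne_zero _ hj₀
  obtain ⟨x, hx0, hx⟩ := exists_root_ne_zero P (hne j₀).symm h1 h2
  refine ⟨x, hx0, ?_⟩
  rw [IsRoot, hP, eval_sub, eval_finset_sum, eval_pow, eval_X, sub_eq_zero] at hx
  -- apply the injective map `y ↦ y ^ p ^ (n + 1)`
  apply (iterateFrobenius k p (n + 1)).injective
  change x ^ p ^ (n + 1) = (∑ i : Fin (n + 1), _) ^ p ^ (n + 1)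
  rw [sum_pow_char_pow, hx, ← Equiv.sum_comp Fin.revPerm]
  refine Finset.sum_congr rfl (fun i _ => ?_)
  have hψ : ∀ (m : ℕ) (y : k), ((⇑((frobeniusEquiv k p).symm.toRingHom))^[m] y) ^ p ^ m = y :=
    fun m y => iterate_frobeniusEquiv_symm_pow_p_pow k p y m
  rw [Fin.revPerm_apply, eval_mul, eval_C, eval_pow, eval_X, mul_pow, mul_comm]
  have hi : i.val ≤ n := Nat.lt_succ_iff.1 i.2
  have hrev : (Fin.rev i).val = n - i.val := by rw [Fin.val_rev]; omega
  have hgen : ∀ (m a N : ℕ) (y : k), N = m + a →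
      ((⇑((frobeniusEquiv k p).symm.toRingHom))^[m] y) ^ p ^ N = y ^ p ^ a := by
    intro m a N y hN
    subst hN
    rw [pow_add, pow_mul, hψ]
  congr 1
  · rw [hgen (i.val + 1) (n - i.val) (n + 1) x (by omega), he]
    simp only
    rw [hrev]
  · rw [hgen i.val (n - i.val + 1) (n + 1) _ (by omega), hd]
    simp only
    rw [hrev]

lemma frobInv_surjective : Function.Surjective ((frobeniusEquiv k p).symm.toRingHom) :=
  (frobeniusEquiv k p).symm.surjective

lemma frobenius_surjective' : Function.Surjective (frobenius k p) :=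
  (frobeniusEquiv k p).surjective

end frob

end Groth.Agent.H7.SigLin
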