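import Groth.Agent.Lib.Helper7.SigLinFrob

/-! `H2`, `H3` for `x ↦ x ^ q` over an algebraically closed field (helper7). -/

set_option autoImplicit false

namespace Groth.Agent.H7.SigLin

open Polynomial

section pow

variable {k : Type*} [Field k] [IsAlgClosed k] {σ : k →+* k} {q : ℕ}

lemma iterate_of_pow (hσ : ∀ x, σ x = x ^ q) (i : ℕ) (x : k) : (⇑σ)^[i] x = x ^ q ^ i := by
  induction i generalizing x with
  | zero => simp
  | succ i ih => rw [Function.iterate_succ_apply, ih, hσ, ← pow_mul, pow_succ']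

lemma H3_of_pow (hq : 2 ≤ q) (hσ : ∀ x, σ x = x ^ q) : H3 σ := by
  intro c
  have hdeg : (X ^ q - X + C c : k[X]).degree ≠ 0 := by
    have h1 : (X ^ q - X + C c : k[X]).degree = q := by
      rw [sub_add, degree_sub_eq_left_of_degree_lt, degree_X_pow]
      rw [degree_X_pow]
      refine lt_of_le_of_lt (degree_sub_le _ _) ?_
      rw [max_lt_iff]
      exact ⟨by rw [degree_X]; exact_mod_cast hq, lt_of_le_of_lt degree_C_le (by exact_mod_cast (by omega : 0 < q))⟩
    rw [h1]
    exact_mod_cast (by omega : q ≠ 0)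
  obtain ⟨y, hy⟩ := IsAlgClosed.exists_root _ hdeg
  refine ⟨y, ?_⟩
  rw [IsRoot, eval_add, eval_sub, eval_pow, eval_X, eval_C] at hy
  rw [hσ]
  exact hy

lemma H2_of_pow (hq : 2 ≤ q) (hσ : ∀ x, σ x = x ^ q) : H2 σ := by
  intro n b hb
  have hinjq : Function.Injective (fun i : ℕ => q ^ i) := Nat.pow_right_injective hq
  obtain ⟨i₀, hi₀⟩ : ∃ i, b (Fin.rev i) ≠ 0 := by
    by_contra h
    push Not at h
    apply hb
    ext j
    have := h (Fin.rev j)
    rwa [Fin.rev_rev] at this
  set c : Fin (n + 1) → k := fun i => (b (Fin.rev i)) ^ q ^ i.val with hc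
  set e : Fin (n + 1) → ℕ := fun i => q ^ (i.val + 1) with he
  have hinj : Function.Injective e := fun i j hij => by
    have := hinjq hij
    exact Fin.ext (by omega)
  have hne1 : ∀ i, e i ≠ 1 := fun i h => by
    have : q ^ (i.val + 1) = q ^ 0 := by rw [pow_zero]; exact h
    have := hinjq this
    omega
  set P : k[X] := (∑ i, C (c i) * X ^ e i) - X with hP
  have h1 : P.coeff 1 ≠ 0 := by
    rw [hP, coeff_sub, coeff_sum_monomials_of_ne c e hne1, coeff_X_one]
    simp
  have h2 : P.coeff (e i₀) ≠ 0 := by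
    rw [hP, coeff_sub, coeff_sum_monomials c e hinj, coeff_X, if_neg (hne1 i₀).symm, sub_zero]
    exact pow_ne_zero _ hi₀
  obtain ⟨x, hx0, hx⟩ := exists_root_ne_zero P (hne1 i₀).symm h1 h2
  refine ⟨x, hx0, ?_⟩
  rw [IsRoot, hP, eval_sub, eval_finset_sum, eval_X, sub_eq_zero] at hx
  refine hx.symm.trans ?_
  refine Finset.sum_congr rfl (fun i _ => ?_)
  rw [eval_mul, eval_C, eval_pow, eval_X, iterate_of_pow hσ, iterate_of_pow hσ, mul_comm]

end pow

end Groth.Agent.H7.SigLin
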