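import Groth.Agent.Lib.Helper7.SigLin4
import Groth.Agent.Lib.Helper7.SigLinFrob
import Groth.Prelude.Def_WittGrp

/-! Truncated Witt vectors of a perfect field as a local ring with maximal ideal `(p)` (helper7). -/

set_option autoImplicit false

namespace Groth.Agent.H7.SigLin

open IsLocalRing

section transport

variable {K k : Type*} [Field K] [Field k] (e : K ≃+* k) {σ' : K →+* K} {φ : k →+* k}

lemma iterate_transport (h : ∀ x, e (σ' x) = φ (e x)) (i : ℕ) (x : K) :
    e ((⇑σ')^[i] x) = (⇑φ)^[i] (e x) := by
  induction i generalizing x with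
  | zero => rfl
  | succ i ih => rw [Function.iterate_succ_apply, Function.iterate_succ_apply, ih, h]

lemma H2_transport (h : ∀ x, e (σ' x) = φ (e x)) (h2 : H2 φ) : H2 σ' := by
  intro n b hb
  obtain ⟨x, hx0, hx⟩ := h2 n (fun i => e (b i)) (by
    intro h0
    apply hb
    ext i
    have := congrFun h0 i
    simpa using this)
  refine ⟨e.symm x, by simpa using hx0, ?_⟩
  apply e.injective
  rw [map_sum, e.apply_symm_apply]
  refine hx.trans (Finset.sum_congr rfl (fun i _ => ?_))
  rw [map_mul, iterate_transport e h, iterate_transport e h, e.apply_symm_apply]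

lemma H3_transport (h : ∀ x, e (σ' x) = φ (e x)) (h3 : H3 φ) : H3 σ' := by
  intro c
  obtain ⟨y, hy⟩ := h3 (e c)
  refine ⟨e.symm y, ?_⟩
  apply e.injective
  rw [map_add, map_sub, h, e.apply_symm_apply, map_zero, hy]

lemma surjective_transport (h : ∀ x, e (σ' x) = φ (e x)) (hφ : Function.Surjective φ) :
    Function.Surjective σ' := by
  intro c
  obtain ⟨y, hy⟩ := hφ (e c)
  refine ⟨e.symm y, ?_⟩
  apply e.injective
  rw [h, e.apply_symm_apply, hy]

end transport

section witt

variable (p : ℕ) [Fact p.Prime] (k : Type*) [Field k] [CharP k p] [PerfectRing k p] (n : ℕ)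

local notation "W" => TruncatedWittVector p (n + 1) k

/-- the zeroth coefficient as a ring hom -/
noncomputable def coeff0 : W →+* k where
  toFun x := x.coeff 0
  map_one' := by
    rw [← map_one (WittVector.truncate (p := p) (R := k) (n + 1)), WittVector.coeff_truncate]
    exact WittVector.one_coeff_zero p k
  map_zero' := TruncatedWittVector.coeff_zero p (n + 1) k 0
  map_mul' x y := by
    obtain ⟨X, rfl⟩ := WittVector.truncate_surjective p (n + 1) k x
    obtain ⟨Y, rfl⟩ := WittVector.truncate_surjective p (n + 1) k y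
    rw [← map_mul, WittVector.coeff_truncate, WittVector.coeff_truncate, WittVector.coeff_truncate]
    exact WittVector.mul_coeff_zero X Y
  map_add' x y := by
    obtain ⟨X, rfl⟩ := WittVector.truncate_surjective p (n + 1) k x
    obtain ⟨Y, rfl⟩ := WittVector.truncate_surjective p (n + 1) k y
    rw [← map_add, WittVector.coeff_truncate, WittVector.coeff_truncate, WittVector.coeff_truncate]
    exact WittVector.add_coeff_zero X Y

@[simp] lemma coeff0_apply (x : W) : coeff0 p k n x = x.coeff 0 := rfl

lemma coeff0_surjective : Function.Surjective (coeff0 p k n) := by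
  intro c
  exact ⟨TruncatedWittVector.mk p (fun _ => c),
    TruncatedWittVector.coeff_mk (p := p) (fun _ : Fin (n + 1) => c) 0⟩

instance : Nontrivial W := (coeff0 p k n).domain_nontrivial

instance instLocalW : IsLocalRing W :=
  IsLocalRing.of_surjective' (WittVector.truncate (p := p) (R := k) (n + 1))
    (WittVector.truncate_surjective p (n + 1) k)

lemma natCast_eq_truncate : ((p : ℕ) : W) = WittVector.truncate (n + 1) ((p : ℕ) : WittVector p k) :=
  (map_natCast _ _).symm

lemma isUnit_iff (x : W) : IsUnit x ↔ x.coeff 0 ≠ 0 := by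
  constructor
  · intro hx
    exact (hx.map (coeff0 p k n)).ne_zero
  · intro hx
    obtain ⟨X, rfl⟩ := WittVector.truncate_surjective p (n + 1) k x
    rw [WittVector.coeff_truncate] at hx
    exact (WittVector.isUnit_of_coeff_zero_ne_zero X hx).map _

lemma mem_maximalIdeal_iff (x : W) : x ∈ maximalIdeal W ↔ x.coeff 0 = 0 := by
  rw [IsLocalRing.mem_maximalIdeal, mem_nonunits_iff, isUnit_iff, not_not]

lemma maximalIdeal_eq : maximalIdeal W = Ideal.span {((p : ℕ) : W)} := by
  ext x
  rw [mem_maximalIdeal_iff]
  constructor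
  · intro hx
    obtain ⟨X, rfl⟩ := WittVector.truncate_surjective p (n + 1) k x
    rw [WittVector.coeff_truncate] at hx
    have hX := (WittVector.mem_span_p_iff_coeff_zero_eq_zero X).2 hx
    rw [Ideal.mem_span_singleton'] at hX ⊢
    obtain ⟨a, ha⟩ := hX
    exact ⟨WittVector.truncate (n + 1) a, by rw [natCast_eq_truncate, ← map_mul, ha]⟩
  · intro hx
    rw [Ideal.mem_span_singleton'] at hx
    obtain ⟨a, rfl⟩ := hx
    rw [← coeff0_apply, map_mul, coeff0_apply, coeff0_apply, natCast_eq_truncate,
      WittVector.coeff_truncate]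
    have : ((p : ℕ) : WittVector p k).coeff ((0 : Fin (n + 1)) : ℕ) = 0 :=
      WittVector.coeff_p_zero p k
    rw [this, mul_zero]

lemma p_pow_eq_zero : ((p : ℕ) : W) ^ (n + 1) = 0 := by
  rw [natCast_eq_truncate, ← map_pow]
  apply TruncatedWittVector.ext
  intro i
  rw [WittVector.coeff_truncate, TruncatedWittVector.coeff_zero]
  exact WittVector.coeff_p_pow_eq_zero p k (by have := i.2; omega)

lemma ker_coeff0 : RingHom.ker (coeff0 p k n) = maximalIdeal W := by
  ext x
  rw [RingHom.mem_ker, mem_maximalIdeal_iff, coeff0_apply]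

/-- the residue field of `W_{n+1}(k)` is `k` -/
noncomputable def resEquiv : ResidueField W ≃+* k :=
  (Ideal.quotEquivOfEq (ker_coeff0 p k n).symm).trans
    (RingHom.quotientKerEquivOfSurjective (coeff0_surjective p k n))

lemma resEquiv_residue (x : W) : resEquiv p k n (residue W x) = x.coeff 0 := rfl

/-- the endomorphism of the residue field induced by an endomorphism `φ` of `k` -/
noncomputable def sigmaBar (φ : k →+* k) : ResidueField W →+* ResidueField W :=
  (resEquiv p k n).symm.toRingHom.comp (φ.comp (resEquiv p k n).toRingHom)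

lemma resEquiv_sigmaBar (φ : k →+* k) (x : ResidueField W) :
    resEquiv p k n (sigmaBar p k n φ x) = φ (resEquiv p k n x) := by
  change resEquiv p k n ((resEquiv p k n).symm _) = _
  rw [RingEquiv.apply_symm_apply]
  rfl

lemma sigmaBar_residue (φ : k →+* k) (x : W) :
    sigmaBar p k n φ (residue W x) = residue W (WittGrp.truncMap p (n + 1) φ x) := by
  apply (resEquiv p k n).injective
  rw [resEquiv_sigmaBar, resEquiv_residue, resEquiv_residue, WittGrp.coeff_truncMap]

theorem sub_surjective_witt (φ : k →+* k) (hφ : Function.Surjective φ) (h2 : H2 φ) (h3 : H3 φ)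
    {M : Type*} [AddCommGroup M] [Module W M] [Module.Finite W M]
    (T : M →ₛₗ[WittGrp.truncMap p (n + 1) φ] M) : Function.Surjective (fun m : M => m - T m) :=
  sub_surjective_of_local (maximalIdeal_eq p k n) (n + 1) (p_pow_eq_zero p k n)
    (sigmaBar_residue p k n φ)
    (surjective_transport (resEquiv p k n) (resEquiv_sigmaBar p k n φ) hφ)
    (H2_transport (resEquiv p k n) (resEquiv_sigmaBar p k n φ) h2)
    (H3_transport (resEquiv p k n) (resEquiv_sigmaBar p k n φ) h3) T

end witt

end Groth.Agent.H7.SigLin
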