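import Groth.Agent.Lib.Helper7.SigLin5
import Groth.Agent.Lib.Helper7.SigLinWitt

/-! Finiteness of fixed points for truncated Witt vectors (helper7). -/

set_option autoImplicit false

namespace Groth.Agent.H7.SigLin

open IsLocalRing Polynomial

section frobfix

variable (p : ℕ) [Fact p.Prime] (k : Type*) [Field k] [CharP k p] [PerfectRing k p]

lemma finite_frobenius_fixed : {c : k | frobenius k p c = c}.Finite := by
  classical
  have hne : (X ^ p - X : k[X]) ≠ 0 :=
    FiniteField.X_pow_card_sub_X_ne_zero k (Fact.out : p.Prime).one_lt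
  refine Set.Finite.subset (X ^ p - X : k[X]).roots.toFinset.finite_toSet ?_
  intro c hc
  have hc' : c ^ p = c := hc
  rw [Finset.mem_coe, Multiset.mem_toFinset, mem_roots hne, IsRoot, eval_sub, eval_pow, eval_X,
    hc', sub_self]

lemma finite_frobInv_fixed : {c : k | (frobeniusEquiv k p).symm.toRingHom c = c}.Finite := by
  refine Set.Finite.subset (finite_frobenius_fixed p k) ?_
  intro c hc
  have hc' : (frobeniusEquiv k p).symm c = c := hc
  change frobenius k p c = c
  have := congrArg (frobeniusEquiv k p) hc'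
  rw [RingEquiv.apply_symm_apply] at this
  rw [← frobeniusEquiv_apply]
  exact this.symm

end frobfix

section witt

variable (p : ℕ) [Fact p.Prime] (k : Type*) [Field k] [CharP k p] [PerfectRing k p] (n : ℕ)

local notation "W" => TruncatedWittVector p (n + 1) k

lemma finite_fixed_ring (φ : k →+* k) (hF : {c : k | φ c = c}.Finite) :
    {r : W | WittGrp.truncMap p (n + 1) φ r = r}.Finite := by
  have hpi : (Set.pi Set.univ (fun _ : Fin (n + 1) => {c : k | φ c = c})).Finite :=
    Set.Finite.pi (fun _ => hF)
  refine Set.Finite.subset (hpi.image (TruncatedWittVector.mk p)) ?_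
  intro r hr
  refine ⟨fun i => r.coeff i, fun i _ => ?_, TruncatedWittVector.mk_coeff r⟩
  have := congrArg (TruncatedWittVector.coeff i) hr
  rw [WittGrp.coeff_truncMap] at this
  exact this

lemma hlift_witt (φ : k →+* k) (x : ResidueField W) (hx : sigmaBar p k n φ x = x) :
    ∃ r : W, WittGrp.truncMap p (n + 1) φ r = r ∧ residue W r = x := by
  have hc : φ (resEquiv p k n x) = resEquiv p k n x := by
    rw [← resEquiv_sigmaBar, hx]
  refine ⟨TruncatedWittVector.mk p (fun i => if i = 0 then resEquiv p k n x else 0), ?_, ?_⟩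
  · apply TruncatedWittVector.ext
    intro i
    rw [WittGrp.coeff_truncMap, TruncatedWittVector.coeff_mk]
    split_ifs
    · exact hc
    · exact map_zero φ
  · apply (resEquiv p k n).injective
    rw [resEquiv_residue, TruncatedWittVector.coeff_mk, if_pos rfl]

theorem fixed_finite_witt (φ : k →+* k) (hφ : Function.Surjective φ) (h2 : H2 φ) (h3 : H3 φ)
    (hF : {c : k | φ c = c}.Finite)
    {M : Type*} [AddCommGroup M] [Module W M] [Module.Finite W M]
    (T : M →ₛₗ[WittGrp.truncMap p (n + 1) φ] M) : {m : M | T m = m}.Finite := by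
  obtain ⟨s, -, hs⟩ := fixed_fg (maximalIdeal_eq p k n) (n + 1) (p_pow_eq_zero p k n)
    (sigmaBar_residue p k n φ)
    (surjective_transport (resEquiv p k n) (resEquiv_sigmaBar p k n φ) hφ)
    (H2_transport (resEquiv p k n) (resEquiv_sigmaBar p k n φ) h2)
    (H3_transport (resEquiv p k n) (resEquiv_sigmaBar p k n φ) h3)
    (hlift_witt p k n φ) T
  have hA := finite_fixed_ring p k n φ hF
  have hpi : (Set.pi Set.univ (fun _ : s => {r : W | WittGrp.truncMap p (n + 1) φ r = r})).Finite :=
    Set.Finite.pi (fun _ => hA)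
  refine Set.Finite.subset (hpi.image (fun c : s → W => ∑ x : s, c x • (x : M))) ?_
  intro m hm
  obtain ⟨c, hc, hmc⟩ := hs m hm
  refine ⟨fun x => c x, fun x _ => hc x x.2, ?_⟩
  rw [hmc]
  exact Finset.sum_coe_sort s (fun x => c x • x)

end witt

end Groth.Agent.H7.SigLin
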