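import Mathlib
import Groth.Prelude.Def_W4c2azumayainvolQEt
import Groth.Agent.Lib.Helper7.HermBlock
import Groth.Agent.Lib.Helper7.SkewAlg
import Groth.Agent.Lib.Helper7.RInvT1

/-! Block form of skew-hermitian matrices over a local ring on whose residue field the involution
is trivial. -/

set_option autoImplicit false

namespace Groth.Agent.H7.SkewLoc

open Matrix

universe u v

section Alg

variable {L : Type v} [CommRing L] (lam : L ≃+* L)
variable {ι : Type} [Fintype ι] [DecidableEq ι]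

/-- split off a (non-normalised) hyperbolic plane. -/
theorem alg_step' (hlam : Function.Involutive lam) (W : Matrix ι ι L) (hW : IsUnit W)
    (hskew : (-1 : L) • Herm.ct lam W = W) (i₀ j₀ : ι) (hij : i₀ ≠ j₀) (h01 : W i₀ j₀ = 1)
    (d : L) (hd : d * (1 + W i₀ i₀ * W j₀ j₀) = 1) :
    ∃ D' : Matrix {x : ι // x ≠ i₀ ∧ x ≠ j₀} {x : ι // x ≠ i₀ ∧ x ≠ j₀} L,
      IsUnit D' ∧ (-1 : L) • Herm.ct lam D' = D' ∧
      Herm.Cong lam (W.submatrix (Herm.pivotEquiv i₀ j₀ hij) (Herm.pivotEquiv i₀ j₀ hij))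
        (fromBlocks !![W i₀ i₀, 1; -1, W j₀ j₀] 0 0 D') := by
  set e₁ := Herm.pivotEquiv i₀ j₀ hij with he₁
  set W₁ := W.submatrix e₁ e₁ with hW₁
  have hW₁u : IsUnit W₁ := by
    rw [isUnit_iff_isUnit_det, hW₁, det_submatrix_equiv_self]
    exact (isUnit_iff_isUnit_det _).mp hW
  have hskew₁ : (-1 : L) • Herm.ct lam W₁ = W₁ := by
    conv_rhs => rw [hW₁, ← hskew]
    rfl
  have h10 : W j₀ i₀ = -1 := by
    have := Herm.skew_apply lam W hskew i₀ j₀
    rw [h01, map_one] at this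
    rw [← neg_neg (W j₀ i₀), ← this]
  have hH : W₁.toBlocks₁₁ = !![W i₀ i₀, 1; -1, W j₀ j₀] := by
    ext i j
    fin_cases i <;> fin_cases j
    · rfl
    · exact h01
    · exact h10
    · rfl
  have hdec : W₁ = fromBlocks !![W i₀ i₀, 1; -1, W j₀ j₀] W₁.toBlocks₁₂ W₁.toBlocks₂₁
      W₁.toBlocks₂₂ := by
    rw [← hH, fromBlocks_toBlocks]
  have hHH' : !![W i₀ i₀, 1; -1, W j₀ j₀] *
      !![d * W j₀ j₀, -d; d, d * W i₀ i₀] = 1 := by
    rw [Matrix.mul_fin_two, Matrix.one_fin_two]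
    have e11 : W i₀ i₀ * (d * W j₀ j₀) + 1 * d = 1 := by linear_combination hd
    have e12 : W i₀ i₀ * -d + 1 * (d * W i₀ i₀) = 0 := by ring
    have e21 : -1 * (d * W j₀ j₀) + W j₀ j₀ * d = 0 := by ring
    have e22 : -1 * -d + W j₀ j₀ * (d * W i₀ i₀) = 1 := by linear_combination hd
    rw [e11, e12, e21, e22]
  have hH'H : !![d * W j₀ j₀, -d; d, d * W i₀ i₀] *
      !![W i₀ i₀, 1; -1, W j₀ j₀] = 1 := by
    rw [Matrix.mul_fin_two, Matrix.one_fin_two]
    have e11 : d * W j₀ j₀ * W i₀ i₀ + -d * -1 = 1 := by linear_combination hd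
    have e12 : d * W j₀ j₀ * 1 + -d * W j₀ j₀ = 0 := by ring
    have e21 : d * W i₀ i₀ + d * W i₀ i₀ * -1 = 0 := by ring
    have e22 : d * 1 + d * W i₀ i₀ * W j₀ j₀ = 1 := by linear_combination hd
    rw [e11, e12, e21, e22]
  have hc1 := Herm.elimB lam (-1 : L) (by ring) _ _ hHH' hH'H W₁.toBlocks₁₂ W₁.toBlocks₂₁
    W₁.toBlocks₂₂ (by rw [← hdec]; exact hskew₁)
  rw [← hdec] at hc1
  refine ⟨_, ?_, ?_, hc1⟩
  · exact Herm.isUnit_of_isUnit_block₂ _ _ (hc1.isUnit lam hW₁u)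
  · exact Herm.herm_of_herm_block₂ lam (-1 : L) _ _ (hc1.herm lam hlam (-1 : L) hskew₁)

end Alg

section Loc

variable {A : Type v} [CommRing A] [IsLocalRing A] (lam : A ≃+* A)

/-- a `2 × 2` block congruent to `[[0,1],[-1,0]]` modulo the maximal ideal. -/
def Nice (H : Matrix (Fin 2) (Fin 2) A) : Prop :=
  H 0 0 ∈ IsLocalRing.maximalIdeal A ∧ H 0 1 - 1 ∈ IsLocalRing.maximalIdeal A ∧
    H 1 0 + 1 ∈ IsLocalRing.maximalIdeal A ∧ H 1 1 ∈ IsLocalRing.maximalIdeal A

/-- the statement proved by induction on the size. -/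
def P (N : ℕ) : Prop :=
  ∀ (ι : Type) [Fintype ι] [DecidableEq ι], Fintype.card ι = N → ∀ W : Matrix ι ι A, IsUnit W →
    (-1 : A) • Herm.ct lam W = W →
    ∃ (κ : Type) (_ : Fintype κ) (_ : DecidableEq κ) (e : ι ≃ Fin 2 × κ)
      (H : κ → Matrix (Fin 2) (Fin 2) A), (∀ k, Nice (H k)) ∧
        Herm.Cong lam W ((blockDiagonal H).submatrix e e)

variable (hlam : Function.Involutive lam)
  (hid : ∀ a : A, lam a - a ∈ IsLocalRing.maximalIdeal A) (h2 : IsUnit (2 : A))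

include hid h2 in
theorem diag_mem {ι : Type} [Fintype ι] [DecidableEq ι] (W : Matrix ι ι A)
    (hskew : (-1 : A) • Herm.ct lam W = W) (i : ι) : W i i ∈ IsLocalRing.maximalIdeal A := by
  have h1 := Herm.skew_apply lam W hskew i i
  have h3 := hid (W i i)
  rw [h1] at h3
  have h4 : (2 : A) * W i i ∈ IsLocalRing.maximalIdeal A := by
    have e : (2 : A) * W i i = -(-W i i - W i i) := by ring
    rw [e]; exact neg_mem h3
  rcases (IsLocalRing.maximalIdeal.isMaximal A).isPrime.mem_or_mem h4 with h | h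
  · exact absurd h2 ((IsLocalRing.mem_maximalIdeal _).mp h)
  · exact h

theorem fromBlocks_submatrix_sumCongr {L : Type*} [CommRing L] {α κ : Type*}
    (H : Matrix (Fin 2) (Fin 2) L) (X : Matrix κ κ L) (e' : α ≃ κ) :
    (Matrix.fromBlocks H 0 0 X).submatrix (Equiv.sumCongr (Equiv.refl (Fin 2)) e')
      (Equiv.sumCongr (Equiv.refl (Fin 2)) e') = Matrix.fromBlocks H 0 0 (X.submatrix e' e') := by
  ext i j
  rcases i with i | i <;> rcases j with j | j <;> rfl

include hlam hid h2 in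
theorem step (N : ℕ) (IH : ∀ M < N, P lam M) : P lam N := by
  intro ι _ _ hι W hW hskew
  by_cases hempty : IsEmpty ι
  · refine ⟨PEmpty, inferInstance, inferInstance, Equiv.equivOfIsEmpty _ _, fun k => k.elim,
      fun k => k.elim, ⟨1, isUnit_one, ?_⟩⟩
    ext i
    exact isEmptyElim i
  rw [not_isEmpty_iff] at hempty
  obtain ⟨i₀⟩ := hempty
  -- a pivot
  have hpiv : ∃ j₀, IsUnit (W i₀ j₀) := by
    by_contra hcon
    push Not at hcon
    obtain ⟨V, hV⟩ := hW.exists_right_inv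
    have h1 : (W * V) i₀ i₀ = 1 := by rw [hV, Matrix.one_apply_eq]
    rw [Matrix.mul_apply] at h1
    have h3 : (1 : A) ∈ IsLocalRing.maximalIdeal A := by
      rw [← h1]
      exact Ideal.sum_mem _ fun j _ => Ideal.mul_mem_right _ _
        ((IsLocalRing.mem_maximalIdeal _).mpr (hcon j))
    exact (IsLocalRing.mem_maximalIdeal _).mp h3 isUnit_one
  obtain ⟨j₀, hj₀⟩ := hpiv
  have hij : i₀ ≠ j₀ := by
    intro h
    have := diag_mem lam hid h2 W hskew i₀
    rw [← h] at hj₀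
    exact (IsLocalRing.mem_maximalIdeal _).mp this hj₀
  obtain ⟨b', hb'⟩ := hj₀.exists_right_inv
  obtain ⟨W', hc, hW'⟩ := Herm.scale_pivot lam W i₀ j₀ hij b' hb'
  have hW'u : IsUnit W' := hc.isUnit lam hW
  have hW's : (-1 : A) • Herm.ct lam W' = W' := hc.herm lam hlam _ hskew
  have hα := diag_mem lam hid h2 W' hW's i₀
  have hδ := diag_mem lam hid h2 W' hW's j₀
  have hdet : IsUnit (1 + W' i₀ i₀ * W' j₀ j₀) := by
    have h1 : -(W' i₀ i₀ * W' j₀ j₀) ∈ IsLocalRing.maximalIdeal A :=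
      neg_mem (Ideal.mul_mem_right _ _ hα)
    have := IsLocalRing.isUnit_one_sub_self_of_mem_nonunits _ h1
    rwa [sub_neg_eq_add] at this
  obtain ⟨d, hd⟩ := hdet.exists_left_inv
  obtain ⟨D', hD'u, hD'skew, hcD⟩ := alg_step' lam hlam W' hW'u hW's i₀ j₀ hij hW' d hd
  have hcard := Herm.card_pivot i₀ j₀ hij
  have hlt : Fintype.card {x : ι // x ≠ i₀ ∧ x ≠ j₀} < N := by omega
  obtain ⟨κ', _, _, e', H', hH', hc'⟩ := IH _ hlt {x : ι // x ≠ i₀ ∧ x ≠ j₀} rfl D' hD'u hD'skew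
  refine ⟨Unit ⊕ κ', inferInstance, inferInstance,
    (Herm.pivotEquiv i₀ j₀ hij).symm.trans
      ((Equiv.sumCongr (Equiv.refl (Fin 2)) e').trans (Herm.bdEquiv κ')),
    Sum.elim (fun _ : Unit => !![W' i₀ i₀, 1; -1, W' j₀ j₀]) H', ?_, ?_⟩
  · rintro (k | k)
    · refine ⟨hα, ?_, ?_, hδ⟩
      · show (1 : A) - 1 ∈ _
        rw [sub_self]; exact Ideal.zero_mem _
      · show (-1 : A) + 1 ∈ _
        rw [neg_add_cancel]; exact Ideal.zero_mem _
    · exact hH' k
  · have c2 := hcD.trans lam (Herm.Cong.block₂ lam !![W' i₀ i₀, 1; -1, W' j₀ j₀] hc')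
    have c3 : Matrix.fromBlocks !![W' i₀ i₀, 1; -1, W' j₀ j₀] 0 0
        ((blockDiagonal H').submatrix e' e') =
        ((blockDiagonal (Sum.elim (fun _ : Unit => !![W' i₀ i₀, 1; -1, W' j₀ j₀]) H')).submatrix
          (Herm.bdEquiv κ') (Herm.bdEquiv κ')).submatrix
          (Equiv.sumCongr (Equiv.refl (Fin 2)) e') (Equiv.sumCongr (Equiv.refl (Fin 2)) e') := by
      rw [Herm.blockDiagonal_bdEquiv, fromBlocks_submatrix_sumCongr]
    rw [c3] at c2
    have c4 := c2.submatrix lam (Herm.pivotEquiv i₀ j₀ hij).symm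
    rw [Matrix.submatrix_submatrix, Matrix.submatrix_submatrix, Matrix.submatrix_submatrix] at c4
    simp only [Equiv.self_comp_symm, Matrix.submatrix_id_id] at c4
    exact hc.trans lam c4

include hlam hid h2 in
theorem main (N : ℕ) : P lam N := by
  induction N using Nat.strong_induction_on with
  | _ N ih => exact step lam hlam hid h2 N ih

end Loc

section Final

/-- the standard pairing `i ↦ (i % 2, i / 2)`. -/
def e₀ (n m : ℕ) (hn : n = 2 * m) : Fin n ≃ Fin 2 × Fin m where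
  toFun i := (⟨i.val % 2, Nat.mod_lt _ two_pos⟩, ⟨i.val / 2, by have := i.isLt; omega⟩)
  invFun p := ⟨2 * p.2.val + p.1.val, by have := p.1.isLt; have := p.2.isLt; omega⟩
  left_inv i := by
    apply Fin.ext
    show 2 * (i.val / 2) + i.val % 2 = i.val
    omega
  right_inv p := by
    obtain ⟨⟨r, hr⟩, ⟨k, hk⟩⟩ := p
    apply Prod.ext
    · apply Fin.ext
      show (2 * k + r) % 2 = r
      omega
    · apply Fin.ext
      show (2 * k + r) / 2 = k
      omega

theorem e₀_fst (n m : ℕ) (hn : n = 2 * m) (i : Fin n) : ((e₀ n m hn i).1 : ℕ) = i.val % 2 := rfl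

theorem e₀_snd (n m : ℕ) (hn : n = 2 * m) (i : Fin n) : ((e₀ n m hn i).2 : ℕ) = i.val / 2 := rfl

variable (B : Type u) (A : Type v) [CommRing B] [CommRing A]
    [Algebra B A] (lam : A ≃+* A) (hlam : Function.Involutive lam) (hB : RInv.IsFixedRing B A lam)
    [IsLocalRing B]

include hlam hB in
/-- S15584 -/
theorem result' (n : ℕ) (hid : ∀ a : A, lam a - a ∈ Ring.jacobson A) (h2 : IsUnit (2 : A))
    (h : Matrix (Fin n) (Fin n) A) (hh : IsUnit h) (herm : -(h.map lam).transpose = h) :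
    Even n ∧ ∃ v : Matrix (Fin n) (Fin n) A, IsUnit v ∧
      ∀ i j : Fin n,
        (i.val / 2 ≠ j.val / 2 → ((v.map lam).transpose * h * v) i j = 0) ∧
        (i.val / 2 = j.val / 2 → (Even i.val ↔ Even j.val) →
          ((v.map lam).transpose * h * v) i j ∈ Ring.jacobson A) ∧
        (i.val / 2 = j.val / 2 → Even i.val → ¬ Even j.val →
          ((v.map lam).transpose * h * v) i j - 1 ∈ Ring.jacobson A) ∧
        (i.val / 2 = j.val / 2 → ¬ Even i.val → Even j.val →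
          ((v.map lam).transpose * h * v) i j + 1 ∈ Ring.jacobson A) := by
  haveI : IsLocalRing A := (RInvT1.isLocalRing_and_not_isQuadEtale B A lam hlam hB hid).1
  have hJ : Ring.jacobson A = IsLocalRing.maximalIdeal A :=
    IsLocalRing.ringJacobson_eq_maximalIdeal A
  simp only [hJ] at hid ⊢
  have hskew : (-1 : A) • Herm.ct lam h = h := by rw [neg_one_smul]; exact herm
  obtain ⟨κ, _, _, e, H, hH, hc⟩ := main lam hlam hid h2 n (Fin n) (Fintype.card_fin n) h hh hskew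
  have hcard : n = 2 * Fintype.card κ := by
    have := Fintype.card_congr e
    simpa using this
  refine ⟨⟨Fintype.card κ, by omega⟩, ?_⟩
  let eκ : κ ≃ Fin (Fintype.card κ) := Fintype.equivFin κ
  let e₁ : Fin n ≃ Fin 2 × κ :=
    (e₀ n (Fintype.card κ) hcard).trans (Equiv.prodCongr (Equiv.refl _) eκ.symm)
  have c2 := hc.trans lam (Herm.Cong.submatrix_self lam _ (e₁.trans e.symm))
  rw [Matrix.submatrix_submatrix] at c2
  have hcomp : (e : Fin n → Fin 2 × κ) ∘ (e₁.trans e.symm : Fin n ≃ Fin n) = e₁ := by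
    funext i
    simp
  rw [hcomp] at c2
  obtain ⟨v, hv, hvM⟩ := c2
  refine ⟨v, hv, ?_⟩
  have hvM' : (v.map lam).transpose * h * v = (blockDiagonal H).submatrix e₁ e₁ := hvM
  rw [hvM']
  intro i j
  have h1 : ∀ i : Fin n, ((e₁ i).1 : ℕ) = i.val % 2 := fun i => rfl
  have h2' : ∀ i j : Fin n, (e₁ i).2 = (e₁ j).2 ↔ i.val / 2 = j.val / 2 := by
    intro i j
    show eκ.symm _ = eκ.symm _ ↔ _
    rw [eκ.symm.apply_eq_iff_eq, Fin.ext_iff]
  have hentry : ∀ i j : Fin n, i.val / 2 = j.val / 2 →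
      (blockDiagonal H).submatrix e₁ e₁ i j = H (e₁ i).2 (e₁ i).1 (e₁ j).1 := by
    intro i j hij
    rw [Matrix.submatrix_apply, blockDiagonal_apply, if_pos ((h2' i j).mpr hij)]
  have hfin : ∀ (x : Fin 2) (r : ℕ), (x : ℕ) = r → r = 0 → x = 0 := by
    intro x r hx hr; apply Fin.ext; rw [hx, hr]; rfl
  have hfin1 : ∀ (x : Fin 2) (r : ℕ), (x : ℕ) = r → r = 1 → x = 1 := by
    intro x r hx hr; apply Fin.ext; rw [hx, hr]; rfl
  refine ⟨?_, ?_, ?_, ?_⟩
  · intro hij
    rw [Matrix.submatrix_apply, blockDiagonal_apply, if_neg (fun hh => hij ((h2' i j).mp hh))]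
  · intro hij hev
    rw [hentry i j hij]
    rcases Nat.even_or_odd i.val with hi | hi
    · have hj := hev.mp hi
      rw [hfin _ _ (h1 i) (Nat.even_iff.mp hi), hfin _ _ (h1 j) (Nat.even_iff.mp hj)]
      exact (hH _).1
    · have hj : Odd j.val := by
        rw [← Nat.not_even_iff_odd] at hi ⊢
        exact fun hje => hi (hev.mpr hje)
      rw [hfin1 _ _ (h1 i) (Nat.odd_iff.mp hi), hfin1 _ _ (h1 j) (Nat.odd_iff.mp hj)]
      exact (hH _).2.2.2
  · intro hij hi hj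
    rw [hentry i j hij]
    rw [Nat.not_even_iff_odd] at hj
    rw [hfin _ _ (h1 i) (Nat.even_iff.mp hi), hfin1 _ _ (h1 j) (Nat.odd_iff.mp hj)]
    exact (hH _).2.1
  · intro hij hi hj
    rw [hentry i j hij]
    rw [Nat.not_even_iff_odd] at hi
    rw [hfin1 _ _ (h1 i) (Nat.odd_iff.mp hi), hfin _ _ (h1 j) (Nat.even_iff.mp hj)]
    exact (hH _).2.2.1

end Final

end Groth.Agent.H7.SkewLoc
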