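import Mathlib

universe u

open CategoryTheory Limits Opposite

namespace Groth.Agent.H7.Sky

lemma epi_piMap {ι : Type u} {X Y : ι → AddCommGrpCat.{u}} (f : ∀ i, X i ⟶ Y i)
    (hf : ∀ i, Epi (f i)) : Epi (Limits.Pi.map f) := by
  have h : Epi (Discrete.natTrans (F := Discrete.functor X) (G := Discrete.functor Y)
      (fun i => f i.as)) := by
    apply (config := {allowSynthFailures := true}) NatTrans.epi_of_epi_app
    intro i
    exact hf i.as
  have : Epi (lim.map (Discrete.natTrans (F := Discrete.functor X) (G := Discrete.functor Y)
      (fun i => f i.as))) := inferInstance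
  exact this

theorem main {C : Type u} [SmallCategory C] {J : GrothendieckTopology C}
    (p : GrothendieckTopology.Point.{u} J) :
    PreservesFiniteColimits (p.skyscraperSheafFunctor (A := AddCommGrpCat.{u})) := by
  haveI : PreservesLimits (p.skyscraperSheafFunctor (A := AddCommGrpCat.{u})) :=
    p.skyscraperSheafAdjunction.rightAdjoint_preservesLimits
  haveI : (p.skyscraperSheafFunctor (A := AddCommGrpCat.{u})).Additive :=
    Functor.additive_of_preserves_binary_products _
  apply ((Functor.preservesFiniteColimits_tfae
    (p.skyscraperSheafFunctor (A := AddCommGrpCat.{u}))).out 0 3).mp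
  intro S hS
  have hlex : PreservesFiniteLimits (p.skyscraperSheafFunctor (A := AddCommGrpCat.{u})) :=
    inferInstance
  have h30 := (Functor.preservesFiniteLimits_iff_forall_exact_map_and_mono
    (p.skyscraperSheafFunctor (A := AddCommGrpCat.{u}))).mp hlex
  refine ⟨(h30 S hS).1, ?_⟩
  haveI := hS.epi_g
  apply (config := {allowSynthFailures := true}) Sheaf.Hom.epi_of_presheaf_epi
  apply (config := {allowSynthFailures := true}) NatTrans.epi_of_epi_app
  intro X
  show Epi (Limits.Pi.map (fun (_ : p.fiber.obj X.unop) => S.g))
  exact epi_piMap _ (fun _ => inferInstance)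

end Groth.Agent.H7.Sky
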