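import Mathlib

/-!
# Smoothness of a hypersurface slice of a smooth algebra (ring level), for S9725
-/

set_option autoImplicit false
universe u

open TensorProduct

namespace Groth.Agent.H7.SmSlice

/-- a functional detecting an element of a projective module which is nonzero in a "fibre". -/
theorem exists_functional_notMem {B : Type*} [CommRing B] (q : Ideal B) {P N : Type*}
    [AddCommGroup P] [Module B P] [Module.Projective B P] [AddCommGroup N] [Module B N]
    (hqN : ∀ b ∈ q, ∀ n : N, b • n = 0) (ψ : P →ₗ[B] N) (ω : P) (hω : ψ ω ≠ 0) :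
    ∃ φ : P →ₗ[B] B, φ ω ∉ q := by
  obtain ⟨s, hs⟩ := Module.projective_def'.mp (inferInstance : Module.Projective B P)
  by_contra hcon
  push_neg at hcon
  apply hω
  have h1 : ω = Finsupp.linearCombination B id (s ω) := by
    have := LinearMap.congr_fun hs ω
    exact this.symm
  rw [h1, Finsupp.linearCombination_apply, Finsupp.sum, map_sum]
  refine Finset.sum_eq_zero (fun i _ => ?_)
  rw [map_smul]
  refine hqN _ ?_ _
  exact hcon ((Finsupp.lapply i).comp s)


/-- semilinear form of `exists_functional_notMem`. -/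
theorem exists_functional_notMem' {B : Type*} [CommRing B] (q : Ideal B) {P : Type*}
    [AddCommGroup P] [Module B P] [Module.Projective B P] {C N : Type*} [CommRing C]
    [AddCommGroup N] [Module C N] (σ : B →+* C)
    (hqN : ∀ b ∈ q, ∀ n : N, σ b • n = 0) (ψ : P →+ N)
    (hψ : ∀ (b : B) (p : P), ψ (b • p) = σ b • ψ p) (ω : P) (hω : ψ ω ≠ 0) :
    ∃ φ : P →ₗ[B] B, φ ω ∉ q := by
  obtain ⟨s, hs⟩ := Module.projective_def'.mp (inferInstance : Module.Projective B P)
  by_contra hcon
  push_neg at hcon
  apply hω
  have h1 : ω = Finsupp.linearCombination B id (s ω) := by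
    have := LinearMap.congr_fun hs ω
    exact this.symm
  rw [h1, Finsupp.linearCombination_apply, Finsupp.sum, map_sum]
  refine Finset.sum_eq_zero (fun i _ => ?_)
  rw [hψ]
  refine hqN _ ?_ _
  exact hcon ((Finsupp.lapply i).comp s)

section local_

open IsLocalRing

variable {R A : Type u} [CommRing R] [CommRing A] [Algebra R A] [IsLocalRing A]

/-- elements of `J A ⊆ 𝔪_A` have vanishing differential in the fibre `κ ⊗ Ω[A/R]`. -/
theorem tmul_D_eq_zero_of_mem_map (J : Ideal R)
    (hJ : Ideal.map (algebraMap R A) J ≤ maximalIdeal A) (z : A)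
    (hz : z ∈ Ideal.map (algebraMap R A) J) :
    (1 : ResidueField A) ⊗ₜ[A] KaehlerDifferential.D R A z = 0 := by
  refine Submodule.span_induction
    (p := fun z _ => (1 : ResidueField A) ⊗ₜ[A] KaehlerDifferential.D R A z = 0) ?_ ?_ ?_ ?_ hz
  · rintro _ ⟨r, _, rfl⟩
    rw [Derivation.map_algebraMap, tmul_zero]
  · rw [map_zero, tmul_zero]
  · intro x y _ _ hx hy
    rw [map_add, tmul_add, hx, hy, add_zero]
  · intro c x hx hx0
    rw [smul_eq_mul, Derivation.leibniz, tmul_add, tmul_smul, hx0, smul_zero, zero_add,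
      ← TensorProduct.smul_tmul]
    have h1 : x • (1 : ResidueField A) = 0 := by
      rw [Algebra.smul_def, mul_one, ResidueField.algebraMap_eq, residue_eq_zero_iff]
      exact hJ hx
    rw [h1, zero_tmul]

/-- a functional on `Ω[B/R₀]` detecting an element whose differential is nonzero in the fibre of
`Ω[A/R]`, `A` a local `B`-algebra. -/
theorem exists_functional_of_tmul_ne_zero {R₀ B : Type u} [CommRing R₀] [CommRing B]
    [Algebra R₀ B] [Algebra R₀ R] [Algebra B A] [Algebra R₀ A] [IsScalarTower R₀ B A]
    [IsScalarTower R₀ R A] [Module.Projective B Ω[B⁄R₀]] (q : Ideal B)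
    (hq : ∀ b ∈ q, algebraMap B A b ∈ maximalIdeal A) (a : B)
    (hd : (1 : ResidueField A) ⊗ₜ[A] KaehlerDifferential.D R A (algebraMap B A a) ≠ 0) :
    ∃ φ : Ω[B⁄R₀] →ₗ[B] B, φ (KaehlerDifferential.D R₀ B a) ∉ q := by
  haveI : SMulCommClass R B A := SMulCommClass.of_commMonoid R B A
  let ψ : Ω[B⁄R₀] →+ (ResidueField A) ⊗[A] Ω[A⁄R] :=
    ((TensorProduct.mk A (ResidueField A) Ω[A⁄R] 1).toAddMonoidHom).comp
      (KaehlerDifferential.map R₀ R B A).toAddMonoidHom
  refine exists_functional_notMem' q (algebraMap B A) ?_ ψ ?_ (KaehlerDifferential.D R₀ B a) ?_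
  · intro b hb n
    induction n using TensorProduct.induction_on with
    | zero => rw [smul_zero]
    | tmul k ω =>
      rw [TensorProduct.smul_tmul']
      have h1 : algebraMap B A b • k = 0 := by
        rw [Algebra.smul_def, ResidueField.algebraMap_eq,
          (residue_eq_zero_iff _).mpr (hq b hb), zero_mul]
      rw [h1, zero_tmul]
    | add x y hx hy => rw [smul_add, hx, hy, add_zero]
  · intro b p
    change (1 : ResidueField A) ⊗ₜ[A] (KaehlerDifferential.map R₀ R B A (b • p)) =
      algebraMap B A b • ((1 : ResidueField A) ⊗ₜ[A] (KaehlerDifferential.map R₀ R B A p))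
    rw [map_smul, ← TensorProduct.tmul_smul, algebraMap_smul]
  · change (1 : ResidueField A) ⊗ₜ[A]
      (KaehlerDifferential.map R₀ R B A (KaehlerDifferential.D R₀ B a)) ≠ 0
    rw [KaehlerDifferential.map_D]
    exact hd

end local_

section quot

variable {R B : Type u} [CommRing R] [CommRing B] [Algebra R B]

/-- the retraction `B → B/K²`, `b ↦ b - v φ(db) h`, attached to a functional `φ` on `Ω[B/R]` with
`v φ(dh) = 1`. -/
theorem formallySmooth_quotient_span_singleton [Algebra.FormallySmooth R B] (h : B)
    (φ : Ω[B⁄R] →ₗ[B] B) (v : B) (hv : v * φ (KaehlerDifferential.D R B h) = 1) :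
    Algebra.FormallySmooth R (B ⧸ Ideal.span {h}) := by
  let f : B →ₐ[R] B ⧸ Ideal.span {h} := Ideal.Quotient.mkₐ R (Ideal.span {h})
  have hfs : Function.Surjective f := Ideal.Quotient.mk_surjective
  have hK : RingHom.ker f.toRingHom = Ideal.span {h} := Ideal.mk_ker
  have hh2 : h * h ∈ RingHom.ker f.toRingHom ^ 2 := by
    rw [hK, pow_two]
    exact Ideal.mul_mem_mul (Ideal.mem_span_singleton_self h) (Ideal.mem_span_singleton_self h)
  let δ : B → B := fun b => v * φ (KaehlerDifferential.D R B b)
  have hδadd : ∀ b c, δ (b + c) = δ b + δ c := fun b c => by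
    simp only [δ, map_add, mul_add]
  have hδmul : ∀ b c, δ (b * c) = b * δ c + c * δ b := fun b c => by
    simp only [δ, Derivation.leibniz, map_add, map_smul, smul_eq_mul]
    ring
  have hδalg : ∀ r : R, δ (algebraMap R B r) = 0 := fun r => by
    simp only [δ, Derivation.map_algebraMap, map_zero, mul_zero]
  have hδh : δ h = 1 := hv
  let σ : B →ₐ[R] B ⧸ RingHom.ker f.toRingHom ^ 2 :=
    { toFun := fun b => Ideal.Quotient.mk _ (b - δ b * h)
      map_one' := by
        have : δ 1 = 0 := by
          have := hδalg 1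
          rwa [map_one] at this
        simp only [this, zero_mul, sub_zero, map_one]
      map_mul' := fun b c => by
        rw [← map_mul, Ideal.Quotient.eq]
        have e : b * c - δ (b * c) * h - (b - δ b * h) * (c - δ c * h) =
            -(δ b * δ c) * (h * h) := by
          rw [hδmul]; ring
        rw [e]
        exact Ideal.mul_mem_left _ _ hh2
      map_zero' := by
        have : δ 0 = 0 := by
          have := hδalg 0
          rwa [map_zero] at this
        simp only [this, zero_mul, sub_zero, map_zero]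
      map_add' := fun b c => by
        rw [← map_add, hδadd]
        congr 1
        ring
      commutes' := fun r => by
        simp only [hδalg, zero_mul, sub_zero]
        rfl }
  have hσ : ∀ b ∈ Ideal.span {h}, σ b = 0 := by
    intro b hb
    obtain ⟨c, rfl⟩ := Ideal.mem_span_singleton'.mp hb
    have hσh : σ h = 0 := by
      change Ideal.Quotient.mk _ (h - δ h * h) = 0
      rw [hδh, one_mul, sub_self, map_zero]
    rw [map_mul, hσh, mul_zero]
  let g : B ⧸ Ideal.span {h} →ₐ[R] B ⧸ RingHom.ker f.toRingHom ^ 2 :=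
    Ideal.Quotient.liftₐ (Ideal.span {h}) σ hσ
  refine Algebra.FormallySmooth.of_split f g ?_
  ext x
  obtain ⟨b, rfl⟩ := Ideal.Quotient.mk_surjective x
  have h1 : g (Ideal.Quotient.mk _ b) = σ b := Ideal.Quotient.liftₐ_apply _ _ _ _
  rw [AlgHom.comp_apply, h1]
  change f.kerSquareLift (Ideal.Quotient.mk _ (b - δ b * h)) = _
  rw [AlgHom.kerSquareLift_mk]
  change Ideal.Quotient.mk (Ideal.span {h}) (b - δ b * h) = Ideal.Quotient.mk _ b
  rw [Ideal.Quotient.eq]
  have : b - δ b * h - b = -(δ b) * h := by ring
  rw [this]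
  exact Ideal.mul_mem_left _ _ (Ideal.mem_span_singleton_self h)

end quot


section away

variable {R B : Type u} [CommRing R] [CommRing B] [Algebra R B]

/-- **slice of a smooth algebra**: if `φ(da)` divides `g`, then `B_g/(a)` is smooth over `R`. -/
theorem smooth_quotient_away [Algebra.Smooth R B] (a : B) (φ : Ω[B⁄R] →ₗ[B] B) (g g₂ : B)
    (hg : g = g₂ * φ (KaehlerDifferential.D R B a)) (B' : Type u) [CommRing B'] [Algebra B B']
    [Algebra R B'] [IsScalarTower R B B'] [IsLocalization.Away g B'] :
    Algebra.Smooth R (B' ⧸ Ideal.span {algebraMap B B' a}) := by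
  haveI : Algebra.FormallyEtale B B' := Algebra.FormallyEtale.of_isLocalization (Submonoid.powers g)
  haveI : Algebra.Smooth B B' := Algebra.Smooth.of_isLocalization_Away g
  haveI : Algebra.Smooth R B' := Algebra.Smooth.comp R B B'
  let φ' : Ω[B'⁄R] →ₗ[B'] B' :=
    (KaehlerDifferential.isBaseChange_of_formallyEtale R B B').lift ((Algebra.linearMap B B') ∘ₗ φ)
  have hφ' : φ' (KaehlerDifferential.D R B' (algebraMap B B' a)) =
      algebraMap B B' (φ (KaehlerDifferential.D R B a)) := by
    have h1 : KaehlerDifferential.D R B' (algebraMap B B' a) =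
        KaehlerDifferential.map R R B B' (KaehlerDifferential.D R B a) :=
      (KaehlerDifferential.map_D R R B B' a).symm
    rw [h1]
    exact IsBaseChange.lift_eq _ _ _
  have hu : IsUnit (algebraMap B B' (φ (KaehlerDifferential.D R B a))) := by
    have h1 : IsUnit (algebraMap B B' g) := IsLocalization.Away.algebraMap_isUnit g
    rw [hg, map_mul] at h1
    exact isUnit_of_mul_isUnit_right h1
  obtain ⟨v, hv⟩ := hu.exists_left_inv
  haveI : Algebra.FormallySmooth R (B' ⧸ Ideal.span {algebraMap B B' a}) :=
    formallySmooth_quotient_span_singleton (algebraMap B B' a) φ' v (by rw [hφ']; exact hv)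
  haveI : Algebra.FinitePresentation R (B' ⧸ Ideal.span {algebraMap B B' a}) :=
    Algebra.FinitePresentation.quotient ⟨{algebraMap B B' a}, by simp⟩
  exact ⟨inferInstance, inferInstance⟩

end away

end Groth.Agent.H7.SmSlice
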