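import Groth.Agent.Lib.Helper7.SmSliceA
import Groth.Agent.Lib.Helper7.RelCartF
import Groth.Agent.Lib.Helper7.Reg1
import Groth.Agent.Lib.Helper8.CIImm.Gen
import Groth.Agent.Lib.Helper8.CIImm.Ring
import Mathlib

/-!
# Smooth effective Cartier slices of a smooth morphism (S9725)
-/

set_option autoImplicit false
universe u

open CategoryTheory Limits AlgebraicGeometry TensorProduct

namespace Groth.Agent.H7.SmSlice

variable {X S : Scheme.{u}}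

open Groth.Agent.LD.QC Groth.Agent.H1.FibInj Groth.Agent.H1.SchFlat Groth.Agent.H7.RelCart in
set_option maxHeartbeats 1600000 in
/-- chart form of EGA IV 11.3.8 (one element, nonzerodivisor part). -/
theorem exists_nzd_chart (f : X ⟶ S) {U₁ : X.Opens} {W : S.Opens} (hU₁ : IsAffineOpen U₁)
    (hW : IsAffineOpen W) (e₁ : U₁ ≤ f ⁻¹ᵁ W)
    (hfp : (f.appLE W U₁ e₁).hom.FinitePresentation) (hfl : (f.appLE W U₁ e₁).hom.Flat)
    (x : X) (hxU₁ : x ∈ U₁) (a : Γ(X, U₁))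
    (hreg : ∀ c : X.presheaf.stalk x,
      X.presheaf.germ U₁ x hxU₁ a * c ∈
        Ideal.map (f.stalkMap x).hom (IsLocalRing.maximalIdeal (S.presheaf.stalk (f x))) →
      c ∈ Ideal.map (f.stalkMap x).hom (IsLocalRing.maximalIdeal (S.presheaf.stalk (f x)))) :
    ∃ g : Γ(X, U₁), x ∈ X.basicOpen g ∧ ∀ y (hy : y ∈ X.basicOpen g),
      X.presheaf.germ U₁ y (X.basicOpen_le g hy) a ∈ nonZeroDivisors (X.presheaf.stalk y) := by
  obtain ⟨h, hga⟩ : ∃ h, X.presheaf.germ U₁ x hxU₁ a = h := ⟨_, rfl⟩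
  rw [hga] at hreg
  -- ring-level data
  letI algAB : Algebra Γ(S, W) Γ(X, U₁) := (f.appLE W U₁ e₁).hom.toAlgebra
  haveI fpAB : Algebra.FinitePresentation Γ(S, W) Γ(X, U₁) := hfp
  haveI flAB : Module.Flat Γ(S, W) Γ(X, U₁) := hfl
  obtain ⟨q, hq_def⟩ : ∃ q : Ideal Γ(X, U₁), q = (hU₁.primeIdealOf ⟨x, hxU₁⟩).asIdeal := ⟨_, rfl⟩
  haveI hqp : q.IsPrime := hq_def ▸ (hU₁.primeIdealOf ⟨x, hxU₁⟩).isPrime
  letI algBC : Algebra Γ(X, U₁) (X.presheaf.stalk x) :=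
    (X.presheaf.germ U₁ x hxU₁).hom.toAlgebra
  haveI locC : IsLocalization.AtPrime (X.presheaf.stalk x) q :=
    hq_def ▸ hU₁.isLocalization_stalk ⟨x, hxU₁⟩
  letI algAC : Algebra Γ(S, W) (X.presheaf.stalk x) :=
    ((X.presheaf.germ U₁ x hxU₁).hom.comp (f.appLE W U₁ e₁).hom).toAlgebra
  haveI towABC : IsScalarTower Γ(S, W) Γ(X, U₁) (X.presheaf.stalk x) :=
    IsScalarTower.of_algebraMap_eq fun _ => rfl
  -- `O_{X,x}` is flat over `Γ(S, W)`
  haveI flatAC : Module.Flat Γ(S, W) (X.presheaf.stalk x) := by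
    haveI : Module.Flat Γ(X, U₁) (X.presheaf.stalk x) := IsLocalization.flat _ q.primeCompl
    exact Module.Flat.trans Γ(S, W) Γ(X, U₁) (X.presheaf.stalk x)
  have hflatB : Module.Flat Γ(S, W) (LocalizedModule q.primeCompl Γ(X, U₁)) := by
    haveI : IsLocalizedModule q.primeCompl (Algebra.linearMap Γ(X, U₁) (X.presheaf.stalk x)) :=
      inferInstance
    let e := IsLocalizedModule.linearEquiv q.primeCompl
      (LocalizedModule.mkLinearMap q.primeCompl Γ(X, U₁))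
      (Algebra.linearMap Γ(X, U₁) (X.presheaf.stalk x))
    exact Module.Flat.of_linearEquiv (e.restrictScalars Γ(S, W))
  let u : Γ(X, U₁) →ₗ[Γ(X, U₁)] Γ(X, U₁) := LinearMap.mulLeft Γ(X, U₁) a
  -- the fibre condition
  have hmax := map_stalkMap_maximalIdeal f hU₁ hW e₁ x hxU₁
  rw [← hq_def] at hmax
  have hfib : ∀ b : Γ(X, U₁), (∃ σ ∈ q.primeCompl, σ • u b ∈
        (q.comap (algebraMap Γ(S, W) Γ(X, U₁))) • (⊤ : Submodule Γ(S, W) Γ(X, U₁))) →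
      ∃ τ ∈ q.primeCompl, τ • b ∈
        (q.comap (algebraMap Γ(S, W) Γ(X, U₁))) • (⊤ : Submodule Γ(S, W) Γ(X, U₁)) := by
    rintro b ⟨σ, hσ, hσb⟩
    have etop : ∀ (J : Ideal Γ(S, W)) (z : Γ(X, U₁)),
        z ∈ J • (⊤ : Submodule Γ(S, W) Γ(X, U₁)) ↔ z ∈ J.map (algebraMap Γ(S, W) Γ(X, U₁)) := by
      intro J z
      rw [← mem_map_smul_top_iff (A := Γ(S, W)) (B := Γ(X, U₁)) (F := Γ(X, U₁)) J z,
        smul_eq_mul, ← Ideal.one_eq_top, mul_one]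
    rw [etop] at hσb
    have h1 : algebraMap Γ(X, U₁) (X.presheaf.stalk x) (σ • u b) ∈
        Ideal.map (f.stalkMap x).hom (IsLocalRing.maximalIdeal (S.presheaf.stalk (f x))) := by
      rw [hmax]
      exact Ideal.mem_map_of_mem _ hσb
    have h2 : algebraMap Γ(X, U₁) (X.presheaf.stalk x) (σ • u b) =
        algebraMap Γ(X, U₁) (X.presheaf.stalk x) σ *
          (h * algebraMap Γ(X, U₁) (X.presheaf.stalk x) b) := by
      change algebraMap Γ(X, U₁) (X.presheaf.stalk x) (σ * (a * b)) = _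
      rw [map_mul, map_mul]
      congr 2
    rw [h2] at h1
    have hσu : IsUnit (algebraMap Γ(X, U₁) (X.presheaf.stalk x) σ) :=
      IsLocalization.map_units (X.presheaf.stalk x) (⟨σ, hσ⟩ : q.primeCompl)
    have h3 : h * algebraMap Γ(X, U₁) (X.presheaf.stalk x) b ∈
        Ideal.map (f.stalkMap x).hom (IsLocalRing.maximalIdeal (S.presheaf.stalk (f x))) := by
      obtain ⟨t, ht⟩ := hσu.exists_left_inv
      have := Ideal.mul_mem_left _ t h1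
      rwa [← mul_assoc, ht, one_mul] at this
    have h4 := hreg _ h3
    rw [hmax] at h4
    obtain ⟨⟨⟨i, hi⟩, τ⟩, hτ⟩ :=
      (IsLocalization.mem_map_algebraMap_iff q.primeCompl (X.presheaf.stalk x)).mp h4
    have h5 : algebraMap Γ(X, U₁) (X.presheaf.stalk x) (b * τ) =
        algebraMap Γ(X, U₁) (X.presheaf.stalk x) i := by
      rw [map_mul]; exact hτ
    obtain ⟨τ', hτ'⟩ := (IsLocalization.eq_iff_exists q.primeCompl (X.presheaf.stalk x)).mp h5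
    refine ⟨(τ' : Γ(X, U₁)) * (τ : Γ(X, U₁)), q.primeCompl.mul_mem τ'.2 τ.2, ?_⟩
    rw [etop]
    have h6 : ((τ' : Γ(X, U₁)) * (τ : Γ(X, U₁))) • b = (τ' : Γ(X, U₁)) * i := by
      rw [smul_eq_mul, ← hτ']; ring
    rw [h6]
    exact Ideal.mul_mem_left _ _ hi
  obtain ⟨hinj, hfl'⟩ := fibInj_at_prime q u hflatB hfib
  obtain ⟨g, hg, hnhd⟩ := exists_nhd_injective_flat (A := Γ(S, W)) (B := Γ(X, U₁)) u q hinj hfl'
  refine ⟨g, mem_basicOpen_of_notMem hU₁ x hxU₁ g (hq_def ▸ hg), fun y hy => ?_⟩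
  have hyU₁ : y ∈ U₁ := X.basicOpen_le g hy
  letI algBy : Algebra Γ(X, U₁) (X.presheaf.stalk y) :=
    (X.presheaf.germ U₁ y hyU₁).hom.toAlgebra
  haveI := hU₁.isLocalization_stalk ⟨y, hyU₁⟩
  have hgy : g ∉ (hU₁.primeIdealOf ⟨y, hyU₁⟩).asIdeal :=
    mem_primeCompl_of_mem_basicOpen hU₁ y hyU₁ g hy
  obtain ⟨hinj', -⟩ := hnhd (hU₁.primeIdealOf ⟨y, hyU₁⟩).asIdeal hgy
  exact algebraMap_mem_nonZeroDivisors_of_forall (hU₁.primeIdealOf ⟨y, hyU₁⟩).asIdeal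
    (X.presheaf.stalk y) a (fun b hb => hinj' b hb)

open Groth.Agent.H8.LCI in
/-- the fibre local ring of a smooth chart is a domain: `𝔪_s O_{X,x}` is prime. -/
theorem isPrime_map_stalkMap_maximalIdeal (f : X ⟶ S) {U₁ : X.Opens} {W : S.Opens}
    (hU₁ : IsAffineOpen U₁) (hW : IsAffineOpen W) (e₁ : U₁ ≤ f ⁻¹ᵁ W)
    (hsm : (f.appLE W U₁ e₁).hom.Smooth) (x : X) (hxU₁ : x ∈ U₁) :
    (Ideal.map (f.stalkMap x).hom
      (IsLocalRing.maximalIdeal (S.presheaf.stalk (f x)))).IsPrime := by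
  letI algAB : Algebra Γ(S, W) Γ(X, U₁) := (f.appLE W U₁ e₁).hom.toAlgebra
  haveI : Algebra.Smooth Γ(S, W) Γ(X, U₁) := hsm
  obtain ⟨q, hq_def⟩ : ∃ q : Ideal Γ(X, U₁), q = (hU₁.primeIdealOf ⟨x, hxU₁⟩).asIdeal := ⟨_, rfl⟩
  haveI hqp : q.IsPrime := hq_def ▸ (hU₁.primeIdealOf ⟨x, hxU₁⟩).isPrime
  obtain ⟨E⟩ := Groth.Agent.H8.CIImm.nonempty_fiberStalk_equiv_fibLoc f hU₁ hW e₁ x hxU₁ q hq_def
  haveI := Groth.Agent.H8.CIImm.isRegularLocalRing_fibLoc_of_smooth (A := Γ(S, W)) q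
  haveI : IsDomain (Localization.AtPrime q ⧸ pL (A := Γ(S, W)) q) :=
    Groth.Agent.H7.Reg.isDomain _
  let E' := (Groth.Agent.H1.FibreStalk.fiberStalkEquiv f x).trans E
  haveI : IsDomain (X.presheaf.stalk x ⧸ Ideal.map (f.stalkMap x).hom
      (IsLocalRing.maximalIdeal (S.presheaf.stalk (f x)))) := E'.toMulEquiv.isDomain _
  exact (Ideal.Quotient.isDomain_iff_prime _).mp this

open Groth.Agent.LD.QC Groth.Agent.H1.SchFlat Groth.Agent.H7.RelCart in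
set_option maxHeartbeats 1600000 in
/-- **smooth slice, chart form**: on a smooth affine chart `Γ(S, W) → Γ(X, U₁)`, a section `a`
whose differential is nonzero in the fibre of `Ω` at `x` cuts out, near `x`, a relative effective
Cartier divisor which is smooth over `S`. -/
theorem exists_smooth_slice_chart (f : X ⟶ S) {U₁ : X.Opens} {W : S.Opens}
    (hU₁ : IsAffineOpen U₁) (hW : IsAffineOpen W) (e₁ : U₁ ≤ f ⁻¹ᵁ W)
    (hsm : (f.appLE W U₁ e₁).hom.Smooth) (x : X) (hxU₁ : x ∈ U₁) (a : Γ(X, U₁))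
    (hd : letI := (f.stalkMap x).hom.toAlgebra
      (1 : IsLocalRing.ResidueField ↑(X.presheaf.stalk x)) ⊗ₜ[↑(X.presheaf.stalk x)]
          (KaehlerDifferential.D ↑(S.presheaf.stalk (f x)) ↑(X.presheaf.stalk x)
            (X.presheaf.germ U₁ x hxU₁ a)) ≠ 0) :
    ∃ (U : X.Opens) (hU : IsAffineOpen U) (_ : x ∈ U) (hle : U ≤ U₁),
      X.presheaf.map (homOfLE hle).op a ∈ nonZeroDivisors Γ(X, U) ∧
      Smooth (Spec.map (CommRingCat.ofHom (Ideal.Quotient.mk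
        (Ideal.span {(X.presheaf.map (homOfLE hle).op a : Γ(X, U))}))) ≫ hU.fromSpec ≫ f) := by
  letI algAB : Algebra Γ(S, W) Γ(X, U₁) := (f.appLE W U₁ e₁).hom.toAlgebra
  haveI smAB : Algebra.Smooth Γ(S, W) Γ(X, U₁) := hsm
  haveI fsAB : Algebra.FormallySmooth Γ(S, W) Γ(X, U₁) := smAB.formallySmooth
  haveI prAB : Module.Projective Γ(X, U₁) Ω[Γ(X, U₁)⁄Γ(S, W)] :=
    fsAB.projective_kaehlerDifferential
  obtain ⟨q, hq_def⟩ : ∃ q : Ideal Γ(X, U₁), q = (hU₁.primeIdealOf ⟨x, hxU₁⟩).asIdeal := ⟨_, rfl⟩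
  haveI hqp : q.IsPrime := hq_def ▸ (hU₁.primeIdealOf ⟨x, hxU₁⟩).isPrime
  letI algBC : Algebra Γ(X, U₁) (X.presheaf.stalk x) :=
    (X.presheaf.germ U₁ x hxU₁).hom.toAlgebra
  haveI locC : IsLocalization.AtPrime (X.presheaf.stalk x) q :=
    hq_def ▸ hU₁.isLocalization_stalk ⟨x, hxU₁⟩
  letI algAC : Algebra Γ(S, W) (X.presheaf.stalk x) :=
    ((X.presheaf.germ U₁ x hxU₁).hom.comp (f.appLE W U₁ e₁).hom).toAlgebra
  haveI towABC : IsScalarTower Γ(S, W) Γ(X, U₁) (X.presheaf.stalk x) :=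
    IsScalarTower.of_algebraMap_eq fun _ => rfl
  letI algAR : Algebra Γ(S, W) (S.presheaf.stalk (f x)) :=
    (S.presheaf.germ W (f x) (e₁ hxU₁)).hom.toAlgebra
  letI algRC : Algebra (S.presheaf.stalk (f x)) (X.presheaf.stalk x) :=
    (f.stalkMap x).hom.toAlgebra
  haveI towARC : IsScalarTower Γ(S, W) (S.presheaf.stalk (f x)) (X.presheaf.stalk x) :=
    IsScalarTower.of_algebraMap_eq fun r => (stalkMap_germ_appLE f e₁ x hxU₁ r).symm
  -- the functional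
  have hq : ∀ b ∈ q, algebraMap Γ(X, U₁) (X.presheaf.stalk x) b ∈
      IsLocalRing.maximalIdeal (X.presheaf.stalk x) := fun b hb =>
    (IsLocalization.AtPrime.to_map_mem_maximal_iff (X.presheaf.stalk x) q b).mpr hb
  obtain ⟨φ, hφ⟩ := exists_functional_of_tmul_ne_zero (R := S.presheaf.stalk (f x))
    (A := X.presheaf.stalk x) (R₀ := Γ(S, W)) (B := Γ(X, U₁)) q hq a hd
  -- the fibre condition
  have hprime := isPrime_map_stalkMap_maximalIdeal f hU₁ hW e₁ hsm x hxU₁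
  have hle_max : Ideal.map (f.stalkMap x).hom
      (IsLocalRing.maximalIdeal (S.presheaf.stalk (f x))) ≤
      IsLocalRing.maximalIdeal (X.presheaf.stalk x) :=
    IsLocalRing.le_maximalIdeal hprime.ne_top
  have hnot : X.presheaf.germ U₁ x hxU₁ a ∉ Ideal.map (f.stalkMap x).hom
      (IsLocalRing.maximalIdeal (S.presheaf.stalk (f x))) := fun hmem =>
    hd (tmul_D_eq_zero_of_mem_map (R := S.presheaf.stalk (f x)) (A := X.presheaf.stalk x)
      (IsLocalRing.maximalIdeal (S.presheaf.stalk (f x))) hle_max _ hmem)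
  obtain ⟨g₂, hxg₂, hnzd⟩ := exists_nzd_chart f hU₁ hW e₁ hsm.finitePresentation hsm.flat x hxU₁ a
    (fun c hc => (hprime.mem_or_mem hc).resolve_left hnot)
  -- the neighbourhood
  obtain ⟨g₁, hg₁⟩ : ∃ g₁, g₁ = φ (KaehlerDifferential.D Γ(S, W) Γ(X, U₁) a) := ⟨_, rfl⟩
  obtain ⟨g, hg⟩ : ∃ g, g = g₂ * g₁ := ⟨_, rfl⟩
  have hg₂q : g₂ ∉ q := by
    rw [hq_def]
    exact mem_primeCompl_of_mem_basicOpen hU₁ x hxU₁ g₂ hxg₂
  have hgq : g ∉ q := by
    rw [hg]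
    intro hmem
    rcases hqp.mem_or_mem hmem with h1 | h1
    · exact hg₂q h1
    · exact hφ (hg₁ ▸ h1)
  have hUg : IsAffineOpen (X.basicOpen g) := hU₁.basicOpen g
  have hle : X.basicOpen g ≤ U₁ := X.basicOpen_le g
  have hxg : x ∈ X.basicOpen g := mem_basicOpen_of_notMem hU₁ x hxU₁ g (hq_def ▸ hgq)
  have hle₂ : X.basicOpen g ≤ X.basicOpen g₂ := by
    rw [hg, Scheme.basicOpen_mul]
    exact inf_le_left
  refine ⟨X.basicOpen g, hUg, hxg, hle, ?_, ?_⟩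
  · refine mem_nonZeroDivisors_of_germ _ (fun y hy => ?_)
    rw [TopCat.Presheaf.germ_res_apply]
    exact hnzd y (hle₂ hy)
  · letI algAG : Algebra Γ(S, W) Γ(X, X.basicOpen g) :=
      (f.appLE W (X.basicOpen g) (hle.trans e₁)).hom.toAlgebra
    letI algBG : Algebra Γ(X, U₁) Γ(X, X.basicOpen g) :=
      (X.presheaf.map (homOfLE hle).op).hom.toAlgebra
    haveI : IsLocalization.Away g Γ(X, X.basicOpen g) := hU₁.isLocalization_basicOpen g
    haveI : IsScalarTower Γ(S, W) Γ(X, U₁) Γ(X, X.basicOpen g) :=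
      IsScalarTower.of_algebraMap_eq' (by
        change (f.appLE W (X.basicOpen g) (hle.trans e₁)).hom =
          (X.presheaf.map (homOfLE hle).op).hom.comp (f.appLE W U₁ e₁).hom
        rw [← CommRingCat.hom_comp, Scheme.Hom.appLE_map])
    have hsmq : Algebra.Smooth Γ(S, W) (Γ(X, X.basicOpen g) ⧸
        Ideal.span {algebraMap Γ(X, U₁) Γ(X, X.basicOpen g) a}) :=
      smooth_quotient_away a φ g g₂ (by rw [hg, hg₁]) Γ(X, X.basicOpen g)
    have h1 : (algebraMap Γ(S, W) (Γ(X, X.basicOpen g) ⧸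
        Ideal.span {algebraMap Γ(X, U₁) Γ(X, X.basicOpen g) a})).Smooth :=
      RingHom.smooth_algebraMap.mpr hsmq
    have e3 : hUg.fromSpec ≫ f = Spec.map (f.appLE W (X.basicOpen g) (hle.trans e₁)) ≫
        hW.fromSpec :=
      (IsAffineOpen.SpecMap_appLE_fromSpec f hW hUg (hle.trans e₁)).symm
    rw [e3, ← Category.assoc, ← Spec.map_comp]
    haveI : Smooth (Spec.map (f.appLE W (X.basicOpen g) (hle.trans e₁) ≫
        CommRingCat.ofHom (Ideal.Quotient.mk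
          (Ideal.span {(X.presheaf.map (homOfLE hle).op a : Γ(X, X.basicOpen g))})))) :=
      (HasRingHomProperty.Spec_iff (P := @Smooth)).mpr h1
    infer_instance

/-- restriction of the smoothness hypothesis to a chart inside the smooth locus. -/
theorem smooth_appLE_of_smooth_ι_comp (f : X ⟶ S) (W : X.Opens) (hW : Smooth (W.ι ≫ f))
    (V : W.toScheme.Opens) (hV : IsAffineOpen V) (WS : S.Opens) (hWS : IsAffineOpen WS)
    (e : W.ι ''ᵁ V ≤ f ⁻¹ᵁ WS) : (f.appLE WS (W.ι ''ᵁ V) e).hom.Smooth := by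
  have e' : V ≤ (W.ι ≫ f) ⁻¹ᵁ WS := by
    intro y hy
    exact e ⟨y, hy, rfl⟩
  have h1 := HasRingHomProperty.appLE (P := @Smooth) (W.ι ≫ f) hW ⟨WS, hWS⟩ ⟨V, hV⟩ e'
  have h2 : (W.ι ≫ f).appLE WS V e' = f.appLE WS (W.ι ''ᵁ V) e := by
    rw [Scheme.Hom.comp_appLE, Scheme.Opens.ι_appLE, Scheme.Hom.appLE]
    congr 1
  rw [← h2]; exact h1

/-- **S9725**. -/
theorem S9725_main (f : X ⟶ S) (x : X) (W : X.Opens) (hxW : x ∈ W) (hW : Smooth (W.ι ≫ f))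
    (h : ↑(X.presheaf.stalk x))
    (hd : letI := (f.stalkMap x).hom.toAlgebra
      (1 : IsLocalRing.ResidueField ↑(X.presheaf.stalk x)) ⊗ₜ[↑(X.presheaf.stalk x)]
          (KaehlerDifferential.D ↑(S.presheaf.stalk (f x)) ↑(X.presheaf.stalk x) h) ≠ 0) :
    ∃ (U : X.Opens) (hU : IsAffineOpen U) (hx : x ∈ U) (h' : Γ(X, U)),
      X.presheaf.germ U x hx h' = h ∧ h' ∈ nonZeroDivisors Γ(X, U) ∧
      Smooth (Spec.map (CommRingCat.ofHom (Ideal.Quotient.mk (Ideal.span {h'}))) ≫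
        hU.fromSpec ≫ f) := by
  obtain ⟨WS, hWS, hfxWS, -⟩ := exists_isAffineOpen_mem_and_subset (x := f x) (U := ⊤) trivial
  obtain ⟨Vh, hxVh, s, hs⟩ := TopCat.Presheaf.exists_germ_eq X.presheaf h
  obtain ⟨V, hV, hxV, hVle⟩ := exists_isAffineOpen_mem_and_subset (X := W.toScheme)
    (x := ⟨x, hxW⟩) (U := W.ι ⁻¹ᵁ (Vh ⊓ f ⁻¹ᵁ WS)) ⟨hxVh, hfxWS⟩
  have hU₁ : IsAffineOpen (W.ι ''ᵁ V) := hV.image_of_isOpenImmersion W.ι
  have hxU₁ : x ∈ W.ι ''ᵁ V := ⟨⟨x, hxW⟩, hxV, rfl⟩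
  have hU₁le : W.ι ''ᵁ V ≤ Vh ⊓ f ⁻¹ᵁ WS := by
    rintro _ ⟨y, hy, rfl⟩
    exact hVle hy
  have e₁ : W.ι ''ᵁ V ≤ f ⁻¹ᵁ WS := hU₁le.trans inf_le_right
  have eV : W.ι ''ᵁ V ≤ Vh := hU₁le.trans inf_le_left
  have hsm := smooth_appLE_of_smooth_ι_comp f W hW V hV WS hWS e₁
  obtain ⟨a, ha_def⟩ : ∃ a : Γ(X, W.ι ''ᵁ V), a = X.presheaf.map (homOfLE eV).op s := ⟨_, rfl⟩
  have hga : X.presheaf.germ (W.ι ''ᵁ V) x hxU₁ a = h := by
    rw [ha_def, TopCat.Presheaf.germ_res_apply]; exact hs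
  obtain ⟨U, hU, hxU, hle, hnzd, hsmooth⟩ :=
    exists_smooth_slice_chart f hU₁ hWS e₁ hsm x hxU₁ a (by rw [hga]; exact hd)
  refine ⟨U, hU, hxU, _, ?_, hnzd, hsmooth⟩
  rw [TopCat.Presheaf.germ_res_apply]; exact hga

end Groth.Agent.H7.SmSlice



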