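import Groth.Agent.Lib.Helper7.SmSliceB
import Mathlib

/-!
# Smooth effective Cartier slices: kernel form (S9751)
-/

set_option autoImplicit false
universe u

open CategoryTheory Limits AlgebraicGeometry TensorProduct

namespace Groth.Agent.H7.SmSlice

section ring

open IsLocalRing

variable {R A : Type u} [CommRing R] [CommRing A] [Algebra R A] [IsLocalRing A]
  [Algebra R (ResidueField A)] [IsScalarTower R A (ResidueField A)]

/-- a nonzero kernel of `κ ⊗ Ω[A/R] → Ω[κ/R]` produces an element of `𝔪_A` with nonzero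
differential in the fibre `κ ⊗ Ω[A/R]`. -/
theorem exists_mem_maximalIdeal_tmul_D_ne_zero
    (hker : LinearMap.ker (KaehlerDifferential.mapBaseChange R A (ResidueField A)) ≠ ⊥) :
    ∃ h ∈ maximalIdeal A, (1 : ResidueField A) ⊗ₜ[A] KaehlerDifferential.D R A h ≠ 0 := by
  obtain ⟨z, hz, hz0⟩ := Submodule.exists_mem_ne_zero_of_ne_bot hker
  have hsurj : Function.Surjective (algebraMap A (ResidueField A)) :=
    Ideal.Quotient.mk_surjective
  obtain ⟨c, rfl⟩ :=
    (KaehlerDifferential.exact_kerCotangentToTensor_mapBaseChange R A (ResidueField A) hsurj z).mp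
      hz
  obtain ⟨⟨h, hh⟩, rfl⟩ := Ideal.toCotangent_surjective _ c
  refine ⟨h, ?_, ?_⟩
  · rw [RingHom.mem_ker, ResidueField.algebraMap_eq, residue_eq_zero_iff] at hh
    exact hh
  · rw [KaehlerDifferential.kerCotangentToTensor_toCotangent] at hz0
    exact hz0

end ring

variable {X S : Scheme.{u}}

/-- **S9751**. -/
theorem S9751_main (f : X ⟶ S) (x : X) (W : X.Opens) (hxW : x ∈ W) (hW : Smooth (W.ι ≫ f))
    (hker : letI := (f.stalkMap x).hom.toAlgebra
      letI := ((IsLocalRing.residue ↑(X.presheaf.stalk x)).comp (f.stalkMap x).hom).toAlgebra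
      haveI : IsScalarTower ↑(S.presheaf.stalk (f x)) ↑(X.presheaf.stalk x)
          (IsLocalRing.ResidueField ↑(X.presheaf.stalk x)) :=
        IsScalarTower.of_algebraMap_eq (fun _ => rfl)
      LinearMap.ker (KaehlerDifferential.mapBaseChange ↑(S.presheaf.stalk (f x))
        ↑(X.presheaf.stalk x) (IsLocalRing.ResidueField ↑(X.presheaf.stalk x))) ≠ ⊥) :
    ∃ (U : X.Opens) (hU : IsAffineOpen U) (hx : x ∈ U) (h' : Γ(X, U)),
      h' ∈ nonZeroDivisors Γ(X, U) ∧
      X.presheaf.germ U x hx h' ∈ IsLocalRing.maximalIdeal ↑(X.presheaf.stalk x) ∧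
      Smooth (Spec.map (CommRingCat.ofHom (Ideal.Quotient.mk (Ideal.span {h'}))) ≫
        hU.fromSpec ≫ f) := by
  letI a1 : Algebra ↑(S.presheaf.stalk (f x)) ↑(X.presheaf.stalk x) :=
    (f.stalkMap x).hom.toAlgebra
  letI a2 : Algebra ↑(S.presheaf.stalk (f x)) (IsLocalRing.ResidueField ↑(X.presheaf.stalk x)) :=
    ((IsLocalRing.residue ↑(X.presheaf.stalk x)).comp (f.stalkMap x).hom).toAlgebra
  haveI t1 : IsScalarTower ↑(S.presheaf.stalk (f x)) ↑(X.presheaf.stalk x)
      (IsLocalRing.ResidueField ↑(X.presheaf.stalk x)) :=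
    IsScalarTower.of_algebraMap_eq (fun _ => rfl)
  obtain ⟨h, hm, hd⟩ := exists_mem_maximalIdeal_tmul_D_ne_zero
    (R := ↑(S.presheaf.stalk (f x))) (A := ↑(X.presheaf.stalk x)) hker
  obtain ⟨U, hU, hx, h', hgerm, hnzd, hsm⟩ := S9725_main f x W hxW hW h hd
  exact ⟨U, hU, hx, h', hnzd, hgerm ▸ hm, hsm⟩

end Groth.Agent.H7.SmSlice
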