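import Mathlib

/-!
# Separable residue field extension: elements of `𝔪 \ (𝔪_R A + 𝔪²)` have nonzero differential in the
fibre of `Ω[A/R]` (ring level, for S9724)
-/

set_option autoImplicit false
universe u

open TensorProduct

namespace Groth.Agent.H7.SmSlice

section sep

open IsLocalRing

variable {R A : Type u} [CommRing R] [CommRing A] [IsLocalRing R] [IsLocalRing A] [Algebra R A]
  [Algebra (ResidueField R) (ResidueField A)]

set_option maxHeartbeats 800000 in
theorem tmul_D_ne_zero_of_formallySmooth_residue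
    (hcomp : ∀ r : R, algebraMap (ResidueField R) (ResidueField A) (residue R r) =
      residue A (algebraMap R A r))
    [Algebra.FormallySmooth (ResidueField R) (ResidueField A)]
    (h : A) (hm : h ∈ maximalIdeal A)
    (hh : h ∉ Ideal.map (algebraMap R A) (maximalIdeal R) ⊔ maximalIdeal A ^ 2) :
    (1 : ResidueField A) ⊗ₜ[A] KaehlerDifferential.D R A h ≠ 0 := by
  obtain ⟨J, hJ⟩ : ∃ J, J = Ideal.map (algebraMap R A) (maximalIdeal R) ⊔ maximalIdeal A ^ 2 :=
    ⟨_, rfl⟩
  rw [← hJ] at hh
  have hmapJ : ∀ r ∈ maximalIdeal R, algebraMap R A r ∈ J := fun r hr =>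
    hJ ▸ Ideal.mem_sup_left (Ideal.mem_map_of_mem _ hr)
  have hloc : ∀ r ∈ maximalIdeal R, algebraMap R A r ∈ maximalIdeal A := by
    intro r hr
    rw [← residue_eq_zero_iff, ← hcomp, (residue_eq_zero_iff r).mpr hr, map_zero]
  have hJle : J ≤ maximalIdeal A := by
    rw [hJ]
    exact sup_le (Ideal.map_le_iff_le_comap.mpr hloc) (Ideal.pow_le_self two_ne_zero)
  have hsqJ : maximalIdeal A ^ 2 ≤ J := hJ ▸ le_sup_right
  let π : A →+* A ⧸ J := Ideal.Quotient.mk J
  let ι : ResidueField R →+* A ⧸ J := Ideal.Quotient.lift (maximalIdeal R)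
    (π.comp (algebraMap R A)) (fun r hr => Ideal.Quotient.eq_zero_iff_mem.mpr (hmapJ r hr))
  letI algkC : Algebra (ResidueField R) (A ⧸ J) := ι.toAlgebra
  let g₀ : A ⧸ J →+* ResidueField A := Ideal.Quotient.lift J (residue A)
    (fun a ha => (residue_eq_zero_iff a).mpr (hJle ha))
  have hg₀π : ∀ a, g₀ (π a) = residue A a := fun a => rfl
  let g : A ⧸ J →ₐ[ResidueField R] ResidueField A :=
    { g₀ with
      commutes' := by
        intro c
        obtain ⟨r, rfl⟩ := residue_surjective c
        change g₀ (ι (residue R r)) = _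
        rw [hcomp]
        rfl }
  have hgπ : ∀ a, g (π a) = residue A a := fun a => rfl
  have hsurj : Function.Surjective g := by
    intro y
    obtain ⟨a, rfl⟩ := residue_surjective y
    exact ⟨π a, rfl⟩
  -- the kernel of `g` is square zero
  have hker : ∀ c : A ⧸ J, g c = 0 → ∃ a ∈ maximalIdeal A, π a = c := by
    intro c hc
    obtain ⟨a, rfl⟩ := Ideal.Quotient.mk_surjective c
    exact ⟨a, (residue_eq_zero_iff a).mp hc, rfl⟩
  have hsq : ∀ c c' : A ⧸ J, g c = 0 → g c' = 0 → c * c' = 0 := by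
    intro c c' hc hc'
    obtain ⟨a, ha, rfl⟩ := hker c hc
    obtain ⟨a', ha', rfl⟩ := hker c' hc'
    rw [← map_mul]
    refine Ideal.Quotient.eq_zero_iff_mem.mpr (hsqJ ?_)
    rw [pow_two]
    exact Ideal.mul_mem_mul ha ha'
  have hnil : IsNilpotent (RingHom.ker (g : A ⧸ J →+* ResidueField A)) := by
    refine ⟨2, ?_⟩
    rw [pow_two, Ideal.zero_eq_bot, eq_bot_iff, Ideal.mul_le]
    intro c hc c' hc'
    rw [Ideal.mem_bot]
    exact hsq c c' hc hc'
  let σ : ResidueField A →ₐ[ResidueField R] A ⧸ J :=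
    Algebra.FormallySmooth.liftOfSurjective (AlgHom.id (ResidueField R) (ResidueField A)) g hsurj hnil
  have hσ : ∀ y, g (σ y) = y := fun y =>
    Algebra.FormallySmooth.liftOfSurjective_apply (AlgHom.id (ResidueField R) (ResidueField A))
      g hsurj hnil y
  let d : A → A ⧸ J := fun a => π a - σ (residue A a)
  have hdker : ∀ a, g (d a) = 0 := fun a => by
    change g (π a - σ (residue A a)) = 0
    rw [map_sub, hgπ, hσ, sub_self]
  have hsmulC : ∀ (a : A) (c : A ⧸ J), a • c = π a * c := fun a c => by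
    rw [Algebra.smul_def]; rfl
  have hRsmul : ∀ (r : R) (c : A ⧸ J), r • c = π (algebraMap R A r) * c := fun r c => by
    rw [Algebra.smul_def]; rfl
  have hσalg : ∀ r : R, σ (residue A (algebraMap R A r)) = π (algebraMap R A r) := by
    intro r
    rw [← hcomp, AlgHom.commutes]
    rfl
  let D' : Derivation R A (A ⧸ J) :=
    { toFun := d
      map_add' := fun a b => by
        simp only [d, map_add]; ring
      map_smul' := fun r a => by
        simp only [RingHom.id_apply]
        change π (r • a) - σ (residue A (r • a)) = r • (π a - σ (residue A a))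
        rw [Algebra.smul_def, map_mul, map_mul, map_mul, hσalg, hRsmul]; ring
      map_one_eq_zero' := by
        change π 1 - σ (residue A 1) = 0
        rw [map_one, map_one, map_one, sub_self]
      leibniz' := fun a b => by
        change π (a * b) - σ (residue A (a * b)) =
          a • (π b - σ (residue A b)) + b • (π a - σ (residue A a))
        rw [hsmulC, hsmulC, map_mul, map_mul, map_mul]
        have := hsq (d a) (d b) (hdker a) (hdker b)
        change (π a - σ (residue A a)) * (π b - σ (residue A b)) = 0 at this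
        linear_combination (-1 : A ⧸ J) * this }
  have hD' : ∀ a, D' a = π a - σ (residue A a) := fun a => rfl
  let ℓ : Ω[A⁄R] →ₗ[A] A ⧸ J := D'.liftKaehlerDifferential
  have hℓD : ∀ a, ℓ (KaehlerDifferential.D R A a) = D' a := fun a =>
    Derivation.liftKaehlerDifferential_comp_D D' a
  have hℓker : ∀ ω, g (ℓ ω) = 0 := by
    intro ω
    have hω : ω ∈ Submodule.span A (Set.range (KaehlerDifferential.D R A)) := by
      rw [KaehlerDifferential.span_range_derivation]; trivial
    refine Submodule.span_induction (p := fun ω _ => g (ℓ ω) = 0) ?_ ?_ ?_ ?_ hω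
    · rintro _ ⟨a, rfl⟩
      rw [hℓD]; exact hdker a
    · rw [map_zero, map_zero]
    · intro x y _ _ hx hy
      rw [map_add, map_add, hx, hy, add_zero]
    · intro a x _ hx
      rw [map_smul, hsmulC, map_mul, hx, mul_zero]
  intro hzero
  have h1 : KaehlerDifferential.D R A h ∈
      (maximalIdeal A • (⊤ : Submodule A Ω[A⁄R])) := by
    have h2 : TensorProduct.quotTensorEquivQuotSMul Ω[A⁄R] (maximalIdeal A)
        ((1 : A ⧸ maximalIdeal A) ⊗ₜ[A] KaehlerDifferential.D R A h) = 0 :=
      (LinearEquiv.map_eq_zero_iff _).mpr hzero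
    have h3 : TensorProduct.quotTensorEquivQuotSMul Ω[A⁄R] (maximalIdeal A)
        ((1 : A ⧸ maximalIdeal A) ⊗ₜ[A] KaehlerDifferential.D R A h) =
        Submodule.Quotient.mk (KaehlerDifferential.D R A h) :=
      TensorProduct.quotTensorEquivQuotSMul_mk_one_tmul _ _
    rw [h3] at h2
    exact (Submodule.Quotient.mk_eq_zero _).mp h2
  have h4 : (maximalIdeal A • (⊤ : Submodule A Ω[A⁄R])) ≤ LinearMap.ker ℓ := by
    rw [Submodule.smul_le]
    intro r hr ω _
    rw [LinearMap.mem_ker, map_smul, hsmulC]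
    exact hsq _ _ (by rw [hgπ]; exact (residue_eq_zero_iff r).mpr hr) (hℓker ω)
  have h5 : ℓ (KaehlerDifferential.D R A h) = 0 := h4 h1
  rw [hℓD, hD', (residue_eq_zero_iff h).mpr hm, map_zero, sub_zero] at h5
  exact hh (Ideal.Quotient.eq_zero_iff_mem.mp h5)

end sep

/-- Nakayama: if the local ring `A/I` is noetherian with nonzero maximal ideal, then some element
of `𝔪_A` is not in `I + 𝔪_A²`. -/
theorem exists_mem_maximalIdeal_notMem_sup_sq {A : Type u} [CommRing A] [IsLocalRing A]
    (I : Ideal A) [IsNoetherianRing (A ⧸ I)] (hne : ¬ IsLocalRing.maximalIdeal A ≤ I) :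
    ∃ h ∈ IsLocalRing.maximalIdeal A, h ∉ I ⊔ IsLocalRing.maximalIdeal A ^ 2 := by
  by_contra hcon
  push_neg at hcon
  apply hne
  have h1 : IsLocalRing.maximalIdeal A ≤ I ⊔ IsLocalRing.maximalIdeal A ^ 2 := hcon
  obtain ⟨N, hN⟩ : ∃ N, N = Ideal.map (Ideal.Quotient.mk I) (IsLocalRing.maximalIdeal A) :=
    ⟨_, rfl⟩
  have h2 : N ≤ N • N := by
    rw [hN, smul_eq_mul, ← pow_two, ← Ideal.map_pow]
    calc Ideal.map (Ideal.Quotient.mk I) (IsLocalRing.maximalIdeal A)
        ≤ Ideal.map (Ideal.Quotient.mk I) (I ⊔ IsLocalRing.maximalIdeal A ^ 2) :=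
          Ideal.map_mono h1
      _ = Ideal.map (Ideal.Quotient.mk I) I ⊔
          Ideal.map (Ideal.Quotient.mk I) (IsLocalRing.maximalIdeal A ^ 2) := Ideal.map_sup _ _ _
      _ = Ideal.map (Ideal.Quotient.mk I) (IsLocalRing.maximalIdeal A ^ 2) := by
          rw [Ideal.map_quotient_self, bot_sup_eq]
  have hjac : N ≤ Ideal.jacobson ⊥ := by
    rw [Ideal.jacobson, le_sInf_iff]
    rintro M ⟨-, hM⟩
    haveI := hM
    have h3 : Ideal.comap (Ideal.Quotient.mk I) M = IsLocalRing.maximalIdeal A :=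
      IsLocalRing.eq_maximalIdeal
        (Ideal.comap_isMaximal_of_surjective (Ideal.Quotient.mk I) Ideal.Quotient.mk_surjective)
    rw [hN, Ideal.map_le_iff_le_comap, h3]
  have hfg : N.FG := IsNoetherian.noetherian N
  have h3 : N = ⊥ := Submodule.eq_bot_of_le_smul_of_le_jacobson_bot N N hfg h2 hjac
  intro a ha
  have h4 : Ideal.Quotient.mk I a ∈ N := hN ▸ Ideal.mem_map_of_mem (Ideal.Quotient.mk I) ha
  rw [h3, Ideal.mem_bot] at h4
  exact Ideal.Quotient.eq_zero_iff_mem.mp h4

end Groth.Agent.H7.SmSlice
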