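import Groth.Agent.Lib.Helper7.SmSliceB
import Groth.Agent.Lib.Helper7.SmSliceD
import Mathlib

/-!
# Smooth effective Cartier slices: separable residue field form (S9724)
-/

set_option autoImplicit false
universe u

open CategoryTheory Limits AlgebraicGeometry TensorProduct

namespace Groth.Agent.H7.SmSlice

variable {X S : Scheme.{u}}

open Groth.Agent.H8.LCI in
/-- the fibre local ring of a smooth chart is noetherian. -/
theorem isNoetherianRing_quot_map_stalkMap_maximalIdeal (f : X ⟶ S) {U₁ : X.Opens} {W : S.Opens}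
    (hU₁ : IsAffineOpen U₁) (hW : IsAffineOpen W) (e₁ : U₁ ≤ f ⁻¹ᵁ W)
    (hsm : (f.appLE W U₁ e₁).hom.Smooth) (x : X) (hxU₁ : x ∈ U₁) :
    IsNoetherianRing (X.presheaf.stalk x ⧸ Ideal.map (f.stalkMap x).hom
      (IsLocalRing.maximalIdeal (S.presheaf.stalk (f x)))) := by
  letI algAB : Algebra Γ(S, W) Γ(X, U₁) := (f.appLE W U₁ e₁).hom.toAlgebra
  haveI : Algebra.Smooth Γ(S, W) Γ(X, U₁) := hsm
  obtain ⟨q, hq_def⟩ : ∃ q : Ideal Γ(X, U₁), q = (hU₁.primeIdealOf ⟨x, hxU₁⟩).asIdeal := ⟨_, rfl⟩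
  haveI hqp : q.IsPrime := hq_def ▸ (hU₁.primeIdealOf ⟨x, hxU₁⟩).isPrime
  obtain ⟨E⟩ := Groth.Agent.H8.CIImm.nonempty_fiberStalk_equiv_fibLoc f hU₁ hW e₁ x hxU₁ q hq_def
  haveI := Groth.Agent.H8.CIImm.isRegularLocalRing_fibLoc_of_smooth (A := Γ(S, W)) q
  haveI : IsNoetherianRing (Localization.AtPrime q ⧸ pL (A := Γ(S, W)) q) := inferInstance
  let E' := (Groth.Agent.H1.FibreStalk.fiberStalkEquiv f x).trans E
  exact isNoetherianRing_of_ringEquiv _ E'.symm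

open Groth.Agent.H1.FibreStalk in
/-- a nonzero maximal ideal of the fibre local ring: `𝔪_x ⊄ 𝔪_s O_x`. -/
theorem not_maximalIdeal_le_of_fiber (f : X ⟶ S) (x : X)
    (hgen : IsLocalRing.maximalIdeal ↑((f.fiber (f x)).presheaf.stalk (f.asFiber x)) ≠ ⊥) :
    ¬ IsLocalRing.maximalIdeal (X.presheaf.stalk x) ≤ Ideal.map (f.stalkMap x).hom
      (IsLocalRing.maximalIdeal (S.presheaf.stalk (f x))) := by
  intro hle
  obtain ⟨z, hz, hz0⟩ := Submodule.exists_mem_ne_zero_of_ne_bot hgen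
  obtain ⟨h, rfl⟩ := toFiberStalk_surjective f x z
  apply hz0
  have hh : h ∈ IsLocalRing.maximalIdeal (X.presheaf.stalk x) := by
    rw [IsLocalRing.mem_maximalIdeal, mem_nonunits_iff]
    intro hu
    rw [IsLocalRing.mem_maximalIdeal, mem_nonunits_iff] at hz
    exact hz (hu.map _)
  have h1 := hle hh
  rw [← ker_toFiberStalk f x, RingHom.mem_ker] at h1
  exact h1

/-- **S9724**. -/
theorem S9724_main (f : X ⟶ S) (x : X) (W : X.Opens) (hxW : x ∈ W) (hW : Smooth (W.ι ≫ f))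
    (hsep : letI := (f.residueFieldMap x).hom.toAlgebra
      Algebra.FormallySmooth (S.residueField (f x)) (X.residueField x))
    (hgen : IsLocalRing.maximalIdeal ↑((f.fiber (f x)).presheaf.stalk (f.asFiber x)) ≠ ⊥) :
    ∃ (U : X.Opens) (hU : IsAffineOpen U) (hx : x ∈ U) (h' : Γ(X, U)),
      h' ∈ nonZeroDivisors Γ(X, U) ∧
      X.presheaf.germ U x hx h' ∈ IsLocalRing.maximalIdeal ↑(X.presheaf.stalk x) ∧
      Smooth (Spec.map (CommRingCat.ofHom (Ideal.Quotient.mk (Ideal.span {h'}))) ≫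
        hU.fromSpec ≫ f) := by
  obtain ⟨WS, hWS, hfxWS, -⟩ := exists_isAffineOpen_mem_and_subset (x := f x) (U := ⊤) trivial
  obtain ⟨V, hV, hxV, hVle⟩ := exists_isAffineOpen_mem_and_subset (X := W.toScheme)
    (x := ⟨x, hxW⟩) (U := W.ι ⁻¹ᵁ (f ⁻¹ᵁ WS)) hfxWS
  have hU₁ : IsAffineOpen (W.ι ''ᵁ V) := hV.image_of_isOpenImmersion W.ι
  have hxU₁ : x ∈ W.ι ''ᵁ V := ⟨⟨x, hxW⟩, hxV, rfl⟩
  have e₁ : W.ι ''ᵁ V ≤ f ⁻¹ᵁ WS := by
    rintro _ ⟨y, hy, rfl⟩
    exact hVle hy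
  have hsm := smooth_appLE_of_smooth_ι_comp f W hW V hV WS hWS e₁
  haveI := isNoetherianRing_quot_map_stalkMap_maximalIdeal f hU₁ hWS e₁ hsm x hxU₁
  obtain ⟨h, hm, hh⟩ := exists_mem_maximalIdeal_notMem_sup_sq
    (Ideal.map (f.stalkMap x).hom (IsLocalRing.maximalIdeal (S.presheaf.stalk (f x))))
    (not_maximalIdeal_le_of_fiber f x hgen)
  letI a1 : Algebra ↑(S.presheaf.stalk (f x)) ↑(X.presheaf.stalk x) :=
    (f.stalkMap x).hom.toAlgebra
  letI a2 : Algebra (IsLocalRing.ResidueField ↑(S.presheaf.stalk (f x)))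
      (IsLocalRing.ResidueField ↑(X.presheaf.stalk x)) :=
    (f.residueFieldMap x).hom.toAlgebra
  haveI fs : Algebra.FormallySmooth (IsLocalRing.ResidueField ↑(S.presheaf.stalk (f x)))
      (IsLocalRing.ResidueField ↑(X.presheaf.stalk x)) := hsep
  have hd := tmul_D_ne_zero_of_formallySmooth_residue (R := ↑(S.presheaf.stalk (f x)))
    (A := ↑(X.presheaf.stalk x)) (fun r => rfl) h hm hh
  obtain ⟨U, hU, hx, h', hgerm, hnzd, hsm'⟩ := S9725_main f x W hxW hW h hd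
  exact ⟨U, hU, hx, h', hnzd, hgerm ▸ hm, hsm'⟩

end Groth.Agent.H7.SmSlice
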