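import Mathlib
import Groth.Prelude.Def_EtBase
import Groth.Prelude.Def_EtCore
import Groth.Prelude.Def_EtDual
import Groth.Prelude.Def_EtDepth
import Groth.Prelude.Def_RDer
import Groth.Agent.Lib.Helper7.SplitCx3

/-!
# Helper7: SplitCx4 — étale depth is monotone in the closed subset
-/

set_option autoImplicit false

open CategoryTheory Limits AlgebraicGeometry Opposite

namespace Groth.Agent.H7.SplitCx

universe u

open Groth.Agent.H7.ES Groth.Agent.H7.LSup

variable {X U V : Scheme.{u}} (j : U ⟶ X) [IsOpenImmersion j] (k : V ⟶ X) [IsOpenImmersion k]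
  (hUV : Set.range j.base ⊆ Set.range k.base)

include hUV in
lemma isZero_pull_secSupp (F : EtCoh.Ab X) :
    IsZero ((EtCoh.pull j).obj ((EtDual.secSupp k).obj F)) := by
  let l : U ⟶ V := IsOpenImmersion.lift k j hUV
  have hl : l ≫ k = j := IsOpenImmersion.lift_fac k j hUV
  let e := (EtCore.pullCongr hl.symm ≪≫ EtCore.pullComp l k).app ((EtDual.secSupp k).obj F)
  refine IsZero.of_iso ?_ e
  exact (EtCoh.pull l).map_isZero (CI.isZero_pull_kernel_unit k F)

include hUV in
lemma secSuppι_comp_unit (F : EtCoh.Ab X) :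
    (secSuppι k).app F ≫ EtDual.unitApp j F = 0 := by
  have h1 := (EtCoh.pullPushAdj j).unit.naturality ((secSuppι k).app F)
  have h2 : (EtCoh.pull j).map ((secSuppι k).app F) = 0 :=
    (isZero_pull_secSupp j k hUV F).eq_of_src _ _
  simp only [Functor.id_obj, Functor.id_map, Functor.comp_obj, Functor.comp_map] at h1
  rw [h2, Functor.map_zero, comp_zero] at h1
  exact h1

include hUV in
theorem isIso_secSupp_map (F : EtCoh.Ab X) :
    IsIso ((EtDual.secSupp k).map ((secSuppι j).app F)) := by
  refine isIso_map_of_le (T := EtCoh.pull k ⋙ EtCoh.push k) (unitNT k) (secSuppι k) (secSuppι j)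
    (fun F => kernel.condition (EtDual.unitApp k F)) (fun F => kernelIsKernel (EtDual.unitApp k F))
    (fun F => inferInstanceAs (Mono (kernel.ι _))) (fun F => ?_) F
  exact ⟨kernel.lift (EtDual.unitApp j F) ((secSuppι k).app F) (secSuppι_comp_unit j k hUV F),
    kernel.lift_ι _ _ _⟩

include hUV in
/-- `Γ_Z ∘ Γ_Y ≅ Γ_Z` for `Z ⊆ Y` -/
noncomputable def secSuppCompIso : EtDual.secSupp j ⋙ EtDual.secSupp k ≅ EtDual.secSupp k :=
  haveI : ∀ F, IsIso ((Functor.whiskerRight (secSuppι j) (EtDual.secSupp k) ≫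
      (Functor.leftUnitor _).hom).app F) := fun F => by
    haveI := isIso_secSupp_map j k hUV F
    show IsIso ((EtDual.secSupp k).map ((secSuppι j).app F) ≫ 𝟙 _)
    infer_instance
  haveI := NatIso.isIso_of_isIso_app (Functor.whiskerRight (secSuppι j) (EtDual.secSupp k) ≫
      (Functor.leftUnitor _).hom)
  asIso (Functor.whiskerRight (secSuppι j) (EtDual.secSupp k) ≫ (Functor.leftUnitor _).hom)

include hUV in
theorem S5176_main (F : EtCoh.Ab X) (n : ℕ) (h : EtDepth.DepthGE j F n) :
    EtDepth.DepthGE k F n := by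
  intro p hp
  let e := secSuppCompIso j k hUV
  let I := injectiveResolution F
  have hK : ∀ p, p < n →
      (((EtDual.secSupp j).mapHomologicalComplex _).obj I.cocomplex).ExactAt p := fun p hp => by
    rw [HomologicalComplex.exactAt_iff_isZero_homology]
    exact (h p hp).of_iso (I.isoRightDerivedObj (EtDual.secSupp j) p).symm
  have h1 := exactAt_map (((EtDual.secSupp j).mapHomologicalComplex _).obj I.cocomplex)
    (EtDual.secSupp k) n hK p hp
  rw [HomologicalComplex.exactAt_iff_isZero_homology] at h1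
  refine IsZero.of_iso h1 ?_
  exact (RDer.rightDerivedIso e.symm p).app F ≪≫
    I.isoRightDerivedObj (EtDual.secSupp j ⋙ EtDual.secSupp k) p

end Groth.Agent.H7.SplitCx
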