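import Mathlib
import Groth.Prelude.Def_W4c2azumayainvolQEt
import Groth.Agent.Lib.Helper7.SkewAlg

/-! Normalising a skew-hermitian `2 × 2` form after adjoining a square root (S17363). -/

set_option autoImplicit false
open scoped TensorProduct

namespace Groth.Agent.H7.SqrtCov

universe u v

section Basic

variable {B : Type u} {A : Type v} [CommRing B] [CommRing A] [Algebra B A]
  (lam : A ≃ₐ[B] A) (hB : RInv.IsFixedRing B A lam.toRingEquiv)

theorem isUnit_of_sub_one_mem (a : A) (ha : a - 1 ∈ Ring.jacobson A) : IsUnit a := by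
  rw [← Ideal.jacobson_bot, Ideal.mem_jacobson_bot] at ha
  have := ha 1
  rwa [mul_one, sub_add_cancel] at this

include hB in
theorem exists_unit_of_fixed (a : A) (ha : IsUnit a) (hfix : lam a = a) :
    ∃ s : Bˣ, algebraMap B A s = a := by
  obtain ⟨s, hs⟩ := (hB.2 a).mp hfix
  obtain ⟨u, rfl⟩ := ha
  have h1 : lam (↑u⁻¹ : A) = ↑u⁻¹ := by
    have h2 : lam (↑u⁻¹ : A) * (↑u : A) = 1 := by
      conv_lhs => rw [← hfix, ← map_mul, Units.inv_mul, map_one]
    calc lam (↑u⁻¹ : A) = lam (↑u⁻¹ : A) * (↑u * ↑u⁻¹) := by rw [Units.mul_inv, mul_one]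
      _ = ↑u⁻¹ := by rw [← mul_assoc, h2, one_mul]
  obtain ⟨s', hs'⟩ := (hB.2 _).mp h1
  have h3 : s * s' = 1 := by
    apply hB.1
    rw [map_mul, hs, hs', map_one, Units.mul_inv]
  exact ⟨⟨s, s', h3, by rw [mul_comm]; exact h3⟩, hs⟩

end Basic

section Step

variable (B : Type u) (A : Type v) [CommRing B] [CommRing A] [Algebra B A]
  (lam : A ≃ₐ[B] A) (hlam : ∀ a, lam (lam a) = a)

include hlam in
theorem step (Bq : Type u) [CommRing Bq] [Algebra B Bq] (s half : B) (ε : Bq)
    (hε : ε * ε = algebraMap B Bq s) (sinv : B) (hsinv : s * sinv = 1) (hhalf : 2 * half = 1)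
    (h : Matrix (Fin 2) (Fin 2) A) (herm : -(h.map lam).transpose = h)
    (βi : A) (hβ : h 0 1 * βi = 1)
    (hs : algebraMap B A s = 1 + h 0 0 * (lam βi * h 1 1 * βi)) :
    ∃ v : Matrix (Fin 2) (Fin 2) (Localization.Away (1 + ε) ⊗[B] A), IsUnit v ∧
      (v.map (Algebra.TensorProduct.congr (AlgEquiv.refl : Localization.Away (1 + ε) ≃ₐ[
        Localization.Away (1 + ε)] Localization.Away (1 + ε)) lam)).transpose *
        h.map (Algebra.TensorProduct.includeRight : A →ₐ[B] Localization.Away (1 + ε) ⊗[B] A) * v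
        = (Matrix.of ![![(0 : A), 1], ![-1, 0]]).map
          (Algebra.TensorProduct.includeRight : A →ₐ[B] Localization.Away (1 + ε) ⊗[B] A) := by
  set C := Localization.Away (1 + ε) with hC
  set lamL : C ⊗[B] A ≃ₐ[C] C ⊗[B] A :=
    Algebra.TensorProduct.congr (AlgEquiv.refl : C ≃ₐ[C] C) lam with hlamL
  set inc : A →ₐ[B] C ⊗[B] A := Algebra.TensorProduct.includeRight with hinc
  have hlinc : ∀ a, lamL (inc a) = inc (lam a) := fun a => rfl
  have hlC : ∀ c : C, lamL (c ⊗ₜ[B] (1 : A)) = c ⊗ₜ[B] (1 : A) := by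
    intro c
    show c ⊗ₜ[B] lam 1 = _
    rw [map_one]
  -- entries
  have hα : lam (h 0 0) = -h 0 0 := by
    have := congrFun (congrFun herm 0) 0
    simp only [Matrix.neg_apply, Matrix.transpose_apply, Matrix.map_apply] at this
    linear_combination (-1 : A) * this
  have hδ : lam (h 1 1) = -h 1 1 := by
    have := congrFun (congrFun herm 1) 1
    simp only [Matrix.neg_apply, Matrix.transpose_apply, Matrix.map_apply] at this
    linear_combination (-1 : A) * this
  have hγ : h 1 0 = -lam (h 0 1) := by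
    have := congrFun (congrFun herm 1) 0
    simp only [Matrix.neg_apply, Matrix.transpose_apply, Matrix.map_apply] at this
    exact this.symm
  have hlβ : lam (h 0 1) * lam βi = 1 := by rw [← map_mul, hβ, map_one]
  set δ' : A := lam βi * h 1 1 * βi with hδ'
  have hlδ' : lam δ' = -δ' := by
    rw [hδ', map_mul, map_mul, hlam, hδ]
    ring
  -- first congruence
  have hc1 : Herm.Cong lamL.toRingEquiv (h.map inc) !![inc (h 0 0), 1; -1, inc δ'] := by
    refine ⟨!![1, 0; 0, inc βi], ?_, ?_⟩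
    · rw [Matrix.isUnit_iff_isUnit_det, Matrix.det_fin_two_of]
      simp only [one_mul, mul_zero, sub_zero]
      exact IsUnit.of_mul_eq_one (inc (h 0 1)) (by rw [mul_comm, ← map_mul, hβ, map_one])
    · have e1 : (h.map inc : Matrix (Fin 2) (Fin 2) (C ⊗[B] A)) =
          !![inc (h 0 0), inc (h 0 1); inc (h 1 0), inc (h 1 1)] := by
        ext i j
        fin_cases i <;> fin_cases j <;> rfl
      have e2 : lamL.toRingEquiv (inc βi) = inc (lam βi) := hlinc βi
      have k01 : inc (h 0 1) * inc βi = 1 := by rw [← map_mul, hβ, map_one]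
      have k10 : inc (lam βi) * inc (h 1 0) = -1 := by
        rw [← map_mul, hγ, mul_neg, mul_comm, hlβ, map_neg, map_one]
      have k11 : inc (lam βi) * inc (h 1 1) * inc βi = inc δ' := by
        rw [← map_mul, ← map_mul]
      rw [Herm.ct_fin_two, e1, Matrix.mul_fin_two, Matrix.mul_fin_two]
      simp only [map_one, map_zero, one_mul, zero_mul, mul_zero, mul_one, add_zero, zero_add]
      rw [e2, k01, k10, k11]
  -- second congruence
  set xC : C := algebraMap Bq C ε with hxC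
  have hFu : IsUnit (algebraMap Bq C (1 + ε)) := IsLocalization.Away.algebraMap_isUnit (1 + ε)
  obtain ⟨uF, huF⟩ := hFu
  have hxx : xC * xC = algebraMap B C s := by
    rw [hxC, ← map_mul, hε, ← IsScalarTower.algebraMap_apply]
  have hc2 : Herm.Cong lamL.toRingEquiv !![inc (h 0 0), 1; -1, inc δ'] Herm.J2 := by
    refine Herm.two_by_two lamL.toRingEquiv (inc (h 0 0)) (inc δ') (xC ⊗ₜ[B] (1 : A))
      ((xC * algebraMap B C sinv) ⊗ₜ[B] (1 : A)) ((-(↑uF⁻¹ : C)) ⊗ₜ[B] (1 : A))
      ((algebraMap B C half) ⊗ₜ[B] (1 : A)) ?_ ?_ ?_ ?_ ?_ ?_ ?_ ?_ ?_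
    · show lamL (inc (h 0 0)) = _
      rw [hlinc, hα, map_neg]
    · show lamL (inc δ') = _
      rw [hlinc, hlδ', map_neg]
    · exact hlC _
    · exact hlC _
    · exact hlC _
    · rw [Algebra.TensorProduct.tmul_mul_tmul, mul_one, ← mul_assoc, hxx, ← map_mul, hsinv,
        map_one, Algebra.TensorProduct.one_def]
    · rw [Algebra.TensorProduct.tmul_mul_tmul, mul_one, hxx]
      have e1 : (algebraMap B C s) ⊗ₜ[B] (1 : A) = inc (algebraMap B A s) := by
        show _ = (1 : C) ⊗ₜ[B] algebraMap B A s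
        rw [Algebra.algebraMap_eq_smul_one, Algebra.algebraMap_eq_smul_one (A := A),
          TensorProduct.smul_tmul]
      rw [e1, hs, map_add, map_one, map_mul]
    · have e1 : (1 : C ⊗[B] A) + xC ⊗ₜ[B] (1 : A) = (↑uF : C) ⊗ₜ[B] (1 : A) := by
        rw [huF, map_add, map_one, TensorProduct.add_tmul, Algebra.TensorProduct.one_def]
      rw [e1, Algebra.TensorProduct.tmul_mul_tmul, mul_one, neg_mul, Units.inv_mul,
        TensorProduct.neg_tmul, Algebra.TensorProduct.one_def]
    · have e1 : (2 : C ⊗[B] A) = (2 : C) ⊗ₜ[B] (1 : A) := by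
        rw [show (2 : C ⊗[B] A) = 1 + 1 by norm_num, show (2 : C) = 1 + 1 by norm_num,
          TensorProduct.add_tmul, Algebra.TensorProduct.one_def]
      rw [e1, Algebra.TensorProduct.tmul_mul_tmul, mul_one, ← map_ofNat (algebraMap B C) 2,
        ← map_mul, hhalf, map_one, Algebra.TensorProduct.one_def]
  obtain ⟨v, hv, hvc⟩ := Herm.Cong.trans lamL.toRingEquiv hc1 hc2
  refine ⟨v, hv, ?_⟩
  have e3 : (Matrix.of ![![(0 : A), 1], ![-1, 0]]).map inc = Herm.J2 := by
    ext i j
    fin_cases i <;> fin_cases j <;> simp [Herm.J2]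
  rw [e3, ← hvc]
  rfl

end Step

section Main

open MvPolynomial

variable (B : Type u) (A : Type v) [CommRing B] [CommRing A] [Algebra B A]
  (lam : A ≃ₐ[B] A) (hlam : ∀ a, lam (lam a) = a)
  (hB : RInv.IsFixedRing B A lam.toRingEquiv)

include hlam hB in
theorem main (h2 : IsUnit (2 : A))
    (h : Matrix (Fin 2) (Fin 2) A) (herm : -(h.map lam).transpose = h)
    (hJ : ∀ i j : Fin 2, h i j - Matrix.of ![![(0 : A), 1], ![-1, 0]] i j ∈ Ring.jacobson A) :
    ∃ (s t : Bˣ) (r : ℕ) (f : Fin r → (MvPolynomial (Fin 2) B ⧸ Ideal.span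
        ({MvPolynomial.X 0 ^ 2 - MvPolynomial.C (s : B),
          MvPolynomial.X 1 ^ 2 - MvPolynomial.C (t : B)} : Set (MvPolynomial (Fin 2) B)))),
      Ideal.span (Set.range f) = ⊤ ∧
      ∀ i : Fin r, ∃ v : Matrix (Fin 2) (Fin 2) (Localization.Away (f i) ⊗[B] A), IsUnit v ∧
        (v.map (Algebra.TensorProduct.congr (AlgEquiv.refl : Localization.Away (f i) ≃ₐ[
          Localization.Away (f i)] Localization.Away (f i)) lam)).transpose *
          h.map (Algebra.TensorProduct.includeRight : A →ₐ[B] Localization.Away (f i) ⊗[B] A) * v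
          = (Matrix.of ![![(0 : A), 1], ![-1, 0]]).map
            (Algebra.TensorProduct.includeRight : A →ₐ[B] Localization.Away (f i) ⊗[B] A) := by
  have hβu : IsUnit (h 0 1) := by
    apply isUnit_of_sub_one_mem
    have := hJ 0 1
    simpa using this
  obtain ⟨βu, hβu'⟩ := hβu
  have hβ : h 0 1 * (↑βu⁻¹ : A) = 1 := by rw [← hβu', Units.mul_inv]
  have hαJ : h 0 0 ∈ Ring.jacobson A := by
    have := hJ 0 0
    simpa using this
  have hα : lam (h 0 0) = -h 0 0 := by
    have := congrFun (congrFun herm 0) 0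
    simp only [Matrix.neg_apply, Matrix.transpose_apply, Matrix.map_apply] at this
    linear_combination (-1 : A) * this
  have hδ : lam (h 1 1) = -h 1 1 := by
    have := congrFun (congrFun herm 1) 1
    simp only [Matrix.neg_apply, Matrix.transpose_apply, Matrix.map_apply] at this
    linear_combination (-1 : A) * this
  set a₀ : A := 1 + h 0 0 * (lam (↑βu⁻¹ : A) * h 1 1 * ↑βu⁻¹) with ha₀
  have ha₀u : IsUnit a₀ := by
    apply isUnit_of_sub_one_mem
    rw [ha₀, add_sub_cancel_left]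
    exact Ideal.mul_mem_right _ _ hαJ
  have ha₀f : lam a₀ = a₀ := by
    rw [ha₀, map_add, map_one, map_mul, map_mul, map_mul, hlam, hα, hδ]
    ring
  obtain ⟨s, hs⟩ := exists_unit_of_fixed lam hB a₀ ha₀u ha₀f
  obtain ⟨s₂, hs₂⟩ := exists_unit_of_fixed lam hB (2 : A) h2 (map_ofNat lam 2)
  have hs₂' : (↑s₂ : B) = 2 := by
    apply hB.1
    rw [hs₂, map_ofNat]
  have hhalf : (2 : B) * (↑s₂⁻¹ : B) = 1 := by rw [← hs₂', Units.mul_inv]
  set I : Ideal (MvPolynomial (Fin 2) B) := Ideal.span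
    ({MvPolynomial.X 0 ^ 2 - MvPolynomial.C (s : B),
      MvPolynomial.X 1 ^ 2 - MvPolynomial.C ((1 : Bˣ) : B)} : Set (MvPolynomial (Fin 2) B)) with hI
  set x : MvPolynomial (Fin 2) B ⧸ I := Ideal.Quotient.mk I (MvPolynomial.X 0) with hx
  have hxx : x * x = algebraMap B (MvPolynomial (Fin 2) B ⧸ I) (s : B) := by
    have h1 : algebraMap B (MvPolynomial (Fin 2) B ⧸ I) (s : B) =
        Ideal.Quotient.mk I (MvPolynomial.C (s : B)) := rfl
    rw [h1, hx, ← map_mul, Ideal.Quotient.eq, ← pow_two]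
    exact Ideal.subset_span (Set.mem_insert _ _)
  have hxx' : (-x) * (-x) = algebraMap B (MvPolynomial (Fin 2) B ⧸ I) (s : B) := by
    rw [← hxx]
    ring
  refine ⟨s, 1, 2, ![1 + x, 1 + -x], ?_, ?_⟩
  · apply Ideal.eq_top_of_isUnit_mem _ (x := (2 : MvPolynomial (Fin 2) B ⧸ I))
    · have e : (2 : MvPolynomial (Fin 2) B ⧸ I) = (1 + x) + (1 + -x) := by ring
      rw [e]
      exact Ideal.add_mem _ (Ideal.subset_span ⟨0, rfl⟩) (Ideal.subset_span ⟨1, rfl⟩)
    · have := (s₂.isUnit).map (algebraMap B (MvPolynomial (Fin 2) B ⧸ I))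
      rwa [hs₂', map_ofNat] at this
  · intro i
    fin_cases i
    · exact step B A lam hlam (MvPolynomial (Fin 2) B ⧸ I) (s : B) (↑s₂⁻¹ : B) x hxx (↑s⁻¹ : B)
        (Units.mul_inv s) hhalf h herm (↑βu⁻¹ : A) hβ hs
    · exact step B A lam hlam (MvPolynomial (Fin 2) B ⧸ I) (s : B) (↑s₂⁻¹ : B) (-x) hxx' (↑s⁻¹ : B)
        (Units.mul_inv s) hhalf h herm (↑βu⁻¹ : A) hβ hs

end Main

end Groth.Agent.H7.SqrtCov
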