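import Mathlib

set_option autoImplicit false
universe u v w

namespace Groth.Agent.H7.Steinitz

open scoped TensorProduct
open CommRing

section Ideals
variable {R : Type u} [CommRing R] [IsDedekindDomain R]

/-- in the inverse class of `I` there is an ideal coprime to `J`. -/
theorem exists_coprime_inv {I J : Ideal R} (hI : I ≠ ⊥) (hJ : J ≠ ⊥) :
    ∃ (K : Ideal R) (a : R), a ≠ 0 ∧ I * K = Ideal.span {a} ∧ K ⊔ J = ⊤ := by
  by_cases hJt : J = ⊤
  · obtain ⟨a, haI, ha⟩ := Submodule.exists_mem_ne_zero_of_ne_bot hI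
    obtain ⟨K, hK⟩ := Ideal.dvd_iff_le.mpr ((Ideal.span_singleton_le_iff_mem I).mpr haI)
    exact ⟨K, a, ha, hK.symm, by rw [hJt]; exact sup_top_eq _⟩
  · have hIJ : I * J ≠ 0 := mul_ne_zero hI hJ
    obtain ⟨a, ha⟩ := IsDedekindDomain.exists_sup_span_eq (I := I * J) (J := I)
      Ideal.mul_le_left hIJ
    have haI : a ∈ I := by
      rw [← ha]
      exact Ideal.mem_sup_right (Ideal.mem_span_singleton_self a)
    obtain ⟨K, hK⟩ := Ideal.dvd_iff_le.mpr ((Ideal.span_singleton_le_iff_mem I).mpr haI)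
    have h1 : I * (J ⊔ K) = I * ⊤ := by rw [Ideal.mul_sup, ← hK, ha, Ideal.mul_top]
    have h2 : J ⊔ K = ⊤ := mul_left_cancel₀ hI h1
    refine ⟨K, a, ?_, hK.symm, by rw [sup_comm]; exact h2⟩
    rintro rfl
    apply hJt
    rw [Ideal.span_singleton_eq_bot.mpr rfl, sup_bot_eq] at ha
    have h3 : I * J = I * ⊤ := by
      rw [Ideal.mul_top, ha]
    exact mul_left_cancel₀ hI h3

/-- multiplication by a nonzero element -/
noncomputable def mulEquiv (a : R) (ha : a ≠ 0) (I : Ideal R) :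
    I ≃ₗ[R] (Ideal.span {a} * I : Ideal R) :=
  LinearEquiv.ofBijective
    { toFun := fun x => ⟨a * x.1, Ideal.mul_mem_mul (Ideal.mem_span_singleton_self a) x.2⟩
      map_add' := fun x y => Subtype.ext (mul_add a x.1 y.1)
      map_smul' := fun r x => Subtype.ext (by
        show a * (r * x.1) = r * (a * x.1)
        ring) }
    ⟨fun x y h => Subtype.ext (mul_left_cancel₀ ha (congrArg Subtype.val h)),
     fun y => by
      obtain ⟨z, hz, hzy⟩ := Ideal.mem_span_singleton_mul.mp y.2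
      exact ⟨⟨z, hz⟩, Subtype.ext hzy⟩⟩

theorem nonempty_equiv_of_mul_eq {I K : Ideal R} {a b : R} (ha : a ≠ 0) (hb : b ≠ 0)
    (h : Ideal.span {b} * I = Ideal.span {a} * K) : Nonempty (I ≃ₗ[R] K) :=
  ⟨(mulEquiv b hb I).trans ((LinearEquiv.ofEq _ _ h).trans (mulEquiv a ha K).symm)⟩

/-- every nonzero ideal is isomorphic to one coprime to `J`. -/
theorem exists_coprime_rep {I J : Ideal R} (hI : I ≠ ⊥) (hJ : J ≠ ⊥) :
    ∃ I' : Ideal R, Nonempty (I ≃ₗ[R] I') ∧ I' ⊔ J = ⊤ := by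
  obtain ⟨K₁, a, ha, h1, -⟩ := exists_coprime_inv hI hJ
  have hK₁ : K₁ ≠ ⊥ := by
    rintro rfl
    rw [Ideal.mul_bot] at h1
    exact ha (Ideal.span_singleton_eq_bot.mp h1.symm)
  obtain ⟨K₂, b, hb, h2, hcop⟩ := exists_coprime_inv hK₁ hJ
  refine ⟨K₂, nonempty_equiv_of_mul_eq ha hb ?_, hcop⟩
  rw [← h2, ← h1]
  ring

/-- coprime ideals: `I × J ≃ R × (I ⊓ J)`. -/
theorem nonempty_prod_equiv {I J : Ideal R} (h : I ⊔ J = ⊤) :
    Nonempty ((I × J) ≃ₗ[R] (R × (I ⊓ J : Ideal R))) := by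
  have h1 : (1 : R) ∈ I ⊔ J := by rw [h]; trivial
  obtain ⟨x₀, hx₀, y₀, hy₀, hxy⟩ := Submodule.mem_sup.mp h1
  let Φ : (I × J) →ₗ[R] (R × (I ⊓ J : Ideal R)) :=
    { toFun := fun p => (p.1.1 + p.2.1, ⟨y₀ * p.1.1 - x₀ * p.2.1,
        ⟨I.sub_mem (I.mul_mem_left _ p.1.2) (I.mul_mem_right _ hx₀),
         J.sub_mem (J.mul_mem_right _ hy₀) (J.mul_mem_left _ p.2.2)⟩⟩)
      map_add' := fun p q => by
        refine Prod.ext ?_ (Subtype.ext ?_)
        · show (p.1.1 + q.1.1) + (p.2.1 + q.2.1) = (p.1.1 + p.2.1) + (q.1.1 + q.2.1)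
          ring
        · show y₀ * (p.1.1 + q.1.1) - x₀ * (p.2.1 + q.2.1) =
            (y₀ * p.1.1 - x₀ * p.2.1) + (y₀ * q.1.1 - x₀ * q.2.1)
          ring
      map_smul' := fun r p => by
        refine Prod.ext ?_ (Subtype.ext ?_)
        · show r * p.1.1 + r * p.2.1 = r * (p.1.1 + p.2.1)
          ring
        · show y₀ * (r * p.1.1) - x₀ * (r * p.2.1) = r * (y₀ * p.1.1 - x₀ * p.2.1)
          ring }
  let Ψ : (R × (I ⊓ J : Ideal R)) →ₗ[R] (I × J) :=
    { toFun := fun q => (⟨x₀ * q.1 + q.2.1, I.add_mem (I.mul_mem_right _ hx₀) q.2.2.1⟩,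
        ⟨y₀ * q.1 - q.2.1, J.sub_mem (J.mul_mem_right _ hy₀) q.2.2.2⟩)
      map_add' := fun p q => by
        refine Prod.ext (Subtype.ext ?_) (Subtype.ext ?_)
        · show x₀ * (p.1 + q.1) + (p.2.1 + q.2.1) = (x₀ * p.1 + p.2.1) + (x₀ * q.1 + q.2.1)
          ring
        · show y₀ * (p.1 + q.1) - (p.2.1 + q.2.1) = (y₀ * p.1 - p.2.1) + (y₀ * q.1 - q.2.1)
          ring
      map_smul' := fun r p => by
        refine Prod.ext (Subtype.ext ?_) (Subtype.ext ?_)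
        · show x₀ * (r * p.1) + r * p.2.1 = r * (x₀ * p.1 + p.2.1)
          ring
        · show y₀ * (r * p.1) - r * p.2.1 = r * (y₀ * p.1 - p.2.1)
          ring }
  refine ⟨LinearEquiv.ofLinear Φ Ψ ?_ ?_⟩
  · refine LinearMap.ext (fun q => Prod.ext ?_ (Subtype.ext ?_))
    · show (x₀ * q.1 + q.2.1) + (y₀ * q.1 - q.2.1) = q.1
      linear_combination q.1 * hxy
    · show y₀ * (x₀ * q.1 + q.2.1) - x₀ * (y₀ * q.1 - q.2.1) = q.2.1
      linear_combination q.2.1 * hxy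
  · refine LinearMap.ext (fun p => Prod.ext (Subtype.ext ?_) (Subtype.ext ?_))
    · show x₀ * (p.1.1 + p.2.1) + (y₀ * p.1.1 - x₀ * p.2.1) = p.1.1
      linear_combination p.1.1 * hxy
    · show y₀ * (p.1.1 + p.2.1) - (y₀ * p.1.1 - x₀ * p.2.1) = p.2.1
      linear_combination p.2.1 * hxy

end Ideals

section Modules
variable (R : Type u) [CommRing R] [IsDedekindDomain R]
  (M₁ : Type v) [AddCommGroup M₁] [Module R M₁] [Module.Invertible R M₁]
  (M₂ : Type w) [AddCommGroup M₂] [Module R M₂] [Module.Invertible R M₂]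

theorem ideal_ne_bot_of_equiv (I : Ideal R) (e : M₁ ≃ₗ[R] I) : I ≠ ⊥ := by
  rintro rfl
  haveI : Module.Invertible R (⊥ : Ideal R) := Module.Invertible.congr e
  have : (1 : R) = 0 := by
    apply FaithfulSMul.eq_of_smul_eq_smul (α := (⊥ : Ideal R))
    intro x
    have : x = 0 := Subsingleton.elim _ _
    rw [this, smul_zero, smul_zero]
  exact one_ne_zero this

/-- Steinitz: `M₁ × M₂ ≃ R × (M₁ ⊗ M₂)`. -/
theorem nonempty_prod_equiv_tensor :
    Nonempty ((M₁ × M₂) ≃ₗ[R] (R × (M₁ ⊗[R] M₂))) := by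
  obtain ⟨I, ⟨e₁⟩⟩ := Module.Invertible.exists_linearEquiv_ideal R M₁
  obtain ⟨J, ⟨e₂⟩⟩ := Module.Invertible.exists_linearEquiv_ideal R M₂
  have hI := ideal_ne_bot_of_equiv R M₁ I e₁
  have hJ := ideal_ne_bot_of_equiv R M₂ J e₂
  obtain ⟨I', ⟨e₃⟩, hcop⟩ := exists_coprime_rep hI hJ
  obtain ⟨e₄⟩ := nonempty_prod_equiv hcop
  haveI : Module.Flat R J := Module.Flat.of_linearEquiv e₂.symm
  have hdisj : Submodule.LinearDisjoint (I' : Submodule R R) (J : Submodule R R) :=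
    Submodule.LinearDisjoint.of_left_le_one_of_flat (I' : Submodule R R) (J : Submodule R R)
      (le_top.trans Ideal.one_eq_top.ge)
  let e₅ : (I' ⊗[R] J) ≃ₗ[R] (I' * J : Ideal R) := hdisj.mulMap
  let e₆ : (I' * J : Ideal R) ≃ₗ[R] (I' ⊓ J : Ideal R) :=
    LinearEquiv.ofEq _ _ (Ideal.mul_eq_inf_of_coprime hcop)
  let e₇ : (M₁ ⊗[R] M₂) ≃ₗ[R] (I' ⊗[R] J) := TensorProduct.congr (e₁.trans e₃) e₂
  exact ⟨((e₁.trans e₃).prodCongr e₂).trans (e₄.trans
    ((LinearEquiv.refl R R).prodCongr (e₇.trans (e₅.trans e₆)).symm))⟩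

end Modules

section Main
variable (R : Type u) [CommRing R] [IsDedekindDomain R]
  (N : Type v) [AddCommGroup N] [Module R N] [Module.Invertible R N]

theorem exists_pi_equiv (k : ℕ) :
    ∃ (T : Type v) (_ : AddCommGroup T) (_ : Module R T) (_ : Module.Invertible R T),
      Pic.mk R T = Pic.mk R N ^ (k + 1) ∧
      Nonempty ((Fin (k + 1) → N) ≃ₗ[R] ((Fin k → R) × T)) := by
  induction k with
  | zero =>
    refine ⟨N, inferInstance, inferInstance, inferInstance, by rw [zero_add, pow_one], ?_⟩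
    have e1 : (Fin 1 → N) ≃ₗ[R] N := LinearEquiv.funUnique (Fin 1) R N
    have e2 : ((Fin 0 → R) × N) ≃ₗ[R] N :=
      LinearEquiv.ofBijective (LinearMap.snd R (Fin 0 → R) N)
        ⟨fun x y h => Prod.ext (Subsingleton.elim _ _) h, fun y => ⟨(0, y), rfl⟩⟩
    exact ⟨e1.trans e2.symm⟩
  | succ k ih =>
    obtain ⟨T, _, _, _, hT, ⟨e⟩⟩ := ih
    refine ⟨T ⊗[R] N, inferInstance, inferInstance, inferInstance, ?_, ?_⟩
    · rw [Pic.mk_tensor, hT, ← pow_succ]
    · obtain ⟨s⟩ := nonempty_prod_equiv_tensor R T N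
      have e1 : (Fin (k + 1 + 1) → N) ≃ₗ[R] (N × (Fin (k + 1) → N)) :=
        (Fin.consLinearEquiv R (fun _ : Fin (k + 1 + 1) => N)).symm
      have e2 : (Fin (k + 1) → R) ≃ₗ[R] (R × (Fin k → R)) :=
        (Fin.consLinearEquiv R (fun _ : Fin (k + 1) => R)).symm
      -- N × ((Fin k → R) × T) ≃ (R × (Fin k → R)) × (T ⊗ N)
      have e3 : (N × ((Fin k → R) × T)) ≃ₗ[R] ((R × (Fin k → R)) × (T ⊗[R] N)) :=
        (LinearEquiv.prodComm R N ((Fin k → R) × T)).trans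
          ((LinearEquiv.prodAssoc R (Fin k → R) T N).trans
            (((LinearEquiv.refl R (Fin k → R)).prodCongr s).trans
              ((LinearEquiv.prodAssoc R (Fin k → R) R (T ⊗[R] N)).symm.trans
                ((LinearEquiv.prodComm R (Fin k → R) R).prodCongr (LinearEquiv.refl R _)))))
      exact ⟨e1.trans (((LinearEquiv.refl R N).prodCongr e).trans
        (e3.trans (e2.symm.prodCongr (LinearEquiv.refl R _))))⟩

/-- S16200 -/
theorem main (n : ℕ) (h : Pic.mk R N ^ n = 1) :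
    Nonempty ((Fin n → N) ≃ₗ[R] (Fin n → R)) := by
  rcases n with _ | k
  · exact ⟨LinearEquiv.ofBijective 0 ⟨fun x y _ => Subsingleton.elim _ _,
      fun y => ⟨0, Subsingleton.elim _ _⟩⟩⟩
  · obtain ⟨T, _, _, _, hT, ⟨e⟩⟩ := exists_pi_equiv R N k
    rw [h] at hT
    obtain ⟨t⟩ := Pic.mk_eq_one_iff.mp hT
    have e2 : (Fin (k + 1) → R) ≃ₗ[R] (R × (Fin k → R)) :=
      (Fin.consLinearEquiv R (fun _ : Fin (k + 1) => R)).symm
    exact ⟨e.trans (((LinearEquiv.refl R _).prodCongr t).trans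
      ((LinearEquiv.prodComm R _ _).trans e2.symm))⟩

end Main

end Groth.Agent.H7.Steinitz
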