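import Mathlib
import Groth.Prelude.Def_Fitting
import Groth.Agent.H4.Fitting
import Groth.Agent.H4.Fitting10

/-! helper7: Fitting ideals of the quotient of a module by torsion, when a Fitting ideal is
generated by a nonzerodivisor (ring-level input for S8911, S8912, S8913). -/

set_option autoImplicit false

universe u v w

open Matrix

namespace Groth.Agent.H7.StrFit

open Groth.Agent.H4.Fitting

variable {R : Type u} [CommRing R] {M : Type v} [AddCommGroup M] [Module R M]

/-- if the tuple-wise Fitting ideal `G k x` is generated by a nonzerodivisor `f`, then for every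
prime `q` there is a relation matrix whose determinant is `t * f` with `t ∉ q`. -/
theorem exists_det_eq_mul {n : ℕ} (x : Fin n → M) (k : ℕ) (f : R) (hf : f ∈ nonZeroDivisors R)
    (hG : (G k x : Ideal R) = Ideal.span {f}) (q : Ideal R) [q.IsPrime] :
    ∃ (a : Matrix (Fin n) (Fin n) R) (T : Finset (Fin n)) (t : R), T.card ≤ k ∧
      (∀ i, i ∉ T → ∑ j, a i j • x j = 0) ∧ a.det = t * f ∧ t ∉ q := by
  classical
  let S : Set R := {d | ∃ (a : Matrix (Fin n) (Fin n) R) (T : Finset (Fin n)), T.card ≤ k ∧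
    (∀ i, i ∉ T → ∑ j, a i j • x j = 0) ∧ a.det = d * f}
  have key : ∀ z ∈ (G k x : Ideal R), ∃ e ∈ Ideal.span S, z = e * f := by
    intro z hz
    unfold G at hz
    induction hz using Submodule.span_induction with
    | mem z hz =>
      obtain ⟨a, T, hT, hr, rfl⟩ := hz
      have h1 : a.det ∈ Ideal.span {f} := hG ▸ det_mem_G a T hT hr
      obtain ⟨d, hd⟩ := Ideal.mem_span_singleton'.mp h1
      exact ⟨d, Ideal.subset_span ⟨a, T, hT, hr, hd.symm⟩, hd.symm⟩
    | zero => exact ⟨0, Ideal.zero_mem _, by simp⟩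
    | add z₁ z₂ _ _ h₁ h₂ =>
      obtain ⟨e₁, he₁, rfl⟩ := h₁
      obtain ⟨e₂, he₂, rfl⟩ := h₂
      exact ⟨e₁ + e₂, Ideal.add_mem _ he₁ he₂, by ring⟩
    | smul r z _ h₁ =>
      obtain ⟨e, he, rfl⟩ := h₁
      exact ⟨r * e, Ideal.mul_mem_left _ _ he, by simp [mul_assoc]⟩
  obtain ⟨e, he, hfe⟩ := key f (hG ▸ Ideal.mem_span_singleton_self f)
  have he1 : e = 1 := by
    have h1 : (e - 1) * f = 0 := by rw [sub_mul, one_mul, ← hfe, sub_self]
    have h2 := (mem_nonZeroDivisors_iff.mp hf).2 _ h1
    exact sub_eq_zero.mp h2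
  have hnot : ¬ (Ideal.span S ≤ q) := by
    intro h
    apply (inferInstance : q.IsPrime).ne_top
    rw [Ideal.eq_top_iff_one]
    exact h (he1 ▸ he)
  rw [Ideal.span_le] at hnot
  obtain ⟨t, ⟨a, T, hT, hr, hdet⟩, htq⟩ := Set.not_subset.mp hnot
  exact ⟨a, T, t, hT, hr, hdet, htq⟩


/-- **Fitting ideal of the torsion quotient**: if `Fit_k(M) = (f)` with `f` a nonzerodivisor and
`p : M → N` is a surjection killing the `f`-torsion, then `Fit_k(N)` is contained in no prime. -/
theorem fitt_quot_not_le {N : Type w} [AddCommGroup N] [Module R N] [Module.Finite R M]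
    (p : M →ₗ[R] N) (hp : Function.Surjective p) (k : ℕ) (f : R) (hf : f ∈ nonZeroDivisors R)
    (hk : Fitt.ideal R M k = Ideal.span {f}) (hker : ∀ m : M, f • m = 0 → p m = 0)
    (q : Ideal R) [q.IsPrime] : ¬ Fitt.ideal R N k ≤ q := by
  classical
  obtain ⟨n, x, hx⟩ := Module.Finite.exists_fin (R := R) (M := M)
  have hG : (G k x : Ideal R) = Ideal.span {f} := by rw [← ideal_eq_G k x hx, hk]
  obtain ⟨a, T, t, hT, hr, hdet, htq⟩ := exists_det_eq_mul x k f hf hG q
  have hc : ∀ j, ∃ c : Fin n → R, f • (t • x j - ∑ i, c i • yv x a i) = 0 :=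
    fun j => Q_span0 x a T k f t hT hr hdet hG.le j
  choose c hc using hc
  let z : Fin n ⊕ Fin n → N := Sum.elim (fun j => p (x j)) (fun i => p (yv x a i))
  have hz : Submodule.span R (Set.range z) = ⊤ := by
    rw [eq_top_iff]
    have h1 : Submodule.span R (Set.range (fun j => p (x j))) = ⊤ := by
      have : Set.range (fun j => p (x j)) = p '' Set.range x := by
        rw [← Set.range_comp]; rfl
      rw [this, ← Submodule.map_span, hx, Submodule.map_top, LinearMap.range_eq_top.mpr hp]
    rw [← h1]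
    refine Submodule.span_mono ?_
    rintro _ ⟨j, rfl⟩
    exact ⟨Sum.inl j, rfl⟩
  let A : Matrix (Fin n ⊕ Fin n) (Fin n ⊕ Fin n) R :=
    Matrix.fromBlocks (t • (1 : Matrix (Fin n) (Fin n) R)) (-(Matrix.of c)) 0 1
  have hdetA : A.det = t ^ n := by
    simp [A, Matrix.det_fromBlocks_zero₂₁]
  have hmem : A.det ∈ (G k z : Ideal R) := by
    refine det_mem_G A (T.map ⟨Sum.inr, Sum.inr_injective⟩) (by simpa using hT) ?_
    rintro (j | i) hi
    · rw [Fintype.sum_sum_type]
      have h1 : ∑ l, A (Sum.inl j) (Sum.inl l) • z (Sum.inl l) = t • p (x j) := by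
        simp [A, z, Matrix.one_apply, Finset.sum_ite_eq]
      have h2 : ∑ i, A (Sum.inl j) (Sum.inr i) • z (Sum.inr i) =
          - ∑ i, c j i • p (yv x a i) := by
        simp [A, z]
      rw [h1, h2]
      have h3 := hker _ (hc j)
      rw [map_sub, map_smul, map_sum] at h3
      simp only [map_smul] at h3
      rw [← sub_eq_add_neg]
      exact h3
    · have hiT : i ∉ T := fun h => hi (by simp [h])
      rw [Fintype.sum_sum_type]
      have h1 : ∑ l, A (Sum.inr i) (Sum.inl l) • z (Sum.inl l) = 0 := by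
        simp [A]
      have h2 : ∑ l, A (Sum.inr i) (Sum.inr l) • z (Sum.inr l) = p (yv x a i) := by
        simp [A, z, Matrix.one_apply, Finset.sum_ite_eq]
      rw [h1, h2, zero_add]
      have h3 : yv x a i = 0 := hr i hiT
      rw [h3, map_zero]
  rw [ideal_eq_G k z hz]
  intro hle
  have h4 := hle hmem
  rw [hdetA] at h4
  exact htq (Ideal.IsPrime.mem_of_pow_mem inferInstance n h4)

/-- the same conclusion in the form `Fit_k(N) = ⊤`. -/
theorem fitt_quot_eq_top {N : Type w} [AddCommGroup N] [Module R N] [Module.Finite R M]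
    (p : M →ₗ[R] N) (hp : Function.Surjective p) (k : ℕ) (f : R) (hf : f ∈ nonZeroDivisors R)
    (hk : Fitt.ideal R M k = Ideal.span {f}) (hker : ∀ m : M, f • m = 0 → p m = 0) :
    Fitt.ideal R N k = ⊤ := by
  by_contra hne
  obtain ⟨q, hq, hle⟩ := Ideal.exists_le_maximal _ hne
  haveI := hq.isPrime
  exact fitt_quot_not_le p hp k f hf hk hker q hle


/-- vanishing of a Fitting ideal passes to a quotient by power torsion of a nonzerodivisor
(general form of helper4's lemma for `S6915`). -/
theorem fitt_quot_eq_bot {N : Type w} [AddCommGroup N] [Module R N] [Module.Finite R M]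
    (p : M →ₗ[R] N) (hp : Function.Surjective p) (j : ℕ) (f : R) (hf : f ∈ nonZeroDivisors R)
    (h : Fitt.ideal R M j = ⊥) (hker : ∀ m : M, p m = 0 → ∃ e : ℕ, f ^ e • m = 0) :
    Fitt.ideal R N j = ⊥ := by
  classical
  obtain ⟨n, x, hx⟩ := Module.Finite.exists_fin (R := R) (M := M)
  have hx' : Submodule.span R (Set.range (fun i => p (x i))) = ⊤ := by
    have : Set.range (fun i => p (x i)) = p '' Set.range x := by
      rw [← Set.range_comp]; rfl
    rw [this, ← Submodule.map_span, hx, Submodule.map_top, LinearMap.range_eq_top.mpr hp]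
  rw [ideal_eq_G j x hx] at h
  rw [ideal_eq_G j _ hx', eq_bot_iff, G_le_iff]
  intro b T hT hr
  have hex : ∀ i, ∃ m : ℕ, i ∉ T → f ^ m • ∑ l, b i l • x l = 0 := by
    intro i
    by_cases hi : i ∈ T
    · exact ⟨0, fun h => absurd hi h⟩
    · have h1 := hr i hi
      simp_rw [← map_smul, ← map_sum] at h1
      obtain ⟨m, hm⟩ := hker _ h1
      exact ⟨m, fun _ => hm⟩
  choose m hm using hex
  let v : Fin n → R := fun i => if i ∈ T then 1 else f ^ m i
  have hdet := Matrix.det_mul_column v b
  have hmem : (Matrix.of fun i l => v i * b i l).det ∈ (G j x : Ideal R) := by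
    refine det_mem_G _ T hT ?_
    intro i hi
    simp only [Matrix.of_apply, v, if_neg hi, mul_smul]
    rw [← Finset.smul_sum]
    exact hm i hi
  rw [h, Ideal.mem_bot, hdet] at hmem
  have hv : (∏ i, v i) ∈ nonZeroDivisors R := by
    refine Submonoid.prod_mem _ (fun i _ => ?_)
    simp only [v]
    split_ifs
    · exact Submonoid.one_mem _
    · exact Submonoid.pow_mem _ hf _
  rw [Ideal.mem_bot]
  rw [mem_nonZeroDivisors_iff] at hv
  exact hv.1 _ hmem

end Groth.Agent.H7.StrFit
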