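import Mathlib
import Groth.Prelude.Def_BlowUp2
import Groth.Agent.Lib.Helper8.ProjTilde.QCCrit
import Groth.Agent.Lib.Lead.QC.SubExt
import Groth.Agent.Lib.Lead.QC.Closure
import Groth.Agent.Lib.Lead.QC.Gen
import Groth.Agent.Lib.Lead.QC.Affine

/-! helper7: the strict transform of a quasi-coherent module along a locally principal ideal is
quasi-coherent (for S8911, S8912, S8913, S19349). -/

set_option autoImplicit false

universe u

open CategoryTheory Limits AlgebraicGeometry TopologicalSpace Opposite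

namespace Groth.Agent.H7.StrQc

open Groth.Agent.LD.QC

variable {X : Scheme.{u}}

/-- `𝓔` is locally principal. -/
def LocPrincipal (𝓔 : X.IdealSheafData) : Prop :=
  ∀ x : X, ∃ U : X.affineOpens, x ∈ U.1 ∧ ∃ f : Γ(X, U.1), 𝓔.ideal U = Ideal.span {f}

lemma locPrincipal_of_isEffCartierIdeal {𝓔 : X.IdealSheafData} (h : BlowUp.IsEffCartierIdeal 𝓔) :
    LocPrincipal 𝓔 := fun x => by
  obtain ⟨U, hx, f, -, hf⟩ := h x
  exact ⟨U, hx, f, hf⟩

/-- on an affine open where `𝓔` is generated by `f`, a section is killed by a power of `𝓔` iff it is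
killed by a power of `f`. -/
lemma killedByPowerNear_iff_of_principal (𝓔 : X.IdealSheafData) (P : X.Modules) (U : X.affineOpens)
    (f : Γ(X, U.1)) (hf : 𝓔.ideal U = Ideal.span {f}) (m : Γ(P, U.1)) :
    BlowUp.KilledByPowerNear 𝓔 P U m ↔ ∃ n : ℕ, f ^ n • m = 0 := by
  constructor
  · rintro ⟨n, hn⟩
    refine ⟨n, hn _ ?_⟩
    rw [Scheme.IdealSheafData.ideal_pow, Pi.pow_apply, hf, Ideal.span_singleton_pow]
    exact Ideal.mem_span_singleton_self _
  · rintro ⟨n, hn⟩
    refine ⟨n, fun a ha => ?_⟩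
    rw [Scheme.IdealSheafData.ideal_pow, Pi.pow_apply, hf, Ideal.span_singleton_pow,
      Ideal.mem_span_singleton'] at ha
    obtain ⟨r, rfl⟩ := ha
    change (r * f ^ n) • m = 0
    rw [mul_smul, hn, smul_zero]

/-- principal generators restrict to principal generators on basic opens. -/
lemma ideal_basicOpen_of_principal (𝓔 : X.IdealSheafData) (U : X.affineOpens)
    (f : Γ(X, U.1)) (hf : 𝓔.ideal U = Ideal.span {f}) (h : Γ(X, U.1)) :
    𝓔.ideal (X.affineBasicOpen h) =
      Ideal.span {X.presheaf.map (homOfLE (X.basicOpen_le h)).op f} := by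
  rw [← 𝓔.map_ideal_basicOpen U h, hf, Ideal.map_span, Set.image_singleton]


/-- linearity of `app`. -/
lemma app_smul' {M N : X.Modules} (φ : M ⟶ N) (U : X.Opens) (r : Γ(X, U)) (m : Γ(M, U)) :
    φ.app U (r • m) = r • φ.app U m := Scheme.Modules.Hom.app_smul φ r m

/-- restriction is semilinear. -/
lemma res_smul (M : X.Modules) {U V : X.Opens} (h : V ≤ U) (r : Γ(X, U)) (m : Γ(M, U)) :
    M.presheaf.map (homOfLE h).op (r • m) =
      X.presheaf.map (homOfLE h).op r • M.presheaf.map (homOfLE h).op m :=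
  Scheme.Modules.map_smul M (homOfLE h) r m

/-- **the kernel of a strict-transform type quotient is quasi-coherent.** -/
theorem qc_kernel_of_killedByPower (𝓔 : X.IdealSheafData) (h𝓔 : LocPrincipal 𝓔)
    {P G : X.Modules} [P.IsQuasicoherent] (π : P ⟶ G)
    (hπ : ∀ (V : X.affineOpens) (m : P.presheaf.obj (op V.1)),
      π.app V.1 m = 0 ↔ BlowUp.KilledByPowerNear 𝓔 P V m) :
    (kernel π).IsQuasicoherent := by
  let ι := {U : X.affineOpens // ∃ f : Γ(X, U.1), 𝓔.ideal U = Ideal.span {f}}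
  refine Groth.Agent.H8.ProjTilde.qc_of_affine_localizing (kernel π) (ι := ι)
    (fun i => i.1.1) (fun i => i.1.2) ?_ ?_ ?_
  · -- cover
    rw [IsOpenCover, eq_top_iff]
    intro x _
    obtain ⟨U, hx, f, hf⟩ := h𝓔 x
    exact Opens.mem_iSup.mpr ⟨⟨U, f, hf⟩, hx⟩
  · -- surjectivity
    rintro ⟨U, f, hf⟩ h t
    obtain ⟨t', ht'⟩ : ∃ t', t' = (kernel.ι π).app (X.basicOpen h) t := ⟨_, rfl⟩
    have h1 : π.app (X.basicOpen h) t' = 0 := by
      rw [ht']; exact kernel_ι_app_comp π _ t
    have h2 := (hπ (X.affineBasicOpen h) t').mp h1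
    rw [killedByPowerNear_iff_of_principal 𝓔 P (X.affineBasicOpen h) _
      (ideal_basicOpen_of_principal 𝓔 U f hf h)] at h2
    obtain ⟨n, hn⟩ := h2
    obtain ⟨e, s₀, hs₀⟩ := affine_surj P U.2 h t'
    have h3 : P.presheaf.map (homOfLE (X.basicOpen_le h)).op (f ^ n • s₀) = 0 := by
      have hn' : (X.presheaf.map (homOfLE (X.basicOpen_le h)).op f) ^ n •
          (t' : Γ(P, X.basicOpen h)) = 0 := hn
      rw [res_smul, hs₀, map_pow, smul_comm, hn', smul_zero]
    obtain ⟨e', he'⟩ := affine_inj P U.2 h _ h3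
    have h4 : π.app U.1 (h ^ e' • s₀) = 0 := by
      rw [hπ U, killedByPowerNear_iff_of_principal 𝓔 P U f hf]
      refine ⟨n, ?_⟩
      rw [smul_comm]
      exact he'
    obtain ⟨s, hs⟩ := exists_kernel_section π U.1 _ h4
    refine ⟨e + e', s, ?_⟩
    apply mono_app (kernel.ι π) (X.basicOpen h)
    rw [app_res, hs, app_smul', ← ht', res_smul, hs₀, map_pow, smul_smul, ← pow_add, add_comm]
  · -- injectivity
    rintro ⟨U, f, hf⟩ h s hs
    have h1 : P.presheaf.map (homOfLE (X.basicOpen_le h)).op ((kernel.ι π).app U.1 s) = 0 := by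
      rw [← app_res, hs, map_zero]
    obtain ⟨n, hn⟩ := affine_inj P U.2 h _ h1
    refine ⟨n, ?_⟩
    apply mono_app (kernel.ι π) U.1
    rw [app_smul', hn, map_zero]


/-- **the strict transform of a quasi-coherent module along a locally principal ideal is
quasi-coherent.** -/
theorem qc_of_killedByPower (𝓔 : X.IdealSheafData) (h𝓔 : LocPrincipal 𝓔)
    {P G : X.Modules} [P.IsQuasicoherent] (π : P ⟶ G) [Epi π]
    (hπ : ∀ (V : X.affineOpens) (m : P.presheaf.obj (op V.1)),
      π.app V.1 m = 0 ↔ BlowUp.KilledByPowerNear 𝓔 P V m) :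
    G.IsQuasicoherent := by
  have hK := qc_kernel_of_killedByPower 𝓔 h𝓔 π hπ
  have hC : (cokernel (kernel.ι π)).IsQuasicoherent := qc_cokernel _ hK inferInstance
  have hcol : IsColimit (CokernelCofork.ofπ π (kernel.condition π)) :=
    Abelian.epiIsCokernelOfKernel (Fork.ofι (kernel.ι π) (by simp)) (kernelIsKernel π)
  exact qc_of_iso ((cokernelIsCokernel (kernel.ι π)).coconePointUniqueUpToIso hcol) hC

/-- sections of the strict transform over an affine open: surjectivity. -/
theorem app_surjective_of_killedByPower (𝓔 : X.IdealSheafData) (h𝓔 : LocPrincipal 𝓔)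
    {P G : X.Modules} [P.IsQuasicoherent] (π : P ⟶ G) [Epi π]
    (hπ : ∀ (V : X.affineOpens) (m : P.presheaf.obj (op V.1)),
      π.app V.1 m = 0 ↔ BlowUp.KilledByPowerNear 𝓔 P V m) {U : X.Opens} (hU : IsAffineOpen U) :
    Function.Surjective (π.app U) :=
  epi_app_affine inferInstance (qc_of_killedByPower 𝓔 h𝓔 π hπ) π hU

end Groth.Agent.H7.StrQc
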