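import Mathlib
import Groth.Prelude.Def_BlowUp2
import Groth.Prelude.Def_Coh
import Groth.Agent.Lib.Helper7.StrQcA
import Groth.Agent.Lib.Lead.QC.Pullback
import Groth.Agent.Lib.Lead.QC.Coh

/-! helper7: strict transforms along blow-ups are quasi-coherent / coherent (S19349). -/

set_option autoImplicit false

universe u

open CategoryTheory Limits AlgebraicGeometry TopologicalSpace Opposite

namespace Groth.Agent.H7.StrQc

open Groth.Agent.LD.QC

variable {X X' : Scheme.{u}}

/-- the strict transform of a quasi-coherent module along a morphism making the centre effective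
Cartier is quasi-coherent. -/
theorem qc_strictTransform (b : X' ⟶ X) (𝓘 : X.IdealSheafData)
    (hE : BlowUp.IsEffCartierIdeal (𝓘.comap b)) (F : X.Modules) [F.IsQuasicoherent]
    (G : X'.Modules) (π : (Scheme.Modules.pullback b).obj F ⟶ G)
    (hG : BlowUp.IsStrictTransform b 𝓘 F G π) : G.IsQuasicoherent := by
  haveI := qc_pullback b F
  haveI := hG.1
  exact qc_of_killedByPower (𝓘.comap b) (locPrincipal_of_isEffCartierIdeal hE) π hG.2

/-- the strict transform of a finite type quasi-coherent module is of finite type. -/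
theorem isFiniteType_strictTransform (b : X' ⟶ X) (𝓘 : X.IdealSheafData)
    (hE : BlowUp.IsEffCartierIdeal (𝓘.comap b)) (F : X.Modules) [F.IsQuasicoherent]
    (hF : F.IsFiniteType)
    (G : X'.Modules) (π : (Scheme.Modules.pullback b).obj F ⟶ G)
    (hG : BlowUp.IsStrictTransform b 𝓘 F G π) : G.IsFiniteType := by
  haveI := qc_pullback b F
  haveI := hG.1
  exact isFiniteType_of_epi π inferInstance (qc_strictTransform b 𝓘 hE F G π hG)
    (isFiniteType_pullback b F hF)

theorem S19349_main (𝓘 : X.IdealSheafData) (b : X' ⟶ X) (hb : BlowUp.IsBlowUp b 𝓘)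
    (F : X.Modules) (hF : Coh.IsCoh F) (G : X'.Modules)
    (π : (Scheme.Modules.pullback b).obj F ⟶ G)
    (hG : BlowUp.IsStrictTransform b 𝓘 F G π) : Coh.IsCoh G := by
  haveI : F.IsQuasicoherent := hF.1
  exact ⟨qc_strictTransform b 𝓘 hb.1 F G π hG, isFiniteType_strictTransform b 𝓘 hb.1 F hF.2 G π hG⟩

end Groth.Agent.H7.StrQc
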