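import Mathlib
import Groth.Prelude.Def_BlowUp2
import Groth.Prelude.Def_Fitting
import Groth.Agent.Lib.Helper7.StrQcB
import Groth.Agent.Lib.Helper7.StrFitA
import Groth.Agent.Lib.Helper3.JacLocus
import Groth.Agent.H4.FittSheaf
import Groth.Agent.S8872
import Groth.Agent.S8874

/-! helper7: strict transform along the blow-up in a Fitting ideal (S8911). -/

set_option autoImplicit false

universe u

open CategoryTheory Limits AlgebraicGeometry TopologicalSpace Opposite

namespace Groth.Agent.H7.StrFit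

open Groth.Agent.LD.QC Groth.Agent.H7.StrQc Groth.Agent.H4.FittSheaf

variable {S S' : Scheme.{u}}

/-- on an affine open where the exceptional ideal is generated by `f`, the strict transform map kills
the `f`-torsion. -/
lemma app_eq_zero_of_smul_eq_zero (b : S' ⟶ S) (𝓘 : S.IdealSheafData) (F : S.Modules)
    (G : S'.Modules) (π : (Scheme.Modules.pullback b).obj F ⟶ G)
    (hG : BlowUp.IsStrictTransform b 𝓘 F G π) (V : S'.affineOpens) (f : Γ(S', V.1))
    (hf : (𝓘.comap b).ideal V = Ideal.span {f})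
    (m : Γ((Scheme.Modules.pullback b).obj F, V.1)) (e : ℕ) (hm : f ^ e • m = 0) :
    π.app V.1 m = 0 := by
  rw [hG.2 V m, killedByPowerNear_iff_of_principal _ _ V f hf]
  exact ⟨e, hm⟩

lemma exists_pow_smul_eq_zero_of_app_eq_zero (b : S' ⟶ S) (𝓘 : S.IdealSheafData) (F : S.Modules)
    (G : S'.Modules) (π : (Scheme.Modules.pullback b).obj F ⟶ G)
    (hG : BlowUp.IsStrictTransform b 𝓘 F G π) (V : S'.affineOpens) (f : Γ(S', V.1))
    (hf : (𝓘.comap b).ideal V = Ideal.span {f})
    (m : Γ((Scheme.Modules.pullback b).obj F, V.1)) (hm : π.app V.1 m = 0) :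
    ∃ e : ℕ, f ^ e • m = 0 := by
  rw [hG.2 V m, killedByPowerNear_iff_of_principal _ _ V f hf] at hm
  exact hm

/-- the `k`-th Fitting ideal of the strict transform along the blow-up in `Fit_k` is the unit ideal
at every point. -/
theorem not_mem_support_fitt_strictTransform (F : S.Modules) [F.IsQuasicoherent]
    (hft : F.IsFiniteType) (k : ℕ) (b : S' ⟶ S)
    (hE : BlowUp.IsEffCartierIdeal ((Fitt.sheafIdeal F k).comap b)) (G : S'.Modules)
    (π : (Scheme.Modules.pullback b).obj F ⟶ G)
    (hG : BlowUp.IsStrictTransform b (Fitt.sheafIdeal F k) F G π) (s' : S') :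
    s' ∉ (Fitt.sheafIdeal G k).support := by
  haveI hPq := qc_pullback b F
  have hPft := isFiniteType_pullback b F hft
  haveI hGq := qc_strictTransform b _ hE F G π hG
  have hGft := isFiniteType_strictTransform b _ hE F hft G π hG
  haveI := hG.1
  obtain ⟨V, hsV, f, hf, hfI⟩ := hE s'
  rw [Groth.Agent.H3.JacLocus.mem_support_sheafIdeal_iff G hGft k V.2 s' hsV]
  have hEq : (Fitt.sheafIdeal F k).comap b =
      Fitt.sheafIdeal ((Scheme.Modules.pullback b).obj F) k :=
    Groth.Agent.S8872.result b F inferInstance hft k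
  have hk : Fitt.ideal Γ(S', V.1) Γ((Scheme.Modules.pullback b).obj F, V.1) k = Ideal.span {f} := by
    rw [← sheafIdeal_ideal _ hPft k V, ← hEq, hfI]
  haveI : Module.Finite Γ(S', V.1) Γ((Scheme.Modules.pullback b).obj F, V.1) :=
    finite_sections_of_isFiniteType _ hPft V.2
  exact fitt_quot_not_le (appLinear π V.1)
    (app_surjective_of_killedByPower _ (locPrincipal_of_isEffCartierIdeal hE) π hG.2 V.2) k f hf hk
    (fun m hm => app_eq_zero_of_smul_eq_zero b _ F G π hG V f hfI m 1 (by simpa using hm)) _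

theorem S8911_main (F : S.Modules) (hF : Coh.IsQCoh F) (hft : CohB1.IsFT F)
    (k : ℕ) (b : S' ⟶ S) (hb : BlowUp.IsBlowUp b (Fitt.sheafIdeal F k)) (G : S'.Modules)
    (π : (Scheme.Modules.pullback b).obj F ⟶ G)
    (hG : BlowUp.IsStrictTransform b (Fitt.sheafIdeal F k) F G π) (s' : ↥S') :
    ∃ U : S'.Opens, s' ∈ U ∧ ∃ q : FlatMod.freeMod (↑U) k ⟶ G.restrict U.ι, Epi q := by
  haveI : F.IsQuasicoherent := hF
  have hGq := qc_strictTransform b _ hb.1 F G π hG
  have hGft := isFiniteType_strictTransform b _ hb.1 F hft G π hG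
  exact (Groth.Agent.S8874.result S' G hGq hGft s' k).mpr
    (not_mem_support_fitt_strictTransform F hft k b hb.1 G π hG s')

end Groth.Agent.H7.StrFit
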