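import Mathlib
import Groth.Prelude.Def_BlowUp2
import Groth.Prelude.Def_FlatMod2
import Groth.Agent.Lib.Lead.QC.StalkPullback
import Groth.Agent.Lib.Lead.QC.Iso
import Groth.Agent.Lib.Helper2.AssSch1
import Groth.Agent.Lib.Helper7.RelCartC
import Groth.Agent.Lib.Helper1.CartierKit

/-! helper7: sections killed by a power of an effective Cartier ideal vanish on modules flat along
its support (for S1696, S19350). -/

set_option autoImplicit false

universe u

open CategoryTheory Limits AlgebraicGeometry TopologicalSpace Opposite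

namespace Groth.Agent.H7.StrTr

variable {X : Scheme.{u}}

/-- the stalk of an ideal sheaf does not depend on the affine chart. -/
theorem map_germ_ideal_eq (𝓘 : X.IdealSheafData) (U V : X.affineOpens) (x : X) (hxU : x ∈ U.1)
    (hxV : x ∈ V.1) :
    Ideal.map (X.presheaf.germ U.1 x hxU).hom (𝓘.ideal U) =
      Ideal.map (X.presheaf.germ V.1 x hxV).hom (𝓘.ideal V) := by
  obtain ⟨W, hW, hxW, eW⟩ :=
    exists_isAffineOpen_mem_and_subset (x := x) (U := U.1 ⊓ V.1) ⟨hxU, hxV⟩
  have key : ∀ (U' : X.affineOpens) (hxU' : x ∈ U'.1) (e : W ≤ U'.1),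
      Ideal.map (X.presheaf.germ U'.1 x hxU').hom (𝓘.ideal U') =
        Ideal.map (X.presheaf.germ W x hxW).hom (𝓘.ideal ⟨W, hW⟩) := by
    intro U' hxU' e
    rw [← 𝓘.map_ideal (U := ⟨W, hW⟩) (V := U') e, Ideal.map_map]
    congr 1
    have := X.presheaf.germ_res (homOfLE e) x hxW
    rw [← this]
    rfl
  rw [key U hxU (eW.trans inf_le_left), key V hxV (eW.trans inf_le_right)]

/-- germs commute with scalar multiplication -/
lemma germ_smul (M : X.Modules) (x : X) (U : X.Opens) (hx : x ∈ U) (r : Γ(X, U)) (m : Γ(M, U)) :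
    M.presheaf.germ U x hx (r • m) = X.presheaf.germ U x hx r • M.presheaf.germ U x hx m :=
  PresheafOfModules.germ_smul (R := X.presheaf)
    (show PresheafOfModules (X.presheaf ⋙ forget₂ CommRingCat RingCat) from M.val) x U hx r m

/-- **key lemma**: on a module which is flat at the points of the support of an effective Cartier
ideal `𝓔`, a section over an affine open killed by a power of `𝓔` vanishes. -/
theorem eq_zero_of_killedByPowerNear (𝓔 : X.IdealSheafData) (h𝓔 : BlowUp.IsEffCartierIdeal 𝓔)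
    (M : X.Modules) (hM : ∀ x : X, x ∈ 𝓔.support → FlatMod.IsFlatAt M x) (V : X.affineOpens)
    (m : M.presheaf.obj (op V.1)) (hm : BlowUp.KilledByPowerNear 𝓔 M V m) : m = 0 := by
  obtain ⟨n, hn⟩ := hm
  refine Groth.Agent.LD.QC.section_eq_zero_of_germ M m fun x hx => ?_
  by_cases hxs : x ∈ 𝓔.support
  · obtain ⟨U, hxU, t, ht, hIt⟩ := h𝓔 x
    haveI : Module.Flat (X.presheaf.stalk x) (M.presheaf.stalk x) := hM x hxs
    obtain ⟨t₀, ht₀def⟩ : ∃ t₀, t₀ = X.presheaf.germ U.1 x hxU t := ⟨_, rfl⟩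
    have ht₀ : t₀ ∈ nonZeroDivisors (X.presheaf.stalk x) := by
      rw [ht₀def]
      exact Groth.Agent.H7.RelCart.germ_mem_nonZeroDivisors U.2 x hxU t ht
    have hreg : IsSMulRegular (M.presheaf.stalk x) (t₀ ^ n) :=
      Module.Flat.isSMulRegular_of_nonZeroDivisors (pow_mem ht₀ n)
    have hmem : t₀ ^ n ∈ Ideal.map (X.presheaf.germ V.1 x hx).hom ((𝓔 ^ n).ideal V) := by
      rw [Scheme.IdealSheafData.ideal_pow, Pi.pow_apply, Ideal.map_pow,
        ← map_germ_ideal_eq 𝓔 U V x hxU hx, hIt, Ideal.map_span, Set.image_singleton,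
        Ideal.span_singleton_pow, ht₀def]
      exact Ideal.mem_span_singleton_self _
    have hkill : ∀ c ∈ Ideal.map (X.presheaf.germ V.1 x hx).hom ((𝓔 ^ n).ideal V),
        c • M.presheaf.germ V.1 x hx m = 0 := by
      intro c hc
      refine Submodule.span_induction (p := fun c _ => c • M.presheaf.germ V.1 x hx m = 0)
        ?_ ?_ ?_ ?_ hc
      · rintro _ ⟨a, ha, rfl⟩
        change (X.presheaf.germ V.1 x hx) a • _ = 0
        rw [← germ_smul, hn a ha, map_zero]
      · exact zero_smul _ _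
      · intro a b _ _ ha hb
        rw [add_smul, ha, hb, add_zero]
      · intro a b _ hb
        rw [smul_eq_mul, mul_smul, hb, smul_zero]
    exact hreg ((hkill _ hmem).trans (smul_zero _).symm)
  · have h1 : ¬ x ∈ X.zeroLocus (U := V.1) (𝓔.ideal V) := fun h =>
      hxs ((Scheme.IdealSheafData.mem_support_iff_of_mem (I := 𝓔) (U := V) hx).mpr h)
    rw [Scheme.mem_zeroLocus_iff] at h1
    push_neg at h1
    obtain ⟨a, ha, hxa⟩ := h1
    have han : a ^ n ∈ (𝓔 ^ n).ideal V := by
      rw [Scheme.IdealSheafData.ideal_pow, Pi.pow_apply]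
      exact Ideal.pow_mem_pow ha n
    have hnot : a ^ n ∉ (V.2.primeIdealOf ⟨x, hx⟩).asIdeal := by
      intro h
      have h2 := (V.2.primeIdealOf ⟨x, hx⟩).isPrime.mem_of_pow_mem n h
      rw [Groth.Agent.H1.CartierKit.mem_primeIdealOf_iff V.2 x hx a] at h2
      exact h2 hxa
    exact Groth.Agent.H2.AssSch.germ_eq_zero_of_smul_eq_zero M V.2 x hx m (a ^ n) hnot (hn _ han)

end Groth.Agent.H7.StrTr
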