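import Mathlib
import Groth.Prelude.Def_BlowUp2
import Groth.Prelude.Def_Fitting
import Groth.Agent.Lib.Helper7.StrFitB
import Groth.Agent.H4.NT6
import Groth.Agent.H4.FAmp3
import Groth.Agent.H4.LFP1
import Groth.Agent.H4.Fitting6
import Groth.Agent.Lib.Lead.QC.Stalk
import Groth.Agent.Lib.Lead.QC.CartierCompl
import Groth.Agent.Lib.Helper7.StrTrA
import Groth.Agent.S8875

/-! helper7: Fitting ideals of stalks; strict transform along the Fitting blow-up is locally free
(S8912). -/

set_option autoImplicit false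

universe u

open CategoryTheory Limits AlgebraicGeometry TopologicalSpace Opposite

namespace Groth.Agent.H7.StrFit

open Groth.Agent.LD.QC Groth.Agent.H7.StrQc Groth.Agent.H4.FittSheaf Groth.Agent.H4.Fitting

/-- vanishing of Fitting ideals is invariant under semilinear equivalences. -/
theorem fitt_eq_bot_of_semilinear {R R' : Type u} {M M' : Type u} [CommRing R] [CommRing R']
    [AddCommGroup M] [Module R M] [AddCommGroup M'] [Module R' M'] (σ : R ≃+* R') (e : M ≃+ M')
    (he : ∀ (r : R) (m : M), e (r • m) = σ r • e m) (k : ℕ) (h : Fitt.ideal R M k = ⊥) :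
    Fitt.ideal R' M' k = ⊥ := by
  have hes : ∀ (r' : R') (m' : M'), e.symm (r' • m') = σ.symm r' • e.symm m' := by
    intro r' m'
    apply e.injective
    rw [he, e.apply_symm_apply, σ.apply_symm_apply, e.apply_symm_apply]
  rw [eq_bot_iff]
  unfold Fitt.ideal
  rw [Ideal.span_le]
  rintro d ⟨n, x', a', hx', hr', rfl⟩
  have hmem : (a'.map σ.symm).det ∈ Fitt.ideal R M k := by
    refine Ideal.subset_span ⟨n, fun i => e.symm (x' i), a'.map σ.symm, ?_, ?_, rfl⟩
    · refine Groth.Agent.H4.NT6.eq_top_of_semilinear σ e he _ (Set.range x') hx' ?_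
      rintro _ ⟨i, rfl⟩
      exact Submodule.subset_span ⟨i, rfl⟩
    · intro i hi
      have h1 := hr' i hi
      have h2 : e.symm (∑ j, a' i j • x' j) = 0 := by rw [h1, map_zero]
      rw [map_sum] at h2
      simp only [hes] at h2
      exact h2
  rw [h, Ideal.mem_bot] at hmem
  have h3 : a'.det = σ ((a'.map σ.symm).det) := by
    have := RingHom.map_det σ.toRingHom (a'.map σ.symm)
    rw [RingEquiv.toRingHom_eq_coe, RingEquiv.coe_toRingHom] at this
    rw [this]
    congr 1
    ext i j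
    simp
  rw [SetLike.mem_coe, Ideal.mem_bot, h3, hmem, map_zero]


variable {S S' : Scheme.{u}}

/-- the Fitting ideals of a stalk of a quasi-coherent module of finite type are the extensions of
the Fitting ideals of the sections over an affine chart. -/
theorem fitt_stalk_eq_map (F : S.Modules) [F.IsQuasicoherent] (hft : F.IsFiniteType)
    {U : S.Opens} (hU : IsAffineOpen U) (x : S) (hx : x ∈ U) (k : ℕ) :
    Fitt.ideal (S.presheaf.stalk x) (F.presheaf.stalk x) k =
      (Fitt.ideal Γ(S, U) Γ(F, U) k).map (S.presheaf.germ U x hx).hom := by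
  letI := stalkΓModule F x U hx
  haveI := isLocalizedModule_germ F hU x hx
  letI : Algebra Γ(S, U) (S.presheaf.stalk x) :=
    TopCat.Presheaf.algebra_section_stalk S.presheaf ⟨x, hx⟩
  haveI := hU.isLocalization_stalk ⟨x, hx⟩
  haveI : IsScalarTower Γ(S, U) (S.presheaf.stalk x) (F.presheaf.stalk x) :=
    IsScalarTower.of_algebraMap_smul fun r m => rfl
  haveI : Module.Finite Γ(S, U) Γ(F, U) := finite_sections_of_isFiniteType F hft hU
  exact fitt_isLocalizedModule (germLinear F x U hx)
    (hU.primeIdealOf ⟨x, hx⟩).asIdeal.primeCompl k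

/-- the pointwise hypothesis: below `k`, the Fitting ideals of the stalks vanish off `V(Fit_k)`. -/
def FittVanishOff (F : S.Modules) (k : ℕ) : Prop :=
  ∀ x : S, x ∉ (Fitt.sheafIdeal F k).support → ∀ k' : ℕ, k' < k →
    Fitt.ideal (S.presheaf.stalk x) (F.presheaf.stalk x) k' = ⊥

/-- the pointwise hypothesis holds if `F` is locally free of rank `k` off `V(Fit_k)`. -/
theorem fittVanishOff_of_isFinLocFreeOfRank (F : S.Modules) (k : ℕ)
    (hfree : FlatMod.IsFinLocFreeOfRank k
      (F.restrict (Scheme.Opens.ι (Fitt.sheafIdeal F k).support.compl))) :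
    FittVanishOff F k := by
  intro x hx k' hk'
  obtain ⟨U₀, hU₀⟩ : ∃ U₀ : S.Opens, U₀ = (Fitt.sheafIdeal F k).support.compl := ⟨_, rfl⟩
  rw [← hU₀] at hfree
  have hxU : x ∈ U₀ := by rw [hU₀]; exact hx
  let y : (U₀ : Scheme.{u}) := ⟨x, hxU⟩
  obtain ⟨hfr, hfin, hrk⟩ :=
    Groth.Agent.H4.LFP1.stalk_of_isFinLocFreeOfRank k (F.restrict U₀.ι) hfree y
  have h1 : Fitt.ideal ((U₀ : Scheme.{u}).presheaf.stalk y)
      ((F.restrict U₀.ι).presheaf.stalk y) k' = ⊥ :=
    ideal_eq_bot_of_basis (Module.finBasisOfFinrankEq _ _ hrk) (by simpa using hk')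
  exact fitt_eq_bot_of_semilinear (Groth.Agent.H4.FAmp3.stalkRingEquiv U₀.ι y)
    (Groth.Agent.H4.FAmp3.stalkRestrictAddEquiv U₀.ι F y)
    (Groth.Agent.H4.FAmp3.stalkRestrictAddEquiv_smul U₀.ι F y) k' h1

/-- the pointwise hypothesis holds if the lower Fitting ideal sheaves vanish. -/
theorem fittVanishOff_of_sheafIdeal_eq_bot (F : S.Modules) [F.IsQuasicoherent]
    (hft : F.IsFiniteType) (k : ℕ) (h : ∀ k' : ℕ, k' < k → Fitt.sheafIdeal F k' = ⊥) :
    FittVanishOff F k := by
  intro x _ k' hk'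
  obtain ⟨U, hU, hxU, -⟩ := exists_isAffineOpen_mem_and_subset (x := x) (U := ⊤) trivial
  rw [fitt_stalk_eq_map F hft hU x hxU k', ← sheafIdeal_ideal F hft k' ⟨U, hU⟩, h k' hk']
  exact Ideal.map_bot


/-- germs of sections of the lower Fitting ideals vanish off `V(Fit_k)`. -/
lemma germ_eq_zero_of_fittVanishOff (F : S.Modules) [F.IsQuasicoherent] (hft : F.IsFiniteType)
    (k : ℕ) (hH : FittVanishOff F k) (k' : ℕ) (hk' : k' < k) (W₀ : S.affineOpens)
    (y : Γ(S, W₀.1)) (hy : y ∈ (Fitt.sheafIdeal F k').ideal W₀) (x : S) (hx : x ∈ W₀.1)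
    (hxs : x ∉ (Fitt.sheafIdeal F k).support) : S.presheaf.germ W₀.1 x hx y = 0 := by
  have h1 : (S.presheaf.germ W₀.1 x hx).hom y ∈
      (Fitt.ideal Γ(S, W₀.1) Γ(F, W₀.1) k').map (S.presheaf.germ W₀.1 x hx).hom :=
    Ideal.mem_map_of_mem _ (by rwa [← sheafIdeal_ideal F hft k' W₀])
  rw [← fitt_stalk_eq_map F hft W₀.2 x hx k', hH x hxs k' hk'] at h1
  exact h1

/-- on a small affine open of the blow-up, the inverse image of the lower Fitting ideals
vanishes. -/
lemma comap_ideal_eq_bot (F : S.Modules) [F.IsQuasicoherent] (hft : F.IsFiniteType)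
    (k : ℕ) (hH : FittVanishOff F k) (b : S' ⟶ S) (k' : ℕ) (hk' : k' < k)
    (W₀ : S.affineOpens) (V : S'.affineOpens) (e : V.1 ≤ b ⁻¹ᵁ W₀.1) (f : Γ(S', V.1))
    (hf : f ∈ nonZeroDivisors Γ(S', V.1))
    (hfI : ((Fitt.sheafIdeal F k).comap b).ideal V = Ideal.span {f}) :
    ((Fitt.sheafIdeal F k').comap b).ideal V = ⊥ := by
  rw [ideal_comap_of_le _ b W₀ V e, Ideal.map_eq_bot_iff_le_ker]
  intro y hy
  rw [RingHom.mem_ker]
  obtain ⟨y', hy'⟩ : ∃ y', y' = (b.appLE W₀.1 V.1 e).hom y := ⟨_, rfl⟩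
  rw [← hy']
  have hres : S'.presheaf.map (homOfLE (S'.basicOpen_le f)).op y' = 0 := by
    refine TopCat.Presheaf.section_ext S'.sheaf (S'.basicOpen f) _ _ (fun x'' hx'' => ?_)
    have hxV : x'' ∈ V.1 := S'.basicOpen_le f hx''
    have h0 : S'.presheaf.germ (S'.basicOpen f) x'' hx'' 0 = 0 := map_zero _
    have h1 : S'.presheaf.germ (S'.basicOpen f) x'' hx''
        (S'.presheaf.map (homOfLE (S'.basicOpen_le f)).op y') = S'.presheaf.germ V.1 x'' hxV y' :=
      TopCat.Presheaf.germ_res_apply S'.presheaf (homOfLE (S'.basicOpen_le f)) x'' hx'' y'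
    refine (h1.trans ?_).trans h0.symm
    have hns : x'' ∉ ((Fitt.sheafIdeal F k).comap b).support := by
      have h2 := compl_support_inf_eq_basicOpen ((Fitt.sheafIdeal F k).comap b) V f hfI
      have h3 : x'' ∈ ((Fitt.sheafIdeal F k).comap b).support.compl ⊓ V.1 := by
        rw [h2]; exact hx''
      exact h3.1
    have hns' : b.base x'' ∉ (Fitt.sheafIdeal F k).support := by
      intro h
      apply hns
      rw [Scheme.IdealSheafData.support_comap]
      exact h
    have h4 := germ_eq_zero_of_fittVanishOff F hft k hH k' hk' W₀ y hy (b.base x'') (e hxV) hns'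
    have h5 := Groth.Agent.LD.QC.stalkMap_germ_appLE b e x'' hxV y
    rw [hy']
    refine h5.symm.trans ?_
    erw [h4]
    exact map_zero _
  haveI : IsLocalization.Away f Γ(S', S'.basicOpen f) := V.2.isLocalization_basicOpen f
  have h6 : algebraMap Γ(S', V.1) Γ(S', S'.basicOpen f) y' = 0 := hres
  rw [IsLocalization.map_eq_zero_iff (Submonoid.powers f)] at h6
  obtain ⟨⟨m, n, rfl⟩, hm⟩ := h6
  have h7 := (mem_nonZeroDivisors_iff.mp (pow_mem hf n)).1 y' hm
  exact h7


/-- restrictions of nonzerodivisors to basic opens are nonzerodivisors. -/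
lemma res_mem_nonZeroDivisors (V : S'.affineOpens) (h f : Γ(S', V.1))
    (hf : f ∈ nonZeroDivisors Γ(S', V.1)) :
    S'.presheaf.map (homOfLE (S'.basicOpen_le h)).op f ∈
      nonZeroDivisors Γ(S', S'.basicOpen h) := by
  haveI : IsLocalization.Away h Γ(S', S'.basicOpen h) := V.2.isLocalization_basicOpen h
  exact IsLocalization.map_nonZeroDivisors_le (Submonoid.powers h) _
    (Submonoid.mem_map_of_mem _ hf)

/-- **core**: the strict transform along a morphism making `Fit_k(F)` effective Cartier is finite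
locally free of rank `k`, provided the lower Fitting ideals of the stalks vanish off `V(Fit_k)`. -/
theorem isFinLocFreeOfRank_strictTransform (F : S.Modules) [F.IsQuasicoherent]
    (hft : F.IsFiniteType) (k : ℕ) (hH : FittVanishOff F k) (b : S' ⟶ S)
    (hE : BlowUp.IsEffCartierIdeal ((Fitt.sheafIdeal F k).comap b)) (G : S'.Modules)
    (π : (Scheme.Modules.pullback b).obj F ⟶ G)
    (hG : BlowUp.IsStrictTransform b (Fitt.sheafIdeal F k) F G π) :
    FlatMod.IsFinLocFreeOfRank k G := by
  haveI hPq := qc_pullback b F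
  have hPft := isFiniteType_pullback b F hft
  haveI hGq := qc_strictTransform b _ hE F G π hG
  have hGft := isFiniteType_strictTransform b _ hE F hft G π hG
  haveI := hG.1
  refine (Groth.Agent.S8875.result S' G hGq hGft k).mpr ⟨fun k' hk' => ?_, fun k' hk' => ?_⟩
  · -- vanishing below `k`
    have key : ∀ x' : S', ∃ V : S'.affineOpens, x' ∈ V.1 ∧ (Fitt.sheafIdeal G k').ideal V = ⊥ := by
      intro x'
      obtain ⟨V₁, hxV₁, f, hf, hfI⟩ := hE x'
      obtain ⟨W₀, hW₀, hxW₀, -⟩ :=
        exists_isAffineOpen_mem_and_subset (x := b.base x') (U := ⊤) trivial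
      obtain ⟨h, hle, hxh⟩ := V₁.2.exists_basicOpen_le (V := b ⁻¹ᵁ W₀) ⟨x', hxW₀⟩ hxV₁
      refine ⟨S'.affineBasicOpen h, hxh, ?_⟩
      have hfI' := ideal_basicOpen_of_principal _ V₁ f hfI h
      have hf' := res_mem_nonZeroDivisors V₁ h f hf
      have hEq : (Fitt.sheafIdeal F k').comap b =
          Fitt.sheafIdeal ((Scheme.Modules.pullback b).obj F) k' :=
        Groth.Agent.S8872.result b F inferInstance hft k'
      have hM : Fitt.ideal Γ(S', (S'.affineBasicOpen h).1)
          Γ((Scheme.Modules.pullback b).obj F, (S'.affineBasicOpen h).1) k' = ⊥ := by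
        rw [← sheafIdeal_ideal _ hPft k' (S'.affineBasicOpen h), ← hEq]
        exact comap_ideal_eq_bot F hft k hH b k' hk' ⟨W₀, hW₀⟩ (S'.affineBasicOpen h) hle _ hf' hfI'
      haveI : Module.Finite Γ(S', (S'.affineBasicOpen h).1)
          Γ((Scheme.Modules.pullback b).obj F, (S'.affineBasicOpen h).1) :=
        finite_sections_of_isFiniteType _ hPft (S'.affineBasicOpen h).2
      rw [sheafIdeal_ideal G hGft k' (S'.affineBasicOpen h)]
      exact fitt_quot_eq_bot (appLinear π (S'.affineBasicOpen h).1)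
        (app_surjective_of_killedByPower _ (locPrincipal_of_isEffCartierIdeal hE) π hG.2
          (S'.affineBasicOpen h).2) k' _ hf' hM
        (fun m hm => exists_pow_smul_eq_zero_of_app_eq_zero b _ F G π hG
          (S'.affineBasicOpen h) _ hfI' m hm)
    rw [eq_bot_iff, Scheme.IdealSheafData.le_def]
    intro U y hy
    rw [Scheme.IdealSheafData.ideal_bot, Pi.bot_apply, Ideal.mem_bot]
    refine TopCat.Presheaf.section_ext S'.sheaf U.1 _ _ (fun x' hx' => ?_)
    obtain ⟨V, hxV, hV⟩ := key x'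
    have h1 : (S'.presheaf.germ U.1 x' hx').hom y ∈
        Ideal.map (S'.presheaf.germ U.1 x' hx').hom ((Fitt.sheafIdeal G k').ideal U) :=
      Ideal.mem_map_of_mem _ hy
    rw [Groth.Agent.H7.StrTr.map_germ_ideal_eq _ U V x' hx' hxV, hV, Ideal.map_bot,
      Ideal.mem_bot] at h1
    have h0 : S'.presheaf.germ U.1 x' hx' 0 = 0 := map_zero _
    exact h1.trans h0.symm
  · -- the unit ideal from `k` on
    rw [← Scheme.IdealSheafData.support_eq_bot_iff, eq_bot_iff]
    intro x' hx'
    exfalso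
    have hle : Fitt.sheafIdeal G k ≤ Fitt.sheafIdeal G k' := by
      rw [Scheme.IdealSheafData.le_def]
      intro U
      rw [sheafIdeal_ideal G hGft k U, sheafIdeal_ideal G hGft k' U]
      exact ideal_mono_index hk'
    exact not_mem_support_fitt_strictTransform F hft k b hE G π hG x'
      (Scheme.IdealSheafData.support_antitone hle hx')


theorem S8912_main (F : S.Modules) (hF : Coh.IsQCoh F) (hft : CohB1.IsFT F) (k : ℕ)
    (hfree : FlatMod.IsFinLocFreeOfRank k
      (F.restrict (Scheme.Opens.ι (Fitt.sheafIdeal F k).support.compl)))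
    (b : S' ⟶ S) (hb : BlowUp.IsBlowUp b (Fitt.sheafIdeal F k)) (G : S'.Modules)
    (π : (Scheme.Modules.pullback b).obj F ⟶ G)
    (hG : BlowUp.IsStrictTransform b (Fitt.sheafIdeal F k) F G π) :
    FlatMod.IsFinLocFreeOfRank k G := by
  haveI : F.IsQuasicoherent := hF
  exact isFinLocFreeOfRank_strictTransform F hft k
    (fittVanishOff_of_isFinLocFreeOfRank F k hfree) b hb.1 G π hG

end Groth.Agent.H7.StrFit
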