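import Mathlib
import Groth.Prelude.Def_BlowUp2
import Groth.Prelude.Def_Fitting
import Groth.Prelude.Def_CInt
import Groth.Agent.Lib.Helper7.StrFitC
import Groth.Agent.Lib.Helper1.CartierKit
import Groth.Agent.Lib.Helper2.AssSch1
import Groth.Agent.Lib.Lead.QC.FinPres
import Groth.Agent.Lib.Lead.QC.Iso
import Groth.Agent.H4.FittSheaf2
import Groth.Agent.S8873

/-! helper7: admissible blow-up in the Fitting ideal of a finitely presented module which is locally
free on a schematically dense open (S8913). -/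

set_option autoImplicit false

universe u

open CategoryTheory Limits AlgebraicGeometry TopologicalSpace Opposite

namespace Groth.Agent.H7.StrFit

open Groth.Agent.LD.QC Groth.Agent.H7.StrQc Groth.Agent.H4.FittSheaf Groth.Agent.H4.Fitting

variable {X X' : Scheme.{u}}

/-- stalks of a module which is locally free of rank `r` on an open `U`: at the points of `U` the
`r`-th Fitting ideal is the unit ideal and the lower ones vanish. -/
theorem fitt_stalk_of_restrict_isFinLocFreeOfRank (F : X.Modules) (U : X.Opens) (r : ℕ)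
    (hfree : FlatMod.IsFinLocFreeOfRank r (F.restrict U.ι)) (x : X) (hx : x ∈ U) :
    Fitt.ideal (X.presheaf.stalk x) (F.presheaf.stalk x) r = ⊤ ∧
      ∀ k' : ℕ, k' < r → Fitt.ideal (X.presheaf.stalk x) (F.presheaf.stalk x) k' = ⊥ := by
  let y : (U : Scheme.{u}) := ⟨x, hx⟩
  obtain ⟨hfr, hfin, hrk⟩ :=
    Groth.Agent.H4.LFP1.stalk_of_isFinLocFreeOfRank r (F.restrict U.ι) hfree y
  have hσ := Groth.Agent.H4.FAmp3.stalkRestrictAddEquiv_smul U.ι F y
  obtain ⟨σ, hσdef⟩ : ∃ σ, σ = Groth.Agent.H4.FAmp3.stalkRingEquiv U.ι y := ⟨_, rfl⟩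
  obtain ⟨e, hedef⟩ : ∃ e, e = Groth.Agent.H4.FAmp3.stalkRestrictAddEquiv U.ι F y := ⟨_, rfl⟩
  rw [← hσdef, ← hedef] at hσ
  constructor
  · let g := Module.finBasisOfFinrankEq _ _ hrk
    have hes : ∀ (a : X.presheaf.stalk (U.ι y)) (m : F.presheaf.stalk (U.ι y)),
        e.symm (a • m) = σ.symm a • e.symm m := by
      intro a m
      apply e.injective
      rw [hσ, e.apply_symm_apply, σ.apply_symm_apply, e.apply_symm_apply]
    have hspan : Submodule.span (X.presheaf.stalk (U.ι y)) (Set.range fun i => e (g i)) = ⊤ := by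
      refine Groth.Agent.H4.NT6.eq_top_of_semilinear σ.symm e.symm hes _ (Set.range g)
        g.span_eq ?_
      rintro _ ⟨i, rfl⟩
      exact Submodule.subset_span ⟨i, rfl⟩
    exact ideal_eq_top_of_span (fun i => e (g i)) hspan (by simp)
  · intro k' hk'
    have h1 : Fitt.ideal ((U : Scheme.{u}).presheaf.stalk y)
        ((F.restrict U.ι).presheaf.stalk y) k' = ⊥ :=
      ideal_eq_bot_of_basis (Module.finBasisOfFinrankEq _ _ hrk) (by simpa using hk')
    exact fitt_eq_bot_of_semilinear σ e hσ k' h1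


/-- the `r`-th Fitting ideal is the unit ideal at the points where the module is locally free of
rank `r`. -/
theorem not_mem_support_of_restrict_isFinLocFreeOfRank (F : X.Modules) [F.IsQuasicoherent]
    (hft : F.IsFiniteType) (U : X.Opens) (r : ℕ)
    (hfree : FlatMod.IsFinLocFreeOfRank r (F.restrict U.ι)) (x : X) (hx : x ∈ U) :
    x ∉ (Fitt.sheafIdeal F r).support := by
  intro hmem
  obtain ⟨W, hW, hxW, -⟩ := exists_isAffineOpen_mem_and_subset (x := x) (U := ⊤) trivial
  rw [Groth.Agent.H3.JacLocus.mem_support_sheafIdeal_iff F hft r hW x hxW] at hmem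
  have h1 := (fitt_stalk_eq_map F hft hW x hxW r).symm.trans
    (fitt_stalk_of_restrict_isFinLocFreeOfRank F U r hfree x hx).1
  have h2 : Ideal.map (X.presheaf.germ W x hxW).hom (Fitt.ideal Γ(X, W) Γ(F, W) r) ≤
      IsLocalRing.maximalIdeal (X.presheaf.stalk x) := by
    rw [Ideal.map_le_iff_le_comap]
    intro t ht
    have h3 := hmem ht
    rw [Groth.Agent.H1.CartierKit.mem_primeIdealOf_iff hW x hxW t] at h3
    rw [Ideal.mem_comap, IsLocalRing.mem_maximalIdeal, mem_nonunits_iff]
    intro hu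
    exact h3 ((Scheme.mem_basicOpen _ _ x hxW).mpr hu)
  rw [h1] at h2
  exact (IsLocalRing.maximalIdeal.isMaximal _).ne_top (top_le_iff.mp h2)

/-- the lower Fitting ideal sheaves of a module which is locally free of rank `r` on a
schematically dense open vanish. -/
theorem sheafIdeal_eq_bot_of_schematicallyDense (F : X.Modules) [F.IsQuasicoherent]
    (hft : F.IsFiniteType) (U : X.Opens) (hU : CInt.IsSchematicallyDense U) (r : ℕ)
    (hfree : FlatMod.IsFinLocFreeOfRank r (F.restrict U.ι)) (k' : ℕ) (hk' : k' < r) :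
    Fitt.sheafIdeal F k' = ⊥ := by
  rw [eq_bot_iff, Scheme.IdealSheafData.le_def]
  intro W y hy
  rw [Scheme.IdealSheafData.ideal_bot, Pi.bot_apply, Ideal.mem_bot]
  apply hU W.1
  rw [map_zero]
  refine TopCat.Presheaf.section_ext X.sheaf (W.1 ⊓ U) _ _ (fun x hx => ?_)
  have h0 : X.presheaf.germ (W.1 ⊓ U) x hx 0 = 0 := map_zero _
  have h1 : X.presheaf.germ (W.1 ⊓ U) x hx
      (X.presheaf.map (homOfLE (inf_le_left : W.1 ⊓ U ≤ W.1)).op y) =
        X.presheaf.germ W.1 x hx.1 y :=
    TopCat.Presheaf.germ_res_apply X.presheaf (homOfLE inf_le_left) x hx y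
  refine (h1.trans ?_).trans h0.symm
  have h2 : (X.presheaf.germ W.1 x hx.1).hom y ∈
      (Fitt.ideal Γ(X, W.1) Γ(F, W.1) k').map (X.presheaf.germ W.1 x hx.1).hom :=
    Ideal.mem_map_of_mem _ (by rwa [← sheafIdeal_ideal F hft k' W])
  have h3 := (fitt_stalk_eq_map F hft W.2 x hx.1 k').symm.trans
    ((fitt_stalk_of_restrict_isFinLocFreeOfRank F U r hfree x hx.2).2 k' hk')
  rw [h3] at h2
  exact h2


/-- a section killed by a power of an ideal sheaf vanishes at the points off its support. -/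
lemma germ_eq_zero_of_killedByPowerNear_of_not_mem_support (𝓔 : X.IdealSheafData) (M : X.Modules)
    (V : X.affineOpens) (m : Γ(M, V.1)) (hm : BlowUp.KilledByPowerNear 𝓔 M V m) (x : X)
    (hx : x ∈ V.1) (hxs : x ∉ 𝓔.support) : M.presheaf.germ V.1 x hx m = 0 := by
  obtain ⟨n, hn⟩ := hm
  have h1 : ¬ x ∈ X.zeroLocus (U := V.1) (𝓔.ideal V) := fun h =>
    hxs ((Scheme.IdealSheafData.mem_support_iff_of_mem (I := 𝓔) (U := V) hx).mpr h)
  rw [Scheme.mem_zeroLocus_iff] at h1
  push_neg at h1
  obtain ⟨a, ha, hxa⟩ := h1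
  have han : a ^ n ∈ (𝓔 ^ n).ideal V := by
    rw [Scheme.IdealSheafData.ideal_pow, Pi.pow_apply]
    exact Ideal.pow_mem_pow ha n
  have hnot : a ^ n ∉ (V.2.primeIdealOf ⟨x, hx⟩).asIdeal := by
    intro h
    have h2 := (V.2.primeIdealOf ⟨x, hx⟩).isPrime.mem_of_pow_mem n h
    rw [Groth.Agent.H1.CartierKit.mem_primeIdealOf_iff V.2 x hx a] at h2
    exact h2 hxa
  exact Groth.Agent.H2.AssSch.germ_eq_zero_of_smul_eq_zero M V.2 x hx m (a ^ n) hnot (hn _ han)

/-- sections of the kernel of a strict transform map vanish over opens disjoint from the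
exceptional divisor. -/
theorem kernel_section_eq_zero (b : X' ⟶ X) (𝓘 : X.IdealSheafData) (F : X.Modules)
    (G : X'.Modules) (π : (Scheme.Modules.pullback b).obj F ⟶ G)
    (hG : BlowUp.IsStrictTransform b 𝓘 F G π) (O : X'.Opens)
    (hO : ∀ x ∈ O, x ∉ (𝓘.comap b).support) (s : Γ(kernel π, O)) : s = 0 := by
  refine section_eq_zero_of_germ (kernel π) s (fun x hx => ?_)
  obtain ⟨V, hV, hxV, hVO'⟩ := exists_isAffineOpen_mem_and_subset (x := x) (U := O) hx
  have hVO : V ≤ O := hVO'
  have hsV : (kernel π).presheaf.map (homOfLE hVO).op s = 0 := by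
    apply mono_app (kernel.ι π) V
    rw [map_zero]
    refine section_eq_zero_of_germ _ _ (fun x' hx' => ?_)
    exact germ_eq_zero_of_killedByPowerNear_of_not_mem_support (𝓘.comap b) _ ⟨V, hV⟩ _
      ((hG.2 ⟨V, hV⟩ _).mp (kernel_ι_app_comp π V _)) x' hx' (hO x' (hVO hx'))
  rw [← germ_res (kernel π) x hVO hxV s, hsV, map_zero]

theorem isZero_kernel_restrict (b : X' ⟶ X) (𝓘 : X.IdealSheafData) (F : X.Modules)
    (G : X'.Modules) (π : (Scheme.Modules.pullback b).obj F ⟶ G)
    (hG : BlowUp.IsStrictTransform b 𝓘 F G π) (O : X'.Opens)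
    (hO : ∀ x ∈ O, x ∉ (𝓘.comap b).support) : IsZero ((kernel π).restrict O.ι) := by
  refine isZero_of_forall_sections _ (fun W s => ?_)
  exact kernel_section_eq_zero b 𝓘 F G π hG (O.ι ''ᵁ W)
    (fun x hx => hO x (O.ι_image_le W hx)) s

/-- the kernel of the strict transform map onto a finite locally free module is finitely
presented. -/
theorem isFinitePresentation_kernel (b : X' ⟶ X) (𝓘 : X.IdealSheafData)
    (hE : BlowUp.IsEffCartierIdeal (𝓘.comap b)) (F : X.Modules) (hF : F.IsFinitePresentation)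
    (G : X'.Modules) (π : (Scheme.Modules.pullback b).obj F ⟶ G)
    (hG : BlowUp.IsStrictTransform b 𝓘 F G π) (r : ℕ) (hGfree : FlatMod.IsFinLocFreeOfRank r G) :
    (kernel π).IsFinitePresentation := by
  haveI : F.IsQuasicoherent := inferInstance
  haveI hPq := qc_pullback b F
  have hPfp := isFinitePresentation_pullback b F hF
  haveI hGq := qc_strictTransform b _ hE F G π hG
  haveI := hG.1
  haveI hKq := qc_kernel_of_killedByPower (𝓘.comap b) (locPrincipal_of_isEffCartierIdeal hE) π hG.2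
  refine isFinitePresentation_of_sections (kernel π) (fun x => ?_)
  obtain ⟨W, hW, hxW, ⟨ℓ⟩⟩ := (Groth.Agent.H4.FittSheaf.isFinLocFreeOfRank_iff G r).mp hGfree x
  refine ⟨W, hW, hxW, ?_⟩
  haveI : Module.FinitePresentation Γ(X', W) Γ((Scheme.Modules.pullback b).obj F, W) :=
    finitePresentation_sections_of_isFinitePresentation _ hPfp hW
  haveI : Module.Projective Γ(X', W) Γ(G, W) := Module.Projective.of_equiv ℓ.symm
  exact Module.finitePresentation_of_projective_of_exact (appLinear (kernel.ι π) W)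
    (appLinear π W) (mono_app (kernel.ι π) W)
    (app_surjective_of_killedByPower _ (locPrincipal_of_isEffCartierIdeal hE) π hG.2 hW)
    (fun y => (mem_range_kernel_ι_iff π W y).symm)


theorem S8913_main (F : X.Modules) (hF : CohB1.IsFP F) (U : X.Opens)
    (hU : CInt.IsSchematicallyDense U) (r : ℕ)
    (hfree : FlatMod.IsFinLocFreeOfRank r (F.restrict U.ι)) :
    BlowUp.IsAdmissibleFor U (Fitt.sheafIdeal F r) ∧
      ∀ (X' : Scheme.{u}) (b : X' ⟶ X), BlowUp.IsBlowUp b (Fitt.sheafIdeal F r) →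
        ∀ (G : X'.Modules) (π : (Scheme.Modules.pullback b).obj F ⟶ G),
          BlowUp.IsStrictTransform b (Fitt.sheafIdeal F r) F G π →
          FlatMod.IsFinLocFreeOfRank r G ∧ CohB1.IsFP (kernel π) ∧
            IsZero ((kernel π).restrict (b ⁻¹ᵁ U).ι) := by
  have hF' : F.IsFinitePresentation := hF
  haveI : F.IsQuasicoherent := inferInstance
  have hft : F.IsFiniteType := inferInstance
  have hdisj : ∀ x ∈ U, x ∉ (Fitt.sheafIdeal F r).support :=
    not_mem_support_of_restrict_isFinLocFreeOfRank F hft U r hfree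
  refine ⟨⟨Groth.Agent.S8873.result X F hF r, ?_⟩, ?_⟩
  · rw [Set.disjoint_left]
    intro x hx hxU
    exact hdisj x hxU hx
  · intro X' b hb G π hG
    have hH : FittVanishOff F r := fittVanishOff_of_sheafIdeal_eq_bot F hft r
      (fun k' hk' => sheafIdeal_eq_bot_of_schematicallyDense F hft U hU r hfree k' hk')
    have hGfree := isFinLocFreeOfRank_strictTransform F hft r hH b hb.1 G π hG
    refine ⟨hGfree, isFinitePresentation_kernel b _ hb.1 F hF' G π hG r hGfree,
      isZero_kernel_restrict b _ F G π hG (b ⁻¹ᵁ U) ?_⟩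
    intro x hx hxs
    rw [Scheme.IdealSheafData.support_comap] at hxs
    exact hdisj (b.base x) hx hxs

end Groth.Agent.H7.StrFit
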