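import Mathlib
import Groth.Agent.Lib.Helper7.StrTrA

/-! helper7: S1696 — the pullback of a module flat along the centre is its own strict transform. -/

set_option autoImplicit false

universe u

open CategoryTheory Limits AlgebraicGeometry TopologicalSpace Opposite

namespace Groth.Agent.H7.StrTr

variable {S S' : Scheme.{u}}

/-- flatness of the stalks of a pullback of a quasi-coherent module. -/
theorem isFlatAt_pullback (b : S' ⟶ S) (F : S.Modules) [F.IsQuasicoherent] (x' : S')
    (h : FlatMod.IsFlatAt F (b x')) : FlatMod.IsFlatAt ((Scheme.Modules.pullback b).obj F) x' := by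
  letI i1 : Module (S.presheaf.stalk (b x')) (((Scheme.Modules.pullback b).obj F).presheaf.stalk x') :=
    Groth.Agent.LD.QC.stalkModuleOver b ((Scheme.Modules.pullback b).obj F) x'
  letI i2 : Algebra (S.presheaf.stalk (b x')) (S'.presheaf.stalk x') :=
    (b.stalkMap x').hom.toAlgebra
  haveI i3 : IsScalarTower (S.presheaf.stalk (b x')) (S'.presheaf.stalk x')
      (((Scheme.Modules.pullback b).obj F).presheaf.stalk x') :=
    IsScalarTower.of_algebraMap_smul fun r m => rfl
  obtain ⟨σ, hσ⟩ := Groth.Agent.LD.QC.exists_stalk_pullback_isBaseChange b F x'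
  haveI i4 : Module.Flat (S.presheaf.stalk (b x')) (F.presheaf.stalk (b x')) := h
  exact @Module.Flat.isBaseChange (S.presheaf.stalk (b x')) (S'.presheaf.stalk x')
    (F.presheaf.stalk (b x')) _ _ i2 _ _ i4
    (((Scheme.Modules.pullback b).obj F).presheaf.stalk x') _ i1 _ i3 σ hσ

/-- **S1696**. -/
theorem S1696_main (𝓘 : S.IdealSheafData) (b : S' ⟶ S) (hb : BlowUp.IsBlowUp b 𝓘)
    (F : S.Modules) (hF : Coh.IsQCoh F)
    (hflat : ∀ s : ↥S, s ∈ 𝓘.support → FlatMod.IsFlatAt F s) :
    BlowUp.IsStrictTransform b 𝓘 F ((Scheme.Modules.pullback b).obj F) (𝟙 _) := by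
  haveI : F.IsQuasicoherent := hF
  refine ⟨inferInstance, fun V m => ?_⟩
  have hid : (𝟙 ((Scheme.Modules.pullback b).obj F) : _ ⟶ _).app V.1 m = m := rfl
  rw [hid]
  constructor
  · intro hm
    exact ⟨0, fun a _ => by rw [hm, smul_zero]⟩
  · intro hm
    refine eq_zero_of_killedByPowerNear (BlowUp.exceptional b 𝓘) hb.1 _ (fun x' hx' => ?_) V m hm
    refine isFlatAt_pullback b F x' (hflat _ ?_)
    have h1 : x' ∈ (𝓘.comap b).support := hx'
    rw [Scheme.IdealSheafData.support_comap] at h1
    exact h1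

end Groth.Agent.H7.StrTr
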