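import Mathlib
import Groth.Agent.Lib.Helper7.StrTrB
import Groth.Agent.Lib.Lead.QC.LocFree2
import Groth.Agent.H4.FAmp2
import Groth.Agent.Lib.Helper3.ZClosCover

/-! helper7: S19350 — the strict transform of a finite locally free module is its pullback. -/

set_option autoImplicit false

universe u

open CategoryTheory Limits AlgebraicGeometry TopologicalSpace Opposite

namespace Groth.Agent.H7.StrTr

variable {X X' : Scheme.{u}}

/-- **S19350** (without the hypotheses on `X`). -/
theorem S19350_main (I : X.IdealSheafData) (b : X' ⟶ X) (hb : BlowUp.IsBlowUp b I)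
    (F : X.Modules) (hF : FlatMod.IsFinLocFree F) (G : X'.Modules)
    (π : (Scheme.Modules.pullback b).obj F ⟶ G)
    (hG : BlowUp.IsStrictTransform b I F G π) : IsIso π ∧ FlatMod.IsFinLocFree G := by
  have hP : FlatMod.IsFinLocFree ((Scheme.Modules.pullback b).obj F) :=
    Groth.Agent.LD.QC.isFinLocFree_pullback b F hF
  have hflat : FlatMod.IsFlat ((Scheme.Modules.pullback b).obj F) :=
    Groth.Agent.H4.FAmp2.isFlat_of_isFinLocFree _ hP
  obtain ⟨hepi, hker⟩ := hG
  haveI : Mono π := by
    refine Groth.Agent.H3.ZClosCover.mono_of_injective_basis π X'.affineOpens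
      X'.isBasis_affineOpens fun V hV => ?_
    intro m₁ m₂ h
    have h0 : π.app V (m₁ - m₂) = 0 := by
      rw [map_sub, h, sub_self]
    have h1 := (hker ⟨V, hV⟩ (m₁ - m₂)).mp h0
    have h2 := eq_zero_of_killedByPowerNear (BlowUp.exceptional b I) hb.1 _
      (fun x' _ => hflat x') ⟨V, hV⟩ (m₁ - m₂) h1
    exact sub_eq_zero.mp h2
  haveI := hepi
  haveI hiso : IsIso π := isIso_of_mono_of_epi π
  exact ⟨hiso, Groth.Agent.LD.QC.isFinLocFree_of_iso (asIso π) hP⟩

end Groth.Agent.H7.StrTr
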