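import Mathlib
import Groth.Prelude.Def_W4c2azumayainvolQEt
import Groth.Agent.Lib.Helper7.RInvB
import Groth.Agent.Lib.Helper7.RInvT1
import Groth.Agent.Lib.Helper1.HensFin2
import Groth.Agent.Lib.Helper8.Hens.IntegralHens
import Groth.Agent.Lib.Helper8.HensPair.Integral

/-! A ring with involution over a strictly henselian fixed ring is a finite product of
strictly henselian local rings. -/

set_option autoImplicit false
open scoped TensorProduct

namespace Groth.Agent.H7.StrictHens

universe u v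

section Transfer

/-- universe-polymorphic version of helper8's `henselianLocalRing_of_isIntegral`. -/
theorem henselianLocalRing_of_isIntegral' (A : Type u) [CommRing A] [HenselianLocalRing A]
    (B : Type v) [CommRing B] [IsLocalRing B] [Algebra A B] [Algebra.IsIntegral A B] :
    HenselianLocalRing B := by
  let A' := ULift.{max u v} A
  let B' := ULift.{max u v} B
  let eA : A' ≃+* A := ULift.ringEquiv
  let eB : B' ≃+* B := ULift.ringEquiv
  haveI : HenselianLocalRing A' := Groth.Agent.H1.HensFin.henselianLocalRing_of_ringEquiv eA.symm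
  haveI : IsLocalRing B' := eB.symm.isLocalRing
  letI : Algebra A' B' :=
    (eB.symm.toRingHom.comp ((algebraMap A B).comp eA.toRingHom)).toAlgebra
  have hcomp : (eB.toRingHom.comp (algebraMap A' B')).comp eA.symm.toRingHom = algebraMap A B := by
    ext a
    simp [RingHom.algebraMap_toAlgebra, eA, eB]
  haveI : Algebra.IsIntegral A' B' := ⟨fun x => by
    obtain ⟨p, hp, hpx⟩ := Algebra.IsIntegral.isIntegral (R := A) (eB x)
    refine ⟨p.map eA.symm.toRingHom, hp.map _, ?_⟩
    rw [Polynomial.eval₂_map]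
    apply eB.injective
    have h1 := Polynomial.hom_eval₂ p ((algebraMap A' B').comp eA.symm.toRingHom) eB.toRingHom x
    rw [← RingHom.comp_assoc, hcomp] at h1
    rw [map_zero]
    exact h1.trans hpx⟩
  haveI := Groth.Agent.H8.Hens.henselianLocalRing_of_isIntegral A' B'
  exact Groth.Agent.H1.HensFin.henselianLocalRing_of_ringEquiv eB

variable (S : Type u) (T : Type v) [CommRing S] [CommRing T] [IsLocalRing S] [IsLocalRing T]
  [Algebra S T] [Algebra.IsIntegral S T]

theorem isLocalHom_of_isIntegral : IsLocalHom (algebraMap S T) := by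
  constructor
  intro s hs
  by_contra hns
  have hsm : s ∈ IsLocalRing.maximalIdeal S := hns
  have hker : (⊥ : Ideal T).comap (algebraMap S T) ≤ IsLocalRing.maximalIdeal S := by
    apply IsLocalRing.le_maximalIdeal
    intro h
    have h1 : (1 : S) ∈ (⊥ : Ideal T).comap (algebraMap S T) := by rw [h]; trivial
    rw [Ideal.mem_comap, map_one, Ideal.mem_bot] at h1
    exact one_ne_zero h1
  obtain ⟨Q, -, hQ, hQS⟩ := Ideal.exists_ideal_over_prime_of_isIntegral
    (IsLocalRing.maximalIdeal S) (⊥ : Ideal T) hker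
  have h2 : algebraMap S T s ∈ Q := by
    rw [← hQS] at hsm; exact hsm
  have h3 : algebraMap S T s ∈ IsLocalRing.maximalIdeal T :=
    IsLocalRing.le_maximalIdeal hQ.ne_top h2
  exact h3 hs

theorem isSepClosed_residueField [IsLocalHom (algebraMap S T)]
    [IsSepClosed (IsLocalRing.ResidueField S)] : IsSepClosed (IsLocalRing.ResidueField T) := by
  haveI : Algebra.IsIntegral (IsLocalRing.ResidueField S) (IsLocalRing.ResidueField T) :=
    ⟨fun x => by
      obtain ⟨t, rfl⟩ := IsLocalRing.residue_surjective x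
      obtain ⟨p, hp, hpt⟩ := Algebra.IsIntegral.isIntegral (R := S) t
      refine ⟨p.map (IsLocalRing.residue S), hp.map _, ?_⟩
      rw [Polynomial.eval₂_map]
      have hc : (algebraMap (IsLocalRing.ResidueField S) (IsLocalRing.ResidueField T)).comp
          (IsLocalRing.residue S) = (IsLocalRing.residue T).comp (algebraMap S T) := rfl
      rw [hc, ← Polynomial.hom_eval₂, hpt, map_zero]⟩
  haveI : Algebra.IsAlgebraic (IsLocalRing.ResidueField S) (IsLocalRing.ResidueField T) :=
    Algebra.IsIntegral.isAlgebraic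
  exact Algebra.IsAlgebraic.isSepClosed (F := IsLocalRing.ResidueField S)

end Transfer

section Quot

variable {R : Type v} [CommRing R]

theorem isLocalRing_quot (c : R) (M : Ideal R) (hM : M.IsMaximal) (hc : c ∈ M)
    (huniq : ∀ N : Ideal R, N.IsMaximal → c ∈ N → N = M) :
    IsLocalRing (R ⧸ Ideal.span {c}) := by
  have hsurj : Function.Surjective (Ideal.Quotient.mk (Ideal.span {c})) :=
    Ideal.Quotient.mk_surjective
  have hle : Ideal.span {c} ≤ M := (Ideal.span_singleton_le_iff_mem _).mpr hc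
  apply IsLocalRing.of_unique_max_ideal
  refine ⟨M.map (Ideal.Quotient.mk (Ideal.span {c})), ?_, ?_⟩
  · refine (Ideal.map_eq_top_or_isMaximal_of_surjective _ hsurj hM).resolve_left ?_
    intro h
    have h1 := congrArg (Ideal.comap (Ideal.Quotient.mk (Ideal.span {c}))) h
    rw [Ideal.comap_map_of_surjective _ hsurj, Ideal.comap_top, ← RingHom.ker_eq_comap_bot,
      Ideal.mk_ker, sup_eq_left.mpr hle] at h1
    exact hM.ne_top h1
  · intro N hN
    haveI := hN
    have h1 : (N.comap (Ideal.Quotient.mk (Ideal.span {c}))).IsMaximal :=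
      Ideal.comap_isMaximal_of_surjective _ hsurj
    have h2 : c ∈ N.comap (Ideal.Quotient.mk (Ideal.span {c})) := by
      rw [Ideal.mem_comap]
      have : Ideal.Quotient.mk (Ideal.span {c}) c = 0 :=
        Ideal.Quotient.eq_zero_iff_mem.mpr (Ideal.mem_span_singleton_self c)
      rw [this]; exact N.zero_mem
    rw [← huniq _ h1 h2, Ideal.map_comap_of_surjective _ hsurj]

end Quot

section Main

variable (S : Type u) (R : Type v) [CommRing S] [CommRing R] [Algebra S R]
    (lam : R ≃ₐ[S] R) (hlam : ∀ r, lam (lam r) = r)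
    (hfix : RInv.IsFixedRing S R lam.toRingEquiv)

include hlam hfix in
theorem le_or_le (P₁ P₂ : Ideal R) (hP₂ : P₂.IsPrime)
    (h : P₁.comap (algebraMap S R) ≤ P₂.comap (algebraMap S R)) :
    P₁ ≤ P₂ ∨ P₁ ≤ P₂.comap lam := by
  rw [← Ideal.subset_union]
  intro x hx
  obtain ⟨m, hm⟩ := RInvB.exists_nm lam hlam hfix x
  have h1 : m ∈ P₁.comap (algebraMap S R) := by
    rw [Ideal.mem_comap, hm]; exact P₁.mul_mem_right _ hx
  have h2 := h h1
  rw [Ideal.mem_comap, hm] at h2
  rcases hP₂.mem_or_mem h2 with h3 | h3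
  · exact Or.inl h3
  · exact Or.inr h3

variable [IsLocalRing S]

include hlam hfix in
theorem comap_eq_of_isMaximal (M : Ideal R) (hM : M.IsMaximal) :
    M.comap (algebraMap S R) = IsLocalRing.maximalIdeal S := by
  haveI := RInvB.isIntegral lam hlam hfix
  haveI := hM
  exact IsLocalRing.eq_maximalIdeal (Ideal.isMaximal_comap_of_isIntegral_of_isMaximal M)

include hlam hfix in
theorem eq_or_eq (M₁ M₂ N : Ideal R) (hM₁ : M₁.IsMaximal) (hM₂ : M₂.IsMaximal) (hN : N.IsMaximal)
    (hne : M₁ ≠ M₂) : N = M₁ ∨ N = M₂ := by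
  have c1 := comap_eq_of_isMaximal S R lam hlam hfix M₁ hM₁
  have c2 := comap_eq_of_isMaximal S R lam hlam hfix M₂ hM₂
  have cN := comap_eq_of_isMaximal S R lam hlam hfix N hN
  have hlamM : (M₁.comap lam).IsMaximal := by
    haveI := hM₁
    exact Ideal.comap_isMaximal_of_surjective lam lam.surjective
  have key : ∀ N' : Ideal R, N'.IsMaximal →
      N'.comap (algebraMap S R) = IsLocalRing.maximalIdeal S → N' = M₁ ∨ N' = M₁.comap lam := by
    intro N' hN' cN'
    rcases le_or_le S R lam hlam hfix N' M₁ hM₁.isPrime (by rw [cN', c1]) with h | h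
    · exact Or.inl (hN'.eq_of_le hM₁.ne_top h)
    · exact Or.inr (hN'.eq_of_le hlamM.ne_top h)
  rcases key M₂ hM₂ c2 with h | h
  · exact absurd h.symm hne
  · rcases key N hN cN with h' | h'
    · exact Or.inl h'
    · exact Or.inr (h'.trans h.symm)

variable [HenselianLocalRing S]

include hlam hfix in
theorem exists_coi : ∃ (n : ℕ) (e : Fin n → R), CompleteOrthogonalIdempotents e ∧
    ∀ i, IsLocalRing (R ⧸ Ideal.span {1 - e i}) := by
  haveI := RInvB.isIntegral lam hlam hfix
  haveI : Nontrivial R := hfix.1.nontrivial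
  by_cases h : ∃ M₁ M₂ : Ideal R, M₁.IsMaximal ∧ M₂.IsMaximal ∧ M₁ ≠ M₂
  · obtain ⟨M₁, M₂, hM₁, hM₂, hne⟩ := h
    have c1 := comap_eq_of_isMaximal S R lam hlam hfix M₁ hM₁
    have c2 := comap_eq_of_isMaximal S R lam hlam hfix M₂ hM₂
    have hcop : M₁ ⊔ M₂ = ⊤ := hM₁.coprime_of_ne hM₂ hne
    obtain ⟨a, ha, b, hb, hab⟩ := Submodule.mem_sup.mp
      (show (1 : R) ∈ M₁ ⊔ M₂ by rw [hcop]; trivial)
    have hIR₁ : (IsLocalRing.maximalIdeal S).map (algebraMap S R) ≤ M₁ :=
      Ideal.map_le_iff_le_comap.mpr c1.ge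
    have hIR₂ : (IsLocalRing.maximalIdeal S).map (algebraMap S R) ≤ M₂ :=
      Ideal.map_le_iff_le_comap.mpr c2.ge
    have hrad : a * b ∈ ((IsLocalRing.maximalIdeal S).map (algebraMap S R)).radical := by
      rw [Ideal.radical_eq_sInf, Ideal.mem_sInf]
      rintro P ⟨hle, hP⟩
      haveI := hP
      have hle' : IsLocalRing.maximalIdeal S ≤ P.comap (algebraMap S R) :=
        Ideal.map_le_iff_le_comap.mp hle
      have hPc : (P.comap (algebraMap S R)).IsPrime := Ideal.comap_isPrime _ _
      have heq : IsLocalRing.maximalIdeal S = P.comap (algebraMap S R) :=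
        (IsLocalRing.maximalIdeal.isMaximal S).eq_of_le hPc.ne_top hle'
      have hPmax : P.IsMaximal :=
        Ideal.isMaximal_of_isIntegral_of_isMaximal_comap P
          (heq ▸ IsLocalRing.maximalIdeal.isMaximal S)
      rcases eq_or_eq S R lam hlam hfix M₁ M₂ P hM₁ hM₂ hPmax hne with h | h
      · rw [h]; exact M₁.mul_mem_right _ ha
      · rw [h]; exact M₂.mul_mem_left _ hb
    obtain ⟨n, hn⟩ := hrad
    have hcop' : IsCoprime (a ^ (n + 1)) (b ^ (n + 1)) :=
      IsCoprime.pow ⟨1, 1, by rw [one_mul, one_mul]; exact hab⟩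
    obtain ⟨u, v, huv⟩ := hcop'
    set f : R := v * b ^ (n + 1) with hf
    have hfM₂ : f ∈ M₂ := M₂.mul_mem_left _ (Ideal.pow_mem_of_mem _ hb _ (Nat.succ_pos n))
    have h1f : 1 - f = u * a ^ (n + 1) := by rw [hf, ← huv]; ring
    have h1fM₁ : 1 - f ∈ M₁ := by
      rw [h1f]; exact M₁.mul_mem_left _ (Ideal.pow_mem_of_mem _ ha _ (Nat.succ_pos n))
    have hff : f * f - f ∈ (IsLocalRing.maximalIdeal S).map (algebraMap S R) := by
      have e1 : f * f - f = -(v * u * (a * b) * (a * b) ^ n) := by
        have : f * f - f = -(f * (1 - f)) := by ring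
        rw [this, h1f, hf]; ring
      rw [e1]
      exact neg_mem (Ideal.mul_mem_left _ _ hn)
    have hidem : IsIdempotentElem (Ideal.Quotient.mk
        ((IsLocalRing.maximalIdeal S).map (algebraMap S R)) f) := by
      show _ * _ = _
      rw [← map_mul, Ideal.Quotient.eq]
      exact hff
    obtain ⟨ε, hε, hεf⟩ := (Groth.Agent.H8.HensPair.bijOn_idempotents_of_isIntegral
      (IsLocalRing.maximalIdeal S) R).surjOn hidem
    have hε' : IsIdempotentElem ε := hε
    rw [Ideal.Quotient.eq] at hεf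
    have hεM₂ : ε ∈ M₂ := by
      have : ε = (ε - f) + f := by ring
      rw [this]; exact M₂.add_mem (hIR₂ hεf) hfM₂
    have h1εM₁ : 1 - ε ∈ M₁ := by
      have : 1 - ε = (1 - f) - (ε - f) := by ring
      rw [this]; exact M₁.sub_mem h1fM₁ (hIR₁ hεf)
    refine ⟨2, ![ε, 1 - ε], CompleteOrthogonalIdempotents.of_isIdempotentElem hε', ?_⟩
    intro i
    fin_cases i
    · show IsLocalRing (R ⧸ Ideal.span {1 - ε})
      refine isLocalRing_quot (1 - ε) M₁ hM₁ h1εM₁ (fun N hN hc => ?_)
      refine (eq_or_eq S R lam hlam hfix M₁ M₂ N hM₁ hM₂ hN hne).resolve_right (fun h => ?_)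
      rw [h] at hc
      apply hM₂.ne_top
      rw [Ideal.eq_top_iff_one]
      have : (1 : R) = (1 - ε) + ε := by ring
      rw [this]; exact M₂.add_mem hc hεM₂
    · show IsLocalRing (R ⧸ Ideal.span {1 - (1 - ε)})
      rw [sub_sub_cancel]
      refine isLocalRing_quot ε M₂ hM₂ hεM₂ (fun N hN hc => ?_)
      refine (eq_or_eq S R lam hlam hfix M₁ M₂ N hM₁ hM₂ hN hne).resolve_left (fun h => ?_)
      rw [h] at hc
      apply hM₁.ne_top
      rw [Ideal.eq_top_iff_one]
      have : (1 : R) = (1 - ε) + ε := by ring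
      rw [this]; exact M₁.add_mem h1εM₁ hc
  · push Not at h
    obtain ⟨M, hM⟩ := Ideal.exists_maximal R
    refine ⟨1, fun _ => 1, CompleteOrthogonalIdempotents.unique_iff.mpr rfl, fun i => ?_⟩
    show IsLocalRing (R ⧸ Ideal.span {(1 : R) - 1})
    exact isLocalRing_quot ((1 : R) - 1) M hM (by rw [sub_self]; exact M.zero_mem)
      (fun N hN _ => h N M hN hM)

include hlam hfix in
theorem main [IsSepClosed (IsLocalRing.ResidueField S)] :
    ∃ (ι : Type) (_ : Fintype ι) (T : ι → Type v) (_ : ∀ i, CommRing (T i))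
      (_ : ∀ i, HenselianLocalRing (T i)),
      (∀ i, IsSepClosed (IsLocalRing.ResidueField (T i))) ∧ Nonempty (R ≃+* (∀ i, T i)) := by
  obtain ⟨n, e, he, hloc⟩ := exists_coi S R lam hlam hfix
  haveI := RInvB.isIntegral lam hlam hfix
  have hH : ∀ i, HenselianLocalRing (R ⧸ Ideal.span {1 - e i}) := fun i => by
    haveI := hloc i
    exact henselianLocalRing_of_isIntegral' S _
  refine ⟨Fin n, inferInstance, fun i => R ⧸ Ideal.span {1 - e i}, fun i => inferInstance, hH,
    fun i => ?_, ⟨RingEquiv.ofBijective _ he.bijective_pi⟩⟩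
  haveI := hH i
  haveI : IsLocalHom (algebraMap S (R ⧸ Ideal.span {1 - e i})) := isLocalHom_of_isIntegral S _
  exact isSepClosed_residueField S _

end Main

section Final

variable (S : Type u) (R : Type v) [CommRing S] [CommRing R]
    [Algebra S R] (lam : R ≃+* R) (hlam : Function.Involutive lam) (hS : RInv.IsFixedRing S R lam)

include hlam hS in
/-- S15578 -/
theorem result' [HenselianLocalRing S] [IsSepClosed (IsLocalRing.ResidueField S)] :
    ∃ (ι : Type) (_ : Fintype ι) (T : ι → Type v) (_ : ∀ i, CommRing (T i))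
      (_ : ∀ i, HenselianLocalRing (T i)),
      (∀ i, IsSepClosed (IsLocalRing.ResidueField (T i))) ∧ Nonempty (R ≃+* (∀ i, T i)) :=
  main S R (RInvT1.lamA S R lam hS) (fun x => hlam x) (RInvT1.isFixedRing_lamA S R lam hS)

end Final

end Groth.Agent.H7.StrictHens
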