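import Mathlib
import Groth.Prelude.Def_EtShriek2
import Groth.Agent.Lib.Helper7.Sup2

set_option autoImplicit false

universe u

open CategoryTheory CategoryTheory.Limits Opposite AlgebraicGeometry

namespace Groth.Agent.H7.Sup

open Groth.Agent.H7.ES Groth.Agent.H7.GalCov Groth.Agent.H7.ST

variable {S : Scheme.{u}} (O : Sheaf S.smallEtaleTopology CommRingCat.{u})

/-- The set of points over which some geometric stalk of `O` is a nonzero ring. -/
def ringSupp : Set S :=
  {s : ↥S | ∃ (Ω : Type u) (_ : Field Ω) (_ : IsSepClosed Ω) (ξ : Spec (CommRingCat.of Ω) ⟶ S),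
      ξ.base default = s ∧ Nontrivial ↑((Scheme.pointSmallEtale ξ).presheafFiber.obj O.obj)}

lemma not_nontrivial_of_section {Ω : Type u} [Field Ω] [IsSepClosed Ω]
    (ξ : Spec (CommRingCat.of Ω) ⟶ S) (Y : S.Etale) (y : (Scheme.pointSmallEtale ξ).fiber.obj Y)
    (h : (1 : O.obj.obj (op Y)) = 0) :
    ¬ Nontrivial ↑((Scheme.pointSmallEtale ξ).presheafFiber.obj O.obj) := by
  intro hn
  have h1 : ((Scheme.pointSmallEtale ξ).toPresheafFiber Y y O.obj).hom 1 = 1 := map_one _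
  have h0 : ((Scheme.pointSmallEtale ξ).toPresheafFiber Y y O.obj).hom 0 = 0 := map_zero _
  rw [h, h0] at h1
  exact zero_ne_one h1

theorem isClosed_ringSupp : IsClosed (ringSupp O) := by
  rw [← isOpen_compl_iff, isOpen_iff_forall_mem_open]
  intro s hs
  -- a geometric point over `s`
  let Ω₀ : Type u := SeparableClosure (S.residueField s)
  let ξ₀ : Spec (CommRingCat.of Ω₀) ⟶ S :=
    Spec.map (CommRingCat.ofHom (algebraMap (S.residueField s) Ω₀)) ≫ S.fromSpecResidueField s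
  have hξ₀ : ξ₀.base default = s := Scheme.fromSpecResidueField_apply s _
  have htriv : ¬ Nontrivial ↑((Scheme.pointSmallEtale ξ₀).presheafFiber.obj O.obj) := by
    intro hn
    exact hs ⟨Ω₀, inferInstance, inferInstance, ξ₀, hξ₀, hn⟩
  rw [not_nontrivial_iff_subsingleton] at htriv
  let x₀ : (Scheme.pointSmallEtale ξ₀).fiber.obj (EtCoh.top S) :=
    Over.homMk ξ₀ (Category.comp_id ξ₀)
  have h10 : (Scheme.pointSmallEtale ξ₀).toPresheafFiber (EtCoh.top S) x₀ O.obj 1 =
      (Scheme.pointSmallEtale ξ₀).toPresheafFiber (EtCoh.top S) x₀ O.obj 0 :=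
    Subsingleton.elim _ _
  obtain ⟨Y, f, y, -, hY⟩ :=
    ((Scheme.pointSmallEtale ξ₀).toPresheafFiber_eq_iff' (P := O.obj) _ x₀ 1 0).1 h10
  have hY' : (1 : O.obj.obj (op Y)) = 0 := by
    have e1 : (O.obj.map f.op).hom 1 = 1 := map_one _
    have e0 : (O.obj.map f.op).hom 0 = 0 := map_zero _
    exact e1.symm.trans (hY.trans e0)
  haveI : AlgebraicGeometry.Etale Y.hom := Y.prop
  refine ⟨Set.range Y.hom.base, ?_, Y.hom.isOpenMap.isOpen_range, ?_⟩
  · rintro _ ⟨y', rfl⟩ ⟨Ω, _, _, ξ, hξ, hn⟩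
    obtain ⟨l, hl₁, -⟩ := Scheme.exists_fac_of_etale_of_isSepClosed Y.hom ξ y' hξ.symm
    exact not_nontrivial_of_section O ξ Y (Over.homMk l hl₁) hY' hn
  · let yl : Spec (CommRingCat.of Ω₀) ⟶ Y.left := y.left
    have h2 : yl ≫ Y.hom = ξ₀ := Over.w y
    refine ⟨yl.base default, ?_⟩
    have h3 : Y.hom.base (yl.base default) = ξ₀.base default := by
      rw [← h2]; rfl
    exact h3.trans hξ₀

end Groth.Agent.H7.Sup
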