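import Mathlib.LinearAlgebra.Trace
import Mathlib.Tactic

/-! Helper lemmas for the supertrace statements (S14117, S14118). -/

namespace Groth.Agent.H7

universe u v w

theorem sgn_eq (R : Type u) [CommRing R] (n : ℤ) :
    (-1 : R) ^ n.natAbs = if Even n then 1 else -1 := by
  split_ifs with h
  · exact Even.neg_one_pow (Int.natAbs_even.2 h)
  · exact Odd.neg_one_pow (Int.natAbs_odd.2 (Int.not_even_iff_odd.1 h))

/-- the sign relation needed: if `di = dj + a` and `b = -a` then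
`(-1)^di = (-1)^(a*b) * (-1)^dj`. -/
theorem sgn_rel (R : Type u) [CommRing R] (di dj a b : ℤ) (h1 : di = dj + a) (h2 : dj = di + b) :
    (-1 : R) ^ di.natAbs = (-1 : R) ^ (a * b).natAbs * (-1 : R) ^ dj.natAbs := by
  have hb : b = -a := by linarith
  subst hb
  subst h1
  rw [sgn_eq, sgn_eq, sgn_eq]
  rcases Int.even_or_odd dj with hj | hj <;> rcases Int.even_or_odd a with ha | ha <;>
    simp [Int.even_add, Int.even_mul, hj, ha, Int.not_even_iff_odd.2, parity_simps]

variable {R : Type u} [CommRing R] {ι : Type v} [Fintype ι] [DecidableEq ι]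
  (M : ι → Type w) [∀ i, AddCommGroup (M i)] [∀ i, Module R (M i)]
  [∀ i, Module.Free R (M i)] [∀ i, Module.Finite R (M i)]

theorem trace_eps_comp (c : ι → R) (θ : (Π k, M k) →ₗ[R] (Π k, M k)) :
    LinearMap.trace R (Π k, M k)
      ((∑ i : ι, (LinearMap.single R M i) ∘ₗ (c i • (LinearMap.proj i : (Π k, M k) →ₗ[R] M i))) ∘ₗ θ) =
    ∑ i : ι, c i * LinearMap.trace R (M i) (LinearMap.proj i ∘ₗ θ ∘ₗ LinearMap.single R M i) := by
  have hsum : (∑ i : ι, (LinearMap.single R M i) ∘ₗ (c i •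
      (LinearMap.proj i : (Π k, M k) →ₗ[R] M i))) ∘ₗ θ =
      ∑ i : ι, ((LinearMap.single R M i) ∘ₗ (c i •
      (LinearMap.proj i : (Π k, M k) →ₗ[R] M i))) ∘ₗ θ := by
    apply LinearMap.ext
    intro x
    simp only [LinearMap.comp_apply, LinearMap.sum_apply]
  rw [hsum, map_sum]
  apply Finset.sum_congr rfl
  intro i _
  rw [LinearMap.comp_assoc, LinearMap.trace_comp_comm']
  rw [LinearMap.smul_comp, LinearMap.smul_comp, map_smul, smul_eq_mul, LinearMap.comp_assoc]

theorem proj_comp_comp_single (φ ψ : (Π k, M k) →ₗ[R] (Π k, M k)) (i : ι) :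
    LinearMap.proj i ∘ₗ (φ ∘ₗ ψ) ∘ₗ LinearMap.single R M i =
      ∑ j : ι, (LinearMap.proj i ∘ₗ φ ∘ₗ LinearMap.single R M j) ∘ₗ
        (LinearMap.proj j ∘ₗ ψ ∘ₗ LinearMap.single R M i) := by
  apply LinearMap.ext
  intro x
  simp only [LinearMap.comp_apply, LinearMap.sum_apply, LinearMap.coe_proj, Function.eval,
    LinearMap.coe_single]
  rw [← Finset.sum_apply, ← map_sum, Finset.univ_sum_single]

end Groth.Agent.H7
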