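import Mathlib
import Groth.Prelude.Def_AzInv
import Groth.Prelude.Def_W4c2azumayainvolQEt
import Groth.Agent.Lib.Helper7.FixDim
import Groth.Agent.Lib.Helper7.AzSign
import Groth.Agent.Lib.Helper7.SameKind
import Groth.Agent.Lib.Helper7.SqrtTwo

/-! The dimension of the span of symmetric elements in the fibre at a ramified prime, read off
from a normal form over an étale neighbourhood. -/

set_option autoImplicit false
open scoped TensorProduct
open AzInv

namespace Groth.Agent.H7.SymDim

universe u v w u'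

attribute [local instance] AzBC.algLC

section Ram

variable {S : Type u} {R : Type v} [CommRing S] [CommRing R] [Algebra S R]
  (lam : R ≃ₐ[S] R) (hlam : ∀ r, lam (lam r) = r)
  (hfix : RInv.IsFixedRing S R lam.toRingEquiv)

include hlam hfix in
theorem ramP_of_ram (q : PrimeSpectrum R) (hq : ∀ r, lam r - r ∈ q.asIdeal) :
    RInvB.RamP lam (q.asIdeal.comap (algebraMap S R)) := by
  haveI : (q.asIdeal.comap (algebraMap S R)).IsPrime := Ideal.comap_isPrime _ _
  rcases RInvB.ramP_or_exists lam hlam hfix (q.asIdeal.comap (algebraMap S R)) with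
    h | ⟨r, s, hs, hsq⟩
  · exact h
  · exfalso
    apply hsq
    show algebraMap S R s ∈ q.asIdeal
    rw [hs]
    have h1 : r - lam r ∈ q.asIdeal := by
      have := q.asIdeal.neg_mem (hq r)
      rwa [neg_sub] at this
    rw [pow_two]
    exact q.asIdeal.mul_mem_left _ h1

end Ram

section Main

variable (S : Type u) (R : Type v) [CommRing S] [CommRing R] [Algebra S R]
  (lam : R ≃ₐ[S] R) (hlam : ∀ r, lam (lam r) = r)
  (hfix : RInv.IsFixedRing S R lam.toRingEquiv)
  (A : Type w) [Ring A] [Algebra S A] [Algebra R A] [IsScalarTower S R A]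
  (t : LamInv R A lam) (n : ℕ)

theorem tmul_eq_smul (C : Type u') [CommRing C] [Algebra S C] (c : C) (x : A) :
    (c ⊗ₜ[S] x : C ⊗[S] A) = (c ⊗ₜ[S] (1 : R) : C ⊗[S] R) • ((1 : C) ⊗ₜ[S] x) := by
  rw [Algebra.smul_def, AzBC.algebraMap_LC, AzBC.iotaL_tmul, Algebra.TensorProduct.tmul_mul_tmul,
    mul_one, map_one, one_mul]

theorem inc_smul' (C : Type u') [CommRing C] [Algebra S C] (r : R) (a : A) :
    (SkewStd.inc S R C r) • ((1 : C) ⊗ₜ[S] a : C ⊗[S] A) = (1 : C) ⊗ₜ[S] (r • a) := by
  rw [Algebra.smul_def, AzBC.algebraMap_LC]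
  show AzBC.iotaL S R A C ((1 : C) ⊗ₜ[S] r) * _ = _
  rw [AzBC.iotaL_tmul, Algebra.TensorProduct.tmul_mul_tmul, one_mul, ← Algebra.smul_def]

include hlam hfix in
theorem finrank_symSpan_eq (h2 : IsUnit (2 : S)) (hn : 0 < n) (hA : IsAzumayaDeg R A n)
    (q : PrimeSpectrum R) (hq : ∀ r, lam r - r ∈ q.asIdeal)
    (C : Type u') [CommRing C] [Algebra S C] [Module.Flat S C]
    (pC : PrimeSpectrum C)
    (hpC : pC.asIdeal.comap (algebraMap S C) = q.asIdeal.comap (algebraMap S R))
    {ι : Type} [Fintype ι] [DecidableEq ι] (hι : Fintype.card ι = n) (π : ι → ι) (sg : ι → ℤ)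
    (hπ : ∀ i, π (π i) = i) (η : ℤ) (hη : ∀ i, sg (π i) = η * sg i) (hηη : η * η = 1)
    (hsg : ∀ i, sg i * sg i = 1)
    (hstd : StdP.StdOverP S R lam A t π sg C)
    (D : Set (ι × ι)) (hD1 : ∀ p ∈ D, KPt.PI π p = p → sg p.1 * sg p.2 = 1)
    (hD2 : ∀ p ∈ D, KPt.PI π p ≠ p → KPt.PI π p ∉ D)
    (hD' : ∀ p, p ∉ D → KPt.PI π p ∈ D ∨ (KPt.PI π p = p ∧ sg p.1 * sg p.2 = -1)) :
    Module.finrank q.asIdeal.ResidueField (AzSign.symSpan t q) = Nat.card D := by
  classical
  haveI : IsAzumaya R A := hA.1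
  have h2R : IsUnit (2 : R) := by
    have := h2.map (algebraMap S R)
    rwa [map_ofNat] at this
  have hramp := ramP_of_ram lam hlam hfix q hq
  have hlam' := RInvB.lamBC_lamBC lam hlam C
  have hfix' := RInvB.isFixedRing_lamBC lam hfix C
  haveI := pC.isPrime
  obtain ⟨P', hP', hover⟩ := RInvB.exists_prime_over (RInvB.lamBC lam C) hlam' hfix' pC.asIdeal
  have hramC := RInvB.ramP_lamBC lam C _ hramp pC.asIdeal hpC P' hP' hover
  have hPq : P'.comap (SkewStd.inc S R C) = q.asIdeal := by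
    haveI : (P'.comap (SkewStd.inc S R C)).IsPrime := Ideal.comap_isPrime _ _
    refine RInvB.unique_prime_of_ramP lam hlam hfix _ hramp _ _ inferInstance q.isPrime ?_ rfl
    rw [← hpC, ← hover, Ideal.comap_comap, Ideal.comap_comap]
    congr 1
    ext s
    simp [Algebra.TensorProduct.algebraMap_apply, Algebra.algebraMap_eq_smul_one]
  -- the residue field
  have hK : ∀ l, algebraMap (C ⊗[S] R) P'.ResidueField (RInvB.lamBC lam C l) =
      algebraMap (C ⊗[S] R) P'.ResidueField l := by
    intro l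
    have := Ideal.algebraMap_residueField_eq_zero.mpr (hramC l)
    rw [map_sub, sub_eq_zero] at this
    exact this.symm
  have h2K : IsUnit (2 : P'.ResidueField) := by
    have := (h2.map (algebraMap S (C ⊗[S] R))).map (algebraMap (C ⊗[S] R) P'.ResidueField)
    rwa [map_ofNat, map_ofNat] at this
  let g : R →+* P'.ResidueField := (algebraMap (C ⊗[S] R) P'.ResidueField).comp (SkewStd.inc S R C)
  have hg0 : ∀ r, g r = 0 ↔ r ∈ q.asIdeal := by
    intro r
    rw [← hPq]
    exact Ideal.algebraMap_residueField_eq_zero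
  let ψ : q.asIdeal.ResidueField →+* P'.ResidueField :=
    Ideal.ResidueField.lift q.asIdeal g (fun r hr => (hg0 r).mpr hr) (by
      intro r hr
      have : g r ≠ 0 := fun h => hr ((hg0 r).mp h)
      exact isUnit_iff_ne_zero.mpr this)
  have hψ : ∀ r, ψ (algebraMap R q.asIdeal.ResidueField r) = g r :=
    fun r => Ideal.ResidueField.lift_algebraMap _ _ _ _ r
  -- the algebra over `C ⊗ R` and its base change to the residue field
  obtain ⟨e, he, hte⟩ := hstd
  have hAB := AzBC.isAzumayaDeg_bc S R A C n hA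
  set tB := StdInv.bcInv S R lam hlam A t C with htB
  have hct := KPt.cR_t tB n hn hAB hι e he π sg hte hπ η hη hηη
  set c₀ := KPt.cR n hn hAB hι e he with hc₀
  have hc := KPt.coord_TK P'.ResidueField hK tB c₀ (KPt.PI π) (KPt.EPS (C ⊗[S] R) sg) hct
  set TW := KPt.TK tB P'.ResidueField hK with hTW
  -- the comparison map
  let w₀ : A →+ P'.ResidueField ⊗[C ⊗[S] R] (C ⊗[S] A) :=
    { toFun := fun x => (1 : P'.ResidueField) ⊗ₜ[C ⊗[S] R] ((1 : C) ⊗ₜ[S] x)
      map_zero' := by rw [TensorProduct.tmul_zero, TensorProduct.tmul_zero]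
      map_add' := fun x y => by rw [TensorProduct.tmul_add, TensorProduct.tmul_add] }
  have hw₀ : ∀ (r : R) (x : A), w₀ (r • x) = g r • w₀ x := by
    intro r x
    show (1 : P'.ResidueField) ⊗ₜ[C ⊗[S] R] ((1 : C) ⊗ₜ[S] (r • x)) =
      g r • ((1 : P'.ResidueField) ⊗ₜ[C ⊗[S] R] ((1 : C) ⊗ₜ[S] x))
    rw [← inc_smul' S R A C r x, ← TensorProduct.smul_tmul, TensorProduct.smul_tmul',
      Algebra.smul_def, mul_one, smul_eq_mul, mul_one]
    rfl
  let f : q.asIdeal.ResidueField →+ A →+ P'.ResidueField ⊗[C ⊗[S] R] (C ⊗[S] A) :=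
    { toFun := fun a => (DistribSMul.toAddMonoidHom _ (ψ a)).comp w₀
      map_zero' := by
        ext x
        simp
      map_add' := fun a b => by
        ext x
        simp [add_smul] }
  have hf : ∀ a x, f a x = ψ a • w₀ x := fun a x => rfl
  let Θ : q.asIdeal.ResidueField ⊗[R] A →+ P'.ResidueField ⊗[C ⊗[S] R] (C ⊗[S] A) :=
    TensorProduct.liftAddHom f (by
      intro r a x
      rw [hf, hf, hw₀, Algebra.smul_def, map_mul, hψ, mul_smul, smul_comm])
  have hΘt : ∀ a x, Θ (a ⊗ₜ[R] x) = ψ a • w₀ x := fun a x => rfl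
  have hΘ : ∀ (a : q.asIdeal.ResidueField) (v : q.asIdeal.ResidueField ⊗[R] A),
      Θ (a • v) = ψ a • Θ v := by
    intro a v
    induction v using TensorProduct.induction_on with
    | zero => simp
    | add x y hx hy => rw [smul_add, map_add, hx, hy, map_add, smul_add]
    | tmul a' x => rw [TensorProduct.smul_tmul', smul_eq_mul, hΘt, hΘt, map_mul, mul_smul]
  have hTΘ : ∀ v, TW (Θ v) = Θ (AzSign.T t q hq v) := by
    intro v
    induction v using TensorProduct.induction_on with
    | zero => simp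
    | add x y hx hy => rw [map_add, map_add, hx, hy, map_add, map_add]
    | tmul a x =>
        rw [AzSign.T_tmul, hΘt, hΘt, map_smul]
        congr 1
        show KPt.TK tB P'.ResidueField hK ((1 : P'.ResidueField) ⊗ₜ[C ⊗[S] R] ((1 : C) ⊗ₜ[S] x)) =
          (1 : P'.ResidueField) ⊗ₜ[C ⊗[S] R] ((1 : C) ⊗ₜ[S] t x)
        rw [KPt.TK_tmul, htB, StdInv.bcInv_apply, LamInv.bc_tmul]
  have hΘp : ∀ v ∈ AzSign.symSpan t q, TW (Θ v) = Θ v := by
    intro v hv
    rw [hTΘ, AzSign.T_sym t q hq v hv]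
  have hΘm : ∀ v ∈ AzSign.skewSpan t q, TW (Θ v) = -Θ v := by
    intro v hv
    rw [hTΘ, AzSign.T_skew t q hq v hv, map_neg]
  have hspan : Submodule.span P'.ResidueField (Set.range Θ) = ⊤ := by
    rw [eq_top_iff]
    intro y _
    induction y using TensorProduct.induction_on with
    | zero => exact Submodule.zero_mem _
    | add x y hx hy => exact Submodule.add_mem _ (hx trivial) (hy trivial)
    | tmul a z =>
        induction z using TensorProduct.induction_on with
        | zero => rw [TensorProduct.tmul_zero]; exact Submodule.zero_mem _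
        | add x y hx hy =>
            rw [TensorProduct.tmul_add]
            exact Submodule.add_mem _ (hx trivial) (hy trivial)
        | tmul c x =>
            have h1 : a ⊗ₜ[C ⊗[S] R] (c ⊗ₜ[S] x : C ⊗[S] A) =
                (a * algebraMap (C ⊗[S] R) P'.ResidueField (c ⊗ₜ[S] (1 : R))) •
                  Θ ((1 : q.asIdeal.ResidueField) ⊗ₜ[R] x) := by
              rw [hΘt, map_one, one_smul, tmul_eq_smul S R A C c x, ← TensorProduct.smul_tmul]
              show _ = (a * algebraMap (C ⊗[S] R) P'.ResidueField (c ⊗ₜ[S] (1 : R))) •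
                ((1 : P'.ResidueField) ⊗ₜ[C ⊗[S] R] ((1 : C) ⊗ₜ[S] x))
              rw [TensorProduct.smul_tmul', Algebra.smul_def, smul_eq_mul, mul_one, mul_comm]
            rw [h1]
            exact Submodule.smul_mem _ _ (Submodule.subset_span ⟨_, rfl⟩)
  have hdim : Module.finrank q.asIdeal.ResidueField (q.asIdeal.ResidueField ⊗[R] A) =
      Fintype.card (ι × ι) := by
    rw [Fintype.card_prod, hι, ← pow_two, ← hA.2 q, Module.rankAtStalk_eq]
  refine FixDim.finrank_plus_eq (AzSign.symSpan t q) (AzSign.skewSpan t q)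
    (AzSign.sup_eq_top t h2R q) (AzSign.inf_eq_bot t q hq h2R) h2K ψ TW
    (AzOrthSymp.coord c₀ P'.ResidueField) (KPt.PI π)
    (fun p => algebraMap (C ⊗[S] R) P'.ResidueField (KPt.EPS (C ⊗[S] R) sg p)) hc ?_ ?_ ?_ Θ hΘ hΘp
    hΘm hspan hdim D ?_ hD2 ?_
  · intro p
    simp only [KPt.PI, hπ]
  · intro p
    simp only [KPt.PI, KPt.EPS, hη]
    congr 2
    calc η * sg p.2 * (η * sg p.1) = (η * η) * (sg p.1 * sg p.2) := by ring
      _ = sg p.1 * sg p.2 := by rw [hηη, one_mul]
  · intro p
    simp only [KPt.EPS]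
    rw [← map_mul, ← Int.cast_mul]
    have : sg p.1 * sg p.2 * (sg p.1 * sg p.2) = 1 := by
      calc sg p.1 * sg p.2 * (sg p.1 * sg p.2)
          = (sg p.1 * sg p.1) * (sg p.2 * sg p.2) := by ring
        _ = 1 := by rw [hsg, hsg, one_mul]
    rw [this, Int.cast_one, map_one]
  · intro p hp hfixp
    simp only [KPt.EPS]
    rw [hD1 p hp hfixp, Int.cast_one, map_one]
  · intro p hp
    rcases hD' p hp with h | ⟨h1, h3⟩
    · exact Or.inl h
    · refine Or.inr ⟨h1, ?_⟩
      simp only [KPt.EPS]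
      rw [h3, Int.cast_neg, Int.cast_one, map_neg, map_one]

include hlam hfix in
/-- orthogonal kind near the prime below `q`: the symmetric elements span a space of dimension
`n (n + 1) / 2` in the fibre at `q`. -/
theorem finrank_of_kpAt (h2 : IsUnit (2 : S)) (hn : 0 < n) (hA : IsAzumayaDeg R A n)
    (q : PrimeSpectrum R) (hq : ∀ r, lam r - r ∈ q.asIdeal)
    (h : StdP.StdAtP S R lam A t (ι := Fin n) id (fun _ => 1) (q.comap (algebraMap S R))) :
    Module.finrank q.asIdeal.ResidueField (AzSign.symSpan t q) = Nat.choose (n + 1) 2 := by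
  obtain ⟨S', _, _, het, ⟨q', hq'⟩, hstd⟩ := h
  have h1 := finrank_symSpan_eq S R lam hlam hfix A t n h2 hn hA q hq S' q'
    (congrArg PrimeSpectrum.asIdeal hq') (Fintype.card_fin n) id (fun _ => 1) (fun _ => rfl) 1
    (fun _ => by simp) (by simp) (fun _ => by simp) hstd
    {p : Fin n × Fin n | p.1 ≤ p.2} (fun _ _ _ => by simp)
    (by
      rintro ⟨i, j⟩ hp hne hmem
      simp only [Set.mem_setOf_eq, KPt.PI, id] at hp hmem
      exact hne (by simp only [KPt.PI, id]; rw [le_antisymm hp hmem]))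
    (by
      rintro ⟨i, j⟩ hp
      simp only [Set.mem_setOf_eq, not_le] at hp
      left
      simp only [Set.mem_setOf_eq, KPt.PI, id]
      exact le_of_lt hp)
  rw [h1, AzOrthSymp.card_D, Nat.choose_succ_succ, Nat.choose_one_right, add_comm]

include hlam hfix in
/-- symplectic kind near the prime below `q`: the dimension is not `n (n + 1) / 2`. -/
theorem finrank_ne_of_kmAt (h2 : IsUnit (2 : S)) (hn : 0 < n) (hA : IsAzumayaDeg R A n)
    (q : PrimeSpectrum R) (hq : ∀ r, lam r - r ∈ q.asIdeal) (k : ℕ) (hk : 2 * k = n)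
    (h : StdP.StdAtP S R lam A t (SympStd.flip (Fin k)) (SympStd.sgJ (Fin k))
      (q.comap (algebraMap S R))) :
    Module.finrank q.asIdeal.ResidueField (AzSign.symSpan t q) ≠ Nat.choose (n + 1) 2 := by
  obtain ⟨S', _, _, het, ⟨q', hq'⟩, hstd⟩ := h
  have hι : Fintype.card (Fin 2 × Fin k) = n := by
    rw [Fintype.card_prod, Fintype.card_fin, Fintype.card_fin, hk]
  have h1 := finrank_symSpan_eq S R lam hlam hfix A t n h2 hn hA q hq S' q'
    (congrArg PrimeSpectrum.asIdeal hq') hι (SympStd.flip (Fin k)) (SympStd.sgJ (Fin k))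
    (SympStd.flip_flip (Fin k)) (-1) (SympStd.sgJ_flip (Fin k)) (by simp)
    (SympStd.sgJ_mul_self (Fin k)) hstd (KPt.DM (Fin k)) (KPt.DM_hD1 (Fin k))
    (KPt.DM_hD2 (Fin k)) (KPt.DM_hD' (Fin k))
  rw [h1]
  intro h3
  have h4 := KPt.card_DM (Fin k)
  rw [Fintype.card_fin, hk, h3] at h4
  have h5 := AzOrthSymp.two_mul_choose_two (n + 1)
  rw [Nat.add_sub_cancel] at h5
  nlinarith

theorem kpAt_matrix (m N : ℕ) (p : PrimeSpectrum S)
    (h : StdP.StdAtP S R lam A t (ι := Fin N) id (fun _ => 1) p) :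
    StdP.StdAtP S R lam (Matrix (Fin m) (Fin m) A) (t.matrix (Fin m)) (ι := Fin (m * N)) id
      (fun _ => 1) p := by
  obtain ⟨S', _, _, het, hq', hstd⟩ := h
  exact ⟨S', inferInstance, inferInstance, het, hq', Kind.kp_matrix S R lam A t m N S' hstd⟩

theorem kmAt_matrix (m k : ℕ) (p : PrimeSpectrum S)
    (h : StdP.StdAtP S R lam A t (SympStd.flip (Fin k)) (SympStd.sgJ (Fin k)) p) :
    StdP.StdAtP S R lam (Matrix (Fin m) (Fin m) A) (t.matrix (Fin m))
      (SympStd.flip (Fin (m * k))) (SympStd.sgJ (Fin (m * k))) p := by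
  obtain ⟨S', _, _, het, hq', hstd⟩ := h
  exact ⟨S', inferInstance, inferInstance, het, hq', Kind.km_matrix S R lam A t m k S' hstd⟩

end Main

section Thm

universe w'

variable (S : Type u) (R : Type v) [CommRing S] [CommRing R] [Algebra S R]
  (lam : R ≃ₐ[S] R) (hlam : ∀ r, lam (lam r) = r)
  (hfix : RInv.IsFixedRing S R lam.toRingEquiv)
  (A : Type w) [Ring A] [Algebra S A] [Algebra R A] [IsScalarTower S R A]
  (A' : Type w') [Ring A'] [Algebra S A'] [Algebra R A'] [IsScalarTower S R A']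
  (t : LamInv R A lam) (t' : LamInv R A' lam) (n n' : ℕ)

include hlam hfix in
theorem main (h2 : IsUnit (2 : S)) (hn : 0 < n) (hn' : 0 < n')
    (hA : IsAzumayaDeg R A n) (hA' : IsAzumayaDeg R A' n') :
    SameType S lam t t' ↔
      ∀ q : PrimeSpectrum R, (∀ r : R, lam r - r ∈ q.asIdeal) →
        (Module.finrank q.asIdeal.ResidueField (AzSign.symSpan t q) = Nat.choose (n + 1) 2 ↔
          Module.finrank q.asIdeal.ResidueField (AzSign.symSpan t' q) = Nat.choose (n' + 1) 2) := by
  have hsq := SqrtTwo.hasSqrt_of_two S h2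
  constructor
  · rintro ⟨m, m', hm, hm', hloc⟩ q hq
    have hramp : RInvB.RamP lam (q.comap (algebraMap S R)).asIdeal :=
      ramP_of_ram lam hlam hfix q hq
    have hisoAt : IsoOv.IsoAt S R lam (Matrix (Fin m) (Fin m) A) (Matrix (Fin m') (Fin m') A')
        (t.matrix (Fin m)) (t'.matrix (Fin m')) (q.comap (algebraMap S R)) := by
      obtain ⟨S₀, _, _, het, hff, hiso⟩ := IsoOv.exists_isoOver_of_locIsoEt S R lam _ _ _ _ hloc
      obtain ⟨q₀, hq₀⟩ := PrimeSpectrum.comap_surjective_of_faithfullyFlat (A := S) (B := S₀)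
        (q.comap (algebraMap S R))
      exact ⟨S₀, inferInstance, inferInstance, het, ⟨q₀, hq₀⟩, hiso⟩
    rcases RamStd.L1 S R lam hlam hfix A t n h2 hsq hn hA (q.comap (algebraMap S R)) with
      h1 | ⟨κ, _, _, hκ, h1⟩
    · have e1 := finrank_of_kpAt S R lam hlam hfix A t n h2 hn hA q hq
        (StdP.stdAtP_of_stdAt S R lam A t n _ h1)
      rcases RamStd.L1 S R lam hlam hfix A' t' n' h2 hsq hn' hA' (q.comap (algebraMap S R)) with
        h1' | ⟨κ', _, _, hκ', h1'⟩
      · have e2 := finrank_of_kpAt S R lam hlam hfix A' t' n' h2 hn' hA' q hq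
          (StdP.stdAtP_of_stdAt S R lam A' t' n' _ h1')
        exact ⟨fun _ => e2, fun _ => e1⟩
      · exfalso
        have hA'' : IsAzumayaDeg R A' (2 * Fintype.card κ') := by rw [hκ']; exact hA'
        exact SameKind.false_of_kp_km S R lam hlam hfix A A' t t' h2 _ hramp n
          (Fintype.card κ') m m' hn (by omega) hm hm' hA hA''
          (StdP.stdAtP_of_stdAt S R lam A t n _ h1)
          (SameKind.kmAt_of_flip S R lam A' t' κ' _ rfl _ h1') hisoAt
    · have e1 := finrank_ne_of_kmAt S R lam hlam hfix A t n h2 hn hA q hq (Fintype.card κ) hκ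
        (SameKind.kmAt_of_flip S R lam A t κ _ rfl _ h1)
      rcases RamStd.L1 S R lam hlam hfix A' t' n' h2 hsq hn' hA' (q.comap (algebraMap S R)) with
        h1' | ⟨κ', _, _, hκ', h1'⟩
      · exfalso
        have hA'' : IsAzumayaDeg R A (2 * Fintype.card κ) := by rw [hκ]; exact hA
        obtain ⟨S₀, _, _, het, hq₀, hiso⟩ := hisoAt
        exact SameKind.false_of_kp_km S R lam hlam hfix A' A t' t h2 _ hramp n'
          (Fintype.card κ) m' m hn' (by omega) hm' hm hA' hA''
          (StdP.stdAtP_of_stdAt S R lam A' t' n' _ h1')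
          (SameKind.kmAt_of_flip S R lam A t κ _ rfl _ h1)
          ⟨S₀, inferInstance, inferInstance, het, hq₀,
            IsoOv.IsoOver.symm S R lam _ _ _ _ S₀ hiso⟩
      · have e2 := finrank_ne_of_kmAt S R lam hlam hfix A' t' n' h2 hn' hA' q hq
          (Fintype.card κ') hκ' (SameKind.kmAt_of_flip S R lam A' t' κ' _ rfl _ h1')
        exact ⟨fun h => absurd h e1, fun h => absurd h e2⟩
  · intro h
    refine ⟨n', n, hn', hn, ?_⟩
    apply IsoOv.locIsoEt_of_isoAt
    intro p
    have hA₁ : IsAzumayaDeg R (Matrix (Fin n') (Fin n') A) (n' * n) :=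
      Ampl.isAzumayaDeg_matrix R A n' n hn' hA
    have hA₂ : IsAzumayaDeg R (Matrix (Fin n) (Fin n) A') (n' * n) := by
      have := Ampl.isAzumayaDeg_matrix R A' n n' hn hA'
      rwa [mul_comm] at this
    have hN : 0 < n' * n := Nat.mul_pos hn' hn
    have hpp : StdInv.StdAt S R lam A t n p → StdInv.StdAt S R lam A' t' n' p →
        IsoOv.IsoAt S R lam (Matrix (Fin n') (Fin n') A) (Matrix (Fin n) (Fin n) A')
          (t.matrix (Fin n')) (t'.matrix (Fin n)) p := by
      intro h1 h1'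
      have a1 := kpAt_matrix S R lam A t n' n p (StdP.stdAtP_of_stdAt S R lam A t n p h1)
      have a2 := kpAt_matrix S R lam A' t' n n' p (StdP.stdAtP_of_stdAt S R lam A' t' n' p h1')
      rw [Nat.mul_comm n n'] at a2
      exact SameKind.isoAt_of_stdAtP S R lam _ _ _ _ (n' * n) hN hA₁ hA₂ (Fintype.card_fin _) id
        (fun _ => 1) p a1 a2
    haveI := p.isPrime
    rcases RInvB.ramP_or_exists lam hlam hfix p.asIdeal with hram | ⟨r₀, s, hs, hsp⟩
    · obtain ⟨Q, hQ, hQp⟩ := RInvB.exists_prime_over lam hlam hfix p.asIdeal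
      have hq : ∀ r, lam r - r ∈ (⟨Q, hQ⟩ : PrimeSpectrum R).asIdeal := by
        intro r
        have := Q.neg_mem (hram Q hQ hQp r)
        rwa [neg_sub] at this
      have hqp : (⟨Q, hQ⟩ : PrimeSpectrum R).comap (algebraMap S R) = p := PrimeSpectrum.ext hQp
      have hiff := h ⟨Q, hQ⟩ hq
      rcases RamStd.L1 S R lam hlam hfix A t n h2 hsq hn hA p with h1 | ⟨κ, _, _, hκ, h1⟩
      · rcases RamStd.L1 S R lam hlam hfix A' t' n' h2 hsq hn' hA' p with
          h1' | ⟨κ', _, _, hκ', h1'⟩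
        · exact hpp h1 h1'
        · exfalso
          have b1 := StdP.stdAtP_of_stdAt S R lam A t n p h1
          have b2 := SameKind.kmAt_of_flip S R lam A' t' κ' _ rfl p h1'
          rw [← hqp] at b1 b2
          have e1 := finrank_of_kpAt S R lam hlam hfix A t n h2 hn hA ⟨Q, hQ⟩ hq b1
          have e2 := finrank_ne_of_kmAt S R lam hlam hfix A' t' n' h2 hn' hA' ⟨Q, hQ⟩ hq
            (Fintype.card κ') hκ' b2
          exact e2 (hiff.mp e1)
      · rcases RamStd.L1 S R lam hlam hfix A' t' n' h2 hsq hn' hA' p with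
          h1' | ⟨κ', _, _, hκ', h1'⟩
        · exfalso
          have b1 := StdP.stdAtP_of_stdAt S R lam A' t' n' p h1'
          have b2 := SameKind.kmAt_of_flip S R lam A t κ _ rfl p h1
          rw [← hqp] at b1 b2
          have e1 := finrank_of_kpAt S R lam hlam hfix A' t' n' h2 hn' hA' ⟨Q, hQ⟩ hq b1
          have e2 := finrank_ne_of_kmAt S R lam hlam hfix A t n h2 hn hA ⟨Q, hQ⟩ hq
            (Fintype.card κ) hκ b2
          exact e2 (hiff.mpr e1)
        · have a1 := kmAt_matrix S R lam A t n' (Fintype.card κ) p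
            (SameKind.kmAt_of_flip S R lam A t κ _ rfl p h1)
          have a2 := kmAt_matrix S R lam A' t' n (Fintype.card κ') p
            (SameKind.kmAt_of_flip S R lam A' t' κ' _ rfl p h1')
          have hkk : n * Fintype.card κ' = n' * Fintype.card κ := by
            rw [← hκ, ← hκ']
            ring
          rw [hkk] at a2
          have hι : Fintype.card (Fin 2 × Fin (n' * Fintype.card κ)) = n' * n := by
            rw [Fintype.card_prod, Fintype.card_fin, Fintype.card_fin, ← hκ]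
            ring
          exact SameKind.isoAt_of_stdAtP S R lam _ _ _ _ (n' * n) hN hA₁ hA₂ hι _ _ p a1 a2
    · exact hpp (RamStd.stdAt_unram S R lam hlam hfix A t n hn hA p r₀ s hs hsp)
        (RamStd.stdAt_unram S R lam hlam hfix A' t' n' hn' hA' p r₀ s hs hsp)

end Thm

end Groth.Agent.H7.SymDim
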