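import Mathlib

/-! Swap-invariants of the fourth power of the diagonal ideal (helper7). -/

set_option autoImplicit false

namespace Groth.Agent.H7.SymSq

open TensorProduct Pointwise

universe u

variable (k R : Type u) [Field k] [NeZero (2 : k)] [CommRing R] [Algebra k R]

/-- the swap. -/
noncomputable abbrev sw : R ⊗[k] R →ₐ[k] R ⊗[k] R :=
  ((Algebra.TensorProduct.comm k R R : R ⊗[k] R ≃ₐ[k] R ⊗[k] R) : R ⊗[k] R →ₐ[k] R ⊗[k] R)

/-- the invariants. -/
noncomputable abbrev Sinv : Subalgebra k (R ⊗[k] R) := AlgHom.equalizer (sw k R) (AlgHom.id k (R ⊗[k] R))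

variable {k R}

lemma sw_sw (c : R ⊗[k] R) : sw k R (sw k R c) = c := by
  induction c using TensorProduct.induction_on with
  | zero => simp
  | tmul a b => rfl
  | add x y hx hy => rw [map_add, map_add, hx, hy]

/-- the generators of the diagonal ideal. -/
noncomputable def g (s : R) : R ⊗[k] R := (1 : R) ⊗ₜ[k] s - s ⊗ₜ[k] (1 : R)

lemma sw_g (s : R) : sw k R (g (k := k) s) = - g (k := k) s := by
  simp only [g, map_sub]
  rw [neg_sub]
  rfl

lemma sw_gg (a b : R) : sw k R (g (k := k) a * g b) = g a * g b := by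
  rw [map_mul, sw_g, sw_g, neg_mul_neg]

lemma mem_Sinv (c : R ⊗[k] R) : c ∈ Sinv k R ↔ sw k R c = c := Iff.rfl

/-- the symmetrisation. -/
noncomputable def sym (c : R ⊗[k] R) : R ⊗[k] R := (2 : k)⁻¹ • (c + sw k R c)

lemma sym_mem (c : R ⊗[k] R) : sym c ∈ Sinv k R := by
  rw [mem_Sinv, sym, map_smul, map_add, sw_sw, add_comm]

lemma sym_of_inv (c : R ⊗[k] R) (hc : sw k R c = c) : sym c = c := by
  rw [sym, hc, ← two_smul k c, smul_smul, inv_mul_cancel₀ (NeZero.ne (2 : k)), one_smul]

lemma sym_mul_inv (c m : R ⊗[k] R) (hm : sw k R m = m) : sym (c * m) = sym c * m := by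
  rw [sym, sym, map_mul, hm, ← add_mul, smul_mul_assoc]

theorem ideal_sq_eq : KaehlerDifferential.ideal k R ^ 2 =
    Ideal.span (Set.range (g (k := k) (R := R)) * Set.range (g (k := k) (R := R))) := by
  rw [← KaehlerDifferential.span_range_eq_ideal, sq, Ideal.span_mul_span']
  rfl

theorem main :
    Ideal.comap (Sinv k R).val (KaehlerDifferential.ideal k R ^ 4) =
      (Ideal.comap (Sinv k R).val (KaehlerDifferential.ideal k R ^ 2)) ^ 2 := by
  set I := KaehlerDifferential.ideal k R with hI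
  set J2 := Ideal.comap (Sinv k R).val (I ^ 2) with hJ2
  set P : Set (R ⊗[k] R) := Set.range (g (k := k) (R := R)) * Set.range (g (k := k) (R := R))
    with hP
  have hI2 : I ^ 2 = Ideal.span P := ideal_sq_eq
  have hI4 : I ^ 4 = Ideal.span (P * P) := by
    have : I ^ 4 = I ^ 2 * I ^ 2 := by rw [← pow_add]
    rw [this, hI2, Ideal.span_mul_span']
  have hPinv : ∀ m ∈ P, sw k R m = m := by
    rintro m ⟨_, ⟨a, rfl⟩, _, ⟨b, rfl⟩, rfl⟩
    exact sw_gg a b
  have hPI : ∀ m ∈ P, m ∈ I ^ 2 := fun m hm => by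
    rw [hI2]; exact Ideal.subset_span hm
  apply le_antisymm
  · intro x hx
    rw [Ideal.mem_comap, hI4] at hx
    -- the key claim
    have key : ∀ y ∈ Ideal.span (P * P), ∀ c : R ⊗[k] R,
        ∃ w : Sinv k R, w ∈ J2 ^ 2 ∧ (w : R ⊗[k] R) = sym (c * y) := by
      intro y hy
      induction hy using Submodule.span_induction with
      | mem y hy =>
        obtain ⟨m1, hm1, m2, hm2, rfl⟩ := hy
        intro c
        have h1 : sw k R m1 = m1 := hPinv m1 hm1
        have h2 : sw k R m2 = m2 := hPinv m2 hm2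
        have h12 : sw k R (m1 * m2) = m1 * m2 := by rw [map_mul, h1, h2]
        refine ⟨⟨sym c, sym_mem c⟩ * (⟨m1, h1⟩ * ⟨m2, h2⟩), ?_, ?_⟩
        · apply Ideal.mul_mem_left
          rw [sq]
          apply Ideal.mul_mem_mul
          · exact hPI m1 hm1
          · exact hPI m2 hm2
        · rw [sym_mul_inv c _ h12]
          rfl
      | zero =>
        intro c
        exact ⟨0, zero_mem _, by simp [sym]⟩
      | add y z _ _ hy hz =>
        intro c
        obtain ⟨w1, hw1, e1⟩ := hy c
        obtain ⟨w2, hw2, e2⟩ := hz c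
        refine ⟨w1 + w2, add_mem hw1 hw2, ?_⟩
        rw [Subalgebra.coe_add, e1, e2, sym, sym, sym, mul_add, map_add, ← smul_add]
        congr 1
        abel
      | smul d y _ hy =>
        intro c
        obtain ⟨w, hw, e⟩ := hy (c * d)
        refine ⟨w, hw, ?_⟩
        rw [e, smul_eq_mul, mul_assoc]
    obtain ⟨w, hw, e⟩ := key _ hx 1
    have e' : (w : R ⊗[k] R) = x := by
      rw [e, one_mul]
      exact sym_of_inv _ x.2
    have : w = x := Subtype.ext e'
    rw [← this]
    exact hw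
  · rw [hJ2, sq]
    refine (Ideal.le_comap_mul _).trans ?_
    rw [← pow_add]

end Groth.Agent.H7.SymSq
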