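import Mathlib
universe u

namespace Groth.Agent.H7.T13963

open Set

theorem main (A' A A'' : Type u)
    [AddCommGroup A'] [TopologicalSpace A'] [IsTopologicalAddGroup A'] [SecondCountableTopology A'] [T2Space A']
    [CompactSpace A']
    [AddCommGroup A] [TopologicalSpace A] [IsTopologicalAddGroup A] [LocallyCompactSpace A]
    [SecondCountableTopology A] [T2Space A]
    [AddCommGroup A''] [TopologicalSpace A''] [IsTopologicalAddGroup A''] [SecondCountableTopology A''] [T2Space A'']
    [CompactSpace A'']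
    (f : A' →+ A) (g : A →+ A'') (hf : Continuous f) (hg : Continuous g)
    (hinj : Function.Injective f) (hsurj : Function.Surjective g) (hex : g.ker = f.range) :
    CompactSpace A := by
  have hopen : IsOpenMap g := AddMonoidHom.isOpenMap_of_sigmaCompact g hsurj hg
  obtain ⟨K, hKc, hK0⟩ := exists_compact_mem_nhds (0 : A)
  have hVopen : ∀ a : A, IsOpen (g '' ((fun x => a + x) '' interior K)) := fun a =>
    hopen _ ((isOpenMap_add_left a) _ isOpen_interior)
  have hcov : (univ : Set A'') ⊆ ⋃ a : A, g '' ((fun x => a + x) '' interior K) := by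
    intro y _
    obtain ⟨a, rfl⟩ := hsurj y
    refine mem_iUnion.mpr ⟨a, ⟨a, ⟨0, mem_interior_iff_mem_nhds.mpr hK0, by simp⟩, rfl⟩⟩
  obtain ⟨t, ht⟩ := isCompact_univ.elim_finite_subcover _ hVopen hcov
  have hcomp : IsCompact (⋃ a ∈ t, (fun q : A × A' => a + q.1 + f q.2) '' (K ×ˢ (univ : Set A'))) := by
    apply Finset.isCompact_biUnion
    intro a _
    apply (hKc.prod isCompact_univ).image
    fun_prop
  rw [← isCompact_univ_iff]
  apply hcomp.of_isClosed_subset isClosed_univ
  intro x _
  have hx := ht (mem_univ (g x))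
  simp only [mem_iUnion, exists_prop] at hx
  obtain ⟨a, hat, z, ⟨k, hk, rfl⟩, hz⟩ := hx
  have hker : x - (a + k) ∈ g.ker := by
    rw [AddMonoidHom.mem_ker, map_sub, hz, sub_self]
  rw [hex] at hker
  obtain ⟨x', hx'⟩ := hker
  simp only [mem_iUnion, exists_prop]
  refine ⟨a, hat, ⟨(k, x'), ⟨interior_subset hk, mem_univ _⟩, ?_⟩⟩
  simp only
  rw [hx']
  abel

end Groth.Agent.H7.T13963
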