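import Mathlib
universe u

namespace Groth.Agent.H7.T14256

open Polynomial

theorem isIntegral_of_isPRadical {K L : Type*} [CommRing K] [CommRing L] (i : K →+* L) (p : ℕ)
    [hp : Fact p.Prime] [IsPRadical i p] : i.IsIntegral := by
  intro x
  obtain ⟨n, y, hy⟩ := IsPRadical.pow_mem i p x
  let _ := i.toAlgebra
  have h1 : IsIntegral K (x ^ p ^ n) := by
    rw [← hy]; exact i.isIntegralElem_map
  exact IsIntegral.of_pow (pow_pos hp.out.pos n) h1

theorem isIntegral_of_comp_of_ker_le_nilradical {R S T : Type*} [CommRing R] [CommRing S]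
    [CommRing T] (f : R →+* S) (g : S →+* T) (hg : RingHom.ker g ≤ nilradical S)
    (h : (g.comp f).IsIntegral) : f.IsIntegral := by
  intro x
  obtain ⟨P, hP, hPx⟩ := h (g x)
  have h1 : g (P.eval₂ f x) = 0 := by
    rw [← hPx, Polynomial.hom_eval₂]
  have h2 : P.eval₂ f x ∈ nilradical S := hg ((RingHom.mem_ker).mpr h1)
  obtain ⟨N, hN⟩ := mem_nilradical.mp h2
  refine ⟨P ^ N, hP.pow N, ?_⟩
  rw [Polynomial.eval₂_pow, hN]

theorem main (p : ℕ) [Fact p.Prime]
    {A B A' B' : Type u} [CommRing A] [CommRing B] [CommRing A'] [CommRing B']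
    [CharP A p] [CharP B p] [CharP A' p] [CharP B' p] [PerfectRing A' p] [PerfectRing B' p]
    (φ : A →+* B) (i : A →+* A') (j : B →+* B') [IsPerfectClosure i p] [IsPerfectClosure j p]
    (φ' : A' →+* B') (hφ : φ'.comp i = j.comp φ) : φ.IsIntegral ↔ φ'.IsIntegral := by
  have hi : i.IsIntegral := isIntegral_of_isPRadical i p
  have hj : j.IsIntegral := isIntegral_of_isPRadical j p
  constructor
  · intro h
    have h1 : (j.comp φ).IsIntegral := RingHom.IsIntegral.trans φ j h hj
    rw [← hφ] at h1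
    exact RingHom.IsIntegral.tower_top i φ' h1
  · intro h
    have h1 : (φ'.comp i).IsIntegral := RingHom.IsIntegral.trans i φ' hi h
    rw [hφ] at h1
    refine isIntegral_of_comp_of_ker_le_nilradical φ j ?_ h1
    exact (IsPRadical.ker_le j p).trans pNilradical_le_nilradical

end Groth.Agent.H7.T14256
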