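import Mathlib
universe u
open scoped TensorProduct

namespace Groth.Agent.H7.T14416

theorem main (B A : Type u) [CommRing B] [CommRing A] [Algebra B A] [Module.Finite B A]
    (h : ∀ p : PrimeSpectrum B,
      Module.finrank p.asIdeal.ResidueField (p.asIdeal.ResidueField ⊗[B] A) ≤ 1) :
    Function.Surjective (algebraMap B A) := by
  set f : B →ₗ[B] A := Algebra.linearMap B A with hf
  have hC : Subsingleton (A ⧸ LinearMap.range f) := by
    rw [← Module.support_eq_empty_iff (R := B)]
    rw [Set.eq_empty_iff_forall_notMem]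
    intro p hp
    rw [Module.mem_support_iff_nontrivial_residueField_tensorProduct] at hp
    rw [← not_subsingleton_iff_nontrivial] at hp
    apply hp
    set K := p.asIdeal.ResidueField
    have hex : Function.Exact f (LinearMap.range f).mkQ := by
      intro a
      rw [Submodule.mkQ_apply, Submodule.Quotient.mk_eq_zero]
      rfl
    have hsurj : Function.Surjective (LinearMap.range f).mkQ := Submodule.mkQ_surjective _
    have hex' := lTensor_exact K hex hsurj
    have hsurj' := LinearMap.lTensor_surjective K hsurj
    have hfs : Function.Surjective (f.lTensor K) := by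
      intro w
      obtain ⟨v, hv⟩ := finrank_le_one_iff.mp (h p)
      obtain ⟨c₁, hc₁⟩ := hv 1
      obtain ⟨c, hc⟩ := hv w
      by_cases h0 : c₁ = 0
      · rw [h0, zero_smul] at hc₁
        have : w = 0 := by
          rw [← mul_one w, ← hc₁, mul_zero]
        exact ⟨0, by rw [this, map_zero]⟩
      · refine ⟨(c * c₁⁻¹) ⊗ₜ 1, ?_⟩
        rw [LinearMap.lTensor_tmul, hf, Algebra.linearMap_apply, map_one]
        have hv' : v = c₁⁻¹ • (1 : K ⊗[B] A) := by
          rw [← hc₁, smul_smul, inv_mul_cancel₀ h0, one_smul]
        rw [← hc, hv', smul_smul, Algebra.TensorProduct.one_def, TensorProduct.smul_tmul',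
          smul_eq_mul, mul_one]
    constructor
    intro z z'
    have hz : ∀ z : K ⊗[B] (A ⧸ LinearMap.range f), z = 0 := by
      intro z
      obtain ⟨w, rfl⟩ := hsurj' z
      obtain ⟨u, rfl⟩ := hfs w
      exact (hex' _).mpr ⟨u, rfl⟩
    rw [hz z, hz z']
  intro a
  have : (LinearMap.range f).mkQ a = 0 := Subsingleton.elim _ _
  rw [Submodule.mkQ_apply, Submodule.Quotient.mk_eq_zero] at this
  obtain ⟨b, hb⟩ := this
  exact ⟨b, hb⟩

end Groth.Agent.H7.T14416
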