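import Mathlib
import Groth.Prelude.Def_Formal2
universe u

namespace Groth.Agent.H7.T14617

open Formal2

section
variable (G' G G'' : ℕ → Type u)
    [∀ n, AddCommGroup (G' n)] [∀ n, AddCommGroup (G n)] [∀ n, AddCommGroup (G'' n)]
    (t' : ∀ n, G' (n + 1) →+ G' n) (t : ∀ n, G (n + 1) →+ G n) (t'' : ∀ n, G'' (n + 1) →+ G'' n)
    (u : ∀ n, G' n →+ G n) (v : ∀ n, G n →+ G'' n)

/-- pointwise map on products -/
def pw {H K : ℕ → Type u} [∀ n, AddCommGroup (H n)] [∀ n, AddCommGroup (K n)]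
    (f : ∀ n, H n →+ K n) : (∀ n, H n) →+ (∀ n, K n) where
  toFun x := fun n => f n (x n)
  map_zero' := by ext n; simp
  map_add' _ _ := by ext n; simp

@[simp] theorem pw_apply {H K : ℕ → Type u} [∀ n, AddCommGroup (H n)] [∀ n, AddCommGroup (K n)]
    (f : ∀ n, H n →+ K n) (x : ∀ n, H n) (n : ℕ) : pw f x n = f n (x n) := rfl

theorem towerDiff_apply (y : ∀ n, G n) (n : ℕ) :
    towerDiff G t y n = y n - t n (y (n + 1)) := rfl

variable {G' G G'' t' t t'' u v}

theorem comm_pw {H K : ℕ → Type u} [∀ n, AddCommGroup (H n)] [∀ n, AddCommGroup (K n)]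
    {s : ∀ n, H (n + 1) →+ H n} {r : ∀ n, K (n + 1) →+ K n}
    {f : ∀ n, H n →+ K n} (hf : ∀ n x, r n (f (n + 1) x) = f n (s n x)) (x : ∀ n, H n) :
    towerDiff K r (pw f x) = pw f (towerDiff H s x) := by
  ext n
  simp only [towerDiff_apply, pw_apply, map_sub, hf]

end

section main
variable {G' G G'' : ℕ → Type u}
    [∀ n, AddCommGroup (G' n)] [∀ n, AddCommGroup (G n)] [∀ n, AddCommGroup (G'' n)]
    {t' : ∀ n, G' (n + 1) →+ G' n} {t : ∀ n, G (n + 1) →+ G n} {t'' : ∀ n, G'' (n + 1) →+ G'' n}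
    {u : ∀ n, G' n →+ G n} {v : ∀ n, G n →+ G'' n}
    (hu : ∀ n x, t n (u (n + 1) x) = u n (t' n x)) (hv : ∀ n x, t'' n (v (n + 1) x) = v n (t n x))
    (hinj : ∀ n, Function.Injective (u n)) (hsurj : ∀ n, Function.Surjective (v n))
    (hex : ∀ n, (v n).ker = (u n).range)

include hinj in
theorem pw_inj : Function.Injective (pw u) :=
  fun x y h => funext fun n => hinj n (congrFun h n)

include hsurj in
theorem pw_surj : Function.Surjective (pw v) :=
  fun z => ⟨fun n => Function.surjInv (hsurj n) (z n),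
    funext fun n => Function.surjInv_eq (hsurj n) (z n)⟩

include hex in
theorem pw_exact (y : ∀ n, G n) (hy : pw v y = 0) : ∃ w, pw u w = y := by
  have : ∀ n, ∃ w, u n w = y n := fun n => by
    have h1 : y n ∈ (v n).ker := congrFun hy n
    rw [hex n] at h1
    exact h1
  choose w hw using this
  exact ⟨w, funext hw⟩

include hex in
theorem pw_comp_zero (w : ∀ n, G' n) : pw v (pw u w) = 0 := funext fun n => by
  have h1 : u n (w n) ∈ (v n).ker := by rw [hex n]; exact ⟨_, rfl⟩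
  exact h1

include hu hinj hex in
theorem wd (z : ∀ n, G'' n) (y₁ y₂ : ∀ n, G n) (w₁ w₂ : ∀ n, G' n)
    (h1 : pw v y₁ = z) (h2 : pw v y₂ = z) (hw1 : pw u w₁ = towerDiff G t y₁)
    (hw2 : pw u w₂ = towerDiff G t y₂) :
    (QuotientAddGroup.mk w₁ : limOne G' t') = QuotientAddGroup.mk w₂ := by
  rw [QuotientAddGroup.eq]
  obtain ⟨x, hx⟩ := pw_exact hex (y₂ - y₁) (by rw [map_sub, h1, h2, sub_self])
  refine ⟨x, ?_⟩
  apply pw_inj hinj
  rw [← comm_pw hu, hx, map_sub, map_add, map_neg, hw1, hw2]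
  abel

include hv hsurj hex in
theorem exists_lift (z : limZero G'' t'') :
    ∃ (y : ∀ n, G n) (w : ∀ n, G' n), pw v y = z.1 ∧ pw u w = towerDiff G t y := by
  obtain ⟨y, hy⟩ := pw_surj hsurj z.1
  obtain ⟨w, hw⟩ := pw_exact hex (towerDiff G t y) (by
    rw [← comm_pw hv, hy]
    exact AddMonoidHom.mem_ker.mp z.2)
  exact ⟨y, w, hy, hw⟩

/-- the connecting map as a function -/
noncomputable def δfun (z : limZero G'' t'') : limOne G' t' :=
  QuotientAddGroup.mk (exists_lift hv hsurj hex z).choose_spec.choose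

include hu hinj in
theorem δfun_spec (z : limZero G'' t'') (y : ∀ n, G n) (w : ∀ n, G' n)
    (hy : pw v y = z.1) (hw : pw u w = towerDiff G t y) :
    δfun hv hsurj hex z = (QuotientAddGroup.mk w : limOne G' t') := by
  have h := (exists_lift hv hsurj hex z).choose_spec.choose_spec
  exact wd hu hinj hex z.1 _ y _ w h.1 hy h.2 hw

/-- the connecting homomorphism -/
noncomputable def δ : limZero G'' t'' →+ limOne G' t' :=
  AddMonoidHom.mk' (δfun hv hsurj hex) (by
    intro z₁ z₂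
    obtain ⟨y₁, w₁, hy₁, hw₁⟩ := exists_lift hv hsurj hex z₁
    obtain ⟨y₂, w₂, hy₂, hw₂⟩ := exists_lift hv hsurj hex z₂
    rw [δfun_spec hu hv hinj hsurj hex z₁ y₁ w₁ hy₁ hw₁,
      δfun_spec hu hv hinj hsurj hex z₂ y₂ w₂ hy₂ hw₂,
      δfun_spec hu hv hinj hsurj hex (z₁ + z₂) (y₁ + y₂) (w₁ + w₂)
        (by rw [map_add, hy₁, hy₂]; rfl) (by rw [map_add, map_add, hw₁, hw₂])]
    rfl)

theorem main (G' G G'' : ℕ → Type u)
    [∀ n, AddCommGroup (G' n)] [∀ n, AddCommGroup (G n)] [∀ n, AddCommGroup (G'' n)]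
    (t' : ∀ n, G' (n + 1) →+ G' n) (t : ∀ n, G (n + 1) →+ G n) (t'' : ∀ n, G'' (n + 1) →+ G'' n)
    (u : ∀ n, G' n →+ G n) (v : ∀ n, G n →+ G'' n)
    (hu : ∀ n x, t n (u (n + 1) x) = u n (t' n x)) (hv : ∀ n x, t'' n (v (n + 1) x) = v n (t n x))
    (hinj : ∀ n, Function.Injective (u n)) (hsurj : ∀ n, Function.Surjective (v n))
    (hex : ∀ n, (v n).ker = (u n).range) :
    ∃ (α : Formal2.limZero G' t' →+ Formal2.limZero G t) (β : Formal2.limZero G t →+ Formal2.limZero G'' t'')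
      (δ : Formal2.limZero G'' t'' →+ Formal2.limOne G' t')
      (ε : Formal2.limOne G' t' →+ Formal2.limOne G t) (ζ : Formal2.limOne G t →+ Formal2.limOne G'' t''),
      (∀ (x : Formal2.limZero G' t') (n : ℕ), (α x : ∀ n, G n) n = u n ((x : ∀ n, G' n) n)) ∧
      (∀ (x : Formal2.limZero G t) (n : ℕ), (β x : ∀ n, G'' n) n = v n ((x : ∀ n, G n) n)) ∧
      (∀ (z : Formal2.limZero G'' t'') (y : ∀ n, G n) (w : ∀ n, G' n),
          (∀ n, v n (y n) = (z : ∀ n, G'' n) n) → (∀ n, u n (w n) = Formal2.towerDiff G t y n) →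
            δ z = (QuotientAddGroup.mk w : Formal2.limOne G' t')) ∧
      (∀ y : ∀ n, G' n, ε (QuotientAddGroup.mk y : Formal2.limOne G' t') =
          (QuotientAddGroup.mk (fun n => u n (y n)) : Formal2.limOne G t)) ∧
      (∀ y : ∀ n, G n, ζ (QuotientAddGroup.mk y : Formal2.limOne G t) =
          (QuotientAddGroup.mk (fun n => v n (y n)) : Formal2.limOne G'' t'')) ∧
      Function.Injective α ∧ α.range = β.ker ∧ β.range = δ.ker ∧ δ.range = ε.ker ∧ ε.range = ζ.ker ∧
      Function.Surjective ζ := by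
  have hU : ∀ x : limZero G' t', ((pw u).comp (limZero G' t').subtype) x ∈ limZero G t := fun x => by
    rw [AddMonoidHom.mem_ker]
    change towerDiff G t (pw u x.1) = 0
    rw [comm_pw hu, AddMonoidHom.mem_ker.mp x.2, map_zero]
  have hV : ∀ x : limZero G t, ((pw v).comp (limZero G t).subtype) x ∈ limZero G'' t'' := fun x => by
    rw [AddMonoidHom.mem_ker]
    change towerDiff G'' t'' (pw v x.1) = 0
    rw [comm_pw hv, AddMonoidHom.mem_ker.mp x.2, map_zero]
  let α : limZero G' t' →+ limZero G t :=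
    ((pw u).comp (limZero G' t').subtype).codRestrict _ hU
  let β : limZero G t →+ limZero G'' t'' :=
    ((pw v).comp (limZero G t).subtype).codRestrict _ hV
  let ε : limOne G' t' →+ limOne G t := QuotientAddGroup.map _ _ (pw u) (by
    rintro _ ⟨x, rfl⟩
    exact ⟨pw u x, comm_pw hu x⟩)
  let ζ : limOne G t →+ limOne G'' t'' := QuotientAddGroup.map _ _ (pw v) (by
    rintro _ ⟨x, rfl⟩
    exact ⟨pw v x, comm_pw hv x⟩)
  have hδ : ∀ (z : Formal2.limZero G'' t'') (y : ∀ n, G n) (w : ∀ n, G' n),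
      pw v y = z.1 → pw u w = towerDiff G t y →
        δ hu hv hinj hsurj hex z = (QuotientAddGroup.mk w : Formal2.limOne G' t') :=
    fun z y w hy hw => δfun_spec hu hv hinj hsurj hex z y w hy hw
  refine ⟨α, β, δ hu hv hinj hsurj hex, ε, ζ, fun x n => rfl, fun x n => rfl, ?_, fun y => rfl,
    fun y => rfl, ?_, ?_, ?_, ?_, ?_, ?_⟩
  · intro z y w hy hw
    exact hδ z y w (funext hy) (funext hw)
  · intro x y hxy
    apply Subtype.ext
    apply pw_inj hinj
    exact congrArg Subtype.val hxy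
  · ext x
    constructor
    · rintro ⟨x', rfl⟩
      rw [AddMonoidHom.mem_ker]
      apply Subtype.ext
      exact pw_comp_zero hex x'.1
    · intro hx
      rw [AddMonoidHom.mem_ker] at hx
      have hx' : pw v x.1 = 0 := congrArg Subtype.val hx
      obtain ⟨w, hw⟩ := pw_exact hex x.1 hx'
      have hwk : w ∈ limZero G' t' := by
        rw [AddMonoidHom.mem_ker]
        apply pw_inj hinj
        rw [← comm_pw hu, hw, AddMonoidHom.mem_ker.mp x.2, map_zero]
      exact ⟨⟨w, hwk⟩, Subtype.ext hw⟩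
  · ext z
    constructor
    · rintro ⟨x, rfl⟩
      rw [AddMonoidHom.mem_ker]
      rw [hδ (β x) x.1 0 rfl (by rw [map_zero, AddMonoidHom.mem_ker.mp x.2])]
      rfl
    · intro hz
      rw [AddMonoidHom.mem_ker] at hz
      obtain ⟨y, w, hy, hw⟩ := exists_lift hv hsurj hex z
      rw [hδ z y w hy hw, QuotientAddGroup.eq_zero_iff] at hz
      obtain ⟨x', hx'⟩ := hz
      have hk : y - pw u x' ∈ limZero G t := by
        rw [AddMonoidHom.mem_ker, map_sub, comm_pw hu, hx', hw, sub_self]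
      refine ⟨⟨y - pw u x', hk⟩, Subtype.ext ?_⟩
      change pw v (y - pw u x') = z.1
      rw [map_sub, pw_comp_zero hex, sub_zero, hy]
  · ext c
    constructor
    · rintro ⟨z, rfl⟩
      obtain ⟨y, w, hy, hw⟩ := exists_lift hv hsurj hex z
      rw [AddMonoidHom.mem_ker, hδ z y w hy hw]
      change (QuotientAddGroup.mk (pw u w) : limOne G t) = 0
      rw [QuotientAddGroup.eq_zero_iff, hw]
      exact ⟨y, rfl⟩
    · intro hc
      obtain ⟨w, rfl⟩ := QuotientAddGroup.mk_surjective c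
      rw [AddMonoidHom.mem_ker] at hc
      change (QuotientAddGroup.mk (pw u w) : limOne G t) = 0 at hc
      rw [QuotientAddGroup.eq_zero_iff] at hc
      obtain ⟨y, hy⟩ := hc
      have hz : pw v y ∈ limZero G'' t'' := by
        rw [AddMonoidHom.mem_ker, comm_pw hv, hy, pw_comp_zero hex]
      exact ⟨⟨pw v y, hz⟩, hδ ⟨pw v y, hz⟩ y w rfl hy.symm⟩
  · ext c
    constructor
    · rintro ⟨c', rfl⟩
      obtain ⟨w, rfl⟩ := QuotientAddGroup.mk_surjective c'
      rw [AddMonoidHom.mem_ker]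
      change (QuotientAddGroup.mk (pw v (pw u w)) : limOne G'' t'') = 0
      rw [pw_comp_zero hex]
      rfl
    · intro hc
      obtain ⟨y, rfl⟩ := QuotientAddGroup.mk_surjective c
      rw [AddMonoidHom.mem_ker] at hc
      change (QuotientAddGroup.mk (pw v y) : limOne G'' t'') = 0 at hc
      rw [QuotientAddGroup.eq_zero_iff] at hc
      obtain ⟨z, hz⟩ := hc
      obtain ⟨y₁, hy₁⟩ := pw_surj hsurj z
      obtain ⟨w, hw⟩ := pw_exact hex (y - towerDiff G t y₁) (by
        rw [map_sub, ← comm_pw hv, hy₁, hz, sub_self])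
      refine ⟨QuotientAddGroup.mk w, ?_⟩
      change (QuotientAddGroup.mk (pw u w) : limOne G t) = QuotientAddGroup.mk y
      rw [QuotientAddGroup.eq, hw]
      refine ⟨y₁, ?_⟩
      abel
  · intro c
    obtain ⟨z, rfl⟩ := QuotientAddGroup.mk_surjective c
    obtain ⟨y, hy⟩ := pw_surj hsurj z
    exact ⟨QuotientAddGroup.mk y, by
      change (QuotientAddGroup.mk (pw v y) : limOne G'' t'') = _
      rw [hy]⟩

end main

end Groth.Agent.H7.T14617
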