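import Mathlib
universe u

namespace Groth.Agent.H7.T15016

open PowerSeries

theorem mem_of_le_order (k : Type u) [Field k] (A : Subalgebra k (PowerSeries k))
    (hcl : ∀ f : PowerSeries k, (∀ n : ℕ, ∃ g ∈ A, (n : ℕ∞) ≤ PowerSeries.order (f - g)) → f ∈ A)
    (Γ : Set ℕ) (hΓ : ∀ n : ℕ, n ∈ Γ ↔ ∃ f ∈ A, PowerSeries.order f = n) (c : ℕ)
    (hc : ∀ n : ℕ, c ≤ n → n ∈ Γ) (h : PowerSeries k) (hh : (c : ℕ∞) ≤ PowerSeries.order h) :
    h ∈ A := by
  apply hcl
  intro n
  induction n with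
  | zero => exact ⟨0, zero_mem _, by simp⟩
  | succ n ih =>
    obtain ⟨a, haA, ha⟩ := ih
    by_cases hn : n < c
    · refine ⟨0, zero_mem _, ?_⟩
      rw [sub_zero]
      refine le_trans ?_ hh
      exact_mod_cast hn
    · push Not at hn
      obtain ⟨b, hbA, hb⟩ := (hΓ n).mp (hc n hn)
      rw [order_eq_nat] at hb
      obtain ⟨hb1, hb2⟩ := hb
      set α : k := coeff n (h - a) / coeff n b with hα
      refine ⟨a + α • b, add_mem haA (A.smul_mem hbA α), ?_⟩
      apply nat_le_order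
      intro i hi
      have hsub : h - (a + α • b) = (h - a) - α • b := by abel
      rw [hsub, map_sub, coeff_smul]
      rcases Nat.lt_succ_iff_lt_or_eq.mp hi with hlt | heq
      · rw [coeff_of_lt_order i (lt_of_lt_of_le (by exact_mod_cast hlt) ha), hb2 i hlt,
          smul_eq_mul, mul_zero, sub_zero]
      · rw [heq, hα, smul_eq_mul, div_mul_cancel₀ _ hb1, sub_self]

theorem main (k : Type u) [Field k] [IsAlgClosed k] (A : Subalgebra k (PowerSeries k)) (hA : Module.Finite ↥A (PowerSeries k)) (hcl : ∀ f : PowerSeries k, (∀ n : ℕ, ∃ g ∈ A, (n : ℕ∞) ≤ PowerSeries.order (f - g)) → f ∈ A) (hsing : A ≠ ⊤) (Γ : Set ℕ) (hΓ : ∀ n : ℕ, n ∈ Γ ↔ ∃ f ∈ A, PowerSeries.order f = n) (c : ℕ) (hc : ∀ n : ℕ, c ≤ n → n ∈ Γ) (hc0 : c ≠ 0) (hc1 : c - 1 ∉ Γ) (f : PowerSeries k) : (∀ g : PowerSeries k, g * f ∈ A) ↔ (c : ℕ∞) ≤ PowerSeries.order f := by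
  constructor
  · intro hg
    by_contra hlt
    push Not at hlt
    have hf0 : f ≠ 0 := by
      intro h0
      rw [h0, order_zero] at hlt
      exact not_top_lt hlt
    obtain ⟨m, hm⟩ : ∃ m : ℕ, order f = m := by
      have := coe_toNat_order hf0
      exact ⟨_, this.symm⟩
    rw [hm] at hlt
    have hmc : m < c := by exact_mod_cast hlt
    apply hc1
    rw [hΓ]
    refine ⟨X ^ (c - 1 - m) * f, hg _, ?_⟩
    rw [order_mul, order_X_pow, hm]
    have : c - 1 - m + m = c - 1 := by omega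
    exact_mod_cast this
  · intro hle g
    apply mem_of_le_order k A hcl Γ hΓ c hc
    rw [order_mul]
    exact le_trans hle le_add_self

end Groth.Agent.H7.T15016
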