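import Mathlib
universe u v

namespace Groth.Agent.H7.T15116

open DirectSum

section
variable {k : Type u} [Field k] {A : Type v} [CommRing A] [Algebra k A]
  (𝒜 : ℤ → Submodule k A) [GradedAlgebra 𝒜]

theorem proj_of_mem {i j : ℤ} {a : A} (ha : a ∈ 𝒜 i) :
    GradedAlgebra.proj 𝒜 j a = if i = j then a else 0 := by
  rw [GradedAlgebra.proj_apply]
  split_ifs with h
  · subst h; exact decompose_of_mem_same 𝒜 ha
  · exact decompose_of_mem_ne 𝒜 ha h

theorem proj_zero_mul (hpos : ∀ i : ℤ, 0 < i → 𝒜 i = ⊥) (a b : A) :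
    GradedAlgebra.proj 𝒜 0 (a * b) = GradedAlgebra.proj 𝒜 0 a * GradedAlgebra.proj 𝒜 0 b := by
  have hz : ∀ (i : ℤ) (x : A), x ∈ 𝒜 i → 0 < i → x = 0 := by
    intro i x hx hi
    rw [hpos i hi] at hx
    exact (Submodule.mem_bot k).mp hx
  induction a using Decomposition.inductionOn 𝒜 with
  | zero => simp
  | add a a' ha ha' => rw [add_mul, map_add, map_add, ha, ha', add_mul]
  | @homogeneous i a =>
    induction b using Decomposition.inductionOn 𝒜 with
    | zero => simp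
    | add b b' hb hb' => rw [mul_add, map_add, map_add, hb, hb', mul_add]
    | @homogeneous j b =>
      rw [proj_of_mem 𝒜 (SetLike.GradedMul.mul_mem a.2 b.2), proj_of_mem 𝒜 a.2,
        proj_of_mem 𝒜 b.2]
      by_cases hi : i = 0
      · by_cases hj : j = 0
        · simp [hi, hj]
        · rw [if_neg hj, mul_zero, if_neg (by omega)]
      · rw [if_neg hi, zero_mul]
        split_ifs with hij
        · rcases lt_or_gt_of_ne hi with h | h
          · have hb0 : (b : A) = 0 := hz j b b.2 (by omega)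
            rw [hb0, mul_zero]
          · have ha0 : (a : A) = 0 := hz i a a.2 h
            rw [ha0, zero_mul]
        · rfl

theorem proj_zero_D (D : Derivation k A A) (l : ℤ)
    (hD : ∀ (i : ℤ) (a : A), a ∈ 𝒜 i → D a ∈ 𝒜 (i + l)) (a : A) :
    GradedAlgebra.proj 𝒜 0 (D a) = D (GradedAlgebra.proj 𝒜 (-l) a) := by
  induction a using Decomposition.inductionOn 𝒜 with
  | zero => simp
  | add a a' ha ha' => rw [map_add, map_add, map_add, map_add, ha, ha']
  | @homogeneous i a =>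
    rw [proj_of_mem 𝒜 (hD i a a.2), proj_of_mem 𝒜 a.2]
    by_cases h : i = -l
    · rw [if_pos h, if_pos (by omega)]
    · rw [if_neg h, if_neg (by omega), map_zero]

/-- the ideal of elements whose degree-zero part is in `D (𝒜 (-l))`. -/
def J (hpos : ∀ i : ℤ, 0 < i → 𝒜 i = ⊥) (D : Derivation k A A) (l : ℤ) (hl : 0 < l)
    (hD : ∀ (i : ℤ) (a : A), a ∈ 𝒜 i → D a ∈ 𝒜 (i + l)) : Ideal A where
  carrier := {a | ∃ f ∈ 𝒜 (-l), D f = GradedAlgebra.proj 𝒜 0 a}
  zero_mem' := ⟨0, zero_mem _, by simp⟩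
  add_mem' := by
    rintro a b ⟨f, hf, hfa⟩ ⟨g, hg, hgb⟩
    exact ⟨f + g, add_mem hf hg, by rw [map_add, map_add, hfa, hgb]⟩
  smul_mem' := by
    rintro c a ⟨f, hf, hfa⟩
    refine ⟨GradedAlgebra.proj 𝒜 0 c * f, ?_, ?_⟩
    · have := SetLike.GradedMul.mul_mem (SetLike.coe_mem (decompose 𝒜 c 0)) hf
      rw [zero_add] at this
      exact this
    · rw [smul_eq_mul, proj_zero_mul 𝒜 hpos, Derivation.leibniz, hfa]
      have h0 : D (GradedAlgebra.proj 𝒜 0 c) = 0 := by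
        have h1 := hD 0 _ (SetLike.coe_mem (decompose 𝒜 c 0))
        rw [hpos (0 + l) (by omega)] at h1
        exact (Submodule.mem_bot k).mp h1
      rw [h0, smul_zero, add_zero, smul_eq_mul]

theorem main (hpos : ∀ i : ℤ, 0 < i → 𝒜 i = ⊥)
    (D : Derivation k A A) (l : ℤ) (hl : 0 < l)
    (hD : ∀ (i : ℤ) (a : A), a ∈ 𝒜 i → D a ∈ 𝒜 (i + l))
    (hfree : ∀ m : Ideal A, m.IsMaximal → (∀ i : ℤ, i < 0 → (𝒜 i : Set A) ⊆ m) → ∃ a : A, D a ∉ m) :
    ∃ f : A, D f = 1 := by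
  by_cases hJ : J 𝒜 hpos D l hl hD = ⊤
  · have h1 : (1 : A) ∈ J 𝒜 hpos D l hl hD := hJ ▸ Submodule.mem_top
    obtain ⟨f, hf, hf1⟩ := h1
    refine ⟨f, ?_⟩
    rw [hf1, proj_of_mem 𝒜 (SetLike.GradedOne.one_mem), if_pos rfl]
  · obtain ⟨m, hm, hJm⟩ := Ideal.exists_le_maximal _ hJ
    obtain ⟨a, ha⟩ := hfree m hm (fun i hi x hx => hJm ⟨0, zero_mem _, by
      rw [map_zero, proj_of_mem 𝒜 hx, if_neg (by omega)]⟩)
    exact absurd (hJm ⟨GradedAlgebra.proj 𝒜 (-l) a, SetLike.coe_mem _,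
      (proj_zero_D 𝒜 D l hD a).symm⟩) ha

end

end Groth.Agent.H7.T15116
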