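import Mathlib
universe u v w

namespace Groth.Agent.H7.T15121

open DirectSum

section
variable {k : Type u} [Field k] {A : Type v} [CommRing A] [Algebra k A]
  {Λ : Type w} [AddCommGroup Λ] [DecidableEq Λ]
  (𝒜 : Λ → Submodule k A) [GradedAlgebra 𝒜]

theorem proj_of_mem {i j : Λ} {a : A} (ha : a ∈ 𝒜 i) :
    GradedAlgebra.proj 𝒜 j a = if i = j then a else 0 := by
  rw [GradedAlgebra.proj_apply]
  split_ifs with h
  · subst h; exact decompose_of_mem_same 𝒜 ha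
  · exact decompose_of_mem_ne 𝒜 ha h

theorem proj_zero_mul (hpos : ∀ w : Λ, 𝒜 w ≠ ⊥ → 𝒜 (-w) ≠ ⊥ → w = 0) (a b : A) :
    GradedAlgebra.proj 𝒜 0 (a * b) = GradedAlgebra.proj 𝒜 0 a * GradedAlgebra.proj 𝒜 0 b := by
  have hz : ∀ (i : Λ) (x y : A), x ∈ 𝒜 i → y ∈ 𝒜 (-i) → i ≠ 0 → x * y = 0 := by
    intro i x y hx hy hi
    by_cases h1 : 𝒜 i = ⊥
    · rw [h1] at hx
      rw [(Submodule.mem_bot k).mp hx, zero_mul]
    · by_cases h2 : 𝒜 (-i) = ⊥
      · rw [h2] at hy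
        rw [(Submodule.mem_bot k).mp hy, mul_zero]
      · exact absurd (hpos i h1 h2) hi
  induction a using Decomposition.inductionOn 𝒜 with
  | zero => simp
  | add a a' ha ha' => rw [add_mul, map_add, map_add, ha, ha', add_mul]
  | @homogeneous i a =>
    induction b using Decomposition.inductionOn 𝒜 with
    | zero => simp
    | add b b' hb hb' => rw [mul_add, map_add, map_add, hb, hb', mul_add]
    | @homogeneous j b =>
      rw [proj_of_mem 𝒜 (SetLike.GradedMul.mul_mem a.2 b.2), proj_of_mem 𝒜 a.2,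
        proj_of_mem 𝒜 b.2]
      by_cases hi : i = 0
      · by_cases hj : j = 0
        · simp [hi, hj]
        · rw [if_neg hj, mul_zero, if_neg (by rw [hi, zero_add]; exact hj)]
      · rw [if_neg hi, zero_mul]
        split_ifs with hij
        · have hj : j = -i := by rw [eq_neg_iff_add_eq_zero, add_comm]; exact hij
          have hb' : (b : A) ∈ 𝒜 (-i) := hj ▸ b.2
          exact hz i a b a.2 hb' hi
        · rfl

theorem proj_zero_D (D : Derivation k A A) (l : Λ)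
    (hD : ∀ (i : Λ) (a : A), a ∈ 𝒜 i → D a ∈ 𝒜 (i + l)) (a : A) :
    GradedAlgebra.proj 𝒜 0 (D a) = D (GradedAlgebra.proj 𝒜 (-l) a) := by
  induction a using Decomposition.inductionOn 𝒜 with
  | zero => simp
  | add a a' ha ha' => rw [map_add, map_add, map_add, map_add, ha, ha']
  | @homogeneous i a =>
    rw [proj_of_mem 𝒜 (hD i a a.2), proj_of_mem 𝒜 a.2]
    by_cases h : i = -l
    · rw [if_pos h, if_pos (by rw [h, neg_add_cancel])]
    · rw [if_neg h, if_neg (by rw [← eq_neg_iff_add_eq_zero]; exact h), map_zero]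

/-- the ideal of elements whose degree-zero part is in `D (𝒜 (-l))`. -/
def J (hpos : ∀ w : Λ, 𝒜 w ≠ ⊥ → 𝒜 (-w) ≠ ⊥ → w = 0) (D : Derivation k A A) (l : Λ)
    (hl : 𝒜 l = ⊥)
    (hD : ∀ (i : Λ) (a : A), a ∈ 𝒜 i → D a ∈ 𝒜 (i + l)) : Ideal A where
  carrier := {a | ∃ f ∈ 𝒜 (-l), D f = GradedAlgebra.proj 𝒜 0 a}
  zero_mem' := ⟨0, zero_mem _, by simp⟩
  add_mem' := by
    rintro a b ⟨f, hf, hfa⟩ ⟨g, hg, hgb⟩
    exact ⟨f + g, add_mem hf hg, by rw [map_add, map_add, hfa, hgb]⟩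
  smul_mem' := by
    rintro c a ⟨f, hf, hfa⟩
    refine ⟨GradedAlgebra.proj 𝒜 0 c * f, ?_, ?_⟩
    · have := SetLike.GradedMul.mul_mem (SetLike.coe_mem (decompose 𝒜 c 0)) hf
      rw [zero_add] at this
      exact this
    · rw [smul_eq_mul, proj_zero_mul 𝒜 hpos, Derivation.leibniz, hfa]
      have h0 : D (GradedAlgebra.proj 𝒜 0 c) = 0 := by
        have h1 := hD 0 _ (SetLike.coe_mem (decompose 𝒜 c 0))
        rw [zero_add, hl] at h1
        exact (Submodule.mem_bot k).mp h1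
      rw [h0, smul_zero, add_zero, smul_eq_mul]

theorem main (hpos : ∀ w : Λ, 𝒜 w ≠ ⊥ → 𝒜 (-w) ≠ ⊥ → w = 0)
    (δ : Derivation k A A)
    (d : Λ) (hhom : ∀ (w : Λ) (a : A), a ∈ 𝒜 w → δ a ∈ 𝒜 (w + d)) (hd : 𝒜 d = ⊥)
    (hfix : ∀ m : Ideal A, m.IsMaximal → (∀ w : Λ, w ≠ 0 → (𝒜 w : Set A) ⊆ m) →
      ¬ (Set.range δ ⊆ m)) :
    ∃ s ∈ 𝒜 (-d), δ s = 1 := by
  by_cases hJ : J 𝒜 hpos δ d hd hhom = ⊤
  · have h1 : (1 : A) ∈ J 𝒜 hpos δ d hd hhom := hJ ▸ Submodule.mem_top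
    obtain ⟨f, hf, hf1⟩ := h1
    refine ⟨f, hf, ?_⟩
    rw [hf1, proj_of_mem 𝒜 (SetLike.GradedOne.one_mem), if_pos rfl]
  · obtain ⟨m, hm, hJm⟩ := Ideal.exists_le_maximal _ hJ
    exfalso
    apply hfix m hm (fun i hi x hx => hJm ⟨0, zero_mem _, by
      rw [map_zero, proj_of_mem 𝒜 hx, if_neg hi]⟩)
    rintro _ ⟨a, rfl⟩
    exact hJm ⟨GradedAlgebra.proj 𝒜 (-d) a, SetLike.coe_mem _,
      (proj_zero_D 𝒜 δ d hhom a).symm⟩

end

end Groth.Agent.H7.T15121
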