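import Mathlib
universe u v w

namespace Groth.Agent.H7.T15122

theorem main
    (R : Type u) (A : Type v) (B : Type w) [CommRing R] [CommRing A] [CommRing B] [Algebra R A] [Algebra R B]
    [Algebra A B] [IsScalarTower R A B]
    (𝒜 : ℕ → Submodule R A) [GradedAlgebra 𝒜] (ℬ : ℕ → Submodule R B) [GradedAlgebra ℬ]
    (σ : A) (hσ0 : σ ∈ 𝒜 0) [IsLocalization.Away σ B]
    (ι : 𝒜 →+*ᵍ ℬ) (hι : ∀ a : A, ι a = algebraMap A B a) :
    (HomogeneousIdeal.irrelevant 𝒜).map ι = HomogeneousIdeal.irrelevant ℬ := by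
  have key : ∀ a : A, GradedRing.proj ℬ 0 (ι a) = ι (GradedRing.proj 𝒜 0 a) := by
    intro a
    rw [GradedRing.proj_apply, GradedRing.proj_apply, GradedRingHom.map_directSumDecompose]
  apply le_antisymm
  · rw [HomogeneousIdeal.map_le_iff_le_comap]
    intro a ha
    change ι a ∈ HomogeneousIdeal.irrelevant ℬ
    rw [HomogeneousIdeal.mem_irrelevant_iff] at ha ⊢
    rw [key, ha, map_zero]
  · intro b hb
    change b ∈ Ideal.map ι (HomogeneousIdeal.irrelevant 𝒜).toIdeal
    obtain ⟨⟨a, s⟩, has⟩ := IsLocalization.surj (Submonoid.powers σ) b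
    simp only at has
    have hunit : IsUnit (algebraMap A B s) := IsLocalization.map_units B s
    have h1 : ι a ∈ HomogeneousIdeal.irrelevant ℬ := by
      rw [hι, ← has]
      exact Ideal.mul_mem_right _ _ hb
    rw [HomogeneousIdeal.mem_irrelevant_iff, key] at h1
    have h2 : a - GradedRing.proj 𝒜 0 a ∈ HomogeneousIdeal.irrelevant 𝒜 := by
      rw [HomogeneousIdeal.mem_irrelevant_iff, map_sub]
      have h5 : GradedRing.proj 𝒜 0 (GradedRing.proj 𝒜 0 a) = GradedRing.proj 𝒜 0 a := by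
        rw [GradedRing.proj_apply, GradedRing.proj_apply]
        exact DirectSum.decompose_of_mem_same 𝒜 (SetLike.coe_mem _)
      rw [h5, sub_self]
    have h3 : ι (a - GradedRing.proj 𝒜 0 a) = b * algebraMap A B s := by
      rw [map_sub, h1, sub_zero, hι, has]
    obtain ⟨u, hu⟩ := hunit
    have h4 : b = ι (a - GradedRing.proj 𝒜 0 a) * ↑u⁻¹ := by
      rw [h3, ← hu, mul_assoc, Units.mul_inv, mul_one]
    rw [h4]
    exact Ideal.mul_mem_right _ _ (Ideal.mem_map_of_mem _ h2)

end Groth.Agent.H7.T15122
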