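import Mathlib
import Groth.Agent.Lib.Helper7.ArtFlat
universe u
open CategoryTheory

namespace Groth.Agent.H7.T15133

open Groth.Agent.H7.ArtFlat

theorem main
    (A : Type u) [CommRing A] [IsLocalRing A] [IsArtinianRing A] (n : ℕ) (hn : 0 < n)
    (C : CochainComplex (ModuleCat.{u} A) ℕ)
    (hflat : ∀ i, i ≤ n → Module.Flat A (C.X (i + 1)))
    (hred : ∀ j, j ≤ n →
      (((MonoidalCategory.tensorLeft (ModuleCat.of A (IsLocalRing.ResidueField A))).mapHomologicalComplex
        (ComplexShape.up ℕ)).obj C).ExactAt j) :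
    Module.Flat A (C.X 0) ∧ Module.Flat A (C.X (n + 1) ⧸ LinearMap.range (C.d n (n + 1)).hom) := by
  set K := ((MonoidalCategory.tensorLeft (ModuleCat.of A (IsLocalRing.ResidueField A))).mapHomologicalComplex
        (ComplexShape.up ℕ)).obj C with hK
  constructor
  · -- flatness of C.X 0
    have h0 := hred 0 (Nat.zero_le _)
    rw [HomologicalComplex.exactAt_iff' K 0 0 1 (by simp) (by simp)] at h0
    rw [ShortComplex.moduleCat_exact_iff] at h0
    have hinj : Function.Injective ((C.d 0 1).hom.lTensor (IsLocalRing.ResidueField A)) := by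
      rw [injective_iff_map_eq_zero]
      intro x hx
      obtain ⟨y, hy⟩ := h0 x hx
      rw [← hy]
      have : (K.sc' 0 0 1).f = 0 := by
        change K.d 0 0 = 0
        exact K.shape 0 0 (by simp)
      rw [this]
      rfl
    have := hflat 0 (Nat.zero_le _)
    have hex : Function.Exact (C.d 0 1).hom (LinearMap.range (C.d 0 1).hom).mkQ := by
      intro a
      rw [Submodule.mkQ_apply, Submodule.Quotient.mk_eq_zero]
      rfl
    have hq : Function.Surjective (LinearMap.range (C.d 0 1).hom).mkQ := Submodule.mkQ_surjective _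
    have hPflat : Module.Flat A (C.X (0 + 1) ⧸ LinearMap.range (C.d 0 1).hom) :=
      flat_of_lTensor_residue_injective A (C.d 0 1).hom _ hq hex hinj
    exact flat_ker_of_flat A (C.d 0 1).hom _ (injective_of_lTensor_residue A _ hinj) hq hex
  · obtain ⟨m, rfl⟩ := Nat.exists_eq_succ_of_ne_zero hn.ne'
    have h1 := hred (m + 1) le_rfl
    rw [HomologicalComplex.exactAt_iff' K m (m + 1) (m + 2) (by simp) (by simp)] at h1
    rw [ShortComplex.moduleCat_exact_iff] at h1
    have := hflat (m + 1) le_rfl
    have hex : Function.Exact (C.d (m + 1) (m + 1 + 1)).hom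
        (LinearMap.range (C.d (m + 1) (m + 1 + 1)).hom).mkQ := by
      intro a
      rw [Submodule.mkQ_apply, Submodule.Quotient.mk_eq_zero]
      rfl
    have hq : Function.Surjective (LinearMap.range (C.d (m + 1) (m + 1 + 1)).hom).mkQ :=
      Submodule.mkQ_surjective _
    refine (complex_exact A (C.X m) (C.X (m + 1)) (C.X (m + 1 + 1)) _ (C.d m (m + 1)).hom
      (C.d (m + 1) (m + 1 + 1)).hom _ ?_ hex hq ?_).1
    · rw [← ModuleCat.hom_comp, C.d_comp_d]
      rfl
    · intro x
      constructor
      · intro hx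
        obtain ⟨y, hy⟩ := h1 x hx
        exact ⟨y, hy⟩
      · rintro ⟨y, rfl⟩
        have := (K.sc' m (m + 1) (m + 2)).zero
        exact ConcreteCategory.congr_hom this y

end Groth.Agent.H7.T15133
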