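import Mathlib
universe u v
open TensorProduct

namespace Groth.Agent.H7.T15368

theorem main
    (R : Type u) [CommRing R] [IsDomain R] [IsDiscreteValuationRing R] (ϖ : R) (hϖ : Irreducible ϖ) (n : ℕ)
    (M : Type v) [AddCommGroup M] [Module R M] [Module.Finite R M] (hM : ∀ m : M, ϖ ^ n • m = 0)
    (N : Submodule R M) :
    Module.finrank (IsLocalRing.ResidueField R) (IsLocalRing.ResidueField R ⊗[R] N) ≤
      Module.finrank (IsLocalRing.ResidueField R) (IsLocalRing.ResidueField R ⊗[R] M) := by
  set k := IsLocalRing.ResidueField R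
  set r := Module.finrank k (k ⊗[R] M) with hr
  let b : Module.Basis (Fin r) k (k ⊗[R] M) := Module.finBasis k (k ⊗[R] M)
  have hsurj : Function.Surjective (TensorProduct.mk R k M 1) :=
    TensorProduct.mk_surjective R M k Ideal.Quotient.mk_surjective
  choose f hf using fun i => hsurj (b i)
  have hspan : Submodule.span R (Set.range f) = ⊤ :=
    IsLocalRing.span_eq_top_of_tmul_eq_basis f b hf
  let p : (Fin r → R) →ₗ[R] M := Fintype.linearCombination R f
  have hp : Function.Surjective p := by
    rw [← LinearMap.range_eq_top, Fintype.range_linearCombination, hspan]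
  let N' : Submodule R (Fin r → R) := N.comap p
  let p' : N' →ₗ[R] N := p.restrict (fun x hx => hx)
  have hp' : Function.Surjective p' := by
    rintro ⟨y, hy⟩
    obtain ⟨x, rfl⟩ := hp y
    exact ⟨⟨x, hy⟩, rfl⟩
  have h1 : Function.Surjective (p'.baseChange k) := by
    rw [LinearMap.baseChange_eq_ltensor]
    exact LinearMap.lTensor_surjective k hp'
  have h2 : Module.finrank k (k ⊗[R] N) ≤ Module.finrank k (k ⊗[R] N') :=
    LinearMap.finrank_le_finrank_of_surjective h1
  have h3 : Module.finrank k (k ⊗[R] N') = Module.finrank R N' := Module.finrank_baseChange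
  have h4 : Module.finrank R N' ≤ Module.finrank R (Fin r → R) := Submodule.finrank_le N'
  rw [Module.finrank_fin_fun] at h4
  exact h2.trans (h3.le.trans h4)

end Groth.Agent.H7.T15368
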