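import Mathlib
universe u
open TensorProduct

namespace Groth.Agent.H7.T15391

/-- If a prime `P` is killed by an element outside of `P`, its residue field is the localization
at `P`. -/
theorem isLocalization_residueField {R : Type*} [CommRing R] (P : Ideal R) [P.IsPrime]
    (x : R) (hxP : x ∉ P) (hx : ∀ y ∈ P, x * y = 0) :
    IsLocalization P.primeCompl P.ResidueField where
  map_units s := by
    rw [isUnit_iff_ne_zero, ne_eq, Ideal.algebraMap_residueField_eq_zero]
    exact s.2
  surj z := by
    obtain ⟨z, rfl⟩ := IsLocalRing.residue_surjective z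
    obtain ⟨a, s, rfl⟩ := IsLocalization.exists_mk'_eq P.primeCompl z
    refine ⟨⟨a, s⟩, ?_⟩
    simp only [IsScalarTower.algebraMap_apply R (Localization.AtPrime P) P.ResidueField,
      IsLocalRing.ResidueField.algebraMap_eq, ← map_mul, IsLocalization.mk'_spec]
  exists_of_eq {a b} e := by
    rw [← sub_eq_zero, ← map_sub, Ideal.algebraMap_residueField_eq_zero] at e
    refine ⟨⟨x, hxP⟩, ?_⟩
    have := hx _ e
    simp only
    rw [mul_sub, sub_eq_zero] at this
    exact this

theorem exists_smul_eq_zero {R : Type*} [CommRing R] (P : Ideal R) [P.IsPrime]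
    (x : R) (hxP : x ∉ P) (hx : ∀ y ∈ P, x * y = 0) {M : Type*} [AddCommGroup M] [Module R M]
    (t : M) (ht : (1 : P.ResidueField) ⊗ₜ[R] t = (0 : P.ResidueField ⊗[R] M)) :
    ∃ s : R, s ∉ P ∧ s • t = 0 := by
  have := isLocalization_residueField P x hxP hx
  have h1 : IsLocalizedModule P.primeCompl (TensorProduct.mk R P.ResidueField M 1) :=
    (isLocalizedModule_iff_isBaseChange P.primeCompl P.ResidueField _).mpr
      (TensorProduct.isBaseChange R M P.ResidueField)
  have h2 : TensorProduct.mk R P.ResidueField M 1 t = 0 := ht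
  rw [IsLocalizedModule.eq_zero_iff P.primeCompl] at h2
  obtain ⟨s, hs⟩ := h2
  exact ⟨s.1, s.2, hs⟩

theorem main (R : Type u) [CommRing R] [IsReduced R] [IsNoetherianRing R]
    (M : Type u) [AddCommGroup M] [Module R M] [Module.Finite R M] [Module.IsTorsionFree R M]
    (t : M) (ht : ∀ p : PrimeSpectrum R, (1 : p.asIdeal.ResidueField) ⊗ₜ[R] t =
      (0 : p.asIdeal.ResidueField ⊗[R] M)) :
    t = 0 := by
  by_contra ht0
  set I : Ideal R := LinearMap.ker (LinearMap.toSpanSingleton R M t) with hI
  have hmem : ∀ r, r ∈ I ↔ r • t = 0 := by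
    intro r
    rw [hI, LinearMap.mem_ker, LinearMap.toSpanSingleton_apply]
  have hsub : (I : Set R) ⊆ ⋃ p ∈ associatedPrimes R R, (p : Set R) := by
    rw [biUnion_associatedPrimes_eq_compl_nonZeroDivisors]
    intro r hr hr'
    have hreg : IsRegular r := isRegular_iff_mem_nonZeroDivisors.mpr hr'
    have hsm := Module.IsTorsionFree.isSMulRegular (M := M) hreg
    apply ht0
    apply hsm
    change r • t = r • 0
    rw [smul_zero]
    exact (hmem r).mp hr
  have hfin := associatedPrimes.finite R R
  obtain ⟨P, hP, hIP⟩ : ∃ P ∈ hfin.toFinset, I ≤ P := by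
    refine (Ideal.subset_union_prime (s := hfin.toFinset) (f := fun p => p) ⊥ ⊥ ?_).mp ?_
    · intro p hp _ _
      rw [Set.Finite.mem_toFinset] at hp
      exact hp.isPrime
    · simpa using hsub
  rw [Set.Finite.mem_toFinset] at hP
  obtain ⟨hPprime, x, hPx⟩ := (isAssociatedPrime_iff).mp hP
  have hPmem : ∀ y, y ∈ P ↔ y * x = 0 := by
    intro y
    rw [hPx, Submodule.mem_colon_singleton, Submodule.mem_bot, smul_eq_mul]
  have hxP : x ∉ P := by
    intro hx
    have hxx : x * x = 0 := (hPmem x).mp hx
    have hx0 : x = 0 := by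
      have : IsNilpotent x := ⟨2, by rw [pow_two, hxx]⟩
      exact this.eq_zero
    apply hPprime.ne_top
    rw [Ideal.eq_top_iff_one, hPmem, hx0, mul_zero]
  obtain ⟨s, hsP, hst⟩ := exists_smul_eq_zero P x hxP
    (fun y hy => by rw [mul_comm]; exact (hPmem y).mp hy) t (ht ⟨P, hPprime⟩)
  exact hsP (hIP ((hmem s).mpr hst))

end Groth.Agent.H7.T15391
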