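import Mathlib
import Groth.Prelude.Def_W4c2azumayainvolQEt
universe u v

namespace Groth.Agent.H7.T15579

theorem main (S : Type u) (R : Type v) [CommRing S]
    [CommRing R] [Algebra S R] [IsLocalRing S] (hq : RInv.IsQuadEtale S R) :
    Ring.jacobson R = (IsLocalRing.maximalIdeal S).map (algebraMap S R) := by
  obtain ⟨hfin, hproj, hunr, hrank⟩ := hq
  have hint : Algebra.IsIntegral S R := Algebra.IsIntegral.of_finite S R
  rw [← Ideal.jacobson_bot]
  apply le_antisymm
  · have hrad := Algebra.FormallyUnramified.isRadical_map_isMaximal (A := S) R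
      (IsLocalRing.maximalIdeal S)
    rw [← hrad.radical, Ideal.radical_eq_sInf]
    apply le_sInf
    rintro P ⟨hP, hPprime⟩
    have hcomap : P.comap (algebraMap S R) = IsLocalRing.maximalIdeal S := by
      apply IsLocalRing.eq_maximalIdeal
      have hle : IsLocalRing.maximalIdeal S ≤ P.comap (algebraMap S R) :=
        Ideal.map_le_iff_le_comap.mp hP
      have hne : P.comap (algebraMap S R) ≠ ⊤ := (Ideal.comap_isPrime _ P).ne_top
      rw [← (IsLocalRing.maximalIdeal.isMaximal S).eq_of_le hne hle]
      exact IsLocalRing.maximalIdeal.isMaximal S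
    have hPmax : P.IsMaximal := by
      apply Ideal.isMaximal_of_isIntegral_of_isMaximal_comap (R := S) P
      rw [hcomap]
      exact IsLocalRing.maximalIdeal.isMaximal S
    exact sInf_le ⟨bot_le, hPmax⟩
  · rw [Ideal.jacobson]
    apply le_sInf
    rintro M ⟨-, hM⟩
    have h1 : (M.comap (algebraMap S R)).IsMaximal :=
      Ideal.isMaximal_comap_of_isIntegral_of_isMaximal (R := S) M
    have h2 : M.comap (algebraMap S R) = IsLocalRing.maximalIdeal S :=
      IsLocalRing.eq_maximalIdeal h1
    rw [Ideal.map_le_iff_le_comap, h2]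

end Groth.Agent.H7.T15579
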