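import Mathlib
import Groth.Prelude.Def_W4c2azumayainvolQEt
universe u v

namespace Groth.Agent.H7.T15581

theorem main (B : Type u) (A : Type v) [CommRing B]
    [CommRing A] [Algebra B A] (lam : A ≃+* A) (hlam : Function.Involutive lam)
    (hB : RInv.IsFixedRing B A lam) [IsLocalRing B] (h2 : IsUnit (2 : B)) :
    (Ring.jacobson A) ^ 2 ≤ (IsLocalRing.maximalIdeal B).map (algebraMap B A) := by
  obtain ⟨hinj, hfix⟩ := hB
  rw [← Ideal.jacobson_bot]
  -- stability under lam
  have hstab : ∀ x ∈ Ideal.jacobson (⊥ : Ideal A), lam x ∈ Ideal.jacobson (⊥ : Ideal A) := by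
    intro x hx
    rw [Ideal.mem_jacobson_bot] at hx ⊢
    intro y
    have h1 := hx (lam y)
    have h2 : lam x * y + 1 = lam (x * lam y + 1) := by
      rw [map_add, map_mul, hlam y, map_one]
    rw [h2]
    exact h1.map lam
  -- elements of B in the radical are in the maximal ideal
  have hmax : ∀ b : B, algebraMap B A b ∈ Ideal.jacobson (⊥ : Ideal A) →
      b ∈ IsLocalRing.maximalIdeal B := by
    intro b hb
    rw [IsLocalRing.mem_maximalIdeal]
    intro hbu
    rw [Ideal.mem_jacobson_bot] at hb
    obtain ⟨c, hc⟩ := hbu.exists_right_inv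
    have h1 := hb (algebraMap B A (-c))
    rw [← map_mul, mul_neg, hc, map_neg, map_one, neg_add_cancel] at h1
    have h01 : (0 : A) = 1 := by
      have := h1.mul_val_inv
      rw [zero_mul] at this
      exact this
    have : algebraMap B A 0 = algebraMap B A 1 := by rw [map_zero, map_one, h01]
    exact zero_ne_one (hinj this)
  have hplus : ∀ x ∈ Ideal.jacobson (⊥ : Ideal A),
      x + lam x ∈ (IsLocalRing.maximalIdeal B).map (algebraMap B A) := by
    intro x hx
    have hfx : lam (x + lam x) = x + lam x := by rw [map_add, hlam x, add_comm]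
    obtain ⟨b, hb⟩ := (hfix _).mp hfx
    rw [← hb]
    apply Ideal.mem_map_of_mem
    apply hmax
    rw [hb]
    exact Ideal.add_mem _ hx (hstab x hx)
  have hminus : ∀ x ∈ Ideal.jacobson (⊥ : Ideal A), ∀ y ∈ Ideal.jacobson (⊥ : Ideal A),
      (x - lam x) * (y - lam y) ∈ (IsLocalRing.maximalIdeal B).map (algebraMap B A) := by
    intro x hx y hy
    have hfx : lam ((x - lam x) * (y - lam y)) = (x - lam x) * (y - lam y) := by
      rw [map_mul, map_sub, map_sub, hlam x, hlam y]; ring
    obtain ⟨b, hb⟩ := (hfix _).mp hfx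
    rw [← hb]
    apply Ideal.mem_map_of_mem
    apply hmax
    rw [hb]
    exact Ideal.mul_mem_right _ _ (Ideal.sub_mem _ hx (hstab x hx))
  rw [pow_two, Ideal.mul_le]
  intro x hx y hy
  obtain ⟨c, hc⟩ := (h2.mul h2).exists_left_inv
  have h4 : (algebraMap B A c) * ((x + lam x) * (y + lam y) + (x + lam x) * (y - lam y)
      + (x - lam x) * (y + lam y) + (x - lam x) * (y - lam y)) = x * y := by
    have h5 : algebraMap B A c * 4 = 1 := by
      have := congrArg (algebraMap B A) hc
      rw [map_mul, map_mul, map_one, map_ofNat] at this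
      rw [← this]; ring
    calc _ = (algebraMap B A c * 4) * (x * y) := by ring
      _ = x * y := by rw [h5, one_mul]
  rw [← h4]
  apply Ideal.mul_mem_left
  refine Ideal.add_mem _ (Ideal.add_mem _ (Ideal.add_mem _ ?_ ?_) ?_) ?_
  · exact Ideal.mul_mem_right _ _ (hplus x hx)
  · exact Ideal.mul_mem_right _ _ (hplus x hx)
  · exact Ideal.mul_mem_left _ _ (hplus y hy)
  · exact hminus x hx y hy

end Groth.Agent.H7.T15581
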