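import Groth.Agent.Lib.Helper2.ToposFinFiltered3
import Groth.Agent.Lib.Helper2.Cartan1
import Groth.Agent.Lib.Lead.Colim.Local
import Groth.Agent.Lib.Lead.Colim.Preserve

/-! # Degree zero: morphisms out of free abelian sheaves on quasi-compact / coherent objects of a
topos and filtered colimits of abelian sheaves (helper7). -/

set_option autoImplicit false
universe u
open CategoryTheory CategoryTheory.Limits Opposite

namespace Groth.Agent.H7.TFC

open Groth.Agent.H2.TF Groth.Agent.H2.Cartan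

variable {C : Type u} [SmallCategory C] {J : GrothendieckTopology C}

section Abstract
variable {I : Type u} [SmallCategory I] [IsFiltered I] (D : I ⥤ ToposFin.Sh J) (c : Cocone D)

/-- two sections of a stage with the same image in the vertex of the cocone become equal locally
at a later stage. -/
def LocEq : Prop :=
  ∀ (i : I) (U : C) (x y : (D.obj i).obj.obj (op U)),
    (c.ι.app i).hom.app (op U) x = (c.ι.app i).hom.app (op U) y →
    ∃ S ∈ J U, ∀ ⦃V : C⦄ (f : V ⟶ U), S f → ∃ (k : I) (φ : i ⟶ k),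
      (D.map φ).hom.app (op V) ((D.obj i).obj.map f.op x) =
        (D.map φ).hom.app (op V) ((D.obj i).obj.map f.op y)

variable {D c}

/-- (after helper2's `exists_map_eq_of_isQC`) for a quasi-compact object, two morphisms to a stage
with the same image in the vertex become equal at a later stage. -/
lemma exists_map_eq_of_isQC' (hL : LocEq D c) {X : ToposFin.Sh J} (hX : ToposFin.IsQC X)
    {i : I} (a b : X ⟶ D.obj i) (hab : a ≫ c.ι.app i = b ≫ c.ι.app i) :
    ∃ (k : I) (f : i ⟶ k), a ≫ D.map f = b ≫ D.map f := by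
  classical
  have hjepi : JEpi (fun x : Σ k : I, (i ⟶ k) =>
      equalizer.ι (a ≫ D.map x.2) (b ≫ D.map x.2)) := by
    apply JLS.jepi
    intro U s
    have h0 : (c.ι.app i).hom.app (op U) (a.hom.app (op U) (secEquiv X U s)) =
        (c.ι.app i).hom.app (op U) (b.hom.app (op U) (secEquiv X U s)) :=
      congrArg (fun m : X ⟶ c.pt => m.hom.app (op U) (secEquiv X U s)) hab
    obtain ⟨S, hS, hS'⟩ := hL i U _ _ h0
    refine ⟨S, hS, ?_⟩
    intro V f hf
    obtain ⟨k, φ, hφ⟩ := hS' f hf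
    refine ⟨⟨k, φ⟩, equalizer.lift (epsMap f ≫ s) ?_, equalizer.lift_ι _ _⟩
    apply (secEquiv _ V).injective
    have key : ∀ (ψ : X ⟶ D.obj k), secEquiv (D.obj k) V ((epsMap f ≫ s) ≫ ψ) =
        ψ.hom.app (op V) (X.obj.map f.op (secEquiv X U s)) := fun ψ => by
      rw [secEquiv_comp, secEquiv_map]
    rw [key (a ≫ D.map φ), key (b ≫ D.map φ)]
    change (D.map φ).hom.app (op V) (a.hom.app (op V) (X.obj.map f.op (secEquiv X U s))) =
      (D.map φ).hom.app (op V) (b.hom.app (op V) (X.obj.map f.op (secEquiv X U s)))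
    have n1 := NatTrans.naturality_apply a.hom f.op (secEquiv X U s)
    have n2 := NatTrans.naturality_apply b.hom f.op (secEquiv X U s)
    rw [n1, n2]
    exact hφ
  obtain ⟨s₀, hs₀⟩ := IsQC.exists_finset hX _ hjepi
  obtain ⟨k₀, φ₀, hdom⟩ := exists_dominating s₀
  refine ⟨k₀, φ₀, ?_⟩
  apply hs₀
  rintro ⟨x, hx⟩
  obtain ⟨ψ, hψ⟩ := hdom x hx
  dsimp only
  have hc' := equalizer.condition (a ≫ D.map x.2) (b ≫ D.map x.2)
  calc equalizer.ι (a ≫ D.map x.2) (b ≫ D.map x.2) ≫ a ≫ D.map φ₀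
      = (equalizer.ι (a ≫ D.map x.2) (b ≫ D.map x.2) ≫ (a ≫ D.map x.2)) ≫ D.map ψ := by
        rw [← hψ, D.map_comp]; simp only [Category.assoc]
    _ = (equalizer.ι (a ≫ D.map x.2) (b ≫ D.map x.2) ≫ (b ≫ D.map x.2)) ≫ D.map ψ := by rw [hc']
    _ = equalizer.ι (a ≫ D.map x.2) (b ≫ D.map x.2) ≫ b ≫ D.map φ₀ := by
        rw [← hψ, D.map_comp]; simp only [Category.assoc]

/-- (after helper2's `post_bijective_of_isCoherent`) a morphism from a coherent object to the
vertex factors through a stage. -/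
theorem exists_factor_of_isCoherent' (hgen : Gen (J := J) ToposFin.IsQC)
    (hJ : JEpi (fun i => c.ι.app i)) (hL : LocEq D c) (X : ToposFin.Sh J)
    (hX : ToposFin.IsCoherent X) (m : X ⟶ c.pt) :
    ∃ (i : I) (a : X ⟶ D.obj i), a ≫ c.ι.app i = m := by
  classical
  obtain ⟨κ, hκ, Q, i, q, hQ, hq⟩ := hgen.exists_finite_refinement hX.1
    (fun i => pullback.snd (c.ι.app i) m) (hJ.pullback_snd m)
  obtain ⟨i₀, hi₀⟩ := exists_common_target i
  choose φ _ using fun k => (hi₀ k).elim (fun f => (⟨f, trivial⟩ : ∃ _ : i k ⟶ i₀, True))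
  let r' : ∀ k, Q k ⟶ D.obj i₀ := fun k => q k ≫ pullback.fst (c.ι.app (i k)) m ≫ D.map (φ k)
  have hr' : ∀ k, r' k ≫ c.ι.app i₀ = (q k ≫ pullback.snd (c.ι.app (i k)) m) ≫ m := by
    intro k
    simp only [r', Category.assoc, c.w, pullback.condition]
  let e : (∐ Q) ⟶ X := Sigma.desc (fun k => q k ≫ pullback.snd (c.ι.app (i k)) m)
  have he : Epi e := (epi_sigmaDesc_iff _).2 hq
  let r : (∐ Q) ⟶ D.obj i₀ := Sigma.desc r'
  have hr : r ≫ c.ι.app i₀ = e ≫ m := by
    apply Sigma.hom_ext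
    intro k
    simp only [r, e, colimit.ι_desc_assoc, Cofan.mk_ι_app]
    exact hr' k
  have hQqc : ToposFin.IsQC (∐ Q) :=
    IsQC.of_finite_jepi (Sigma.ι Q) (fun Z a b hab => Sigma.hom_ext _ _ hab) hQ
  have hK : ToposFin.IsQC (pullback e e) := hX.2 _ _ e e hQqc hQqc
  have hab : (pullback.fst e e ≫ r) ≫ c.ι.app i₀ = (pullback.snd e e ≫ r) ≫ c.ι.app i₀ := by
    rw [Category.assoc, Category.assoc, hr, ← Category.assoc, ← Category.assoc, pullback.condition]
  obtain ⟨i₁, ψ, hψ⟩ := exists_map_eq_of_isQC' hL hK _ _ hab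
  obtain ⟨a, ha⟩ := exists_desc_of_epi e (r ≫ D.map ψ) (by simpa only [Category.assoc] using hψ)
  refine ⟨i₁, a, ?_⟩
  rw [← cancel_epi e, ← Category.assoc, ha, Category.assoc, c.w, hr]

end Abstract

section Ab
open Groth.Agent.LD.Colim

variable {I : Type u} [SmallCategory I] [IsFiltered I] (D : I ⥤ Sheaf J AddCommGrpCat.{u})

/-- the forgetful functor from abelian sheaves to sheaves of sets. -/
noncomputable abbrev GG : Sheaf J AddCommGrpCat.{u} ⥤ ToposFin.Sh J :=
  sheafCompose J (forget AddCommGrpCat.{u})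

/-- the free abelian sheaf functor is left adjoint to the forgetful functor. -/
noncomputable abbrev zadj : ZZ (J := J) ⊣ GG (J := J) := Sheaf.adjunction J AddCommGrpCat.adj

/-- the image of the colimit cocone under the forgetful functor. -/
noncomputable abbrev gc : Cocone (D ⋙ GG (J := J)) := (GG (J := J)).mapCocone (colimit.cocone D)

lemma jls_gc : JLS (fun i => (GG (J := J)).map (colimit.ι D i)) := by
  intro U s
  let x : (colimit D).obj.obj (op U) := secEquiv ((GG (J := J)).obj (colimit D)) U s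
  obtain ⟨T, hT, h⟩ := locSurj_of_isColimit (colimit.isColimit D) U x
  refine ⟨T, hT, ?_⟩
  intro V f hf
  obtain ⟨i, t, ht⟩ := h f hf
  let t' : ((GG (J := J)).obj (D.obj i)).obj.obj (op V) := t
  refine ⟨i, (secEquiv ((GG (J := J)).obj (D.obj i)) V).symm t', ?_⟩
  apply (secEquiv ((GG (J := J)).obj (colimit D)) V).injective
  rw [secEquiv_comp, Equiv.apply_symm_apply, secEquiv_map]
  exact ht

lemma jepi_gc : JEpi (fun i => (gc D).ι.app i) := (jls_gc D).jepi

lemma locEq_gc : LocEq (D ⋙ GG (J := J)) (gc D) := by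
  intro i U x y hxy
  let x' : (D.obj i).obj.obj (op U) := x
  let y' : (D.obj i).obj.obj (op U) := y
  have h0 : (colimit.ι D i).hom.app (op U) (x' - y') = 0 := by
    rw [map_sub, sub_eq_zero]
    exact hxy
  obtain ⟨T, hT, h⟩ := locInj_of_isColimit (colimit.isColimit D) U i (x' - y') h0
  refine ⟨T, hT, ?_⟩
  intro V f hf
  obtain ⟨j, g, hg⟩ := h f hf
  refine ⟨j, g, ?_⟩
  rw [map_sub, map_sub, sub_eq_zero] at hg
  exact hg

variable {D}

/-- a morphism from the free abelian sheaf on a coherent object to a filtered colimit factors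
through a stage. -/
theorem hom_surj (hgen : Gen (J := J) ToposFin.IsQC) {K : ToposFin.Sh J}
    (hK : ToposFin.IsCoherent K) (x : (ZZ (J := J)).obj K ⟶ colimit D) :
    ∃ (i : I) (s : (ZZ (J := J)).obj K ⟶ D.obj i), s ≫ colimit.ι D i = x := by
  obtain ⟨i, a, ha⟩ := exists_factor_of_isCoherent' hgen (jepi_gc D) (locEq_gc D) K hK
    ((zadj (J := J)).homEquiv K (colimit D) x)
  refine ⟨i, ((zadj (J := J)).homEquiv K (D.obj i)).symm a, ?_⟩
  apply ((zadj (J := J)).homEquiv K (colimit D)).injective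
  rw [Adjunction.homEquiv_naturality_right, Equiv.apply_symm_apply]
  exact ha

/-- a morphism from the free abelian sheaf on a quasi-compact object to a stage dying in the
filtered colimit dies at a later stage. -/
theorem hom_inj {L : ToposFin.Sh J} (hL : ToposFin.IsQC L) {i : I}
    (s : (ZZ (J := J)).obj L ⟶ D.obj i) (hs : s ≫ colimit.ι D i = 0) :
    ∃ (j : I) (g : i ⟶ j), s ≫ D.map g = 0 := by
  have hab : (zadj (J := J)).homEquiv L (D.obj i) s ≫ (gc D).ι.app i =
      (zadj (J := J)).homEquiv L (D.obj i) 0 ≫ (gc D).ι.app i := by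
    change _ ≫ (GG (J := J)).map (colimit.ι D i) = _ ≫ (GG (J := J)).map (colimit.ι D i)
    rw [← Adjunction.homEquiv_naturality_right, ← Adjunction.homEquiv_naturality_right, hs,
      zero_comp]
  obtain ⟨j, g, hg⟩ := exists_map_eq_of_isQC' (locEq_gc D) hL _ _ hab
  refine ⟨j, g, ?_⟩
  change _ ≫ (GG (J := J)).map (D.map g) = _ ≫ (GG (J := J)).map (D.map g) at hg
  rw [← Adjunction.homEquiv_naturality_right, ← Adjunction.homEquiv_naturality_right,
    zero_comp] at hg
  exact ((zadj (J := J)).homEquiv L (D.obj j)).injective hg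

open CategoryTheory.Abelian in
theorem surjP_zero (hgen : Gen (J := J) ToposFin.IsQC) {K : ToposFin.Sh J}
    (hK : ToposFin.IsCoherent K) (D : I ⥤ Sheaf J AddCommGrpCat.{u}) :
    SurjP ((ZZ (J := J)).obj K) 0 D := by
  intro x
  obtain ⟨φ, rfl⟩ := (Ext.mk₀_bijective _ _).surjective x
  obtain ⟨i, s, hs⟩ := hom_surj hgen hK φ
  refine ⟨i, Ext.mk₀ s, ?_⟩
  unfold pc
  rw [Ext.mk₀_comp_mk₀, hs]

open CategoryTheory.Abelian in
theorem injP_zero {L : ToposFin.Sh J} (hL : ToposFin.IsQC L)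
    (D : I ⥤ Sheaf J AddCommGrpCat.{u}) :
    InjP ((ZZ (J := J)).obj L) 0 D := by
  intro i y hy
  obtain ⟨ψ, rfl⟩ := (Ext.mk₀_bijective _ _).surjective y
  unfold pc at hy ⊢
  rw [Ext.mk₀_comp_mk₀, Ext.mk₀_eq_zero_iff] at hy
  obtain ⟨j, g, hg⟩ := hom_inj hL ψ hy
  refine ⟨j, g, ?_⟩
  rw [Ext.mk₀_comp_mk₀, Ext.mk₀_eq_zero_iff]
  exact hg

end Ab

end Groth.Agent.H7.TFC
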