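import Groth.Agent.Lib.Helper7.TFC1
import Groth.Agent.Lib.Helper2.Cartan3
import Groth.Agent.Lib.Lead.Colim.Main

/-! # Cartan's criterion relative to a class of coherent objects of a topos, filtered colimits of
acyclic sheaves, and `Ext(Z[K], -)` commutes with filtered colimits (helper7). -/

set_option autoImplicit false
universe u
open CategoryTheory CategoryTheory.Limits Opposite CategoryTheory.Abelian

namespace Groth.Agent.H7.TFC

open Groth.Agent.H2.TF Groth.Agent.H2.Cartan Groth.Agent.H2.AcycRes Groth.Agent.H2.CechRes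
open Simplicial SimplicialObject AlgebraicTopology

variable {C : Type u} [SmallCategory C] {J : GrothendieckTopology C}

/-- hypotheses on a class `S₀` of "base" objects and a class `S₁` of "covering" objects. -/
structure Good (S₀ S₁ : ToposFin.Sh J → Prop) : Prop where
  coh : ∀ K, S₁ K → ToposFin.IsCoherent K
  sub : ∀ K, S₀ K → S₁ K
  nerve : ∀ {K' K : ToposFin.Sh J} (f : K' ⟶ K), S₁ K' → S₀ K → ∀ n, S₁ (wp f n)
  refine : ∀ {K' L : ToposFin.Sh J} (f : K' ⟶ L), Epi f → S₀ L →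
    ∃ (K'' : ToposFin.Sh J) (g : K'' ⟶ K'), S₁ K'' ∧ Epi (g ≫ f)
  add : ∀ (F : Sheaf J AddCommGrpCat.{u}) (p : ℕ),
    (∀ L, S₀ L → Subsingleton (Ext ((ZZ (J := J)).obj L) F (p + 1))) →
    ∀ L, S₁ L → Subsingleton (Ext ((ZZ (J := J)).obj L) F (p + 1))

variable {S₀ S₁ : ToposFin.Sh J → Prop}

/-- the Čech hypothesis relative to the two classes. -/
def HypS (S₀ S₁ : ToposFin.Sh J → Prop) (F : Sheaf J AddCommGrpCat.{u}) : Prop :=
  ∀ (K' K : Sheaf J (Type u)) (f : K' ⟶ K), S₁ K' → S₀ K → Epi f →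
    ∀ (q : ℕ) (φ : (PP f).X (q + 1) ⟶ F),
    (PP f).d (q + 2) (q + 1) ≫ φ = 0 → ∃ χ : (PP f).X q ⟶ F, (PP f).d (q + 1) q ≫ χ = φ

lemma hypS_of_acyclic (hG : Good S₀ S₁) (F : Sheaf J AddCommGrpCat.{u})
    (hF : ∀ L, S₀ L → ∀ p : ℕ, Subsingleton (Ext ((ZZ (J := J)).obj L) F (p + 1))) :
    HypS S₀ S₁ F := by
  intro K' K f hK' hK hf q φ hφ
  haveI := hf
  have hF1 : ∀ L, S₁ L → ∀ p : ℕ, Subsingleton (Ext ((ZZ (J := J)).obj L) F (p + 1)) :=
    fun L hL p => hG.add F p (fun L' hL' => hF L' hL' p) L hL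
  have hP : ∀ n, Acyc F ((PP f).X n) := fun n p => hF1 (wp f n) (hG.nerve f hK' hK n) p
  have hM : Acyc F (Augmented.point.obj (augFree f)) := fun p => hF K hK p
  exact exists_cobound (εε f) hP hM q φ hφ

lemma ext1_subsingleton₀ (hG : Good S₀ S₁) (F : Sheaf J AddCommGrpCat.{u}) (hF : HypS S₀ S₁ F)
    (L : Sheaf J (Type u)) (hL : S₀ L) :
    Subsingleton (Ext ((ZZ (J := J)).obj L) F 1) := by
  have key : ∀ x : Ext ((ZZ (J := J)).obj L) F 1, x = 0 := by
    intro x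
    have hS := injSC_shortExact F
    obtain ⟨x₃, hx₃⟩ := Ext.covariant_sequence_exact₁ _ hS x (Ext.eq_zero_of_injective _)
      (zero_add 1)
    obtain ⟨s, rfl⟩ := (Ext.mk₀_bijective _ _).2 x₃
    have := hS.epi_g
    obtain ⟨K₁, f₁, hf₁, t₁, ht₁⟩ := exists_local_lift (injSC F).g s
    obtain ⟨K', g, hK', hgf⟩ := hG.refine f₁ hf₁ hL
    let f : K' ⟶ L := g ≫ f₁
    haveI : Epi f := hgf
    let t : (ZZ (J := J)).obj K' ⟶ (injSC F).X₂ := (ZZ (J := J)).map g ≫ t₁
    have ht : t ≫ (injSC F).g = (ZZ (J := J)).map f ≫ s := by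
      change ((ZZ (J := J)).map g ≫ t₁) ≫ (injSC F).g = (ZZ (J := J)).map (g ≫ f₁) ≫ s
      rw [Category.assoc, ht₁, Functor.map_comp, Category.assoc]
    have hcomp : (ZZ (J := J)).map (wpπ f 0 0) ≫ (ZZ (J := J)).map f =
        (ZZ (J := J)).map (wpBase f 0) := by
      rw [← Functor.map_comp]
      congr 1
      exact WidePullback.π_arrow _ _
    have ht2 : ((ZZ (J := J)).map (wpπ f 0 0) ≫ t) ≫ (injSC F).g = (εε f).f 0 ≫ s := by
      rw [Category.assoc, ht, ← Category.assoc, hcomp, ε_f_zero]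
      rfl
    obtain ⟨t', ht'⟩ : ∃ t' : (ZZ (J := J)).obj L ⟶ (injSC F).X₂, t' ≫ (injSC F).g = s :=
      exists_lift_of_H1 (εε f) hS (hF K' L f hK' hL inferInstance 0) s
        ((ZZ (J := J)).map (wpπ f 0 0) ≫ t) ht2
    rw [← hx₃, ← ht', ← Ext.mk₀_comp_mk₀, Ext.comp_assoc_of_second_deg_zero, hS.comp_extClass,
      Ext.comp_zero]
    rfl
  exact ⟨fun a b => by rw [key a, key b]⟩

lemma ext1_subsingleton₁ (hG : Good S₀ S₁) (F : Sheaf J AddCommGrpCat.{u}) (hF : HypS S₀ S₁ F)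
    (L : Sheaf J (Type u)) (hL : S₁ L) :
    Subsingleton (Ext ((ZZ (J := J)).obj L) F 1) :=
  hG.add F 0 (fun L' hL' => ext1_subsingleton₀ hG F hF L' hL') L hL

lemma hypS_quot (hG : Good S₀ S₁) (F : Sheaf J AddCommGrpCat.{u}) (hF : HypS S₀ S₁ F) :
    HypS S₀ S₁ (injSC F).X₃ := by
  intro K' K f hK' hK hf q c hc
  haveI := hf
  exact hyp_quotient (εε f) (injSC_shortExact F)
    (fun n => ext1_subsingleton₁ hG F hF (wp f n) (hG.nerve f hK' hK n))
    (hF K' K f hK' hK hf) q c hc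

/-- **Cartan's criterion relative to the classes.** -/
theorem ext_subsingleton_of_hypS (hG : Good S₀ S₁) (p : ℕ) :
    ∀ (F : Sheaf J AddCommGrpCat.{u}), HypS S₀ S₁ F →
    ∀ L : Sheaf J (Type u), S₀ L → Subsingleton (Ext ((ZZ (J := J)).obj L) F (p + 1)) := by
  induction p with
  | zero => exact fun F hF L hL => ext1_subsingleton₀ hG F hF L hL
  | succ p ih =>
    intro F hF L hL
    have := ih _ (hypS_quot hG F hF) L hL
    have key : ∀ x : Ext ((ZZ (J := J)).obj L) F (p + 1 + 1), x = 0 := by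
      intro x
      obtain ⟨x₃, hx₃⟩ := Ext.covariant_sequence_exact₁ _ (injSC_shortExact F) x
        (Ext.eq_zero_of_injective _) (rfl : p + 1 + 1 = p + 1 + 1)
      rw [← hx₃, Subsingleton.elim x₃ 0, Ext.zero_comp]
      rfl
    exact ⟨fun a b => by rw [key a, key b]⟩

section Colim
open Groth.Agent.LD.Colim
variable {I : Type u} [SmallCategory I] [IsFiltered I]

/-- the Čech hypothesis passes to filtered colimits. -/
theorem hypS_colimit (hgen : Gen (J := J) ToposFin.IsQC) (hG : Good S₀ S₁)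
    (D : I ⥤ Sheaf J AddCommGrpCat.{u})
    (hD : ∀ i, HypS S₀ S₁ (D.obj i)) : HypS S₀ S₁ (colimit D) := by
  intro K' K f hK' hK hf q φ hφ
  have h1 : ToposFin.IsCoherent (wp f (q + 1)) := hG.coh _ (hG.nerve f hK' hK (q + 1))
  have h2 : ToposFin.IsCoherent (wp f (q + 2)) := hG.coh _ (hG.nerve f hK' hK (q + 2))
  obtain ⟨i, φi, hφi⟩ : ∃ (i : I) (φi : (PP f).X (q + 1) ⟶ D.obj i),
      φi ≫ colimit.ι D i = φ := hom_surj (D := D) hgen h1 φ
  have hψ : ((PP f).d (q + 2) (q + 1) ≫ φi) ≫ colimit.ι D i = 0 := by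
    rw [Category.assoc, hφi, hφ]
  obtain ⟨j, g, hg⟩ : ∃ (j : I) (g : i ⟶ j), ((PP f).d (q + 2) (q + 1) ≫ φi) ≫ D.map g = 0 :=
    hom_inj (D := D) h2.1 ((PP f).d (q + 2) (q + 1) ≫ φi) hψ
  obtain ⟨χ, hχ⟩ := hD j K' K f hK' hK hf q (φi ≫ D.map g) (by
    rw [← Category.assoc]
    exact hg)
  refine ⟨χ ≫ colimit.ι D j, ?_⟩
  rw [← Category.assoc, hχ, Category.assoc, colimit.w, hφi]

/-- **a filtered colimit of sheaves acyclic on the class is acyclic on the class.** -/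
theorem acyclic_colimit (hgen : Gen (J := J) ToposFin.IsQC) (hG : Good S₀ S₁)
    (D : I ⥤ Sheaf J AddCommGrpCat.{u})
    (hD : ∀ i L, S₀ L → ∀ p : ℕ, Subsingleton (Ext ((ZZ (J := J)).obj L) (D.obj i) (p + 1)))
    (L : ToposFin.Sh J) (hL : S₀ L) (p : ℕ) :
    Subsingleton (Ext ((ZZ (J := J)).obj L) (colimit D) (p + 1)) :=
  ext_subsingleton_of_hypS hG p (colimit D)
    (hypS_colimit hgen hG D (fun i => hypS_of_acyclic hG (D.obj i) (hD i))) L hL

theorem surjP_injP (hgen : Gen (J := J) ToposFin.IsQC) (hG : Good S₀ S₁) {K : ToposFin.Sh J}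
    (hK : S₀ K) (q : ℕ) :
    ∀ D : I ⥤ Sheaf J AddCommGrpCat.{u},
      SurjP ((ZZ (J := J)).obj K) q D ∧ InjP ((ZZ (J := J)).obj K) q D := by
  induction q with
  | zero =>
    exact fun D => ⟨surjP_zero hgen (hG.coh K (hG.sub K hK)) D,
      injP_zero (hG.coh K (hG.sub K hK)).1 D⟩
  | succ q ih =>
    intro D
    have hS := embSC_shortExact D
    have h1 : ∀ i, Subsingleton (Ext ((ZZ (J := J)).obj K) ((embSC D).X₂.obj i) (q + 1)) :=
      fun i =>
      haveI : Injective ((embSC D).X₂.obj i) := inferInstanceAs (Injective ((emb D).obj i))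
      Groth.Agent.LD.CH.subsingleton_ext_injectiveS _ _ q
    have h2 : Subsingleton (Ext ((ZZ (J := J)).obj K) (colimit (embSC D).X₂) (q + 1)) := by
      refine acyclic_colimit hgen hG (embSC D).X₂ ?_ K hK q
      intro i L _ p
      haveI : Injective ((embSC D).X₂.obj i) := inferInstanceAs (Injective ((emb D).obj i))
      exact Groth.Agent.LD.CH.subsingleton_ext_injectiveS _ _ p
    exact ⟨shift_surj (embSC D) hS q h2 (ih _).1, shift_inj (embSC D) hS q h1 (ih _).1 (ih _).2⟩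

/-- **`Ext^q(ℤ[K], -)` commutes with filtered colimits for `K` in the class.** -/
theorem preservesColimit_ext_ZZ (hgen : Gen (J := J) ToposFin.IsQC) (hG : Good S₀ S₁)
    {K : ToposFin.Sh J} (hK : S₀ K) (q : ℕ) (D : I ⥤ Sheaf J AddCommGrpCat.{u}) :
    PreservesColimit D (extFunctorObj ((ZZ (J := J)).obj K) q) :=
  preservesColimit_ext _ q D (surjP_injP hgen hG hK q D).1 (surjP_injP hgen hG hK q D).2

end Colim

end Groth.Agent.H7.TFC
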