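import Groth.Agent.Lib.Helper7.TFC2
import Groth.Agent.Lib.Helper2.ToposFinAlg
import Groth.Agent.Lib.Helper2.ToposFinPres3
import Groth.Agent.Lib.Helper2.ToposFinHom

/-! # Coherent objects of an algebraic topos form a good class (helper7). -/

set_option autoImplicit false
universe u
open CategoryTheory CategoryTheory.Limits Opposite CategoryTheory.Abelian

namespace Groth.Agent.H7.TFC

open Groth.Agent.H2.TF Groth.Agent.H2.Cartan Groth.Agent.H2.AcycRes Groth.Agent.H2.CechRes

variable {C : Type u} [SmallCategory C] {J : GrothendieckTopology C}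

lemma IsCoherent.of_iso {X Y : ToposFin.Sh J} (e : X ≅ Y) (hX : ToposFin.IsCoherent X) :
    ToposFin.IsCoherent Y :=
  ⟨IsQC.of_iso e hX.1, IsQS.of_iso e hX.2⟩

/-- in an algebraic topos, fibre products of coherent objects over a coherent object are
coherent. -/
lemma isCoherent_pullback (hE : ToposFin.IsAlgebraic J) {X Y Z : ToposFin.Sh J} (a : X ⟶ Z)
    (b : Y ⟶ Z) (hX : ToposFin.IsCoherent X) (hY : ToposFin.IsCoherent Y)
    (hZ : ToposFin.IsCoherent Z) : ToposFin.IsCoherent (pullback a b) := by
  refine ⟨hZ.2 X Y a b hX.1 hY.1, ?_⟩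
  refine isQS_of_isQSHom (pullback.fst a b) ?_ hX.2
  exact IsQSHom.of_isPullback (IsPullback.of_hasPullback a b).flip
    (isQSHom_of_isQS_of_isAlgebraic hE b hY.2)

section WP
variable {K' K : ToposFin.Sh J} (f : K' ⟶ K)

/-- the zeroth term of the Čech nerve. -/
noncomputable def wpZeroIso : wp f 0 ≅ K' where
  hom := wpπ f 0 0
  inv := WidePullback.lift f (fun _ => 𝟙 K') (fun _ => Category.id_comp _)
  hom_inv_id := by
    apply WidePullback.hom_ext
    · intro j
      have hj : j = 0 := Fin.ext (by have := j.2; omega)
      subst hj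
      rw [Category.assoc, WidePullback.lift_π, Category.comp_id, Category.id_comp]
    · rw [Category.assoc, WidePullback.lift_base, Category.id_comp]
      exact WidePullback.π_arrow _ _
  inv_hom_id := WidePullback.lift_π _ _ _ _ _

/-- the successor term of the Čech nerve as a fibre product. -/
noncomputable def wpSuccIso (n : ℕ) : wp f (n + 1) ≅ pullback (wpBase f n) f where
  hom := pullback.lift
    (WidePullback.lift (wpBase f (n + 1)) (fun i => wpπ f (n + 1) i.castSucc)
      (fun i => WidePullback.π_arrow _ _))
    (wpπ f (n + 1) (Fin.last _))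
    (by rw [WidePullback.lift_base]; exact (WidePullback.π_arrow _ _).symm)
  inv := WidePullback.lift (pullback.fst (wpBase f n) f ≫ wpBase f n)
    (fun i => Fin.lastCases (pullback.snd (wpBase f n) f)
      (fun j => pullback.fst (wpBase f n) f ≫ wpπ f n j) i)
    (by
      intro i
      refine Fin.lastCases ?_ (fun j => ?_) i
      · rw [Fin.lastCases_last]
        exact pullback.condition.symm
      · rw [Fin.lastCases_castSucc, Category.assoc]
        congr 1
        exact WidePullback.π_arrow _ _)
  hom_inv_id := by
    apply WidePullback.hom_ext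
    · intro i
      refine Fin.lastCases ?_ (fun j => ?_) i
      · rw [Category.assoc, WidePullback.lift_π, Fin.lastCases_last, pullback.lift_snd,
          Category.id_comp]
      · rw [Category.assoc, WidePullback.lift_π, Fin.lastCases_castSucc, pullback.lift_fst_assoc,
          WidePullback.lift_π, Category.id_comp]
    · simp only [Category.assoc, WidePullback.lift_base, pullback.lift_fst_assoc,
        Category.id_comp]
  inv_hom_id := by
    apply pullback.hom_ext
    · rw [Category.assoc, pullback.lift_fst, Category.id_comp]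
      apply WidePullback.hom_ext
      · intro j
        rw [Category.assoc, WidePullback.lift_π, WidePullback.lift_π, Fin.lastCases_castSucc]
      · rw [Category.assoc, WidePullback.lift_base, WidePullback.lift_base]
    · rw [Category.assoc, pullback.lift_snd, Category.id_comp, WidePullback.lift_π,
        Fin.lastCases_last]

end WP

lemma isCoherent_wp (hE : ToposFin.IsAlgebraic J) {K' K : ToposFin.Sh J} (f : K' ⟶ K)
    (hK' : ToposFin.IsCoherent K') (hK : ToposFin.IsCoherent K) (n : ℕ) :
    ToposFin.IsCoherent (wp f n) := by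
  induction n with
  | zero => exact IsCoherent.of_iso (wpZeroIso f).symm hK'
  | succ n ih =>
    exact IsCoherent.of_iso (wpSuccIso f n).symm (isCoherent_pullback hE _ _ ih hK' hK)

lemma gen_isCoherent_of_isAlgebraic (hE : ToposFin.IsAlgebraic J) :
    Gen (J := J) ToposFin.IsCoherent := by
  obtain ⟨S, hqc, hgen, hpb, heq⟩ := hE
  exact (gen_of_isGenerating hgen).mono (fun K hK => isCoherent_of_mem hqc hgen hpb hK)

/-- **coherent objects of an algebraic topos form a good class.** -/
theorem good_isCoherent (hE : ToposFin.IsAlgebraic J) :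
    Good (J := J) ToposFin.IsCoherent ToposFin.IsCoherent where
  coh := fun _ h => h
  sub := fun _ h => h
  nerve := fun f hK' hK n => isCoherent_wp hE f hK' hK n
  refine := by
    intro K' L f hf hL
    haveI := hf
    have hj : JEpi (fun _ : PUnit.{u + 1} => f) := (jepi_const_iff f).2 hf
    obtain ⟨κ, hκ, Q, i, q, hQ, hq⟩ :=
      (gen_isCoherent_of_isAlgebraic hE).exists_finite_refinement hL.1 (fun _ : PUnit.{u + 1} => f) hj
    refine ⟨∐ Q, Sigma.desc q, isCoherent_sigma_finite Q hQ, ?_⟩
    have h1 : Sigma.desc q ≫ f = Sigma.desc (fun k => q k ≫ f) := by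
      apply Sigma.hom_ext
      intro k
      rw [Sigma.ι_desc_assoc, Sigma.ι_desc]
    rw [h1]
    exact (epi_sigmaDesc_iff _).2 hq
  add := fun F p h L hL => h L hL

/-- **S3876**: in an algebraic topos, cohomology with respect to a coherent object commutes with
filtered colimits. -/
theorem S3876_main (hE : ToposFin.IsAlgebraic J) (K : ToposFin.Sh J) (hK : ToposFin.IsCoherent K)
    (Λ : Type u) [SmallCategory Λ] [IsFiltered Λ] (q : ℕ) :
    PreservesColimitsOfShape Λ (ToposFin.HKFunctor K q) :=
  ⟨fun {D} => preservesColimit_ext_ZZ (gen_isQC_of_isAlgebraic hE) (good_isCoherent hE) hK q D⟩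

end Groth.Agent.H7.TFC
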