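import Groth.Agent.Lib.Helper7.TFC3

/-! # Cohomology of a coherent algebraic topos commutes with filtered colimits (helper7). -/

set_option autoImplicit false
universe u
open CategoryTheory CategoryTheory.Limits Opposite CategoryTheory.Abelian

namespace Groth.Agent.H7.TFC

open Groth.Agent.H2.TF Groth.Agent.H2.Cartan

variable {C : Type u} [SmallCategory C] {J : GrothendieckTopology C}

/-- sections of the final sheaf are unique. -/
noncomputable instance uniqueTerminalSections (U : Cᵒᵖ) :
    Unique ((⊤_ (ToposFin.Sh J)).obj.obj U) :=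
  Equiv.unique (secEquiv (⊤_ (ToposFin.Sh J)) U.unop).symm

/-- the free abelian presheaf on the final sheaf is the constant presheaf `ℤ`. -/
noncomputable def freeTerminalIso :
    (⊤_ (ToposFin.Sh J)).obj ⋙ AddCommGrpCat.free.{u} ≅
      (Functor.const Cᵒᵖ).obj (AddCommGrpCat.of (ULift.{u} ℤ)) :=
  NatIso.ofComponents
    (fun U => AddEquiv.toAddCommGrpIso
      ((FreeAbelianGroup.uniqueEquiv ((⊤_ (ToposFin.Sh J)).obj.obj U)).trans AddEquiv.ulift.symm))
    (by
      intro U V f
      apply AddCommGrpCat.hom_ext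
      apply FreeAbelianGroup.lift_ext
      intro x
      apply ULift.ext
      change FreeAbelianGroup.lift (fun _ => (1 : ℤ))
        (FreeAbelianGroup.map ((⊤_ (ToposFin.Sh J)).obj.map f) (FreeAbelianGroup.of x)) =
        FreeAbelianGroup.lift (fun _ => (1 : ℤ)) (FreeAbelianGroup.of x)
      rw [FreeAbelianGroup.map_of_apply, FreeAbelianGroup.lift_apply_of,
        FreeAbelianGroup.lift_apply_of])

/-- the free abelian sheaf on the final object is the constant sheaf `ℤ`. -/
noncomputable def zzTerminalIso :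
    (ZZ (J := J)).obj (⊤_ (ToposFin.Sh J)) ≅
      (constantSheaf J AddCommGrpCat.{u}).obj (AddCommGrpCat.of (ULift.{u} ℤ)) :=
  (presheafToSheaf J AddCommGrpCat.{u}).mapIso freeTerminalIso

/-- Mathlib's cohomology functor is the Ext functor out of the constant sheaf. -/
noncomputable def functorHIso (q : ℕ) :
    (Sheaf.functorH J q : Sheaf J AddCommGrpCat.{u} ⥤ AddCommGrpCat.{u}) ≅
      extFunctorObj ((constantSheaf J AddCommGrpCat.{u}).obj (AddCommGrpCat.of (ULift.{u} ℤ))) q :=
  NatIso.ofComponents (fun F => Iso.refl _) (by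
    intro F G f
    rfl)

/-- **S3877**: in a coherent algebraic topos, cohomology commutes with filtered colimits. -/
theorem S3877_main (hE : ToposFin.IsAlgebraic J)
    (hT : ToposFin.IsCoherent (⊤_ (ToposFin.Sh J)))
    (Λ : Type u) [SmallCategory Λ] [IsFiltered Λ] (q : ℕ) :
    PreservesColimitsOfShape Λ
      (Sheaf.functorH J q : Sheaf J AddCommGrpCat.{u} ⥤ AddCommGrpCat.{u}) := by
  haveI : PreservesColimitsOfShape Λ (extFunctorObj ((ZZ (J := J)).obj (⊤_ (ToposFin.Sh J))) q) :=
    ⟨fun {D} => preservesColimit_ext_ZZ (gen_isQC_of_isAlgebraic hE) (good_isCoherent hE) hT q D⟩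
  have e : extFunctorObj ((ZZ (J := J)).obj (⊤_ (ToposFin.Sh J))) q ≅
      (Sheaf.functorH J q : Sheaf J AddCommGrpCat.{u} ⥤ AddCommGrpCat.{u}) :=
    ((extFunctor q).mapIso (zzTerminalIso (J := J)).symm.op) ≪≫ (functorHIso q).symm
  exact preservesColimitsOfShape_of_natIso e

end Groth.Agent.H7.TFC
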