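import Groth.Agent.Lib.Helper7.TFC3
import Groth.Agent.Lib.Lead.SC.PushNat
import Groth.Prelude.Def_CohSite

/-! # Higher direct images commute with filtered colimits (algebraic topoi) (helper7). -/

set_option autoImplicit false
universe u
open CategoryTheory CategoryTheory.Limits Opposite CategoryTheory.Abelian

namespace Groth.Agent.H7.TFC

open Groth.Agent.H2.TF Groth.Agent.H2.Cartan

variable {C : Type u} [SmallCategory C] {J : GrothendieckTopology C}

/-- the free abelian sheaf on the sheaf associated to a representable presheaf is the free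
abelian sheaf on the representable presheaf. -/
noncomputable def zuIso (X : C) :
    (ZZ (J := J)).obj (ToposFin.eps J X) ≅ Groth.Agent.LD.SC.ZU J X :=
  haveI : (AddCommGrpCat.free.{u}).IsLeftAdjoint := AddCommGrpCat.adj.isLeftAdjoint
  (presheafToSheafCompComposeAndSheafifyIso J AddCommGrpCat.free.{u}).app (yoneda.obj X)

/-- cohomology over an object of the site whose associated sheaf is coherent commutes with
filtered colimits (algebraic topos). -/
theorem preservesColimit_H_of_isCoherent_eps (hE : ToposFin.IsAlgebraic J) (X : C)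
    (hX : ToposFin.IsCoherent (ToposFin.eps J X)) (q : ℕ)
    {I : Type u} [SmallCategory I] [IsFiltered I] (D : I ⥤ Sheaf J AddCommGrpCat.{u}) :
    PreservesColimit D ((Sheaf.cohomologyPresheafFunctor J q).flip.obj (op X) :
      Sheaf J AddCommGrpCat.{u} ⥤ AddCommGrpCat.{u}) := by
  haveI : PreservesColimit D (extFunctorObj ((ZZ (J := J)).obj (ToposFin.eps J X)) q) :=
    preservesColimit_ext_ZZ (gen_isQC_of_isAlgebraic hE) (good_isCoherent hE) hX q D
  have e : extFunctorObj ((ZZ (J := J)).obj (ToposFin.eps J X)) q ≅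
      extFunctorObj (Groth.Agent.LD.SC.ZU J X) q :=
    (extFunctor q).mapIso (zuIso (J := J) X).symm.op
  exact preservesColimit_of_natIso D e

/-- **S3878**. -/
theorem S3878_main {D : Type u} [SmallCategory D] (J : GrothendieckTopology C)
    (K : GrothendieckTopology D) (hE : ToposFin.IsAlgebraic J)
    (u : D ⥤ C) [u.IsContinuous K J]
    (hu : ∀ V : D, ToposFin.IsCoherent (ToposFin.eps J (u.obj V)))
    (Λ : Type u) [SmallCategory Λ] [IsFiltered Λ] (q : ℕ) :
    PreservesColimitsOfShape Λ (CohSite.Rpush J K u q) := by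
  refine ⟨fun {F} => ?_⟩
  refine Groth.Agent.LD.SC.preservesColimit_rightDerived_pushS J K u F q ?_
  intro V
  refine ⟨PUnit.{u + 1}, fun _ => V, fun _ => 𝟙 V, ?_, fun _ => ?_⟩
  · have h1 : Sieve.ofArrows (fun _ : PUnit.{u + 1} => V) (fun _ => 𝟙 V) = ⊤ := by
      rw [← Sieve.id_mem_iff_eq_top]
      exact Sieve.ofArrows_mk _ _ PUnit.unit
    rw [h1]
    exact K.top_mem V
  · exact preservesColimit_H_of_isCoherent_eps hE (u.obj V) (hu V) q F

end Groth.Agent.H7.TFC
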