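import Groth.Agent.Lib.Helper7.TFC3
import Groth.Agent.Lib.Helper2.ToposFinCoprod2

/-! # Filtered colimits of sheaves acyclic on a generating class of quasi-compact objects stable
under fibre products (helper7). -/

set_option autoImplicit false
universe u
open CategoryTheory CategoryTheory.Limits Opposite CategoryTheory.Abelian

namespace Groth.Agent.H7.TFC

open Groth.Agent.H2.TF Groth.Agent.H2.Cartan Groth.Agent.H2.AcycRes Groth.Agent.H2.CechRes

variable {C : Type u} [SmallCategory C] {J : GrothendieckTopology C}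

section ExtSigma

lemma subsingleton_ext_of_iso {X Y F : Sheaf J AddCommGrpCat.{u}} (e : X ≅ Y) (n : ℕ)
    (h : Subsingleton (Ext X F n)) : Subsingleton (Ext Y F n) := by
  refine ⟨fun a b => ?_⟩
  have h1 : (Ext.mk₀ e.hom).comp a (zero_add _) = (Ext.mk₀ e.hom).comp b (zero_add _) :=
    Subsingleton.elim _ _
  have h2 := congrArg (fun z => (Ext.mk₀ e.inv).comp z (zero_add n)) h1
  simpa [← Ext.comp_assoc_of_second_deg_zero] using h2

/-- vanishing of `Ext^{p+1}` out of a coproduct from vanishing on the summands. -/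
theorem subsingleton_ext_sigma {κ : Type u} (X : κ → Sheaf J AddCommGrpCat.{u}) (p : ℕ) :
    ∀ (F : Sheaf J AddCommGrpCat.{u}), (∀ k, Subsingleton (Ext (X k) F (p + 1))) →
      Subsingleton (Ext (∐ X) F (p + 1)) := by
  induction p with
  | zero =>
    intro F h
    have key : ∀ x : Ext (∐ X) F 1, x = 0 := by
      intro x
      have hS := injSC_shortExact F
      obtain ⟨x₃, hx₃⟩ := Ext.covariant_sequence_exact₁ _ hS x (Ext.eq_zero_of_injective _)
        (zero_add 1)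
      obtain ⟨s, rfl⟩ := (Ext.mk₀_bijective _ _).2 x₃
      have hk : ∀ k, ∃ t : X k ⟶ (injSC F).X₂, t ≫ (injSC F).g = Sigma.ι X k ≫ s := by
        intro k
        have : Subsingleton (Ext (X k) (injSC F).X₁ 1) := h k
        have h0 : (Ext.mk₀ (Sigma.ι X k ≫ s)).comp hS.extClass (zero_add 1) = 0 :=
          Subsingleton.elim _ _
        obtain ⟨x₂, hx₂⟩ := Ext.covariant_sequence_exact₃ _ hS (Ext.mk₀ (Sigma.ι X k ≫ s)) rfl h0
        obtain ⟨c', rfl⟩ := (Ext.mk₀_bijective _ _).2 x₂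
        refine ⟨c', ?_⟩
        rw [Ext.mk₀_comp_mk₀] at hx₂
        exact (Ext.mk₀_bijective _ _).1 hx₂
      choose t ht using hk
      have ht' : Sigma.desc t ≫ (injSC F).g = s := by
        apply Sigma.hom_ext
        intro k
        rw [Sigma.ι_desc_assoc, ht k]
      rw [← hx₃, ← ht', ← Ext.mk₀_comp_mk₀, Ext.comp_assoc_of_second_deg_zero, hS.comp_extClass,
        Ext.comp_zero]
      rfl
    exact ⟨fun a b => by rw [key a, key b]⟩
  | succ p ih =>
    intro F h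
    have hS := injSC_shortExact F
    have hQ : ∀ k, Subsingleton (Ext (X k) (injSC F).X₃ (p + 1)) := by
      intro k
      have : Subsingleton (Ext (X k) (injSC F).X₁ (p + 1 + 1)) := h k
      have key : ∀ y : Ext (X k) (injSC F).X₃ (p + 1), y = 0 := by
        intro y
        have h0 : y.comp hS.extClass (rfl : p + 1 + 1 = p + 1 + 1) = 0 := Subsingleton.elim _ _
        obtain ⟨y₂, hy₂⟩ := Ext.covariant_sequence_exact₃ _ hS y rfl h0
        rw [← hy₂, Ext.eq_zero_of_injective y₂, Ext.zero_comp]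
      exact ⟨fun a b => by rw [key a, key b]⟩
    have := ih _ hQ
    have key : ∀ x : Ext (∐ X) F (p + 1 + 1), x = 0 := by
      intro x
      obtain ⟨x₃, hx₃⟩ := Ext.covariant_sequence_exact₁ _ hS x
        (Ext.eq_zero_of_injective _) (rfl : p + 1 + 1 = p + 1 + 1)
      rw [← hx₃, Subsingleton.elim x₃ 0, Ext.zero_comp]
      rfl
    exact ⟨fun a b => by rw [key a, key b]⟩

end ExtSigma

section Classes
variable (S : Set (ToposFin.Sh J))

/-- the closure of `S` under isomorphisms. -/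
def S0 (L : ToposFin.Sh J) : Prop := ∃ L' : ToposFin.Sh J, L' ∈ S ∧ Nonempty (L ≅ L')

/-- finite disjoint unions of members of (the closure under isomorphisms of) `S`. -/
def S1 (L : ToposFin.Sh J) : Prop :=
  ∃ (κ : Type u) (_ : Finite κ) (Q : κ → ToposFin.Sh J) (v : ∀ k, Q k ⟶ L),
    (∀ k, S0 S (Q k)) ∧ IsDisjointCover v

variable {S}

lemma S0.of_iso {L L' : ToposFin.Sh J} (e : L ≅ L') (h : S0 S L) : S0 S L' := by
  obtain ⟨M, hM, ⟨e'⟩⟩ := h
  exact ⟨M, hM, ⟨e.symm ≪≫ e'⟩⟩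

lemma S1.of_iso {L L' : ToposFin.Sh J} (e : L ≅ L') (h : S1 S L) : S1 S L' := by
  obtain ⟨κ, hκ, Q, v, hQ, hv⟩ := h
  refine ⟨κ, hκ, Q, fun k => v k ≫ e.hom, hQ, ?_⟩
  refine ⟨hv.jepi.postcomp_epi e.hom, fun k => ?_, ?_⟩
  · have := hv.mono k
    infer_instance
  · intro k l hkl P p₁ p₂ h
    refine hv.disj k l hkl p₁ p₂ ?_
    rw [← cancel_mono e.hom, Category.assoc, Category.assoc]
    exact h

lemma S0.s1 {L : ToposFin.Sh J} (h : S0 S L) : S1 S L := by
  refine ⟨PUnit.{u + 1}, inferInstance, fun _ => L, fun _ => 𝟙 L, fun _ => h, ?_⟩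
  refine ⟨(jepi_const_iff (𝟙 L)).2 inferInstance, fun _ => inferInstance, ?_⟩
  intro k l hkl
  exact absurd (Subsingleton.elim k l) hkl

lemma s0_pullback (hpb : ToposFin.ClosedUnderPullbacks S) {A B Z : ToposFin.Sh J} (a : A ⟶ Z)
    (b : B ⟶ Z) (hA : S0 S A) (hB : S0 S B) (hZ : S0 S Z) : S0 S (pullback a b) := by
  obtain ⟨A', hA', ⟨eA⟩⟩ := hA
  obtain ⟨B', hB', ⟨eB⟩⟩ := hB
  obtain ⟨Z', hZ', ⟨eZ⟩⟩ := hZ
  obtain ⟨P, p, q, hP, sq⟩ := hpb (eA.inv ≫ a ≫ eZ.hom) (eB.inv ≫ b ≫ eZ.hom) hA' hB' hZ'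
  have sq' : IsPullback (p ≫ eA.inv) (q ≫ eB.inv) a b := by
    refine IsPullback.of_iso sq (Iso.refl P) eA.symm eB.symm eZ.symm ?_ ?_ ?_ ?_
    · simp
    · simp
    · simp
    · simp
  exact ⟨P, hP, ⟨sq'.isoPullback.symm⟩⟩

lemma s1_pullback (hpb : ToposFin.ClosedUnderPullbacks S) {X Y Z : ToposFin.Sh J} (a : X ⟶ Z)
    (b : Y ⟶ Z) (hX : S1 S X) (hY : S1 S Y) (hZ : S0 S Z) : S1 S (pullback a b) := by
  obtain ⟨κ, hκ, Q, v, hQ, hv⟩ := hX
  obtain ⟨κ', hκ', Q', v', hQ', hv'⟩ := hY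
  exact ⟨κ × κ', inferInstance, fun x => pullback (v x.1 ≫ a) (v' x.2 ≫ b), _,
    fun x => s0_pullback hpb _ _ (hQ x.1) (hQ' x.2) hZ, hv.pullback_map hv' a b⟩

lemma s1_wp (hpb : ToposFin.ClosedUnderPullbacks S) {K' K : ToposFin.Sh J} (f : K' ⟶ K)
    (hK' : S1 S K') (hK : S0 S K) (n : ℕ) : S1 S (wp f n) := by
  induction n with
  | zero => exact S1.of_iso (wpZeroIso f).symm hK'
  | succ n ih => exact S1.of_iso (wpSuccIso f n).symm (s1_pullback hpb _ _ ih hK' hK)

lemma s0_coh (hqc : ∀ K ∈ S, ToposFin.IsQC K) (hgen : ToposFin.IsGenerating S)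
    (hpb : ToposFin.ClosedUnderPullbacks S) {L : ToposFin.Sh J} (h : S0 S L) :
    ToposFin.IsCoherent L := by
  obtain ⟨L', hL', ⟨e⟩⟩ := h
  exact IsCoherent.of_iso e.symm (isCoherent_of_mem hqc hgen hpb hL')

lemma s1_coh (hqc : ∀ K ∈ S, ToposFin.IsQC K) (hgen : ToposFin.IsGenerating S)
    (hpb : ToposFin.ClosedUnderPullbacks S) {L : ToposFin.Sh J} (h : S1 S L) :
    ToposFin.IsCoherent L := by
  obtain ⟨κ, hκ, Q, v, hQ, hv⟩ := h
  exact ⟨IsQC.of_finite_jepi v hv.jepi (fun k => (s0_coh hqc hgen hpb (hQ k)).1),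
    hv.isQS (fun k => (s0_coh hqc hgen hpb (hQ k)).2)⟩

/-- a disjoint cover exhibits its target as the coproduct of its members. -/
lemma isIso_sigmaDesc_of_isDisjointCover {κ : Type u} {Q : κ → ToposFin.Sh J}
    {L : ToposFin.Sh J} {v : ∀ k, Q k ⟶ L} (hv : IsDisjointCover v) : IsIso (Sigma.desc v) := by
  haveI : Epi (Sigma.desc v) := (epi_sigmaDesc_iff _).2 hv.jepi
  haveI : Mono (Sigma.desc v) := by
    constructor
    intro T a b hab
    have hcov : IsDisjointCover (Sigma.ι Q) :=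
      isDisjointCover_cofan (Cofan.mk (∐ Q) (Sigma.ι Q)) (coproductIsCoproduct Q)
    apply (hcov.pullback a).jepi
    intro k
    apply (hcov.pullback (pullback.snd (Sigma.ι Q k) a ≫ b)).jepi
    intro l
    have e1 : pullback.snd (Sigma.ι Q k) a ≫ a = pullback.fst (Sigma.ι Q k) a ≫ Sigma.ι Q k :=
      pullback.condition.symm
    have e2 : pullback.snd (Sigma.ι Q l) (pullback.snd (Sigma.ι Q k) a ≫ b) ≫
        pullback.snd (Sigma.ι Q k) a ≫ b =
        pullback.fst (Sigma.ι Q l) (pullback.snd (Sigma.ι Q k) a ≫ b) ≫ Sigma.ι Q l :=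
      pullback.condition.symm
    have e3 : (pullback.snd (Sigma.ι Q l) (pullback.snd (Sigma.ι Q k) a ≫ b) ≫
        pullback.fst (Sigma.ι Q k) a) ≫ v k =
        pullback.fst (Sigma.ι Q l) (pullback.snd (Sigma.ι Q k) a ≫ b) ≫ v l := by
      have h1 : Sigma.ι Q k ≫ Sigma.desc v = v k := Sigma.ι_desc _ _
      have h2 : Sigma.ι Q l ≫ Sigma.desc v = v l := Sigma.ι_desc _ _
      rw [← h1, ← h2, Category.assoc, ← Category.assoc (pullback.fst (Sigma.ι Q k) a), ← e1,
        ← Category.assoc (pullback.fst (Sigma.ι Q l) _), ← e2]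
      simp only [Category.assoc]
      rw [hab]
    by_cases hkl : k = l
    · subst hkl
      have := hv.mono k
      have e4 := (cancel_mono (v k)).1 e3
      change pullback.snd (Sigma.ι Q k) (pullback.snd (Sigma.ι Q k) a ≫ b) ≫
        pullback.snd (Sigma.ι Q k) a ≫ a = pullback.snd (Sigma.ι Q k) (pullback.snd (Sigma.ι Q k) a ≫ b) ≫
        pullback.snd (Sigma.ι Q k) a ≫ b
      rw [e2, e1, ← Category.assoc, e4]
    · obtain ⟨hI⟩ := hv.disj k l hkl _ _ e3
      exact hI.hom_ext _ _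
  exact isIso_of_mono_of_epi _

lemma s1_add (F : Sheaf J AddCommGrpCat.{u}) (p : ℕ)
    (h : ∀ L, S0 S L → Subsingleton (Ext ((ZZ (J := J)).obj L) F (p + 1)))
    (L : ToposFin.Sh J) (hL : S1 S L) : Subsingleton (Ext ((ZZ (J := J)).obj L) F (p + 1)) := by
  obtain ⟨κ, hκ, Q, v, hQ, hv⟩ := hL
  haveI := isIso_sigmaDesc_of_isDisjointCover hv
  haveI : PreservesColimitsOfSize.{u, u} (ZZ (J := J)) := (zadj (J := J)).leftAdjoint_preservesColimits
  have e : (∐ fun k => (ZZ (J := J)).obj (Q k)) ≅ (ZZ (J := J)).obj L :=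
    (PreservesCoproduct.iso (ZZ (J := J)) Q).symm ≪≫ (ZZ (J := J)).mapIso (asIso (Sigma.desc v))
  exact subsingleton_ext_of_iso e (p + 1)
    (subsingleton_ext_sigma (fun k => (ZZ (J := J)).obj (Q k)) p F (fun k => h _ (hQ k)))

/-- **the classes attached to a generating set of quasi-compact objects stable under fibre
products are good.** -/
theorem good_S (hqc : ∀ K ∈ S, ToposFin.IsQC K) (hgen : ToposFin.IsGenerating S)
    (hpb : ToposFin.ClosedUnderPullbacks S) : Good (J := J) (S0 S) (S1 S) where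
  coh := fun _ h => s1_coh hqc hgen hpb h
  sub := fun _ h => h.s1
  nerve := fun f hK' hK n => s1_wp hpb f hK' hK n
  refine := by
    intro K' L f hf hL
    haveI := hf
    have hj : JEpi (fun _ : PUnit.{u + 1} => f) := (jepi_const_iff f).2 hf
    obtain ⟨κ, hκ, Q, i, q, hQ, hq⟩ :=
      (gen_of_isGenerating hgen).exists_finite_refinement (s0_coh hqc hgen hpb hL).1
        (fun _ : PUnit.{u + 1} => f) hj
    refine ⟨∐ Q, Sigma.desc q, ⟨κ, inferInstance, Q, Sigma.ι Q,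
      fun k => ⟨Q k, hQ k, ⟨Iso.refl _⟩⟩,
      isDisjointCover_cofan (Cofan.mk (∐ Q) (Sigma.ι Q)) (coproductIsCoproduct Q)⟩, ?_⟩
    have h1 : Sigma.desc q ≫ f = Sigma.desc (fun k => q k ≫ f) := by
      apply Sigma.hom_ext
      intro k
      rw [Sigma.ι_desc_assoc, Sigma.ι_desc]
    rw [h1]
    exact (epi_sigmaDesc_iff _).2 hq
  add := fun F p h L hL => s1_add F p h L hL

end Classes

/-- **S3879**: a filtered colimit of `S`-acyclic sheaves is `S`-acyclic. -/
theorem S3879_main (S : Set (ToposFin.Sh J)) (hqc : ∀ K ∈ S, ToposFin.IsQC K)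
    (hgen : ToposFin.IsGenerating S) (hpb : ToposFin.ClosedUnderPullbacks S)
    {Λ : Type u} [SmallCategory Λ] [IsFiltered Λ] (D : Λ ⥤ Sheaf J AddCommGrpCat.{u})
    (hD : ∀ (i : Λ) (K : ToposFin.Sh J), K ∈ S → ∀ q : ℕ,
      Subsingleton (CohCx.HK K (D.obj i) (q + 1)))
    (K : ToposFin.Sh J) (hK : K ∈ S) (q : ℕ) :
    Subsingleton (CohCx.HK K (colimit D) (q + 1)) := by
  have hgenqc : Gen (J := J) ToposFin.IsQC := (gen_of_isGenerating hgen).mono hqc
  refine acyclic_colimit hgenqc (good_S hqc hgen hpb) D ?_ K ⟨K, hK, ⟨Iso.refl _⟩⟩ q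
  intro i L hL p
  obtain ⟨L', hL', ⟨e⟩⟩ := hL
  exact subsingleton_ext_of_iso ((ZZ (J := J)).mapIso e.symm) (p + 1) (hD i L' hL' p)

end Groth.Agent.H7.TFC
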