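import Groth.Agent.Lib.Lead.Colim.Preserve

/-! # "Ext commutes with a filtered colimit" for the cokernel of a monomorphism, by the long exact
sequence in the first variable (helper7). -/

set_option autoImplicit false
universe w v u
open CategoryTheory CategoryTheory.Limits CategoryTheory.Abelian

namespace Groth.Agent.H7.TFC

open Groth.Agent.LD.Colim

variable {A : Type v} [Category.{u} A] [Abelian A] [HasExt.{w} A]

section PC
variable {Z Z' X Y : A}

lemma pc_add (f : X ⟶ Y) {q : ℕ} (x y : Ext Z X q) : pc f (x + y) = pc f x + pc f y := by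
  unfold pc
  rw [Ext.add_comp]

/-- post-composition commutes with pre-composition. -/
lemma pc_precomp {a q n : ℕ} (α : Ext Z' Z a) (f : X ⟶ Y) (x : Ext Z X q) (h : a + q = n) :
    pc f (α.comp x h) = α.comp (pc f x) h := by
  unfold pc
  rw [Ext.comp_assoc_of_third_deg_zero]

end PC

variable {I : Type u} [SmallCategory I] [IsFiltered I] [HasColimitsOfShape I A]
variable {S : ShortComplex A} (hS : S.ShortExact) (D : I ⥤ A)

include hS in
/-- first half of the chase, common to all degrees. -/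
lemma exists_stage_lift (q : ℕ) (h2s : SurjP S.X₂ q D) (h1i : InjP S.X₁ q D)
    (x : Ext S.X₃ (colimit D) q) :
    ∃ (j : I) (y₃ : Ext S.X₃ (D.obj j) q),
      (Ext.mk₀ S.g).comp (x - pc (colimit.ι D j) y₃) (zero_add q) = 0 := by
  obtain ⟨i, y₂, hy₂⟩ := h2s ((Ext.mk₀ S.g).comp x (zero_add q))
  have h0 : pc (colimit.ι D i) ((Ext.mk₀ S.f).comp y₂ (zero_add q)) = 0 := by
    rw [pc_precomp, hy₂, ← Ext.comp_assoc_of_second_deg_zero, Ext.mk₀_comp_mk₀, S.zero,
      Ext.mk₀_zero, Ext.zero_comp]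
  obtain ⟨j, a, ha⟩ := h1i i _ h0
  rw [pc_precomp] at ha
  obtain ⟨y₃, hy₃⟩ := Ext.contravariant_sequence_exact₂ hS _ (pc (D.map a) y₂) ha
  refine ⟨j, y₃, ?_⟩
  rw [sub_eq_add_neg, Ext.comp_add, Ext.comp_neg, ← pc_precomp, hy₃, pc_comp, colimit.w, hy₂,
    add_neg_cancel]

include hS in
theorem surjP_X₃_zero (h2s : SurjP S.X₂ 0 D) (h1i : InjP S.X₁ 0 D) : SurjP S.X₃ 0 D := by
  intro x
  obtain ⟨j, y₃, h⟩ := exists_stage_lift hS D 0 h2s h1i x
  haveI := hS.epi_g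
  refine ⟨j, y₃, ?_⟩
  have hinj := Ext.precomp_mk₀_injective_of_epi (colimit D) S.g
  have h1 : x - pc (colimit.ι D j) y₃ = 0 := hinj (by
    rw [map_zero]
    exact h)
  exact (sub_eq_zero.1 h1).symm

include hS in
theorem surjP_X₃_succ (n : ℕ) (h2s : SurjP S.X₂ (n + 1) D) (h1i : InjP S.X₁ (n + 1) D)
    (h1s : SurjP S.X₁ n D) : SurjP S.X₃ (n + 1) D := by
  intro x
  obtain ⟨j, y₃, h⟩ := exists_stage_lift hS D (n + 1) h2s h1i x
  obtain ⟨w, hw⟩ := Ext.contravariant_sequence_exact₃ hS _ _ h (add_comm 1 n)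
  obtain ⟨k, wk, hwk⟩ := h1s w
  let m := IsFiltered.max j k
  let b : j ⟶ m := IsFiltered.leftToMax j k
  let c : k ⟶ m := IsFiltered.rightToMax j k
  refine ⟨m, pc (D.map b) y₃ + pc (D.map c) (hS.extClass.comp wk (add_comm 1 n)), ?_⟩
  rw [pc_add, pc_comp, pc_comp, colimit.w, colimit.w, pc_precomp, hwk, hw]
  abel

include hS in
theorem injP_X₃_zero (h2i : InjP S.X₂ 0 D) : InjP S.X₃ 0 D := by
  intro i y hy
  have h0 : pc (colimit.ι D i) ((Ext.mk₀ S.g).comp y (zero_add 0)) = 0 := by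
    rw [pc_precomp, hy, Ext.comp_zero]
  obtain ⟨j, a, ha⟩ := h2i i _ h0
  rw [pc_precomp] at ha
  haveI := hS.epi_g
  refine ⟨j, a, ?_⟩
  have hinj := Ext.precomp_mk₀_injective_of_epi (D.obj j) S.g
  exact hinj (by
    rw [map_zero]
    exact ha)

include hS in
theorem injP_X₃_succ (n : ℕ) (h2i : InjP S.X₂ (n + 1) D) (h2s : SurjP S.X₂ n D)
    (h1i : InjP S.X₁ n D) : InjP S.X₃ (n + 1) D := by
  intro i y hy
  have h0 : pc (colimit.ι D i) ((Ext.mk₀ S.g).comp y (zero_add (n + 1))) = 0 := by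
    rw [pc_precomp, hy, Ext.comp_zero]
  obtain ⟨j, a, ha⟩ := h2i i _ h0
  rw [pc_precomp] at ha
  obtain ⟨w, hw⟩ := Ext.contravariant_sequence_exact₃ hS _ _ ha (add_comm 1 n)
  have h1 : hS.extClass.comp (pc (colimit.ι D j) w) (add_comm 1 n) = 0 := by
    rw [← pc_precomp, hw, pc_comp, colimit.w, hy]
  obtain ⟨v, hv⟩ := Ext.contravariant_sequence_exact₁ hS _ _ (add_comm 1 n) h1
  obtain ⟨k, vk, hvk⟩ := h2s v
  let m := IsFiltered.max j k
  let b : j ⟶ m := IsFiltered.leftToMax j k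
  let c : k ⟶ m := IsFiltered.rightToMax j k
  have h2 : pc (colimit.ι D m)
      (pc (D.map b) w - (Ext.mk₀ S.f).comp (pc (D.map c) vk) (zero_add n)) = 0 := by
    rw [pc_sub, pc_comp, colimit.w, pc_precomp, pc_comp, colimit.w, hvk, hv, sub_self]
  obtain ⟨l, d, hd⟩ := h1i m _ h2
  rw [pc_sub, sub_eq_zero, pc_comp, pc_precomp, pc_comp] at hd
  refine ⟨l, a ≫ b ≫ d, ?_⟩
  rw [D.map_comp, ← pc_comp, ← hw, pc_precomp, D.map_comp, hd]
  exact hS.extClass_comp_assoc _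

end Groth.Agent.H7.TFC
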