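import Groth.Agent.Lib.Helper7.TFC3
import Groth.Agent.Lib.Helper7.TFC7

/-! # Cohomology with supports in the complement of a coherent open commutes with filtered
colimits (helper7). -/

set_option autoImplicit false
universe u
open CategoryTheory CategoryTheory.Limits Opposite CategoryTheory.Abelian

namespace Groth.Agent.H7.TFC

open Groth.Agent.H2.TF Groth.Agent.H2.Cartan Groth.Agent.LD.Colim

variable {C : Type u} [SmallCategory C] {J : GrothendieckTopology C}

/-- the free abelian sheaf functor preserves monomorphisms. -/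
lemma mono_ZZ_map {X Y : ToposFin.Sh J} (i : X ⟶ Y) [Mono i] : Mono ((ZZ (J := J)).map i) := by
  haveI h1 : Mono ((sheafToPresheaf J (Type u)).map i) := inferInstance
  haveI h2 : Mono (((Functor.whiskeringRight Cᵒᵖ _ _).obj AddCommGrpCat.free.{u}).map
      ((sheafToPresheaf J (Type u)).map i)) := by
    haveI : ∀ V, Mono ((((Functor.whiskeringRight Cᵒᵖ _ _).obj AddCommGrpCat.free.{u}).map
        ((sheafToPresheaf J (Type u)).map i)).app V) := by
      intro V
      haveI : Mono (((sheafToPresheaf J (Type u)).map i).app V) :=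
        (NatTrans.mono_iff_mono_app _).1 h1 V
      change Mono (AddCommGrpCat.free.{u}.map (((sheafToPresheaf J (Type u)).map i).app V))
      infer_instance
    exact NatTrans.mono_of_mono_app _
  change Mono ((presheafToSheaf J AddCommGrpCat.{u}).map _)
  infer_instance

/-- the short exact sequence `0 → ℤ[U] → ℤ[e] → ℤ/ℤ_U → 0`. -/
noncomputable abbrev quotSC (U : ToposFin.Sh J) : ShortComplex (Sheaf J AddCommGrpCat.{u}) :=
  ShortComplex.mk ((ZZ (J := J)).map (terminal.from U))
    (cokernel.π ((ZZ (J := J)).map (terminal.from U))) (cokernel.condition _)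

lemma quotSC_shortExact (U : ToposFin.Sh J) [Mono (terminal.from U)] :
    (quotSC U).ShortExact where
  exact := ShortComplex.exact_of_g_is_cokernel _ (cokernelIsCokernel _)
  mono_f := mono_ZZ_map (terminal.from U)
  epi_g := inferInstanceAs (Epi (cokernel.π _))

/-- **S3898**. -/
theorem S3898_main (hE : ToposFin.IsAlgebraic J)
    (hT : ToposFin.IsCoherent (⊤_ (ToposFin.Sh J)))
    (U : ToposFin.Sh J) [Mono (terminal.from U)] (hU : ToposFin.IsCoherent U)
    (Λ : Type u) [SmallCategory Λ] [IsFiltered Λ] (q : ℕ) :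
    PreservesColimitsOfShape Λ (ToposFin.HZFunctor U q) := by
  refine ⟨fun {D} => ?_⟩
  have hgen := gen_isQC_of_isAlgebraic hE
  have hG := good_isCoherent hE
  have hS := quotSC_shortExact U
  have h1 : ∀ n, SurjP (quotSC U).X₁ n D ∧ InjP (quotSC U).X₁ n D :=
    fun n => surjP_injP hgen hG hU n D
  have h2 : ∀ n, SurjP (quotSC U).X₂ n D ∧ InjP (quotSC U).X₂ n D :=
    fun n => surjP_injP hgen hG hT n D
  have h3 : SurjP (quotSC U).X₃ q D ∧ InjP (quotSC U).X₃ q D := by
    cases q with
    | zero =>
      exact ⟨surjP_X₃_zero hS D (h2 0).1 (h1 0).2, injP_X₃_zero hS D (h2 0).2⟩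
    | succ n =>
      exact ⟨surjP_X₃_succ hS D n (h2 (n + 1)).1 (h1 (n + 1)).2 (h1 n).1,
        injP_X₃_succ hS D n (h2 (n + 1)).2 (h2 n).1 (h1 n).2⟩
  exact preservesColimit_ext (quotSC U).X₃ q D h3.1 h3.2

end Groth.Agent.H7.TFC
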