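import Mathlib
import Groth.Prelude.Def_EtBase
import Groth.Agent.Lib.Helper7.CI6

/-!
# Helper7: TI1 — étale morphisms and surjective closed immersions (nilpotent thickenings)
-/

set_option autoImplicit false

open CategoryTheory Limits AlgebraicGeometry Opposite

namespace Groth.Agent.H7.TI

universe u

/-- an étale morphism whose base change along a surjective morphism is a monomorphism is a
monomorphism -/
theorem mono_of_mono_pullback_snd {W T T₀ : Scheme.{u}} (a : W ⟶ T) [Etale a] (i : T₀ ⟶ T)
    [Surjective i] [Mono (pullback.snd a i)] : Mono a := by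
  rw [← pullback.isIso_diagonal_iff]
  haveI : IsOpenImmersion (pullback.diagonal a) := inferInstance
  let b : pullback a a ⟶ T := pullback.fst a a ≫ a
  have hs : Surjective (pullback.fst b i) :=
    MorphismProperty.pullback_fst (P := @Surjective) _ _ inferInstance
  let p₁₀ : pullback b i ⟶ pullback a i :=
    pullback.lift (pullback.fst b i ≫ pullback.fst a a) (pullback.snd b i)
      (by rw [Category.assoc]; exact pullback.condition)
  let p₂₀ : pullback b i ⟶ pullback a i :=
    pullback.lift (pullback.fst b i ≫ pullback.snd a a) (pullback.snd b i)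
      (by rw [Category.assoc, ← pullback.condition]; exact pullback.condition)
  have h12 : p₁₀ = p₂₀ := by
    rw [← cancel_mono (pullback.snd a i)]
    exact (pullback.lift_snd _ _ _).trans (pullback.lift_snd _ _ _).symm
  have hu : pullback.fst b i ≫ pullback.fst a a = pullback.fst b i ≫ pullback.snd a a := by
    have := congrArg (fun t => t ≫ pullback.fst a i) h12
    exact (pullback.lift_fst _ _ _).symm.trans (this.trans (pullback.lift_fst _ _ _))
  have hfac : pullback.fst b i =
      (pullback.fst b i ≫ pullback.fst a a) ≫ pullback.diagonal a := by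
    apply pullback.hom_ext <;> simp [hu]
  haveI : Surjective (pullback.diagonal a) := by
    refine ⟨fun y => ?_⟩
    obtain ⟨y₀, rfl⟩ := hs.surj y
    rw [hfac]
    exact ⟨_, rfl⟩
  haveI : Epi (pullback.diagonal a).base := by
    rw [TopCat.epi_iff_surjective]
    exact (pullback.diagonal a).surjective
  exact IsOpenImmersion.isIso _

/-- an étale morphism whose base change along a surjective morphism is an isomorphism is an
isomorphism -/
theorem isIso_of_isIso_pullback_snd {W T T₀ : Scheme.{u}} (a : W ⟶ T) [Etale a] (i : T₀ ⟶ T)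
    [Surjective i] [IsIso (pullback.snd a i)] : IsIso a := by
  haveI : Mono a := mono_of_mono_pullback_snd a i
  haveI : IsOpenImmersion a := IsOpenImmersion.of_flat_of_mono a
  haveI : Surjective a := by
    refine ⟨fun t => ?_⟩
    obtain ⟨t₀, rfl⟩ := i.surjective t
    obtain ⟨w₀, rfl⟩ := (pullback.snd a i).surjective t₀
    refine ⟨(pullback.fst a i).base w₀, ?_⟩
    rw [← Scheme.Hom.comp_apply, ← Scheme.Hom.comp_apply, pullback.condition]
  haveI : Epi a.base := by
    rw [TopCat.epi_iff_surjective]
    exact a.surjective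
  exact IsOpenImmersion.isIso _

/-- two lifts to an étale scheme which agree after restriction along a surjective morphism agree -/
theorem eq_of_comp_eq_of_surjective {X S S' S'₀ : Scheme.{u}} (p : X ⟶ S) [Etale p]
    (i : S'₀ ⟶ S') [Surjective i] (f₁ f₂ : S' ⟶ X) (hp : f₁ ≫ p = f₂ ≫ p)
    (hi : i ≫ f₁ = i ≫ f₂) : f₁ = f₂ := by
  haveI : IsOpenImmersion (pullback.diagonal p) := inferInstance
  let φ : S' ⟶ pullback p p := pullback.lift f₁ f₂ hp
  let e : pullback φ (pullback.diagonal p) ⟶ S' := pullback.fst _ _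
  haveI : IsOpenImmersion e :=
    MorphismProperty.pullback_fst (P := @IsOpenImmersion) _ _ inferInstance
  have hc : i ≫ φ = (i ≫ f₁) ≫ pullback.diagonal p := by
    apply pullback.hom_ext
    · rw [Category.assoc, Category.assoc, pullback.lift_fst, pullback.diagonal_fst,
        Category.comp_id]
    · rw [Category.assoc, Category.assoc, pullback.lift_snd, pullback.diagonal_snd,
        Category.comp_id, hi]
  let t : S'₀ ⟶ pullback φ (pullback.diagonal p) := pullback.lift i (i ≫ f₁) hc
  have ht : t ≫ e = i := pullback.lift_fst _ _ _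
  haveI : Surjective e := by
    refine ⟨fun y => ?_⟩
    obtain ⟨y₀, rfl⟩ := i.surjective y
    refine ⟨t.base y₀, ?_⟩
    rw [← Scheme.Hom.comp_apply, ht]
  haveI : Epi e.base := by
    rw [TopCat.epi_iff_surjective]
    exact e.surjective
  haveI : IsIso e := IsOpenImmersion.isIso _
  rw [← cancel_epi e]
  have h1 : e ≫ φ = pullback.snd φ (pullback.diagonal p) ≫ pullback.diagonal p :=
    pullback.condition
  have h2 := congrArg (fun t => t ≫ pullback.fst p p) h1
  have h3 := congrArg (fun t => t ≫ pullback.snd p p) h1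
  simp only [Category.assoc, φ, pullback.lift_fst, pullback.lift_snd, pullback.diagonal_fst,
    pullback.diagonal_snd, Category.comp_id] at h2 h3
  exact h2.trans h3.symm

open Groth.Agent.H7.CI in
theorem S5075_main {X S S' S'₀ : Scheme.{u}} (p : X ⟶ S) [Etale p]
    (g : S' ⟶ S) (i : S'₀ ⟶ S') [IsClosedImmersion i] [Surjective i]
    (f₀ : S'₀ ⟶ X) (h₀ : f₀ ≫ p = i ≫ g) :
    ∃! f : S' ⟶ X, f ≫ p = g ∧ i ≫ f = f₀ := by
  suffices ∃ f : S' ⟶ X, f ≫ p = g ∧ i ≫ f = f₀ by
    obtain ⟨f, hf1, hf2⟩ := this
    refine ⟨f, ⟨hf1, hf2⟩, ?_⟩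
    rintro f' ⟨hf'1, hf'2⟩
    exact eq_of_comp_eq_of_surjective p i f' f (hf'1.trans hf1.symm) (hf'2.trans hf2.symm)
  -- the étale `S'`-scheme `X' = X ×_S S'`
  let q : pullback p g ⟶ S' := pullback.snd p g
  let X' : S'.Etale := Scheme.Etale.mk q
  let T : S'.Etale := EtCoh.top S'
  let s₀ : S'₀ ⟶ pullback p g := pullback.lift f₀ i h₀
  have hs₀ : s₀ ≫ q = i := pullback.lift_snd _ _ _
  let h : (EtCoh.bc i).obj T ⟶ (EtCoh.bc i).obj X' :=
    MorphismProperty.Over.homMk
      (pullback.lift (pullback.snd T.hom i ≫ s₀) (pullback.snd T.hom i)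
        (by rw [Category.assoc]; exact congrArg (fun t => _ ≫ t) hs₀))
      (pullback.lift_snd _ _ _)
  obtain ⟨W, a, b, ha, hab⟩ := exists_lift_hom i T X' h
  -- `W → S'` is an isomorphism
  have hsnd : ((EtCoh.bc i).map a).left ≫ pullback.snd T.hom i = pullback.snd W.hom i :=
    bc_map_left_snd i a
  have hal : IsIso ((EtCoh.bc i).map a).left :=
    inferInstanceAs (IsIso ((Scheme.Etale.forget S'₀ ⋙ Over.forget S'₀).map ((EtCoh.bc i).map a)))
  have hT : IsIso (pullback.snd T.hom i) := by
    change IsIso (pullback.snd (𝟙 S') i)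
    infer_instance
  haveI hW0 : IsIso (pullback.snd W.hom i) :=
    hsnd ▸ (@IsIso.comp_isIso _ _ _ _ _ _ _ hal hT)
  haveI : Etale W.hom := W.prop
  haveI hW : IsIso W.hom := isIso_of_isIso_pullback_snd W.hom i
  have hbq : b.left ≫ q = W.hom := MorphismProperty.Over.w b
  let bl : W.left ⟶ pullback p g := b.left
  have hbq' : bl ≫ q = W.hom := hbq
  refine ⟨inv W.hom ≫ bl ≫ pullback.fst p g, ?_, ?_⟩
  · have e0 : (bl ≫ pullback.fst p g) ≫ p = W.hom ≫ g := by
      rw [Category.assoc, pullback.condition, ← Category.assoc, hbq']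
    rw [Category.assoc, e0, IsIso.inv_hom_id_assoc]
  · rw [← cancel_epi (pullback.snd W.hom i)]
    have e1 : pullback.snd W.hom i ≫ i = pullback.fst W.hom i ≫ W.hom :=
      pullback.condition.symm
    rw [← Category.assoc, e1, Category.assoc, IsIso.hom_inv_id_assoc]
    -- use `hab`
    have e2 : (((EtCoh.bc i).map a).left ≫ h.left) ≫ pullback.fst q i =
        ((EtCoh.bc i).map b).left ≫ pullback.fst q i :=
      congrArg (fun t => t.left ≫ pullback.fst q i) hab
    have e3 : h.left ≫ pullback.fst q i = pullback.snd T.hom i ≫ s₀ :=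
      pullback.lift_fst _ _ _
    have e4 : ((EtCoh.bc i).map b).left ≫ pullback.fst q i = pullback.fst W.hom i ≫ bl :=
      bc_map_left_fst i b
    have e5 : pullback.fst W.hom i ≫ bl = pullback.snd W.hom i ≫ s₀ :=
      e4.symm.trans (e2.symm.trans ((Category.assoc _ _ _).trans
        ((congrArg (fun t => ((EtCoh.bc i).map a).left ≫ t) e3).trans
          ((Category.assoc _ _ _).symm.trans (congrArg (fun t => t ≫ s₀) hsnd)))))
    rw [← Category.assoc, e5, Category.assoc]
    exact congrArg (fun t => _ ≫ t) (pullback.lift_fst _ _ _)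

end Groth.Agent.H7.TI
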