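import Mathlib

/-! Kronecker powers of matrices, the antisymmetrizer `ε εᵀ`, and the operator `Theta`. -/

set_option autoImplicit false
open scoped TensorProduct

namespace Groth.Agent.H7.TP

universe u v

/-- index set for the `n`-fold Kronecker power of `n × n` matrices -/
abbrev Idx (n : ℕ) := Fin n → Fin n

section Kron

variable {S : Type*} [CommRing S] {n : ℕ}

/-- the Kronecker product of a family of `n` matrices -/
def kron (m : Fin n → Matrix (Fin n) (Fin n) S) : Matrix (Idx n) (Idx n) S :=
  Matrix.of fun a b => ∏ k, m k (a k) (b k)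

@[simp] theorem kron_apply (m : Fin n → Matrix (Fin n) (Fin n) S) (a b : Idx n) :
    kron m a b = ∏ k, m k (a k) (b k) := rfl

theorem kron_one : kron (fun _ => (1 : Matrix (Fin n) (Fin n) S)) = 1 := by
  ext a b
  simp only [kron_apply, Matrix.one_apply]
  rw [Finset.prod_ite_zero]
  simp only [Finset.mem_univ, forall_const, Finset.prod_const_one]
  congr 1
  exact propext funext_iff.symm

theorem kron_mul (m m' : Fin n → Matrix (Fin n) (Fin n) S) :
    kron (fun k => m k * m' k) = kron m * kron m' := by
  ext a b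
  simp only [kron_apply, Matrix.mul_apply]
  rw [Finset.prod_univ_sum]
  simp only [Fintype.piFinset_univ, Finset.prod_mul_distrib]

theorem kron_map {T : Type*} [CommRing T] (f : S →+* T) (m : Fin n → Matrix (Fin n) (Fin n) S) :
    (kron m).map f = kron (fun k => (m k).map f) := by
  ext a b
  simp [map_prod]

theorem kron_transpose (m : Fin n → Matrix (Fin n) (Fin n) S) :
    (kron m).transpose = kron (fun k => (m k).transpose) := by
  ext a b
  simp

variable (S n) in
/-- `kron` as a multilinear map -/
noncomputable def kronMulti :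
    MultilinearMap S (fun _ : Fin n => Matrix (Fin n) (Fin n) S) (Matrix (Idx n) (Idx n) S) :=
  (Matrix.ofLinearEquiv S).toLinearMap.compMultilinearMap
    (MultilinearMap.pi fun a : Idx n => MultilinearMap.pi fun b : Idx n =>
      (MultilinearMap.mkPiAlgebra S (Fin n) S).compLinearMap
        (fun k => Matrix.entryLinearMap S S (a k) (b k)))

@[simp] theorem kronMulti_apply (m : Fin n → Matrix (Fin n) (Fin n) S) :
    kronMulti S n m = kron m := by
  ext a b
  simp [kronMulti]

theorem kron_single (a b : Idx n) :
    kron (fun k => Matrix.single (a k) (b k) (1 : S)) = Matrix.single a b 1 := by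
  ext c d
  simp only [kron_apply, Matrix.single_apply]
  rw [Finset.prod_ite_zero]
  simp only [Finset.mem_univ, forall_const, Finset.prod_const_one]
  congr 1
  apply propext
  constructor
  · intro h; exact ⟨funext fun k => (h k).1, funext fun k => (h k).2⟩
  · rintro ⟨rfl, rfl⟩ k; exact ⟨rfl, rfl⟩

end Kron

section Eps

variable (S : Type*) [CommRing S] (n : ℕ)

/-- the antisymmetric tensor `ε` : `ε a = det (rows e_{a k})` -/
noncomputable def eps : Idx n → S := fun a =>
  ((1 : Matrix (Fin n) (Fin n) S).submatrix a id).det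

/-- the antisymmetrizer `ε εᵀ` -/
noncomputable def epsMat : Matrix (Idx n) (Idx n) S := Matrix.vecMulVec (eps S n) (eps S n)

variable {S n}

theorem eps_id : eps S n id = 1 := by
  simp [eps]

theorem eps_map {T : Type*} [CommRing T] (f : S →+* T) (a : Idx n) :
    f (eps S n a) = eps T n a := by
  simp only [eps]
  rw [RingHom.map_det]
  congr 1
  ext i j
  simp [Matrix.one_apply]

theorem epsMat_map {T : Type*} [CommRing T] (f : S →+* T) :
    (epsMat S n).map f = epsMat T n := by
  ext a b
  simp [epsMat, Matrix.vecMulVec_apply, eps_map]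

theorem det_submatrix_eq (u : Matrix (Fin n) (Fin n) S) (a : Idx n) :
    (u.submatrix a id).det = ∑ c : Idx n, (∏ k, u (a k) (c k)) * eps S n c := by
  have h1 : u.submatrix a id = fun k => ∑ j, u (a k) j • (fun j' => if j = j' then (1 : S) else 0) := by
    funext k
    exact pi_eq_sum_univ (u (a k))
  change Matrix.detRowAlternating (u.submatrix a id) = _
  rw [h1]
  change (Matrix.detRowAlternating (R := S) (n := Fin n)).toMultilinearMap
    (fun k => ∑ j, u (a k) j • (fun j' => if j = j' then (1 : S) else 0)) = _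
  rw [MultilinearMap.map_sum]
  apply Finset.sum_congr rfl
  intro c _
  rw [MultilinearMap.map_smul_univ, smul_eq_mul]
  congr 1

theorem kron_mulVec_eps (u : Matrix (Fin n) (Fin n) S) :
    (kron fun _ => u).mulVec (eps S n) = u.det • eps S n := by
  funext a
  simp only [Matrix.mulVec, dotProduct, kron_apply, Pi.smul_apply, smul_eq_mul]
  rw [← det_submatrix_eq]
  have h : u.submatrix a id = (1 : Matrix (Fin n) (Fin n) S).submatrix a id * u := by
    ext i j
    simp [Matrix.mul_apply, Matrix.one_apply]
  rw [h, Matrix.det_mul, mul_comm]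
  rfl

theorem eps_vecMul_kron (u : Matrix (Fin n) (Fin n) S) :
    Matrix.vecMul (eps S n) (kron fun _ => u) = u.det • eps S n := by
  rw [← Matrix.mulVec_transpose, kron_transpose, kron_mulVec_eps, Matrix.det_transpose]

theorem kron_mul_epsMat_mul_kron (u u' : Matrix (Fin n) (Fin n) S) (h : u.det * u'.det = 1) :
    (kron fun _ => u) * epsMat S n * (kron fun _ => u') = epsMat S n := by
  rw [epsMat, Matrix.mul_vecMulVec, Matrix.vecMulVec_mul, kron_mulVec_eps, eps_vecMul_kron]
  ext a b
  simp only [Matrix.vecMulVec_apply, Pi.smul_apply, smul_eq_mul]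
  calc u.det * eps S n a * (u'.det * eps S n b)
      = (u.det * u'.det) * (eps S n a * eps S n b) := by ring
    _ = _ := by rw [h, one_mul]

end Eps

section Theta

variable {S : Type*} [CommRing S] {n : ℕ}

/-- the operator on `M_I(S)` induced by a linear endomorphism `θ` of `M_n(S)`; when `θ` is an
algebra endomorphism this is `θ ⊗ ⋯ ⊗ θ`. -/
noncomputable def Theta (θ : Matrix (Fin n) (Fin n) S →ₗ[S] Matrix (Fin n) (Fin n) S) :
    Matrix (Idx n) (Idx n) S →ₗ[S] Matrix (Idx n) (Idx n) S :=
  ∑ a : Idx n, ∑ b : Idx n, (Matrix.entryLinearMap S S a b).smulRight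
    (kron fun k => θ (Matrix.single (a k) (b k) 1))

theorem Theta_apply (θ : Matrix (Fin n) (Fin n) S →ₗ[S] Matrix (Fin n) (Fin n) S)
    (X : Matrix (Idx n) (Idx n) S) :
    Theta θ X = ∑ a : Idx n, ∑ b : Idx n, X a b • kron fun k => θ (Matrix.single (a k) (b k) 1) := by
  simp [Theta, LinearMap.sum_apply]

theorem Theta_kron (θ : Matrix (Fin n) (Fin n) S →ₗ[S] Matrix (Fin n) (Fin n) S)
    (m : Fin n → Matrix (Fin n) (Fin n) S) :
    Theta θ (kron m) = kron fun k => θ (m k) := by
  rw [Theta_apply]
  have h1 : ∀ k, θ (m k) = ∑ p : Fin n × Fin n, m k p.1 p.2 • θ (Matrix.single p.1 p.2 1) := by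
    intro k
    conv_lhs => rw [Matrix.matrix_eq_sum_single (m k)]
    rw [map_sum, Fintype.sum_prod_type]
    apply Finset.sum_congr rfl
    intro i _
    rw [map_sum]
    apply Finset.sum_congr rfl
    intro j _
    rw [← map_smul]
    congr 1
    ext i' j'
    simp [Matrix.single_apply]
  rw [← kronMulti_apply (fun k => θ (m k))]
  simp only [h1]
  rw [MultilinearMap.map_sum]
  simp only [MultilinearMap.map_smul_univ, kronMulti_apply]
  rw [← Finset.sum_product', Finset.univ_product_univ]
  symm
  apply Fintype.sum_equiv (Equiv.arrowProdEquivProdArrow (Fin n) (fun _ => Fin n) (fun _ => Fin n))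
  intro c
  rfl

theorem Theta_epsMat_of_conj (θ : Matrix (Fin n) (Fin n) S →ₗ[S] Matrix (Fin n) (Fin n) S)
    (u u' : Matrix (Fin n) (Fin n) S) (h : u.det * u'.det = 1)
    (hθ : ∀ i j, θ (Matrix.single i j 1) = u * Matrix.single i j 1 * u') :
    Theta θ (epsMat S n) = epsMat S n := by
  rw [Theta_apply]
  have h1 : ∀ a b : Idx n, (kron fun k => θ (Matrix.single (a k) (b k) 1)) =
      (kron fun _ => u) * Matrix.single a b 1 * (kron fun _ => u') := by
    intro a b
    simp only [hθ]
    rw [kron_mul, kron_mul, kron_single]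
  have h3 : ∀ a b : Idx n, epsMat S n a b •
      ((kron fun _ => u) * Matrix.single a b 1 * (kron fun _ => u')) =
      (kron fun _ => u) * (epsMat S n a b • Matrix.single a b 1) * (kron fun _ => u') := by
    intro a b
    rw [Matrix.mul_smul, Matrix.smul_mul]
  simp only [h1, h3]
  simp only [← Finset.mul_sum, ← Finset.sum_mul]
  have h2 : (∑ a : Idx n, ∑ b : Idx n, epsMat S n a b • Matrix.single a b (1 : S)) = epsMat S n := by
    conv_rhs => rw [Matrix.matrix_eq_sum_single (epsMat S n)]
    apply Finset.sum_congr rfl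
    intro a _
    apply Finset.sum_congr rfl
    intro b _
    ext c d
    simp [Matrix.single_apply]
  rw [h2]
  exact kron_mul_epsMat_mul_kron u u' h

theorem Theta_map {T : Type*} [CommRing T] (f : S →+* T)
    (θ : Matrix (Fin n) (Fin n) S →ₗ[S] Matrix (Fin n) (Fin n) S)
    (θ' : Matrix (Fin n) (Fin n) T →ₗ[T] Matrix (Fin n) (Fin n) T)
    (h : ∀ i j, θ' (Matrix.single i j 1) = (θ (Matrix.single i j 1)).map f)
    (X : Matrix (Idx n) (Idx n) S) :
    (Theta θ X).map f = Theta θ' (X.map f) := by
  rw [Theta_apply, Theta_apply]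
  simp only [h, ← kron_map]
  ext c d
  simp [Matrix.sum_apply, map_sum]

end Theta

end Groth.Agent.H7.TP
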