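import Mathlib
import Groth.Agent.Lib.Helper7.TP1
import Groth.Agent.Lib.Helper7.AzCH

/-! The antisymmetrizer `ε εᵀ` is invariant under `θ ⊗ ⋯ ⊗ θ` for every algebra automorphism `θ`
of the matrix algebra over a commutative ring. -/

set_option autoImplicit false
open scoped TensorProduct

namespace Groth.Agent.H7.TP

variable {S : Type*} [CommRing S] {n : ℕ}

theorem Theta_epsMat (θ : Matrix (Fin n) (Fin n) S ≃ₐ[S] Matrix (Fin n) (Fin n) S) :
    Theta θ.toLinearMap (epsMat S n) = epsMat S n := by
  rcases Nat.eq_zero_or_pos n with rfl | hn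
  · -- everything is the 1×1 case: direct computation
    have hθ : ∀ i j, θ.toLinearMap (Matrix.single i j 1) =
        (1 : Matrix (Fin 0) (Fin 0) S) * Matrix.single i j 1 * 1 := by
      intro i j
      exact Subsingleton.elim _ _
    exact Theta_epsMat_of_conj _ 1 1 (by simp) hθ
  haveI : Nonempty (Fin n) := ⟨⟨0, hn⟩⟩
  haveI : IsAzumaya S (Matrix (Fin n) (Fin n) S) := IsAzumaya.matrix S (Fin n)
  ext a b
  rw [← sub_eq_zero]
  apply AzCH.eq_zero_of_forall_away
  intro p _
  obtain ⟨f, hf, u, hu⟩ := Groth.Agent.H7.LG.exists_away_inner θ p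
  refine ⟨f, hf, ?_⟩
  let e := (matrixEquivTensor (Fin n) S (Localization.Away f)).symm
  have he : ∀ x : Matrix (Fin n) (Fin n) S,
      e (1 ⊗ₜ x) = x.map (algebraMap S (Localization.Away f)) := by
    intro x
    simp [e, matrixEquivTensor_apply_symm]
  let U : Matrix (Fin n) (Fin n) (Localization.Away f) := e (u : _)
  let U' : Matrix (Fin n) (Fin n) (Localization.Away f) := e ((u⁻¹ : _ˣ) : _)
  have hUU' : U * U' = 1 := by
    rw [← map_mul, Units.mul_inv, map_one]
  have hdet : U.det * U'.det = 1 := by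
    rw [← Matrix.det_mul, hUU', Matrix.det_one]
  let θ' : Matrix (Fin n) (Fin n) (Localization.Away f) →ₗ[Localization.Away f]
      Matrix (Fin n) (Fin n) (Localization.Away f) :=
    (LinearMap.mulLeft _ U).comp (LinearMap.mulRight _ U')
  have hθ' : ∀ i j, θ' (Matrix.single i j 1) = U * Matrix.single i j 1 * U' := by
    intro i j
    simp [θ', mul_assoc]
  have hcompat : ∀ i j, θ' (Matrix.single i j 1) =
      (θ.toLinearMap (Matrix.single i j 1)).map (algebraMap S (Localization.Away f)) := by
    intro i j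
    rw [hθ', ← he]
    have h1 := hu (1 ⊗ₜ (Matrix.single i j 1))
    rw [Algebra.TensorProduct.map_tmul, AlgHom.id_apply] at h1
    have h2 : ((θ : Matrix (Fin n) (Fin n) S →ₐ[S] Matrix (Fin n) (Fin n) S)
        (Matrix.single i j 1)) = θ.toLinearMap (Matrix.single i j 1) := rfl
    rw [h2] at h1
    rw [h1, map_mul, map_mul, he]
    congr 2
    ext c d
    simp [Matrix.single_apply]
  have key := Theta_map (algebraMap S (Localization.Away f)) θ.toLinearMap θ' hcompat (epsMat S n)
  rw [epsMat_map, Theta_epsMat_of_conj θ' U U' hdet hθ'] at key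
  rw [map_sub, sub_eq_zero]
  have h3 := congrFun (congrFun key a) b
  rw [Matrix.map_apply] at h3
  rw [h3, ← epsMat_map (algebraMap S (Localization.Away f)), Matrix.map_apply]

end Groth.Agent.H7.TP
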