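import Mathlib
import Groth.Agent.Lib.Helper7.Azu9

/-! Tensor powers of Azumaya algebras are Azumaya, with the expected rank. -/

set_option autoImplicit false
open scoped TensorProduct

namespace Groth.Agent.H7.TP

universe u v

section MapMul

variable {R : Type*} [CommRing R] {ι : Type*} {A : ι → Type*} [∀ i, Ring (A i)]
  [∀ i, Algebra R (A i)] {C : Type*} [Ring C] [Algebra R C]

/-- a linear map out of a tensor product of algebras which is multiplicative on pure tensors is
multiplicative. -/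
theorem map_mul_of_tprod (f : (⨂[R] i, A i) →ₗ[R] C)
    (h : ∀ x y : Π i, A i, f (PiTensorProduct.tprod R (x * y)) =
      f (PiTensorProduct.tprod R x) * f (PiTensorProduct.tprod R y)) :
    ∀ x y, f (x * y) = f x * f y := by
  intro x y
  induction x using PiTensorProduct.induction_on with
  | smul_tprod r x =>
    induction y using PiTensorProduct.induction_on with
    | smul_tprod s y =>
      rw [PiTensorProduct.smul_tprod_mul_smul_tprod, map_smul, map_smul, map_smul, h,
        smul_mul_smul_comm]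
    | add y₁ y₂ h₁ h₂ => rw [mul_add, map_add, map_add, mul_add, h₁, h₂]
  | add x₁ x₂ h₁ h₂ => rw [add_mul, map_add, map_add, add_mul, h₁, h₂]

end MapMul

section Succ

variable (R : Type u) [CommRing R] (A : Type v) [Ring A] [Algebra R A]

/-- `A^{⊗(k+1)} ≃ A^{⊗k} ⊗ A` -/
noncomputable def succEquiv (k : ℕ) :
    (⨂[R] _ : Fin (k + 1), A) ≃ₗ[R] (⨂[R] _ : Fin k, A) ⊗[R] A :=
  (PiTensorProduct.reindex R (fun _ : Fin (k + 1) => A) finSumFinEquiv.symm) ≪≫ₗ
    (PiTensorProduct.tmulEquiv R A).symm ≪≫ₗ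
    TensorProduct.congr (LinearEquiv.refl R _) (PiTensorProduct.subsingletonEquiv (0 : Fin 1))

theorem succEquiv_tprod (k : ℕ) (x : Fin (k + 1) → A) :
    succEquiv R A k (PiTensorProduct.tprod R x) =
      PiTensorProduct.tprod R (fun i : Fin k => x (Fin.castSucc i)) ⊗ₜ[R] x (Fin.last k) := by
  simp only [succEquiv, LinearEquiv.trans_apply, PiTensorProduct.reindex_tprod]
  erw [PiTensorProduct.tmulEquiv_symm_apply]
  rw [TensorProduct.congr_tmul, LinearEquiv.refl_apply, PiTensorProduct.subsingletonEquiv_apply_tprod]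
  simp
  rfl

/-- `A^{⊗(k+1)} ≃ A^{⊗k} ⊗ A` as algebras -/
noncomputable def succAlgEquiv (k : ℕ) :
    (⨂[R] _ : Fin (k + 1), A) ≃ₐ[R] (⨂[R] _ : Fin k, A) ⊗[R] A :=
  AlgEquiv.ofLinearEquiv (succEquiv R A k)
    (by
      rw [PiTensorProduct.one_def, succEquiv_tprod]
      rfl)
    (by
      apply map_mul_of_tprod (succEquiv R A k).toLinearMap
      intro x y
      simp only [LinearEquiv.coe_coe, succEquiv_tprod, Algebra.TensorProduct.tmul_mul_tmul,
        PiTensorProduct.tprod_mul_tprod]
      rfl)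

theorem ofId_bijective_zero :
    Function.Bijective (Algebra.ofId R (⨂[R] _ : Fin 0, A)) := by
  have h : ∀ r : R, Algebra.ofId R (⨂[R] _ : Fin 0, A) r =
      (PiTensorProduct.isEmptyEquiv (R := R) (s := fun _ : Fin 0 => A) (Fin 0)).symm r := by
    intro r
    rw [Algebra.ofId_apply, Algebra.algebraMap_eq_smul_one, PiTensorProduct.one_def]
    have h2 : (PiTensorProduct.isEmptyEquiv (R := R) (s := fun _ : Fin 0 => A) (Fin 0)).symm r =
        r • PiTensorProduct.tprod R (fun i : Fin 0 => (isEmptyElim i : A)) := rfl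
    rw [h2]
    congr 2
    funext i
    exact i.elim0
  have : (Algebra.ofId R (⨂[R] _ : Fin 0, A) : R → _) =
      (PiTensorProduct.isEmptyEquiv (R := R) (s := fun _ : Fin 0 => A) (Fin 0)).symm := funext h
  rw [this]
  exact LinearEquiv.bijective _

theorem isAzumaya_tpow [IsAzumaya R A] (k : ℕ) :
    IsAzumaya R (⨂[R] _ : Fin k, A) ∧ ∀ p : PrimeSpectrum R,
      Module.rankAtStalk (R := R) (⨂[R] _ : Fin k, A) p = (Module.rankAtStalk (R := R) A p) ^ k := by
  induction k with
  | zero =>
    refine ⟨IsAzumaya.of_AlgEquiv R _ _ (AlgEquiv.ofBijective _ (ofId_bijective_zero R A)), ?_⟩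
    intro p
    haveI : Nontrivial R := p.nontrivial
    rw [Module.rankAtStalk_eq_of_equiv
      (PiTensorProduct.isEmptyEquiv (R := R) (s := fun _ : Fin 0 => A) (Fin 0)), pow_zero]
    simp
  | succ k ih =>
    obtain ⟨h1, h2⟩ := ih
    haveI := h1
    haveI : IsAzumaya R ((⨂[R] _ : Fin k, A) ⊗[R] A) := Azu.isAzumaya_tensor R _ _
    refine ⟨IsAzumaya.of_AlgEquiv R _ _ (succAlgEquiv R A k).symm, ?_⟩
    intro p
    rw [Module.rankAtStalk_eq_of_equiv (succEquiv R A k), Module.rankAtStalk_tensorProduct,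
      Pi.mul_apply, h2, pow_succ]

end Succ

end Groth.Agent.H7.TP
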