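import Mathlib
import Groth.Agent.Lib.Helper7.TP2
import Groth.Agent.Lib.Helper7.TP3
import Groth.Agent.Lib.Helper7.Spread1
import Groth.Agent.Lib.Helper7.Azu3

/-! The comparison map `S ⊗ A^{⊗n} → M_I(S)` attached to a splitting `S ⊗ A ≅ M_n(S)`. -/

set_option autoImplicit false
open scoped TensorProduct

namespace Groth.Agent.H7.TP

universe u v w w'

section Xi

variable {R : Type u} [CommRing R] {A : Type v} [Ring A] [Algebra R A] {n : ℕ}
  {S : Type w} [CommRing S] [Algebra R S]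

/-- the multilinear map `(a_k) ↦ kron (φ (1 ⊗ a_k))` -/
noncomputable def xiMulti (φ : S ⊗[R] A →ₐ[S] Matrix (Fin n) (Fin n) S) :
    MultilinearMap R (fun _ : Fin n => A) (Matrix (Idx n) (Idx n) S) :=
  ((kronMulti S n).restrictScalars R).compLinearMap
    (fun _ => (φ.toLinearMap.restrictScalars R).comp (TensorProduct.mk R S A 1))

theorem xiMulti_apply (φ : S ⊗[R] A →ₐ[S] Matrix (Fin n) (Fin n) S) (a : Fin n → A) :
    xiMulti φ a = kron (fun k => φ (1 ⊗ₜ a k)) := by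
  simp [xiMulti]

/-- `A^{⊗n} → M_I(S)` -/
noncomputable def xi₀ (φ : S ⊗[R] A →ₐ[S] Matrix (Fin n) (Fin n) S) :
    (⨂[R] _ : Fin n, A) →ₐ[R] Matrix (Idx n) (Idx n) S :=
  PiTensorProduct.liftAlgHom (xiMulti φ)
    (by
      rw [xiMulti_apply]
      simp only [Pi.one_apply, ← Algebra.TensorProduct.one_def, map_one]
      exact kron_one)
    (by
      intro x y
      simp only [xiMulti_apply, Pi.mul_apply]
      rw [← kron_mul]
      congr 1
      funext k
      rw [← map_mul, Algebra.TensorProduct.tmul_mul_tmul, one_mul])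

theorem xi₀_tprod (φ : S ⊗[R] A →ₐ[S] Matrix (Fin n) (Fin n) S) (a : Fin n → A) :
    xi₀ φ (PiTensorProduct.tprod R a) = kron (fun k => φ (1 ⊗ₜ a k)) := by
  rw [xi₀, PiTensorProduct.liftAlgHom_apply, PiTensorProduct.lift.tprod, xiMulti_apply]

/-- `S ⊗ A^{⊗n} → M_I(S)` -/
noncomputable def xi (φ : S ⊗[R] A →ₐ[S] Matrix (Fin n) (Fin n) S) :
    S ⊗[R] (⨂[R] _ : Fin n, A) →ₐ[S] Matrix (Idx n) (Idx n) S :=
  Algebra.TensorProduct.lift (Algebra.ofId S _) (xi₀ φ) (fun s b => Algebra.commutes s _)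

theorem xi_tmul (φ : S ⊗[R] A →ₐ[S] Matrix (Fin n) (Fin n) S) (s : S)
    (b : ⨂[R] _ : Fin n, A) : xi φ (s ⊗ₜ b) = s • xi₀ φ b := by
  rw [xi, Algebra.TensorProduct.lift_tmul, Algebra.ofId_apply, Algebra.algebraMap_eq_smul_one,
    smul_mul_assoc, one_mul]

theorem xi_tmul_tprod (φ : S ⊗[R] A →ₐ[S] Matrix (Fin n) (Fin n) S) (s : S) (a : Fin n → A) :
    xi φ (s ⊗ₜ PiTensorProduct.tprod R a) = s • kron (fun k => φ (1 ⊗ₜ a k)) := by
  rw [xi_tmul, xi₀_tprod]

/-- induction principle for `S ⊗ A^{⊗n}` -/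
theorem induction_tmul_tprod {motive : S ⊗[R] (⨂[R] _ : Fin n, A) → Prop}
    (h0 : motive 0) (hadd : ∀ x y, motive x → motive y → motive (x + y))
    (h : ∀ (s : S) (a : Fin n → A), motive (s ⊗ₜ PiTensorProduct.tprod R a))
    (y : S ⊗[R] (⨂[R] _ : Fin n, A)) : motive y := by
  induction y using TensorProduct.induction_on with
  | zero => exact h0
  | add x y hx hy => exact hadd x y hx hy
  | tmul s b =>
    induction b using PiTensorProduct.induction_on with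
    | smul_tprod r a =>
      rw [TensorProduct.tmul_smul, TensorProduct.smul_tmul']
      exact h _ a
    | add b₁ b₂ h₁ h₂ =>
      rw [TensorProduct.tmul_add]
      exact hadd _ _ h₁ h₂

theorem xi_comp (φ : S ⊗[R] A →ₐ[S] Matrix (Fin n) (Fin n) S)
    (θ : Matrix (Fin n) (Fin n) S →ₐ[S] Matrix (Fin n) (Fin n) S)
    (y : S ⊗[R] (⨂[R] _ : Fin n, A)) :
    xi (θ.comp φ) y = Theta θ.toLinearMap (xi φ y) := by
  induction y using induction_tmul_tprod with
  | h0 => simp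
  | hadd x y hx hy => rw [map_add, map_add, map_add, hx, hy]
  | h s a =>
    rw [xi_tmul_tprod, xi_tmul_tprod, map_smul, Theta_kron]
    rfl

/-- the comparison maps for two splittings over the same ring agree on the antisymmetrizer -/
theorem xi_eq_epsMat_of_xi_eq_epsMat (φ₁ φ₂ : (S ⊗[R] A) ≃ₐ[S] Matrix (Fin n) (Fin n) S)
    (y : S ⊗[R] (⨂[R] _ : Fin n, A))
    (h : xi (φ₁ : S ⊗[R] A →ₐ[S] Matrix (Fin n) (Fin n) S) y = epsMat S n) :
    xi (φ₂ : S ⊗[R] A →ₐ[S] Matrix (Fin n) (Fin n) S) y = epsMat S n := by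
  have h1 : (φ₂ : S ⊗[R] A →ₐ[S] Matrix (Fin n) (Fin n) S) =
      ((φ₁.symm.trans φ₂ : Matrix (Fin n) (Fin n) S ≃ₐ[S] Matrix (Fin n) (Fin n) S) :
        Matrix (Fin n) (Fin n) S →ₐ[S] Matrix (Fin n) (Fin n) S).comp
        (φ₁ : S ⊗[R] A →ₐ[S] Matrix (Fin n) (Fin n) S) := by
    ext x
    simp
  rw [h1, xi_comp, h]
  exact Theta_epsMat (φ₁.symm.trans φ₂)

variable {S' : Type w'} [CommRing S'] [Algebra R S']

/-- naturality of `xi` under base change -/
theorem xi_bc (φ : (S ⊗[R] A) ≃ₐ[S] Matrix (Fin n) (Fin n) S) (f : S →ₐ[R] S')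
    (y : S ⊗[R] (⨂[R] _ : Fin n, A)) :
    xi ((AzCH.bc φ f : (S' ⊗[R] A) ≃ₐ[S'] Matrix (Fin n) (Fin n) S') :
        S' ⊗[R] A →ₐ[S'] Matrix (Fin n) (Fin n) S')
      (f.toLinearMap.rTensor (⨂[R] _ : Fin n, A) y) =
      (xi (φ : S ⊗[R] A →ₐ[S] Matrix (Fin n) (Fin n) S) y).map f := by
  induction y using induction_tmul_tprod with
  | h0 =>
    rw [map_zero, map_zero, map_zero]
    ext a b
    simp
  | hadd x y hx hy =>
    rw [map_add, map_add, map_add, hx, hy]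
    ext a b
    simp
  | h s a =>
    rw [LinearMap.rTensor_tmul, xi_tmul_tprod, xi_tmul_tprod]
    have h1 : ∀ k, (AzCH.bc φ f : S' ⊗[R] A →ₐ[S'] Matrix (Fin n) (Fin n) S') (1 ⊗ₜ a k) =
        (φ (1 ⊗ₜ a k)).map f := fun k => AzCH.bc_one_tmul φ f (a k)
    simp only [h1]
    have h2 : (kron fun k => φ (1 ⊗ₜ a k)).map f = kron fun k => (φ (1 ⊗ₜ a k)).map f :=
      kron_map (f : S →+* S') (fun k => φ (1 ⊗ₜ a k))
    rw [← h2]
    ext c d
    simp

end Xi

section Bij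

variable (R : Type u) [CommRing R] (A : Type u) [Ring A] [Algebra R A] [IsAzumaya R A] (n : ℕ)
  (hrk : ∀ p : PrimeSpectrum R, Module.rankAtStalk (R := R) A p = n ^ 2)
  (S : Type u) [CommRing S] [Algebra R S]

include hrk in
theorem xi_bijective (φ : (S ⊗[R] A) ≃ₐ[S] Matrix (Fin n) (Fin n) S) :
    Function.Bijective (xi (φ : S ⊗[R] A →ₐ[S] Matrix (Fin n) (Fin n) S)) := by
  haveI : IsAzumaya R (⨂[R] _ : Fin n, A) := (isAzumaya_tpow R A n).1
  haveI : IsAzumaya S (S ⊗[R] (⨂[R] _ : Fin n, A)) := Azu.isAzumaya_baseChange R S _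
  haveI : Nonempty (Idx n) := ⟨id⟩
  haveI : IsAzumaya S (Matrix (Idx n) (Idx n) S) := IsAzumaya.matrix S (Idx n)
  apply Spread.algHom_bijective_of_rankAtStalk
  intro q
  haveI : Nontrivial S := q.nontrivial
  rw [Module.rankAtStalk_baseChange, (isAzumaya_tpow R A n).2, hrk,
    Module.rankAtStalk_eq_finrank_of_free]
  simp [Module.finrank_matrix, pow_two]
  exact mul_pow n n n

end Bij

end Groth.Agent.H7.TP
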