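import Mathlib
import Groth.Agent.Lib.Helper7.Azu8
import Groth.Agent.Lib.Helper7.Azu6

/-! General lemmas for the tensor-power theorem: descent of finite projectivity and rank,
rank of the endomorphism algebra, left ideals `B s` as modules. -/

set_option autoImplicit false
open scoped TensorProduct

namespace Groth.Agent.H7.TP

universe u v w

section DescFree

variable (R : Type u) [CommRing R] (S : Type v) [CommRing S] [Algebra R S]
  [Module.FaithfullyFlat R S] (P : Type w) [AddCommGroup P] [Module R P]
  (I : Type*) [Fintype I] [Nonempty I] (e : (S ⊗[R] P) ≃ₗ[S] (I → S))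

include e in
theorem finite_projective_of_baseChange_free :
    Module.Finite R P ∧ Module.Projective R P ∧ FaithfulSMul R P ∧
      ∀ p : PrimeSpectrum R, Module.rankAtStalk (R := R) P p = Fintype.card I := by
  haveI : Module.Finite S (S ⊗[R] P) := Module.Finite.equiv e.symm
  haveI : Module.Free S (S ⊗[R] P) := Module.Free.of_equiv e.symm
  haveI : Module.FinitePresentation S (S ⊗[R] P) := Module.finitePresentation_of_projective _ _
  haveI hfin : Module.Finite R P := Module.Finite.of_finite_tensorProduct_of_faithfullyFlat S
  haveI hfp : Module.FinitePresentation R P := Azu.finitePresentation_of_faithfullyFlat R S P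
  haveI hflat : Module.Flat R P := Module.Flat.of_flat_tensorProduct R P S
  have hproj : Module.Projective R P := Module.Flat.projective_of_finitePresentation
  refine ⟨hfin, hproj, ?_, ?_⟩
  · constructor
    intro r₁ r₂ h
    apply FaithfulSMul.algebraMap_injective R S
    have key : ∀ w : I → S, algebraMap R S r₁ • w = algebraMap R S r₂ • w := by
      intro w
      obtain ⟨x, rfl⟩ := e.surjective w
      rw [← map_smul, ← map_smul]
      congr 1
      induction x using TensorProduct.induction_on with
      | zero => rw [smul_zero, smul_zero]
      | tmul s b =>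
        rw [TensorProduct.smul_tmul', TensorProduct.smul_tmul', smul_eq_mul, smul_eq_mul,
          ← Algebra.smul_def, ← Algebra.smul_def, TensorProduct.smul_tmul, TensorProduct.smul_tmul,
          h b]
      | add x y hx hy => rw [smul_add, smul_add, hx, hy]
    obtain ⟨i₀⟩ := ‹Nonempty I›
    have := congrFun (key (fun _ => 1)) i₀
    simpa using this
  · intro p
    obtain ⟨q, rfl⟩ := PrimeSpectrum.comap_surjective_of_faithfullyFlat (A := R) (B := S) p
    haveI : Nontrivial S := q.nontrivial
    rw [← Module.rankAtStalk_baseChange (R := R) (M := P) (S := S) q,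
      Module.rankAtStalk_eq_of_equiv e, Module.rankAtStalk_eq_finrank_of_free]
    simp

end DescFree

section EndRank

variable (R : Type u) [CommRing R] (P : Type v) [AddCommGroup P] [Module R P]
  [Module.Finite R P] [Module.Projective R P]

theorem rankAtStalk_end (p : PrimeSpectrum R) :
    Module.rankAtStalk (R := R) (Module.End R P) p = (Module.rankAtStalk (R := R) P p) ^ 2 := by
  haveI : Module.Free (Localization.AtPrime p.asIdeal) (Localization.AtPrime p.asIdeal ⊗[R] P) :=
    Module.free_of_flat_of_isLocalRing
  rw [Module.rankAtStalk_eq_finrank_tensorProduct, Module.rankAtStalk_eq_finrank_tensorProduct,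
    (Azu.endBCAlgEquiv R (Localization.AtPrime p.asIdeal) P).toLinearEquiv.finrank_eq,
    Module.finrank_linearMap, pow_two]

end EndRank

section LeftIdeal

variable (R : Type u) [CommRing R] (B : Type v) [Ring B] [Algebra R B] (s : B)

/-- the left ideal `B s` as an `R`-submodule -/
noncomputable def leftIdeal : Submodule R B := LinearMap.range (LinearMap.mulRight R s)

theorem mul_mem_leftIdeal (b : B) {x : B} (hx : x ∈ leftIdeal R B s) : b * x ∈ leftIdeal R B s := by
  obtain ⟨y, rfl⟩ := hx
  exact ⟨b * y, by simp [mul_assoc]⟩

/-- left multiplication on the left ideal `B s` -/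
noncomputable def leftMulHom : B →ₐ[R] Module.End R (leftIdeal R B s) where
  toFun b := (LinearMap.mulLeft R b).restrict (fun _ hx => mul_mem_leftIdeal R B s b hx)
  map_one' := by
    ext x
    simp
  map_mul' a b := by
    ext x
    simp [mul_assoc]
  map_zero' := by
    ext x
    simp
  map_add' a b := by
    ext x
    simp [add_mul]
  commutes' r := by
    ext x
    simp [Algebra.smul_def]

end LeftIdeal

end Groth.Agent.H7.TP
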