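import Mathlib
import Groth.Agent.Lib.Helper7.TP6

/-! The base change of the left ideal `B s` when `s` becomes a rank-one matrix `ε εᵀ`. -/

set_option autoImplicit false
open scoped TensorProduct

namespace Groth.Agent.H7.TP

universe u v w

section BC

variable (R : Type u) [CommRing R] (B : Type v) [Ring B] [Algebra R B]
  (S : Type w) [CommRing S] [Algebra R S] [Module.Flat R S]
  (I : Type*) [Fintype I] [DecidableEq I] (Ξ : (S ⊗[R] B) ≃ₐ[S] Matrix I I S) (s : B)
  (ε : I → S) (i₀ : I) (hε : ε i₀ = 1) (hs : Ξ (1 ⊗ₜ s) = Matrix.vecMulVec ε ε)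

include hε hs in
theorem nonempty_baseChange_leftIdeal_equiv :
    Nonempty ((S ⊗[R] leftIdeal R B s) ≃ₗ[S] (I → S)) := by
  let P := leftIdeal R B s
  let g : S ⊗[R] P →ₗ[S] Matrix I I S := Ξ.toLinearMap ∘ₗ (P.subtype.baseChange S)
  have hg : Function.Injective g :=
    Ξ.injective.comp
      (Module.Flat.lTensor_preserves_injective_linearMap P.subtype (Submodule.injective_subtype _))
  let c : (I → S) →ₗ[S] Matrix I I S :=
    { toFun := fun w => Matrix.vecMulVec w ε
      map_add' := fun w w' => Matrix.add_vecMulVec w w' ε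
      map_smul' := fun t w => Matrix.smul_vecMulVec t w ε }
  have hc : Function.Injective c := by
    intro w w' h
    funext a
    have := congrFun (congrFun h a) i₀
    simpa [c, Matrix.vecMulVec_apply, hε] using this
  let ρ' : S ⊗[R] B →ₗ[S] S ⊗[R] P := ((LinearMap.mulRight R s).rangeRestrict).baseChange S
  have hρ' : Function.Surjective ρ' :=
    LinearMap.lTensor_surjective S (LinearMap.surjective_rangeRestrict _)
  have key : ∀ y : S ⊗[R] B, g (ρ' y) = Ξ y * Matrix.vecMulVec ε ε := by
    intro y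
    rw [← hs, ← map_mul]
    simp only [g, LinearMap.comp_apply, AlgEquiv.toLinearMap_apply]
    congr 1
    induction y using TensorProduct.induction_on with
    | zero => simp
    | add y₁ y₂ h₁ h₂ => rw [map_add, map_add, add_mul, h₁, h₂]
    | tmul t b =>
      simp only [ρ', LinearMap.baseChange_tmul, Algebra.TensorProduct.tmul_mul_tmul, mul_one]
      rfl
  have hrange : LinearMap.range g = LinearMap.range c := by
    apply le_antisymm
    · rintro _ ⟨z, rfl⟩
      obtain ⟨y, rfl⟩ := hρ' z
      rw [key, Matrix.mul_vecMulVec]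
      exact ⟨(Ξ y).mulVec ε, rfl⟩
    · rintro _ ⟨w, rfl⟩
      refine ⟨ρ' (Ξ.symm (Matrix.vecMulVec w (Pi.single i₀ 1))), ?_⟩
      rw [key, AlgEquiv.apply_symm_apply, Matrix.vecMulVec_mul_vecMulVec]
      simp [c, hε]
  exact ⟨(LinearEquiv.ofInjective g hg).trans
    ((LinearEquiv.ofEq _ _ hrange).trans (LinearEquiv.ofInjective c hc).symm)⟩

end BC

end Groth.Agent.H7.TP
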