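import Mathlib
import Groth.Agent.Lib.Helper7.TP4
import Groth.Agent.Lib.Helper7.TP5
import Groth.Agent.Lib.Helper7.TP7

/-! The `n`-th tensor power of an Azumaya algebra of rank `n²` is an endomorphism algebra. -/

set_option autoImplicit false
open scoped TensorProduct

namespace Groth.Agent.H7.TP

universe u

section Main

variable (R : Type u) [CommRing R] (A : Type u) [Ring A] [Algebra R A] [IsAzumaya R A] (n : ℕ)
  (hrk : ∀ p : PrimeSpectrum R, Module.rankAtStalk (R := R) A p = n ^ 2)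

include hrk in
/-- the antisymmetrizer descends to the tensor power -/
theorem exists_antisymmetrizer (S : Type u) [CommRing S] [Algebra R S] [Module.FaithfullyFlat R S]
    (φ : (S ⊗[R] A) ≃ₐ[S] Matrix (Fin n) (Fin n) S) :
    ∃ s : ⨂[R] _ : Fin n, A,
      xi (φ : S ⊗[R] A →ₐ[S] Matrix (Fin n) (Fin n) S) (1 ⊗ₜ s) = epsMat S n := by
  obtain ⟨x, hx⟩ := (xi_bijective R A n hrk S φ).2 (epsMat S n)
  let f₁ : S →ₐ[R] S ⊗[R] S := Algebra.TensorProduct.includeLeft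
  let f₂ : S →ₐ[R] S ⊗[R] S := Algebra.TensorProduct.includeRight
  have h1 := xi_bc φ f₁ x
  have h2 := xi_bc φ f₂ x
  rw [hx] at h1 h2
  have e1 : (epsMat S n).map f₁ = epsMat (S ⊗[R] S) n := epsMat_map (f₁ : S →+* S ⊗[R] S)
  have e2 : (epsMat S n).map f₂ = epsMat (S ⊗[R] S) n := epsMat_map (f₂ : S →+* S ⊗[R] S)
  rw [e1] at h1
  rw [e2] at h2
  have h3 := xi_eq_epsMat_of_xi_eq_epsMat (AzCH.bc φ f₁) (AzCH.bc φ f₂) _ h1
  have h4 : f₁.toLinearMap.rTensor (⨂[R] _ : Fin n, A) x =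
      f₂.toLinearMap.rTensor (⨂[R] _ : Fin n, A) x :=
    (xi_bijective R A n hrk (S ⊗[R] S) (AzCH.bc φ f₂)).1 (h3.trans h2.symm)
  haveI : IsAzumaya R (⨂[R] _ : Fin n, A) := (isAzumaya_tpow R A n).1
  obtain ⟨s, hs⟩ := exists_of_rTensor_eq R S (⨂[R] _ : Fin n, A) x h4
  exact ⟨s, hs ▸ hx⟩

include hrk in
theorem main_pos (hn : 0 < n) :
    ∃ (E : Type u) (_ : AddCommGroup E) (_ : Module R E), Module.Finite R E ∧
      Module.Projective R E ∧
      (∀ p : PrimeSpectrum R, Module.rankAtStalk (R := R) E p = n ^ n) ∧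
      Nonempty ((⨂[R] _ : Fin n, A) ≃ₐ[R] Module.End R E) := by
  classical
  obtain ⟨S, _, _, hff, ⟨φ⟩⟩ := exists_global_splitting R A n hrk hn
  obtain ⟨s, hs⟩ := exists_antisymmetrizer R A n hrk S φ
  let Ξ : (S ⊗[R] (⨂[R] _ : Fin n, A)) ≃ₐ[S] Matrix (Idx n) (Idx n) S :=
    AlgEquiv.ofBijective (xi (φ : S ⊗[R] A →ₐ[S] Matrix (Fin n) (Fin n) S))
      (xi_bijective R A n hrk S φ)
  have hΞ : Ξ (1 ⊗ₜ s) = Matrix.vecMulVec (eps S n) (eps S n) := hs
  obtain ⟨e⟩ := nonempty_baseChange_leftIdeal_equiv R (⨂[R] _ : Fin n, A) S (Idx n) Ξ s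
    (eps S n) id eps_id hΞ
  haveI : Nonempty (Idx n) := ⟨id⟩
  obtain ⟨hfin, hproj, hfaith, hrank⟩ :=
    finite_projective_of_baseChange_free R S (leftIdeal R (⨂[R] _ : Fin n, A) s) (Idx n) e
  have hcard : Fintype.card (Idx n) = n ^ n := by simp [Idx]
  refine ⟨leftIdeal R (⨂[R] _ : Fin n, A) s, inferInstance, inferInstance, hfin, hproj, ?_, ?_⟩
  · intro p
    rw [hrank p, hcard]
  · haveI : IsAzumaya R (⨂[R] _ : Fin n, A) := (isAzumaya_tpow R A n).1
    haveI : IsAzumaya R (Module.End R (leftIdeal R (⨂[R] _ : Fin n, A) s)) :=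
      Azu.isAzumaya_end R _
    refine ⟨AlgEquiv.ofBijective (leftMulHom R (⨂[R] _ : Fin n, A) s) ?_⟩
    apply Spread.algHom_bijective_of_rankAtStalk
    intro p
    rw [(isAzumaya_tpow R A n).2, hrk, rankAtStalk_end, hrank, hcard, ← pow_mul, ← pow_mul,
      mul_comm]

end Main

end Groth.Agent.H7.TP
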