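import Mathlib
import Groth.Agent.Lib.Lead.SC.FunSES

set_option autoImplicit false

universe v v' u u'

open CategoryTheory CategoryTheory.Limits

namespace Groth.Agent.H7.TR

open Groth.Agent.LD.SC.FunSES

variable {C : Type u} [Category.{v} C] [Abelian C] [HasInjectiveResolutions C]
  {D : Type u'} [Category.{v'} D] [Abelian D]
  {G₁ G₂ G₃ : C ⥤ D} [G₁.Additive] [G₂.Additive] [G₃.Additive]
  (α : G₁ ⟶ G₂) (β : G₂ ⟶ G₃) (w : α ≫ β = 0)
  (hαβ : ∀ (I : C), Injective I →
    (ShortComplex.mk (α.app I) (β.app I) (app_comp_app α β w I)).ShortExact)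

include hαβ in
/-- for a short exact sequence of functors (exact on injectives), `RⁿG₂ X ≅ RⁿG₃ X` as soon as
`RⁿG₁ X` and `Rⁿ⁺¹G₁ X` vanish -/
theorem nonempty_iso_of_isZero (X : C) (n : ℕ) (h1 : IsZero ((G₁.rightDerived n).obj X))
    (h2 : IsZero ((G₁.rightDerived (n + 1)).obj X)) :
    Nonempty ((G₂.rightDerived n).obj X ≅ (G₃.rightDerived n).obj X) := by
  let I := injectiveResolution X
  have hS := shortExact_res α β w hαβ I
  have z1 : IsZero ((sc α β w I.cocomplex).X₁.homology n) :=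
    IsZero.of_iso h1 (I.isoRightDerivedObj G₁ n).symm
  have z2 : IsZero ((sc α β w I.cocomplex).X₁.homology (n + 1)) :=
    IsZero.of_iso h2 (I.isoRightDerivedObj G₁ (n + 1)).symm
  have e2 := hS.homology_exact₂ n
  have e3 := hS.homology_exact₃ n (n + 1) rfl
  haveI : Mono (HomologicalComplex.homologyMap (sc α β w I.cocomplex).g n) :=
    e2.mono_g (z1.eq_of_src _ _)
  haveI : Epi (HomologicalComplex.homologyMap (sc α β w I.cocomplex).g n) :=
    e3.epi_f (z2.eq_of_tgt _ _)
  have hiso : IsIso (HomologicalComplex.homologyMap (sc α β w I.cocomplex).g n) :=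
    isIso_of_mono_of_epi _
  exact ⟨I.isoRightDerivedObj G₂ n ≪≫
    @asIso _ _ _ _ (HomologicalComplex.homologyMap (sc α β w I.cocomplex).g n) hiso ≪≫
    (I.isoRightDerivedObj G₃ n).symm⟩

end Groth.Agent.H7.TR
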