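import Mathlib
import Groth.Prelude.Def_EtDual
import Groth.Agent.Lib.Helper7.SP1
import Groth.Agent.Lib.Helper7.SP2
import Groth.Agent.Lib.Helper7.SplitCx3

set_option autoImplicit false

universe u

open CategoryTheory CategoryTheory.Limits Opposite AlgebraicGeometry

namespace Groth.Agent.H7.TR

open Groth.Agent.H7.ES Groth.Agent.H7.XC Groth.Agent.H7.SP EtShriek

attribute [local instance] jCont_of_etale

section Triple

variable {X X' U : Scheme.{u}} (j : U ⟶ X) [IsOpenImmersion j] (k' : X' ⟶ X) [IsOpenImmersion k']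
  (j' : U ⟶ X') [IsOpenImmersion j'] (hfac : j' ≫ k' = j)

include hfac in
/-- `V ×_X U ⟶ V ×_X X'` over `V` -/
noncomputable def tauMap (V : X.Etale) :
    (compEtale j).obj ((EtCoh.bc j).obj V) ⟶ (compEtale k').obj ((EtCoh.bc k').obj V) :=
  MorphismProperty.Over.homMk
    (pullback.lift (pullback.fst V.hom j) (pullback.snd V.hom j ≫ j') (by
      rw [Category.assoc, hfac]
      exact pullback.condition) : pullback V.hom j ⟶ pullback V.hom k') (by
    change pullback.lift (pullback.fst V.hom j) (pullback.snd V.hom j ≫ j') _ ≫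
      (pullback.snd V.hom k' ≫ k') = pullback.snd V.hom j ≫ j
    rw [← Category.assoc, pullback.lift_snd, Category.assoc, hfac])

lemma tauMap_counit (V : X.Etale) :
    tauMap j k' j' hfac V ≫ (compBcAdj k').counit.app V = (compBcAdj j).counit.app V := by
  apply MorphismProperty.Over.Hom.ext
  change pullback.lift (pullback.fst V.hom j) (pullback.snd V.hom j ≫ j') _ ≫
    ((compBcAdj k').counit.app V).left = ((compBcAdj j).counit.app V).left
  rw [counit_left, counit_left, pullback.lift_fst]

include hfac in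
lemma unitApp_zero_of_zero (G : EtCoh.Ab X) (V : X.Etale) (s : G.obj.obj (op V))
    (h : (EtDual.unitApp k' G).hom.app (op V) s = 0) :
    (EtDual.unitApp j G).hom.app (op V) s = 0 := by
  rw [unitApp_eq_zero_iff] at h ⊢
  rw [← tauMap_counit j k' j' hfac V, op_comp, Functor.map_comp]
  change G.obj.map (tauMap j k' j' hfac V).op (G.obj.map ((compBcAdj k').counit.app V).op s) = 0
  rw [h]
  exact map_zero _

include hfac in
/-- the inclusion `Γ_Z ⊆ Γ_Y` of subsheaves -/
noncomputable def alphaSh : EtDual.secSupp k' ⟶ EtDual.secSupp j where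
  app G := kernel.lift (EtDual.unitApp j G) (kernel.ι (EtDual.unitApp k' G))
    (kernel_ι_comp_eq_zero _ _ (fun V s h => unitApp_zero_of_zero j k' j' hfac G V s h))
  naturality {G G'} φ := by
    rw [← cancel_mono (kernel.ι (EtDual.unitApp j G'))]
    have h1 : (EtDual.secSupp j).map φ ≫ kernel.ι (EtDual.unitApp j G') =
        kernel.ι (EtDual.unitApp j G) ≫ φ := kernel.lift_ι _ _ _
    have h2 : (EtDual.secSupp k').map φ ≫ kernel.ι (EtDual.unitApp k' G') =
        kernel.ι (EtDual.unitApp k' G) ≫ φ := kernel.lift_ι _ _ _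
    rw [Category.assoc, kernel.lift_ι, h2, Category.assoc, h1, ← Category.assoc, kernel.lift_ι]

lemma alphaSh_ι (G : EtCoh.Ab X) :
    (alphaSh j k' j' hfac).app G ≫ kernel.ι (EtDual.unitApp j G) =
      kernel.ι (EtDual.unitApp k' G) := kernel.lift_ι _ _ _

section Exactness

lemma kernel_ι_app_injective {Y : Scheme.{u}} {A B : EtCoh.Ab Y} (a : A ⟶ B) (V : Y.Etale) :
    Function.Injective ((kernel.ι a).hom.app (op V)) := by
  haveI : Mono ((secAt V).map (kernel.ι a)) := inferInstance
  exact (AddCommGrpCat.mono_iff_injective ((secAt V).map (kernel.ι a))).1 inferInstance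

lemma alphaSh_app_injective (G : EtCoh.Ab X) (V : X.Etale) :
    Function.Injective (((alphaSh j k' j' hfac).app G).hom.app (op V)) := by
  intro x y hxy
  apply kernel_ι_app_injective (EtDual.unitApp k' G) V
  have h := alphaSh_ι j k' j' hfac G
  have hx : (kernel.ι (EtDual.unitApp k' G)).hom.app (op V) x =
      (kernel.ι (EtDual.unitApp j G)).hom.app (op V)
        (((alphaSh j k' j' hfac).app G).hom.app (op V) x) := by
    rw [← h]; rfl
  have hy : (kernel.ι (EtDual.unitApp k' G)).hom.app (op V) y =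
      (kernel.ι (EtDual.unitApp j G)).hom.app (op V)
        (((alphaSh j k' j' hfac).app G).hom.app (op V) y) := by
    rw [← h]; rfl
  rw [hx, hy, hxy]

lemma restr_eq_zero_iff_mem_range (G : EtCoh.Ab X) (V : X.Etale)
    (t : ((EtDual.secSupp j).obj G).obj.obj (op V)) :
    ((EtDual.secSupp j).obj G).obj.map ((compBcAdj k').counit.app V).op t = 0 ↔
      ∃ x, ((alphaSh j k' j' hfac).app G).hom.app (op V) x = t := by
  let c := (compBcAdj k').counit.app V
  have hnat : ∀ t' : ((EtDual.secSupp j).obj G).obj.obj (op V),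
      (kernel.ι (EtDual.unitApp j G)).hom.app _ (((EtDual.secSupp j).obj G).obj.map c.op t') =
      G.obj.map c.op ((kernel.ι (EtDual.unitApp j G)).hom.app (op V) t') := fun t' =>
    ConcreteCategory.congr_hom ((kernel.ι (EtDual.unitApp j G)).hom.naturality c.op) t'
  have h := alphaSh_ι j k' j' hfac G
  constructor
  · intro h0
    have h1 : G.obj.map c.op ((kernel.ι (EtDual.unitApp j G)).hom.app (op V) t) = 0 := by
      rw [← hnat, h0]
      exact map_zero _
    rw [← unitApp_eq_zero_iff, kernel_sections] at h1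
    obtain ⟨x, hx⟩ := h1
    refine ⟨x, ?_⟩
    apply kernel_ι_app_injective (EtDual.unitApp j G) V
    rw [← hx, ← h]
    rfl
  · rintro ⟨x, rfl⟩
    apply kernel_ι_app_injective (EtDual.unitApp j G) _
    rw [hnat]
    have h2 : (kernel.ι (EtDual.unitApp j G)).hom.app (op V)
        (((alphaSh j k' j' hfac).app G).hom.app (op V) x) =
        (kernel.ι (EtDual.unitApp k' G)).hom.app (op V) x := by
      rw [← h]; rfl
    rw [h2]
    have h3 : (EtDual.unitApp k' G).hom.app (op V)
        ((kernel.ι (EtDual.unitApp k' G)).hom.app (op V) x) = 0 :=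
      (kernel_sections _ V _).2 ⟨x, rfl⟩
    rw [unitApp_eq_zero_iff] at h3
    rw [h3]
    exact (map_zero _).symm

omit [IsOpenImmersion j] in
lemma restr_surjective_of_injective (K : EtCoh.Ab X) [Injective K] (V : X.Etale) :
    Function.Surjective (K.obj.map ((compBcAdj k').counit.app V).op) := by
  obtain ⟨s, hs⟩ := Groth.Agent.H7.SplitCx.exists_section_unit_et k' K
  have h1 : EtDual.unitApp k' K ≫ (EtCoh.push k').map ((pullIsoRestr k').hom.app K) =
      (restrPushAdj k').unit.app K :=
    Adjunction.unit_leftAdjointUniq_hom_app (EtCoh.pullPushAdj k') (restrPushAdj k') K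
  intro y
  let e := (EtCoh.push k').mapIso ((pullIsoRestr k').app K)
  let y' := e.inv.hom.app (op V) y
  refine ⟨s.hom.app (op V) y', ?_⟩
  rw [← restrPush_unit_app, ← h1]
  have h2 : (EtDual.unitApp k' K).hom.app (op V) (s.hom.app (op V) y') = y' := by
    have := congrArg (fun φ : (EtCoh.push k').obj ((EtCoh.pull k').obj K) ⟶
      (EtCoh.push k').obj ((EtCoh.pull k').obj K) => φ.hom.app (op V) y') hs
    exact this
  change e.hom.hom.app (op V) ((EtDual.unitApp k' K).hom.app (op V) (s.hom.app (op V) y')) = y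
  rw [h2]
  have := congrArg (fun φ : (EtCoh.push k').obj ((restrAlong k').obj K) ⟶
    (EtCoh.push k').obj ((restrAlong k').obj K) => φ.hom.app (op V) y) e.inv_hom_id
  exact this

end Exactness

section Functors

/-- restriction of sections along `c : W ⟶ V` -/
noncomputable def secRestr {Y : Scheme.{u}} {V W : Y.Etale} (c : W ⟶ V) : secAt V ⟶ secAt W where
  app G := G.obj.map c.op
  naturality {G G'} φ := (φ.hom.naturality c.op).symm

/-- `Γ_Z(X, -)` -/
noncomputable abbrev G1 : EtCoh.Ab X ⥤ AddCommGrpCat.{u + 1} :=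
  EtDual.secSupp k' ⋙ secAt (EtCoh.top X)

/-- `Γ_Y(X, -)` -/
noncomputable abbrev G2 : EtCoh.Ab X ⥤ AddCommGrpCat.{u + 1} :=
  EtDual.secSupp j ⋙ secAt (EtCoh.top X)

/-- `Γ_Y(X', -)` -/
noncomputable abbrev G3 : EtCoh.Ab X ⥤ AddCommGrpCat.{u + 1} :=
  EtDual.secSupp j ⋙ secAt ((compEtale k').obj ((EtCoh.bc k').obj (EtCoh.top X)))

instance {Y : Scheme.{u}} (V : Y.Etale) : (secAt V).Additive := by
  unfold secAt
  infer_instance

noncomputable def alphaNT : G1 k' ⟶ G2 j :=
  Functor.whiskerRight (alphaSh j k' j' hfac) (secAt (EtCoh.top X))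

noncomputable def betaNT : G2 j ⟶ G3 j k' :=
  Functor.whiskerLeft (EtDual.secSupp j) (secRestr ((compBcAdj k').counit.app (EtCoh.top X)))

lemma alpha_beta : alphaNT j k' j' hfac ≫ betaNT j k' = 0 := by
  apply NatTrans.ext
  funext G
  apply AddCommGrpCat.hom_ext
  ext x
  exact (restr_eq_zero_iff_mem_range j k' j' hfac G (EtCoh.top X) _).2 ⟨x, rfl⟩

lemma shortExact_of_injective (I : EtCoh.Ab X) [Injective I] :
    (ShortComplex.mk ((alphaNT j k' j' hfac).app I) ((betaNT j k').app I)
      (by rw [← NatTrans.comp_app, alpha_beta]; rfl)).ShortExact := by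
  haveI : Injective ((EtDual.secSupp j).obj I) := Functor.injective_obj _ _
  refine ShortComplex.ShortExact.mk' ?_ ?_ ?_
  · rw [ShortComplex.ab_exact_iff]
    intro t ht
    exact (restr_eq_zero_iff_mem_range j k' j' hfac I (EtCoh.top X) t).1 ht
  · rw [AddCommGrpCat.mono_iff_injective]
    exact alphaSh_app_injective j k' j' hfac I (EtCoh.top X)
  · rw [AddCommGrpCat.epi_iff_surjective]
    exact restr_surjective_of_injective k' ((EtDual.secSupp j).obj I) (EtCoh.top X)

end Functors

section Compare

include hfac in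
lemma isPullback_triple : IsPullback j' (𝟙 U) k' j := by
  refine IsPullback.of_isLimit' ⟨by rw [hfac, Category.id_comp]⟩ ?_
  refine PullbackCone.IsLimit.mk _ (fun s => s.snd) ?_ ?_ ?_
  · intro s
    rw [← cancel_mono k', Category.assoc, hfac]
    exact s.condition.symm
  · intro s
    exact Category.comp_id _
  · intro s m _ h2
    rw [← h2]
    exact (Category.comp_id _).symm

/-- sections over isomorphic objects -/
noncomputable def secAtIso {Y : Scheme.{u}} {V W : Y.Etale} (e : W ≅ V) : secAt V ≅ secAt W :=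
  NatIso.ofComponents (fun G => G.obj.mapIso e.op)
    (fun {G G'} φ => (φ.hom.naturality e.hom.op).symm)

/-- `X' ×_X X ≅ X'` in the small étale site of `X'` -/
noncomputable def bcTopIso : (EtCoh.bc k').obj (EtCoh.top X) ≅ EtCoh.top X' :=
  (IsTerminal.isTerminalObj (EtCoh.bc k') _ (EtCore.topIsTerminal X)).uniqueUpToIso
    (EtCore.topIsTerminal X')

include hfac in
theorem nonempty_G3_iso :
    Nonempty (G3 j k' ≅ restrAlong k' ⋙ EtDual.gammaSupp j') := by
  obtain ⟨e⟩ := nonempty_secSupp_baseChange j k' j' (𝟙 U) (isPullback_triple j k' j' hfac)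
  let W₁ := (EtCoh.bc k').obj (EtCoh.top X)
  have a : secAt ((compEtale k').obj W₁) ≅ restrAlong k' ⋙ secAt W₁ :=
    NatIso.ofComponents (fun G => Iso.refl _) (fun {G G'} φ => by
      simp only [Iso.refl_hom, Category.comp_id, Category.id_comp]
      rfl)
  have c : secAt W₁ ≅ secAt (EtCoh.top X') := secAtIso (bcTopIso k').symm
  refine ⟨Functor.isoWhiskerLeft (EtDual.secSupp j) a ≪≫
    (Functor.associator _ _ _).symm ≪≫
    Functor.isoWhiskerRight e.symm (secAt W₁) ≪≫
    Functor.associator _ _ _ ≪≫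
    Functor.isoWhiskerLeft (restrAlong k') (Functor.isoWhiskerLeft (EtDual.secSupp j') c) ≪≫ ?_⟩
  exact Iso.refl _

end Compare

end Triple

end Groth.Agent.H7.TR
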