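import Mathlib
import Groth.Prelude.Def_EtDual
import Groth.Agent.Lib.Helper7.SP7
import Groth.Agent.Lib.Helper7.TR1
import Groth.Agent.Lib.Helper7.TR2
import Groth.Agent.Lib.Helper7.XC5

set_option autoImplicit false

universe u

open CategoryTheory CategoryTheory.Limits Opposite AlgebraicGeometry

namespace Groth.Agent.H7.TR

open Groth.Agent.H7.ES Groth.Agent.H7.XC Groth.Agent.H7.SP EtShriek

attribute [local instance] jCont_of_etale

variable {X X' U : Scheme.{u}} (j : U ⟶ X) [IsOpenImmersion j] (k' : X' ⟶ X) [IsOpenImmersion k']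
  (j' : U ⟶ X') [IsOpenImmersion j'] (hfac : j' ≫ k' = j)

include hfac in
theorem S3143_main (n : ℕ) (hn : IsUnit (n : Γ(X, ⊤))) (c : ℕ)
    (hZ : ∀ p : ℕ, p ≤ 2 * c + 1 →
      IsZero ((EtDual.locCoh k' p).obj (EtCoh.const X (ZMod n)))) :
    Nonempty ((EtDual.HY j (2 * c)).obj (EtDual.tate X n c) ≅
      (EtDual.HY j' (2 * c)).obj (EtDual.tate X' n c)) := by
  let F := EtDual.tate X n c
  have hdepth : ∀ p : ℕ, p < 2 * c + 2 → IsZero ((EtDual.locCoh k' p).obj F) :=
    depth_tate k' n hn c (2 * c + 2) (fun p hp => hZ p (by omega))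
  have hG1 : ∀ p : ℕ, p ≤ 2 * c + 1 → IsZero (((G1 k').rightDerived p).obj F) := by
    intro p hp
    have hiso := Groth.Agent.H7.SplitCx.isIso_edgeOut (EtDual.secSupp k')
      (secAt (EtCoh.top X)) F p (fun q hq => hdepth q (by omega))
    have hz : IsZero ((secAt (EtCoh.top X)).obj (((EtDual.secSupp k').rightDerived p).obj F)) :=
      Functor.map_isZero _ (hdepth p (by omega))
    exact hz.of_iso (@asIso _ _ _ _ _ hiso)
  obtain ⟨e1⟩ := nonempty_iso_of_isZero (alphaNT j k' j' hfac) (betaNT j k')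
    (alpha_beta j k' j' hfac) (fun I hI => shortExact_of_injective j k' j' hfac I) F (2 * c)
    (hG1 (2 * c) (by omega)) (hG1 (2 * c + 1) le_rfl)
  obtain ⟨e3⟩ := nonempty_G3_iso j k' j' hfac
  have e4 := (rightDerivedIso e3 (2 * c)).app F
  have hvan : ∀ q, 1 ≤ q → q ≤ 2 * c → IsZero (((restrAlong k').rightDerived q).obj F) := by
    intro q hq _
    obtain ⟨m, rfl⟩ : ∃ m, q = m + 1 := ⟨q - 1, by omega⟩
    exact Groth.Agent.H7.BS.isZero_rightDerived_succ_of_exact (restrAlong k') F m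
  obtain ⟨e5⟩ := Groth.Agent.H6.ScHA.nonempty_iso_comp (restrAlong k') (EtDual.gammaSupp j')
    (2 * c) F hvan (2 * c) le_rfl
  have e6 := (EtDual.HY j' (2 * c)).mapIso (restrTate k' n c)
  exact ⟨e1 ≪≫ e4 ≪≫ e5.symm ≪≫ e6⟩

end Groth.Agent.H7.TR
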