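import Mathlib
import Groth.Prelude.Def_EtShriek2
import Groth.Prelude.Def_EtTens2
import Groth.Agent.Lib.Helper7.SHP
import Groth.Agent.Lib.Helper7.TS1

/-!
# Helper7: TS2 — the projection morphism `f_! F ⊗ G ⟶ f_!(F ⊗ f⁻¹G)`
-/

set_option autoImplicit false

universe u

open CategoryTheory CategoryTheory.Limits Opposite AlgebraicGeometry TensorProduct

namespace Groth.Agent.H7.TS

open EtShriek Groth.Agent.H7.SH Groth.Agent.H7.ST Groth.Agent.H2.FinStalk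

section Supp

variable {X : Scheme.{u}} (F H : EtCoh.Ab X)

lemma sectSupp_tm_subset (U : X.Etale) (a : F.obj.obj (op U)) (b : H.obj.obj (op U)) :
    sectSupp (TT F H) U (tm F H U a b) ⊆ sectSupp F U a := by
  intro x hx W g hw h0
  refine hx W g hw ?_
  rw [tm_map, h0, tm_zero_left]

end Supp

section Phi

variable {X Y : Scheme.{u}} (f : X ⟶ Y) [LocallyOfFiniteType f] (F : EtCoh.Ab X) (G : EtCoh.Ab Y)

/-- `f⁻¹ G` -/
noncomputable abbrev pG : EtCoh.Ab X := (EtCoh.pull f).obj G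

/-- the unit `G → f_* f⁻¹ G` on sections -/
noncomputable abbrev uu (V : Y.Etale) :
    G.obj.obj (op V) ⟶ (pG f G).obj.obj (op ((EtCoh.bc f).obj V)) :=
  ((EtCoh.pullPushAdj f).unit.app G).hom.app (op V)

lemma uu_map {V V' : Y.Etale} (i : V' ⟶ V) (γ : G.obj.obj (op V)) :
    (pG f G).obj.map ((EtCoh.bc f).map i).op (uu f G V γ) = uu f G V' (G.obj.map i.op γ) := by
  have h := ConcreteCategory.congr_hom
    (((EtCoh.pullPushAdj f).unit.app G).hom.naturality i.op) γ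
  exact h.symm

/-- the target sheaf `F ⊗ f⁻¹G` -/
noncomputable abbrev KK : EtCoh.Ab X := TT F (pG f G)

/-- the map `s ⊗ γ ↦ s ⊗ f^*γ` to sections of `f_*(F ⊗ f⁻¹G)` -/
noncomputable def psiHom (V : Y.Etale) :
    (↥(shriekSubgroup f F V) ⊗[ℤ] ↑(G.obj.obj (op V))) →+
      ↑((KK f F G).obj.obj (op ((EtCoh.bc f).obj V))) :=
  ((toSheafify X.smallEtaleTopology (EtTens.tensorObj F.obj (pG f G).obj)).app
      (op ((EtCoh.bc f).obj V))).hom.comp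
    (TensorProduct.map (shriekSubgroup f F V).subtype.toIntLinearMap
      (uu f G V).hom.toIntLinearMap).toAddMonoidHom

lemma psiHom_tmul (V : Y.Etale) (s : shriekSubgroup f F V) (γ : G.obj.obj (op V)) :
    psiHom f F G V (s ⊗ₜ[ℤ] γ) = tm F (pG f G) ((EtCoh.bc f).obj V) s.1 (uu f G V γ) := rfl

lemma psiHom_mem (V : Y.Etale) (t : ↥(shriekSubgroup f F V) ⊗[ℤ] ↑(G.obj.obj (op V))) :
    psiHom f F G V t ∈ shriekSubgroup f (KK f F G) V := by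
  induction t using TensorProduct.induction_on with
  | zero =>
    rw [map_zero]
    exact zero_mem _
  | tmul s γ =>
    rw [psiHom_tmul, mem_shriekSubgroup_iff']
    obtain ⟨Z, hZ, hp⟩ := (mem_shriekSubgroup_iff' f F V s.1).1 s.2
    exact ⟨Z, (sectSupp_tm_subset F (pG f G) _ _ _).trans hZ, hp⟩
  | add a b ha hb =>
    rw [map_add]
    exact add_mem ha hb

/-- the map `s ⊗ γ ↦ s ⊗ f^*γ` to sections of `f_!(F ⊗ f⁻¹G)` -/
noncomputable def phiHom (V : Y.Etale) :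
    (↥(shriekSubgroup f F V) ⊗[ℤ] ↑(G.obj.obj (op V))) →+
      ↥(shriekSubgroup f (KK f F G) V) :=
  (psiHom f F G V).codRestrict (shriekSubgroup f (KK f F G) V) (psiHom_mem f F G V)

lemma phiHom_tmul_val (V : Y.Etale) (s : shriekSubgroup f F V) (γ : G.obj.obj (op V)) :
    (phiHom f F G V (s ⊗ₜ[ℤ] γ)).1 = tm F (pG f G) ((EtCoh.bc f).obj V) s.1 (uu f G V γ) := rfl

/-- the presheaf morphism `f_! F ⊗ G ⟶ f_!(F ⊗ f⁻¹G)` -/
noncomputable def phiPre :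
    EtTens.tensorObj ((shr f).obj F).obj G.obj ⟶ ((shr f).obj (KK f F G)).obj where
  app V := AddCommGrpCat.ofHom (phiHom f F G V.unop)
  naturality V V' i := by
    apply EtTens.hom_ext_tmul
    intro s γ
    apply Subtype.ext
    change (phiHom f F G V'.unop ((((shr f).obj F).obj.map i s) ⊗ₜ[ℤ] (G.obj.map i γ))).1 =
      (KK f F G).obj.map ((EtCoh.bc f).map i.unop).op (phiHom f F G V.unop (s ⊗ₜ[ℤ] γ)).1
    rw [phiHom_tmul_val, phiHom_tmul_val, tm_map, uu_map]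
    rfl

/-- the projection morphism `f_! F ⊗ G ⟶ f_!(F ⊗ f⁻¹G)` -/
noncomputable def Phi : TT ((shr f).obj F) G ⟶ (shr f).obj (KK f F G) :=
  ⟨sheafifyLift Y.smallEtaleTopology (phiPre f F G) ((shr f).obj (KK f F G)).property⟩

lemma Phi_tm (V : Y.Etale) (s : shriekSubgroup f F V) (γ : G.obj.obj (op V)) :
    (Phi f F G).hom.app (op V) (tm ((shr f).obj F) G V s γ) = phiHom f F G V (s ⊗ₜ[ℤ] γ) := by
  have h := congrArg (fun α => α.app (op V))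
    (toSheafify_sheafifyLift Y.smallEtaleTopology (phiPre f F G)
      ((shr f).obj (KK f F G)).property)
  exact ConcreteCategory.congr_hom h (s ⊗ₜ[ℤ] γ)

end Phi

section Germ

variable {X Y : Scheme.{u}} (f : X ⟶ Y) [IsSeparated f] [LocallyOfFiniteType f]
  (F : EtCoh.Ab X) (G : EtCoh.Ab Y) {Ω : Type u} [Field Ω] [IsAlgClosed Ω]

/-- the identification `G_η ≃ (f⁻¹G)_ξ` for `ξ` over `η` -/
noncomputable def sigE {η : Spec (.of Ω) ⟶ Y} {ξ : Spec (.of Ω) ⟶ X} (hξ : ξ ≫ f = η) :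
    ↑((EtCoh.stalk η).obj G) ≃+ ↑((EtCoh.stalk ξ).obj (pG f G)) := by
  subst hξ
  exact ((stalkPullIso f ξ).app G).symm.addCommGroupIsoToAddEquiv

lemma sigE_rfl_gm (ξ : Spec (.of Ω) ⟶ X) (V : Y.Etale)
    (x : (Scheme.pointSmallEtale (ξ ≫ f)).fiber.obj V) (γ : G.obj.obj (op V)) :
    sigE f G (rfl : ξ ≫ f = ξ ≫ f) (gm (ξ ≫ f) G.obj V x γ) =
      gm ξ (pG f G).obj ((EtCoh.bc f).obj V) (liftPt f (ξ ≫ f) ξ rfl V x) (uu f G V γ) :=
  ConcreteCategory.congr_hom (Groth.Agent.H2.FinBC.germ_stalkPullIso_inv f ξ G V x) γ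

theorem pr_Phi_tau_rfl (ξ : Spec (.of Ω) ⟶ X)
    (a : ↑((EtCoh.stalk (ξ ≫ f)).obj ((shr f).obj F))) (g : ↑((EtCoh.stalk (ξ ≫ f)).obj G)) :
    pr f (KK f F G) (ξ ≫ f) ξ rfl ((EtCoh.stalk (ξ ≫ f)).map (Phi f F G)
        (tau (ξ ≫ f) ((shr f).obj F) G (a ⊗ₜ[ℤ] g))) =
      tau ξ F (pG f G) ((pr f F (ξ ≫ f) ξ rfl a) ⊗ₜ[ℤ] (sigE f G rfl g)) := by
  obtain ⟨V, x, s, γ, rfl, rfl⟩ := exists_rep₂ (ξ ≫ f) ((shr f).obj F).obj G.obj a g
  rw [tau_gm, sigE_rfl_gm, pr_germ]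
  have h1 : (EtCoh.stalk (ξ ≫ f)).map (Phi f F G)
      (gm (ξ ≫ f) (TT ((shr f).obj F) G).obj V x (tm ((shr f).obj F) G V s γ)) =
      gm (ξ ≫ f) ((shr f).obj (KK f F G)).obj V x (phiHom f F G V (s ⊗ₜ[ℤ] γ)) := by
    have h := (Scheme.pointSmallEtale (ξ ≫ f)).toPresheafFiber_naturality_apply
      (Phi f F G).hom V x (tm ((shr f).obj F) G V s γ)
    rw [Phi_tm] at h
    exact h
  rw [h1, pr_germ, tau_gm]
  rfl

theorem pr_Phi_tau {η : Spec (.of Ω) ⟶ Y} {ξ : Spec (.of Ω) ⟶ X} (hξ : ξ ≫ f = η)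
    (a : ↑((EtCoh.stalk η).obj ((shr f).obj F))) (g : ↑((EtCoh.stalk η).obj G)) :
    pr f (KK f F G) η ξ hξ ((EtCoh.stalk η).map (Phi f F G)
        (tau η ((shr f).obj F) G (a ⊗ₜ[ℤ] g))) =
      tau ξ F (pG f G) ((pr f F η ξ hξ a) ⊗ₜ[ℤ] (sigE f G hξ g)) := by
  subst hξ
  exact pr_Phi_tau_rfl f F G ξ a g

end Germ

end Groth.Agent.H7.TS
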