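import Mathlib

/-!
# Helper7: TS3 — an abstract bijectivity criterion for maps out of `(⊕ B i) ⊗ G`
-/

set_option autoImplicit false

open TensorProduct

namespace Groth.Agent.H7.TS

section Alg

universe v w

variable {ι : Type v} {A G C : Type w} [AddCommGroup A] [AddCommGroup G] [AddCommGroup C]
  {B D : ι → Type w} [∀ i, AddCommGroup (B i)] [∀ i, AddCommGroup (D i)]
  (P : ∀ i, A →+ B i) (Q : ∀ i, C →+ D i) (τ : ∀ i, (B i ⊗[ℤ] G) →+ D i)
  (Φ : (A ⊗[ℤ] G) →+ C)

/-- Let `A` be a "direct sum" of the `B i` through projections `P i` (jointly injective, finite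
supports, delta elements), `C` a group with jointly injective projections `Q i` of finite support
to `D i ≃ B i ⊗ G`, and `Φ : A ⊗ G → C` compatible with the projections. Then `Φ` is bijective. -/
theorem bijective_of_proj
    (hτ : ∀ i, Function.Bijective (τ i))
    (hPI : ∀ z : A, (∀ i, P i z = 0) → z = 0)
    (hPII : ∀ z : A, {i | P i z ≠ 0}.Finite)
    (hPIII : ∀ (i : ι) (t : B i), ∃ z : A, P i z = t ∧ ∀ j, j ≠ i → P j z = 0)
    (hQI : ∀ c : C, (∀ i, Q i c = 0) → c = 0)
    (hQII : ∀ c : C, {i | Q i c ≠ 0}.Finite)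
    (hΦ : ∀ (i : ι) (a : A) (g : G), Q i (Φ (a ⊗ₜ[ℤ] g)) = τ i (P i a ⊗ₜ[ℤ] g)) :
    Function.Bijective Φ := by
  classical
  choose σ hσ1 hσ2 using hPIII
  have hσadd : ∀ (i : ι) (t t' : B i), σ i (t + t') = σ i t + σ i t' := by
    intro i t t'
    rw [← sub_eq_zero]
    apply hPI
    intro j
    rw [map_sub, map_add]
    by_cases h : j = i
    · subst h
      rw [hσ1, hσ1, hσ1, sub_self]
    · rw [hσ2 i _ j h, hσ2 i _ j h, hσ2 i _ j h, add_zero, sub_self]
  let δ : ∀ i, B i →+ A := fun i => AddMonoidHom.mk' (σ i) (hσadd i)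
  have hδ : ∀ i t, δ i t = σ i t := fun i t => rfl
  let PT : ∀ i, (A ⊗[ℤ] G) →ₗ[ℤ] (B i ⊗[ℤ] G) := fun i =>
    LinearMap.rTensor G (P i).toIntLinearMap
  let DT : ∀ i, (B i ⊗[ℤ] G) →ₗ[ℤ] (A ⊗[ℤ] G) := fun i =>
    LinearMap.rTensor G (δ i).toIntLinearMap
  have hPT : ∀ i a g, PT i (a ⊗ₜ[ℤ] g) = P i a ⊗ₜ[ℤ] g := fun i a g => rfl
  have hDT : ∀ i b g, DT i (b ⊗ₜ[ℤ] g) = σ i b ⊗ₜ[ℤ] g := fun i b g => rfl
  have K2a : ∀ i (t : B i ⊗[ℤ] G), PT i (DT i t) = t := by
    intro i t
    induction t using TensorProduct.induction_on with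
    | zero => rw [map_zero, map_zero]
    | tmul b g => rw [hDT, hPT, hσ1]
    | add s t hs ht => rw [map_add, map_add, hs, ht]
  have K2b : ∀ i j (t : B i ⊗[ℤ] G), j ≠ i → PT j (DT i t) = 0 := by
    intro i j t hji
    induction t using TensorProduct.induction_on with
    | zero => rw [map_zero, map_zero]
    | tmul b g => rw [hDT, hPT, hσ2 i b j hji, TensorProduct.zero_tmul]
    | add s t hs ht => rw [map_add, map_add, hs, ht, add_zero]
  have K1 : ∀ i (x : A ⊗[ℤ] G), Q i (Φ x) = τ i (PT i x) := by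
    intro i x
    induction x using TensorProduct.induction_on with
    | zero => rw [map_zero, map_zero, map_zero, map_zero]
    | tmul a g => rw [hΦ, hPT]
    | add s t hs ht => rw [map_add, map_add, map_add, map_add, hs, ht]
  -- monotonicity of decompositions
  have hmono : ∀ (x : A ⊗[ℤ] G) (S S' : Finset ι), S ⊆ S' →
      x = ∑ i ∈ S, DT i (PT i x) → x = ∑ i ∈ S', DT i (PT i x) := by
    intro x S S' hSS' hx
    have h0 : ∀ j ∈ S', j ∉ S → DT j (PT j x) = 0 := by
      intro j _ hjS
      have : PT j x = 0 := by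
        rw [hx, map_sum]
        apply Finset.sum_eq_zero
        intro i hi
        exact K2b i j _ (fun e => hjS (e ▸ hi))
      rw [this, map_zero]
    rw [← Finset.sum_subset hSS' h0]
    exact hx
  have K3 : ∀ x : A ⊗[ℤ] G, ∃ S : Finset ι, x = ∑ i ∈ S, DT i (PT i x) := by
    intro x
    induction x using TensorProduct.induction_on with
    | zero => exact ⟨∅, by simp⟩
    | tmul a g =>
      refine ⟨(hPII a).toFinset, ?_⟩
      have ha : a = ∑ i ∈ (hPII a).toFinset, σ i (P i a) := by
        rw [← sub_eq_zero]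
        apply hPI
        intro j
        rw [map_sub, map_sum, sub_eq_zero]
        by_cases hj : j ∈ (hPII a).toFinset
        · rw [Finset.sum_eq_single_of_mem j hj]
          · rw [hσ1]
          · intro i _ hij
            exact hσ2 i _ j (fun e => hij e.symm)
        · have h0 : P j a = 0 := by
            by_contra hne
            exact hj ((hPII a).mem_toFinset.2 hne)
          rw [h0]
          symm
          apply Finset.sum_eq_zero
          intro i hi
          exact hσ2 i _ j (fun e => hj (e ▸ hi))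
      have : ∑ i ∈ (hPII a).toFinset, DT i (PT i (a ⊗ₜ[ℤ] g)) =
          (∑ i ∈ (hPII a).toFinset, σ i (P i a)) ⊗ₜ[ℤ] g := by
        rw [TensorProduct.sum_tmul]
        apply Finset.sum_congr rfl
        intro i _
        rw [hPT, hDT]
      rw [this, ← ha]
    | add x y hx hy =>
      obtain ⟨S, hS⟩ := hx
      obtain ⟨S', hS'⟩ := hy
      refine ⟨S ∪ S', ?_⟩
      have h1 := hmono x S (S ∪ S') Finset.subset_union_left hS
      have h2 := hmono y S' (S ∪ S') Finset.subset_union_right hS'
      have h3 : ∑ i ∈ S ∪ S', DT i (PT i (x + y)) =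
          ∑ i ∈ S ∪ S', DT i (PT i x) + ∑ i ∈ S ∪ S', DT i (PT i y) := by
        rw [← Finset.sum_add_distrib]
        apply Finset.sum_congr rfl
        intro i _
        rw [map_add, map_add]
      rw [h3, ← h1, ← h2]
  constructor
  · -- injectivity
    rw [injective_iff_map_eq_zero]
    intro x hx
    have hPx : ∀ i, PT i x = 0 := by
      intro i
      apply (hτ i).1
      rw [← K1, hx, map_zero, map_zero]
    obtain ⟨S, hS⟩ := K3 x
    rw [hS]
    apply Finset.sum_eq_zero
    intro i _
    rw [hPx, map_zero]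
  · -- surjectivity
    intro c
    let τe : ∀ i, (B i ⊗[ℤ] G) ≃+ D i := fun i => AddEquiv.ofBijective (τ i) (hτ i)
    have hτe : ∀ i t, τ i ((τe i).symm t) = t := fun i t => (τe i).apply_symm_apply t
    refine ⟨∑ i ∈ (hQII c).toFinset, DT i ((τe i).symm (Q i c)), ?_⟩
    rw [← sub_eq_zero]
    apply hQI
    intro j
    rw [map_sub, K1, map_sum, sub_eq_zero]
    by_cases hj : j ∈ (hQII c).toFinset
    · rw [Finset.sum_eq_single_of_mem j hj]
      · rw [K2a, hτe]
      · intro i _ hij
        exact K2b i j _ (fun e => hij e.symm)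
    · have h0 : Q j c = 0 := by
        by_contra hne
        exact hj ((hQII c).mem_toFinset.2 hne)
      rw [h0, Finset.sum_eq_zero, map_zero]
      intro i hi
      exact K2b i j _ (fun e => hj (e ▸ hi))

end Alg

end Groth.Agent.H7.TS
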