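import Mathlib
import Groth.Prelude.Def_EtShriek2
import Groth.Prelude.Def_EtTens2
import Groth.Agent.Lib.Helper7.TS2
import Groth.Agent.Lib.Helper7.TS3
import Groth.Agent.Lib.Helper7.ST5
import Groth.Agent.Lib.Helper2.FinBCC

/-!
# Helper7: TS4 — the projection formula for `f_!`, `f` separated and locally quasi-finite (S0780)
-/

set_option autoImplicit false

universe u

open CategoryTheory CategoryTheory.Limits Opposite AlgebraicGeometry TensorProduct

namespace Groth.Agent.H7.TS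

open EtShriek Groth.Agent.H7.SH Groth.Agent.H7.ST Groth.Agent.H2.FinStalk

section Final

variable {X Y : Scheme.{u}} (f : X ⟶ Y) [IsSeparated f] [LocallyOfFiniteType f]
  [LocallyQuasiFinite f] (F : EtCoh.Ab X) (G : EtCoh.Ab Y)

theorem bijective_stalk_Phi {Ω : Type u} [Field Ω] [IsAlgClosed Ω] (η : Spec (.of Ω) ⟶ Y) :
    Function.Bijective ((EtCoh.stalk η).map (Phi f F G)) := by
  have hb := bijective_of_proj
    (ι := {ξ : Spec (CommRingCat.of Ω) ⟶ X // ξ ≫ f = η})
    (A := ↑((EtCoh.stalk η).obj ((shr f).obj F))) (G := ↑((EtCoh.stalk η).obj G))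
    (C := ↑((EtCoh.stalk η).obj ((shr f).obj (KK f F G))))
    (B := fun ξ => ↑((EtCoh.stalk ξ.1).obj F))
    (D := fun ξ => ↑((EtCoh.stalk ξ.1).obj (KK f F G)))
    (fun ξ => (pr f F η ξ.1 ξ.2).hom) (fun ξ => (pr f (KK f F G) η ξ.1 ξ.2).hom)
    (fun ξ => ((TensorProduct.congr (LinearEquiv.refl ℤ _)
      (sigE f G ξ.2).toIntLinearEquiv).toAddEquiv.trans (tau ξ.1 F (pG f G))).toAddMonoidHom)
    (((EtCoh.stalk η).map (Phi f F G)).hom.comp (tau η ((shr f).obj F) G).toAddMonoidHom)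
    (fun ξ => AddEquiv.bijective _)
    (fun z h => pr_injective f F η z (fun ξ hξ => h ⟨ξ, hξ⟩))
    (fun z => pr_finite_support f F η z)
    (fun i t => by
      obtain ⟨z, hz1, hz2⟩ := exists_delta f F η i.1 i.2 t
      exact ⟨z, hz1, fun j hj => hz2 j.1 j.2 (fun e => hj (Subtype.ext e))⟩)
    (fun z h => pr_injective f (KK f F G) η z (fun ξ hξ => h ⟨ξ, hξ⟩))
    (fun z => pr_finite_support f (KK f F G) η z)
    (fun ξ a g => pr_Phi_tau f F G ξ.2 a g)
  have h2 : Function.Bijective (((EtCoh.stalk η).map (Phi f F G)).hom ∘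
      (tau η ((shr f).obj F) G)) := hb
  exact (Function.Bijective.of_comp_iff _ (tau η ((shr f).obj F) G).bijective).1 h2

instance isIso_Phi : IsIso (Phi f F G) := by
  haveI : Mono (Phi f F G) :=
    ab_mono_of_family (fun y : Y => Groth.Agent.H2.FinBC.algξ Y y)
      (Groth.Agent.H2.FinBC.iUnion_range_algξ Y) _
      (fun y => (bijective_stalk_Phi f F G (Groth.Agent.H2.FinBC.algξ Y y)).1)
  haveI : Epi (Phi f F G) :=
    ab_epi_of_family (fun y : Y => Groth.Agent.H2.FinBC.algξ Y y)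
      (Groth.Agent.H2.FinBC.iUnion_range_algξ Y) _
      (fun y => (bijective_stalk_Phi f F G (Groth.Agent.H2.FinBC.algξ Y y)).2)
  exact isIso_of_mono_of_epi _

theorem S0780_main :
    Nonempty ((EtTens.tensorBi.obj ((EtShriek.lowerShriek f).obj F)).obj G ≅
      (EtShriek.lowerShriek f).obj ((EtTens.tensorBi.obj F).obj ((EtCoh.pull f).obj G))) :=
  ⟨(EtTens.tensorBi.mapIso ((shrIso f).app F)).app G ≪≫ asIso (Phi f F G) ≪≫
    ((shrIso f).app (KK f F G)).symm⟩

end Final

end Groth.Agent.H7.TS
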