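import Groth.Agent.Lib.Helper5.FunFld.Genus0
import Groth.Agent.Lib.Helper5.FunFld.LinSeries
import Groth.Agent.Lib.Helper5.FunFld.LocRing
import Mathlib.RingTheory.MvPolynomial.EulerIdentity

/-! Second-order Taylor expansion at a place and the tangent line of a plane curve (helper7). -/

set_option autoImplicit false

namespace Groth.Agent.H7.Tangent

open FunFld WithZero MvPolynomial

variable {k K : Type*} [Field k] [Field K] [Algebra k K]

/-- evaluation of a homogeneous polynomial at a scaled point -/
lemma aeval_mul_of_isHomogeneous {σ : Type*} (f : MvPolynomial σ k) {d : ℕ}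
    (hf : f.IsHomogeneous d) (x : σ → K) (c : K) :
    aeval (fun i => c * x i) f = c ^ d * aeval x f := by
  rw [aeval_def, aeval_def, eval₂_eq, eval₂_eq, Finset.mul_sum]
  refine Finset.sum_congr rfl (fun m hm => ?_)
  have hd := hf.degree_eq_sum_deg_support hm
  simp only [mul_pow]
  rw [Finset.prod_mul_distrib, Finset.prod_pow_eq_pow_sum, ← hd]
  ring

section taylor

variable (P : Place k K) {σ : Type*} [Fintype σ] [DecidableEq σ]

/-- second order Taylor expansion at a place -/
theorem taylor2 (ψ : σ → K) (α : σ → k)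
    (hψ : ∀ i, P.1 (ψ i - algebraMap k K (α i)) ≤ exp (-1)) (g : MvPolynomial σ k) :
    P.1 (aeval ψ g - algebraMap k K (eval α g) -
      ∑ i, algebraMap k K (eval α (pderiv i g)) * (ψ i - algebraMap k K (α i))) ≤ exp (-2) := by
  have hexp1 : (exp (-1) : ℤᵐ⁰) ≤ 1 := by
    rw [← exp_zero, exp_le_exp]; norm_num
  have hψ1 : ∀ i, P.1 (ψ i) ≤ 1 := by
    intro i
    have : ψ i = (ψ i - algebraMap k K (α i)) + algebraMap k K (α i) := by ring
    rw [this]
    exact (P.1.map_add _ _).trans (max_le ((hψ i).trans hexp1) (P.v_algebraMap_le _))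
  induction g using MvPolynomial.induction_on with
  | C c =>
    simp only [aeval_C, eval_C, sub_self, Derivation.map_algebraMap, map_zero, zero_mul,
      Finset.sum_const_zero, pderiv_C]
    simp
  | add p q hp hq =>
    have : aeval ψ (p + q) - algebraMap k K (eval α (p + q)) -
        ∑ i, algebraMap k K (eval α (pderiv i (p + q))) * (ψ i - algebraMap k K (α i)) =
        (aeval ψ p - algebraMap k K (eval α p) -
          ∑ i, algebraMap k K (eval α (pderiv i p)) * (ψ i - algebraMap k K (α i))) +
        (aeval ψ q - algebraMap k K (eval α q) -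
          ∑ i, algebraMap k K (eval α (pderiv i q)) * (ψ i - algebraMap k K (α i))) := by
      simp only [map_add, add_mul, Finset.sum_add_distrib]
      ring
    rw [this]
    exact (P.1.map_add _ _).trans (max_le hp hq)
  | mul_X p l hp =>
    set S := ∑ i, algebraMap k K (eval α (pderiv i p)) * (ψ i - algebraMap k K (α i)) with hS
    set r := aeval ψ p - algebraMap k K (eval α p) - S with hr
    have hSv : P.1 S ≤ exp (-1) := by
      refine Valuation.map_sum_le _ (fun i _ => ?_)
      rw [map_mul]
      calc P.1 (algebraMap k K (eval α (pderiv i p))) * P.1 (ψ i - algebraMap k K (α i))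
          ≤ 1 * exp (-1) := mul_le_mul' (P.v_algebraMap_le _) (hψ i)
        _ = exp (-1) := one_mul _
    have hsum : ∑ i, algebraMap k K (eval α (pderiv i (p * X l))) * (ψ i - algebraMap k K (α i)) =
        algebraMap k K (α l) * S + algebraMap k K (eval α p) * (ψ l - algebraMap k K (α l)) := by
      have h1 : ∀ i, algebraMap k K (eval α (pderiv i (p * X l))) * (ψ i - algebraMap k K (α i)) =
          algebraMap k K (α l) *
            (algebraMap k K (eval α (pderiv i p)) * (ψ i - algebraMap k K (α i))) +
          (if i = l then algebraMap k K (eval α p) * (ψ l - algebraMap k K (α l)) else 0) := by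
        intro i
        rw [Derivation.leibniz, pderiv_X]
        by_cases hil : i = l
        · subst hil
          simp only [Pi.single_eq_same, smul_eq_mul, map_add, map_mul, eval_X, mul_one, if_true]
          ring
        · rw [if_neg hil, Pi.single_eq_of_ne (Ne.symm hil)]
          simp only [smul_eq_mul, mul_zero, zero_add, map_mul, eval_X, add_zero]
          ring
      rw [Finset.sum_congr rfl (fun i _ => h1 i), Finset.sum_add_distrib, ← Finset.mul_sum,
        Finset.sum_ite_eq' Finset.univ l, if_pos (Finset.mem_univ _)]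
    have key : aeval ψ (p * X l) - algebraMap k K (eval α (p * X l)) -
        ∑ i, algebraMap k K (eval α (pderiv i (p * X l))) * (ψ i - algebraMap k K (α i)) =
        S * (ψ l - algebraMap k K (α l)) + r * ψ l := by
      rw [hsum, map_mul, aeval_X, map_mul, eval_X, map_mul, hr]
      ring
    rw [key]
    refine (P.1.map_add _ _).trans (max_le ?_ ?_)
    · rw [map_mul]
      calc P.1 S * P.1 (ψ l - algebraMap k K (α l)) ≤ exp (-1) * exp (-1) :=
            mul_le_mul' hSv (hψ l)
        _ = exp (-2) := by rw [← exp_add]; norm_num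
    · rw [map_mul]
      calc P.1 r * P.1 (ψ l) ≤ exp (-2) * 1 := mul_le_mul' hp (hψ1 l)
        _ = exp (-2) := mul_one _

end taylor

end Groth.Agent.H7.Tangent

namespace Groth.Agent.H7.Tangent

open FunFld WithZero MvPolynomial

variable {k K : Type*} [Field k] [Field K] [Algebra k K]

/-- **S11074** (nonsingularity and irreducibility are not needed) -/
theorem tangent [IsAlgClosed k] (hK : IsFunctionField k K) (φ : Fin 3 → K)
    (hφ : LinearIndependent k φ)
    (f : MvPolynomial (Fin 3) k) (hhom : f.IsHomogeneous f.totalDegree)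
    (hfφ : aeval φ f = 0) (P : Place k K) (j : Fin 3)
    (a : Fin 3 → P.O)
    (ha : ∀ i, ((a i : P.O) : K) = φ i / φ j) (c : Fin 3 → k)
    (hc : ∀ i, algebraMap k (IsLocalRing.ResidueField P.O) (c i) =
      aeval (fun l => IsLocalRing.residue P.O (a l)) (pderiv i f)) :
    P.1 (∑ i, c i • (φ i / φ j)) ≤ exp (-2) := by
  have hφj : φ j ≠ 0 := hφ.ne_zero j
  set ψ : Fin 3 → K := fun i => φ i / φ j with hψ
  have hψO : ∀ i, P.1 (ψ i) ≤ 1 := fun i => by
    rw [hψ]; simp only; rw [← ha i]; exact P.mem_O_iff.1 (a i).2
  have hdeg := Place.deg_eq_one_of_isAlgClosed hK P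
  choose α hα using fun i => Place.exists_const_sub_lt P hdeg (hψO i)
  have hα' : ∀ i, P.1 (ψ i - algebraMap k K (α i)) ≤ exp (-1) :=
    fun i => Place.v_le_exp_neg_one_of_lt_one P (hα i)
  -- `f(ψ) = 0`
  have hfψ : aeval ψ f = 0 := by
    have : ψ = fun i => (φ j)⁻¹ * φ i := by
      funext i; rw [hψ]; simp only; rw [div_eq_inv_mul]
    rw [this, aeval_mul_of_isHomogeneous f hhom φ (φ j)⁻¹, hfφ, mul_zero]
  -- residues
  have hres : ∀ l, IsLocalRing.residue P.O (a l) =
      algebraMap k (IsLocalRing.ResidueField P.O) (α l) := by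
    intro l
    have h0 : IsLocalRing.residue P.O (a l - algebraMap k P.O (α l)) = 0 := by
      rw [P.residue_eq_zero_iff]
      have : ((a l - algebraMap k P.O (α l) : P.O) : K) = ψ l - algebraMap k K (α l) := by
        have h1 : ((a l - algebraMap k P.O (α l) : P.O) : K) =
            (a l : K) - ((algebraMap k P.O (α l) : P.O) : K) := rfl
        rw [h1, ha l]
        rfl
      rw [this]
      exact hα l
    rw [map_sub, sub_eq_zero] at h0
    rw [h0]
    rfl
  have hcα : ∀ i, c i = eval α (pderiv i f) := by
    intro i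
    have h1 : (fun l => IsLocalRing.residue P.O (a l)) =
        algebraMap k (IsLocalRing.ResidueField P.O) ∘ α := funext hres
    have h2 := hc i
    haveI : IsScalarTower k k (IsLocalRing.ResidueField P.O) :=
      IsScalarTower.of_algebraMap_eq (fun x => rfl)
    rw [h1, aeval_algebraMap_apply] at h2
    exact (algebraMap k (IsLocalRing.ResidueField P.O)).injective h2
  have hT := taylor2 P ψ α hα' f
  rw [hfψ, zero_sub] at hT
  set S := ∑ i, algebraMap k K (eval α (pderiv i f)) * (ψ i - algebraMap k K (α i)) with hS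
  have hSv : P.1 S ≤ exp (-1) := by
    refine Valuation.map_sum_le _ (fun i _ => ?_)
    rw [map_mul]
    calc P.1 (algebraMap k K (eval α (pderiv i f))) * P.1 (ψ i - algebraMap k K (α i))
        ≤ 1 * exp (-1) := mul_le_mul' (P.v_algebraMap_le _) (hα' i)
      _ = exp (-1) := one_mul _
  have hexp21 : (exp (-2) : ℤᵐ⁰) ≤ exp (-1) := by rw [exp_le_exp]; norm_num
  have hexp1 : (exp (-1) : ℤᵐ⁰) < 1 := by rw [← exp_zero, exp_lt_exp]; norm_num
  -- `f(α) = 0`
  have hfα : eval α f = 0 := by
    by_contra h0
    have h1 : P.1 (algebraMap k K (eval α f)) = 1 := P.v_algebraMap h0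
    have h2 : algebraMap k K (eval α f) = -(-algebraMap k K (eval α f) - S) - S := by ring
    have h3 : P.1 (algebraMap k K (eval α f)) ≤ exp (-1) := by
      rw [h2]
      refine (Valuation.map_sub _ _ _).trans (max_le ?_ hSv)
      rw [Valuation.map_neg]
      exact hT.trans hexp21
    rw [h1] at h3
    exact absurd h3 (not_le.2 hexp1)
  -- Euler
  have hE : ∑ i, α i * eval α (pderiv i f) = 0 := by
    have := congrArg (eval α) hhom.sum_X_mul_pderiv
    rw [map_sum, map_nsmul, hfα, smul_zero] at this
    rw [← this]
    refine Finset.sum_congr rfl (fun i _ => ?_)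
    rw [map_mul, eval_X]
  have hSeq : S = ∑ i, c i • (φ i / φ j) := by
    have h1 : S = ∑ i, c i • ψ i - algebraMap k K (∑ i, α i * eval α (pderiv i f)) := by
      rw [hS, map_sum, ← Finset.sum_sub_distrib]
      refine Finset.sum_congr rfl (fun i _ => ?_)
      rw [hcα i, Algebra.smul_def, map_mul]
      ring
    rw [h1, hE, map_zero, sub_zero]
  rw [← hSeq]
  rw [hfα, map_zero, neg_zero, zero_sub, Valuation.map_neg] at hT
  exact hT

end Groth.Agent.H7.Tangent
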