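import Mathlib

/-! Direct summands of a finite projective module are determined by their tensor powers
(helper7, S19148). -/

set_option autoImplicit false
universe u v
open scoped TensorProduct

namespace Groth.Agent.H7.TensorPowSummand

variable {R : Type u} [CommRing R] {M : Type v} [AddCommGroup M] [Module R M]

/-- full contraction against a family of functionals -/
noncomputable def contract {k : ℕ} (ν : Fin k → Module.Dual R M) :
    (⨂[R] _ : Fin k, M) →ₗ[R] R :=
  PiTensorProduct.lift ((MultilinearMap.mkPiAlgebra R (Fin k) R).compLinearMap ν)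

theorem contract_tprod {k : ℕ} (ν : Fin k → Module.Dual R M) (m : Fin k → M) :
    contract ν (PiTensorProduct.tprod R m) = ∏ i, ν i (m i) := by
  rw [contract, PiTensorProduct.lift.tprod]
  rfl

theorem le_of_range_le [Module.Finite R M] [Module.Projective R M] (F₁ F₂ : Submodule R M)
    (h₁ : ∃ C : Submodule R M, IsCompl F₁ C) (h₂ : ∃ C : Submodule R M, IsCompl F₂ C) (n : ℕ)
    (h : LinearMap.range (PiTensorProduct.map (R := R) (fun _ : Fin (n + 1) => F₁.subtype)) ≤
      LinearMap.range (PiTensorProduct.map (R := R) (fun _ : Fin (n + 1) => F₂.subtype))) :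
    F₁ ≤ F₂ := by
  classical
  obtain ⟨C₁, hC₁⟩ := h₁
  obtain ⟨C₂, hC₂⟩ := h₂
  let p₁ : M →ₗ[R] F₁ := Submodule.projectionOnto F₁ C₁ hC₁
  let p₂ : M →ₗ[R] M := F₂.subtype ∘ₗ Submodule.projectionOnto F₂ C₂ hC₂
  let q : M →ₗ[R] M := LinearMap.id - p₂
  have hq₂ : ∀ y : F₂, q (y : M) = 0 := by
    intro y
    change (y : M) - ((Submodule.projectionOnto F₂ C₂ hC₂ (y : M) : F₂) : M) = 0
    rw [Submodule.projectionOnto_apply_left, sub_self]
  have hq : ∀ x : M, q x = 0 → x ∈ F₂ := by
    intro x hx
    have : x = p₂ x := by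
      have h1 : q x = x - p₂ x := rfl
      rw [h1, sub_eq_zero] at hx
      exact hx
    rw [this]
    exact Submodule.coe_mem _
  obtain ⟨N, f, g, -, hg, hfg⟩ := Module.Finite.exists_comp_eq_id_of_projective R M
  let μ : Fin N → Module.Dual R M := fun i => LinearMap.proj i ∘ₗ g
  let xs : Fin N → F₁ := fun i => p₁ (f (Pi.single i 1))
  have hexp : ∀ x : F₁, x = ∑ i, μ i (x : M) • xs i := by
    intro x
    have h1 : (x : M) = ∑ i, μ i (x : M) • f (Pi.single i 1) := by
      have h2 : (x : M) = f (g x) := (LinearMap.congr_fun hfg (x : M)).symm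
      conv_lhs => rw [h2, ← Finset.univ_sum_single (g (x : M))]
      rw [map_sum]
      apply Finset.sum_congr rfl
      intro i _
      rw [← map_smul]
      congr 1
      ext j
      simp [μ, Pi.single_apply]
    have h3 : x = p₁ (x : M) := (Submodule.projectionOnto_apply_left hC₁ x).symm
    conv_lhs => rw [h3, h1]
    rw [map_sum]
    apply Finset.sum_congr rfl
    intro i _
    rw [map_smul]
  have hsep : ∀ m : M, (∀ ν : Module.Dual R M, ν m = 0) → m = 0 := by
    intro m hm
    apply hg
    rw [map_zero]
    ext i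
    exact hm (LinearMap.proj i ∘ₗ g)
  -- the annihilating property
  have hcontr : ∀ (ν : Fin (n + 1) → Module.Dual R M),
      (∀ y : F₂, ν 0 (y : M) = 0) → ∀ y : Fin (n + 1) → F₁, ∏ i, ν i (y i : M) = 0 := by
    intro ν hν y
    have h1 : PiTensorProduct.map (R := R) (fun _ : Fin (n + 1) => F₁.subtype)
        (PiTensorProduct.tprod R y) ∈
        LinearMap.range (PiTensorProduct.map (R := R) (fun _ : Fin (n + 1) => F₂.subtype)) :=
      h ⟨_, rfl⟩
    obtain ⟨w, hw⟩ := h1
    have h2 : (contract ν) ∘ₗ (PiTensorProduct.map (R := R) (fun _ : Fin (n + 1) => F₂.subtype))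
        = 0 := by
      apply PiTensorProduct.ext
      ext z
      simp only [LinearMap.compMultilinearMap_apply, LinearMap.comp_apply,
        PiTensorProduct.map_tprod, contract_tprod, LinearMap.zero_apply]
      exact Finset.prod_eq_zero (Finset.mem_univ 0) (hν (z 0))
    have h3 := LinearMap.congr_fun h2 w
    rw [LinearMap.comp_apply, hw, PiTensorProduct.map_tprod, contract_tprod] at h3
    exact h3
  -- descent
  have hdesc : ∀ j : ℕ, j ≤ n → ∀ (μ' : Fin j → Module.Dual R M) (y : Fin j → F₁) (x : F₁),
      (∏ i, μ' i (y i : M)) • q (x : M) = 0 := by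
    intro j hj
    induction' h' : n - j with d ih generalizing j
    · have hjn : j = n := by omega
      subst hjn
      intro μ' y x
      apply hsep
      intro ν
      have := hcontr (Fin.cons (ν ∘ₗ q) μ') (by
        intro y'
        rw [Fin.cons_zero, LinearMap.comp_apply, hq₂, map_zero]) (Fin.cons x y)
      rw [Fin.prod_univ_succ] at this
      simp only [Fin.cons_zero, Fin.cons_succ, LinearMap.comp_apply] at this
      rw [map_smul, smul_eq_mul, mul_comm]
      exact this
    · intro μ' y x
      have hj1 : j + 1 ≤ n := by omega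
      have ih' := ih (j + 1) hj1 (by omega)
      conv_lhs => rw [hexp x]
      simp only [Submodule.coe_sum, Submodule.coe_smul, map_sum, map_smul, Finset.smul_sum]
      apply Finset.sum_eq_zero
      intro i _
      have := ih' (Fin.cons (μ i) μ') (Fin.cons x y) (xs i)
      rw [Fin.prod_univ_succ] at this
      simp only [Fin.cons_zero, Fin.cons_succ] at this
      rw [smul_smul, mul_comm]
      exact this
  intro x hx
  apply hq
  have := hdesc 0 (Nat.zero_le n) Fin.elim0 Fin.elim0 ⟨x, hx⟩
  simpa using this

end Groth.Agent.H7.TensorPowSummand
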