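import Mathlib

/-!
# Descending unramifiedness and quasi-finiteness along a thickening of the base (scheme level)
-/

set_option autoImplicit false
universe u
open CategoryTheory CategoryTheory.Limits AlgebraicGeometry TensorProduct

namespace Groth.Agent.H7.ThickLoc

section ring

variable {R S A B : Type u} [CommRing R] [CommRing S] [Algebra R S] [CommRing A] [CommRing B]
  [Algebra R A] [Algebra R B] [Algebra A B] [Algebra S B] [IsScalarTower R A B]
  [IsScalarTower R S B]

/-- if `1 ⊗ m = 0` in `S ⊗_R M` with `R → S` surjective, then `m ∈ ker • M`. -/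
theorem mem_ker_smul_of_tmul_eq_zero {M : Type u} [AddCommGroup M] [Module R M]
    (hsurj : Function.Surjective (algebraMap R S)) (m : M)
    (h : (1 : S) ⊗ₜ[R] m = 0) :
    m ∈ (RingHom.ker (algebraMap R S)) • (⊤ : Submodule R M) := by
  set I := RingHom.ker (algebraMap R S) with hI
  have hex : Function.Exact (Submodule.subtype (Submodule.restrictScalars R I))
      (Algebra.linearMap R S) := by
    intro x
    constructor
    · intro hx
      exact ⟨⟨x, hx⟩, rfl⟩
    · rintro ⟨y, rfl⟩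
      exact y.2
  have hex2 := rTensor_exact M hex hsurj
  have h1 : (LinearMap.rTensor M (Algebra.linearMap R S)) ((1 : R) ⊗ₜ[R] m) = 0 := by
    rw [LinearMap.rTensor_tmul, Algebra.linearMap_apply, map_one, h]
  obtain ⟨z, hz⟩ := (hex2 _).1 h1
  have h2 : m = TensorProduct.lid R M ((1 : R) ⊗ₜ[R] m) := by simp
  rw [h2, ← hz]
  clear hz h2 h1
  induction z using TensorProduct.induction_on with
  | zero => simp
  | tmul a n =>
    rw [LinearMap.rTensor_tmul, TensorProduct.lid_tmul]
    exact Submodule.smul_mem_smul a.2 trivial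
  | add x y hx hy =>
    rw [map_add, map_add]
    exact Submodule.add_mem _ hx hy

theorem formallyUnramified_of_isPushout_nil [Algebra.IsPushout R S A B]
    (hsurj : Function.Surjective (algebraMap R S))
    (hnil : ∀ x ∈ RingHom.ker (algebraMap R S), IsNilpotent x)
    [Algebra.FiniteType R A] [Algebra.FormallyUnramified S B] : Algebra.FormallyUnramified R A := by
  refine ⟨?_⟩
  have hbc := KaehlerDifferential.isBaseChange R S A B
  haveI : Subsingleton (Ω[B⁄S]) := inferInstance
  haveI : Subsingleton (S ⊗[R] Ω[A⁄R]) := hbc.equiv.toEquiv.subsingleton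
  -- `Ω = J Ω`
  let J : Ideal A := Ideal.map (algebraMap R A) (RingHom.ker (algebraMap R S))
  have hJ : J ≤ Ideal.jacobson ⊥ := by
    refine le_trans ?_ (Ideal.radical_le_jacobson (I := (⊥ : Ideal A)))
    change _ ≤ nilradical A
    rw [Ideal.map_le_iff_le_comap]
    intro x hx
    rw [Ideal.mem_comap, mem_nilradical]
    exact (hnil x hx).map _
  have htop : (⊤ : Submodule A (Ω[A⁄R])) ≤ J • ⊤ := by
    intro m _
    have hm := mem_ker_smul_of_tmul_eq_zero (R := R) (S := S) hsurj m (Subsingleton.elim _ _)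
    refine Submodule.smul_induction_on hm ?_ ?_
    · intro a ha n _
      rw [← algebraMap_smul A a n]
      exact Submodule.smul_mem_smul (Ideal.mem_map_of_mem _ ha) trivial
    · intro x y hx hy
      exact Submodule.add_mem _ hx hy
  have hfg : (⊤ : Submodule A (Ω[A⁄R])).FG := Module.Finite.fg_top
  have := Submodule.eq_bot_of_le_smul_of_le_jacobson_bot J ⊤ hfg htop hJ
  exact (Submodule.subsingleton_iff A).1 (subsingleton_of_bot_eq_top this.symm)

end ring

section affine

variable {U U' V V' : Scheme.{u}} {s : U ⟶ U'} {g : U ⟶ V} {g' : U' ⟶ V'} {t : V ⟶ V'}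

/-- the kernel of a surjective morphism on global sections consists of nilpotents. -/
theorem isNilpotent_of_appTop_eq_zero [CompactSpace V'] (t : V ⟶ V') [Surjective t]
    (x : Γ(V', ⊤)) (hx : t.appTop x = 0) : IsNilpotent x := by
  rw [Scheme.isNilpotent_iff_basicOpen_eq_bot]
  have h1 : t ⁻¹ᵁ (V'.basicOpen x) = ⊥ := by
    rw [Scheme.preimage_basicOpen_top, hx, Scheme.basicOpen_zero]
  ext y
  simp only [TopologicalSpace.Opens.coe_bot, Set.mem_empty_iff_false, iff_false]
  intro hy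
  obtain ⟨z, rfl⟩ := t.surjective y
  have : z ∈ t ⁻¹ᵁ (V'.basicOpen x) := hy
  rw [h1] at this
  exact this

theorem formallyUnramified_of_isPullback_affine [IsAffine U'] [IsAffine V'] [IsAffine V]
    (sq : IsPullback s g g' t) [IsClosedImmersion t] [Surjective t] [LocallyOfFiniteType g']
    [FormallyUnramified g] : FormallyUnramified g' := by
  haveI : IsAffine U := IsAffine.of_isPullback sq
  have hpo := (isPushout_appTop_of_isPullback sq).flip
  have hg : (g.appTop).hom.FormallyUnramified :=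
    (HasRingHomProperty.iff_of_isAffine (P := @FormallyUnramified)).1 inferInstance
  have hft : (g'.appTop).hom.FiniteType :=
    (HasRingHomProperty.iff_of_isAffine (P := @LocallyOfFiniteType)).1 inferInstance
  rw [HasRingHomProperty.iff_of_isAffine (P := @FormallyUnramified)]
  have hsurj : Function.Surjective t.appTop :=
    (IsClosedImmersion.isAffine_surjective_of_isAffine t).2
  letI : Algebra Γ(V', ⊤) Γ(V, ⊤) := t.appTop.hom.toAlgebra
  letI : Algebra Γ(V', ⊤) Γ(U', ⊤) := g'.appTop.hom.toAlgebra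
  letI : Algebra Γ(V, ⊤) Γ(U, ⊤) := g.appTop.hom.toAlgebra
  letI : Algebra Γ(U', ⊤) Γ(U, ⊤) := s.appTop.hom.toAlgebra
  letI : Algebra Γ(V', ⊤) Γ(U, ⊤) := (t.appTop ≫ g.appTop).hom.toAlgebra
  haveI : IsScalarTower Γ(V', ⊤) Γ(V, ⊤) Γ(U, ⊤) := IsScalarTower.of_algebraMap_eq' rfl
  haveI : IsScalarTower Γ(V', ⊤) Γ(U', ⊤) Γ(U, ⊤) := IsScalarTower.of_algebraMap_eq' (by
    change (t.appTop ≫ g.appTop).hom = (g'.appTop ≫ s.appTop).hom
    rw [hpo.w])
  haveI : Algebra.IsPushout Γ(V', ⊤) Γ(V, ⊤) Γ(U', ⊤) Γ(U, ⊤) :=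
    CommRingCat.isPushout_iff_isPushout.1 hpo
  haveI : Algebra.FiniteType Γ(V', ⊤) Γ(U', ⊤) := hft
  haveI : Algebra.FormallyUnramified Γ(V, ⊤) Γ(U, ⊤) := hg
  exact formallyUnramified_of_isPushout_nil (R := Γ(V', ⊤)) (S := Γ(V, ⊤)) (A := Γ(U', ⊤))
    (B := Γ(U, ⊤)) hsurj (fun x hx => isNilpotent_of_appTop_eq_zero t x hx)

end affine

section general

variable {U U' V V' : Scheme.{u}} {s : U ⟶ U'} {g : U ⟶ V} {g' : U' ⟶ V'} {t : V ⟶ V'}

theorem exists_preimage_of_isPullback'' {P X Y Z : Scheme.{u}} {fst : P ⟶ X} {snd : P ⟶ Y}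
    {f : X ⟶ Z} {g : Y ⟶ Z} (sq : IsPullback fst snd f g) (x : X) (y : Y) (h : f x = g y) :
    ∃ p : P, fst p = x ∧ snd p = y := by
  obtain ⟨p, hp1, hp2⟩ := Scheme.Pullback.exists_preimage_pullback (f := f) (g := g) x y h
  refine ⟨sq.isoPullback.inv p, ?_, ?_⟩
  · rw [← Scheme.Hom.comp_apply, sq.isoPullback_inv_fst, hp1]
  · rw [← Scheme.Hom.comp_apply, sq.isoPullback_inv_snd, hp2]

/-- unramifiedness descends along a thickening of the base. -/
theorem formallyUnramified_of_isPullback (sq : IsPullback s g g' t) [IsClosedImmersion t]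
    [Surjective t] [LocallyOfFiniteType g'] [FormallyUnramified g] : FormallyUnramified g' := by
  haveI : MorphismProperty.RespectsRight @FormallyUnramified @IsOpenImmersion :=
    ⟨fun i hi f hf => by
      haveI : IsOpenImmersion i := hi
      exact MorphismProperty.comp_mem _ f i hf (inferInstance : FormallyUnramified i)⟩
  rw [IsZariskiLocalAtSource.iff_exists_resLE (P := @FormallyUnramified)]
  intro x'
  obtain ⟨_, ⟨U₀, hU₀, rfl⟩, hxU₀, -⟩ :=
    V'.isBasis_affineOpens.exists_subset_of_mem_open (Set.mem_univ (g' x')) isOpen_univ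
  obtain ⟨_, ⟨W₀, hW₀, rfl⟩, hxW₀, hWU : W₀ ≤ g' ⁻¹ᵁ U₀⟩ :=
    U'.isBasis_affineOpens.exists_subset_of_mem_open hxU₀ (g' ⁻¹ᵁ U₀).isOpen
  refine ⟨U₀, W₀, hxW₀, hWU, ?_⟩
  have sq' := Scheme.Hom.isPullback_resLE sq (US := U₀) (UT := t ⁻¹ᵁ U₀) (UX := W₀)
    le_rfl hWU (UY := s ⁻¹ᵁ W₀ ⊓ g ⁻¹ᵁ (t ⁻¹ᵁ U₀)) rfl
  haveI : IsAffine (U₀ : Scheme.{u}) := hU₀
  haveI : IsAffine (W₀ : Scheme.{u}) := hW₀
  haveI : IsAffine ((t ⁻¹ᵁ U₀ : V.Opens) : Scheme.{u}) := hU₀.preimage t
  haveI : IsClosedImmersion (t.resLE U₀ (t ⁻¹ᵁ U₀) le_rfl) := by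
    rw [Scheme.Hom.resLE_eq_morphismRestrict]; infer_instance
  haveI : Surjective (t.resLE U₀ (t ⁻¹ᵁ U₀) le_rfl) := by
    rw [Scheme.Hom.resLE_eq_morphismRestrict]
    exact MorphismProperty.of_isPullback (P := @Surjective)
      (isPullback_morphismRestrict t U₀).flip inferInstance
  haveI : LocallyOfFiniteType (g'.resLE U₀ W₀ hWU) :=
    IsZariskiLocalAtSource.resLE _ inferInstance
  haveI : FormallyUnramified (g.resLE (t ⁻¹ᵁ U₀) (s ⁻¹ᵁ W₀ ⊓ g ⁻¹ᵁ (t ⁻¹ᵁ U₀)) inf_le_right) :=
    IsZariskiLocalAtSource.resLE _ inferInstance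
  exact formallyUnramified_of_isPullback_affine sq'

/-- quasi-finiteness descends along a thickening of the base. -/
theorem locallyQuasiFinite_of_isPullback (sq : IsPullback s g g' t) [IsClosedImmersion t]
    [Surjective t] [LocallyOfFiniteType g'] [LocallyQuasiFinite g] : LocallyQuasiFinite g' := by
  rw [locallyQuasiFinite_iff_isDiscrete_preimage_singleton]
  intro x'
  obtain ⟨x, rfl⟩ := t.surjective x'
  have hs : IsClosedImmersion s := MorphismProperty.of_isPullback (P := @IsClosedImmersion)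
    sq.flip inferInstance
  have heq : g' ⁻¹' {t x} = s '' (g ⁻¹' {x}) := by
    ext u'
    constructor
    · intro hu'
      obtain ⟨p, hp1, hp2⟩ := exists_preimage_of_isPullback'' sq u' x hu'
      exact ⟨p, hp2, hp1⟩
    · rintro ⟨u, hu, rfl⟩
      change g' (s u) = t x
      rw [← Scheme.Hom.comp_apply, sq.w, Scheme.Hom.comp_apply]
      exact congrArg t hu
  rw [heq]
  exact (g.isDiscrete_preimage_singleton x).image s.isEmbedding.isInducing

end general

end Groth.Agent.H7.ThickLoc
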