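import Groth.Agent.Lib.Helper7.ThickLoc1
import Groth.Agent.Lib.Helper7.Thick
import Groth.Agent.Lib.Helper7.NASA6
import Groth.Agent.Lib.Helper7.LqfField1
import Groth.Agent.Lib.Helper7.UnramLocSp
import Groth.Agent.Lib.Helper5.AlgSp.LocPCalc
import Groth.Agent.H4.UBF1
import Mathlib

/-!
# Properties of morphisms étale local on source and target, in a cartesian square of thickenings
(S10593)
-/

set_option autoImplicit false
universe u
open CategoryTheory CategoryTheory.Limits AlgebraicGeometry

namespace Groth.Agent.H7.ThickLoc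

open _root_.AlgSp Groth.Agent.H5.AlgSp Groth.Agent.H5.EtSrc

variable {S : Scheme.{u}}

/-- **Base change of a chart diagram along a cartesian square of thickenings.** -/
theorem exists_chart_baseChange {X X' Y Y' : Sp S} (i : X ⟶ X') (j : Y ⟶ Y') (f : X ⟶ Y)
    (f' : X' ⟶ Y') (hi : IsThickMor i) (hj : IsThickMor j) (hcart : IsPullback i f f' j)
    {U' V' : Over S} (a' : (yon S).obj U' ⟶ X') (b' : (yon S).obj V' ⟶ Y') (h' : U' ⟶ V')
    (comm' : a' ≫ f' = (yon S).map h' ≫ b') :
    ∃ (U V : Over S) (s : U ⟶ U') (t : V ⟶ V') (a : (yon S).obj U ⟶ X)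
      (b : (yon S).obj V ⟶ Y) (h : U ⟶ V),
      IsPullback a ((yon S).map s) i a' ∧ IsPullback b ((yon S).map t) j b' ∧
      a ≫ f = (yon S).map h ≫ b ∧ IsPullback s.left h.left h'.left t.left ∧
      IsClosedImmersion t.left ∧ Surjective t.left := by
  let U := hi.rep.pullback a'
  let V := hj.rep.pullback b'
  let s : U ⟶ U' := hi.rep.snd a'
  let t : V ⟶ V' := hj.rep.snd b'
  let a : (yon S).obj U ⟶ X := hi.rep.fst a'
  let b : (yon S).obj V ⟶ Y := hj.rep.fst b'
  have sqU : IsPullback a ((yon S).map s) i a' := hi.rep.isPullback a'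
  have sqV : IsPullback b ((yon S).map t) j b' := hj.rep.isPullback b'
  have hw : (a ≫ f) ≫ j = ((yon S).map s ≫ (yon S).map h') ≫ b' := by
    rw [Category.assoc, ← hcart.w, ← Category.assoc, sqU.w, Category.assoc, comm',
      Category.assoc]
  obtain ⟨h, hh⟩ := (yon S).map_surjective (sqV.lift (a ≫ f) ((yon S).map s ≫ (yon S).map h') hw)
  have h1 : (yon S).map h ≫ b = a ≫ f := by rw [hh]; exact sqV.lift_fst _ _ _
  have h2 : (yon S).map h ≫ (yon S).map t = (yon S).map s ≫ (yon S).map h' := by
    rw [hh]; exact sqV.lift_snd _ _ _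
  -- the outer rectangle
  have outer : IsPullback (a ≫ f) ((yon S).map s) j (a' ≫ f') := sqU.paste_horiz hcart.flip
  have outer' : IsPullback ((yon S).map h ≫ b) ((yon S).map s) j ((yon S).map h' ≫ b') := by
    rw [h1, ← comm']; exact outer
  have left : IsPullback ((yon S).map h) ((yon S).map s) ((yon S).map t) ((yon S).map h') :=
    IsPullback.of_right outer' h2 sqV
  have leftS : IsPullback h s t h' :=
    (Groth.Agent.H4.UBF.isPullback_yon_map_iff h s t h').1 left
  have leftL : IsPullback h.left s.left t.left h'.left := leftS.map (Over.forget S)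
  have ht : thick t.left := hj.property_snd b'
  exact ⟨U, V, s, t, a, b, h, sqU, sqV, h1.symm, leftL.flip, ht.1, ht.2⟩

/-- For `P` étale local on source and target which descends along thickenings of the base
(for morphisms locally of finite type), `f` has `P` iff `f'` has `P`. -/
theorem locP_iff_of_cart {X X' Y Y' : Sp S} (hX' : IsAlgSpace X') (hY' : IsAlgSpace Y')
    (i : X ⟶ X') (j : Y ⟶ Y') (f : X ⟶ Y)
    (f' : X' ⟶ Y') (hi : IsThickMor i) (hj : IsThickMor j) (hcart : IsPullback i f f' j)
    (hft' : LocP @LocallyOfFiniteType f')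
    (P : MorphismProperty Scheme.{u}) [P.IsStableUnderBaseChange] [P.IsStableUnderComposition]
    [IsEtaleLocalSource P] (hP : (@Etale : MorphismProperty Scheme.{u}) ≤ P)
    (hdesc : ∀ {U U' V V' : Scheme.{u}} {s : U ⟶ U'} {g : U ⟶ V} {g' : U' ⟶ V'} {t : V ⟶ V'},
      IsPullback s g g' t → IsClosedImmersion t → Surjective t → LocallyOfFiniteType g' →
        P g → P g') :
    LocP P f ↔ LocP P f' := by
  constructor
  · intro hf U' V' a' b' h' ha' hb' comm'
    obtain ⟨U, V, s, t, a, b, h, sqU, sqV, comm, sqS, ht1, ht2⟩ :=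
      exists_chart_baseChange i j f f' hi hj hcart a' b' h' comm'
    have hae : RepWith @Etale a :=
      MorphismProperty.of_isPullback (P := RepWith (S := S) @Etale) sqU.flip ha'
    have hbe : RepWith @Etale b :=
      MorphismProperty.of_isPullback (P := RepWith (S := S) @Etale) sqV.flip hb'
    exact hdesc sqS ht1 ht2 (hft' a' b' h' ha' hb' comm') (hf a b h hae hbe comm)
  · intro hf'
    obtain ⟨V', b', hb'e, hb's⟩ := hY'.atlas
    obtain ⟨U', a', h', ha'e, ha's, comm'⟩ := exists_chart_diagram_surj hX' f' hb'e hb's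
    obtain ⟨U, V, s, t, a, b, h, sqU, sqV, comm, sqS, ht1, ht2⟩ :=
      exists_chart_baseChange i j f f' hi hj hcart a' b' h' comm'
    have hae : RepWith @Etale a :=
      MorphismProperty.of_isPullback (P := RepWith (S := S) @Etale) sqU.flip ha'e
    have has : RepWith @Surjective a :=
      MorphismProperty.of_isPullback (P := RepWith (S := S) @Surjective) sqU.flip ha's
    have hbe : RepWith @Etale b :=
      MorphismProperty.of_isPullback (P := RepWith (S := S) @Etale) sqV.flip hb'e
    have hh : P h.left := MorphismProperty.of_isPullback (P := P) sqS (hf' a' b' h' ha'e hb'e comm')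
    exact locP_of_one_chart hP a b h hae has hbe comm hh

/-- S10593. -/
theorem S10593_main {X X' Y Y' : AlgSp.Space S} (i : X ⟶ X') (j : Y ⟶ Y')
    (f : X ⟶ Y) (f' : X' ⟶ Y')
    (hi : AlgSp.IsThickMor i.hom)
    (hj : AlgSp.IsThickMor j.hom)
    (hcart : IsPullback i.hom f.hom f'.hom j.hom)
    (hft' : AlgSp.LocP @LocallyOfFiniteType f'.hom) :
    (AlgSp.LocP (@LocallyQuasiFinite ⊓ @LocallyOfFiniteType) f.hom ↔
      AlgSp.LocP (@LocallyQuasiFinite ⊓ @LocallyOfFiniteType) f'.hom) ∧
    (AlgSp.LocP (@LocallyOfFiniteType ⊓ @FormallyUnramified) f.hom ↔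
      AlgSp.LocP (@LocallyOfFiniteType ⊓ @FormallyUnramified) f'.hom) := by
  constructor
  · refine locP_iff_of_cart X'.property Y'.property i.hom j.hom f.hom f'.hom hi hj hcart hft' _
      Groth.Agent.H7.LqfField.etale_le_lqf_lft ?_
    intro U U' V V' s g g' t sq ht1 ht2 hg' hg
    haveI := ht1; haveI := ht2; haveI := hg'
    haveI : LocallyQuasiFinite g := hg.1
    exact ⟨locallyQuasiFinite_of_isPullback sq, hg'⟩
  · refine locP_iff_of_cart X'.property Y'.property i.hom j.hom f.hom f'.hom hi hj hcart hft' _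
      Groth.Agent.H7.UnramLocSp.etale_le_unr ?_
    intro U U' V V' s g g' t sq ht1 ht2 hg' hg
    haveI := ht1; haveI := ht2; haveI := hg'
    haveI : FormallyUnramified g := hg.2
    exact ⟨hg', formallyUnramified_of_isPullback sq⟩

end Groth.Agent.H7.ThickLoc
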