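import Mathlib
import Groth.Prelude.Def_EtBase
import Groth.Agent.Lib.Helper7.CI6

/-!
# Helper7: ThkA — base change of étale schemes along a thickening is fully faithful
-/

set_option autoImplicit false

open CategoryTheory Limits AlgebraicGeometry Opposite MorphismProperty

namespace Groth.Agent.H7.Thk

universe u

set_option backward.isDefEq.respectTransparency false in
/-- equalizers of morphisms into an unramified scheme are open immersions -/
lemma isOpenImmersion_equalizer_ι_left {S : Scheme.{u}} {X Y : Over S} [FormallyUnramified Y.hom]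
    [LocallyOfFiniteType Y.hom] (f g : X ⟶ Y) : IsOpenImmersion (equalizer.ι f g).left := by
  refine MorphismProperty.of_isPullback
    ((Limits.isPullback_equalizer_prod f g).map (Over.forget _)).flip ?_
  rw [← MorphismProperty.cancel_right_of_respectsIso @IsOpenImmersion _
    (Over.prodLeftIsoPullback Y Y).hom]
  convert! (inferInstance : IsOpenImmersion (pullback.diagonal Y.hom))
  ext1 <;> simp [← Over.comp_left]

/-- two morphisms into an unramified `Z`-scheme which agree after composing with a surjective
morphism are equal -/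
lemma ext_of_surjective_of_unramified {W X Y Z : Scheme.{u}} {f g : X ⟶ Y}
    (s : Y ⟶ Z) [FormallyUnramified s] [LocallyOfFiniteType s] (h : f ≫ s = g ≫ s)
    (ι : W ⟶ X) [Surjective ι] (hU : ι ≫ f = ι ≫ g) : f = g := by
  let X' : Over Z := Over.mk (f ≫ s)
  let Y' : Over Z := Over.mk s
  let U' : Over Z := Over.mk (ι ≫ f ≫ s)
  let f' : X' ⟶ Y' := Over.homMk f
  let g' : X' ⟶ Y' := Over.homMk g
  let ι' : U' ⟶ X' := Over.homMk ι
  haveI : FormallyUnramified Y'.hom := ‹_›
  haveI : LocallyOfFiniteType Y'.hom := ‹_›
  haveI := isOpenImmersion_equalizer_ι_left f' g'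
  have hl : (equalizer.lift ι' (by ext1; exact hU : ι' ≫ f' = ι' ≫ g')).left ≫
      (equalizer.ι f' g').left = ι := by
    rw [← Over.comp_left, equalizer.lift_ι]
    rfl
  haveI : Surjective (equalizer.ι f' g').left := by
    refine ⟨fun x => ?_⟩
    obtain ⟨w, rfl⟩ := ι.surjective x
    refine ⟨(equalizer.lift ι' (by ext1; exact hU : ι' ≫ f' = ι' ≫ g')).left w, ?_⟩
    rw [← Scheme.Hom.comp_apply, hl]
  haveI : IsIso (equalizer.ι f' g').left :=
    (isIso_iff_isOpenImmersion_and_surjective _).2 ⟨inferInstance, inferInstance⟩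
  rw [← cancel_epi (equalizer.ι f' g').left]
  exact congr($(equalizer.condition f' g').left)

/-- an étale universally injective morphism is an open immersion (copy of helper3's
`EtGraph.isOpenImmersion_of_etale_of_universallyInjective`) -/
lemma isOpenImmersion_of_etale_of_universallyInjective {X Y : Scheme.{u}} (h : X ⟶ Y)
    [Etale h] [UniversallyInjective h] : IsOpenImmersion h := by
  haveI : Surjective (pullback.diagonal h) := (UniversallyInjective.iff_diagonal h).1 inferInstance
  haveI : IsIso (pullback.diagonal h) :=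
    (isIso_iff_isOpenImmersion_and_surjective _).2 ⟨inferInstance, inferInstance⟩
  haveI : Mono h := (pullback.isIso_diagonal_iff h).1 inferInstance
  exact IsOpenImmersion.of_flat_of_mono h

/-- a morphism whose restriction to a thickening of the source is a monomorphism into a
subobject of the target is universally injective -/
lemma universallyInjective_of_thickening {W₀ W U₀ U : Scheme.{u}} (a : W ⟶ U) (pW : W₀ ⟶ W)
    [IsClosedImmersion pW] [Surjective pW] (a₀ : W₀ ⟶ U₀) [Mono a₀] (pU : U₀ ⟶ U) [Mono pU]
    (w : pW ≫ a = a₀ ≫ pU) : UniversallyInjective a := by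
  have h := (tfae_universallyInjective a).out 0 1
  rw [h]
  intro K _ g₁ g₂ hg
  -- lift `g₁`, `g₂` to `W₀`
  have key : ∀ g : Spec (.of K) ⟶ W, ∃ g' : Spec (.of K) ⟶ W₀, g' ≫ pW = g := by
    intro g
    haveI : IsClosedImmersion (pullback.fst g pW) := inferInstance
    haveI : Surjective (pullback.fst g pW) := inferInstance
    haveI : IsIso (pullback.fst g pW) :=
      isIso_of_isClosedImmersion_of_surjective (pullback.fst g pW)
    refine ⟨inv (pullback.fst g pW) ≫ pullback.snd g pW, ?_⟩
    rw [Category.assoc, ← pullback.condition, IsIso.inv_hom_id_assoc]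
  obtain ⟨g₁', rfl⟩ := key g₁
  obtain ⟨g₂', rfl⟩ := key g₂
  have : g₁' ≫ a₀ ≫ pU = g₂' ≫ a₀ ≫ pU := by
    rw [← w]
    simpa using hg
  rw [← Category.assoc, ← Category.assoc, cancel_mono, cancel_mono] at this
  rw [this]

section

variable {S₀ S : Scheme.{u}} (i : S₀ ⟶ S) [IsClosedImmersion i] [Surjective i]

instance (U : S.Etale) : IsClosedImmersion (pullback.fst U.hom i) :=
  MorphismProperty.pullback_fst (P := @IsClosedImmersion) _ _ inferInstance

instance (U : S.Etale) : Surjective (pullback.fst U.hom i) :=
  MorphismProperty.pullback_fst (P := @Surjective) _ _ inferInstance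

theorem faithful_bc : (EtCoh.bc i).Faithful := by
  refine ⟨fun {U U'} a b hab => ?_⟩
  apply MorphismProperty.Over.Hom.ext
  refine ext_of_surjective_of_unramified U'.hom ?_ (pullback.fst U.hom i) ?_
  · rw [MorphismProperty.Over.w a, MorphismProperty.Over.w b]
  · rw [← CI.bc_map_left_fst i a, ← CI.bc_map_left_fst i b, hab]

set_option backward.isDefEq.respectTransparency false in
/-- a morphism of étale schemes whose base change is an open immersion is an open immersion -/
theorem isOpenImmersion_of_bc {W U : S.Etale} (a : W ⟶ U)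
    [IsOpenImmersion ((EtCoh.bc i).map a).left] : IsOpenImmersion a.left := by
  haveI : Mono ((EtCoh.bc i).map a).left := by
    have := (inferInstance : IsOpenImmersion ((EtCoh.bc i).map a).left)
    infer_instance
  haveI := universallyInjective_of_thickening a.left (pullback.fst W.hom i)
    ((EtCoh.bc i).map a).left (pullback.fst U.hom i) (CI.bc_map_left_fst i a).symm
  exact isOpenImmersion_of_etale_of_universallyInjective a.left

set_option backward.isDefEq.respectTransparency false in
theorem isIso_of_bc {W U : S.Etale} (a : W ⟶ U) [IsIso ((EtCoh.bc i).map a)] : IsIso a := by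
  haveI : IsIso ((EtCoh.bc i).map a).left :=
    inferInstanceAs (IsIso ((Scheme.Etale.forget S₀ ⋙ Over.forget S₀).map ((EtCoh.bc i).map a)))
  haveI := isOpenImmersion_of_bc i a
  haveI : Surjective a.left := by
    refine ⟨fun x => ?_⟩
    obtain ⟨x₀, rfl⟩ := (pullback.fst U.hom i).surjective x
    refine ⟨(pullback.fst W.hom i) ((inv ((EtCoh.bc i).map a).left) x₀), ?_⟩
    have e : inv ((EtCoh.bc i).map a).left ≫ pullback.fst W.hom i ≫ a.left =
        pullback.fst U.hom i := by
      rw [← CI.bc_map_left_fst i a, IsIso.inv_hom_id_assoc]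
    exact congrArg (fun q => (q : _ ⟶ U.left) x₀) e
  haveI : IsIso a.left :=
    (isIso_iff_isOpenImmersion_and_surjective _).2 ⟨inferInstance, inferInstance⟩
  haveI : IsIso ((Scheme.Etale.forget S ⋙ Over.forget S).map a) := ‹IsIso a.left›
  exact isIso_of_reflects_iso a (Scheme.Etale.forget S ⋙ Over.forget S)

theorem full_bc : (EtCoh.bc i).Full := by
  refine ⟨fun {U U'} h => ?_⟩
  obtain ⟨W, a, b, ha, hab⟩ := CI.exists_lift_hom i U U' h
  haveI := ha
  haveI := isIso_of_bc i a
  refine ⟨inv a ≫ b, ?_⟩
  rw [Functor.map_comp, Functor.map_inv, IsIso.inv_comp_eq, hab]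

end

end Groth.Agent.H7.Thk
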