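import Mathlib
import Groth.Prelude.Def_EtBase
import Groth.Agent.Lib.Helper7.ThkA

/-!
# Helper7: ThkB — liftable opens of an étale scheme over a thickening
-/

set_option autoImplicit false

open CategoryTheory Limits AlgebraicGeometry Opposite MorphismProperty

namespace Groth.Agent.H7.Thk

universe u

variable {S₀ S : Scheme.{u}} (i : S₀ ⟶ S) [IsClosedImmersion i] [Surjective i]

/-- the thickening map `U ×_S S₀ ⟶ U` -/
noncomputable def pr (U : S.Etale) : ((EtCoh.bc i).obj U).left ⟶ U.left := pullback.fst U.hom i

instance (U : S.Etale) : IsClosedImmersion (pr i U) :=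
  MorphismProperty.pullback_fst (P := @IsClosedImmersion) _ _ inferInstance

instance (U : S.Etale) : Surjective (pr i U) :=
  MorphismProperty.pullback_fst (P := @Surjective) _ _ inferInstance

lemma pr_nat {W U : S.Etale} (a : W ⟶ U) :
    ((EtCoh.bc i).map a).left ≫ pr i U = pr i W ≫ a.left := CI.bc_map_left_fst i a

lemma pr_hom (U : S.Etale) : pr i U ≫ U.hom = ((EtCoh.bc i).obj U).hom ≫ i :=
  pullback.condition

lemma pr_isPullback {W U : S.Etale} (a : W ⟶ U) :
    IsPullback ((EtCoh.bc i).map a).left (pr i W) (pr i U) a.left := CI.bc_map_isPullback i a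

variable (V : S₀.Etale)

/-- an open of `V` is liftable if it is the image of an open immersion from the base change of
an étale `S`-scheme -/
def Liftable (W : V.left.Opens) : Prop :=
  ∃ (U : S.Etale) (m : (EtCoh.bc i).obj U ⟶ V), IsOpenImmersion m.left ∧
    Set.range m.left = (W : Set V.left)


variable {V}

set_option backward.isDefEq.respectTransparency false in
lemma liftable_of_le {W W' : V.left.Opens} (h : W ≤ W') (hW' : Liftable i V W') :
    Liftable i V W := by
  obtain ⟨U', m', hm', hr'⟩ := hW'
  haveI := hm'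
  let c := pr i U'
  let O₀ : Set ((EtCoh.bc i).obj U').left := m'.left ⁻¹' (W : Set V.left)
  have hO₀ : IsOpen O₀ := W.2.preimage m'.left.continuous
  let O : U'.left.Opens := ⟨(c '' O₀ᶜ)ᶜ,
    (c.isClosedEmbedding.isClosedMap _ hO₀.isClosed_compl).isOpen_compl⟩
  let U : S.Etale := Scheme.Etale.mk (O.ι ≫ U'.hom)
  let w : U ⟶ U' := MorphismProperty.Over.homMk O.ι rfl
  have hpb := pr_isPullback i w
  haveI : IsOpenImmersion ((EtCoh.bc i).map w).left :=
    MorphismProperty.of_isPullback (P := @IsOpenImmersion) hpb.flip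
      (inferInstance : IsOpenImmersion O.ι)
  have hr : Set.range ((EtCoh.bc i).map w).left = O₀ := by
    have h1 := Scheme.image_preimage_eq_of_isPullback hpb.flip Set.univ
    rw [Set.preimage_univ, Set.image_univ, Set.image_univ] at h1
    rw [h1]
    have h2 : Set.range w.left = (O : Set U'.left) := by
      change Set.range O.ι = _
      exact Scheme.Opens.range_ι O
    rw [h2]
    change c ⁻¹' (c '' O₀ᶜ)ᶜ = O₀
    rw [Set.preimage_compl, Set.preimage_image_eq _ c.isClosedEmbedding.injective, compl_compl]
  refine ⟨U, (EtCoh.bc i).map w ≫ m', ?_, ?_⟩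
  · change IsOpenImmersion (((EtCoh.bc i).map w).left ≫ m'.left)
    infer_instance
  · change Set.range (((EtCoh.bc i).map w).left ≫ m'.left) = _
    rw [Scheme.Hom.comp_base, TopCat.coe_comp, Set.range_comp, hr]
    change m'.left '' (m'.left ⁻¹' (W : Set V.left)) = _
    rw [Set.image_preimage_eq_inter_range, hr', Set.inter_eq_left]
    exact h

set_option backward.isDefEq.respectTransparency false in
lemma exists_liftable_mem (v : V.left) : ∃ W : V.left.Opens, Liftable i V W ∧ v ∈ W := by
  obtain ⟨U₁, q, hq, h, hh, hopen, hv⟩ := CI.exists_etale_lift i V.hom v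
  haveI := hq
  haveI := hopen
  let U : S.Etale := Scheme.Etale.mk q
  let m : (EtCoh.bc i).obj U ⟶ V := MorphismProperty.Over.homMk h hh
  refine ⟨h.opensRange, ⟨U, m, hopen, rfl⟩, hv⟩


variable (V)

/-- the liftable opens -/
def J : Type u := {W : V.left.Opens // Liftable i V W}

instance : Preorder (J i V) := Subtype.preorder _

variable {V}

/-- chosen lift -/
noncomputable def lobj (W : J i V) : S.Etale := W.2.choose

/-- chosen open immersion -/
noncomputable def lm (W : J i V) : (EtCoh.bc i).obj (lobj i W) ⟶ V := W.2.choose_spec.choose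

instance (W : J i V) : IsOpenImmersion (lm i W).left := W.2.choose_spec.choose_spec.1

lemma range_lm (W : J i V) : Set.range (lm i W).left = (W.1 : Set V.left) :=
  W.2.choose_spec.choose_spec.2

set_option backward.isDefEq.respectTransparency false in
/-- transition maps downstairs -/
noncomputable def tr {W W' : J i V} (h : W ≤ W') :
    (EtCoh.bc i).obj (lobj i W) ⟶ (EtCoh.bc i).obj (lobj i W') :=
  MorphismProperty.Over.homMk (IsOpenImmersion.lift (lm i W').left (lm i W).left (by
    rw [range_lm, range_lm]; exact h)) (by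
    rw [← MorphismProperty.Over.w (lm i W'), ← Category.assoc, IsOpenImmersion.lift_fac,
      MorphismProperty.Over.w (lm i W)])

set_option backward.isDefEq.respectTransparency false in
lemma tr_lm {W W' : J i V} (h : W ≤ W') : tr i h ≫ lm i W' = lm i W := by
  apply MorphismProperty.Over.Hom.ext
  exact IsOpenImmersion.lift_fac _ _ _

instance mono_lm (W : J i V) : Mono (lm i W) := by
  refine ⟨fun {Z} a b hab => ?_⟩
  apply MorphismProperty.Over.Hom.ext
  have : a.left ≫ (lm i W).left = b.left ≫ (lm i W).left := congrArg (fun t => t.left) hab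
  exact (cancel_mono _).1 this

lemma tr_refl (W : J i V) : tr i (le_refl W) = 𝟙 _ := by
  rw [← cancel_mono (lm i W), tr_lm, Category.id_comp]

lemma tr_trans {W W' W'' : J i V} (h : W ≤ W') (h' : W' ≤ W'') :
    tr i h ≫ tr i h' = tr i (h.trans h') := by
  rw [← cancel_mono (lm i W''), Category.assoc, tr_lm, tr_lm, tr_lm]

instance : (EtCoh.bc i).Full := full_bc i
instance : (EtCoh.bc i).Faithful := faithful_bc i

/-- the lifted diagram -/
noncomputable def L : J i V ⥤ S.Etale where
  obj W := lobj i W
  map f := (EtCoh.bc i).preimage (tr i (leOfHom f))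
  map_id W := by
    apply (EtCoh.bc i).map_injective
    rw [Functor.map_preimage, CategoryTheory.Functor.map_id]
    exact tr_refl i W
  map_comp f g := by
    apply (EtCoh.bc i).map_injective
    rw [Functor.map_preimage, Functor.map_comp, Functor.map_preimage, Functor.map_preimage]
    exact (tr_trans i _ _).symm

lemma bc_map_L {W W' : J i V} (f : W ⟶ W') : (EtCoh.bc i).map ((L i).map f) = tr i (leOfHom f) :=
  Functor.map_preimage _ _


/-- the identification of the open `W` with the base change of its lift -/
noncomputable def eps (W : J i V) : (W.1 : Scheme.{u}) ≅ ((EtCoh.bc i).obj (lobj i W)).left :=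
  IsOpenImmersion.isoOfRangeEq W.1.ι (lm i W).left (by
    rw [range_lm]; exact Scheme.Opens.range_ι W.1)

lemma eps_hom_lm (W : J i V) : (eps i W).hom ≫ (lm i W).left = W.1.ι :=
  IsOpenImmersion.isoOfRangeEq_hom_fac _ _ _

lemma eps_nat {W W' : J i V} (h : W ≤ W') :
    V.left.homOfLE h ≫ (eps i W').hom = (eps i W).hom ≫ (tr i h).left := by
  rw [← cancel_mono (lm i W').left, Category.assoc, Category.assoc, eps_hom_lm,
    Scheme.homOfLE_ι]
  have : (tr i h).left ≫ (lm i W').left = (lm i W).left :=
    congrArg (fun t => t.left) (tr_lm i h)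
  rw [this, eps_hom_lm]

/-- the thickening `W ⟶ U_W` -/
noncomputable def sig (W : J i V) : (W.1 : Scheme.{u}) ⟶ (lobj i W).left :=
  (eps i W).hom ≫ pr i (lobj i W)

instance (W : J i V) : IsClosedImmersion (sig i W) := by
  unfold sig; infer_instance

instance (W : J i V) : Surjective (sig i W) := by
  unfold sig; infer_instance

set_option backward.isDefEq.respectTransparency false in
lemma sig_nat {W W' : J i V} (f : W ⟶ W') :
    V.left.homOfLE (leOfHom f) ≫ sig i W' = sig i W ≫ ((L i).map f).left := by
  have h1 : ((EtCoh.bc i).map ((L i).map f)).left = (tr i (leOfHom f)).left := by rw [bc_map_L]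
  have h2 : (tr i (leOfHom f)).left ≫ pr i (lobj i W') = pr i (lobj i W) ≫ ((L i).map f).left := by
    rw [← h1]; exact pr_nat i ((L i).map f)
  unfold sig
  rw [Category.assoc, ← h2, ← Category.assoc, ← Category.assoc, eps_nat]

lemma sig_hom (W : J i V) : sig i W ≫ (lobj i W).hom = W.1.ι ≫ V.hom ≫ i := by
  unfold sig
  rw [Category.assoc, pr_hom, ← MorphismProperty.Over.w (lm i W), ← Category.assoc,
    ← Category.assoc, eps_hom_lm, Category.assoc]

lemma sig_injective (W : J i V) : Function.Injective (sig i W) :=
  (sig i W).isClosedEmbedding.injective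

/-- the diagram of schemes -/
noncomputable def F : J i V ⥤ Scheme.{u} := L i ⋙ Scheme.Etale.forget S ⋙ Over.forget S

lemma F_map {W W' : J i V} (f : W ⟶ W') : (F i).map f = ((L i).map f).left := rfl

set_option backward.isDefEq.respectTransparency false in
instance {W W' : J i V} (f : W ⟶ W') : IsOpenImmersion ((F i).map f) := by
  rw [F_map]
  haveI : IsOpenImmersion ((EtCoh.bc i).map ((L i).map f)).left := by
    rw [bc_map_L]
    have : (tr i (leOfHom f)).left ≫ (lm i W').left = (lm i W).left :=
      congrArg (fun t => t.left) (tr_lm i (leOfHom f))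
    haveI : IsOpenImmersion ((tr i (leOfHom f)).left ≫ (lm i W').left) := by
      rw [this]; infer_instance
    exact IsOpenImmersion.of_comp _ (lm i W').left
  exact isOpenImmersion_of_bc i ((L i).map f)


lemma F_map_sig {W W' : J i V} (f : W ⟶ W') (w : W.1) :
    ((F i).map f) (sig i W w) = sig i W' (V.left.homOfLE (leOfHom f) w) := by
  exact (congrArg (fun q => (q : (W.1 : Scheme.{u}) ⟶ (lobj i W').left) w) (sig_nat i f)).symm

instance : ((F (V := V) i) ⋙ Scheme.forget).IsLocallyDirected where
  cond {W1 W2 W3} f1 f2 x1 x2 h := by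
    change ((F i).map f1) x1 = ((F i).map f2) x2 at h
    obtain ⟨w1, rfl⟩ := (sig i W1).surjective x1
    obtain ⟨w2, rfl⟩ := (sig i W2).surjective x2
    rw [F_map_sig, F_map_sig] at h
    have h3 := sig_injective i W3 h
    have hv : (w1.1 : V.left) = w2.1 := by
      have := congrArg Subtype.val h3
      rwa [Scheme.homOfLE_apply, Scheme.homOfLE_apply] at this
    let W : J i V := ⟨W1.1 ⊓ W2.1, liftable_of_le i inf_le_left W1.2⟩
    have hW1 : W ≤ W1 := (inf_le_left : W1.1 ⊓ W2.1 ≤ W1.1)
    have hW2 : W ≤ W2 := (inf_le_right : W1.1 ⊓ W2.1 ≤ W2.1)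
    let w : W.1 := ⟨w1.1, ⟨w1.2, hv ▸ w2.2⟩⟩
    refine ⟨W, homOfLE hW1, homOfLE hW2, sig i W w, ?_, ?_⟩
    · change ((F i).map (homOfLE hW1)) (sig i W w) = sig i W1 w1
      rw [F_map_sig]
      congr 1
      apply Subtype.ext
      rw [Scheme.homOfLE_apply]
    · change ((F i).map (homOfLE hW2)) (sig i W w) = sig i W2 w2
      rw [F_map_sig]
      congr 1
      apply Subtype.ext
      rw [Scheme.homOfLE_apply]
      exact hv

end Groth.Agent.H7.Thk
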