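import Mathlib
import Groth.Prelude.Def_EtBase
import Groth.Agent.Lib.Helper7.ThkB

/-!
# Helper7: ThkC — gluing the local lifts; essential surjectivity
-/

set_option autoImplicit false

open CategoryTheory Limits AlgebraicGeometry Opposite MorphismProperty

namespace Groth.Agent.H7.Thk

universe u

variable {S₀ S : Scheme.{u}} (i : S₀ ⟶ S) [IsClosedImmersion i] [Surjective i] (V : S₀.Etale)

/-- the glued scheme -/
noncomputable def U₁ : Scheme.{u} := colimit (F (V := V) i)

/-- the open pieces -/
noncomputable def ιU (W : J i V) : (lobj i W).left ⟶ U₁ i V := colimit.ι (F i) W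

instance (W : J i V) : IsOpenImmersion (ιU i V W) :=
  inferInstanceAs (IsOpenImmersion (colimit.ι (F (V := V) i) W))

lemma ιU_w {W W' : J i V} (f : W ⟶ W') : ((L i).map f).left ≫ ιU i V W' = ιU i V W :=
  colimit.w (F i) f

lemma ιU_jointly_surjective (x : U₁ i V) : ∃ (W : J i V) (y : (lobj i W).left), ιU i V W y = x :=
  Scheme.IsLocallyDirected.ι_jointly_surjective (F i) x

/-- the structure cocone -/
noncomputable def qCocone : Cocone (F (V := V) i) where
  pt := S
  ι := { app := fun W => (lobj i W).hom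
         naturality := fun W W' f => by
           change ((L i).map f).left ≫ (lobj i W').hom = (lobj i W).hom ≫ 𝟙 _
           rw [Category.comp_id]
           exact MorphismProperty.Over.w ((L i).map f) }

/-- the structure morphism of the glued scheme -/
noncomputable def q : U₁ i V ⟶ S := colimit.desc (F i) (qCocone i V)

lemma ιU_q (W : J i V) : ιU i V W ≫ q i V = (lobj i W).hom :=
  colimit.ι_desc (qCocone i V) W

instance : Etale (q i V) := by
  change Etale (colimit.desc (F (V := V) i) (qCocone i V))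
  rw [IsZariskiLocalAtSource.iff_of_openCover (P := @Etale)
    (Scheme.IsLocallyDirected.openCover (F (V := V) i))]
  intro W
  change Etale (ιU i V W ≫ q i V)
  rw [ιU_q]
  infer_instance


lemma ιU_eq_iff {W W' : J i V} {x : (lobj i W).left} {x' : (lobj i W').left} :
    ιU i V W x = ιU i V W' x' ↔ ∃ (W'' : J i V) (f : W'' ⟶ W) (f' : W'' ⟶ W')
      (y : (lobj i W'').left), ((F i).map f) y = x ∧ ((F i).map f') y = x' :=
  Scheme.IsLocallyDirected.ι_eq_ι_iff (F i)

/-- the cover of `V` by the liftable opens -/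
@[simps I₀ X f]
noncomputable def cov : V.left.OpenCover where
  I₀ := J i V
  X W := W.1
  f W := W.1.ι
  mem₀ := by
    rw [Scheme.presieve₀_mem_precoverage_iff]
    refine ⟨fun x ↦ ?_, inferInstance⟩
    obtain ⟨W, hW, hx⟩ := exists_liftable_mem i x
    exact ⟨⟨W, hW⟩, ⟨x, hx⟩, rfl⟩

instance : Preorder (cov i V).I₀ := inferInstanceAs <| Preorder (J i V)

set_option backward.isDefEq.respectTransparency.types false in
set_option backward.defeqAttrib.useBackward true in
noncomputable instance : Scheme.Cover.LocallyDirected (cov i V) :=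
  .ofIsBasisOpensRange (by intros; simp; rfl) <| by
    rw [TopologicalSpace.Opens.isBasis_iff_nbhd]
    intro O x hx
    obtain ⟨W, hW, hxW⟩ := exists_liftable_mem i x
    refine ⟨W ⊓ O, ⟨⟨W ⊓ O, liftable_of_le i inf_le_left hW⟩, ?_⟩, ⟨hxW, hx⟩, inf_le_right⟩
    simp

set_option backward.isDefEq.respectTransparency.types false in
lemma cov_trans {W W' : J i V} (h : W ≤ W') :
    Scheme.Cover.trans (cov i V) (homOfLE h) = V.left.homOfLE h := rfl


set_option backward.isDefEq.respectTransparency false in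
lemma theta_compat {W W' : J i V} (f : W ⟶ W') :
    V.left.homOfLE (leOfHom f) ≫ sig i W' ≫ ιU i V W' = sig i W ≫ ιU i V W := by
  have h1 := sig_nat i f
  have h2 := ιU_w i V f
  calc V.left.homOfLE (leOfHom f) ≫ sig i W' ≫ ιU i V W'
      = (V.left.homOfLE (leOfHom f) ≫ sig i W') ≫ ιU i V W' := (Category.assoc _ _ _).symm
    _ = (sig i W ≫ ((L i).map f).left) ≫ ιU i V W' := by rw [h1]
    _ = sig i W ≫ (((L i).map f).left ≫ ιU i V W') := Category.assoc _ _ _
    _ = _ := by rw [h2]

set_option backward.isDefEq.respectTransparency.types false in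
/-- the thickening `V ⟶ U₁` -/
noncomputable def theta : V.left ⟶ U₁ i V :=
  (cov i V).glueMorphismsOfLocallyDirected (fun W => sig i W ≫ ιU i V W)
    (fun {W W'} f => theta_compat i V f)

set_option backward.isDefEq.respectTransparency.types false in
lemma cov_theta (W : J i V) : W.1.ι ≫ theta i V = sig i W ≫ ιU i V W :=
  (cov i V).map_glueMorphismsOfLocallyDirected (fun W => sig i W ≫ ιU i V W)
    (fun {W W'} f => theta_compat i V f) W

lemma theta_q : theta i V ≫ q i V = V.hom ≫ i := by
  apply (cov i V).hom_ext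
  intro W
  change W.1.ι ≫ theta i V ≫ q i V = W.1.ι ≫ V.hom ≫ i
  rw [← Category.assoc, cov_theta, Category.assoc, ιU_q, sig_hom]


lemma theta_apply (W : J i V) (w : W.1) : theta i V (W.1.ι w) = ιU i V W (sig i W w) :=
  congrArg (fun g => (g : (W.1 : Scheme.{u}) ⟶ U₁ i V) w) (cov_theta i V W)

lemma theta_injective : Function.Injective (theta i V) := by
  intro v₁ v₂ h
  obtain ⟨W₁, hW₁, hv₁⟩ := exists_liftable_mem i v₁
  obtain ⟨W₂, hW₂, hv₂⟩ := exists_liftable_mem i v₂
  let J₁ : J i V := ⟨W₁, hW₁⟩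
  let J₂ : J i V := ⟨W₂, hW₂⟩
  have e₁ : v₁ = J₁.1.ι ⟨v₁, hv₁⟩ := rfl
  have e₂ : v₂ = J₂.1.ι ⟨v₂, hv₂⟩ := rfl
  rw [e₁, e₂, theta_apply, theta_apply, ιU_eq_iff] at h
  obtain ⟨W'', f, f', y, hy, hy'⟩ := h
  obtain ⟨w'', rfl⟩ := (sig i W'').surjective y
  rw [F_map_sig] at hy hy'
  have h1 := congrArg Subtype.val (sig_injective i J₁ hy)
  have h2 := congrArg Subtype.val (sig_injective i J₂ hy')
  rw [Scheme.homOfLE_apply] at h1 h2
  exact h1.symm.trans h2

/-- the comparison morphism -/
noncomputable def psi : V.left ⟶ pullback (q i V) i :=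
  pullback.lift (theta i V) V.hom (theta_q i V)

lemma psi_fst : psi i V ≫ pullback.fst (q i V) i = theta i V := pullback.lift_fst _ _ _

lemma psi_snd : psi i V ≫ pullback.snd (q i V) i = V.hom := pullback.lift_snd _ _ _

instance : Etale (psi i V) := by
  haveI : Etale (psi i V ≫ pullback.snd (q i V) i) := by rw [psi_snd]; infer_instance
  exact Etale.of_comp (psi i V) (pullback.snd (q i V) i)

instance : Surjective (psi i V) := by
  refine ⟨fun z => ?_⟩
  obtain ⟨W, y, hy⟩ := ιU_jointly_surjective i V (pullback.fst (q i V) i z)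
  obtain ⟨w, rfl⟩ := (sig i W).surjective y
  refine ⟨W.1.ι w, ?_⟩
  apply (pullback.fst (q i V) i).isClosedEmbedding.injective
  rw [← hy, ← theta_apply, ← Scheme.Hom.comp_apply, psi_fst]

instance : UniversallyInjective (psi i V) := by
  have h := (tfae_universallyInjective (psi i V)).out 0 1
  rw [h]
  intro K _ g₁ g₂ hg
  have hθ : g₁ ≫ theta i V = g₂ ≫ theta i V := by
    rw [← psi_fst, ← Category.assoc, ← Category.assoc]
    exact congrArg (· ≫ pullback.fst (q i V) i) hg
  let pt : Spec (.of K) := default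
  have hv : g₁ pt = g₂ pt := by
    apply theta_injective i V
    exact congrArg (fun g => (g : Spec (.of K) ⟶ U₁ i V) pt) hθ
  obtain ⟨W, hW, hvW⟩ := exists_liftable_mem i (g₁ pt)
  let Jw : J i V := ⟨W, hW⟩
  have hr₁ : Set.range g₁ ⊆ Set.range Jw.1.ι := by
    rw [Scheme.Opens.range_ι]
    rintro _ ⟨x, rfl⟩
    have : x = pt := Subsingleton.elim _ _
    rw [this]; exact hvW
  have hr₂ : Set.range g₂ ⊆ Set.range Jw.1.ι := by
    rw [Scheme.Opens.range_ι]
    rintro _ ⟨x, rfl⟩
    have : x = pt := Subsingleton.elim _ _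
    rw [this, ← hv]; exact hvW
  have e₁ : IsOpenImmersion.lift Jw.1.ι g₁ hr₁ ≫ Jw.1.ι = g₁ := IsOpenImmersion.lift_fac _ _ _
  have e₂ : IsOpenImmersion.lift Jw.1.ι g₂ hr₂ ≫ Jw.1.ι = g₂ := IsOpenImmersion.lift_fac _ _ _
  rw [← e₁, ← e₂, Category.assoc, Category.assoc, cov_theta, ← Category.assoc, ← Category.assoc]
    at hθ
  have h3 := (cancel_mono _).1 hθ
  have h4 := (cancel_mono _).1 h3
  rw [← e₁, ← e₂, h4]

instance : IsIso (psi i V) := by
  haveI := isOpenImmersion_of_etale_of_universallyInjective (psi i V)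
  exact (isIso_iff_isOpenImmersion_and_surjective _).2 ⟨inferInstance, inferInstance⟩

/-- the glued lift -/
noncomputable def glued : S.Etale := Scheme.Etale.mk (q i V)

set_option backward.isDefEq.respectTransparency false in
theorem exists_iso_glued : Nonempty ((EtCoh.bc i).obj (glued i V) ≅ V) := by
  let m : V ⟶ (EtCoh.bc i).obj (glued i V) := MorphismProperty.Over.homMk (psi i V) (psi_snd i V)
  haveI : IsIso ((Scheme.Etale.forget S₀ ⋙ Over.forget S₀).map m) :=
    (inferInstance : IsIso (psi i V))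
  haveI : IsIso m := isIso_of_reflects_iso m (Scheme.Etale.forget S₀ ⋙ Over.forget S₀)
  exact ⟨(asIso m).symm⟩

theorem essSurj_bc : (EtCoh.bc i).EssSurj :=
  ⟨fun V => ⟨glued i V, exists_iso_glued i V⟩⟩

theorem S0118_main : (EtCoh.bc i).IsEquivalence where
  faithful := faithful_bc i
  full := full_bc i
  essSurj := essSurj_bc i

end Groth.Agent.H7.Thk
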