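import Mathlib
import Groth.Prelude.Def_TorSh
import Groth.Prelude.Def_Coh
import Groth.Agent.Lib.Lead.QC.Stalk
import Groth.Agent.Lib.Lead.QC.Iso
import Groth.Agent.Lib.Lead.QC.Flat
import Groth.Agent.Lib.Helper7.RelCartC
import Groth.Agent.Lib.Helper5.TFQ.A

/-! helper7: sections of a torsion-free module inject into the stalk at a point to which all generic
points specialise (S18922). -/

set_option autoImplicit false

universe u

open CategoryTheory Limits AlgebraicGeometry TopologicalSpace Opposite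

namespace Groth.Agent.H7.TorFreeGerm

open Groth.Agent.LD.QC

/-- in a reduced Noetherian ring, an element lying in no minimal prime is a nonzerodivisor;
consequently the annihilator of a nonzero "torsion-free" element lies in a minimal prime. -/
theorem exists_minimalPrime_of_ne_zero {R : Type u} [CommRing R] [IsReduced R] [IsNoetherianRing R]
    {M : Type u} [AddCommGroup M] [Module R M] (m : M) (hm : m ≠ 0)
    (H : ∀ a ∈ nonZeroDivisors R, a • m = 0 → m = 0) :
    ∃ p ∈ minimalPrimes R, ∀ t : R, t • m = 0 → t ∈ p := by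
  classical
  by_contra hcon
  push_neg at hcon
  let I : Ideal R := LinearMap.ker (LinearMap.toSpanSingleton R M m)
  have hI : ∀ t, t ∈ I ↔ t • m = 0 := fun t => by
    simp [I, LinearMap.mem_ker, LinearMap.toSpanSingleton_apply]
  have hfin : (minimalPrimes R).Finite := minimalPrimes.finite_of_isNoetherianRing R
  have hnot : ¬ ((I : Set R) ⊆ ⋃ p ∈ (↑hfin.toFinset : Set (Ideal R)), (p : Set R)) := by
    rw [Ideal.subset_union_prime (R := R) (s := hfin.toFinset) (f := fun p => p) ⊥ ⊥
      (fun p hp _ _ => ((Set.Finite.mem_toFinset hfin).mp hp).1.1)]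
    rintro ⟨p, hp, hle⟩
    obtain ⟨t, ht, htp⟩ := hcon p ((Set.Finite.mem_toFinset hfin).mp hp)
    exact htp (hle ((hI t).mpr ht))
  obtain ⟨a, haI, ha⟩ := Set.not_subset.mp hnot
  simp only [Set.mem_iUnion, not_exists] at ha
  have hanzd : a ∈ nonZeroDivisors R := by
    rw [mem_nonZeroDivisors_iff_right]
    intro b hb
    have h1 : b ∈ sInf (minimalPrimes R) := by
      rw [Ideal.mem_sInf]
      intro p hp
      have hpp : p.IsPrime := hp.1.1
      have h2 : b * a ∈ p := by rw [hb]; exact p.zero_mem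
      rcases hpp.mem_or_mem h2 with h3 | h3
      · exact h3
      · exact absurd h3 (ha p ((Set.Finite.mem_toFinset hfin).mpr hp))
    rw [Ideal.sInf_minimalPrimes, show (⊥ : Ideal R).radical = nilradical R from rfl,
      nilradical_eq_zero] at h1
    exact h1
  exact hm (H a hanzd ((hI a).mp haI))

variable {X : Scheme.{u}}

/-- the local ring at the point of an affine open `W` of a reduced scheme corresponding to a
minimal prime of `Γ(X, W)` is a field. -/
theorem isField_stalk_of_minimalPrime [AlgebraicGeometry.IsReduced X] {W : X.Opens}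
    (hW : IsAffineOpen W) (P : PrimeSpectrum Γ(X, W)) (hP : P.asIdeal ∈ minimalPrimes Γ(X, W)) :
    IsField (X.presheaf.stalk (hW.fromSpec P)) := by
  have hηW := fromSpec_mem hW P
  letI : Algebra Γ(X, W) (X.presheaf.stalk (hW.fromSpec P)) :=
    TopCat.Presheaf.algebra_section_stalk X.presheaf ⟨hW.fromSpec P, hηW⟩
  have hloc := hW.isLocalization_stalk ⟨hW.fromSpec P, hηW⟩
  rw [primeIdealOf_fromSpec hW P hηW] at hloc
  have hfield := Groth.Agent.H5TFQ.isField_atPrime_of_minimal P.asIdeal hP
  have e := IsLocalization.algEquiv P.asIdeal.primeCompl (X.presheaf.stalk (hW.fromSpec P))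
    (Localization.AtPrime P.asIdeal)
  exact MulEquiv.isField hfield e.toMulEquiv

theorem S18922_core [IsLocallyNoetherian X] [AlgebraicGeometry.IsReduced X]
    (F : X.Modules) [F.IsQuasicoherent] (htF : TorSh.IsTorsionFree F)
    (x : X) (U : X.Opens) (hxU : x ∈ U)
    (hU : ∀ y : X, y ∈ U → IsField (X.presheaf.stalk y) → x ∈ closure ({y} : Set X)) :
    Function.Injective (F.presheaf.germ U x hxU) := by
  rw [injective_iff_map_eq_zero]
  intro s hs
  by_contra hs0
  have hex : ∃ y, ∃ hy : y ∈ U, F.presheaf.germ U y hy s ≠ 0 := by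
    by_contra hcon
    push_neg at hcon
    exact hs0 (section_eq_zero_of_germ F s hcon)
  obtain ⟨y, hyU, hy⟩ := hex
  obtain ⟨W, hW, hyW, hWU⟩ := exists_isAffineOpen_mem_and_subset (x := y) (U := U) hyU
  have hWU' : W ≤ U := hWU
  obtain ⟨m, hm⟩ : ∃ m, m = F.presheaf.map (homOfLE hWU').op s := ⟨_, rfl⟩
  have hm0 : m ≠ 0 := by
    intro h0
    apply hy
    rw [← germ_res F y hWU' hyW s, ← hm, h0, map_zero]
  haveI : IsNoetherianRing Γ(X, W) := IsLocallyNoetherian.component_noetherian ⟨W, hW⟩
  have H : ∀ a ∈ nonZeroDivisors Γ(X, W), a • m = 0 → m = 0 := by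
    intro a ha ham
    apply section_eq_zero_of_germ
    intro z hz
    have h1 := Groth.Agent.H7.RelCart.germ_mem_nonZeroDivisors hW z hz a ha
    have h2 : X.presheaf.germ W z hz a • F.presheaf.germ W z hz m = 0 := by
      rw [← germ_smul, ham, map_zero]
    have h3 := (htF z).isSMulRegular (isRegular_iff_mem_nonZeroDivisors.mpr h1)
    apply h3
    change X.presheaf.germ W z hz a • F.presheaf.germ W z hz m = X.presheaf.germ W z hz a • 0
    rw [smul_zero]
    exact h2
  obtain ⟨p, hp, hann⟩ := exists_minimalPrime_of_ne_zero m hm0 H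
  haveI hpp : p.IsPrime := hp.1.1
  obtain ⟨P, hPdef⟩ : ∃ P : PrimeSpectrum Γ(X, W), P = ⟨p, hpp⟩ := ⟨_, rfl⟩
  have hPp : P.asIdeal = p := by rw [hPdef]
  have hηW := fromSpec_mem hW P
  have hfield := isField_stalk_of_minimalPrime hW P (by rw [hPp]; exact hp)
  have hxη := hU _ (hWU' hηW) hfield
  -- the germ of `m` at `η` is nonzero
  have hgη : F.presheaf.germ W _ hηW m ≠ 0 := by
    intro h0
    letI := stalkΓModule F (hW.fromSpec P) W hηW
    haveI := isLocalizedModule_germ F hW (hW.fromSpec P) hηW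
    have h1 : germLinear F (hW.fromSpec P) W hηW m = 0 := h0
    rw [IsLocalizedModule.eq_zero_iff (hW.primeIdealOf ⟨hW.fromSpec P, hηW⟩).asIdeal.primeCompl] at h1
    obtain ⟨⟨t, htmem⟩, ht⟩ := h1
    have ht' : t • m = 0 := ht
    have h2 : t ∉ (hW.primeIdealOf ⟨hW.fromSpec P, hηW⟩).asIdeal := htmem
    rw [primeIdealOf_fromSpec hW P hηW] at h2
    apply h2
    rw [hPp]
    exact hann t ht'
  -- but `s` vanishes near `x`, hence near `η`
  obtain ⟨V, hxV, iU, iV, hV⟩ := TopCat.Presheaf.germ_eq F.presheaf x hxU hxU s 0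
    (by rw [hs, map_zero])
  rw [map_zero] at hV
  have hηV : hW.fromSpec P ∈ V := by
    obtain ⟨z, hzV, hz⟩ := mem_closure_iff.mp hxη V V.isOpen hxV
    rw [Set.mem_singleton_iff] at hz
    rw [← hz]
    exact hzV
  apply hgη
  rw [hm, germ_res F _ hWU' hηW s]
  have h3 := germ_res F (hW.fromSpec P) iU.le hηV s
  rw [← h3]
  have h4 : F.presheaf.map (homOfLE iU.le).op s = 0 := hV
  rw [h4, map_zero]

theorem S18922_main (k : Type u) [Field k]
    [X.Over (Spec (CommRingCat.of k))] [IsProper (X ↘ Spec (CommRingCat.of k))]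
    [AlgebraicGeometry.IsReduced X]
    (F : X.Modules) (hF : Coh.IsCoh F) (htF : TorSh.IsTorsionFree F)
    (x : X) (U : X.Opens) (hxU : x ∈ U)
    (hU : ∀ y : X, y ∈ U → IsField (X.presheaf.stalk y) → x ∈ closure ({y} : Set X)) :
    Function.Injective (F.presheaf.germ U x hxU) := by
  haveI : IsLocallyNoetherian X :=
    LocallyOfFiniteType.isLocallyNoetherian (X ↘ Spec (CommRingCat.of k))
  haveI : F.IsQuasicoherent := hF.1
  exact S18922_core F htF x U hxU hU

end Groth.Agent.H7.TorFreeGerm
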