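import Groth.Agent.Lib.Helper7.AW6

/-! Finiteness of torsion points relative to a base place, via the Weierstrass divisor of `|mP|`
(helper7). -/

set_option autoImplicit false

namespace Groth.Agent.H7.Tors

open FunFld FunFld.SV WithZero LocRes

variable {k K : Type*} [Field k] [IsAlgClosed k] [CharZero k] [Field K] [Algebra k K]

omit [IsAlgClosed k] [CharZero k] in
lemma le_of_strictMono_pos {n : ℕ} {J : Fin n → ℕ} (hJ : StrictMono J) (hpos : ∀ l, 0 < J l)
    (l : Fin n) : (l : ℕ) + 1 ≤ J l := by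
  obtain ⟨m, hm⟩ := l
  induction m with
  | zero => exact hpos _
  | succ m ih =>
    have h1 := ih (by omega)
    have h2 : J ⟨m, by omega⟩ < J ⟨m + 1, hm⟩ := hJ (by simp [Fin.lt_def])
    simp only at h1 ⊢
    omega

/-- the places `Q ≠ P` with `m(Q - P)` principal lie in the support of a fixed divisor -/
theorem exists_divisor_support (hK : IsFunctionField k K) (hg : 1 ≤ genus k K) (P : Place k K)
    (m : ℕ) (hm : 1 ≤ m) :
    ∃ W : Divisor k K, ∀ Q : Place k K, Q ≠ P →
      (∃ h : K, h ≠ 0 ∧ div k h = Finsupp.single Q (m : ℤ) - Finsupp.single P (m : ℤ)) →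
      W Q ≠ 0 := by
  classical
  have hP := Place.deg_eq_one_of_isAlgClosed hK P
  have hfd := finiteDimensional_L hK (Finsupp.single P (m : ℤ) : Divisor k K)
  -- dimension of L(mP)
  have hell := ell_add_gapCount hK P hP m
  have hgap1 : 1 ≤ gapCount P m := by
    have h1 : gapCount P 1 = 1 := by
      have := gapCount_succ P 0
      have hg1 : IsGap P ((0 + 1 : ℕ) : ℤ) := by
        have := isGap_one_of_genus_pos hK P hP (by omega : 0 < genus k K)
        simpa using this
      rw [if_pos hg1] at this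
      simpa [gapCount] using this
    calc 1 = gapCount P 1 := h1.symm
      _ ≤ gapCount P m := gapCount_mono P hm
  have hell1 : 1 ≤ ell (Finsupp.single P (m : ℤ) : Divisor k K) := by
    have := ell_mono hK (single_nonneg (k := k) P (show (0 : ℤ) ≤ m by omega))
    rw [ell_zero hK] at this
    exact this
  obtain ⟨n, hn⟩ : ∃ n : ℕ, ell (Finsupp.single P (m : ℤ) : Divisor k K) = n + 1 :=
    ⟨ell (Finsupp.single P (m : ℤ) : Divisor k K) - 1, by omega⟩
  have hnm : n + 1 ≤ m := by omega
  have hfr : Module.finrank k (L (Finsupp.single P (m : ℤ) : Divisor k K)) = n + 1 := hn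
  let b := Module.finBasisOfFinrankEq k (L (Finsupp.single P (m : ℤ) : Divisor k K)) hfr
  let φ : Fin (n + 1) → K := fun i => ((b i : L (Finsupp.single P (m : ℤ) : Divisor k K)) : K)
  have hφ : LinearIndependent k φ :=
    b.linearIndependent.map' (L _).subtype (Submodule.ker_subtype _)
  have hspan : Submodule.span k (Set.range φ) = L (Finsupp.single P (m : ℤ) : Divisor k K) := by
    have h1 : Set.range φ = (L (Finsupp.single P (m : ℤ) : Divisor k K)).subtype '' Set.range b := by
      rw [← Set.range_comp]; rfl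
    rw [h1, ← Submodule.map_span, b.span_eq, Submodule.map_subtype_top]
  obtain ⟨s, H, hH⟩ := Groth.Agent.H7.SF.exists_isHasseFamily hK
  obtain ⟨Φ, hΦ⟩ := exists_expansion_family hK
  have hchar : ringChar k = 0 ∨ (mapDiv k φ).deg < ringChar k := Or.inl (ringChar.eq_zero)
  have hJ := (classical_orders hK φ hφ hchar _ s H hH).1 rfl
  refine ⟨wDiv (AlgHom.id k K) H Φ s φ (fun l : Fin n => (l : ℕ) + 1), ?_⟩
  intro Q hQP ⟨h, hh0, hdiv⟩
  obtain ⟨t, Ht, y, J', ht, hHt, hy0, hli, heff, hnorm, hJ', hw⟩ :=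
    Groth.Agent.H7.AW.wDiv_apply_classical hK φ hφ hchar s H hH _ hJ Φ hΦ Q
  have hQ1 := Place.deg_eq_one_of_isAlgClosed hK Q
  rw [hw]
  -- `y` is a unit at `Q`
  have hone : (1 : K) ∈ L (Finsupp.single P (m : ℤ) : Divisor k K) := by
    apply L_mono (single_nonneg (k := k) P (show (0 : ℤ) ≤ m by omega))
    rw [L_zero hK]
    exact Submodule.one_le.1 le_rfl
  have hint : ∀ f ∈ L (Finsupp.single P (m : ℤ) : Divisor k K), Q.1 (y * f) ≤ 1 := by
    intro f hf
    rw [← hspan] at hf
    induction hf using Submodule.span_induction with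
    | mem x hx =>
      obtain ⟨i, rfl⟩ := hx
      exact hnorm i
    | zero => simp
    | add a b _ _ ha hb =>
      rw [mul_add]
      exact (Q.1.map_add _ _).trans (max_le ha hb)
    | smul c a _ ha =>
      rw [mul_smul_comm, Algebra.smul_def, map_mul]
      exact (mul_le_mul' (Q.v_algebraMap_le c) ha).trans_eq (one_mul _)
  have hy1 : Q.1 y ≤ 1 := by simpa using hint 1 hone
  have hyinv : y⁻¹ ∈ L (Finsupp.single P (m : ℤ) : Divisor k K) := by
    rw [← hspan]
    have hsp : ∀ z ∈ Submodule.span k (Set.range (y • φ)),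
        y⁻¹ * z ∈ Submodule.span k (Set.range φ) := by
      intro z hz
      induction hz using Submodule.span_induction with
      | mem x hx =>
        obtain ⟨i, rfl⟩ := hx
        show y⁻¹ * (y * φ i) ∈ _
        rw [inv_mul_cancel_left₀ hy0]
        exact Submodule.subset_span ⟨i, rfl⟩
      | zero => simp
      | add a b _ _ ha hb => rw [mul_add]; exact add_mem ha hb
      | smul c a _ ha => rw [mul_smul_comm]; exact Submodule.smul_mem _ _ ha
    simpa using hsp 1 heff
  have hy2 : Q.1 y⁻¹ ≤ 1 := v_le_one_of_mem_L_single hQP hyinv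
  have hyv : Q.1 y = 1 := by
    refine le_antisymm hy1 ?_
    rw [map_inv₀] at hy2
    by_contra hlt
    rw [not_le] at hlt
    have hyne : Q.1 y ≠ 0 := Q.v_ne_zero hy0
    have : 1 < (Q.1 y)⁻¹ := (one_lt_inv₀ (zero_lt_iff.2 hyne)).2 hlt
    exact absurd hy2 (not_le.2 this)
  -- `h ∈ L(mP)` with order `m` at `Q`
  have hhL : h ∈ L (Finsupp.single P (m : ℤ) : Divisor k K) := by
    rw [mem_L_iff_div hK hh0, hdiv, add_sub_cancel]
    exact single_nonneg Q (by omega)
  have hordh : Q.ord h = m := by
    have := congrArg (fun D : Divisor k K => D Q) hdiv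
    simp only [Finsupp.sub_apply, Finsupp.single_eq_same, Finsupp.single_eq_of_ne hQP] at this
    rw [div_apply hK] at this
    simpa using this
  have hvh : Q.1 (y * h) = exp (-(m : ℤ)) := by
    rw [map_mul, hyv, one_mul, Q.v_eq_exp_neg_ord hh0, hordh]
  have hyh : y * h ∈ Submodule.span k (Set.range (y • φ)) := by
    have hsp : ∀ z ∈ Submodule.span k (Set.range φ),
        y * z ∈ Submodule.span k (Set.range (y • φ)) := by
      intro z hz
      induction hz using Submodule.span_induction with
      | mem x hx =>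
        obtain ⟨i, rfl⟩ := hx
        exact Submodule.subset_span ⟨i, rfl⟩
      | zero => simp
      | add a b _ _ ha hb => rw [mul_add]; exact add_mem ha hb
      | smul c a _ ha => rw [mul_smul_comm]; exact Submodule.smul_mem _ _ ha
    exact hsp h (hspan ▸ hhL)
  obtain ⟨l₀, hl₀⟩ := (mem_range_orders_iff hK hQ1 ht hHt hnorm hJ' m).2
    ⟨by omega, y * h, hyh, hvh⟩
  have hJ'pos : ∀ l, 0 < J' l := by
    intro l
    have := ((mem_range_orders_iff hK hQ1 ht hHt hnorm hJ' (J' l)).1 ⟨l, rfl⟩).1
    omega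
  have hge := le_of_strictMono_pos hJ'.1 hJ'pos
  have hpos : 0 < ∑ l : Fin n, ((J' l : ℤ) - ((l : ℕ) + 1 : ℕ)) := by
    apply Finset.sum_pos'
    · intro l _
      have := hge l
      push_cast
      omega
    · refine ⟨l₀, Finset.mem_univ _, ?_⟩
      have := l₀.2
      rw [hl₀]
      push_cast
      omega
  exact ne_of_gt hpos

/-- finiteness of the places `Q ≠ P` with `m(Q - P)` principal -/
theorem finite_torsion (hK : IsFunctionField k K) (hg : 1 ≤ genus k K) (P : Place k K)
    (m : ℕ) (hm : 1 ≤ m) :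
    {Q : Place k K | Q ≠ P ∧ ∃ h : K, h ≠ 0 ∧
      div k h = Finsupp.single Q (m : ℤ) - Finsupp.single P (m : ℤ)}.Finite := by
  obtain ⟨W, hW⟩ := exists_divisor_support hK hg P m hm
  refine Set.Finite.subset W.support.finite_toSet ?_
  rintro Q ⟨hQ, hh⟩
  exact Finsupp.mem_support_iff.2 (hW Q hQ hh)

end Groth.Agent.H7.Tors
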