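import Mathlib
import Groth.Prelude.Def_HopfRep
import Groth.Prelude.Def_GLin
import Groth.Agent.Lib.Helper7.AddGraded

set_option autoImplicit false
universe u v w
open TensorProduct

namespace Groth.Agent.H7.TorusPos
open Groth.Agent.H7.AddGraded

variable {k : Type u} [Field k] {Λ : Type v} [AddCommGroup Λ] {R : Type w} [CommRing R] [Algebra k R]
  [HopfRep.Comod k (AddMonoidAlgebra k Λ) R] [GLin.IsCoactAlg k (AddMonoidAlgebra k Λ) R]

/-- eigenspace of weight `w` -/
noncomputable abbrev E (w : Λ) : Submodule k R :=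
  HopfRep.eigenspace k (AddMonoidAlgebra k Λ) R (AddMonoidAlgebra.single w 1)

lemma mem_E (w : Λ) (f : R) : f ∈ E (k := k) w ↔
    HopfRep.Comod.coact (k := k) (A := AddMonoidAlgebra k Λ) f = f ⊗ₜ[k] AddMonoidAlgebra.single w 1 :=
  Iff.rfl

lemma pr_mem_E (w : Λ) (r : R) : pr (k := k) w r ∈ E (k := k) w := coact_pr w r

lemma mul_mem_E {w v : Λ} {f g : R} (hf : f ∈ E (k := k) w) (hg : g ∈ E (k := k) v) :
    f * g ∈ E (k := k) (w + v) := by
  rw [mem_E] at hf hg ⊢
  rw [GLin.IsCoactAlg.coact_mul, hf, hg, Algebra.TensorProduct.tmul_mul_tmul,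
    AddMonoidAlgebra.single_mul_single, one_mul]

lemma pr_of_mem_E [DecidableEq Λ] {n : Λ} {u : R} (hu : u ∈ E (k := k) n) (m : Λ) :
    pr (k := k) m u = if n = m then u else 0 := pr_of_coact_eq m n u hu

lemma pr_mul_of_mem_E {v : Λ} {g : R} (hg : g ∈ E (k := k) v) (m : Λ) (r : R) :
    pr (k := k) m (r * g) = pr (k := k) (m - v) r * g := by
  classical
  obtain ⟨s, hs0, hs⟩ := exists_sum_pr (k := k) (M := Λ) r
  conv_lhs => rw [← hs, Finset.sum_mul, map_sum]
  have : ∀ n ∈ s, pr (k := k) m (pr (k := k) n r * g) =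
      if n = m - v then pr (k := k) n r * g else 0 := by
    intro n _
    rw [pr_of_mem_E (mul_mem_E (pr_mem_E n r) hg) m]
    by_cases h : n = m - v
    · rw [if_pos h, if_pos (by rw [h]; abel)]
    · rw [if_neg h, if_neg (fun h' => h (by rw [← h']; abel))]
  rw [Finset.sum_congr rfl this, Finset.sum_ite_eq']
  split_ifs with h
  · rfl
  · rw [hs0 _ h, zero_mul]


lemma mem_invariants_iff_mem_E_zero (f : R) :
    f ∈ GLin.invariants k (AddMonoidAlgebra k Λ) R ↔ f ∈ E (k := k) (0 : Λ) := by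
  rw [GLin.mem_invariants_iff, mem_E, AddMonoidAlgebra.one_def]

variable (k Λ R) in
/-- ideal generated by eigenvectors of nonzero weight -/
noncomputable abbrev I0 : Ideal R := Ideal.span {f : R | ∃ w : Λ, w ≠ 0 ∧ f ∈ E (k := k) w}

section
variable (hpos : ∀ w : Λ, E (k := k) (R := R) w ≠ ⊥ → E (k := k) (R := R) (-w) ≠ ⊥ → w = 0)
include hpos

lemma mul_eq_zero_of_pos {w : Λ} (hw : w ≠ 0) {a b : R} (ha : a ∈ E (k := k) (-w))
    (hb : b ∈ E (k := k) w) : a * b = 0 := by
  by_contra h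
  have ha0 : a ≠ 0 := fun h0 => h (by rw [h0, zero_mul])
  have hb0 : b ≠ 0 := fun h0 => h (by rw [h0, mul_zero])
  exact hw (hpos w (fun hE => hb0 (by rw [hE] at hb; simpa using hb))
    (fun hE => ha0 (by rw [hE] at ha; simpa using ha)))

lemma pr_zero_mul_of_mem_I0 {y : R} (hy : y ∈ I0 k Λ R) : ∀ r : R, pr (k := k) (0 : Λ) (r * y) = 0 := by
  induction hy using Submodule.span_induction with
  | mem f hf =>
    obtain ⟨w, hw, hfw⟩ := hf
    intro r
    rw [pr_mul_of_mem_E hfw, zero_sub]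
    exact mul_eq_zero_of_pos hpos hw (pr_mem_E _ _) hfw
  | zero => intro r; simp
  | add a b _ _ ha hb => intro r; rw [mul_add, map_add, ha, hb, add_zero]
  | smul a y _ hy => intro r; rw [smul_eq_mul, ← mul_assoc]; exact hy _

theorem bijective_invariants :
    Function.Bijective
      ((Ideal.Quotient.mkₐ k (I0 k Λ R)).comp (GLin.invariants k (AddMonoidAlgebra k Λ) R).val) := by
  classical
  constructor
  · rw [injective_iff_map_eq_zero]
    rintro ⟨x, hx⟩ h
    have h1 : x ∈ I0 k Λ R := by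
      rw [← Ideal.Quotient.eq_zero_iff_mem]; exact h
    have h2 := pr_zero_mul_of_mem_I0 hpos h1 1
    rw [one_mul, pr_of_mem_E ((mem_invariants_iff_mem_E_zero x).1 hx), if_pos rfl] at h2
    exact Subtype.ext h2
  · intro q
    obtain ⟨r, rfl⟩ := Ideal.Quotient.mk_surjective q
    refine ⟨⟨pr (k := k) (0 : Λ) r, (mem_invariants_iff_mem_E_zero _).2 (pr_mem_E _ _)⟩, ?_⟩
    show Ideal.Quotient.mk _ (pr (k := k) (0 : Λ) r) = Ideal.Quotient.mk _ r
    obtain ⟨s, hs0, hs⟩ := exists_sum_pr (k := k) (M := Λ) r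
    rw [Ideal.Quotient.eq]
    have : pr (k := k) (0 : Λ) r - ∑ m ∈ s, pr (k := k) m r =
        - ∑ m ∈ s.erase 0, pr (k := k) m r := by
      by_cases h0 : (0 : Λ) ∈ s
      · rw [← Finset.add_sum_erase s _ h0]; ring
      · rw [Finset.erase_eq_of_notMem h0, hs0 _ h0, zero_sub]
    rw [show pr (k := k) (0 : Λ) r - r = pr (k := k) (0 : Λ) r - ∑ m ∈ s, pr (k := k) m r by
      rw [hs], this]
    refine (I0 k Λ R).neg_mem (Ideal.sum_mem _ fun m hm => ?_)
    exact Ideal.subset_span ⟨m, (Finset.mem_erase.1 hm).1, pr_mem_E _ _⟩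

end


lemma coeff_orbit_aux (x : R →ₐ[k] k) (n : Λ) (t : R ⊗[k] AddMonoidAlgebra k Λ) :
    ((Algebra.TensorProduct.lid k (AddMonoidAlgebra k Λ))
      ((Algebra.TensorProduct.map x (AlgHom.id k (AddMonoidAlgebra k Λ))) t)).coeff n =
      x (sl n t) := by
  induction t using TensorProduct.induction_on with
  | zero => simp
  | add a b ha hb => simp only [map_add, AddMonoidAlgebra.coeff_add, Finsupp.add_apply, ha, hb]
  | tmul v a =>
    rw [Algebra.TensorProduct.map_tmul, Algebra.TensorProduct.lid_tmul, sl_tmul, map_smul,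
      AlgHom.id_apply, AddMonoidAlgebra.coeff_smul, Finsupp.smul_apply, smul_eq_mul, smul_eq_mul,
      mul_comm]

lemma coeff_orbitHom (x : R →ₐ[k] k) (n : Λ) (f : R) :
    (GLin.orbitHom k (AddMonoidAlgebra k Λ) x f).coeff n = x (pr (k := k) n f) :=
  coeff_orbit_aux x n _

lemma orbitHom_of_mem_E (x : R →ₐ[k] k) {n : Λ} {g : R} (hg : g ∈ E (k := k) n) :
    GLin.orbitHom k (AddMonoidAlgebra k Λ) x g = AddMonoidAlgebra.single n (x g) := by
  classical
  apply AddMonoidAlgebra.coeff_injective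
  ext m
  rw [coeff_orbitHom, pr_of_mem_E hg, AddMonoidAlgebra.coeff_single, Finsupp.single_apply]
  split_ifs <;> simp

lemma algebraMap_eq_single (c : k) :
    algebraMap k (AddMonoidAlgebra k Λ) c = AddMonoidAlgebra.single 0 c := by
  rw [AddMonoidAlgebra.coe_algebraMap]; simp

lemma isFixedPt_iff (x : R →ₐ[k] k) :
    GLin.IsFixedPt k (AddMonoidAlgebra k Λ) x ↔ ∀ (n : Λ), n ≠ 0 → ∀ g ∈ E (k := k) (R := R) n, x g = 0 := by
  classical
  constructor
  · intro h n hn g hg
    have h1 : (GLin.orbitHom k (AddMonoidAlgebra k Λ) x g).coeff n =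
        (((Algebra.ofId k (AddMonoidAlgebra k Λ)).comp x) g).coeff n := by
      rw [show GLin.orbitHom k (AddMonoidAlgebra k Λ) x = _ from h]
    rw [orbitHom_of_mem_E x hg, AddMonoidAlgebra.coeff_single, Finsupp.single_eq_same] at h1
    rw [h1]
    show ((algebraMap k (AddMonoidAlgebra k Λ)) (x g)).coeff n = 0
    rw [algebraMap_eq_single, AddMonoidAlgebra.coeff_single]
    exact Finsupp.single_eq_of_ne hn
  · intro h
    apply AlgHom.ext
    intro f
    apply AddMonoidAlgebra.coeff_injective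
    ext m
    rw [coeff_orbitHom]
    show _ = ((algebraMap k (AddMonoidAlgebra k Λ)) (x f)).coeff m
    rw [algebraMap_eq_single, AddMonoidAlgebra.coeff_single, Finsupp.single_apply]
    by_cases hm : m = 0
    · subst hm
      rw [if_pos rfl]
      obtain ⟨s, hs0, hs⟩ := exists_sum_pr (k := k) (M := Λ) f
      conv_rhs => rw [← hs, map_sum]
      by_cases h0 : (0 : Λ) ∈ s
      · rw [← Finset.add_sum_erase s _ h0, Finset.sum_eq_zero, add_zero]
        intro n hn
        exact h n (Finset.mem_erase.1 hn).1 _ (pr_mem_E _ _)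
      · rw [hs0 _ h0, map_zero, Finset.sum_eq_zero]
        intro n hn
        exact h n (fun h' => h0 (h' ▸ hn)) _ (pr_mem_E _ _)
    · rw [if_neg (Ne.symm hm)]
      exact h m hm _ (pr_mem_E _ _)


lemma x_surjective (x : R →ₐ[k] k) : Function.Surjective x := fun c =>
  ⟨algebraMap k R c, by rw [AlgHom.commutes]; rfl⟩

theorem isClosedOrbit_of_isFixedPt (x : R →ₐ[k] k)
    (h : GLin.IsFixedPt k (AddMonoidAlgebra k Λ) x) :
    GLin.IsClosedOrbit k (AddMonoidAlgebra k Λ) x := by
  have hmax : (RingHom.ker x.toRingHom).IsMaximal :=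
    RingHom.ker_isMaximal_of_surjective x.toRingHom (x_surjective x)
  let p0 : PrimeSpectrum R := ⟨RingHom.ker x.toRingHom, hmax.isPrime⟩
  have hr : Set.range (PrimeSpectrum.comap
      (GLin.orbitHom k (AddMonoidAlgebra k Λ) x).toRingHom) = {p0} := by
    apply Set.eq_singleton_iff_nonempty_unique_mem.2
    constructor
    · obtain ⟨q⟩ : Nonempty (PrimeSpectrum (AddMonoidAlgebra k Λ)) := inferInstance
      exact ⟨_, ⟨q, rfl⟩⟩
    · rintro _ ⟨q, rfl⟩
      apply PrimeSpectrum.ext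
      show Ideal.comap (GLin.orbitHom k (AddMonoidAlgebra k Λ) x).toRingHom q.asIdeal =
        RingHom.ker x.toRingHom
      rw [show GLin.orbitHom k (AddMonoidAlgebra k Λ) x = _ from h]
      ext f
      rw [Ideal.mem_comap, RingHom.mem_ker]
      show (algebraMap k (AddMonoidAlgebra k Λ)) (x f) ∈ q.asIdeal ↔ x f = 0
      constructor
      · intro hf
        by_contra hne
        apply q.isPrime.ne_top
        rw [Ideal.eq_top_iff_one]
        have : (algebraMap k (AddMonoidAlgebra k Λ)) (x f)⁻¹ *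
            (algebraMap k (AddMonoidAlgebra k Λ)) (x f) = 1 := by
          rw [← map_mul, inv_mul_cancel₀ hne, map_one]
        rw [← this]
        exact q.asIdeal.mul_mem_left _ hf
      · intro hf
        rw [hf, map_zero]; exact q.asIdeal.zero_mem
  unfold GLin.IsClosedOrbit
  rw [hr]
  exact (PrimeSpectrum.isClosed_singleton_iff_isMaximal p0).2 hmax

section
variable (hpos : ∀ w : Λ, E (k := k) (R := R) w ≠ ⊥ → E (k := k) (R := R) (-w) ≠ ⊥ → w = 0)
include hpos

theorem isFixedPt_of_isClosedOrbit (x : R →ₐ[k] k)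
    (h : GLin.IsClosedOrbit k (AddMonoidAlgebra k Λ) x) :
    GLin.IsFixedPt k (AddMonoidAlgebra k Λ) x := by
  classical
  rw [isFixedPt_iff]
  intro n hn g hg
  by_contra hxg
  obtain ⟨φ, hφ⟩ : ∃ φ : R →ₐ[k] AddMonoidAlgebra k Λ,
      φ = GLin.orbitHom k (AddMonoidAlgebra k Λ) x := ⟨_, rfl⟩
  have hφg : φ g = AddMonoidAlgebra.single n (x g) := by rw [hφ]; exact orbitHom_of_mem_E x hg
  have hunit : φ g * AddMonoidAlgebra.single (-n) (x g)⁻¹ = 1 := by
    rw [hφg, AddMonoidAlgebra.single_mul_single, add_neg_cancel, mul_inv_cancel₀ hxg,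
      AddMonoidAlgebra.one_def]
  -- the ideal `ker φ ⊔ (g)` is proper
  have hJ : RingHom.ker φ.toRingHom ⊔ Ideal.span {g} ≠ ⊤ := by
    intro htop
    have h1 : (1 : R) ∈ RingHom.ker φ.toRingHom ⊔ Ideal.span {g} := by rw [htop]; trivial
    obtain ⟨a, ha, b, hb, hab⟩ := Submodule.mem_sup.1 h1
    obtain ⟨r, rfl⟩ := Ideal.mem_span_singleton'.1 hb
    have h2 : φ r * φ g = 1 := by
      have := congrArg φ hab
      rw [map_add, map_mul, map_one] at this
      rw [← this]
      have ha' : φ a = 0 := ha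
      rw [ha', zero_add]
    have h3 : (φ r * φ g).coeff 0 = 1 := by
      rw [h2, AddMonoidAlgebra.one_def, AddMonoidAlgebra.coeff_single, Finsupp.single_eq_same]
    rw [hφg, AddMonoidAlgebra.coeff_mul_single_apply, zero_add, hφ, coeff_orbitHom] at h3
    have h4 : pr (k := k) (-n) r ≠ 0 := by
      intro h0; rw [h0, map_zero, zero_mul] at h3; exact zero_ne_one h3
    have hg0 : g ≠ 0 := fun h0 => hxg (by rw [h0, map_zero])
    exact hn (hpos n (fun hE => hg0 (by rw [hE] at hg; simpa using hg))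
      (fun hE => h4 (by have := pr_mem_E (k := k) (-n) r; rw [hE] at this; simpa using this)))
  obtain ⟨𝔪, hmax, hle⟩ := Ideal.exists_le_maximal _ hJ
  have hmem : (⟨𝔪, hmax.isPrime⟩ : PrimeSpectrum R) ∈
      Set.range (PrimeSpectrum.comap φ.toRingHom) := by
    have hc : IsClosed (Set.range (PrimeSpectrum.comap φ.toRingHom)) := by rw [hφ]; exact h
    rw [← hc.closure_eq, PrimeSpectrum.closure_range_comap, PrimeSpectrum.mem_zeroLocus]
    exact fun a ha => hle (Ideal.mem_sup_left ha)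
  obtain ⟨q, hq⟩ := hmem
  have hgq : φ g ∈ q.asIdeal := by
    have : g ∈ (PrimeSpectrum.comap φ.toRingHom q).asIdeal := by
      rw [hq]; exact hle (Ideal.mem_sup_right (Ideal.mem_span_singleton_self g))
    exact this
  apply q.isPrime.ne_top
  rw [Ideal.eq_top_iff_one, ← hunit]
  exact q.asIdeal.mul_mem_right _ hgq

theorem isClosedOrbit_iff_isFixedPt (x : R →ₐ[k] k) :
    GLin.IsClosedOrbit k (AddMonoidAlgebra k Λ) x ↔ GLin.IsFixedPt k (AddMonoidAlgebra k Λ) x :=
  ⟨isFixedPt_of_isClosedOrbit hpos x, isClosedOrbit_of_isFixedPt x⟩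

end

end Groth.Agent.H7.TorusPos
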