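import Groth.Agent.Lib.Helper7.DiffMin2
import Groth.Agent.Lib.Helper7.RHur
import Mathlib.RingTheory.DedekindDomain.Different

/-! The dual of the integral closure under the trace form at a place of residue degree one
(helper7). -/

set_option autoImplicit false
set_option linter.unusedSectionVars false

universe u v w

namespace Groth.Agent.H7.TrDual

open FunFld LocRes WithZero Polynomial Groth.Agent.H7.IC Groth.Agent.H7.RH

section alg

variable {k : Type u} {K K' : Type v} [Field k] [Field K] [Field K'] [Algebra k K] [Algebra K K']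
  [Algebra k K'] [IsScalarTower k K K'] [FiniteDimensional K K']

/-- a local parameter at `Q` which is a unit at the other places above `P` -/
theorem exists_param (hK : IsFF1 k K) {P : Place k K} (Q : Place k K') :
    ∃ s : K', Q.1 s = exp (-1 : ℤ) ∧
      ∀ Q' : Place k K', IsOver Q' P → Q' ≠ Q → Q'.1 s = 1 := by
  classical
  have hfin := finite_isOver (K' := K') hK P
  obtain ⟨s, hs⟩ := Place.exists_approx_eq (insert Q hfin.toFinset) (fun _ => (0 : K'))
    (fun Q' => if Q' = Q then -1 else 0)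
  refine ⟨s, ?_, fun Q' hQ' hne => ?_⟩
  · have := hs Q (Finset.mem_insert_self _ _)
    rwa [if_pos rfl, sub_zero] at this
  · have := hs Q' (Finset.mem_insert_of_mem (by rw [Set.Finite.mem_toFinset]; exact hQ'))
    rwa [if_neg hne, sub_zero, exp_zero] at this

variable (P : Place k K) [Algebra P.O K'] [IsScalarTower P.O K K']

lemma algebraMap_mem_adjoin {c : K} (hc : P.1 c ≤ 1) (s : K') :
    algebraMap K K' c ∈ Algebra.adjoin P.O ({s} : Set K') := by
  have : algebraMap K K' c = algebraMap P.O K' ⟨c, P.mem_O_iff.2 hc⟩ := by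
    rw [algebraMap_O_apply]
  rw [this]
  exact Subalgebra.algebraMap_mem _ _

/-- clearing denominators -/
theorem exists_pow_mul_mem {s : K'} (htop : Algebra.adjoin K ({s} : Set K') = ⊤) {t : K}
    (ht : P.1 t = exp (-1 : ℤ)) (y : K') :
    ∃ N : ℕ, ∀ M, N ≤ M → algebraMap K K' t ^ M * y ∈ Algebra.adjoin P.O ({s} : Set K') := by
  have hy : y ∈ Algebra.adjoin K ({s} : Set K') := by rw [htop]; exact Algebra.mem_top
  have htM : ∀ M : ℕ, algebraMap K K' t ^ M ∈ Algebra.adjoin P.O ({s} : Set K') := by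
    intro M
    rw [← map_pow]
    apply algebraMap_mem_adjoin
    rw [map_pow, ht]
    exact pow_le_one' (by rw [← exp_zero, exp_le_exp]; norm_num) _
  induction hy using Algebra.adjoin_induction with
  | mem x hx =>
    rw [Set.mem_singleton_iff] at hx
    subst hx
    exact ⟨0, fun M _ => Subalgebra.mul_mem _ (htM M) (Algebra.self_mem_adjoin_singleton _ _)⟩
  | algebraMap c =>
    rcases eq_or_ne c 0 with rfl | hc
    · exact ⟨0, fun M _ => by rw [map_zero, mul_zero]; exact Subalgebra.zero_mem _⟩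
    refine ⟨(-P.ord c).toNat, fun M hM => ?_⟩
    rw [← map_pow, ← map_mul]
    apply algebraMap_mem_adjoin
    rw [map_mul, map_pow, ht, P.v_eq_exp_neg_ord hc, ← exp_nsmul, ← exp_add, ← exp_zero,
      exp_le_exp]
    have := Int.self_le_toNat (-P.ord c)
    simp only [smul_neg, nsmul_eq_mul, mul_one]
    have hM' : ((-P.ord c).toNat : ℤ) ≤ M := by exact_mod_cast hM
    omega
  | add x y _ _ hx hy =>
    obtain ⟨N₁, h₁⟩ := hx
    obtain ⟨N₂, h₂⟩ := hy
    refine ⟨max N₁ N₂, fun M hM => ?_⟩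
    rw [mul_add]
    exact Subalgebra.add_mem _ (h₁ M (le_trans (le_max_left _ _) hM))
      (h₂ M (le_trans (le_max_right _ _) hM))
  | mul x y _ _ hx hy =>
    obtain ⟨N₁, h₁⟩ := hx
    obtain ⟨N₂, h₂⟩ := hy
    refine ⟨N₁ + N₂, fun M hM => ?_⟩
    have : algebraMap K K' t ^ M * (x * y) =
        (algebraMap K K' t ^ N₁ * x) * (algebraMap K K' t ^ (M - N₁) * y) := by
      rw [show M = N₁ + (M - N₁) by omega, pow_add]
      rw [show N₁ + (M - N₁) - N₁ = M - N₁ by omega]
      ring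
    rw [this]
    exact Subalgebra.mul_mem _ (h₁ N₁ le_rfl) (h₂ (M - N₁) (by omega))

/-- a power of a uniformizer maps the integral closure into `O_P[s]` -/
theorem exists_pow_mul_mem_of_inB (hK : IsFunctionField k K) {s : K'}
    (htop : Algebra.adjoin K ({s} : Set K') = ⊤) {t : K} (ht : P.1 t = exp (-1 : ℤ)) :
    ∃ N : ℕ, ∀ b : K', InB P b →
      algebraMap K K' t ^ N * b ∈ Algebra.adjoin P.O ({s} : Set K') := by
  classical
  obtain ⟨m, -, -, hspan⟩ := Bsub_toSubmodule_eq_span (K' := K') P hK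
  choose N hN using fun i => exists_pow_mul_mem P htop ht (m i)
  refine ⟨Finset.univ.sup N, fun b hb => ?_⟩
  have hb' : b ∈ (Bsub (K' := K') P).toSubmodule := hb
  rw [hspan] at hb'
  set T := algebraMap K K' t ^ Finset.univ.sup N with hT
  clear hb
  induction hb' using Submodule.span_induction with
  | mem x hx =>
    obtain ⟨i, rfl⟩ := hx
    exact hN i _ (Finset.le_sup (Finset.mem_univ i))
  | zero => rw [mul_zero]; exact Subalgebra.zero_mem _
  | add x y _ _ hx hy => rw [mul_add]; exact Subalgebra.add_mem _ hx hy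
  | smul a x _ hx =>
    rw [mul_smul_comm]
    exact Subalgebra.smul_mem _ hx a


section decomp

variable {P} {Q : Place k K'} [P.1.HasExtension Q.1]

/-- `B = O_P + s B` at a place of residue degree one -/
theorem exists_sub_mem (hQP : IsOver Q P)
    (hf : Function.Surjective
      (algebraMap (IsLocalRing.ResidueField P.O) (IsLocalRing.ResidueField Q.O)))
    {s : K'} (hs : Q.1 s = exp (-1 : ℤ))
    (hs' : ∀ Q' : Place k K', IsOver Q' P → Q' ≠ Q → Q'.1 s = 1) {b : K'} (hb : InB P b) :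
    ∃ a : K, P.1 a ≤ 1 ∧ ∃ b' : K', InB P b' ∧ b = algebraMap K K' a + s * b' := by
  have hbQ : Q.1 b ≤ 1 := hb Q hQP
  obtain ⟨abar, habar⟩ := hf (IsLocalRing.residue Q.O ⟨b, Q.mem_O_iff.2 hbQ⟩)
  obtain ⟨a, rfl⟩ := IsLocalRing.residue_surjective abar
  rw [Valuation.HasExtension.algebraMap_residue_eq_residue_algebraMap, ← sub_eq_zero, ← map_sub,
    Place.residue_eq_zero_iff] at habar
  have hlt : Q.1 (algebraMap K K' (a : K) - b) < 1 := habar
  have ha : P.1 (a : K) ≤ 1 := P.mem_O_iff.1 a.2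
  have hs0 : s ≠ 0 := by
    rintro rfl
    rw [map_zero] at hs
    exact exp_ne_zero hs.symm
  refine ⟨a, ha, (b - algebraMap K K' (a : K)) / s, ?_, by field_simp; ring⟩
  intro Q' hQ'
  rw [map_div₀]
  by_cases h : Q' = Q
  · subst h
    rw [hs, div_le_iff₀ (zero_lt_iff.2 exp_ne_zero), one_mul,
      ← Valuation.map_neg, neg_sub, ← RHur.lt_one_iff_le_exp]
    exact hlt
  · rw [hs' Q' hQ' h, _root_.div_one]
    refine (Valuation.map_sub _ _ _).trans (max_le (hb Q' hQ') ?_)
    obtain ⟨e', he'⟩ := hQ'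
    rw [he' a]
    exact pow_le_one' ha _

/-- `B = O_P[s] + s^j B` -/
theorem exists_decomp (hQP : IsOver Q P)
    (hf : Function.Surjective
      (algebraMap (IsLocalRing.ResidueField P.O) (IsLocalRing.ResidueField Q.O)))
    {s : K'} (hs : Q.1 s = exp (-1 : ℤ))
    (hs' : ∀ Q' : Place k K', IsOver Q' P → Q' ≠ Q → Q'.1 s = 1) (j : ℕ) {b : K'}
    (hb : InB P b) :
    ∃ a ∈ Algebra.adjoin P.O ({s} : Set K'), ∃ b' : K', InB P b' ∧ b = a + s ^ j * b' := by
  induction j generalizing b with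
  | zero => exact ⟨0, Subalgebra.zero_mem _, b, hb, by simp⟩
  | succ j ih =>
    obtain ⟨a, ha, b', hb', rfl⟩ := ih hb
    obtain ⟨a', ha', b'', hb'', rfl⟩ := exists_sub_mem hQP hf hs hs' hb'
    refine ⟨a + s ^ j * algebraMap K K' a', ?_, b'', hb'', by ring⟩
    exact Subalgebra.add_mem _ ha (Subalgebra.mul_mem _
      (Subalgebra.pow_mem _ (Algebra.self_mem_adjoin_singleton _ _) _)
      (algebraMap_mem_adjoin P ha' s))

/-- an element of `O_P[s]` which is a unit at `Q` and vanishes at the other places above `P` -/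
theorem exists_unit_small (hK : IsFunctionField k K) (hQP : IsOver Q P) {s : K'}
    (hs : Q.1 s = exp (-1 : ℤ))
    (hs' : ∀ Q' : Place k K', IsOver Q' P → Q' ≠ Q → Q'.1 s = 1)
    (hc0 : P.1 ((minpoly K s).coeff 0) < 1) :
    ∃ c₀ ∈ Algebra.adjoin P.O ({s} : Set K'), Q.1 c₀ = 1 ∧
      ∀ Q' : Place k K', IsOver Q' P → Q' ≠ Q → Q'.1 c₀ < 1 := by
  classical
  have hint : IsIntegral K s := Algebra.IsIntegral.isIntegral s
  set f := minpoly K s with hf
  set n := f.natDegree with hn
  have hci : ∀ i, P.1 (f.coeff i) ≤ 1 := DiffMin.coeff_le_one hK P (s := s) (fun Q' hQ' => by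
    by_cases h : Q' = Q
    · rw [h, hs, ← exp_zero, exp_le_exp]; norm_num
    · exact (hs' Q' hQ' h).le)
  have hex : ∃ i, P.1 (f.coeff i) = 1 := ⟨n, by
    rw [hn, (minpoly.monic hint).coeff_natDegree, map_one]⟩
  set e' := Nat.find hex with he'
  have he'1 : P.1 (f.coeff e') = 1 := Nat.find_spec hex
  have he'n : e' ≤ n := Nat.find_min' hex (by
    rw [hn, (minpoly.monic hint).coeff_natDegree, map_one])
  have hlt : ∀ i, i < e' → P.1 (f.coeff i) < 1 := fun i hi =>
    lt_of_le_of_ne (hci i) (Nat.find_min hex hi)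
  have hsum : ∑ i ∈ Finset.range (n + 1), algebraMap K K' (f.coeff i) * s ^ i = 0 := by
    have := minpoly.aeval K s
    rw [aeval_eq_sum_range] at this
    simpa only [Algebra.smul_def] using this
  set c₀ := ∑ j ∈ Finset.range (n + 1 - e'), algebraMap K K' (f.coeff (e' + j)) * s ^ j with hc₀
  have hkey : s ^ e' * c₀ = -∑ i ∈ Finset.range e', algebraMap K K' (f.coeff i) * s ^ i := by
    rw [eq_neg_iff_add_eq_zero, add_comm, ← hsum,
      ← Finset.sum_range_add_sum_Ico _ (show e' ≤ n + 1 by omega), Finset.sum_Ico_eq_sum_range,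
      hc₀, Finset.mul_sum]
    congr 1
    refine Finset.sum_congr rfl (fun j _ => ?_)
    rw [pow_add]; ring
  obtain ⟨e, he⟩ := hQP
  refine ⟨c₀, ?_, ?_, ?_⟩
  · refine Subalgebra.sum_mem _ (fun j _ => Subalgebra.mul_mem _ (algebraMap_mem_adjoin P (hci _) s)
      (Subalgebra.pow_mem _ (Algebra.self_mem_adjoin_singleton _ _) _))
  · have h0 : Q.1 (algebraMap K K' (f.coeff (e' + 0)) * s ^ 0) = 1 := by
      rw [add_zero, pow_zero, mul_one, he, he'1, one_pow]
    rw [hc₀, v_sum_eq_of_dominant' Q.1 _ _ (Finset.mem_range.2 (by omega : 0 < n + 1 - e'))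
      (by rw [h0]; exact one_ne_zero), h0]
    intro j _ hj0
    rw [h0, map_mul, map_pow, hs, he]
    calc P.1 (f.coeff (e' + j)) ^ e * exp (-1 : ℤ) ^ j ≤ 1 * exp (-1 : ℤ) ^ j :=
          mul_le_mul' (pow_le_one' (hci _) _) le_rfl
      _ < 1 := by
          rw [one_mul]
          exact pow_lt_one₀ zero_le' (by rw [← exp_zero, exp_lt_exp]; norm_num) hj0
  · intro Q' hQ' hne
    have h1 : Q'.1 (s ^ e' * c₀) = Q'.1 c₀ := by
      rw [map_mul, map_pow, hs' Q' hQ' hne, one_pow, one_mul]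
    rw [← h1, hkey, Valuation.map_neg]
    refine Valuation.map_sum_lt _ one_ne_zero (fun i hi => ?_)
    rw [map_mul, map_pow, hs' Q' hQ' hne, one_pow, mul_one]
    obtain ⟨e'', he''⟩ := hQ'
    exact (he''.v_lt_one_iff _).2 (hlt i (Finset.mem_range.1 hi))

/-- an element of the conductor of `O_P[s]` which is a unit at `Q` -/
theorem exists_conductor_unit (hK : IsFunctionField k K) (hQP : IsOver Q P)
    (hf : Function.Surjective
      (algebraMap (IsLocalRing.ResidueField P.O) (IsLocalRing.ResidueField Q.O)))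
    {s : K'} (hs : Q.1 s = exp (-1 : ℤ))
    (hs' : ∀ Q' : Place k K', IsOver Q' P → Q' ≠ Q → Q'.1 s = 1)
    (htop : Algebra.adjoin K ({s} : Set K') = ⊤)
    (hc0 : P.1 ((minpoly K s).coeff 0) < 1) :
    ∃ c ∈ Algebra.adjoin P.O ({s} : Set K'), Q.1 c = 1 ∧
      ∀ b : K', InB P b → c * b ∈ Algebra.adjoin P.O ({s} : Set K') := by
  classical
  obtain ⟨t, ht⟩ := P.exists_uniformizer
  obtain ⟨N, hN⟩ := exists_pow_mul_mem_of_inB P hK htop ht
  obtain ⟨c₀, hc₀A, hc₀Q, hc₀Q'⟩ := exists_unit_small hK hQP hs hs' hc0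
  obtain ⟨e, he⟩ := hQP
  have hfin := finite_isOver (K' := K') hK.isFF1 P
  set E := hfin.toFinset.sup (fun Q' => ramIdx Q' P) with hE
  have hvt : ∀ (Q'' : Place k K') (e'' : ℕ), IsOverWith Q'' P e'' →
      Q''.1 (algebraMap K K' t ^ N) = exp (-((e'' * N : ℕ) : ℤ)) := by
    intro Q'' e'' he''
    rw [map_pow, he'' t, ht, ← pow_mul, ← exp_nsmul]
    congr 1
    simp
  have hsne : s ≠ 0 := by
    rintro rfl
    rw [map_zero] at hs
    exact exp_ne_zero hs.symm
  have ht0 : algebraMap K K' t ^ N ≠ 0 := by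
    apply pow_ne_zero
    rw [Ne, map_eq_zero]
    rintro rfl
    rw [map_zero] at ht
    exact exp_ne_zero ht.symm
  refine ⟨c₀ ^ (N * E), Subalgebra.pow_mem _ hc₀A _, by rw [map_pow, hc₀Q, one_pow],
    fun b hb => ?_⟩
  obtain ⟨a, ha, b', hb', rfl⟩ := exists_decomp ⟨e, he⟩ hf hs hs' (N * e) hb
  rw [mul_add]
  refine Subalgebra.add_mem _ (Subalgebra.mul_mem _ (Subalgebra.pow_mem _ hc₀A _) ha) ?_
  set b'' := c₀ ^ (N * E) * (s ^ (N * e) * b') / algebraMap K K' t ^ N with hb''
  have hb''B : InB P b'' := by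
    intro Q'' hQ''
    obtain ⟨e'', he''⟩ := hQ''
    rw [hb'', map_div₀, div_le_one₀ (zero_lt_iff.2 ((Valuation.ne_zero_iff _).2 ht0)),
      hvt Q'' e'' he'', map_mul, map_mul, map_pow, map_pow]
    by_cases h : Q'' = Q
    · subst h
      obtain rfl : e'' = e := (he''.unique he).2
      rw [hc₀Q, one_pow, one_mul, hs, ← exp_nsmul]
      calc exp ((N * e'') • (-1 : ℤ)) * Q''.1 b' ≤ exp ((N * e'') • (-1 : ℤ)) * 1 :=
            mul_le_mul' le_rfl (hb' Q'' ⟨e'', he''⟩)
        _ = exp (-((e'' * N : ℕ) : ℤ)) := by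
            rw [mul_one]; congr 1; simp [mul_comm]
    · rw [hs' Q'' ⟨e'', he''⟩ h, one_pow, one_mul]
      have h1 : Q''.1 c₀ ≤ exp (-1 : ℤ) :=
        (RHur.lt_one_iff_le_exp _).1 (hc₀Q' Q'' ⟨e'', he''⟩ h)
      have h2 : e'' ≤ E := by
        rw [hE, ← he''.ramIdx_eq]
        exact Finset.le_sup (f := fun Q' => ramIdx Q' P)
          (by rw [Set.Finite.mem_toFinset]; exact ⟨e'', he''⟩)
      calc Q''.1 c₀ ^ (N * E) * Q''.1 b' ≤ exp (-1 : ℤ) ^ (N * E) * 1 :=
            mul_le_mul' (pow_le_pow_left' h1 _) (hb' Q'' ⟨e'', he''⟩)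
        _ = exp (-((N * E : ℕ) : ℤ)) := by
            rw [mul_one, ← exp_nsmul]; congr 1; simp
        _ ≤ exp (-((e'' * N : ℕ) : ℤ)) := by
            rw [exp_le_exp]
            have : e'' * N ≤ N * E := by rw [mul_comm]; exact Nat.mul_le_mul_left _ h2
            have : ((e'' * N : ℕ) : ℤ) ≤ ((N * E : ℕ) : ℤ) := by exact_mod_cast this
            omega
  have : c₀ ^ (N * E) * (s ^ (N * e) * b') = algebraMap K K' t ^ N * b'' := by
    rw [hb'']; field_simp
  rw [this]
  exact hN b'' hb''B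

end decomp

section dual

variable {P} {Q : Place k K'} [Algebra.IsSeparable K K']

lemma adjoin_le_integral {s : K'} (hsint : IsIntegral P.O s) {z : K'}
    (hz : z ∈ Algebra.adjoin P.O ({s} : Set K')) : IsIntegral P.O z := by
  have : Algebra.adjoin P.O ({s} : Set K') ≤ integralClosure P.O K' :=
    Algebra.adjoin_le (by rintro x rfl; exact hsint)
  exact this hz

lemma deriv_ne_zero (s : K') : aeval s (derivative (minpoly K s)) ≠ 0 :=
  (Algebra.IsSeparable.isSeparable K s).aeval_derivative_ne_zero (minpoly.aeval K s)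

/-- elements of the dual of the integral closure are bounded by the derivative of the minimal
polynomial of `s` -/
theorem le_of_mem_dual {s : K'} (htop : Algebra.adjoin K ({s} : Set K') = ⊤)
    (hsint : IsIntegral P.O s) (hAQ : ∀ a ∈ Algebra.adjoin P.O ({s} : Set K'), Q.1 a ≤ 1)
    {y : K'} (hy : ∀ z : K', IsIntegral P.O z → P.1 (Algebra.trace K K' (y * z)) ≤ 1) :
    Q.1 y ≤ exp (Q.ord (aeval s (derivative (minpoly K s)))) := by
  have hmem : y ∈ (Algebra.traceForm K K').dualSubmodule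
      (Subalgebra.toSubmodule (Algebra.adjoin P.O ({s} : Set K'))) := by
    rw [LinearMap.BilinForm.mem_dualSubmodule]
    intro z hz
    rw [Algebra.traceForm_apply, Submodule.mem_one]
    exact ⟨⟨_, P.mem_O_iff.2 (hy z (adjoin_le_integral hsint hz))⟩, rfl⟩
  rw [traceForm_dualSubmodule_adjoin P.O K htop hsint,
    Submodule.mem_smul_pointwise_iff_exists] at hmem
  obtain ⟨a, ha, rfl⟩ := hmem
  have hne := deriv_ne_zero (K := K) s
  rw [smul_eq_mul, map_mul, map_inv₀, Q.v_eq_exp_neg_ord hne, ← exp_neg, neg_neg]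
  calc exp (Q.ord (aeval s (derivative (minpoly K s)))) * Q.1 a
      ≤ exp (Q.ord (aeval s (derivative (minpoly K s)))) * 1 := mul_le_mul' le_rfl (hAQ a ha)
    _ = _ := mul_one _

/-- the bound is attained -/
theorem exists_mem_dual (hK : IsFunctionField k K) {s : K'}
    (htop : Algebra.adjoin K ({s} : Set K') = ⊤) (hsint : IsIntegral P.O s)
    {c : K'} (hcA : c ∈ Algebra.adjoin P.O ({s} : Set K')) (hcQ : Q.1 c = 1)
    (hcB : ∀ b : K', InB P b → c * b ∈ Algebra.adjoin P.O ({s} : Set K')) :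
    ∃ y : K', (∀ z : K', IsIntegral P.O z → P.1 (Algebra.trace K K' (y * z)) ≤ 1) ∧
      Q.1 y = exp (Q.ord (aeval s (derivative (minpoly K s)))) := by
  have hne := deriv_ne_zero (K := K) s
  have hdual : (aeval s (derivative (minpoly K s)))⁻¹ ∈ (Algebra.traceForm K K').dualSubmodule
      (Subalgebra.toSubmodule (Algebra.adjoin P.O ({s} : Set K'))) := by
    rw [traceForm_dualSubmodule_adjoin P.O K htop hsint,
      Submodule.mem_smul_pointwise_iff_exists]
    exact ⟨1, Subalgebra.one_mem _, by rw [smul_eq_mul, mul_one]⟩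
  rw [LinearMap.BilinForm.mem_dualSubmodule] at hdual
  refine ⟨c * (aeval s (derivative (minpoly K s)))⁻¹, fun z hz => ?_, ?_⟩
  · have hzB : InB P z := (mem_integralClosure_iff P hK z).1 hz
    have := hdual (c * z) (hcB z hzB)
    rw [Algebra.traceForm_apply, Submodule.mem_one] at this
    obtain ⟨r, hr⟩ := this
    have h2 : c * (aeval s (derivative (minpoly K s)))⁻¹ * z =
        (aeval s (derivative (minpoly K s)))⁻¹ * (c * z) := by ring
    rw [h2, ← hr]
    exact P.mem_O_iff.1 r.2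
  · rw [map_mul, hcQ, one_mul, map_inv₀, Q.v_eq_exp_neg_ord hne, ← exp_neg, neg_neg]

end dual

end alg

section main

variable {k : Type u} {K K' : Type v} [Field k] [Field K] [Field K'] [Algebra k K] [Algebra K K']
  [Algebra k K'] [IsScalarTower k K K'] [FiniteDimensional K K'] [Algebra.IsSeparable K K']
variable {F F' : Type w} [Field F] [Algebra k F] [Field F'] [Algebra k F']

open LaurentSeries

/-- **S12574** -/
theorem traceDual_min_valuation (hK : IsFunctionField k K) (hg : IsGeometric k K)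
    {P : Place k K} {Q : Place k K'} {e : ℕ} (he : IsOverWith Q P e)
    {φ : K →ₐ[k] F⸨X⸩} (hφ : IsExpansionAt P.1 φ) {ψ : K' →ₐ[k] F'⸨X⸩}
    (hψ : IsExpansionAt Q.1 ψ) {x : K} (hx : vDiff φ 1 x ≠ 0)
    (hx' : vDiff ψ 1 (algebraMap K K' x) ≠ 0) [P.1.HasExtension Q.1]
    (hf : Function.Surjective
      (algebraMap (IsLocalRing.ResidueField P.O) (IsLocalRing.ResidueField Q.O)))
    [Algebra P.O K'] [IsScalarTower P.O K K'] :
    (∀ y : K', (∀ z : K', IsIntegral P.O z → P.1 (Algebra.trace K K' (y * z)) ≤ 1) →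
      Q.1 y ≤ exp (diffExp φ ψ e x)) ∧
    ∃ y : K', (∀ z : K', IsIntegral P.O z → P.1 (Algebra.trace K K' (y * z)) ≤ 1) ∧
      Q.1 y = exp (diffExp φ ψ e x) := by
  classical
  have hQP : IsOver Q P := ⟨e, he⟩
  obtain ⟨s, hs, hs'⟩ := exists_param (P := P) hK.isFF1 Q
  obtain ⟨htopI, hord⟩ :=
    DiffMin.ord_derivative_minpoly_localParameter hK hg he hφ hψ hx hx' hf hs hs'
  have htop : Algebra.adjoin K ({s} : Set K') = ⊤ := by
    rw [← IntermediateField.adjoin_simple_toSubalgebra_of_isAlgebraic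
      (Algebra.IsAlgebraic.isAlgebraic s), htopI, IntermediateField.top_toSubalgebra]
  have hsB : InB P s := fun Q' hQ' => by
    by_cases h : Q' = Q
    · rw [h, hs, ← exp_zero, exp_le_exp]; norm_num
    · exact (hs' Q' hQ' h).le
  have hsint : IsIntegral P.O s := (mem_integralClosure_iff P hK s).2 hsB
  have hAQ : ∀ a ∈ Algebra.adjoin P.O ({s} : Set K'), Q.1 a ≤ 1 := fun a ha =>
    (mem_integralClosure_iff P hK a).1 (adjoin_le_integral hsint ha) Q hQP
  have hdeg := DiffMin.deg_eq_of_surjective hQP hf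
  have hc0 := DiffMin.v_coeff_zero hK.isFF1 hQP hdeg hs hs' htopI
  obtain ⟨c, hcA, hcQ, hcB⟩ := exists_conductor_unit hK hQP hf hs hs' htop
    (by rw [hc0, ← exp_zero, exp_lt_exp]; norm_num)
  rw [← hord]
  exact ⟨fun y hy => le_of_mem_dual htop hsint hAQ hy, exists_mem_dual hK htop hsint hcA hcQ hcB⟩

end main

end Groth.Agent.H7.TrDual
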