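import Mathlib

/-! Trace ideal of a f.g. projective module over a ring with simple A/J (helper7, for S13848). -/

set_option autoImplicit false
universe u v

namespace Groth.Agent.H7.TraceIdeal

section
variable (A : Type u) [Ring A] (P : Type v) [AddCommGroup P] [Module A P]

/-- the trace ideal of `P` (as a left ideal). -/
def tr : Ideal A := Ideal.span (Set.range fun (p : (P →ₗ[A] A) × P) => p.1 p.2)

theorem tr_mul_right (t : A) (ht : t ∈ tr A P) (c : A) : t * c ∈ tr A P := by
  induction ht using Submodule.span_induction with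
  | mem t ht =>
    obtain ⟨⟨f, y⟩, rfl⟩ := ht
    apply Ideal.subset_span
    exact ⟨⟨(LinearMap.toSpanSingleton A A c) ∘ₗ f, y⟩, by simp⟩
  | zero => rw [zero_mul]; exact Ideal.zero_mem _
  | add x y _ _ hx hy => rw [add_mul]; exact Ideal.add_mem _ hx hy
  | smul b x _ hx =>
    rw [smul_eq_mul, mul_assoc]
    exact Ideal.mul_mem_left _ _ hx

theorem top_le_tr_smul [Module.Projective A P] : (⊤ : Submodule A P) ≤ tr A P • (⊤ : Submodule A P) := by
  obtain ⟨s, hs⟩ := Module.projective_def'.mp (inferInstance : Module.Projective A P)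
  intro x _
  have hx : x = Finsupp.linearCombination A id (s x) := by
    have := congrArg (fun g => g x) hs
    simpa using this.symm
  rw [hx, Finsupp.linearCombination_apply, Finsupp.sum]
  apply Submodule.sum_mem
  intro p _
  refine Submodule.smul_mem_smul ?_ Submodule.mem_top
  apply Ideal.subset_span
  exact ⟨⟨(Finsupp.lapply p) ∘ₗ s, x⟩, by simp⟩

theorem one_mem_tr [IsSimpleRing (A ⧸ Ring.jacobson A)] [Module.Finite A P] [Module.Projective A P]
    [Nontrivial P] : (1 : A) ∈ tr A P := by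
  classical
  let T : TwoSidedIdeal (A ⧸ Ring.jacobson A) := TwoSidedIdeal.mk'
    {a | ∃ t ∈ tr A P, Ideal.Quotient.mk (Ring.jacobson A) t = a}
    ⟨0, Ideal.zero_mem _, map_zero _⟩
    (by
      rintro _ _ ⟨t, ht, rfl⟩ ⟨t', ht', rfl⟩
      exact ⟨t + t', Ideal.add_mem _ ht ht', map_add _ _ _⟩)
    (by
      rintro _ ⟨t, ht, rfl⟩
      exact ⟨-t, Ideal.neg_mem_iff _ |>.mpr ht, map_neg _ _⟩)
    (by
      rintro x _ ⟨t, ht, rfl⟩
      obtain ⟨b, rfl⟩ := Ideal.Quotient.mk_surjective x
      exact ⟨b * t, Ideal.mul_mem_left _ _ ht, map_mul _ _ _⟩)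
    (by
      rintro _ y ⟨t, ht, rfl⟩
      obtain ⟨c, rfl⟩ := Ideal.Quotient.mk_surjective y
      exact ⟨t * c, tr_mul_right A P t ht c, map_mul _ _ _⟩)
  rcases eq_bot_or_eq_top T with hT | hT
  · exfalso
    have hle : tr A P ≤ Ring.jacobson A := by
      intro t ht
      have h1 : Ideal.Quotient.mk (Ring.jacobson A) t ∈ T := by
        rw [TwoSidedIdeal.mem_mk']
        exact ⟨t, ht, rfl⟩
      rw [hT, TwoSidedIdeal.mem_bot] at h1
      exact Ideal.Quotient.eq_zero_iff_mem.mp h1
    have h2 : (⊤ : Submodule A P) ≤ Ring.jacobson A • (⊤ : Submodule A P) :=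
      (top_le_tr_smul A P).trans (Submodule.smul_mono_left hle)
    have h3 : (⊤ : Submodule A P) = ⊥ :=
      Submodule.FG.eq_bot_of_le_jacobson_smul Module.Finite.fg_top h2
    exact top_ne_bot h3
  · have h1 : (1 : A ⧸ Ring.jacobson A) ∈ T := by rw [hT]; trivial
    rw [TwoSidedIdeal.mem_mk'] at h1
    obtain ⟨t, ht, ht1⟩ := h1
    have hj : 1 - t ∈ Ring.jacobson A := by
      rw [← Ideal.Quotient.eq_zero_iff_mem, map_sub, ht1, map_one, sub_self]
    have hj' : 1 - t ∈ Ideal.jacobson (⊥ : Ideal A) := by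
      have : Ring.jacobson A = Ideal.jacobson (⊥ : Ideal A) := by
        rw [Ring.jacobson_eq_sInf_isMaximal, Ideal.jacobson]
        congr 1
        ext I
        simp
      rwa [← this]
    obtain ⟨z, hz⟩ := Ideal.mem_jacobson_iff.mp hj' (-1)
    rw [Ideal.mem_bot] at hz
    have hz1 : z * t = 1 := by
      have : z * (-1) * (1 - t) + z - 1 = z * t - 1 := by noncomm_ring
      rw [this] at hz
      exact sub_eq_zero.mp hz
    rw [← hz1]
    exact Ideal.mul_mem_left _ _ ht

end

end Groth.Agent.H7.TraceIdeal
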