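import Mathlib

/-!
# Transcendence degrees of residue fields under base change: field theory (for S10335)
-/

set_option autoImplicit false
universe u
open Cardinal

namespace Groth.Agent.H7.TrdegBC

/-- **(C-alg)** If the field `M` is generated (as a field) by the images of `L` and `K`, where
`k → L` and `k → K` agree in `M`, then `trdeg_K M ≤ trdeg_k L`. -/
theorem trdeg_le_of_frac_closure {k L K M : Type u} [Field k] [Field L] [Field K] [Field M]
    [Algebra k L] [Algebra K M] (α : L →+* M) (j : k →+* K)
    (hcomm : α.comp (algebraMap k L) = (algebraMap K M).comp j)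
    (hgen : ∀ z : M, ∃ a b : M,
      a ∈ Subring.closure (Set.range α ∪ Set.range (algebraMap K M)) ∧
      b ∈ Subring.closure (Set.range α ∪ Set.range (algebraMap K M)) ∧ b ≠ 0 ∧ z * b = a) :
    Algebra.trdeg K M ≤ Algebra.trdeg k L := by
  obtain ⟨ι, b, hb⟩ := exists_isTranscendenceBasis' k L
  let s : Set M := Set.range (α ∘ b)
  let A₀ : Subalgebra K M := Algebra.adjoin K s
  -- elements of `L` map to elements algebraic over `A₀`
  have hL : ∀ l : L, IsAlgebraic A₀ (α l) := by
    intro l
    have hl : IsAlgebraic (Algebra.adjoin k (Set.range b)) l := hb.isAlgebraic.isAlgebraic l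
    -- the ring hom `adjoin k (range b) → A₀`
    have hmem : ∀ y : Algebra.adjoin k (Set.range b), α (y : L) ∈ A₀ := by
      rintro ⟨y, hy⟩
      induction hy using Algebra.adjoin_induction with
      | mem x hx =>
        obtain ⟨i, rfl⟩ := hx
        exact Algebra.subset_adjoin ⟨i, rfl⟩
      | algebraMap r =>
        have : α (algebraMap k L r) = algebraMap K M (j r) := by
          have := congrArg (fun φ => φ r) hcomm
          simpa using this
        simp only [this]
        exact A₀.algebraMap_mem _
      | add x y _ _ hx hy => simpa using A₀.add_mem hx hy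
      | mul x y _ _ hx hy => simpa using A₀.mul_mem hx hy
    let F : Algebra.adjoin k (Set.range b) →+* A₀ :=
      { toFun := fun y => ⟨α (y : L), hmem y⟩
        map_one' := by ext; simp
        map_mul' := by intro x y; ext; simp
        map_zero' := by ext; simp
        map_add' := by intro x y; ext; simp }
    obtain ⟨p, hp0, hp⟩ := hl
    refine ⟨p.map F, ?_, ?_⟩
    · have hFinj : Function.Injective F := by
        intro x y hxy
        have : α (x : L) = α (y : L) := congrArg Subtype.val hxy
        exact Subtype.ext (α.injective this)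
      exact (Polynomial.map_ne_zero_iff hFinj).mpr hp0
    · have h1 : (algebraMap A₀ M).comp F = α.comp (algebraMap (Algebra.adjoin k (Set.range b)) L) := by
        ext y; rfl
      rw [Polynomial.aeval_def, Polynomial.eval₂_map, h1, ← Polynomial.hom_eval₂,
        ← Polynomial.aeval_def, hp, map_zero]
  have hK : ∀ c : K, IsAlgebraic A₀ (algebraMap K M c) := by
    intro c
    have : algebraMap K M c = algebraMap A₀ M (algebraMap K A₀ c) := rfl
    rw [this]
    exact isAlgebraic_algebraMap _
  let C : Subalgebra A₀ M := Subalgebra.algebraicClosure A₀ M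
  have hcl : Subring.closure (Set.range α ∪ Set.range (algebraMap K M)) ≤ C.toSubring := by
    rw [Subring.closure_le]
    rintro z (⟨l, rfl⟩ | ⟨c, rfl⟩)
    · exact hL l
    · exact hK c
  have halg : Algebra.IsAlgebraic A₀ M := by
    constructor
    intro z
    obtain ⟨a, b', ha, hb', hb0, hz⟩ := hgen z
    have ha' : IsAlgebraic A₀ a := hcl ha
    have hb'' : IsAlgebraic A₀ b' := hcl hb'
    have : z = a * b'⁻¹ := by
      rw [← hz, mul_assoc, mul_inv_cancel₀ hb0, mul_one]
    rw [this]
    exact ha'.mul hb''.inv
  have h1 : Algebra.trdeg K M ≤ #s := Algebra.IsAlgebraic.trdeg_le_cardinalMk K s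
  have h2 : #s ≤ #ι := Cardinal.mk_range_le
  have h3 : #ι = Algebra.trdeg k L := hb.cardinalMk_eq_trdeg
  exact h1.trans (h2.trans h3.le)

/-- **(D-alg-1)** For field extensions `L / k` and `k → K` there is a field `Ω` receiving
`L` and `K` compatibly over `k`, in which a transcendence basis of `L / k` stays algebraically
independent over `K`. -/
theorem exists_compositum {k L K : Type u} [Field k] [Field L] [Field K] [Algebra k L]
    (j : k →+* K) :
    ∃ (Ω : Type u) (_ : Field Ω) (σ : L →+* Ω) (τ : K →+* Ω) (ι : Type u) (b : ι → L),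
      σ.comp (algebraMap k L) = τ.comp j ∧ #ι = Algebra.trdeg k L ∧
      (letI := τ.toAlgebra; AlgebraicIndependent K (σ ∘ b)) := by
  obtain ⟨ι, b, hb⟩ := exists_isTranscendenceBasis' k L
  let R := MvPolynomial ι k
  let Ω := AlgebraicClosure (FractionRing (MvPolynomial ι K))
  let τ₀ : MvPolynomial ι K →+* Ω := algebraMap (MvPolynomial ι K) Ω
  have hτ₀ : Function.Injective τ₀ := by
    have h1 : Function.Injective (algebraMap (MvPolynomial ι K) (FractionRing (MvPolynomial ι K))) :=
      IsFractionRing.injective _ _
    have h2 : Function.Injective (algebraMap (FractionRing (MvPolynomial ι K)) Ω) :=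
      FaithfulSMul.algebraMap_injective _ _
    have : τ₀ = (algebraMap (FractionRing (MvPolynomial ι K)) Ω).comp
        (algebraMap (MvPolynomial ι K) (FractionRing (MvPolynomial ι K))) :=
      IsScalarTower.algebraMap_eq _ _ _
    rw [this]
    exact h2.comp h1
  let τ : K →+* Ω := τ₀.comp MvPolynomial.C
  letI algRL : Algebra R L := (MvPolynomial.aeval b : R →ₐ[k] L).toRingHom.toAlgebra
  letI algRΩ : Algebra R Ω := (τ₀.comp (MvPolynomial.map j)).toAlgebra
  have hinjRL : Function.Injective (algebraMap R L) := hb.1
  have hinjRΩ : Function.Injective (algebraMap R Ω) :=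
    hτ₀.comp (MvPolynomial.map_injective j j.injective)
  haveI : Module.IsTorsionFree R L := Module.isTorsionFree_iff_algebraMap_injective.mpr hinjRL
  haveI : Module.IsTorsionFree R Ω := Module.isTorsionFree_iff_algebraMap_injective.mpr hinjRΩ
  haveI : Algebra.IsAlgebraic R L := by
    haveI := hb.isAlgebraic
    refine Algebra.IsAlgebraic.of_ringHom_of_comp_eq (S := Algebra.adjoin k (Set.range b)) (B := L)
      (hb.1.aevalEquiv : R →+* Algebra.adjoin k (Set.range b)) (RingHom.id L)
      hb.1.aevalEquiv.surjective Function.injective_id ?_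
    ext x
    · simp [RingHom.algebraMap_toAlgebra]
    · simp [RingHom.algebraMap_toAlgebra]
  let σ' : L →ₐ[R] Ω := IsAlgClosed.lift
  refine ⟨Ω, inferInstance, σ'.toRingHom, τ, ι, b, ?_, hb.cardinalMk_eq_trdeg, ?_⟩
  · ext c
    have h1 : algebraMap k L c = algebraMap R L (MvPolynomial.C c) := by
      rw [RingHom.algebraMap_toAlgebra]
      exact (MvPolynomial.aeval_C (f := b) c).symm
    have h2 : σ' (algebraMap R L (MvPolynomial.C c)) = algebraMap R Ω (MvPolynomial.C c) :=
      σ'.commutes _
    simp only [RingHom.coe_comp, Function.comp_apply, AlgHom.toRingHom_eq_coe, RingHom.coe_coe]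
    rw [h1, h2]
    rw [RingHom.algebraMap_toAlgebra]
    exact congrArg τ₀ (MvPolynomial.map_C j c)
  · letI := τ.toAlgebra
    have hX : ∀ i, σ' (b i) = τ₀ (MvPolynomial.X i) := by
      intro i
      have h1 : b i = algebraMap R L (MvPolynomial.X i) := by
        rw [RingHom.algebraMap_toAlgebra]
        exact (MvPolynomial.aeval_X (f := b) i).symm
      rw [h1, σ'.commutes]
      rw [RingHom.algebraMap_toAlgebra]
      exact congrArg τ₀ (MvPolynomial.map_X j i)
    have hfun : (σ'.toRingHom ∘ b) = fun i => τ₀ (MvPolynomial.X i) := by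
      funext i; exact hX i
    rw [hfun]
    -- `τ₀` as a `K`-algebra hom
    let τA : MvPolynomial ι K →ₐ[K] Ω :=
      { τ₀ with commutes' := fun c => rfl }
    have := (MvPolynomial.algebraicIndependent_X ι K).map' (f := τA) hτ₀
    exact this

/-- **(D-alg-2)** lower bound on a transcendence degree from an algebraically independent
family visible in a bigger field. -/
theorem le_trdeg_of_algebraicIndependent_comp {K₁ M Ω K : Type u} [Field K₁] [Field M] [Field Ω]
    [Field K] [Algebra K₁ M] (ψ : M →+* Ω) (τ : K →+* Ω) (ρ : K₁ →+* K)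
    (hcomm : ψ.comp (algebraMap K₁ M) = τ.comp ρ) {ι : Type u} (c : ι → M)
    (hc : letI := τ.toAlgebra; AlgebraicIndependent K (ψ ∘ c)) :
    #ι ≤ Algebra.trdeg K₁ M := by
  letI := τ.toAlgebra
  have h : AlgebraicIndependent K₁ c :=
    AlgebraicIndependent.of_ringHom_of_comp_eq (f := ρ) (g := ψ) hc ρ.injective
      (by rw [RingHom.algebraMap_toAlgebra]; exact hcomm.symm)
  exact h.cardinalMk_le_trdeg

end Groth.Agent.H7.TrdegBC
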