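import Groth.Agent.Lib.Helper7.TrdegBC1
import Groth.Agent.Lib.Helper1.PISplit
import Groth.Prelude.Def_Dual3
import Mathlib

/-!
# Transcendence degrees of residue fields under base change: schemes (for S10335)
-/

set_option autoImplicit false
universe u
open CategoryTheory CategoryTheory.Limits AlgebraicGeometry Scheme.Pullback Cardinal

namespace Groth.Agent.H7.TrdegBC

variable {X S S' : Scheme.{u}}

/-- **(C)** residue transcendence degrees do not grow under base change. -/
theorem resTrdeg_snd_le (f : X ⟶ S) (g : S' ⟶ S) (t : ↑(pullback f g)) :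
    Dual3.resTrdeg (pullback.snd f g) t ≤ Dual3.resTrdeg f (pullback.fst f g t) := by
  unfold Dual3.resTrdeg
  letI algL : Algebra (S.residueField (f (pullback.fst f g t))) (X.residueField (pullback.fst f g t)) :=
    (f.residueFieldMap (pullback.fst f g t)).hom.toAlgebra
  letI algM : Algebra (S'.residueField (pullback.snd f g t)) ((pullback f g).residueField t) :=
    ((pullback.snd f g).residueFieldMap t).hom.toAlgebra
  have key := residueFieldCongr_inv_residueFieldMap_ofPoint t
  let T := Triplet.ofPoint t
  let φ := ofPointTensor t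
  have hinl : T.tensorInl ≫ φ = (pullback.fst f g).residueFieldMap t := pushout.inl_desc _ _ _
  have hinr : T.tensorInr ≫ φ = (pullback.snd f g).residueFieldMap t := pushout.inr_desc _ _ _
  refine trdeg_le_of_frac_closure (k := S.residueField (f (pullback.fst f g t)))
    (L := X.residueField (pullback.fst f g t)) (K := S'.residueField (pullback.snd f g t))
    (M := (pullback f g).residueField t)
    ((pullback.fst f g).residueFieldMap t).hom
    ((S.residueFieldCongr T.hy).inv ≫ g.residueFieldMap (pullback.snd f g t)).hom ?_ ?_
  · have e1 : (S.residueFieldCongr (Triplet.ofPoint t).hx).inv ≫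
        f.residueFieldMap (Triplet.ofPoint t).x = f.residueFieldMap (pullback.fst f g t) := by
      have : S.residueFieldCongr (Triplet.ofPoint t).hx = Iso.refl _ := Scheme.residueFieldCongr_refl
      rw [this]; exact Category.id_comp _
    rw [e1] at key
    rw [RingHom.algebraMap_toAlgebra, RingHom.algebraMap_toAlgebra]
    exact congrArg (fun φ => φ.hom) key
  · intro z
    obtain ⟨a, b, hb0, hz⟩ := Groth.Agent.H1.PISplit.frac_ofPointTensor t z
    have htop := Groth.Agent.H1.PISplit.closure_range_eq_top T
    have hsub : ∀ a : T.tensor, φ.hom a ∈ Subring.closure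
        (Set.range ((pullback.fst f g).residueFieldMap t).hom ∪
          Set.range (algebraMap (S'.residueField (pullback.snd f g t)) ((pullback f g).residueField t))) := by
      intro a
      have ha : a ∈ Subring.closure (Set.range T.tensorInl.hom ∪ Set.range T.tensorInr.hom) := by
        rw [htop]; trivial
      have h3 : φ.hom a ∈ (Subring.closure (Set.range T.tensorInl.hom ∪ Set.range T.tensorInr.hom)).map φ.hom :=
        ⟨a, ha, rfl⟩
      rw [RingHom.map_closure] at h3
      refine Subring.closure_mono ?_ h3
      rintro _ ⟨y, (⟨l, rfl⟩ | ⟨c, rfl⟩), rfl⟩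
      · left
        refine ⟨l, ?_⟩
        have := congrArg (fun ψ => ψ.hom l) hinl
        exact this.symm
      · right
        refine ⟨c, ?_⟩
        have := congrArg (fun ψ => ψ.hom c) hinr
        exact this.symm
    exact ⟨φ.hom a, φ.hom b, hsub a, hsub b, hb0, hz⟩

/-- a morphism from the spectrum of a field through a residue field: its point and its
residue field map. -/
theorem exists_desc_eq {K : Type u} [Field K] {Y : Scheme.{u}} (y : Y)
    (τ : Y.residueField y ⟶ CommRingCat.of K) (φ' : Spec (CommRingCat.of K) ⟶ Y)
    (hφ' : φ' = Spec.map τ ≫ Y.fromSpecResidueField y) :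
    ∃ e : φ' (IsLocalRing.closedPoint K) = y,
      Scheme.descResidueField (Scheme.stalkClosedPointTo φ') = (Y.residueFieldCongr e).hom ≫ τ := by
  subst hφ'
  have h := (Scheme.SpecToEquivOfField K Y).right_inv ⟨y, τ⟩
  rw [Scheme.SpecToEquivOfField_eq_iff] at h
  obtain ⟨e, he⟩ := h
  exact ⟨e, he⟩

/-- **(D)** over a pair of points with the same image there is a point of the fibre product
whose residue transcendence degree does not drop. -/
theorem exists_resTrdeg_ge (f : X ⟶ S) (g : S' ⟶ S) (x : X) (s' : S') (h : f x = g s') :
    ∃ t : ↑(pullback f g), pullback.fst f g t = x ∧ pullback.snd f g t = s' ∧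
      Dual3.resTrdeg f x ≤ Dual3.resTrdeg (pullback.snd f g) t := by
  letI algL : Algebra (S.residueField (f x)) (X.residueField x) := (f.residueFieldMap x).hom.toAlgebra
  let j : S.residueField (f x) →+* S'.residueField s' :=
    ((S.residueFieldCongr h).hom ≫ g.residueFieldMap s').hom
  obtain ⟨Ω, _, σ, τ, ι, b, hστ, hcard, hind⟩ :=
    exists_compositum (k := S.residueField (f x)) (L := X.residueField x) (K := S'.residueField s') j
  let φX : Spec (CommRingCat.of Ω) ⟶ X := Spec.map (CommRingCat.ofHom σ) ≫ X.fromSpecResidueField x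
  let φS : Spec (CommRingCat.of Ω) ⟶ S' := Spec.map (CommRingCat.ofHom τ) ≫ S'.fromSpecResidueField s'
  have hφ : φX ≫ f = φS ≫ g := by
    have h1 : φX ≫ f = Spec.map (CommRingCat.ofHom (σ.comp (algebraMap (S.residueField (f x)) (X.residueField x)))) ≫
        S.fromSpecResidueField (f x) := by
      simp only [φX, Category.assoc, ← Scheme.Hom.SpecMap_residueFieldMap_fromSpecResidueField]
      rw [← Spec.map_comp_assoc]
      rfl
    have h2 : φS ≫ g = Spec.map (CommRingCat.ofHom (τ.comp j)) ≫ S.fromSpecResidueField (f x) := by
      simp only [φS, Category.assoc, ← Scheme.Hom.SpecMap_residueFieldMap_fromSpecResidueField]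
      rw [← Scheme.residueFieldCongr_fromSpecResidueField h, ← Spec.map_comp_assoc, ← Spec.map_comp_assoc]
      rfl
    rw [h1, h2, hστ]
  let φ : Spec (CommRingCat.of Ω) ⟶ pullback f g := pullback.lift φX φS hφ
  let t : ↑(pullback f g) := φ (IsLocalRing.closedPoint Ω)
  let ψ : (pullback f g).residueField t ⟶ CommRingCat.of Ω :=
    Scheme.descResidueField (Scheme.stalkClosedPointTo φ)
  obtain ⟨e₁, he₁⟩ := exists_desc_eq (K := Ω) x (CommRingCat.ofHom σ) (φ ≫ pullback.fst f g) (pullback.lift_fst _ _ _)
  obtain ⟨e₂, he₂⟩ := exists_desc_eq (K := Ω) s' (CommRingCat.ofHom τ) (φ ≫ pullback.snd f g) (pullback.lift_snd _ _ _)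
  replace he₁ := (Scheme.descResidueField_stalkClosedPointTo_comp (pullback.fst f g) φ).symm.trans he₁
  replace he₂ := (Scheme.descResidueField_stalkClosedPointTo_comp (pullback.snd f g) φ).symm.trans he₂
  have e₁' : pullback.fst f g t = x := e₁
  have e₂' : pullback.snd f g t = s' := e₂
  refine ⟨t, e₁', e₂', ?_⟩
  have hle : #ι ≤ Dual3.resTrdeg (pullback.snd f g) t := by
    unfold Dual3.resTrdeg
    letI algM : Algebra (S'.residueField (pullback.snd f g t)) ((pullback f g).residueField t) :=
      ((pullback.snd f g).residueFieldMap t).hom.toAlgebra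
    refine le_trdeg_of_algebraicIndependent_comp (K₁ := S'.residueField (pullback.snd f g t))
      (M := (pullback f g).residueField t) (Ω := Ω) (K := S'.residueField s') ψ.hom τ
      (S'.residueFieldCongr e₂').hom.hom ?_
      (fun i => ((pullback.fst f g).residueFieldMap t).hom ((X.residueFieldCongr e₁').inv.hom (b i))) ?_
    · rw [RingHom.algebraMap_toAlgebra]
      exact congrArg (fun φ => φ.hom) he₂
    · have hfun : (ψ.hom ∘ fun i => ((pullback.fst f g).residueFieldMap t).hom
          ((X.residueFieldCongr e₁').inv.hom (b i))) = σ ∘ b := by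
        funext i
        have h3 := congrArg (fun φ => φ.hom ((X.residueFieldCongr e₁').inv.hom (b i))) he₁
        simp only [CommRingCat.hom_comp, RingHom.coe_comp, Function.comp_apply, CommRingCat.hom_ofHom] at h3
        rw [Function.comp_apply, Function.comp_apply]
        refine h3.trans ?_
        have h4 : (X.residueFieldCongr e₁').hom.hom ((X.residueFieldCongr e₁').inv.hom (b i)) = b i :=
          congrArg (fun φ => φ.hom (b i)) (X.residueFieldCongr e₁').inv_hom_id
        exact congrArg σ h4
      rw [hfun]
      exact hind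
  have hx : Dual3.resTrdeg f x = #ι := by
    unfold Dual3.resTrdeg
    exact hcard.symm
  rw [hx]
  exact hle

end Groth.Agent.H7.TrdegBC
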