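import Groth.Agent.Lib.Helper7.TrdegBC1
import Mathlib

/-!
# Transcendence bases under amalgamation of residue fields (for S7287)
-/

set_option autoImplicit false
universe u
open Cardinal

namespace Groth.Agent.H7.TrdegBC

/-- **(AlgOver)** If `L` is algebraic over `k[b]`, then everything in the field generated by
the images of `L` and `K` inside `M` is algebraic over `K[α b]`. -/
theorem isAlgebraic_of_frac_closure {k L K M : Type u} [Field k] [Field L] [Field K] [Field M]
    [Algebra k L] [Algebra K M] (α : L →+* M) (j : k →+* K)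
    (hcomm : α.comp (algebraMap k L) = (algebraMap K M).comp j)
    {ι : Type u} (b : ι → L) (hb : Algebra.IsAlgebraic (Algebra.adjoin k (Set.range b)) L)
    (z a b' : M)
    (ha : a ∈ Subring.closure (Set.range α ∪ Set.range (algebraMap K M)))
    (hb' : b' ∈ Subring.closure (Set.range α ∪ Set.range (algebraMap K M)))
    (hb0 : b' ≠ 0) (hz : z * b' = a) :
    IsAlgebraic (Algebra.adjoin K (Set.range (α ∘ b))) z := by
  let s : Set M := Set.range (α ∘ b)
  let A₀ : Subalgebra K M := Algebra.adjoin K s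
  have hL : ∀ l : L, IsAlgebraic A₀ (α l) := by
    intro l
    have hl : IsAlgebraic (Algebra.adjoin k (Set.range b)) l := hb.isAlgebraic l
    have hmem : ∀ y : Algebra.adjoin k (Set.range b), α (y : L) ∈ A₀ := by
      rintro ⟨y, hy⟩
      induction hy using Algebra.adjoin_induction with
      | mem x hx =>
        obtain ⟨i, rfl⟩ := hx
        exact Algebra.subset_adjoin ⟨i, rfl⟩
      | algebraMap r =>
        have : α (algebraMap k L r) = algebraMap K M (j r) := by
          have := congrArg (fun φ => φ r) hcomm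
          simpa using this
        simp only [this]
        exact A₀.algebraMap_mem _
      | add x y _ _ hx hy => simpa using A₀.add_mem hx hy
      | mul x y _ _ hx hy => simpa using A₀.mul_mem hx hy
    let F : Algebra.adjoin k (Set.range b) →+* A₀ :=
      { toFun := fun y => ⟨α (y : L), hmem y⟩
        map_one' := by ext; simp
        map_mul' := by intro x y; ext; simp
        map_zero' := by ext; simp
        map_add' := by intro x y; ext; simp }
    obtain ⟨p, hp0, hp⟩ := hl
    refine ⟨p.map F, ?_, ?_⟩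
    · have hFinj : Function.Injective F := by
        intro x y hxy
        have : α (x : L) = α (y : L) := congrArg Subtype.val hxy
        exact Subtype.ext (α.injective this)
      exact (Polynomial.map_ne_zero_iff hFinj).mpr hp0
    · have h1 : (algebraMap A₀ M).comp F = α.comp (algebraMap (Algebra.adjoin k (Set.range b)) L) := by
        ext y; rfl
      rw [Polynomial.aeval_def, Polynomial.eval₂_map, h1, ← Polynomial.hom_eval₂,
        ← Polynomial.aeval_def, hp, map_zero]
  have hK : ∀ c : K, IsAlgebraic A₀ (algebraMap K M c) := by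
    intro c
    have : algebraMap K M c = algebraMap A₀ M (algebraMap K A₀ c) := rfl
    rw [this]
    exact isAlgebraic_algebraMap _
  let C : Subalgebra A₀ M := Subalgebra.algebraicClosure A₀ M
  have hcl : Subring.closure (Set.range α ∪ Set.range (algebraMap K M)) ≤ C.toSubring := by
    rw [Subring.closure_le]
    rintro z (⟨l, rfl⟩ | ⟨c, rfl⟩)
    · exact hL l
    · exact hK c
  have ha' : IsAlgebraic A₀ a := hcl ha
  have hb'' : IsAlgebraic A₀ b' := hcl hb'
  have : z = a * b'⁻¹ := by
    rw [← hz, mul_assoc, mul_inv_cancel₀ hb0, mul_one]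
  rw [this]
  exact ha'.mul hb''.inv

/-- **(D-alg-1'')** a prescribed algebraically independent family can be kept independent
in a compositum. -/
theorem exists_compositum_of_algebraicIndependent {k L K : Type u} [Field k] [Field L] [Field K]
    [Algebra k L] (j : k →+* K) {ι : Type u} (b : ι → L) (hb : AlgebraicIndependent k b) :
    ∃ (Ω : Type u) (_ : Field Ω) (σ : L →+* Ω) (τ : K →+* Ω),
      σ.comp (algebraMap k L) = τ.comp j ∧
      (letI := τ.toAlgebra; AlgebraicIndependent K (σ ∘ b)) := by
  -- extend `b` to a transcendence basis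
  obtain ⟨t, hst, ht⟩ := exists_isTranscendenceBasis_superset (R := k) (s := Set.range b)
    hb.coe_range
  let b' : t → L := fun y => (y : L)
  have hb' : IsTranscendenceBasis k b' := ht
  let R := MvPolynomial t k
  let Ω := AlgebraicClosure (FractionRing (MvPolynomial t K))
  let τ₀ : MvPolynomial t K →+* Ω := algebraMap (MvPolynomial t K) Ω
  have hτ₀ : Function.Injective τ₀ := by
    have h1 : Function.Injective (algebraMap (MvPolynomial t K) (FractionRing (MvPolynomial t K))) :=
      IsFractionRing.injective _ _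
    have h2 : Function.Injective (algebraMap (FractionRing (MvPolynomial t K)) Ω) :=
      FaithfulSMul.algebraMap_injective _ _
    have : τ₀ = (algebraMap (FractionRing (MvPolynomial t K)) Ω).comp
        (algebraMap (MvPolynomial t K) (FractionRing (MvPolynomial t K))) :=
      IsScalarTower.algebraMap_eq _ _ _
    rw [this]
    exact h2.comp h1
  let τ : K →+* Ω := τ₀.comp MvPolynomial.C
  letI algRL : Algebra R L := (MvPolynomial.aeval b' : R →ₐ[k] L).toRingHom.toAlgebra
  letI algRΩ : Algebra R Ω := (τ₀.comp (MvPolynomial.map j)).toAlgebra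
  have hinjRL : Function.Injective (algebraMap R L) := hb'.1
  have hinjRΩ : Function.Injective (algebraMap R Ω) :=
    hτ₀.comp (MvPolynomial.map_injective j j.injective)
  haveI : Module.IsTorsionFree R L := Module.isTorsionFree_iff_algebraMap_injective.mpr hinjRL
  haveI : Module.IsTorsionFree R Ω := Module.isTorsionFree_iff_algebraMap_injective.mpr hinjRΩ
  haveI : Algebra.IsAlgebraic R L := by
    haveI := hb'.isAlgebraic
    refine Algebra.IsAlgebraic.of_ringHom_of_comp_eq (S := Algebra.adjoin k (Set.range b')) (B := L)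
      (hb'.1.aevalEquiv : R →+* Algebra.adjoin k (Set.range b')) (RingHom.id L)
      hb'.1.aevalEquiv.surjective Function.injective_id ?_
    ext x
    · simp [RingHom.algebraMap_toAlgebra]
    · simp [RingHom.algebraMap_toAlgebra]
  let σ' : L →ₐ[R] Ω := IsAlgClosed.lift
  refine ⟨Ω, inferInstance, σ'.toRingHom, τ, ?_, ?_⟩
  · ext c
    have h1 : algebraMap k L c = algebraMap R L (MvPolynomial.C c) := by
      rw [RingHom.algebraMap_toAlgebra]
      exact (MvPolynomial.aeval_C (f := b') c).symm
    have h2 : σ' (algebraMap R L (MvPolynomial.C c)) = algebraMap R Ω (MvPolynomial.C c) :=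
      σ'.commutes _
    simp only [RingHom.coe_comp, Function.comp_apply, AlgHom.toRingHom_eq_coe, RingHom.coe_coe]
    rw [h1, h2]
    rw [RingHom.algebraMap_toAlgebra]
    exact congrArg τ₀ (MvPolynomial.map_C j c)
  · letI := τ.toAlgebra
    have hX : ∀ y : t, σ' (b' y) = τ₀ (MvPolynomial.X y) := by
      intro y
      have h1 : b' y = algebraMap R L (MvPolynomial.X y) := by
        rw [RingHom.algebraMap_toAlgebra]
        exact (MvPolynomial.aeval_X (f := b') y).symm
      rw [h1, σ'.commutes]
      rw [RingHom.algebraMap_toAlgebra]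
      exact congrArg τ₀ (MvPolynomial.map_X j y)
    let τA : MvPolynomial t K →ₐ[K] Ω :=
      { τ₀ with commutes' := fun c => rfl }
    have hind : AlgebraicIndependent K (fun y : t => τ₀ (MvPolynomial.X y)) :=
      (MvPolynomial.algebraicIndependent_X t K).map' (f := τA) hτ₀
    -- restrict to `b`
    let e : ι → t := fun i => ⟨b i, hst ⟨i, rfl⟩⟩
    have he : Function.Injective e := by
      intro i i' hii
      exact hb.injective (congrArg Subtype.val hii)
    have hfun : (σ'.toRingHom ∘ b) = (fun y : t => τ₀ (MvPolynomial.X y)) ∘ e := by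
      funext i
      exact hX (e i)
    rw [hfun]
    exact hind.comp e he

/-- **(Step 3)** a transcendence basis of `K₁ / k` stays algebraically independent over `L`
inside `L₁`, when a transcendence basis of `L / k` stays algebraically independent over `K₁`. -/
theorem algebraicIndependent_base_of_tower {k L K₁ L₁ : Type u} [Field k] [Field L] [Field K₁]
    [Field L₁] (iL : k →+* L) (i₁ : k →+* K₁) (a₁ : L →+* L₁) (c₁ : K₁ →+* L₁)
    (hsq : a₁.comp iL = c₁.comp i₁) {ι κ : Type u} (b : ι → L) (c : κ → K₁)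
    (hbalg : letI := iL.toAlgebra; Algebra.IsAlgebraic (Algebra.adjoin k (Set.range b)) L)
    (hc : letI := i₁.toAlgebra; AlgebraicIndependent k c)
    (H₁ : letI := c₁.toAlgebra; AlgebraicIndependent K₁ (a₁ ∘ b)) :
    letI := a₁.toAlgebra; AlgebraicIndependent L (c₁ ∘ c) := by
  letI algkL : Algebra k L := iL.toAlgebra
  letI algkK : Algebra k K₁ := i₁.toAlgebra
  letI algKL : Algebra K₁ L₁ := c₁.toAlgebra
  letI algkL₁ : Algebra k L₁ := (c₁.comp i₁).toAlgebra
  haveI : IsScalarTower k K₁ L₁ := IsScalarTower.of_algebraMap_eq (fun x => rfl)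
  have h3a : AlgebraicIndependent k (Sum.elim (a₁ ∘ b) (algebraMap K₁ L₁ ∘ c)) :=
    hc.sumElim_comp H₁
  have h3a' : AlgebraicIndependent k (Sum.elim (c₁ ∘ c) (a₁ ∘ b)) := by
    refine (algebraicIndependent_equiv' (Equiv.sumComm κ ι) ?_).mpr h3a
    funext x
    rcases x with x | x <;> rfl
  have h3b : AlgebraicIndependent (Algebra.adjoin k (Set.range (a₁ ∘ b))) (c₁ ∘ c) :=
    (AlgebraicIndependent.sumElim_iff.mp h3a').2
  have h3c := h3b.subalgebraAlgebraicClosure
  letI algLL₁ : Algebra L L₁ := a₁.toAlgebra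
  have hmem : ∀ l : L, IsAlgebraic (Algebra.adjoin k (Set.range (a₁ ∘ b))) (a₁ l) := by
    intro l
    refine isAlgebraic_of_frac_closure (k := k) (L := L) (K := k) (M := L₁) a₁ (RingHom.id k)
      ?_ b hbalg (a₁ l) (a₁ l) 1 (Subring.subset_closure (Or.inl ⟨l, rfl⟩)) (Subring.one_mem _)
      one_ne_zero (mul_one _)
    rw [RingHom.comp_id]
    exact hsq
  let F : L →+* Subalgebra.algebraicClosure (Algebra.adjoin k (Set.range (a₁ ∘ b))) L₁ :=
    { toFun := fun l => ⟨a₁ l, hmem l⟩
      map_one' := by ext; simp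
      map_mul' := by intro x y; ext; simp
      map_zero' := by ext; simp
      map_add' := by intro x y; ext; simp }
  have hFinj : Function.Injective F := by
    intro x y hxy
    exact a₁.injective (congrArg Subtype.val hxy)
  refine AlgebraicIndependent.of_ringHom_of_comp_eq (f := F) (g := RingHom.id L₁) h3c hFinj ?_
  ext l
  rfl

/-- **(Step 5)** if a transcendence basis `c` of `K₁ / k` stays algebraically independent over
`L₂` in `Ω`, then a family of `L` independent over `K₂` stays independent over any field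
generated by `K₁` and `K₂` in `Ω`. -/
theorem algebraicIndependent_over_compositum {k L K₁ K₂ L₂ F Ω : Type u} [Field k] [Field L]
    [Field K₁] [Field K₂] [Field L₂] [Field F] [Field Ω]
    (i₁ : k →+* K₁) (i₂ : k →+* K₂) (a₂ : L →+* L₂) (c₂ : K₂ →+* L₂)
    (γ₁ : K₁ →+* Ω) (τ₂ : L₂ →+* Ω) (u₁ : K₁ →+* F) (u₂ : K₂ →+* F) (ρ : F →+* Ω)
    (hk : γ₁.comp i₁ = (τ₂.comp c₂).comp i₂)
    (hρ₁ : ρ.comp u₁ = γ₁) (hρ₂ : ρ.comp u₂ = τ₂.comp c₂)
    {ι κ : Type u} (b : ι → L) (c : κ → K₁)
    (hcalg : letI := i₁.toAlgebra; Algebra.IsAlgebraic (Algebra.adjoin k (Set.range c)) K₁)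
    (H₂ : letI := c₂.toAlgebra; AlgebraicIndependent K₂ (a₂ ∘ b))
    (h4 : letI := τ₂.toAlgebra; AlgebraicIndependent L₂ (γ₁ ∘ c))
    (hgen : ∀ z : F, ∃ a b' : F, a ∈ Subring.closure (Set.range u₁ ∪ Set.range u₂) ∧
      b' ∈ Subring.closure (Set.range u₁ ∪ Set.range u₂) ∧ b' ≠ 0 ∧ z * b' = a) :
    letI := ρ.toAlgebra; AlgebraicIndependent F (τ₂ ∘ a₂ ∘ b) := by
  letI algkK₁ : Algebra k K₁ := i₁.toAlgebra
  letI algK₂L₂ : Algebra K₂ L₂ := c₂.toAlgebra
  letI algL₂Ω : Algebra L₂ Ω := τ₂.toAlgebra
  letI algK₂Ω : Algebra K₂ Ω := (τ₂.comp c₂).toAlgebra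
  haveI : IsScalarTower K₂ L₂ Ω := IsScalarTower.of_algebraMap_eq (fun x => rfl)
  have h5b : AlgebraicIndependent K₂ (Sum.elim (γ₁ ∘ c) (algebraMap L₂ Ω ∘ (a₂ ∘ b))) :=
    H₂.sumElim_comp h4
  have h5b' : AlgebraicIndependent K₂ (Sum.elim (τ₂ ∘ a₂ ∘ b) (γ₁ ∘ c)) := by
    refine (algebraicIndependent_equiv' (Equiv.sumComm ι κ) ?_).mpr h5b
    funext x
    rcases x with x | x <;> rfl
  have h5c : AlgebraicIndependent (Algebra.adjoin K₂ (Set.range (γ₁ ∘ c))) (τ₂ ∘ a₂ ∘ b) :=
    (AlgebraicIndependent.sumElim_iff.mp h5b').2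
  have h5d := h5c.subalgebraAlgebraicClosure
  letI algFΩ : Algebra F Ω := ρ.toAlgebra
  have hmem : ∀ z : F, IsAlgebraic (Algebra.adjoin K₂ (Set.range (γ₁ ∘ c))) (ρ z) := by
    intro z
    obtain ⟨a, b', ha, hb', hb0, hz⟩ := hgen z
    have hsub : ∀ y ∈ Subring.closure (Set.range u₁ ∪ Set.range u₂),
        ρ y ∈ Subring.closure (Set.range γ₁ ∪ Set.range (algebraMap K₂ Ω)) := by
      intro y hy
      have h3 : ρ y ∈ (Subring.closure (Set.range u₁ ∪ Set.range u₂)).map ρ := ⟨y, hy, rfl⟩
      rw [RingHom.map_closure] at h3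
      refine Subring.closure_mono ?_ h3
      rintro _ ⟨w, (⟨l, rfl⟩ | ⟨l, rfl⟩), rfl⟩
      · left
        exact ⟨l, (congrArg (fun φ => φ l) hρ₁).symm⟩
      · right
        exact ⟨l, (congrArg (fun φ => φ l) hρ₂).symm⟩
    refine isAlgebraic_of_frac_closure (k := k) (L := K₁) (K := K₂) (M := Ω) γ₁ i₂ ?_ c hcalg
      (ρ z) (ρ a) (ρ b') (hsub a ha) (hsub b' hb') ((map_ne_zero ρ).mpr hb0) ?_
    · exact hk
    · rw [← map_mul, hz]
  let Φ : F →+* Subalgebra.algebraicClosure (Algebra.adjoin K₂ (Set.range (γ₁ ∘ c))) Ω :=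
    { toFun := fun z => ⟨ρ z, hmem z⟩
      map_one' := by ext; simp
      map_mul' := by intro x y; ext; simp
      map_zero' := by ext; simp
      map_add' := by intro x y; ext; simp }
  have hΦinj : Function.Injective Φ := by
    intro x y hxy
    exact ρ.injective (congrArg Subtype.val hxy)
  refine AlgebraicIndependent.of_ringHom_of_comp_eq (f := Φ) (g := RingHom.id Ω) h5d hΦinj ?_
  ext l
  rfl

end Groth.Agent.H7.TrdegBC
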