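import Groth.Agent.Lib.Helper7.TrdegBC4
import Groth.Agent.Lib.Helper7.TrdegBC3
import Mathlib

/-!
# S7287: a point of `X''` over a pair of points of `X'` with full residue transcendence degree
-/

set_option autoImplicit false
universe u
open CategoryTheory CategoryTheory.Limits AlgebraicGeometry Scheme.Pullback Cardinal

namespace Groth.Agent.H7.TrdegBC

/-- residue field maps around a commutative square. -/
theorem residueFieldMap_square {P X Y Z : Scheme.{u}} {a : P ⟶ X} {b : X ⟶ Z} {c : P ⟶ Y}
    {d : Y ⟶ Z} (w : a ≫ b = c ≫ d) (t : P) (e : b (a t) = d (c t)) :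
    b.residueFieldMap (a t) ≫ a.residueFieldMap t =
      (Z.residueFieldCongr e).hom ≫ d.residueFieldMap (c t) ≫ c.residueFieldMap t := by
  have h1 := Scheme.residueFieldMap_comp a b t
  have h2 := Scheme.residueFieldMap_comp c d t
  have h3 := Scheme.Hom.residueFieldMap_congr w t
  rw [← h1, h3, h2]
  rfl

/-- the residue field of a point of Mathlib's fibre product is generated by the residue
fields of its two projections. -/
theorem frac_closure_pullback {X Y Z : Scheme.{u}} (f : X ⟶ Z) (g : Y ⟶ Z) (t : ↑(pullback f g))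
    (z : (pullback f g).residueField t) :
    ∃ a b : (pullback f g).residueField t,
      a ∈ Subring.closure (Set.range ((pullback.fst f g).residueFieldMap t).hom ∪
        Set.range ((pullback.snd f g).residueFieldMap t).hom) ∧
      b ∈ Subring.closure (Set.range ((pullback.fst f g).residueFieldMap t).hom ∪
        Set.range ((pullback.snd f g).residueFieldMap t).hom) ∧ b ≠ 0 ∧ z * b = a := by
  let T := Triplet.ofPoint t
  let φ := ofPointTensor t
  have hinl : T.tensorInl ≫ φ = (pullback.fst f g).residueFieldMap t := pushout.inl_desc _ _ _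
  have hinr : T.tensorInr ≫ φ = (pullback.snd f g).residueFieldMap t := pushout.inr_desc _ _ _
  obtain ⟨a, b, hb0, hz⟩ := Groth.Agent.H1.PISplit.frac_ofPointTensor t z
  have htop := Groth.Agent.H1.PISplit.closure_range_eq_top T
  have hsub : ∀ a : T.tensor, φ.hom a ∈ Subring.closure
      (Set.range ((pullback.fst f g).residueFieldMap t).hom ∪
        Set.range ((pullback.snd f g).residueFieldMap t).hom) := by
    intro a
    have ha : a ∈ Subring.closure (Set.range T.tensorInl.hom ∪ Set.range T.tensorInr.hom) := by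
      rw [htop]; trivial
    have h3 : φ.hom a ∈ (Subring.closure (Set.range T.tensorInl.hom ∪ Set.range T.tensorInr.hom)).map φ.hom :=
      ⟨a, ha, rfl⟩
    rw [RingHom.map_closure] at h3
    refine Subring.closure_mono ?_ h3
    rintro _ ⟨y, (⟨l, rfl⟩ | ⟨c, rfl⟩), rfl⟩
    · left
      refine ⟨l, ?_⟩
      have := congrArg (fun ψ => ψ.hom l) hinl
      exact this.symm
    · right
      refine ⟨c, ?_⟩
      have := congrArg (fun ψ => ψ.hom c) hinr
      exact this.symm
  exact ⟨φ.hom a, φ.hom b, hsub a, hsub b, hb0, hz⟩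

/-- the same for an arbitrary cartesian square. -/
theorem frac_closure_of_isPullback {P X Y Z : Scheme.{u}} {fst : P ⟶ X} {snd : P ⟶ Y}
    {f : X ⟶ Z} {g : Y ⟶ Z} (sq : IsPullback fst snd f g) (t : P) (z : P.residueField t) :
    ∃ a b : P.residueField t,
      a ∈ Subring.closure (Set.range (fst.residueFieldMap t).hom ∪
        Set.range (snd.residueFieldMap t).hom) ∧
      b ∈ Subring.closure (Set.range (fst.residueFieldMap t).hom ∪
        Set.range (snd.residueFieldMap t).hom) ∧ b ≠ 0 ∧ z * b = a := by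
  let e := sq.isoPullback
  let t₀ : ↑(pullback f g) := e.hom t
  let ε : (pullback f g).residueField t₀ ⟶ P.residueField t := e.hom.residueFieldMap t
  have hεbij : Function.Bijective ε.hom := (ConcreteCategory.isIso_iff_bijective ε).mp inferInstance
  obtain ⟨z₀, rfl⟩ := hεbij.2 z
  obtain ⟨a₀, b₀, ha₀, hb₀, hb0, hz⟩ := frac_closure_pullback f g t₀ z₀
  have hfst : (pullback.fst f g).residueFieldMap t₀ ≫ ε =
      (X.residueFieldCongr (by rw [← sq.isoPullback_hom_fst]; rfl)).hom ≫ fst.residueFieldMap t := by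
    rw [← Scheme.residueFieldMap_comp]
    exact Scheme.Hom.residueFieldMap_congr sq.isoPullback_hom_fst t
  have hsnd : (pullback.snd f g).residueFieldMap t₀ ≫ ε =
      (Y.residueFieldCongr (by rw [← sq.isoPullback_hom_snd]; rfl)).hom ≫ snd.residueFieldMap t := by
    rw [← Scheme.residueFieldMap_comp]
    exact Scheme.Hom.residueFieldMap_congr sq.isoPullback_hom_snd t
  have hsub : ∀ y ∈ Subring.closure (Set.range ((pullback.fst f g).residueFieldMap t₀).hom ∪
        Set.range ((pullback.snd f g).residueFieldMap t₀).hom),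
      ε.hom y ∈ Subring.closure (Set.range (fst.residueFieldMap t).hom ∪
        Set.range (snd.residueFieldMap t).hom) := by
    intro y hy
    have h3 : ε.hom y ∈ (Subring.closure (Set.range ((pullback.fst f g).residueFieldMap t₀).hom ∪
        Set.range ((pullback.snd f g).residueFieldMap t₀).hom)).map ε.hom := ⟨y, hy, rfl⟩
    rw [RingHom.map_closure] at h3
    refine Subring.closure_mono ?_ h3
    rintro _ ⟨w, (⟨l, rfl⟩ | ⟨l, rfl⟩), rfl⟩
    · left
      have := congrArg (fun ψ => ψ.hom l) hfst
      exact ⟨_, this.symm⟩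
    · right
      have := congrArg (fun ψ => ψ.hom l) hsnd
      exact ⟨_, this.symm⟩
  refine ⟨ε.hom a₀, ε.hom b₀, hsub a₀ ha₀, hsub b₀ hb₀, (map_ne_zero ε.hom).mpr hb0, ?_⟩
  rw [← map_mul, hz]

/-- **(D⁺)** over a pair of points with the same image there is a point of the fibre product
in whose residue field a prescribed algebraically independent family stays independent. -/
theorem exists_point_algebraicIndependent {X S X' S' : Scheme.{u}} (f : X ⟶ S) (g : S' ⟶ S)
    (g' : X' ⟶ X) (f' : X' ⟶ S') (hsq : IsPullback g' f' f g) (x : X) (s' : S') (h : f x = g s')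
    {ι : Type u} (b : ι → X.residueField x)
    (hb : letI := (f.residueFieldMap x).hom.toAlgebra
      AlgebraicIndependent (S.residueField (f x)) b) :
    ∃ (x' : X') (h₁ : g' x' = x) (_ : f' x' = s'),
      letI := (f'.residueFieldMap x').hom.toAlgebra
      AlgebraicIndependent (S'.residueField (f' x'))
        (fun i => (g'.residueFieldMap x').hom ((X.residueFieldCongr h₁).inv.hom (b i))) := by
  letI algL : Algebra (S.residueField (f x)) (X.residueField x) := (f.residueFieldMap x).hom.toAlgebra
  let j : S.residueField (f x) →+* S'.residueField s' :=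
    ((S.residueFieldCongr h).hom ≫ g.residueFieldMap s').hom
  obtain ⟨Ω, _, σ, τ, hστ, hind⟩ :=
    exists_compositum_of_algebraicIndependent (k := S.residueField (f x)) (L := X.residueField x)
      (K := S'.residueField s') j b hb
  let φX : Spec (CommRingCat.of Ω) ⟶ X := Spec.map (CommRingCat.ofHom σ) ≫ X.fromSpecResidueField x
  let φS : Spec (CommRingCat.of Ω) ⟶ S' := Spec.map (CommRingCat.ofHom τ) ≫ S'.fromSpecResidueField s'
  have hφ : φX ≫ f = φS ≫ g := by
    have h1 : φX ≫ f = Spec.map (CommRingCat.ofHom (σ.comp (algebraMap (S.residueField (f x)) (X.residueField x)))) ≫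
        S.fromSpecResidueField (f x) := by
      simp only [φX, Category.assoc, ← Scheme.Hom.SpecMap_residueFieldMap_fromSpecResidueField]
      rw [← Spec.map_comp_assoc]
      rfl
    have h2 : φS ≫ g = Spec.map (CommRingCat.ofHom (τ.comp j)) ≫ S.fromSpecResidueField (f x) := by
      simp only [φS, Category.assoc, ← Scheme.Hom.SpecMap_residueFieldMap_fromSpecResidueField]
      rw [← Scheme.residueFieldCongr_fromSpecResidueField h, ← Spec.map_comp_assoc, ← Spec.map_comp_assoc]
      rfl
    rw [h1, h2, hστ]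
  let φ : Spec (CommRingCat.of Ω) ⟶ X' := hsq.lift φX φS hφ
  let t : X' := φ (IsLocalRing.closedPoint Ω)
  let ψ : X'.residueField t ⟶ CommRingCat.of Ω :=
    Scheme.descResidueField (Scheme.stalkClosedPointTo φ)
  obtain ⟨e₁, he₁⟩ := exists_desc_eq (K := Ω) x (CommRingCat.ofHom σ) (φ ≫ g') (hsq.lift_fst _ _ _)
  obtain ⟨e₂, he₂⟩ := exists_desc_eq (K := Ω) s' (CommRingCat.ofHom τ) (φ ≫ f') (hsq.lift_snd _ _ _)
  replace he₁ := (Scheme.descResidueField_stalkClosedPointTo_comp g' φ).symm.trans he₁
  replace he₂ := (Scheme.descResidueField_stalkClosedPointTo_comp f' φ).symm.trans he₂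
  have e₁' : g' t = x := e₁
  have e₂' : f' t = s' := e₂
  refine ⟨t, e₁', e₂', ?_⟩
  letI algM : Algebra (S'.residueField (f' t)) (X'.residueField t) :=
    (f'.residueFieldMap t).hom.toAlgebra
  letI algΩ : Algebra (S'.residueField s') Ω := τ.toAlgebra
  have hfun : (ψ.hom ∘ fun i => (g'.residueFieldMap t).hom
      ((X.residueFieldCongr e₁').inv.hom (b i))) = σ ∘ b := by
    funext i
    have h3 := congrArg (fun φ => φ.hom ((X.residueFieldCongr e₁').inv.hom (b i))) he₁
    simp only [CommRingCat.hom_comp, RingHom.coe_comp, Function.comp_apply] at h3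
    rw [Function.comp_apply, Function.comp_apply]
    refine h3.trans ?_
    have h4 : (X.residueFieldCongr e₁').hom.hom ((X.residueFieldCongr e₁').inv.hom (b i)) = b i :=
      congrArg (fun φ => φ.hom (b i)) (X.residueFieldCongr e₁').inv_hom_id
    exact congrArg σ h4
  have hc : AlgebraicIndependent (S'.residueField s') (ψ.hom ∘ fun i => (g'.residueFieldMap t).hom
      ((X.residueFieldCongr e₁').inv.hom (b i))) := by
    rw [hfun]; exact hind
  refine AlgebraicIndependent.of_ringHom_of_comp_eq (f := (S'.residueFieldCongr e₂').hom.hom)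
    (g := ψ.hom) hc (S'.residueFieldCongr e₂').hom.hom.injective ?_
  rw [RingHom.algebraMap_toAlgebra, RingHom.algebraMap_toAlgebra]
  exact (congrArg (fun φ => φ.hom) he₂).symm

/-- **(SB)** a finite transcendence basis of `κ(g' y) / κ(f (g' y))` of the right cardinality
stays algebraically independent over `κ(f' y)`. -/
theorem algebraicIndependent_of_resTrdeg_eq {X S X' S' : Scheme.{u}} (f : X ⟶ S) (g : S' ⟶ S)
    (g' : X' ⟶ X) (f' : X' ⟶ S') (hsq : IsPullback g' f' f g) (y : X') {ι : Type u} [Finite ι]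
    (b : ι → X.residueField (g' y))
    (hb : letI := (f.residueFieldMap (g' y)).hom.toAlgebra
      IsTranscendenceBasis (S.residueField (f (g' y))) b)
    (hr : Dual3.resTrdeg f' y = #ι) :
    letI := (f'.residueFieldMap y).hom.toAlgebra
    AlgebraicIndependent (S'.residueField (f' y)) ((g'.residueFieldMap y).hom ∘ b) := by
  letI algL : Algebra (S.residueField (f (g' y))) (X.residueField (g' y)) :=
    (f.residueFieldMap (g' y)).hom.toAlgebra
  letI algM : Algebra (S'.residueField (f' y)) (X'.residueField y) :=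
    (f'.residueFieldMap y).hom.toAlgebra
  have e : f (g' y) = g (f' y) := by
    rw [← Scheme.Hom.comp_apply, hsq.w, Scheme.Hom.comp_apply]
  let j : S.residueField (f (g' y)) →+* S'.residueField (f' y) :=
    ((S.residueFieldCongr e).hom ≫ g.residueFieldMap (f' y)).hom
  have hcomm : (g'.residueFieldMap y).hom.comp
      (algebraMap (S.residueField (f (g' y))) (X.residueField (g' y))) =
      (algebraMap (S'.residueField (f' y)) (X'.residueField y)).comp j := by
    rw [RingHom.algebraMap_toAlgebra, RingHom.algebraMap_toAlgebra]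
    exact congrArg (fun φ => φ.hom) (residueFieldMap_square hsq.w y e)
  haveI halg : Algebra.IsAlgebraic (Algebra.adjoin (S'.residueField (f' y))
      (Set.range ((g'.residueFieldMap y).hom ∘ b))) (X'.residueField y) := by
    constructor
    intro z
    obtain ⟨a, b', ha, hb', hb0, hz⟩ := frac_closure_of_isPullback hsq y z
    exact isAlgebraic_of_frac_closure (g'.residueFieldMap y).hom j hcomm b hb.isAlgebraic z a b'
      ha hb' hb0 hz
  have hle : #ι ≤ Algebra.trdeg (S'.residueField (f' y)) (X'.residueField y) := by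
    rw [← hr]
    rfl
  exact (Algebra.IsAlgebraic.isTranscendenceBasis_of_le_trdeg_of_finite (S'.residueField (f' y))
    ((g'.residueFieldMap y).hom ∘ b) hle).1

/-- **(TB)** transport of a transcendence basis along an equality of points. -/
theorem isTranscendenceBasis_congr {X S : Scheme.{u}} (f : X ⟶ S) {y y' : X} (e : y = y')
    {ι : Type u} (b : ι → X.residueField y)
    (hb : letI := (f.residueFieldMap y).hom.toAlgebra
      IsTranscendenceBasis (S.residueField (f y)) b) :
    letI := (f.residueFieldMap y').hom.toAlgebra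
    IsTranscendenceBasis (S.residueField (f y')) ((X.residueFieldCongr e).hom.hom ∘ b) := by
  subst e
  exact hb

/-- `X'' = X' ×_X X'`. -/
theorem isPullback_pp {X S S' S'' X' X'' : Scheme.{u}} {f : X ⟶ S} {g : S' ⟶ S}
    {p q : S'' ⟶ S'} (hS : IsPullback p q g g) {f' : X' ⟶ S'} {g' : X' ⟶ X}
    (hX : IsPullback g' f' f g) {f'' : X'' ⟶ S''} {p' q' : X'' ⟶ X'}
    (hp : IsPullback p' f'' f' p) (hq : IsPullback q' f'' f' q) (hpq : p' ≫ g' = q' ≫ g') :
    IsPullback p' q' g' g' := by
  have big : IsPullback p' (f'' ≫ q) (f' ≫ g) g := hp.paste_vert hS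
  have big' : IsPullback p' (q' ≫ f') (g' ≫ f) g := by
    rw [hq.w, hX.w]
    exact big
  exact IsPullback.of_bot big' hpq hX

/-- **(Final)** the lower bound for the residue transcendence degree at `x''`. -/
theorem le_resTrdeg_of_data {X S S' S'' X' X'' : Scheme.{u}} {f : X ⟶ S} {g : S' ⟶ S}
    {p q : S'' ⟶ S'} (hS : IsPullback p q g g) {f' : X' ⟶ S'} {g' : X' ⟶ X}
    (hX : IsPullback g' f' f g) {f'' : X'' ⟶ S''} {p' q' : X'' ⟶ X'}
    (hp : IsPullback p' f'' f' p) (hq : IsPullback q' f'' f' q) (hpq : p' ≫ g' = q' ≫ g')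
    (x'' : X'') (x₁ x₂ : X') (h₁ : p' x'' = x₁) (h₂ : q' x'' = x₂) (e₂ : g' x₁ = g' x₂)
    (ea : f (g' x₁) = g (f' x₁))
    {ι κ : Type u} (b : ι → X.residueField (g' x₁)) (c : κ → S'.residueField (f' x₁))
    (hcalg : letI := ((S.residueFieldCongr ea).hom ≫ g.residueFieldMap (f' x₁)).hom.toAlgebra
      Algebra.IsAlgebraic (Algebra.adjoin (S.residueField (f (g' x₁))) (Set.range c))
        (S'.residueField (f' x₁)))
    (H₂ : letI := (f'.residueFieldMap x₂).hom.toAlgebra
      AlgebraicIndependent (S'.residueField (f' x₂))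
        ((g'.residueFieldMap x₂).hom ∘ (X.residueFieldCongr e₂).hom.hom ∘ b))
    (h4 : letI := (q'.residueFieldMap x'').hom.toAlgebra
      AlgebraicIndependent (X'.residueField (q' x''))
        (fun i => (p'.residueFieldMap x'').hom
          ((X'.residueFieldCongr h₁).inv.hom (((f'.residueFieldMap x₁).hom ∘ c) i)))) :
    #ι ≤ Dual3.resTrdeg f'' x'' := by
  subst h₂
  subst h₁
  have eb : f (g' (p' x'')) = g (f' (q' x'')) := by
    rw [e₂, ← Scheme.Hom.comp_apply, hX.w, Scheme.Hom.comp_apply]
  have ec : f' (p' x'') = p (f'' x'') := by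
    rw [← Scheme.Hom.comp_apply, hp.w, Scheme.Hom.comp_apply]
  have ed : f' (q' x'') = q (f'' x'') := by
    rw [← Scheme.Hom.comp_apply, hq.w, Scheme.Hom.comp_apply]
  -- the ring homs
  let i₁ := ((S.residueFieldCongr ea).hom ≫ g.residueFieldMap (f' (p' x''))).hom
  let i₂ := ((S.residueFieldCongr eb).hom ≫ g.residueFieldMap (f' (q' x''))).hom
  let a₂ := ((X.residueFieldCongr e₂).hom ≫ g'.residueFieldMap (q' x'')).hom
  let c₂ := (f'.residueFieldMap (q' x'')).hom
  let γ₁ := (f'.residueFieldMap (p' x'') ≫ p'.residueFieldMap x'').hom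
  let τ₂ := (q'.residueFieldMap x'').hom
  let u₁ := ((S'.residueFieldCongr ec).hom ≫ p.residueFieldMap (f'' x'')).hom
  let u₂ := ((S'.residueFieldCongr ed).hom ≫ q.residueFieldMap (f'' x'')).hom
  let ρ := (f''.residueFieldMap x'').hom
  have hw : (p' ≫ f') ≫ g = (q' ≫ f') ≫ g := by
    rw [Category.assoc, Category.assoc, ← hX.w, ← Category.assoc, ← Category.assoc, hpq]
  have hk : γ₁.comp i₁ = (τ₂.comp c₂).comp i₂ := by
    have e5 : g (f' (p' x'')) = g (f' (q' x'')) := by rw [← ea, eb]
    have h5 : g.residueFieldMap (f' (p' x'')) ≫ f'.residueFieldMap (p' x'') ≫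
        p'.residueFieldMap x'' = (S.residueFieldCongr e5).hom ≫ g.residueFieldMap (f' (q' x'')) ≫
        f'.residueFieldMap (q' x'') ≫ q'.residueFieldMap x'' := by
      have h5' := residueFieldMap_square hw x'' e5
      rw [Scheme.residueFieldMap_comp, Scheme.residueFieldMap_comp] at h5'
      exact h5'
    have h6 : ((S.residueFieldCongr ea).hom ≫ g.residueFieldMap (f' (p' x''))) ≫
        (f'.residueFieldMap (p' x'') ≫ p'.residueFieldMap x'') =
        ((S.residueFieldCongr eb).hom ≫ g.residueFieldMap (f' (q' x''))) ≫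
        (f'.residueFieldMap (q' x'') ≫ q'.residueFieldMap x'') := by
      rw [Category.assoc, h5, Category.assoc, ← Category.assoc (S.residueFieldCongr ea).hom,
        Scheme.residueFieldCongr_trans_hom]
    exact congrArg (fun φ => φ.hom) h6
  have hρ₁ : ρ.comp u₁ = γ₁ := by
    have h5 := residueFieldMap_square hp.w x'' ec
    have h6 : ((S'.residueFieldCongr ec).hom ≫ p.residueFieldMap (f'' x'')) ≫
        f''.residueFieldMap x'' = f'.residueFieldMap (p' x'') ≫ p'.residueFieldMap x'' := by
      rw [Category.assoc]; exact h5.symm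
    exact congrArg (fun φ => φ.hom) h6
  have hρ₂ : ρ.comp u₂ = τ₂.comp c₂ := by
    have h5 := residueFieldMap_square hq.w x'' ed
    have h6 : ((S'.residueFieldCongr ed).hom ≫ q.residueFieldMap (f'' x'')) ≫
        f''.residueFieldMap x'' = f'.residueFieldMap (q' x'') ≫ q'.residueFieldMap x'' := by
      rw [Category.assoc]; exact h5.symm
    exact congrArg (fun φ => φ.hom) h6
  have hgen : ∀ z : S''.residueField (f'' x''), ∃ a b' : S''.residueField (f'' x''),
      a ∈ Subring.closure (Set.range u₁ ∪ Set.range u₂) ∧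
      b' ∈ Subring.closure (Set.range u₁ ∪ Set.range u₂) ∧ b' ≠ 0 ∧ z * b' = a := by
    intro z
    obtain ⟨a, b', ha, hb', hb0, hz⟩ := frac_closure_of_isPullback hS (f'' x'') z
    have hr1 : Set.range u₁ = Set.range (p.residueFieldMap (f'' x'')).hom := by
      ext y
      constructor
      · rintro ⟨w, rfl⟩; exact ⟨_, rfl⟩
      · rintro ⟨w, rfl⟩
        refine ⟨(S'.residueFieldCongr ec).inv.hom w, ?_⟩
        change (p.residueFieldMap (f'' x'')).hom ((S'.residueFieldCongr ec).hom.hom
          ((S'.residueFieldCongr ec).inv.hom w)) = _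
        congr 1
        exact congrArg (fun φ => φ.hom w) (S'.residueFieldCongr ec).inv_hom_id
    have hr2 : Set.range u₂ = Set.range (q.residueFieldMap (f'' x'')).hom := by
      ext y
      constructor
      · rintro ⟨w, rfl⟩; exact ⟨_, rfl⟩
      · rintro ⟨w, rfl⟩
        refine ⟨(S'.residueFieldCongr ed).inv.hom w, ?_⟩
        change (q.residueFieldMap (f'' x'')).hom ((S'.residueFieldCongr ed).hom.hom
          ((S'.residueFieldCongr ed).inv.hom w)) = _
        congr 1
        exact congrArg (fun φ => φ.hom w) (S'.residueFieldCongr ed).inv_hom_id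
    rw [hr1, hr2]
    exact ⟨a, b', ha, hb', hb0, hz⟩
  have h4' : letI := τ₂.toAlgebra
      AlgebraicIndependent (X'.residueField (q' x'')) (γ₁ ∘ c) := h4
  have key := algebraicIndependent_over_compositum i₁ i₂ a₂ c₂ γ₁ τ₂ u₁ u₂ ρ hk hρ₁ hρ₂ b c hcalg
    H₂ h4' hgen
  letI : Algebra (S''.residueField (f'' x'')) (X''.residueField x'') := ρ.toAlgebra
  exact key.cardinalMk_le_trdeg

theorem S7287_main {X S S' S'' X' X'' : Scheme.{u}}
    (f : X ⟶ S) (r : ℕ) (g : S' ⟶ S)
    (p q : S'' ⟶ S') (hS : IsPullback p q g g)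
    (f' : X' ⟶ S') (g' : X' ⟶ X) (hX : IsPullback g' f' f g)
    (f'' : X'' ⟶ S'') (p' q' : X'' ⟶ X') (hp : IsPullback p' f'' f' p) (hq : IsPullback q' f'' f' q)
    (hpq : p' ≫ g' = q' ≫ g')
    (x : ↥X) (hx : Dual3.resTrdeg f x = r)
    (x₁ x₂ : ↥X') (h₁ : g' x₁ = x) (h₂ : g' x₂ = x)
    (hx₁ : Dual3.resTrdeg f' x₁ = r) (hx₂ : Dual3.resTrdeg f' x₂ = r) :
    ∃ x'' : ↥X'', Dual3.resTrdeg f'' x'' = r ∧ p' x'' = x₁ ∧ q' x'' = x₂ := by
  subst h₁
  have e₂ : g' x₁ = g' x₂ := h₂.symm
  have ea : f (g' x₁) = g (f' x₁) := by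
    rw [← Scheme.Hom.comp_apply, hX.w, Scheme.Hom.comp_apply]
  -- a transcendence basis of `κ(x) / κ(s)`
  obtain ⟨ι, b, hb, hcard⟩ : ∃ (ι : Type u) (b : ι → X.residueField (g' x₁)),
      (letI := (f.residueFieldMap (g' x₁)).hom.toAlgebra;
        IsTranscendenceBasis (S.residueField (f (g' x₁))) b) ∧ #ι = (r : Cardinal.{u}) := by
    letI := (f.residueFieldMap (g' x₁)).hom.toAlgebra
    obtain ⟨ι, b, hb⟩ := exists_isTranscendenceBasis' (S.residueField (f (g' x₁)))
      (X.residueField (g' x₁))
    refine ⟨ι, b, hb, ?_⟩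
    rw [hb.cardinalMk_eq_trdeg]
    exact hx
  haveI : Finite ι := by
    rw [← Cardinal.lt_aleph0_iff_finite, hcard]
    exact Cardinal.nat_lt_aleph0 r
  have H₁ := algebraicIndependent_of_resTrdeg_eq f g g' f' hX x₁ b hb (hx₁.trans hcard.symm)
  have hb₂ := isTranscendenceBasis_congr f e₂ b hb
  have H₂ := algebraicIndependent_of_resTrdeg_eq f g g' f' hX x₂ _ hb₂ (hx₂.trans hcard.symm)
  -- a transcendence basis of `κ(s₁) / κ(s)`
  obtain ⟨κ, c, hc⟩ : ∃ (κ : Type u) (c : κ → S'.residueField (f' x₁)),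
      (letI := ((S.residueFieldCongr ea).hom ≫ g.residueFieldMap (f' x₁)).hom.toAlgebra;
        IsTranscendenceBasis (S.residueField (f (g' x₁))) c) := by
    letI := ((S.residueFieldCongr ea).hom ≫ g.residueFieldMap (f' x₁)).hom.toAlgebra
    exact exists_isTranscendenceBasis' (S.residueField (f (g' x₁))) (S'.residueField (f' x₁))
  have hD := algebraicIndependent_base_of_tower (f.residueFieldMap (g' x₁)).hom
    ((S.residueFieldCongr ea).hom ≫ g.residueFieldMap (f' x₁)).hom
    (g'.residueFieldMap x₁).hom (f'.residueFieldMap x₁).hom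
    (congrArg (fun φ => φ.hom) (residueFieldMap_square hX.w x₁ ea)) b c
    (letI := (f.residueFieldMap (g' x₁)).hom.toAlgebra; hb.isAlgebraic)
    (letI := ((S.residueFieldCongr ea).hom ≫ g.residueFieldMap (f' x₁)).hom.toAlgebra; hc.1) H₁
  have hpp := isPullback_pp hS hX hp hq hpq
  obtain ⟨x'', h₁'', h₂'', hAI⟩ := exists_point_algebraicIndependent g' g' p' q' hpp x₁ x₂ e₂
    ((f'.residueFieldMap x₁).hom ∘ c) hD
  refine ⟨x'', ?_, h₁'', h₂''⟩
  apply le_antisymm
  · have := resTrdeg_le_of_isPullback f' p p' f'' hp x''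
    rw [Groth.Agent.H2.Idl.resTrdeg_congr_pt f' _ _ h₁'', hx₁] at this
    exact this
  · rw [← hcard]
    exact le_resTrdeg_of_data hS hX hp hq hpq x'' x₁ x₂ h₁'' h₂'' e₂ ea b c
      (letI := ((S.residueFieldCongr ea).hom ≫ g.residueFieldMap (f' x₁)).hom.toAlgebra;
        hc.isAlgebraic) H₂ hAI

end Groth.Agent.H7.TrdegBC
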