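import Mathlib
import Groth.Prelude.Def_Curves
import Groth.Agent.Lib.Helper7.C1Br
import Groth.Agent.Lib.Helper1.CiFields
import Groth.Agent.Lib.Helper9.Misc.FrobDegD

set_option autoImplicit false

namespace Groth.Agent.H7.TsenBr
universe u
open AlgebraicGeometry CategoryTheory Curves

theorem isCr_of_isCi {K : Type*} [Field K] {i : ℕ} (h : IsCi K i) : IsCr K i := by
  intro n d f hf hd hlt
  obtain ⟨a, ha, h0⟩ := h 1 n (fun _ => f) (fun _ => d) (fun _ => hf) (fun _ => hd)
    (by simpa using hlt)
  exact ⟨a, ha, h0 0⟩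

theorem main (k : Type u) [Field k] [IsAlgClosed k] (C : Scheme.{u})
    (f : C ⟶ Spec (CommRingCat.of k)) [LocallyOfFiniteType f] [IsIntegral C]
    (hdim : topologicalKrullDim ↥C = 1)
    (D : Type u) [DivisionRing D] [Algebra ↑C.functionField D] [Algebra.IsCentral ↑C.functionField D]
    [FiniteDimensional ↑C.functionField D] : Module.finrank ↑C.functionField D = 1 := by
  letI := (Groth.Agent.H9.FrobDegD.toFunctionField f).toAlgebra
  obtain ⟨n, hn, x, hx1, hx2⟩ := Groth.Agent.H9.FrobDegD.exists_transcendence_data f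
  have hn1 : n = 1 := by
    rw [hdim] at hn
    exact_mod_cast hn.symm
  subst hn1
  have halg : Algebra.IsAlgebraic (IntermediateField.adjoin k (Set.range x)) C.functionField :=
    Algebra.IsAlgebraic.of_finite _ _
  have hCi : IsCi C.functionField (0 + 1) :=
    Groth.Agent.H1.CiFields.isCi_add_of_algebraic_adjoin 1 k 0
      (Groth.Agent.H1.CiFields.isCi_zero_of_isAlgClosed k) C.functionField x halg
  exact Groth.Agent.H7.C1Br.main C.functionField D (isCr_of_isCi hCi)

end Groth.Agent.H7.TsenBr
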