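import Mathlib

namespace Groth.Agent.H7.TwProd

open Polynomial

universe u

lemma charpolyRev_map {L : Type u} [CommRing L] (f : L →+* L) {r : ℕ}
    (N : Matrix (Fin r) (Fin r) L) :
    (Matrix.charpolyRev N).map f = Matrix.charpolyRev (N.map f) := by
  unfold Matrix.charpolyRev
  rw [← Polynomial.coe_mapRingHom, RingHom.map_det]
  congr 1
  ext i j
  simp only [RingHom.mapMatrix_apply, Matrix.map_apply, Matrix.sub_apply, Matrix.smul_apply,
    Matrix.one_apply, smul_eq_mul, Polynomial.coe_mapRingHom]
  rw [Polynomial.map_sub, Polynomial.map_mul, Polynomial.map_X, Polynomial.map_C]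
  congr 1
  split_ifs <;> simp

lemma charpolyRev_mul_comm {L : Type u} [CommRing L] {r : ℕ}
    (A B : Matrix (Fin r) (Fin r) L) :
    Matrix.charpolyRev (A * B) = Matrix.charpolyRev (B * A) := by
  unfold Matrix.charpolyRev
  have h1 : (X : L[X]) • (A * B).map C = ((X : L[X]) • A.map C) * B.map C := by
    rw [Matrix.map_mul, Matrix.smul_mul]
  have h2 : (X : L[X]) • (B * A).map C = B.map C * ((X : L[X]) • A.map C) := by
    rw [Matrix.map_mul, Matrix.mul_smul]
  rw [h1, h2, Matrix.det_one_sub_mul_comm]

theorem main (L : Type u) [CommRing L] (σ : L ≃+* L) (d : ℕ) (hσ : σ ^ d = 1)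
    (r : ℕ) (C : Matrix (Fin r) (Fin r) L) :
    (Matrix.charpolyRev (((List.range d).map fun i => C.map ⇑(σ ^ i)).prod)).map (σ : L →+* L) =
      Matrix.charpolyRev (((List.range d).map fun i => C.map ⇑(σ ^ i)).prod) := by
  rw [charpolyRev_map]
  have h1 : (((List.range d).map fun i => C.map ⇑(σ ^ i)).prod).map (σ : L →+* L) =
      ((List.range d).map fun i => C.map ⇑(σ ^ (i + 1))).prod := by
    have := map_list_prod (RingHom.mapMatrix (m := Fin r) (σ : L →+* L))
      ((List.range d).map fun i => C.map ⇑(σ ^ i))
    rw [RingHom.mapMatrix_apply] at this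
    rw [this, List.map_map]
    congr 1
    apply List.map_congr_left
    intro i _
    simp only [Function.comp_apply, RingHom.mapMatrix_apply, Matrix.map_map]
    congr 1
    ext x
    simp only [Function.comp_apply, pow_succ', RingEquiv.coe_toRingHom, RingAut.mul_apply]
  rw [h1]
  cases d with
  | zero => simp
  | succ d' =>
    have e1 : ((List.range (d' + 1)).map fun i => C.map ⇑(σ ^ i)).prod =
        C * ((List.range d').map fun i => C.map ⇑(σ ^ (i + 1))).prod := by
      rw [List.range_succ_eq_map, List.map_cons, List.prod_cons, List.map_map]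
      congr 1
    have e2 : ((List.range (d' + 1)).map fun i => C.map ⇑(σ ^ (i + 1))).prod =
        ((List.range d').map fun i => C.map ⇑(σ ^ (i + 1))).prod * C := by
      rw [List.range_succ, List.map_append, List.prod_append, List.map_singleton,
        List.prod_singleton, hσ]
      congr 1
    rw [e1, e2, charpolyRev_mul_comm]

end Groth.Agent.H7.TwProd
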