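import Mathlib
open Polynomial
universe u

namespace Groth.Agent.H7.TwoSubalg

variable {k : Type u} [Field k] {A : Type u} [CommRing A] [Algebra k A]

/-- if `A` is generated by `b` with `b^2 = c b`, `b ∉ k`, then `A` is `k×k` or dual numbers. -/
lemma of_quadratic (b : A) (c : k) (hb2 : b * b = c • b) (hbk : b ∉ (⊥ : Subalgebra k A))
    (hgen : Algebra.adjoin k {b} = ⊤) :
    Nonempty (A ≃ₐ[k] (k × k)) ∨ Nonempty (A ≃ₐ[k] DualNumber k) := by
  haveI : Nontrivial A := ⟨⟨b, 0, fun h => hbk (h ▸ zero_mem _)⟩⟩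
  have hbk' : ∀ x y : k, algebraMap k A x + y • b = 0 → x = 0 ∧ y = 0 := by
    intro x y hxy
    have hy : y = 0 := by
      by_contra hy
      apply hbk
      rw [Algebra.mem_bot]
      refine ⟨-(y⁻¹ * x), ?_⟩
      have : y • b = algebraMap k A (-x) := by
        rw [map_neg]; exact eq_neg_of_add_eq_zero_right hxy
      calc algebraMap k A (-(y⁻¹ * x)) = y⁻¹ • algebraMap k A (-x) := by
            rw [Algebra.smul_def, ← map_mul]; congr 1; ring
        _ = y⁻¹ • (y • b) := by rw [this]
        _ = b := by rw [smul_smul, inv_mul_cancel₀ hy, one_smul]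
    subst hy
    rw [zero_smul, add_zero] at hxy
    exact ⟨(algebraMap k A).injective (hxy.trans (map_zero _).symm) |> fun h => h, rfl⟩
  by_cases hc : c = 0
  · right
    subst hc
    rw [zero_smul] at hb2
    let ψ : DualNumber k →ₐ[k] A := DualNumber.lift ⟨(Algebra.ofId k A, b), hb2, fun _ => Commute.all _ _⟩
    have hψ : ∀ x : DualNumber k, ψ x = algebraMap k A x.fst + x.snd • b := by
      intro x
      show (Algebra.ofId k A) x.fst + (Algebra.ofId k A) x.snd * b = _
      rw [Algebra.smul_def]; rfl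
    have hinj : Function.Injective ψ := by
      rw [injective_iff_map_eq_zero]
      intro x hx
      rw [hψ] at hx
      obtain ⟨h1, h2⟩ := hbk' _ _ hx
      exact TrivSqZeroExt.ext h1 h2
    have hsurj : Function.Surjective ψ := by
      rw [← AlgHom.range_eq_top, eq_top_iff, ← hgen, Algebra.adjoin_le_iff]
      rintro _ rfl
      exact ⟨DualNumber.eps, DualNumber.lift_apply_eps _⟩
    exact ⟨(AlgEquiv.ofBijective ψ ⟨hinj, hsurj⟩).symm⟩
  · left
    set e : A := c⁻¹ • b with he
    have hee : e * e = e := by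
      rw [he, smul_mul_smul_comm, hb2, smul_smul]
      congr 1
      field_simp
    let L : (k × k) →ₗ[k] A :=
      (LinearMap.fst k k k).smulRight (1 - e) + (LinearMap.snd k k k).smulRight e
    have hL : ∀ x : k × k, L x = x.1 • (1 - e) + x.2 • e := fun x => rfl
    let ψ : (k × k) →ₐ[k] A := AlgHom.ofLinearMap L (by
        rw [hL]; simp) (by
        intro x y
        rw [hL, hL, hL]
        simp only [Prod.fst_mul, Prod.snd_mul]
        have h1 : (1 - e) * (1 - e) = 1 - e := by ring_nf; rw [sq, hee]; ring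
        have h2 : (1 - e) * e = 0 := by rw [sub_mul, one_mul, hee, sub_self]
        have h3 : e * (1 - e) = 0 := by rw [mul_comm, h2]
        rw [add_mul, mul_add, mul_add, smul_mul_smul_comm, smul_mul_smul_comm, smul_mul_smul_comm,
          smul_mul_smul_comm, h1, h2, h3, hee]
        simp)
    have hψ : ∀ x : k × k, ψ x = x.1 • (1 - e) + x.2 • e := fun x => rfl
    have hinj : Function.Injective ψ := by
      rw [injective_iff_map_eq_zero]
      intro x hx
      rw [hψ] at hx
      have : algebraMap k A x.1 + ((x.2 - x.1) * c⁻¹) • b = 0 := by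
        rw [← hx, he, Algebra.algebraMap_eq_smul_one, smul_sub, smul_smul, smul_smul, sub_mul, sub_smul]
        abel
      obtain ⟨h1, h2⟩ := hbk' _ _ this
      have h3 : x.2 - x.1 = 0 := by
        rcases mul_eq_zero.mp h2 with h | h
        · exact h
        · exact absurd (inv_eq_zero.mp h) hc
      exact Prod.ext h1 (by rw [sub_eq_zero] at h3; rw [h3, h1]; rfl)
    have hsurj : Function.Surjective ψ := by
      rw [← AlgHom.range_eq_top, eq_top_iff, ← hgen, Algebra.adjoin_le_iff]
      rintro _ rfl
      refine ⟨(0, c), ?_⟩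
      show ψ (0, c) = _
      rw [hψ, he]
      simp [smul_smul, mul_inv_cancel₀ hc]
    exact ⟨(AlgEquiv.ofBijective ψ ⟨hinj, hsurj⟩).symm⟩


theorem main (k : Type u) [Field k] [IsAlgClosed k] (A : Type u) [CommRing A] [Algebra k A]
    (h : Nat.card (Subalgebra k A) = 2) :
    Nonempty (A ≃ₐ[k] (k × k)) ∨ Nonempty (A ≃ₐ[k] DualNumber k) := by
  obtain ⟨S₁, S₂, hne, huniv⟩ := Nat.card_eq_two_iff.mp h
  have hall : ∀ S : Subalgebra k A, S = S₁ ∨ S = S₂ := fun S => by
    have : S ∈ ({S₁, S₂} : Set (Subalgebra k A)) := huniv ▸ Set.mem_univ S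
    simpa using this
  have hbt : (⊥ : Subalgebra k A) ≠ ⊤ := by
    intro hbt
    apply hne
    have : ∀ S : Subalgebra k A, S = ⊥ := fun S => le_antisymm (hbt ▸ le_top) bot_le
    rw [this S₁, this S₂]
  have hS : ∀ S : Subalgebra k A, S = ⊥ ∨ S = ⊤ := by
    intro S
    rcases hall ⊥ with h1 | h1 <;> rcases hall ⊤ with h2 | h2 <;> rcases hall S with h3 | h3
    all_goals first
      | exact absurd (h1.trans h2.symm) hbt
      | exact Or.inl (h3.trans h1.symm)
      | exact Or.inr (h3.trans h2.symm)
  obtain ⟨a, -, ha⟩ := SetLike.exists_of_lt (lt_of_le_of_ne bot_le hbt)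
  haveI : Nontrivial A := ⟨⟨a, 0, fun h => ha (h ▸ zero_mem _)⟩⟩
  -- a is algebraic
  have halg : IsAlgebraic k a := by
    rcases hS (Algebra.adjoin k {a ^ 2}) with h2 | h2
    · have : a ^ 2 ∈ (⊥ : Subalgebra k A) := h2 ▸ Algebra.subset_adjoin (Set.mem_singleton _)
      obtain ⟨c, hc⟩ := Algebra.mem_bot.mp this
      refine ⟨X ^ 2 - C c, ?_, by simp [hc]⟩
      intro h0
      have := congrArg (fun q => Polynomial.coeff q 2) h0
      simp at this
    · have : a ∈ Algebra.adjoin k {a ^ 2} := h2 ▸ Algebra.mem_top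
      rw [Algebra.adjoin_singleton_eq_range_aeval] at this
      obtain ⟨P, hP⟩ := this
      refine ⟨X - Polynomial.expand k 2 P, ?_, ?_⟩
      · intro h0
        have := congrArg (fun q => Polynomial.coeff q 1) h0
        simp [Polynomial.coeff_expand] at this
      · rw [map_sub, Polynomial.aeval_X, Polynomial.expand_aeval]
        exact sub_eq_zero.mpr hP.symm
  have hint : IsIntegral k a := halg.isIntegral
  set m := minpoly k a with hm
  have hmdeg : m.degree ≠ 0 := (minpoly.degree_pos hint).ne'
  obtain ⟨lam, hlam⟩ := IsAlgClosed.exists_root m hmdeg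
  obtain ⟨g, hg⟩ := Polynomial.dvd_iff_isRoot.mpr hlam
  have hm0 : m ≠ 0 := minpoly.ne_zero hint
  have hg0 : g ≠ 0 := by
    rintro rfl
    rw [mul_zero] at hg
    exact hm0 hg
  have hgdeg : g.degree < m.degree := by
    rw [hg, Polynomial.degree_mul, Polynomial.degree_X_sub_C]
    have : g.degree ≠ ⊥ := Polynomial.degree_eq_bot.not.mpr hg0
    obtain ⟨n, hn⟩ := WithBot.ne_bot_iff_exists.mp this
    rw [← hn]
    have : ((n : ℕ) : WithBot ℕ) < 1 + (n : WithBot ℕ) := by
      rw [add_comm]; exact_mod_cast Nat.lt_succ_self n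
    exact this
  set b := Polynomial.aeval a g with hb
  have hb0 : b ≠ 0 := by
    intro h0
    exact absurd (minpoly.degree_le_of_ne_zero k a hg0 h0) (not_le.mpr hgdeg)
  have hab : (a - algebraMap k A lam) * b = 0 := by
    have : Polynomial.aeval a m = 0 := minpoly.aeval k a
    rw [hg, map_mul, map_sub, Polynomial.aeval_X, Polynomial.aeval_C] at this
    exact this
  have hab' : a * b = lam • b := by
    rw [sub_mul, sub_eq_zero] at hab
    rw [hab, Algebra.smul_def]
  have hbk : b ∉ (⊥ : Subalgebra k A) := by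
    intro hbk
    obtain ⟨c', hc'⟩ := Algebra.mem_bot.mp hbk
    have hc'0 : c' ≠ 0 := by
      rintro rfl
      rw [map_zero] at hc'
      exact hb0 hc'.symm
    apply ha
    rw [Algebra.mem_bot]
    refine ⟨lam, ?_⟩
    have h3 : (a - algebraMap k A lam) * algebraMap k A c' = 0 := hc' ▸ hab
    have h4 : (a - algebraMap k A lam) * (algebraMap k A c' * algebraMap k A c'⁻¹) = 0 := by
      rw [← mul_assoc, h3, zero_mul]
    rw [← map_mul, mul_inv_cancel₀ hc'0, map_one, mul_one, sub_eq_zero] at h4
    exact h4.symm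
  have hpoly : ∀ q : k[X], Polynomial.aeval a q * b = (q.eval lam) • b := by
    intro q
    induction q using Polynomial.induction_on' with
    | add p q hp hq => rw [map_add, add_mul, hp, hq, Polynomial.eval_add, add_smul]
    | monomial n c =>
      rw [Polynomial.aeval_monomial, Polynomial.eval_monomial]
      have : ∀ n : ℕ, a ^ n * b = (lam ^ n) • b := by
        intro n
        induction n with
        | zero => simp
        | succ n ih => rw [pow_succ, mul_assoc, hab', mul_smul_comm, ih, smul_smul, pow_succ, mul_comm]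
      rw [mul_assoc, this, Algebra.smul_def, Algebra.smul_def, map_mul, mul_assoc]
  have hb2 : b * b = (g.eval lam) • b := hpoly g
  have hgen : Algebra.adjoin k {b} = ⊤ := by
    rcases hS (Algebra.adjoin k {b}) with h2 | h2
    · exact absurd (h2 ▸ Algebra.subset_adjoin (Set.mem_singleton b)) hbk
    · exact h2
  exact of_quadratic b _ hb2 hbk hgen

end Groth.Agent.H7.TwoSubalg
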