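import Groth.Agent.Lib.Helper3.OmCon
import Groth.Agent.Lib.Helper5.Thick.UnivThickUniq
import Groth.Agent.Lib.Helper5.Thick.FEtHom2
import Groth.Agent.Lib.Lead.QC.Iso
import Groth.Agent.Lib.Lead.QC.IdealMod
import Mathlib

/-!
# Formally etale iff trivial universal first order thickening iff zero conormal sheaf (S9750)
-/

set_option autoImplicit false
universe u

open AlgebraicGeometry CategoryTheory Limits TensorProduct

namespace Groth.Agent.H7.UTCon

open Groth.Agent.H5.Thick

theorem isFirstOrderThickening_of_isIso {X Y : Scheme.{u}} (i : X ⟶ Y) [IsIso i] :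
    MoreMor.IsFirstOrderThickening i :=
  ⟨⟨inferInstance, inferInstance⟩, by rw [Scheme.Hom.ker_eq_bot_of_isIso]; simp⟩

theorem isUnivThickening_id_of_isFormallyEtaleHom {X S : Scheme.{u}} (f : X ⟶ S)
    (hf : MoreMor.IsFormallyEtaleHom f) : OmegaSh.IsUnivThickening f (𝟙 X) f := by
  refine ⟨isFirstOrderThickening_of_isIso _, Category.id_comp f, ?_⟩
  intro T T' j b a hj w
  have := existsUnique_lift_of_isFormallyEtaleHom f hf j hj a b w
  simpa using this

theorem isFormallyEtaleHom_of_isUnivThickening_id {X S : Scheme.{u}} (f : X ⟶ S)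
    (hu : OmegaSh.IsUnivThickening f (𝟙 X) f) : MoreMor.IsFormallyEtaleHom f := by
  intro A _ I hI a b w
  have := hu.2.2 _ _ _ b a (isFirstOrderThickening_SpecMap_mk I hI) w
  simpa using this

/-- transport of universality along an isomorphic thickening. -/
theorem isUnivThickening_id_of_isIso {X X' S : Scheme.{u}} (f : X ⟶ S) (i : X ⟶ X')
    (h' : X' ⟶ S) (hu : OmegaSh.IsUnivThickening f i h') [IsIso i] :
    OmegaSh.IsUnivThickening f (𝟙 X) f := by
  have hih : i ≫ h' = f := hu.2.1
  refine ⟨isFirstOrderThickening_of_isIso _, Category.id_comp f, ?_⟩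
  intro T T' j b a hj w
  obtain ⟨a', ⟨h1, h2⟩, hu'⟩ := hu.2.2 T T' j b a hj w
  refine ⟨a' ≫ inv i, ⟨?_, ?_⟩, ?_⟩
  · rw [← Category.assoc, h1, Category.assoc, IsIso.hom_inv_id]
  · rw [← hih, Category.assoc, IsIso.inv_hom_id_assoc, h2]
  · rintro y ⟨hy1, hy2⟩
    have := hu' (y ≫ i) ⟨by rw [← Category.assoc, hy1, Category.comp_id],
      by rw [Category.assoc, hih, hy2]⟩
    rw [← this, Category.assoc, IsIso.hom_inv_id, Category.comp_id]

end Groth.Agent.H7.UTCon
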