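import Mathlib
import Groth.Agent.Lib.Helper7.UfdPicA
import Groth.Agent.Lib.Helper5.Glue.H
import Groth.Agent.Lib.Helper2.PicPnA
import Groth.Agent.Lib.Lead.QC.TensorPow

/-! # Integral schemes with an atlas of localisations of a factorial domain have trivial Picard
group (helper7) -/

set_option autoImplicit false
universe u
open CategoryTheory Limits AlgebraicGeometry TopologicalSpace Opposite

namespace Groth.Agent.H7.UfdPic

open Groth.Agent.LD Groth.Agent.H5.Glue

variable {Y : Scheme.{u}} {R : Type u} [CommRing R] (φ : R →+* Γ(Y, ⊤))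

/-- the chart open attached to `g`. -/
noncomputable abbrev chart (g : R) : Y.Opens := Y.basicOpen (φ g)

/-- `R → Γ(Y, chart g)`. -/
noncomputable abbrev toChart (g : R) : R →+* Γ(Y, chart φ g) :=
  (res (le_top : chart φ g ≤ ⊤)).comp φ

/-- good elements: the chart is affine with trivial Picard group and ring of functions `R[1/g]`. -/
structure Good (g : R) : Prop where
  ne_zero : g ≠ 0
  affine : IsAffineOpen (chart φ g)
  pic : Subsingleton (CommRing.Pic Γ(Y, chart φ g))
  surj : ∀ x : Γ(Y, chart φ g), ∃ (r : R) (k : ℕ), x * toChart φ g g ^ k = toChart φ g r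

lemma chart_mul (g g' : R) : chart φ (g * g') = chart φ g ⊓ chart φ g' := by
  change Y.basicOpen (φ (g * g')) = _
  rw [map_mul, Scheme.basicOpen_mul]

lemma isUnit_toChart (g : R) : IsUnit (toChart φ g g) :=
  Y.toRingedSpace.isUnit_res_basicOpen (φ g)

variable [IsIntegral Y]

/-- the map to the function field. -/
noncomputable def rho (W : Y.Opens) (hW : genericPoint Y ∈ W) : Γ(Y, W) →+* Y.functionField :=
  (Y.presheaf.germ W (genericPoint Y) hW).hom

lemma rho_injective (W : Y.Opens) (hW : genericPoint Y ∈ W) : Function.Injective (rho W hW) :=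
  germ_injective_of_isIntegral Y (genericPoint Y) hW

lemma rho_res {W W' : Y.Opens} (h : W' ≤ W) (hW' : genericPoint Y ∈ W') (x : Γ(Y, W)) :
    rho W' hW' (res h x) = rho W (h hW') x :=
  Y.presheaf.germ_res_apply (homOfLE h) (genericPoint Y) hW' x

lemma gen_mem (W : Y.Opens) (h : W ≠ ⊥) : genericPoint Y ∈ W := by
  apply ((genericPoint_spec Y).mem_open_set_iff W.isOpen).mpr
  rw [Set.univ_inter]
  exact (Opens.ne_bot_iff_nonempty W).mp h

/-- `R → K`. -/
noncomputable def psi : R →+* Y.functionField := (rho (⊤ : Y.Opens) trivial).comp φ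

variable {φ}

lemma chart_ne_bot (hφ : Function.Injective φ) {g : R} (hg : g ≠ 0) : chart φ g ≠ ⊥ := by
  intro h
  rw [AlgebraicGeometry.basicOpen_eq_bot_iff] at h
  exact hg (hφ (h.trans (map_zero φ).symm))

lemma gen_mem_chart (hφ : Function.Injective φ) {g : R} (hg : g ≠ 0) :
    genericPoint Y ∈ chart φ g := gen_mem _ (chart_ne_bot hφ hg)

lemma psi_injective (hφ : Function.Injective φ) : Function.Injective (psi φ) :=
  (rho_injective _ _).comp hφ

lemma rho_toChart {g : R} (hW : genericPoint Y ∈ chart φ g) (r : R) :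
    rho _ hW (toChart φ g r) = psi φ r :=
  rho_res _ hW (φ r)

/-- the `R`-algebra structure on the function field. -/
noncomputable abbrev algK (φ : R →+* Γ(Y, ⊤)) : Algebra R Y.functionField := (psi φ).toAlgebra

lemma inAway_rho {g : R} (hg : Good φ g) (hW : genericPoint Y ∈ chart φ g)
    (x : Γ(Y, chart φ g)) :
    letI := algK φ
    InAway (K := Y.functionField) g (rho _ hW x) := by
  letI := algK φ
  obtain ⟨r, k, hrk⟩ := hg.surj x
  refine ⟨r, k, ?_⟩
  have := congrArg (rho _ hW) hrk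
  rw [map_mul, map_pow, rho_toChart, rho_toChart] at this
  exact this

lemma unitAway_rho {g : R} (hg : Good φ g) (hW : genericPoint Y ∈ chart φ g)
    (x : Γ(Y, chart φ g)) (hx : IsUnit x) :
    letI := algK φ
    UnitAway (K := Y.functionField) g (rho _ hW x) := by
  letI := algK φ
  obtain ⟨u, rfl⟩ := hx
  refine ⟨rho _ hW ((u⁻¹ : (Γ(Y, chart φ g))ˣ) : Γ(Y, chart φ g)), ?_, inAway_rho hg hW _,
    inAway_rho hg hW _⟩
  rw [← map_mul, Units.mul_inv, map_one]

lemma unitAway_rho_of_eq {g : R} (hg : Good φ g) (W : Y.Opens) (hWg : W = chart φ g)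
    (hW : genericPoint Y ∈ W) (x : Γ(Y, W)) (hx : IsUnit x) :
    letI := algK φ
    UnitAway (K := Y.functionField) g (rho _ hW x) := by
  subst hWg
  exact unitAway_rho hg hW x hx

lemma isFractionRing (hφ : Function.Injective φ) {g : R} (hg : Good φ g) :
    letI := algK φ
    IsFractionRing R Y.functionField := by
  letI := algK φ
  have hW := gen_mem_chart hφ hg.ne_zero
  haveI : Nonempty (chart φ g) := ⟨⟨_, hW⟩⟩
  haveI : FaithfulSMul R Y.functionField :=
    (faithfulSMul_iff_algebraMap_injective R Y.functionField).mpr (psi_injective hφ)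
  haveI := functionField_isFractionRing_of_isAffineOpen Y (chart φ g) hg.affine
  apply IsFractionRing.of_field
  intro z
  obtain ⟨x, y, hy, hxy⟩ := IsFractionRing.div_surjective (A := Γ(Y, chart φ g)) z
  obtain ⟨r, k, hrk⟩ := inAway_rho hg hW x
  obtain ⟨r', k', hrk'⟩ := inAway_rho hg hW y
  have e1 : algebraMap Γ(Y, chart φ g) Y.functionField x = rho _ hW x := rfl
  have e2 : algebraMap Γ(Y, chart φ g) Y.functionField y = rho _ hW y := rfl
  have hg0 : algebraMap R Y.functionField g ≠ 0 :=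
    (map_ne_zero_iff _ (psi_injective hφ)).mpr hg.ne_zero
  have hy0 : rho _ hW y ≠ 0 := by
    rw [← e2]
    exact (map_ne_zero_iff _ (IsFractionRing.injective _ _)).mpr (nonZeroDivisors.ne_zero hy)
  have hr'0 : algebraMap R Y.functionField r' ≠ 0 := by
    rw [← hrk']
    exact mul_ne_zero hy0 (pow_ne_zero _ hg0)
  refine ⟨r * g ^ k', r' * g ^ k, ?_⟩
  rw [← hxy, e1, e2, map_mul, map_mul, map_pow, map_pow, ← hrk, ← hrk']
  field_simp

lemma exists_of_inAway {g : R} (hW : genericPoint Y ∈ chart φ g)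
    (c : Y.functionField) (hc : letI := algK φ; InAway g c) :
    ∃ x : Γ(Y, chart φ g), rho _ hW x = c := by
  letI := algK φ
  obtain ⟨r, k, hrk⟩ := hc
  obtain ⟨G, hG⟩ := isUnit_toChart φ g
  refine ⟨toChart φ g r * ((G⁻¹ : (Γ(Y, chart φ g))ˣ) : Γ(Y, chart φ g)) ^ k, ?_⟩
  have h1 : rho _ hW (G : Γ(Y, chart φ g)) = psi φ g := by rw [hG, rho_toChart]
  have h2 : rho _ hW (G : Γ(Y, chart φ g)) * rho _ hW ((G⁻¹ : (Γ(Y, chart φ g))ˣ) : Γ(Y, chart φ g))
      = 1 := by rw [← map_mul, Units.mul_inv, map_one]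
  rw [h1] at h2
  rw [map_mul, map_pow, rho_toChart]
  change psi φ r * _ = c
  have h3 : c * psi φ g ^ k = psi φ r := hrk
  rw [← h3, mul_assoc, ← mul_pow, h2, one_pow, mul_one]

lemma exists_unit_of_unitAway {g : R} (hW : genericPoint Y ∈ chart φ g)
    (c : Y.functionField) (hc : letI := algK φ; UnitAway g c) :
    ∃ u : (Γ(Y, chart φ g))ˣ, rho _ hW (u : Γ(Y, chart φ g)) = c := by
  letI := algK φ
  obtain ⟨d, hcd, h1, h2⟩ := hc
  obtain ⟨x, hx⟩ := exists_of_inAway hW c h1
  obtain ⟨y, hy⟩ := exists_of_inAway hW d h2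
  have hxy : x * y = 1 := by
    apply rho_injective _ hW
    rw [map_mul, hx, hy, hcd, map_one]
  exact ⟨⟨x, y, hxy, (mul_comm y x).trans hxy⟩, hx⟩

/-- **integral schemes with an atlas of localisations of a factorial domain have trivial Picard
group.** -/
theorem nonempty_iso_unitMod [IsDomain R] [UniqueFactorizationMonoid R]
    (hφ : Function.Injective φ) (S : Subsemigroup R) (hS : ∀ g ∈ S, Good φ g)
    (hcov : ∀ y : Y, ∃ g ∈ S, y ∈ chart φ g)
    (L : Y.Modules) (hL : PicF.IsInvertible L) : Nonempty (L ≅ QC.unitMod Y) := by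
  letI := algK φ
  -- the cover
  obtain ⟨Uc, hUc⟩ : ∃ Uc : S → Y.Opens, Uc = fun i : S => chart φ (i : R) := ⟨_, rfl⟩
  have hUci : ∀ i : S, Uc i = chart φ (i : R) := fun i => by rw [hUc]
  have hU : iSup Uc = ⊤ := by
    rw [eq_top_iff]
    intro y _
    obtain ⟨g, hg, hy⟩ := hcov y
    exact Opens.mem_iSup.mpr ⟨⟨g, hg⟩, (hUci ⟨g, hg⟩) ▸ hy⟩
  have hgood : ∀ i : S, Good φ (i : R) := fun i => hS _ i.2
  have hbasis : ∀ i : S, ∃ e : Γ(L, Uc i), QC.IsBasisOver L (Uc i) e := by
    intro i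
    rw [hUci i]
    haveI := (hgood i).pic
    exact Groth.Agent.H2.PicPn.exists_isBasisOver_of_affine (hgood i).affine L hL
  choose s hs using hbasis
  refine (nonempty_iso_iff_cohomologous hU L (QC.unitMod Y) s (fun i => (1 : Γ(Y, Uc i))) hs
    (fun i => QC.isBasisOver_one (Uc i)) (transition hs) (fun _ _ => 1) (transition_spec hs)
    ?_).mpr ?_
  · intro i j
    rw [one_smul]
    exact (map_one (res (inf_le_left : Uc i ⊓ Uc j ≤ Uc i))).trans
      (map_one (res (inf_le_right : Uc i ⊓ Uc j ≤ Uc j))).symm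
  -- a base index
  obtain ⟨g₀, hg₀S, -⟩ := hcov (genericPoint Y)
  obtain ⟨i₀, hi₀⟩ : ∃ i₀ : S, i₀ = ⟨g₀, hg₀S⟩ := ⟨_, rfl⟩
  haveI : IsFractionRing R Y.functionField := isFractionRing hφ (hgood i₀)
  have hgen : ∀ i : S, genericPoint Y ∈ Uc i := fun i =>
    (hUci i) ▸ gen_mem_chart hφ (hgood i).ne_zero
  have hgen2 : ∀ i j : S, genericPoint Y ∈ Uc i ⊓ Uc j := fun i j => ⟨hgen i, hgen j⟩
  have hgen3 : ∀ i j k : S, genericPoint Y ∈ Uc i ⊓ Uc j ⊓ Uc k := fun i j k =>
    ⟨hgen2 i j, hgen k⟩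
  have hinf : ∀ i j : S, Uc i ⊓ Uc j = chart φ ((i * j : S) : R) := by
    intro i j
    rw [hUci i, hUci j, MulMemClass.coe_mul, chart_mul]
  -- the transition functions in `K`
  obtain ⟨θ, hθ⟩ : ∃ θ : S → S → Y.functionField,
    θ = fun i j => rho _ (hgen2 i j) (transition hs i j) := ⟨_, rfl⟩
  have hθij : ∀ i j, θ i j = rho _ (hgen2 i j) (transition hs i j) := fun i j => by rw [hθ]
  have hθunit : ∀ i j : S, UnitAway ((i : R) * (j : R)) (θ i j) := by
    intro i j
    rw [hθij]
    have := unitAway_rho_of_eq (hgood (i * j)) (Uc i ⊓ Uc j) (hinf i j) (hgen2 i j)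
      (transition hs i j) (isUnit_transition hs i j)
    rwa [MulMemClass.coe_mul] at this
  have hcoc : ∀ i j k : S, θ i k = θ i j * θ j k := by
    intro i j k
    have h1 := congrArg (rho _ (hgen3 i j k)) (isCocycle_transition hs i j k)
    rw [map_mul, rho_res, rho_res, rho_res] at h1
    rw [hθij, hθij, hθij]
    exact h1
  have hθ0 : ∀ i j : S, θ i j ≠ 0 := fun i j => (hθunit i j).ne_zero
  obtain ⟨F, hF0, hF⟩ := exists_coboundary (K := Y.functionField) (fun i : S => (i : R))
    (fun i => (hgood i).ne_zero) i₀ (fun i => θ i₀ i) (fun i => hθunit i₀ i)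
    (fun i j => by
      have h1 : θ i₀ j / θ i₀ i = θ i j := by
        rw [hcoc i₀ i j, mul_comm, mul_div_assoc, div_self (hθ0 i₀ i), mul_one]
      rw [h1]
      exact hθunit i j)
  have hlift : ∀ i : S, ∃ u : (Γ(Y, Uc i))ˣ, rho _ (hgen i) (u : Γ(Y, Uc i)) = F / θ i₀ i := by
    intro i
    have hi := hUci i
    have key : ∀ (W : Y.Opens) (hW : W = chart φ (i : R)) (hgW : genericPoint Y ∈ W),
        ∃ u : (Γ(Y, W))ˣ, rho _ hgW (u : Γ(Y, W)) = F / θ i₀ i := by
      intro W hW hgW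
      subst hW
      exact exists_unit_of_unitAway hgW _ (hF i)
    exact key (Uc i) hi (hgen i)
  choose u hu using hlift
  refine ⟨u, fun i j => ?_⟩
  apply rho_injective _ (hgen2 i j)
  rw [one_mul, map_mul, rho_res, rho_res, hu, hu, ← hθij, hcoc i₀ i j]
  have := hθ0 i₀ i
  have := hθ0 i j
  field_simp

end Groth.Agent.H7.UfdPic
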