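import Mathlib
import Groth.Agent.Lib.Helper7.UfdPicB
import Groth.Agent.Lib.Helper2.ParaFH

/-! # Invertible modules on open subschemes of the spectrum of a factorial domain (helper7) -/

set_option autoImplicit false
universe u
open CategoryTheory Limits AlgebraicGeometry TopologicalSpace Opposite

namespace Groth.Agent.H7.UfdPic

open Groth.Agent.LD Groth.Agent.H5.Glue

section

variable {Y : Scheme.{u}} {R : Type u} [CommRing R] (φ : R →+* Γ(Y, ⊤))

/-- goodness, for an open equal to the chart. -/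
structure GoodAt (W : Y.Opens) (g : R) : Prop where
  affine : IsAffineOpen W
  pic : Subsingleton (CommRing.Pic Γ(Y, W))
  surj : ∀ x : Γ(Y, W), ∃ (r : R) (k : ℕ),
    x * ((res (le_top : W ≤ ⊤)).comp φ g) ^ k = (res (le_top : W ≤ ⊤)).comp φ r

lemma good_of_goodAt {g : R} (hg : g ≠ 0) (W : Y.Opens) (hW : W = chart φ g)
    (h : GoodAt φ W g) : Good φ g := by
  subst hW
  exact ⟨hg, h.affine, h.pic, h.surj⟩

end

variable (A : CommRingCat.{u}) (U : (Spec A).Opens)

/-- `A → Γ(U, ⊤)`. -/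
noncomputable def phi : A →+* Γ((U : Scheme.{u}), ⊤) :=
  (U.ι.appTop).hom.comp (Scheme.ΓSpecIso A).inv.hom

lemma chart_phi (g : A) : chart (phi A U) g = U.ι ⁻¹ᵁ (PrimeSpectrum.basicOpen g) := by
  change (U : Scheme.{u}).basicOpen (U.ι.appTop ((Scheme.ΓSpecIso A).inv g)) = _
  rw [← Scheme.preimage_basicOpen_top, basicOpen_eq_of_affine]

lemma goodAt_phi [IsDomain A] [UniqueFactorizationMonoid A] (g : A) (hg : g ≠ 0)
    (hgU : PrimeSpectrum.basicOpen g ≤ U) :
    GoodAt (phi A U) (U.ι ⁻¹ᵁ (PrimeSpectrum.basicOpen g)) g := by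
  have hle : (PrimeSpectrum.basicOpen g : (Spec A).Opens) ≤ U.ι.opensRange := by
    rw [Scheme.Opens.opensRange_ι]
    exact hgU
  haveI := Scheme.Hom.isIso_app U.ι (PrimeSpectrum.basicOpen g) hle
  obtain ⟨β, hβdef⟩ : ∃ β : Γ(Spec A, PrimeSpectrum.basicOpen g) →+*
      Γ((U : Scheme.{u}), U.ι ⁻¹ᵁ (PrimeSpectrum.basicOpen g)),
      β = (U.ι.app (PrimeSpectrum.basicOpen g)).hom := ⟨_, rfl⟩
  have hβ : Function.Bijective β := by
    rw [hβdef]
    exact ConcreteCategory.bijective_of_isIso (U.ι.app (PrimeSpectrum.basicOpen g))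
  have hcomp : ∀ r : A, β (algebraMap A Γ(Spec A, PrimeSpectrum.basicOpen g) r) =
      (res (le_top : U.ι ⁻¹ᵁ (PrimeSpectrum.basicOpen g) ≤ ⊤)).comp (phi A U) r := by
    intro r
    rw [hβdef]
    have := ConcreteCategory.congr_hom (U.ι.naturality (homOfLE (le_top :
      (PrimeSpectrum.basicOpen g : (Spec A).Opens) ≤ ⊤)).op)
      ((Scheme.ΓSpecIso A).inv.hom r)
    exact this
  haveI : Nonempty (PrimeSpectrum.basicOpen g : (Spec A).Opens) := by
    refine ⟨⟨(⟨⊥, Ideal.isPrime_bot⟩ : PrimeSpectrum A), ?_⟩⟩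
    change g ∉ (⊥ : Ideal A)
    simpa using hg
  have hpow : Submonoid.powers g ≤ nonZeroDivisors A :=
    powers_le_nonZeroDivisors_of_noZeroDivisors hg
  haveI hdom : IsDomain Γ(Spec A, PrimeSpectrum.basicOpen g) :=
    IsLocalization.isDomain_of_le_nonZeroDivisors Γ(Spec A, PrimeSpectrum.basicOpen g) hpow
  haveI hufd : UniqueFactorizationMonoid Γ(Spec A, PrimeSpectrum.basicOpen g) :=
    Groth.Agent.H2.ParaFK.ufd_of_isLocalization ‹UniqueFactorizationMonoid A›
      (Submonoid.powers g) hpow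
      Γ(Spec A, PrimeSpectrum.basicOpen g)
  obtain ⟨e, he⟩ : ∃ e : Γ(Spec A, PrimeSpectrum.basicOpen g) ≃+*
      Γ((U : Scheme.{u}), U.ι ⁻¹ᵁ (PrimeSpectrum.basicOpen g)), ∀ a, e a = β a :=
    ⟨RingEquiv.ofBijective β hβ, fun _ => rfl⟩
  haveI : IsDomain Γ((U : Scheme.{u}), U.ι ⁻¹ᵁ (PrimeSpectrum.basicOpen g)) :=
    MulEquiv.isDomain Γ(Spec A, PrimeSpectrum.basicOpen g) e.symm.toMulEquiv
  haveI : UniqueFactorizationMonoid Γ((U : Scheme.{u}), U.ι ⁻¹ᵁ (PrimeSpectrum.basicOpen g)) :=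
    e.toMulEquiv.uniqueFactorizationMonoid hufd
  refine ⟨?_, inferInstance, ?_⟩
  · exact (IsAffineOpen.Spec_basicOpen g).preimage_of_isOpenImmersion U.ι hle
  · intro x
    obtain ⟨a, rfl⟩ := hβ.2 x
    obtain ⟨k, r, hkr⟩ := IsLocalization.Away.surj g a
    refine ⟨r, k, ?_⟩
    rw [← hcomp, ← hcomp, ← map_pow, ← map_mul, hkr]

/-- nonzero elements whose basic open lies in `U`. -/
def goodSet [IsDomain A] : Subsemigroup A where
  carrier := {g | g ≠ 0 ∧ (PrimeSpectrum.basicOpen g : (Spec A).Opens) ≤ U}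
  mul_mem' := by
    rintro a b ⟨ha, haU⟩ ⟨hb, -⟩
    refine ⟨mul_ne_zero ha hb, ?_⟩
    rw [PrimeSpectrum.basicOpen_mul]
    exact inf_le_left.trans haU

lemma phi_injective [IsDomain A] [Nonempty U] : Function.Injective (phi A U) := by
  have h1 : Function.Injective (Scheme.ΓSpecIso A).inv.hom :=
    (ConcreteCategory.bijective_of_isIso (Scheme.ΓSpecIso A).inv).1
  have h2 : Function.Injective (U.ι.appTop).hom := by
    rw [Scheme.Opens.ι_appTop]
    haveI : Nonempty (U.ι ''ᵁ ⊤ : (Spec A).Opens) := by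
      obtain ⟨y⟩ := ‹Nonempty U›
      exact ⟨⟨y.1, ⟨y, trivial, rfl⟩⟩⟩
    exact map_injective_of_isIntegral (Spec A) _
  exact h2.comp h1

theorem main_integral [IsDomain A] [UniqueFactorizationMonoid A] [Nonempty U]
    (L : (U : Scheme.{u}).Modules) (hL : PicF.IsInvertible L) :
    Nonempty (L ≅ QC.unitMod (U : Scheme.{u})) := by
  haveI : IsIntegral (U : Scheme.{u}) := inferInstance
  refine nonempty_iso_unitMod (φ := phi A U) (phi_injective A U) (goodSet A U) ?_ ?_ L hL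
  · intro g hg
    exact good_of_goodAt _ hg.1 _ (chart_phi A U g).symm (goodAt_phi A U g hg.1 hg.2)
  · intro y
    obtain ⟨_, ⟨_, ⟨g, rfl⟩, rfl⟩, hyg, hgU⟩ :=
      (PrimeSpectrum.isBasis_basic_opens (R := A)).exists_subset_of_mem_open
        (show y.1 ∈ (U : Set (Spec A)) from y.2) U.isOpen
    have hg0 : g ≠ 0 := by
      rintro rfl
      rw [PrimeSpectrum.basicOpen_zero] at hyg
      exact hyg
    refine ⟨g, ⟨hg0, hgU⟩, ?_⟩
    rw [chart_phi]
    exact hyg

theorem main [IsDomain A] [UniqueFactorizationMonoid A]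
    (L : (U : Scheme.{u}).Modules) (hL : PicF.IsInvertible L) :
    Nonempty (L ≅ QC.unitMod (U : Scheme.{u})) := by
  by_cases hne : Nonempty U
  · exact main_integral A U L hL
  · haveI : IsEmpty (U : Scheme.{u}) := not_nonempty_iff.mp hne
    refine (nonempty_iso_iff_cohomologous (ι := PEmpty.{u + 1}) (U := fun i => i.elim) ?_ L
      (QC.unitMod (U : Scheme.{u})) (fun i => i.elim) (fun i => i.elim) (fun i => i.elim)
      (fun i => i.elim) (fun i => i.elim) (fun i => i.elim) (fun i => i.elim)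
      (fun i => i.elim)).mpr ⟨fun i => i.elim, fun i => i.elim⟩
    rw [eq_top_iff]
    intro y
    exact (IsEmpty.false y).elim

end Groth.Agent.H7.UfdPic
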