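import Groth.Agent.Lib.Helper6.InfAut3
import Groth.Agent.Lib.Lead.LCZ.Main
import Groth.Prelude.Def_UnitsSh
import Mathlib

/-! # Sections of base changes `X' ×_A A/I → X'` : kernels, flat colon lemma -/

set_option autoImplicit false

universe u
open CategoryTheory CategoryTheory.Limits AlgebraicGeometry Opposite TopologicalSpace

namespace Groth.Agent.H7.UnitKer

open Groth.Agent.H6.InfAut

section Algebra

/-- flat colon lemma: if `B` is flat over `A` and `(I : t) ⊆ N` then `(I B : t) ⊆ N B`. -/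
lemma mem_map_of_mul_mem {A B : Type*} [CommRing A] [CommRing B] (φ : A →+* B) (hφ : φ.Flat)
    (I N : Ideal A) (t : A) (hcolon : ∀ a, t * a ∈ I → a ∈ N) (b : B)
    (h : φ t * b ∈ I.map φ) : b ∈ N.map φ := by
  letI := φ.toAlgebra
  haveI : Module.Flat A B := hφ
  have h' : φ t * b ∈ Submodule.span B (φ '' (I : Set A)) := h
  rw [Submodule.mem_span_set'] at h'
  obtain ⟨n, c, g, hsum⟩ := h'
  have hg : ∀ i : Fin n, ∃ e : A, e ∈ I ∧ φ e = (g i : B) := fun i => (g i).2
  choose e heI he using hg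
  let ff : Option (Fin n) → A := fun o => o.elim t e
  let xx : Option (Fin n) → B := fun o => o.elim b (fun i => - c i)
  have hrel : ∑ o, ff o • xx o = 0 := by
    rw [Fintype.sum_option]
    show t • b + ∑ i, e i • (- c i) = 0
    have h1 : ∀ i : Fin n, e i • (- c i) = - (c i • (g i : B)) := by
      intro i
      rw [Algebra.smul_def, smul_eq_mul, ← he i]
      show φ (e i) * (- c i) = _
      ring
    rw [Finset.sum_congr rfl (fun i _ => h1 i), Finset.sum_neg_distrib, hsum, Algebra.smul_def]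
    show φ t * b + - (φ t * b) = 0
    ring
  obtain ⟨k, a, y, hxy, hfa⟩ := Module.Flat.isTrivialRelation_of_sum_smul_eq_zero (R := A) (M := B) (f := ff) (x := xx) hrel
  have hb : b = ∑ j, a none j • y j := hxy none
  rw [hb]
  refine Ideal.sum_mem _ (fun j _ => ?_)
  have h2 : t * a none j ∈ I := by
    have h3 := hfa j
    rw [Fintype.sum_option] at h3
    have h4 : t * a none j = - ∑ i, e i * a (some i) j := by
      have : t * a none j + ∑ i, e i * a (some i) j = 0 := h3
      linear_combination this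
    rw [h4]
    exact I.neg_mem (I.sum_mem (fun i _ => I.mul_mem_right _ (heI i)))
  have h5 : a none j ∈ N := hcolon _ h2
  rw [Algebra.smul_def]
  exact Ideal.mul_mem_right _ _ (Ideal.mem_map_of_mem φ h5)

/-- the unit `1 + c s` for `c` of square zero. -/
def sqUnit {C : Type*} [CommRing C] (c : C) (hc : c * c = 0) (s : C) : Cˣ where
  val := 1 + c * s
  inv := 1 - c * s
  val_inv := by linear_combination (- s * s) * hc
  inv_val := by linear_combination (- s * s) * hc

lemma sqUnit_add {C : Type*} [CommRing C] (c : C) (hc : c * c = 0) (s s' : C) :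
    sqUnit c hc (s + s') = sqUnit c hc s * sqUnit c hc s' := by
  apply Units.ext
  show 1 + c * (s + s') = (1 + c * s) * (1 + c * s')
  linear_combination (- s * s') * hc

lemma sqUnit_map {C D : Type*} [CommRing C] [CommRing D] (ψ : C →+* D) (c : C) (hc : c * c = 0)
    (hc' : ψ c * ψ c = 0) (s : C) :
    Units.map ψ.toMonoidHom (sqUnit c hc s) = sqUnit (ψ c) hc' (ψ s) := by
  apply Units.ext
  show ψ (1 + c * s) = 1 + ψ c * ψ s
  rw [map_add, map_one, map_mul]

/-- a lift of a unit along a map with nil kernel is a unit. -/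
lemma isUnit_of_map_of_nil {B C : Type*} [CommRing B] [CommRing C] (ψ : B →+* C)
    (hsurj : Function.Surjective ψ) (hnil : ∀ x, ψ x = 0 → IsNilpotent x) (b : B)
    (hb : IsUnit (ψ b)) : IsUnit b := by
  obtain ⟨v, hv⟩ := hb
  obtain ⟨b', hb'⟩ := hsurj (v⁻¹ : Cˣ)
  have h1 : ψ (b * b' - 1) = 0 := by
    rw [map_sub, map_mul, map_one, hb', ← hv, Units.mul_inv, sub_self]
  have h2 : IsUnit (1 + (b * b' - 1)) := (hnil _ h1).isUnit_one_add
  have h3 : IsUnit (b * b') := by
    have : b * b' = 1 + (b * b' - 1) := by ring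
    rw [this]
    exact h2
  exact isUnit_of_mul_isUnit_left h3

end Algebra

section Sections

variable {A : Type u} [CommRing A] {X' : Scheme.{u}} (f : X' ⟶ Spec (CommRingCat.of A))

/-- base change of `X'` to `A/I`. -/
noncomputable abbrev XI (I : Ideal A) : Scheme.{u} :=
  pullback f (Spec.map (CommRingCat.ofHom (Ideal.Quotient.mk I)))

/-- the closed immersion `X' ×_A A/I → X'`. -/
noncomputable abbrev pI (I : Ideal A) : XI f I ⟶ X' :=
  pullback.fst f (Spec.map (CommRingCat.ofHom (Ideal.Quotient.mk I)))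

instance (I : Ideal A) : IsAffineHom (pI f I) :=
  MorphismProperty.pullback_fst _ _ inferInstance

lemma isAffineOpen_preimage (I : Ideal A) {V : X'.Opens} (hV : IsAffineOpen V) :
    IsAffineOpen ((pI f I) ⁻¹ᵁ V) := hV.preimage (pI f I)

lemma app_surjective (I : Ideal A) {V : X'.Opens} (hV : IsAffineOpen V) :
    Function.Surjective ((pI f I).app V).hom :=
  (app_surjective_and_ker (pI f I) (pullback.snd _ _) f
    (CommRingCat.ofHom (Ideal.Quotient.mk I)) (IsPullback.of_hasPullback _ _)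
    Ideal.Quotient.mk_surjective hV (isAffineOpen_preimage f I hV)).1

lemma ker_app (I : Ideal A) {V : X'.Opens} (hV : IsAffineOpen V) :
    RingHom.ker ((pI f I).app V).hom = I.map (phi f V).hom := by
  have h := (app_surjective_and_ker (pI f I) (pullback.snd _ _) f
    (CommRingCat.ofHom (Ideal.Quotient.mk I)) (IsPullback.of_hasPullback _ _)
    Ideal.Quotient.mk_surjective hV (isAffineOpen_preimage f I hV)).2
  rw [h]
  congr 1
  exact Ideal.mk_ker

lemma app_eq_zero_iff (I : Ideal A) {V : X'.Opens} (hV : IsAffineOpen V) (s : Γ(X', V)) :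
    (pI f I).app V s = 0 ↔ s ∈ I.map (phi f V).hom := by
  rw [← ker_app f I hV]
  exact Iff.rfl

lemma app_phi_of_mem (I : Ideal A) (V : X'.Opens) {a : A} (ha : a ∈ I) :
    (pI f I).app V ((phi f V).hom a) = 0 := by
  have h := app_phi (pI f I) (pullback.snd _ _) f (CommRingCat.ofHom (Ideal.Quotient.mk I))
    pullback.condition V
  have h2 := congrArg (fun ψ => ψ.hom a) h
  have h3 : (pI f I).app V ((phi f V).hom a) =
      (phi (pullback.snd f (Spec.map (CommRingCat.ofHom (Ideal.Quotient.mk I))))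
        ((pI f I) ⁻¹ᵁ V)).hom (Ideal.Quotient.mk I a) := h2
  rw [h3, Ideal.Quotient.eq_zero_iff_mem.mpr ha, map_zero]

/-- restriction of sections. -/
noncomputable def res {Z : Scheme.{u}} {V U : Z.Opens} (h : U ≤ V) (s : Γ(Z, V)) : Γ(Z, U) :=
  Z.presheaf.map (homOfLE h).op s

lemma res_mul {Z : Scheme.{u}} {V U : Z.Opens} (h : U ≤ V) (a b : Γ(Z, V)) :
    res h (a * b) = res h a * res h b := map_mul (Z.presheaf.map (homOfLE h).op).hom a b

lemma res_add {Z : Scheme.{u}} {V U : Z.Opens} (h : U ≤ V) (a b : Γ(Z, V)) :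
    res h (a + b) = res h a + res h b := map_add (Z.presheaf.map (homOfLE h).op).hom a b

lemma res_zero {Z : Scheme.{u}} {V U : Z.Opens} (h : U ≤ V) :
    res h (0 : Γ(Z, V)) = 0 := map_zero (Z.presheaf.map (homOfLE h).op).hom

lemma res_one {Z : Scheme.{u}} {V U : Z.Opens} (h : U ≤ V) :
    res h (1 : Γ(Z, V)) = 1 := map_one (Z.presheaf.map (homOfLE h).op).hom

lemma res_sub {Z : Scheme.{u}} {V U : Z.Opens} (h : U ≤ V) (a b : Γ(Z, V)) :
    res h (a - b) = res h a - res h b := map_sub (Z.presheaf.map (homOfLE h).op).hom a b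

lemma res_res {Z : Scheme.{u}} {V U W : Z.Opens} (h : U ≤ V) (h' : W ≤ U) (a : Γ(Z, V)) :
    res h' (res h a) = res (h'.trans h) a := by
  have h1 : Z.presheaf.map (homOfLE h).op ≫ Z.presheaf.map (homOfLE h').op =
      Z.presheaf.map (homOfLE (h'.trans h)).op := by
    rw [← Functor.map_comp]
    rfl
  exact congrArg (fun ψ => ψ.hom a) h1

lemma app_res {Z : Scheme.{u}} (i : Z ⟶ X') {V U : X'.Opens} (h : U ≤ V) (s : Γ(X', V)) :
    i.app U (res h s) = res (i.preimage_mono h) (i.app V s) := by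
  have h1 := i.naturality (homOfLE h).op
  exact congrArg (fun ψ => ψ.hom s) h1

lemma phi_res_apply {V U : X'.Opens} (h : U ≤ V) (a : A) :
    res h ((phi f V).hom a) = (phi f U).hom a := by
  have h1 := phi_res f h
  exact congrArg (fun ψ => ψ.hom a) h1

/-- a section vanishing on an affine cover vanishes. -/
lemma eq_zero_of_affine {Z : Scheme.{u}} (i : Z ⟶ X') (V : X'.Opens) (z : Γ(Z, i ⁻¹ᵁ V))
    (h : ∀ (U : X'.Opens) (hUV : U ≤ V), IsAffineOpen U → res (i.preimage_mono hUV) z = 0) :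
    z = 0 := by
  have hex : ∀ x : V, ∃ U : X'.Opens, IsAffineOpen U ∧ x.1 ∈ U ∧ U ≤ V := by
    intro x
    obtain ⟨U, hU, hxU, hUV⟩ := exists_isAffineOpen_mem_and_subset (x := x.1) (U := V) x.2
    exact ⟨U, hU, hxU, hUV⟩
  choose U hU hxU hUV using hex
  let W : (i ⁻¹ᵁ V : Z.Opens) → Z.Opens := fun y => i ⁻¹ᵁ (U ⟨i.base y.1, y.2⟩)
  refine TopCat.Sheaf.eq_of_locally_eq' Z.sheaf W (i ⁻¹ᵁ V)
    (fun y => homOfLE (i.preimage_mono (hUV _))) ?_ _ _ ?_
  · intro y hy
    exact Opens.mem_iSup.2 ⟨⟨y, hy⟩, hxU ⟨i.base y, hy⟩⟩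
  · intro y
    have h1 := h (U ⟨i.base y.1, y.2⟩) (hUV _) (hU _)
    have h2 : Z.presheaf.map (homOfLE (i.preimage_mono (hUV ⟨i.base y.1, y.2⟩))).op
      (0 : Γ(Z, i ⁻¹ᵁ V)) = 0 := map_zero _
    exact (show Z.presheaf.map (homOfLE (i.preimage_mono (hUV ⟨i.base y.1, y.2⟩))).op z = 0
      from h1).trans h2.symm

lemma app_eq_zero_iff_forall_affine {Z : Scheme.{u}} (i : Z ⟶ X') (V : X'.Opens) (s : Γ(X', V)) :
    i.app V s = 0 ↔ ∀ (U : X'.Opens) (hUV : U ≤ V), IsAffineOpen U → i.app U (res hUV s) = 0 := by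
  constructor
  · intro h U hUV _
    rw [app_res, h]
    exact res_zero _
  · intro h
    apply eq_zero_of_affine i V
    intro U hUV hU
    rw [← app_res]
    exact h U hUV hU

variable [Flat f]

/-- the key local computation: `t s ∈ I₁ O` iff `s ∈ N O` when `(I₁ : t) = N`. -/
lemma app_mul_eq_zero_iff (I₁ N : Ideal A) (t : A) (hN : ∀ a ∈ N, t * a ∈ I₁)
    (hcolon : ∀ a, t * a ∈ I₁ → a ∈ N) (V : X'.Opens) (s : Γ(X', V)) :
    (pI f I₁).app V ((phi f V).hom t * s) = 0 ↔ (pI f N).app V s = 0 := by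
  rw [app_eq_zero_iff_forall_affine (pI f I₁), app_eq_zero_iff_forall_affine (pI f N)]
  refine forall_congr' (fun U => forall_congr' (fun hUV => forall_congr' (fun hU => ?_)))
  have h1 : res hUV ((phi f V).hom t * s) = (phi f U).hom t * res hUV s := by
    rw [res_mul, phi_res_apply]
  rw [h1, app_eq_zero_iff f I₁ hU, app_eq_zero_iff f N hU]
  constructor
  · exact mem_map_of_mul_mem (phi f U).hom (flat_phi f hU) I₁ N t hcolon _
  · intro hs
    have h2 : (phi f U).hom t * res hUV s ∈ (Ideal.span {t} * N).map (phi f U).hom := by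
      rw [Ideal.map_mul]
      exact Ideal.mul_mem_mul (Ideal.mem_map_of_mem _ (Ideal.mem_span_singleton_self t)) hs
    refine Ideal.map_mono ?_ h2
    rw [Ideal.span_singleton_mul_le_iff]
    intro a ha
    exact hN a ha

end Sections

end Groth.Agent.H7.UnitKer
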