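import Groth.Agent.Lib.Helper7.UnitKer1
import Groth.Agent.Lib.Helper2.LerayLin
import Groth.Prelude.Def_ClSub2
import Groth.Prelude.Def_Coh
import Mathlib

/-! # The sheaves `1 + I·O` of principal units of a flat scheme over a ring: the relative step -/

set_option autoImplicit false

universe u
open CategoryTheory CategoryTheory.Limits AlgebraicGeometry Opposite TopologicalSpace

namespace Groth.Agent.H7.UnitKer

open Groth.Agent.H6.InfAut Groth.Agent.LD

section General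

variable {X : TopCat.{u}}

lemma nat_apply {F G : CohTop.Ab X} (φ : F ⟶ G) {V W : (Opens X)ᵒᵖ} (i : V ⟶ W)
    (k : F.obj.obj V) : φ.hom.app W (F.obj.map i k) = G.obj.map i (φ.hom.app V k) :=
  ConcreteCategory.congr_hom (φ.hom.naturality i) k

lemma mono_of_app_injective {F G : CohTop.Ab X} (φ : F ⟶ G)
    (h : ∀ V : Opens X, Function.Injective (φ.hom.app (op V))) : Mono φ := by
  haveI : ∀ U, Mono (φ.hom.app U) := fun U => by
    apply ConcreteCategory.mono_of_injective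
    exact h U.unop
  haveI : Mono φ.hom := NatTrans.mono_of_mono_app _
  exact Sheaf.Hom.mono_of_presheaf_mono _ _ _

lemma epi_of_locally_surjective {F G : CohTop.Ab X} (φ : F ⟶ G)
    (h : ∀ (V : Opens X) (g : G.obj.obj (op V)) (x : X), x ∈ V →
      ∃ (W : Opens X) (hWV : W ≤ V), x ∈ W ∧
        ∃ s : F.obj.obj (op W), φ.hom.app (op W) s = G.obj.map (homOfLE hWV).op g) : Epi φ := by
  rw [← Sheaf.isLocallySurjective_iff_epi']
  show TopCat.Presheaf.IsLocallySurjective φ.hom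
  rw [TopCat.Presheaf.isLocallySurjective_iff]
  intro V g x hx
  obtain ⟨W, hWV, hxW, s, hs⟩ := h V g x hx
  exact ⟨W, hWV, ⟨s, hs⟩, hxW⟩

lemma eq_zero_of_locally {F : CohTop.Ab X} (V : Opens X) (z : F.obj.obj (op V))
    (h : ∀ x ∈ V, ∃ (W : Opens X) (hWV : W ≤ V), x ∈ W ∧ F.obj.map (homOfLE hWV).op z = 0) :
    z = 0 := by
  choose W hWV hxW hz using h
  refine TopCat.Sheaf.eq_of_locally_eq' (F : TopCat.Sheaf AddCommGrpCat X)
    (fun x : V => W x.1 x.2) V (fun x => homOfLE (hWV x.1 x.2)) ?_ z 0 ?_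
  · intro x hx
    exact Opens.mem_iSup.2 ⟨⟨x, hx⟩, hxW x hx⟩
  · intro x
    have h1 := hz x.1 x.2
    have h2 : F.obj.map (homOfLE (hWV x.1 x.2)).op (0 : F.obj.obj (op V)) = 0 := map_zero _
    exact h1.trans h2.symm

/-- middle term of a short exact sequence has vanishing `H^n` if the outer ones do. -/
lemma subsingleton_H_of_shortExact {S : ShortComplex (CohTop.Ab X)} (hS : S.ShortExact) (n : ℕ)
    (h1 : Subsingleton (Sheaf.H S.X₁ n)) (h3 : Subsingleton (Sheaf.H S.X₃ n)) :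
    Subsingleton (Sheaf.H S.X₂ n) := by
  refine ⟨fun a b => ?_⟩
  have key : ∀ c : Sheaf.H S.X₂ n, c = 0 := by
    intro c
    obtain ⟨x₁, hx₁⟩ := Abelian.Ext.covariant_sequence_exact₂ _ hS c (Subsingleton.elim _ _)
    rw [← hx₁, Subsingleton.elim x₁ 0, Abelian.Ext.zero_comp]
  rw [key a, key b]

/-- `H^n(g)` is surjective if `H^{n+1}` of the kernel vanishes. -/
lemma surjective_H_map_of_shortExact {S : ShortComplex (CohTop.Ab X)} (hS : S.ShortExact) (n : ℕ)
    (h1 : Subsingleton (Sheaf.H S.X₁ (n + 1))) :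
    Function.Surjective (Sheaf.H.map S.g n) := by
  intro x₃
  obtain ⟨x₂, hx₂⟩ := Abelian.Ext.covariant_sequence_exact₃ _ hS x₃ rfl (Subsingleton.elim _ _)
  exact ⟨x₂, hx₂⟩

end General

section Sheaves

variable {A : Type u} [CommRing A] {X' : Scheme.{u}} (f : X' ⟶ Spec (CommRingCat.of A))

/-- units of `X_I` pushed forward to `X'`. -/
noncomputable abbrev GI (I : Ideal A) : CohTop.Ab X'.toTopCat :=
  (CohTop.push (pI f I).base).obj (UnitsSh.unitsAb (XI f I))

/-- the units map of `X_I → X'`. -/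
noncomputable abbrev cI (I : Ideal A) : UnitsSh.unitsAb X' ⟶ GI f I := UnitsSh.comap (pI f I)

/-- the sheaf `1 + I·O`. -/
noncomputable abbrev KI (I : Ideal A) : CohTop.Ab X'.toTopCat := kernel (cI f I)

/-- the value of a section of `O^×`. -/
def uv {V : X'.Opens} (u : (UnitsSh.unitsAb X').obj.obj (op V)) : Γ(X', V) :=
  ((UnitsSh.unitOfSect u : (Γ(X', V))ˣ) : Γ(X', V))

/-- the section of `O^×` of a unit. -/
def su {V : X'.Opens} (w : (Γ(X', V))ˣ) : (UnitsSh.unitsAb X').obj.obj (op V) :=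
  UnitsSh.sectOfUnit (O := X'.presheaf) (U := op V) w

lemma uv_su {V : X'.Opens} (w : (Γ(X', V))ˣ) : uv (su w) = w := rfl

lemma uv_injective {V : X'.Opens} : Function.Injective (uv (X' := X') (V := V)) := by
  intro a b h
  have : (UnitsSh.unitOfSect a : (Γ(X', V))ˣ) = UnitsSh.unitOfSect b := Units.ext h
  exact congrArg (UnitsSh.sectOfUnit (O := X'.presheaf) (U := op V)) this

lemma uv_res {V U : X'.Opens} (h : U ≤ V) (u : (UnitsSh.unitsAb X').obj.obj (op V)) :
    uv ((UnitsSh.unitsAb X').obj.map (homOfLE h).op u) = res h (uv u) := rfl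

/-- the value of a section of `G_I`. -/
noncomputable def gv {I : Ideal A} {V : X'.Opens} (g : (GI f I).obj.obj (op V)) :
    Γ(XI f I, (pI f I) ⁻¹ᵁ V) :=
  ((UnitsSh.unitOfSect (O := (XI f I).presheaf) (U := op ((pI f I) ⁻¹ᵁ V)) g :
    (Γ(XI f I, (pI f I) ⁻¹ᵁ V))ˣ) : Γ(XI f I, (pI f I) ⁻¹ᵁ V))

/-- the section of `G_I` of a unit. -/
noncomputable def sg {I : Ideal A} {V : X'.Opens} (w : (Γ(XI f I, (pI f I) ⁻¹ᵁ V))ˣ) :
    (GI f I).obj.obj (op V) :=
  UnitsSh.sectOfUnit (O := (XI f I).presheaf) (U := op ((pI f I) ⁻¹ᵁ V)) w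

lemma gv_sg {I : Ideal A} {V : X'.Opens} (w : (Γ(XI f I, (pI f I) ⁻¹ᵁ V))ˣ) :
    gv f (sg f w) = w := rfl

lemma gv_injective {I : Ideal A} {V : X'.Opens} :
    Function.Injective (gv f (I := I) (V := V)) := by
  intro a b h
  have : (UnitsSh.unitOfSect (O := (XI f I).presheaf) (U := op ((pI f I) ⁻¹ᵁ V)) a :
      (Γ(XI f I, (pI f I) ⁻¹ᵁ V))ˣ) = UnitsSh.unitOfSect b := Units.ext h
  exact congrArg (UnitsSh.sectOfUnit (O := (XI f I).presheaf) (U := op ((pI f I) ⁻¹ᵁ V))) this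

lemma gv_zero {I : Ideal A} {V : X'.Opens} : gv f (0 : (GI f I).obj.obj (op V)) = 1 := rfl

lemma gv_res {I : Ideal A} {V U : X'.Opens} (h : U ≤ V) (g : (GI f I).obj.obj (op V)) :
    gv f ((GI f I).obj.map (homOfLE h).op g) = res ((pI f I).preimage_mono h) (gv f g) := rfl

lemma gv_cI (I : Ideal A) {V : X'.Opens} (u : (UnitsSh.unitsAb X').obj.obj (op V)) :
    gv f ((cI f I).hom.app (op V) u) = (pI f I).app V (uv u) := rfl

lemma cI_app_eq_zero_iff (I : Ideal A) {V : X'.Opens} (u : (UnitsSh.unitsAb X').obj.obj (op V)) :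
    (cI f I).hom.app (op V) u = 0 ↔ (pI f I).app V (uv u) = 1 := by
  constructor
  · intro h
    rw [← gv_cI, h, gv_zero]
  · intro h
    apply gv_injective f
    rw [gv_cI, h, gv_zero]

/-- sections of `K_I`. -/
lemma exists_K (I : Ideal A) {V : X'.Opens} (u : (UnitsSh.unitsAb X').obj.obj (op V))
    (h : (pI f I).app V (uv u) = 1) :
    ∃ k : (KI f I).obj.obj (op V), (kernel.ι (cI f I)).hom.app (op V) k = u :=
  LCZ.exists_kernel_ι_eq (cI f I) V u ((cI_app_eq_zero_iff f I u).mpr h)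

lemma ιK_injective (I : Ideal A) (V : X'.Opens) :
    Function.Injective ((kernel.ι (cI f I)).hom.app (op V)) :=
  CH.app_injective_of_mono (kernel.ι (cI f I)) V

lemma ιK_spec (I : Ideal A) {V : X'.Opens} (k : (KI f I).obj.obj (op V)) :
    (pI f I).app V (uv ((kernel.ι (cI f I)).hom.app (op V) k)) = 1 := by
  rw [← cI_app_eq_zero_iff]
  have := congrArg (fun ψ => ψ.hom.app (op V) k) (kernel.condition (cI f I))
  exact this

lemma app_eq_zero_mono {I₁ I₂ : Ideal A} (h : I₁ ≤ I₂) (V : X'.Opens) (s : Γ(X', V))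
    (hs : (pI f I₁).app V s = 0) : (pI f I₂).app V s = 0 := by
  rw [app_eq_zero_iff_forall_affine] at hs ⊢
  intro U hUV hU
  have h1 := hs U hUV hU
  rw [app_eq_zero_iff f _ hU] at h1 ⊢
  exact Ideal.map_mono h h1

lemma app_eq_one_iff (I : Ideal A) (V : X'.Opens) (a : Γ(X', V)) :
    (pI f I).app V a = 1 ↔ (pI f I).app V (a - 1) = 0 := by
  rw [map_sub, map_one, sub_eq_zero]

/-- the inclusion `1 + I₁ O ⊆ 1 + I₂ O`. -/
noncomputable def jK {I₁ I₂ : Ideal A} (h : I₁ ≤ I₂) : KI f I₁ ⟶ KI f I₂ :=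
  kernel.lift _ (kernel.ι (cI f I₁)) (by
    apply Sheaf.hom_ext
    ext V k
    obtain ⟨V⟩ := V
    show (cI f I₂).hom.app (op V) ((kernel.ι (cI f I₁)).hom.app (op V) k) = 0
    rw [cI_app_eq_zero_iff, app_eq_one_iff]
    apply app_eq_zero_mono f h
    rw [← app_eq_one_iff]
    exact ιK_spec f I₁ k)

lemma jK_ι {I₁ I₂ : Ideal A} (h : I₁ ≤ I₂) :
    jK f h ≫ kernel.ι (cI f I₂) = kernel.ι (cI f I₁) := kernel.lift_ι _ _ _

instance {I₁ I₂ : Ideal A} (h : I₁ ≤ I₂) : Mono (jK f h) :=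
  mono_of_mono_fac (jK_ι f h)

end Sheaves

end Groth.Agent.H7.UnitKer
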