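import Groth.Agent.Lib.Helper7.UnitKer2
import Mathlib

/-! # The relative step: `0 → 1 + I₁O → 1 + (I₁ + (t))O → O/N O → 0` -/

set_option autoImplicit false

universe u
open CategoryTheory CategoryTheory.Limits AlgebraicGeometry Opposite TopologicalSpace

namespace Groth.Agent.H7.UnitKer

open Groth.Agent.H6.InfAut Groth.Agent.LD

lemma injective_of_map_eq_zero {G H : AddCommGrpCat.{u}} (φ : G ⟶ H)
    (h : ∀ x : G, φ x = 0 → x = 0) : Function.Injective φ := by
  intro a b hab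
  have h1 : φ (a - b) = 0 := by rw [map_sub, hab, sub_self]
  exact sub_eq_zero.mp (h _ h1)

section Rel

variable {A : Type u} [CommRing A] {X' : Scheme.{u}} (f : X' ⟶ Spec (CommRingCat.of A))

/-- the additive sheaf `O_{X'}`. -/
noncomputable abbrev OO (X' : Scheme.{u}) : CohTop.Ab X'.toTopCat :=
  Coh.toAb (Coh.structureModule X')

/-- the additive sheaf `O_{X'} / N O_{X'}`, as the direct image of the structure sheaf of `X_N`. -/
noncomputable abbrev PP (N : Ideal A) : CohTop.Ab X'.toTopCat :=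
  Coh.toAb ((Scheme.Modules.pushforward (pI f N)).obj (Coh.structureModule (XI f N)))

/-- the restriction map `O_{X'} → O_{X'} / N`. -/
noncomputable abbrev beta (N : Ideal A) : OO X' ⟶ PP f N :=
  (SheafOfModules.toSheaf X'.ringCatSheaf).map (ClSub.unitToPush (pI f N))

lemma beta_app (N : Ideal A) (V : X'.Opens) (s : Γ(X', V)) :
    (beta f N).hom.app (op V) s = (pI f N).app V s := rfl

lemma epi_beta (N : Ideal A) : Epi (beta f N) := by
  apply epi_of_locally_surjective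
  intro V g x hx
  obtain ⟨U, hU, hxU, hUV⟩ := exists_isAffineOpen_mem_and_subset (x := x) (U := V) hx
  refine ⟨U, hUV, hxU, ?_⟩
  obtain ⟨s, hs⟩ := app_surjective f N hU ((PP f N).obj.map (homOfLE hUV).op g)
  exact ⟨s, hs⟩

variable (I₁ : Ideal A) (t : A) (htt : t * t ∈ I₁)

/-- the image of `t` in `Γ(X_{I₁}, p⁻¹ V)`. -/
noncomputable def cc (V : X'.Opens) : Γ(XI f I₁, (pI f I₁) ⁻¹ᵁ V) :=
  (pI f I₁).app V ((phi f V).hom t)

include htt in
lemma cc_sq (V : X'.Opens) : cc f I₁ t V * cc f I₁ t V = 0 := by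
  unfold cc
  rw [← map_mul, ← map_mul]
  exact app_phi_of_mem f I₁ V htt

lemma cc_res {V U : X'.Opens} (h : U ≤ V) :
    res ((pI f I₁).preimage_mono h) (cc f I₁ t V) = cc f I₁ t U := by
  unfold cc
  rw [← app_res (pI f I₁) h, phi_res_apply]

/-- `s ↦ 1 + t s` on sections. -/
noncomputable def alphaApp (V : X'.Opens) : Γ(X', V) →+ (GI f I₁).obj.obj (op V) :=
  AddMonoidHom.mk'
    (fun s => sg f (sqUnit (cc f I₁ t V) (cc_sq f I₁ t htt V) ((pI f I₁).app V s)))
    (fun s s' => by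
      show sg f (sqUnit (cc f I₁ t V) (cc_sq f I₁ t htt V) ((pI f I₁).app V (s + s'))) =
        sg f (sqUnit (cc f I₁ t V) (cc_sq f I₁ t htt V) ((pI f I₁).app V s) *
          sqUnit (cc f I₁ t V) (cc_sq f I₁ t htt V) ((pI f I₁).app V s'))
      rw [map_add, sqUnit_add])

lemma gv_alphaApp (V : X'.Opens) (s : Γ(X', V)) :
    gv f (alphaApp f I₁ t htt V s) = 1 + cc f I₁ t V * (pI f I₁).app V s := rfl

lemma alphaApp_res {V U : X'.Opens} (h : U ≤ V) (s : Γ(X', V)) :
    alphaApp f I₁ t htt U (res h s) =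
      (GI f I₁).obj.map (homOfLE h).op (alphaApp f I₁ t htt V s) := by
  apply gv_injective f
  rw [gv_res, gv_alphaApp, gv_alphaApp, res_add, res_one, res_mul, cc_res f I₁ t h, app_res (pI f I₁) h]

/-- the morphism of sheaves `s ↦ 1 + t s` from `O_{X'}` to the units of `X_{I₁}`. -/
noncomputable def alpha : OO X' ⟶ GI f I₁ :=
  ⟨{ app := fun V => AddCommGrpCat.ofHom (alphaApp f I₁ t htt V.unop)
     naturality := fun V W i => by
       ext (s : Γ(X', V.unop))
       exact alphaApp_res f I₁ t htt (leOfHom i.unop) s }⟩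

lemma alpha_app (V : X'.Opens) (s : Γ(X', V)) :
    (alpha f I₁ t htt).hom.app (op V) s = alphaApp f I₁ t htt V s := rfl

section Flat

variable [Flat f] (N : Ideal A) (hN : ∀ a ∈ N, t * a ∈ I₁) (hcolon : ∀ a, t * a ∈ I₁ → a ∈ N)

include hN hcolon in
lemma alphaApp_eq_zero_iff (V : X'.Opens) (s : Γ(X', V)) :
    alphaApp f I₁ t htt V s = 0 ↔ (pI f N).app V s = 0 := by
  rw [← app_mul_eq_zero_iff f I₁ N t hN hcolon V s]
  constructor
  · intro h
    have h1 := congrArg (gv f) h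
    have h2 : 1 + cc f I₁ t V * (pI f I₁).app V s = 1 := h1
    rw [map_mul]
    exact add_left_cancel (a := 1) (h2.trans (add_zero 1).symm)
  · intro h
    apply gv_injective f
    show 1 + cc f I₁ t V * (pI f I₁).app V s = 1
    rw [map_mul] at h
    rw [show cc f I₁ t V * (pI f I₁).app V s = 0 from h, add_zero]

include hN hcolon in
lemma kernel_beta_alpha : kernel.ι (beta f N) ≫ alpha f I₁ t htt = 0 := by
  apply Sheaf.hom_ext
  ext V k
  obtain ⟨V⟩ := V
  show (alpha f I₁ t htt).hom.app (op V) ((kernel.ι (beta f N)).hom.app (op V) k) = 0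
  have h1 : (beta f N).hom.app (op V) ((kernel.ι (beta f N)).hom.app (op V) k) = 0 :=
    congrArg (fun ψ => ψ.hom.app (op V) k) (kernel.condition (beta f N))
  exact (alphaApp_eq_zero_iff f I₁ t htt N hN hcolon V _).mpr h1

/-- the induced map `O/N O → units of X_{I₁}`. -/
noncomputable def nu : PP f N ⟶ GI f I₁ :=
  haveI := epi_beta f N
  Abelian.epiDesc (beta f N) (alpha f I₁ t htt) (kernel_beta_alpha f I₁ t htt N hN hcolon)

lemma beta_nu : beta f N ≫ nu f I₁ t htt N hN hcolon = alpha f I₁ t htt := by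
  haveI := epi_beta f N
  exact Abelian.comp_epiDesc _ _ _

lemma nu_beta_app (V : X'.Opens) (s : Γ(X', V)) :
    (nu f I₁ t htt N hN hcolon).hom.app (op V) ((beta f N).hom.app (op V) s) =
      alphaApp f I₁ t htt V s :=
  congrArg (fun ψ => ψ.hom.app (op V) s) (beta_nu f I₁ t htt N hN hcolon)

lemma nu_app_injective (V : X'.Opens) :
    Function.Injective ((nu f I₁ t htt N hN hcolon).hom.app (op V)) := by
  apply injective_of_map_eq_zero
  intro p hp
  apply eq_zero_of_affine (pI f N) V (p : Γ(XI f N, (pI f N) ⁻¹ᵁ V))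
  intro U hUV hU
  obtain ⟨s, hs⟩ := app_surjective f N hU ((PP f N).obj.map (homOfLE hUV).op p)
  have h1 : (nu f I₁ t htt N hN hcolon).hom.app (op U)
      ((PP f N).obj.map (homOfLE hUV).op p) = 0 := by
    rw [nat_apply, hp, map_zero]
  have h2 : (PP f N).obj.map (homOfLE hUV).op p = (beta f N).hom.app (op U) s := hs.symm
  rw [h2, nu_beta_app] at h1
  have h4 := (alphaApp_eq_zero_iff f I₁ t htt N hN hcolon U s).mp h1
  exact hs.symm.trans h4

instance mono_nu : Mono (nu f I₁ t htt N hN hcolon) :=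
  mono_of_app_injective _ (nu_app_injective f I₁ t htt N hN hcolon)

/-- the map `1 + (I₁ + (t)) O → units of X_{I₁}`. -/
noncomputable abbrev lam : KI f (I₁ ⊔ Ideal.span {t}) ⟶ GI f I₁ :=
  kernel.ι (cI f (I₁ ⊔ Ideal.span {t})) ≫ cI f I₁

lemma lam_app (V : X'.Opens) (k : (KI f (I₁ ⊔ Ideal.span {t})).obj.obj (op V)) :
    (lam f I₁ t).hom.app (op V) k =
      (cI f I₁).hom.app (op V) ((kernel.ι (cI f (I₁ ⊔ Ideal.span {t}))).hom.app (op V) k) := rfl

/-- on an affine open, a section of `1 + (I₁ + (t)) O` is `1 + t s` modulo `I₁`. -/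
lemma exists_alpha_eq_lam {U : X'.Opens} (hU : IsAffineOpen U)
    (k : (KI f (I₁ ⊔ Ideal.span {t})).obj.obj (op U)) :
    ∃ s : Γ(X', U), (lam f I₁ t).hom.app (op U) k = alphaApp f I₁ t htt U s := by
  have h1 : (pI f (I₁ ⊔ Ideal.span {t})).app U
      (uv ((kernel.ι (cI f (I₁ ⊔ Ideal.span {t}))).hom.app (op U) k) - 1) = 0 := by
    rw [← app_eq_one_iff]
    exact ιK_spec f _ k
  rw [app_eq_zero_iff f _ hU, Ideal.map_sup, Ideal.map_span, Set.image_singleton] at h1
  obtain ⟨y, hy, z, hz, hyz⟩ := Submodule.mem_sup.mp h1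
  obtain ⟨s, hs⟩ := Ideal.mem_span_singleton'.mp hz
  refine ⟨s, ?_⟩
  apply gv_injective f
  rw [lam_app, gv_cI, gv_alphaApp]
  have h2 : uv ((kernel.ι (cI f (I₁ ⊔ Ideal.span {t}))).hom.app (op U) k) =
      1 + (y + s * (phi f U).hom t) := by
    rw [hs, hyz]
    ring
  rw [h2, map_add, map_one, map_add, (app_eq_zero_iff f I₁ hU y).mpr hy, zero_add, map_mul]
  unfold cc
  ring

lemma lam_cokernel :
    lam f I₁ t ≫ cokernel.π (nu f I₁ t htt N hN hcolon) = 0 := by
  apply Sheaf.hom_ext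
  ext V k
  obtain ⟨V⟩ := V
  show (cokernel.π (nu f I₁ t htt N hN hcolon)).hom.app (op V)
    ((lam f I₁ t).hom.app (op V) k) = 0
  apply eq_zero_of_locally V
  intro x hx
  obtain ⟨U, hU, hxU, hUV'⟩ := exists_isAffineOpen_mem_and_subset (x := x) (U := V) hx
  have hUV : U ≤ V := hUV'
  refine ⟨U, hUV, hxU, ?_⟩
  rw [← nat_apply, ← nat_apply]
  obtain ⟨s, hs⟩ := exists_alpha_eq_lam f I₁ t htt hU
    ((KI f (I₁ ⊔ Ideal.span {t})).obj.map (homOfLE hUV).op k)
  rw [hs, ← nu_beta_app f I₁ t htt N hN hcolon U s]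
  exact congrArg (fun ψ => ψ.hom.app (op U) ((beta f N).hom.app (op U) s))
    (cokernel.condition (nu f I₁ t htt N hN hcolon))

/-- the map `1 + (I₁ + (t)) O → O / N O`. -/
noncomputable def mu : KI f (I₁ ⊔ Ideal.span {t}) ⟶ PP f N :=
  Abelian.monoLift (nu f I₁ t htt N hN hcolon) (lam f I₁ t)
    (lam_cokernel f I₁ t htt N hN hcolon)

lemma mu_nu : mu f I₁ t htt N hN hcolon ≫ nu f I₁ t htt N hN hcolon = lam f I₁ t :=
  Abelian.monoLift_comp _ _ _

lemma mu_nu_app (V : X'.Opens) (k : (KI f (I₁ ⊔ Ideal.span {t})).obj.obj (op V)) :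
    (nu f I₁ t htt N hN hcolon).hom.app (op V) ((mu f I₁ t htt N hN hcolon).hom.app (op V) k) =
      (lam f I₁ t).hom.app (op V) k :=
  congrArg (fun ψ => ψ.hom.app (op V) k) (mu_nu f I₁ t htt N hN hcolon)

lemma jK_mu : jK f (le_sup_left : I₁ ≤ I₁ ⊔ Ideal.span {t}) ≫ mu f I₁ t htt N hN hcolon = 0 := by
  rw [← cancel_mono (nu f I₁ t htt N hN hcolon), Category.assoc, mu_nu, zero_comp,
    ← Category.assoc, jK_ι]
  exact kernel.condition _

include htt in
lemma epi_mu (htnil : IsNilpotent t) : Epi (mu f I₁ t htt N hN hcolon) := by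
  apply epi_of_locally_surjective
  intro V g x hx
  obtain ⟨U, hU, hxU, hUV'⟩ := exists_isAffineOpen_mem_and_subset (x := x) (U := V) hx
  have hUV : U ≤ V := hUV'
  refine ⟨U, hUV, hxU, ?_⟩
  obtain ⟨s, hs⟩ := app_surjective f N hU ((PP f N).obj.map (homOfLE hUV).op g)
  have hnil : IsNilpotent ((phi f U).hom t * s) :=
    (Commute.all _ _).isNilpotent_mul_right (htnil.map (phi f U).hom)
  let w : (Γ(X', U))ˣ := hnil.isUnit_one_add.unit
  have hw : (w : Γ(X', U)) = 1 + (phi f U).hom t * s := rfl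
  have h1 : (pI f (I₁ ⊔ Ideal.span {t})).app U (uv (su w)) = 1 := by
    rw [uv_su, hw, map_add, map_one, map_mul,
      app_phi_of_mem f _ U (Ideal.mem_sup_right (Ideal.mem_span_singleton_self t)),
      zero_mul, add_zero]
  obtain ⟨k, hk⟩ := exists_K f _ (su w) h1
  refine ⟨k, ?_⟩
  apply nu_app_injective f I₁ t htt N hN hcolon U
  rw [mu_nu_app, lam_app, hk]
  have h2 : (PP f N).obj.map (homOfLE hUV).op g = (beta f N).hom.app (op U) s := hs.symm
  rw [h2, nu_beta_app]
  apply gv_injective f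
  rw [gv_cI, gv_alphaApp, uv_su, hw, map_add, map_one, map_mul]
  rfl

/-- the short exact sequence `0 → 1 + I₁ O → 1 + (I₁ + (t)) O → O / N O → 0`. -/
lemma shortExact_rel (htnil : IsNilpotent t) :
    (ShortComplex.mk (jK f (le_sup_left : I₁ ≤ I₁ ⊔ Ideal.span {t}))
      (mu f I₁ t htt N hN hcolon) (jK_mu f I₁ t htt N hN hcolon)).ShortExact := by
  have he := epi_mu f I₁ t htt N hN hcolon htnil
  have hm : Mono (jK f (le_sup_left : I₁ ≤ I₁ ⊔ Ideal.span {t})) := inferInstance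
  refine ShortComplex.ShortExact.mk' ?_ hm he
  apply LCZ.exact_of_sections
  intro V y hy
  have hy' : (mu f I₁ t htt N hN hcolon).hom.app (op V) y = 0 := hy
  have h1 : (lam f I₁ t).hom.app (op V) y = 0 := by
    rw [← mu_nu_app f I₁ t htt N hN hcolon, hy', map_zero]
  rw [lam_app, cI_app_eq_zero_iff] at h1
  obtain ⟨k₁, hk₁⟩ := exists_K f I₁ _ h1
  refine ⟨k₁, ?_⟩
  apply ιK_injective f (I₁ ⊔ Ideal.span {t}) V
  rw [← hk₁]
  exact congrArg (fun ψ => ψ.hom.app (op V) k₁) (jK_ι f (le_sup_left : I₁ ≤ I₁ ⊔ Ideal.span {t}))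

include htt hN hcolon in
/-- **the relative step**: vanishing of `H^n` passes from `1 + I₁ O` to `1 + (I₁ + (t)) O`. -/
theorem subsingleton_H_KI_sup (htnil : IsNilpotent t) (n : ℕ)
    (h1 : Subsingleton (Sheaf.H (KI f I₁) n)) (hP : Subsingleton (Sheaf.H (PP f N) n)) :
    Subsingleton (Sheaf.H (KI f (I₁ ⊔ Ideal.span {t})) n) :=
  subsingleton_H_of_shortExact (shortExact_rel f I₁ t htt N hN hcolon htnil) n h1 hP

end Flat

end Rel

end Groth.Agent.H7.UnitKer
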