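import Groth.Agent.Lib.Helper7.UnitKer3
import Groth.Agent.Lib.Lead.SC.ClosedEmb
import Mathlib

/-! # Principal units of flat schemes over local rings: vanishing and surjectivity -/

set_option autoImplicit false

universe u
open CategoryTheory CategoryTheory.Limits AlgebraicGeometry Opposite TopologicalSpace

namespace Groth.Agent.H7.UnitKer

open Groth.Agent.H6.InfAut Groth.Agent.LD

section Final

variable {A : Type u} [CommRing A] {X' : Scheme.{u}} (f : X' ⟶ Spec (CommRingCat.of A))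

instance (I : Ideal A) : IsClosedImmersion (pI f I) :=
  MorphismProperty.pullback_fst _ _
    (IsClosedImmersion.spec_of_surjective _ Ideal.Quotient.mk_surjective)

/-- Leray for the closed immersion `X_N → X'`. -/
lemma subsingleton_H_PP (N : Ideal A) (n : ℕ)
    (h : Subsingleton (Coh.HH (XI f N) (Coh.structureModule (XI f N)) n)) :
    Subsingleton (Sheaf.H (PP f N) n) := by
  have hb := Groth.Agent.H2.Leray.edgeH_bijective (pI f N)
    (Coh.toAb (Coh.structureModule (XI f N)))
    (fun q => SC.isZero_rightDerived_push_of_isClosedEmbedding _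
      (pI f N).isClosedEmbedding _ q) n
  exact hb.injective.subsingleton

lemma isUnit_gv {I : Ideal A} {V : X'.Opens} (g : (GI f I).obj.obj (op V)) :
    IsUnit (gv f g) :=
  Units.isUnit (UnitsSh.unitOfSect (O := (XI f I).presheaf) (U := op ((pI f I) ⁻¹ᵁ V)) g)

/-- the units map of a nilpotent thickening is an epimorphism. -/
lemma epi_cI (I : Ideal A) (hI : ∃ n : ℕ, I ^ n = ⊥) : Epi (cI f I) := by
  obtain ⟨n, hn⟩ := hI
  apply epi_of_locally_surjective
  intro V g x hx
  obtain ⟨U, hU, hxU, hUV'⟩ := exists_isAffineOpen_mem_and_subset (x := x) (U := V) hx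
  have hUV : U ≤ V := hUV'
  refine ⟨U, hUV, hxU, ?_⟩
  obtain ⟨b, hb⟩ := app_surjective f I hU (gv f ((GI f I).obj.map (homOfLE hUV).op g))
  have hnil : ∀ y, ((pI f I).app U).hom y = 0 → IsNilpotent y := by
    intro y hy
    have h1 : y ∈ I.map (phi f U).hom := (app_eq_zero_iff f I hU y).mp hy
    refine ⟨n, ?_⟩
    have h2 : y ^ n ∈ (I.map (phi f U).hom) ^ n := Ideal.pow_mem_pow h1 n
    rw [← Ideal.map_pow, hn, Ideal.map_bot] at h2
    exact h2
  have hbu : IsUnit b := isUnit_of_map_of_nil ((pI f I).app U).hom (app_surjective f I hU) hnil b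
    (by rw [hb]; exact isUnit_gv f _)
  refine ⟨su hbu.unit, ?_⟩
  apply gv_injective f
  rw [gv_cI, uv_su]
  exact hb

lemma eq_zero_of_affine' (V : X'.Opens) (s : Γ(X', V))
    (h : ∀ (U : X'.Opens) (hUV : U ≤ V), IsAffineOpen U → res hUV s = 0) : s = 0 := by
  have hex : ∀ x : V, ∃ U : X'.Opens, IsAffineOpen U ∧ x.1 ∈ U ∧ U ≤ V := by
    intro x
    obtain ⟨U, hU, hxU, hUV⟩ := exists_isAffineOpen_mem_and_subset (x := x.1) (U := V) x.2
    exact ⟨U, hU, hxU, hUV⟩
  choose U hU hxU hUV using hex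
  refine TopCat.Sheaf.eq_of_locally_eq' X'.sheaf U V (fun x => homOfLE (hUV x)) ?_ _ _ ?_
  · intro x hx
    exact Opens.mem_iSup.2 ⟨⟨x, hx⟩, hxU ⟨x, hx⟩⟩
  · intro x
    have h1 := h (U x) (hUV x) (hU x)
    have h2 : X'.presheaf.map (homOfLE (hUV x)).op (0 : Γ(X', V)) = 0 := map_zero _
    exact (show X'.presheaf.map (homOfLE (hUV x)).op s = 0 from h1).trans h2.symm

lemma app_bot_injective (V : X'.Opens) : Function.Injective ((pI f ⊥).app V).hom := by
  rw [injective_iff_map_eq_zero]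
  intro s hs
  have h := (app_eq_zero_iff_forall_affine (pI f ⊥) V s).mp hs
  apply eq_zero_of_affine' V s
  intro U hUV hU
  have h1 := (app_eq_zero_iff f ⊥ hU _).mp (h U hUV hU)
  rw [Ideal.map_bot] at h1
  exact h1

instance mono_cI_bot : Mono (cI f ⊥) := by
  apply mono_of_app_injective
  intro V u u' huu
  apply uv_injective
  apply app_bot_injective f V
  have := congrArg (gv f) huu
  rw [gv_cI, gv_cI] at this
  exact this

lemma isZero_KI_bot : IsZero (KI f ⊥) := isZero_kernel_of_mono _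

/-- the units sequence of a nilpotent thickening gives surjectivity on `H^q`. -/
lemma surjective_H_map_cI (I : Ideal A) (hI : ∃ n : ℕ, I ^ n = ⊥) (q : ℕ)
    (h : Subsingleton (Sheaf.H (KI f I) (q + 1))) :
    Function.Surjective (Sheaf.H.map (cI f I) q) := by
  have hepi : Epi (cI f I) := epi_cI f I hI
  have hm : Mono (kernel.ι (cI f I)) := inferInstance
  have hS : (ShortComplex.mk (kernel.ι (cI f I)) (cI f I) (kernel.condition _)).ShortExact :=
    ShortComplex.ShortExact.mk' (ShortComplex.exact_of_f_is_kernel _ (kernelIsKernel _)) hm hepi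
  exact surjective_H_map_of_shortExact hS q h

end Final

section Local

variable (A : Type u) [CommRing A] [IsLocalRing A] {X' : Scheme.{u}}
  (f : X' ⟶ Spec (CommRingCat.of A)) [Flat f]

open IsLocalRing

include A in
/-- one step for a local ring: `t ∉ I₁`, `m t ⊆ I₁`, `t` nilpotent. -/
lemma step_local (I₁ : Ideal A) (t : A) (ht : t ∈ maximalIdeal A) (htI : t ∉ I₁)
    (hmt : ∀ a ∈ maximalIdeal A, a * t ∈ I₁) (htnil : IsNilpotent t) (n : ℕ)
    (h1 : Subsingleton (Sheaf.H (KI f I₁) n))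
    (hP : Subsingleton (Sheaf.H (PP f (maximalIdeal A)) n)) :
    Subsingleton (Sheaf.H (KI f (I₁ ⊔ Ideal.span {t})) n) := by
  have hN : ∀ a ∈ maximalIdeal A, t * a ∈ I₁ := fun a ha => by
    rw [mul_comm]
    exact hmt a ha
  have hcolon : ∀ a, t * a ∈ I₁ → a ∈ maximalIdeal A := by
    intro a ha
    by_contra hna
    have hu : IsUnit a := by
      by_contra hnu
      exact hna ((mem_maximalIdeal a).mpr hnu)
    obtain ⟨v, rfl⟩ := hu
    apply htI
    have : t = (t * (v : A)) * ((v⁻¹ : Aˣ) : A) := by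
      rw [mul_assoc, Units.mul_inv, mul_one]
    rw [this]
    exact I₁.mul_mem_right _ ha
  have htt : t * t ∈ I₁ := hN t ht
  exact subsingleton_H_KI_sup f I₁ t htt (maximalIdeal A) hN hcolon htnil n h1 hP

end Local

section Mains

open IsLocalRing

lemma subsingleton_H_of_isZero' {X : TopCat.{u}} {F : CohTop.Ab X} (h : IsZero F) (n : ℕ) :
    Subsingleton (Sheaf.H F n) := by
  refine ⟨fun a b => ?_⟩
  have key : ∀ c : Sheaf.H F n, c = 0 := by
    intro c
    have h1 : c = c.comp (Abelian.Ext.mk₀ (𝟙 F)) (add_zero n) := by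
      rw [Abelian.Ext.comp_mk₀_id]
    rw [h1, h.eq_of_src (𝟙 F) 0, Abelian.Ext.mk₀_zero, Abelian.Ext.comp_zero]
  rw [key a, key b]

theorem S18257_main
    (A : Type u) [CommRing A] [IsLocalRing A]
    (t : A) (ht0 : t ≠ 0) (ht : t ∈ IsLocalRing.maximalIdeal A)
    (hmt : ∀ x ∈ IsLocalRing.maximalIdeal A, x * t = 0)
    (X' : Scheme.{u}) [X'.Over (Spec (CommRingCat.of A))] [Flat (X' ↘ Spec (CommRingCat.of A))]
    (q : ℕ)
    (hvan : Subsingleton (Coh.HH
      (pullback (X' ↘ Spec (CommRingCat.of A)) (Spec.map (CommRingCat.ofHom (IsLocalRing.residue A))))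
      (Coh.structureModule _) (q + 1))) :
    Function.Surjective (Sheaf.H.map (UnitsSh.comap
      (pullback.fst (X' ↘ Spec (CommRingCat.of A))
        (Spec.map (CommRingCat.ofHom (Ideal.Quotient.mk (Ideal.span ({t} : Set A))))))) q) := by
  have hP : Subsingleton (Sheaf.H (PP (X' ↘ Spec (CommRingCat.of A)) (maximalIdeal A)) (q + 1)) :=
    subsingleton_H_PP _ _ _ hvan
  have h0 : Subsingleton (Sheaf.H (KI (X' ↘ Spec (CommRingCat.of A)) ⊥) (q + 1)) :=
    subsingleton_H_of_isZero' (isZero_KI_bot _) _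
  have htI : t ∉ (⊥ : Ideal A) := fun h => ht0 h
  have hmt' : ∀ a ∈ maximalIdeal A, a * t ∈ (⊥ : Ideal A) := fun a ha => by
    rw [hmt a ha]
    exact Ideal.zero_mem _
  have htnil : IsNilpotent t := ⟨2, by rw [pow_two, hmt t ht]⟩
  have h1 := step_local A (X' ↘ Spec (CommRingCat.of A)) ⊥ t ht htI hmt' htnil (q + 1) h0 hP
  rw [bot_sup_eq] at h1
  refine surjective_H_map_cI (X' ↘ Spec (CommRingCat.of A)) (Ideal.span {t}) ⟨2, ?_⟩ q h1
  rw [pow_two, Ideal.span_singleton_mul_span_singleton, hmt t ht]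
  exact Ideal.span_singleton_eq_bot.mpr rfl

end Mains

section Artin

open IsLocalRing

variable (A : Type u) [CommRing A] [IsArtinianRing A] [IsLocalRing A] {X' : Scheme.{u}}
  (f : X' ⟶ Spec (CommRingCat.of A)) [Flat f]

include A in
lemma exists_pow_maximalIdeal_eq_bot : ∃ r : ℕ, (maximalIdeal A) ^ r = ⊥ := by
  have h := IsArtinianRing.isNilpotent_jacobson_bot (R := A)
  rw [IsLocalRing.jacobson_eq_maximalIdeal ⊥ bot_ne_top] at h
  exact h

/-- vanishing of `H^n(X', 1 + I O)` for every ideal `I ⊆ m` of an Artinian local ring. -/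
theorem subsingleton_H_KI_of_artinian (n : ℕ)
    (hP : Subsingleton (Sheaf.H (PP f (maximalIdeal A)) n)) (I : Ideal A)
    (hI : I ≤ maximalIdeal A) : Subsingleton (Sheaf.H (KI f I) n) := by
  obtain ⟨r, hr⟩ := exists_pow_maximalIdeal_eq_bot A
  let S : Set (Ideal A) := {I' | I' ≤ I ∧ Subsingleton (Sheaf.H (KI f I') n)}
  have hS : S.Nonempty := ⟨⊥, bot_le, subsingleton_H_of_isZero' (isZero_KI_bot f) n⟩
  obtain ⟨I', ⟨hI'I, hI'⟩, hmax⟩ :=
    (set_has_maximal_iff_noetherian (R := A) (M := A)).mpr inferInstance S hS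
  by_cases hEq : I' = I
  · rw [← hEq]
    exact hI'
  exfalso
  have hlt : I' < I := lt_of_le_of_ne hI'I hEq
  obtain ⟨x, hxI, hxI'⟩ := SetLike.exists_of_lt hlt
  -- find the last power of `m` not carrying `x` into `I'`
  let Q : ℕ → Prop := fun k => ∀ a ∈ (maximalIdeal A) ^ k, a * x ∈ I'
  have hQr : Q r := by
    intro a ha
    rw [hr] at ha
    rw [(Ideal.mem_bot).mp ha, zero_mul]
    exact I'.zero_mem
  have hQ0 : ¬ Q 0 := by
    intro h0
    apply hxI'
    have := h0 1 (by rw [pow_zero, Ideal.one_eq_top]; exact (Submodule.mem_top : (1 : A) ∈ (⊤ : Ideal A)))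
    rwa [one_mul] at this
  classical
  have hex : ∃ k, Q k := ⟨r, hQr⟩
  have hk0 : Nat.find hex ≠ 0 := by
    intro h0
    apply hQ0
    rw [← h0]
    exact Nat.find_spec hex
  obtain ⟨k, hk⟩ := Nat.exists_eq_succ_of_ne_zero hk0
  have hQk : ¬ Q k := Nat.find_min hex (by rw [hk]; exact Nat.lt_succ_self k)
  have hQk1 : Q (k + 1) := by
    have := Nat.find_spec hex
    rwa [hk] at this
  have hQk' : ∃ a ∈ (maximalIdeal A) ^ k, a * x ∉ I' := by
    by_contra hcon
    apply hQk
    intro a ha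
    by_contra hna
    exact hcon ⟨a, ha, hna⟩
  obtain ⟨a, ha, hax⟩ := hQk'
  have htI : a * x ∈ I := I.mul_mem_left a hxI
  have htm : a * x ∈ maximalIdeal A := hI htI
  have hmt : ∀ b ∈ maximalIdeal A, b * (a * x) ∈ I' := by
    intro b hb
    rw [← mul_assoc]
    apply hQk1
    rw [pow_succ']
    exact Ideal.mul_mem_mul hb ha
  have htnil : IsNilpotent (a * x) := by
    refine ⟨r, ?_⟩
    have : (a * x) ^ r ∈ (maximalIdeal A) ^ r := Ideal.pow_mem_pow htm r
    rw [hr] at this
    exact this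
  have h2 := step_local A f I' (a * x) htm hax hmt htnil n hI' hP
  have hle : I' ⊔ Ideal.span {a * x} ≤ I :=
    sup_le hI'I ((Ideal.span_singleton_le_iff_mem I).mpr htI)
  have hlt' : I' < I' ⊔ Ideal.span {a * x} := by
    refine lt_of_le_of_ne le_sup_left ?_
    intro heq
    apply hax
    rw [heq]
    exact Ideal.mem_sup_right (Ideal.mem_span_singleton_self _)
  exact hmax _ ⟨hle, h2⟩ hlt'

end Artin

section Mains2

open IsLocalRing

theorem S18260_main
    (A : Type u) [CommRing A] [IsArtinianRing A] [IsLocalRing A]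
    (X' : Scheme.{u}) [X'.Over (Spec (CommRingCat.of A))] [Flat (X' ↘ Spec (CommRingCat.of A))]
    (q : ℕ)
    (hvan : Subsingleton (Coh.HH (pullback (X' ↘ Spec (CommRingCat.of A)) (Spec.map (CommRingCat.ofHom (IsLocalRing.residue A)))) (Coh.structureModule _) q)) :
    Subsingleton (Sheaf.H (kernel (UnitsSh.comap
      (pullback.fst (X' ↘ Spec (CommRingCat.of A)) (Spec.map (CommRingCat.ofHom (IsLocalRing.residue A)))))) q) := by
  have hP : Subsingleton (Sheaf.H (PP (X' ↘ Spec (CommRingCat.of A)) (maximalIdeal A)) q) :=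
    subsingleton_H_PP _ _ _ hvan
  exact subsingleton_H_KI_of_artinian A (X' ↘ Spec (CommRingCat.of A)) q hP (maximalIdeal A) le_rfl

theorem S18259_main
    (A : Type u) [CommRing A] [IsArtinianRing A] [IsLocalRing A]
    (J : Ideal A) (hJ : J ≤ IsLocalRing.maximalIdeal A)
    (X' : Scheme.{u}) [X'.Over (Spec (CommRingCat.of A))] [Flat (X' ↘ Spec (CommRingCat.of A))]
    (q : ℕ)
    (hvan : Subsingleton (Coh.HH (pullback (X' ↘ Spec (CommRingCat.of A)) (Spec.map (CommRingCat.ofHom (IsLocalRing.residue A)))) (Coh.structureModule _) (q + 1))) :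
    Function.Surjective (Sheaf.H.map (UnitsSh.comap
      (pullback.fst (X' ↘ Spec (CommRingCat.of A)) (Spec.map (CommRingCat.ofHom (Ideal.Quotient.mk J))))) q) := by
  have hP : Subsingleton (Sheaf.H (PP (X' ↘ Spec (CommRingCat.of A)) (maximalIdeal A)) (q + 1)) :=
    subsingleton_H_PP _ _ _ hvan
  have h1 := subsingleton_H_KI_of_artinian A (X' ↘ Spec (CommRingCat.of A)) (q + 1) hP J hJ
  obtain ⟨r, hr⟩ := exists_pow_maximalIdeal_eq_bot A
  refine surjective_H_map_cI (X' ↘ Spec (CommRingCat.of A)) J ⟨r, ?_⟩ q h1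
  exact le_bot_iff.mp (hr ▸ Ideal.pow_right_mono hJ r)

end Mains2

end Groth.Agent.H7.UnitKer
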