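import Groth.Agent.Lib.Helper7.UnitKer4
import Mathlib

/-! # The tangent space of `H^q(O^×)` : dual numbers -/

set_option autoImplicit false

universe u
open CategoryTheory CategoryTheory.Limits AlgebraicGeometry Opposite TopologicalSpace

namespace Groth.Agent.H7.UnitKer

open Groth.Agent.H6.InfAut Groth.Agent.LD

section General

variable {X : TopCat.{u}}

lemma H_map_zero {F G : CohTop.Ab X} (n : ℕ) (x : Sheaf.H F n) :
    Sheaf.H.map (0 : F ⟶ G) n x = 0 := by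
  rw [Sheaf.H.map_apply, Abelian.Ext.mk₀_zero, Abelian.Ext.comp_zero]

lemma H_map_injective_of_isIso {F G : CohTop.Ab X} (θ : F ⟶ G) [IsIso θ] (n : ℕ) :
    Function.Injective (Sheaf.H.map θ n) := by
  apply Function.LeftInverse.injective (g := Sheaf.H.map (inv θ) n)
  intro x
  rw [← Sheaf.H.map_comp_apply, IsIso.hom_inv_id, Sheaf.H.map_id_apply]

lemma H_map_bijective_of_isIso {F G : CohTop.Ab X} (θ : F ⟶ G) [IsIso θ] (n : ℕ) :
    Function.Bijective (Sheaf.H.map θ n) := by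
  refine ⟨H_map_injective_of_isIso θ n, ?_⟩
  apply Function.RightInverse.surjective (g := Sheaf.H.map (inv θ) n)
  intro x
  rw [← Sheaf.H.map_comp_apply, IsIso.inv_hom_id, Sheaf.H.map_id_apply]

/-- a short exact sequence whose second map is surjective on every `H^n` : the kernel of `H^q(g)` is
`H^q` of the kernel. -/
lemma nonempty_ker_equiv {S : ShortComplex (CohTop.Ab X)} (hS : S.ShortExact)
    (hsurj : ∀ n, Function.Surjective (Sheaf.H.map S.g n)) (q : ℕ) :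
    Nonempty ((Sheaf.H.map S.g q).ker ≃+ Sheaf.H S.X₁ q) := by
  have hker : ∀ x : Sheaf.H S.X₁ q, Sheaf.H.map S.f q x ∈ (Sheaf.H.map S.g q).ker := by
    intro x
    rw [AddMonoidHom.mem_ker, ← Sheaf.H.map_comp_apply, S.zero, H_map_zero]
  have hinj : Function.Injective (Sheaf.H.map S.f q) := by
    haveI := hS.mono_f
    cases q with
    | zero => exact Abelian.Ext.postcomp_mk₀_injective_of_mono _ S.f
    | succ n =>
      rw [injective_iff_map_eq_zero]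
      intro x₁ hx₁
      obtain ⟨x₃, hx₃⟩ := Abelian.Ext.covariant_sequence_exact₁ _ hS x₁ hx₁ rfl
      obtain ⟨x₂, hx₂⟩ := hsurj n x₃
      rw [← hx₃, ← hx₂, Sheaf.H.map_apply, Abelian.Ext.comp_assoc_of_second_deg_zero,
        hS.comp_extClass, Abelian.Ext.comp_zero]
  let φ : Sheaf.H S.X₁ q →+ (Sheaf.H.map S.g q).ker :=
    (Sheaf.H.map S.f q).codRestrict _ hker
  have hφ : Function.Bijective φ := by
    constructor
    · intro a b hab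
      apply hinj
      exact congrArg Subtype.val hab
    · rintro ⟨y, hy⟩
      obtain ⟨x₁, hx₁⟩ := Abelian.Ext.covariant_sequence_exact₂ _ hS y (AddMonoidHom.mem_ker.mp hy)
      exact ⟨x₁, Subtype.ext hx₁⟩
  exact ⟨(AddEquiv.ofBijective φ hφ).symm⟩

end General

section Push

variable {X' Z : Scheme.{u}} (j : Z ⟶ X')

/-- units of `Z` pushed forward to `X'`. -/
noncomputable abbrev GJ : CohTop.Ab X'.toTopCat :=
  (CohTop.push j.base).obj (UnitsSh.unitsAb Z)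

/-- the value of a section of `j_* O_Z^×`. -/
noncomputable def gvJ {V : X'.Opens} (g : (GJ j).obj.obj (op V)) : Γ(Z, j ⁻¹ᵁ V) :=
  ((UnitsSh.unitOfSect (O := Z.presheaf) (U := op (j ⁻¹ᵁ V)) g : (Γ(Z, j ⁻¹ᵁ V))ˣ) :
    Γ(Z, j ⁻¹ᵁ V))

/-- the section of `j_* O_Z^×` of a unit. -/
noncomputable def sgJ {V : X'.Opens} (w : (Γ(Z, j ⁻¹ᵁ V))ˣ) : (GJ j).obj.obj (op V) :=
  UnitsSh.sectOfUnit (O := Z.presheaf) (U := op (j ⁻¹ᵁ V)) w

lemma gvJ_sgJ {V : X'.Opens} (w : (Γ(Z, j ⁻¹ᵁ V))ˣ) : gvJ j (sgJ j w) = w := rfl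

lemma gvJ_injective {V : X'.Opens} : Function.Injective (gvJ j (V := V)) := by
  intro a b h
  have : (UnitsSh.unitOfSect (O := Z.presheaf) (U := op (j ⁻¹ᵁ V)) a :
      (Γ(Z, j ⁻¹ᵁ V))ˣ) = UnitsSh.unitOfSect b := Units.ext h
  exact congrArg (UnitsSh.sectOfUnit (O := Z.presheaf) (U := op (j ⁻¹ᵁ V))) this

lemma isUnit_gvJ {V : X'.Opens} (g : (GJ j).obj.obj (op V)) : IsUnit (gvJ j g) :=
  Units.isUnit (UnitsSh.unitOfSect (O := Z.presheaf) (U := op (j ⁻¹ᵁ V)) g)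

lemma gvJ_comap {V : X'.Opens} (u : (UnitsSh.unitsAb X').obj.obj (op V)) :
    gvJ j ((UnitsSh.comap j).hom.app (op V) u) = j.app V (uv u) := rfl

lemma gvJ_res {V U : X'.Opens} (h : U ≤ V) (g : (GJ j).obj.obj (op V)) :
    gvJ j ((GJ j).obj.map (homOfLE h).op g) = res (j.preimage_mono h) (gvJ j g) := rfl

/-- the retraction-induced section of the units map. -/
noncomputable def sigApp (ρ : X' ⟶ Z) (hV : ∀ V : X'.Opens, V ≤ ρ ⁻¹ᵁ (j ⁻¹ᵁ V)) (V : X'.Opens) :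
    (GJ j).obj.obj (op V) →+ (UnitsSh.unitsAb X').obj.obj (op V) :=
  AddMonoidHom.mk' (fun g => su (Units.map (ρ.appLE (j ⁻¹ᵁ V) V (hV V)).hom.toMonoidHom
    (UnitsSh.unitOfSect (O := Z.presheaf) (U := op (j ⁻¹ᵁ V)) g)))
    (fun a b => by
      show su (Units.map (ρ.appLE (j ⁻¹ᵁ V) V (hV V)).hom.toMonoidHom
        (UnitsSh.unitOfSect (O := Z.presheaf) (U := op (j ⁻¹ᵁ V)) a *
          UnitsSh.unitOfSect (O := Z.presheaf) (U := op (j ⁻¹ᵁ V)) b)) = _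
      rw [map_mul]
      rfl)

lemma uv_sigApp (ρ : X' ⟶ Z) (hV : ∀ V : X'.Opens, V ≤ ρ ⁻¹ᵁ (j ⁻¹ᵁ V)) (V : X'.Opens)
    (g : (GJ j).obj.obj (op V)) :
    uv (sigApp j ρ hV V g) = ρ.appLE (j ⁻¹ᵁ V) V (hV V) (gvJ j g) := rfl

lemma sigApp_res (ρ : X' ⟶ Z) (hV : ∀ V : X'.Opens, V ≤ ρ ⁻¹ᵁ (j ⁻¹ᵁ V)) {V U : X'.Opens}
    (h : U ≤ V) (g : (GJ j).obj.obj (op V)) :
    sigApp j ρ hV U ((GJ j).obj.map (homOfLE h).op g) =
      (UnitsSh.unitsAb X').obj.map (homOfLE h).op (sigApp j ρ hV V g) := by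
  apply uv_injective
  rw [uv_res, uv_sigApp, uv_sigApp, gvJ_res]
  have h1 : Z.presheaf.map (homOfLE (j.preimage_mono h)).op ≫ ρ.appLE (j ⁻¹ᵁ U) U (hV U) =
      ρ.appLE (j ⁻¹ᵁ V) V (hV V) ≫ X'.presheaf.map (homOfLE h).op := by
    rw [Scheme.Hom.map_appLE, Scheme.Hom.appLE_map]
  exact congrArg (fun ψ => ψ.hom (gvJ j g)) h1

/-- the section of `comap j` induced by a retraction. -/
noncomputable def sig (ρ : X' ⟶ Z) (hV : ∀ V : X'.Opens, V ≤ ρ ⁻¹ᵁ (j ⁻¹ᵁ V)) :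
    GJ j ⟶ UnitsSh.unitsAb X' :=
  ⟨{ app := fun V => AddCommGrpCat.ofHom (sigApp j ρ hV V.unop)
     naturality := fun V W i => by
       ext g
       exact sigApp_res j ρ hV (leOfHom i.unop) g }⟩

lemma appLE_eq_id {g : Z ⟶ Z} (hg : g = 𝟙 Z) (W : Z.Opens) (e : W ≤ g ⁻¹ᵁ W) :
    g.appLE W W e = 𝟙 _ := by
  subst hg
  simp only [Scheme.Hom.appLE, Scheme.Hom.id_app, Category.id_comp]
  have h1 : (homOfLE e).op = 𝟙 (op W) := Subsingleton.elim _ _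
  rw [h1]
  exact Z.presheaf.map_id _

lemma sig_comap (ρ : X' ⟶ Z) (hρ : j ≫ ρ = 𝟙 Z) (hV : ∀ V : X'.Opens, V ≤ ρ ⁻¹ᵁ (j ⁻¹ᵁ V)) :
    sig j ρ hV ≫ UnitsSh.comap j = 𝟙 _ := by
  apply Sheaf.hom_ext
  ext V g
  obtain ⟨V⟩ := V
  apply gvJ_injective j
  show gvJ j ((UnitsSh.comap j).hom.app (op V) (sigApp j ρ hV V g)) = gvJ j g
  rw [gvJ_comap, uv_sigApp]
  have h1 : ρ.appLE (j ⁻¹ᵁ V) V (hV V) ≫ j.app V = 𝟙 _ := by
    rw [Scheme.Hom.app_eq_appLE, Scheme.Hom.appLE_comp_appLE]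
    exact appLE_eq_id hρ _ _
  exact congrArg (fun ψ => ψ.hom (gvJ j g)) h1

lemma surjective_H_map_comap_of_retraction (ρ : X' ⟶ Z) (hρ : j ≫ ρ = 𝟙 Z)
    (hV : ∀ V : X'.Opens, V ≤ ρ ⁻¹ᵁ (j ⁻¹ᵁ V)) (n : ℕ) :
    Function.Surjective (Sheaf.H.map (UnitsSh.comap j) n) := by
  apply Function.RightInverse.surjective (g := Sheaf.H.map (sig j ρ hV) n)
  intro x
  rw [← Sheaf.H.map_comp_apply, sig_comap j ρ hρ hV, Sheaf.H.map_id_apply]

lemma le_preimage_of_retraction (ρ : X' ⟶ Z) (hρ : j ≫ ρ = 𝟙 Z)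
    (hs : Function.Surjective j.base) (V : X'.Opens) : V ≤ ρ ⁻¹ᵁ (j ⁻¹ᵁ V) := by
  intro x hx
  obtain ⟨z, rfl⟩ := hs x
  have h1 : ρ.base (j.base z) = z := by
    have := congrArg (fun ψ => ψ.base z) hρ
    exact this
  show j.base (ρ.base (j.base z)) ∈ V
  rw [h1]
  exact hx

end Push

end Groth.Agent.H7.UnitKer
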