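import Groth.Agent.Lib.Helper7.UnitKer5
import Mathlib

/-! # The tangent space of `H^q(O^×)` : dual numbers, part 2 -/

set_option autoImplicit false

universe u
open CategoryTheory CategoryTheory.Limits AlgebraicGeometry Opposite TopologicalSpace

namespace Groth.Agent.H7.UnitKer

open Groth.Agent.H6.InfAut Groth.Agent.LD

section Iso

variable {Z Z₁ : Scheme.{u}} (e : Z ⟶ Z₁) [IsIso e]

lemma isUnit_of_isIso_app (V : Z₁.Opens) (b : Γ(Z₁, V)) (hb : IsUnit (e.app V b)) : IsUnit b := by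
  have hbij := ConcreteCategory.bijective_of_isIso (e.app V)
  refine isUnit_of_map_of_nil (e.app V).hom hbij.surjective ?_ b hb
  intro y hy
  have : y = 0 := hbij.injective (hy.trans (map_zero (e.app V).hom).symm)
  rw [this]
  exact IsNilpotent.zero

lemma isIso_comap : IsIso (UnitsSh.comap e) := by
  haveI : Mono (UnitsSh.comap e) := by
    apply mono_of_app_injective
    intro V a b hab
    apply uv_injective
    have h := congrArg (gvJ e) hab
    rw [gvJ_comap, gvJ_comap] at h
    exact (ConcreteCategory.bijective_of_isIso (e.app V)).injective h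
  haveI : Epi (UnitsSh.comap e) := by
    apply epi_of_locally_surjective
    intro V g x hx
    refine ⟨V, le_rfl, hx, ?_⟩
    have h0 : (GJ e).obj.map (homOfLE (le_refl V)).op g = g := by
      have h1 : (homOfLE (le_refl V)).op = 𝟙 (op V) := rfl
      rw [h1, (GJ e).obj.map_id]
      rfl
    rw [h0]
    obtain ⟨b, hb⟩ := (ConcreteCategory.bijective_of_isIso (e.app V)).surjective (gvJ e g)
    have hbu : IsUnit b := isUnit_of_isIso_app e V b (by rw [hb]; exact isUnit_gvJ e g)
    refine ⟨su hbu.unit, ?_⟩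
    apply gvJ_injective e
    rw [gvJ_comap, uv_su]
    exact hb
  exact isIso_of_mono_of_epi _

/-- the additive restriction map `O_{Z₁} → e_* O_Z`. -/
noncomputable abbrev betaE : OO Z₁ ⟶ Coh.toAb ((Scheme.Modules.pushforward e).obj (Coh.structureModule Z)) :=
  (SheafOfModules.toSheaf Z₁.ringCatSheaf).map (ClSub.unitToPush e)

lemma isIso_betaE : IsIso (betaE e) := by
  haveI : Mono (betaE e) := by
    apply mono_of_app_injective
    intro V a b hab
    exact (ConcreteCategory.bijective_of_isIso (e.app V)).injective hab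
  haveI : Epi (betaE e) := by
    apply epi_of_locally_surjective
    intro V g x hx
    refine ⟨V, le_rfl, hx, ?_⟩
    obtain ⟨b, hb⟩ := (ConcreteCategory.bijective_of_isIso (e.app V)).surjective
      ((Coh.toAb ((Scheme.Modules.pushforward e).obj (Coh.structureModule Z))).obj.map
        (homOfLE (le_refl V)).op g)
    exact ⟨b, hb⟩
  exact isIso_of_mono_of_epi _

end Iso

section T

variable {A : Type u} [CommRing A] {X' : Scheme.{u}} (f : X' ⟶ Spec (CommRingCat.of A)) [Flat f]
variable (t : A) (htt : t * t ∈ (⊥ : Ideal A)) (N : Ideal A)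
  (hN : ∀ a ∈ N, t * a ∈ (⊥ : Ideal A)) (hcolon : ∀ a, t * a ∈ (⊥ : Ideal A) → a ∈ N)

include htt hN hcolon in
lemma nonempty_H_KI_equiv_PP (htnil : IsNilpotent t) (q : ℕ) :
    Nonempty (Sheaf.H (KI f (⊥ ⊔ Ideal.span {t})) q ≃+ Sheaf.H (PP f N) q) := by
  have hS := shortExact_rel f ⊥ t htt N hN hcolon htnil
  haveI : Mono (mu f ⊥ t htt N hN hcolon) :=
    hS.exact.mono_g ((isZero_KI_bot f).eq_of_src _ _)
  haveI : Epi (mu f ⊥ t htt N hN hcolon) := hS.epi_g
  haveI : IsIso (mu f ⊥ t htt N hN hcolon) := isIso_of_mono_of_epi _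
  exact ⟨AddEquiv.ofBijective (Sheaf.H.map (mu f ⊥ t htt N hN hcolon) q)
    (H_map_bijective_of_isIso _ q)⟩

include htt hN hcolon in
theorem nonempty_ker_equiv_of_iso (htnil : IsNilpotent t)
    (hsup : ⊥ ⊔ Ideal.span {t} = N)
    {Z : Scheme.{u}} (e : Z ⟶ XI f N) [IsIso e] (i' : Z ⟶ X') (hi : i' = e ≫ pI f N)
    (ρ : X' ⟶ Z) (hρ : i' ≫ ρ = 𝟙 Z) (hs : Function.Surjective i'.base) (q : ℕ) :
    Nonempty ((Sheaf.H.map (UnitsSh.comap i') q).ker ≃+ Coh.HH Z (Coh.structureModule Z) q) := by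
  subst hi
  -- the units map of `e ≫ p` factors through that of `p` by an isomorphism
  let θu : GI f N ⟶ GJ (e ≫ pI f N) := (CohTop.push (pI f N).base).map (UnitsSh.comap e)
  haveI : IsIso (UnitsSh.comap e) := isIso_comap e
  haveI : IsIso θu := Functor.map_isIso _ _
  have hfac : UnitsSh.comap (e ≫ pI f N) = cI f N ≫ θu := by
    apply Sheaf.hom_ext
    ext V a
    rfl
  have hV := le_preimage_of_retraction (e ≫ pI f N) ρ hρ hs
  have hsurj' : ∀ n, Function.Surjective (Sheaf.H.map (UnitsSh.comap (e ≫ pI f N)) n) :=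
    surjective_H_map_comap_of_retraction (e ≫ pI f N) ρ hρ hV
  have hsurj : ∀ n, Function.Surjective (Sheaf.H.map (cI f N) n) := by
    intro n y
    obtain ⟨x, hx⟩ := hsurj' n (Sheaf.H.map θu n y)
    refine ⟨x, H_map_injective_of_isIso θu n ?_⟩
    rw [← hx, hfac, Sheaf.H.map_comp_apply]
  have hkerEq : (Sheaf.H.map (UnitsSh.comap (e ≫ pI f N)) q).ker = (Sheaf.H.map (cI f N) q).ker := by
    ext x
    rw [AddMonoidHom.mem_ker, AddMonoidHom.mem_ker, hfac, Sheaf.H.map_comp_apply]
    constructor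
    · intro h
      exact H_map_injective_of_isIso θu q (h.trans (map_zero _).symm)
    · intro h
      rw [h, map_zero]
  -- the units sequence of `p`
  have hnilN : ∃ n : ℕ, N ^ n = ⊥ := by
    refine ⟨2, ?_⟩
    rw [← hsup, bot_sup_eq, pow_two, Ideal.span_singleton_mul_span_singleton]
    exact Ideal.span_singleton_eq_bot.mpr (Ideal.mem_bot.mp htt)
  have hepi : Epi (cI f N) := epi_cI f N hnilN
  have hm : Mono (kernel.ι (cI f N)) := inferInstance
  have hS : (ShortComplex.mk (kernel.ι (cI f N)) (cI f N) (kernel.condition _)).ShortExact :=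
    ShortComplex.ShortExact.mk' (ShortComplex.exact_of_f_is_kernel _ (kernelIsKernel _)) hm hepi
  obtain ⟨E1⟩ := nonempty_ker_equiv hS hsurj q
  obtain ⟨E2⟩ := nonempty_H_KI_equiv_PP f t htt N hN hcolon htnil q
  -- transport `O/N O` to the direct image of `O_Z`
  haveI : IsIso (betaE e) := isIso_betaE e
  let θa : PP f N ⟶ (Coh.pushAb (e ≫ pI f N)).obj (Coh.toAb (Coh.structureModule Z)) :=
    (Coh.pushAb (pI f N)).map (betaE e)
  haveI : IsIso θa := Functor.map_isIso _ _
  have hb := Groth.Agent.H2.Leray.edgeH_bijective (e ≫ pI f N)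
    (Coh.toAb (Coh.structureModule Z))
    (fun n => SC.isZero_rightDerived_push_of_isClosedEmbedding _
      (e ≫ pI f N).isClosedEmbedding _ n) q
  let E3 : Sheaf.H (PP f N) q ≃+
      Sheaf.H ((Coh.pushAb (e ≫ pI f N)).obj (Coh.toAb (Coh.structureModule Z))) q :=
    AddEquiv.ofBijective (Sheaf.H.map θa q) (H_map_bijective_of_isIso θa q)
  let E4 := AddEquiv.ofBijective _ hb
  have E2' : Sheaf.H (KI f N) q ≃+ Sheaf.H (PP f N) q := hsup ▸ E2
  exact ⟨(AddEquiv.addSubgroupCongr hkerEq).trans (E1.trans (E2'.trans (E3.trans E4)))⟩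

end T

section Dual

open DualNumber

lemma ker_fstHom (k : Type u) [Field k] :
    RingHom.ker ((TrivSqZeroExt.fstHom k k k).toRingHom : DualNumber k →+* k) =
      Ideal.span {(DualNumber.eps : DualNumber k)} := by
  ext x
  rw [RingHom.mem_ker, Ideal.mem_span_singleton]
  exact DualNumber.fst_eq_zero_iff_eps_dvd

lemma surjective_SpecMap_fstHom (k : Type u) [Field k] :
    Function.Surjective (Spec.map (CommRingCat.ofHom
      ((TrivSqZeroExt.fstHom k k k).toRingHom : DualNumber k →+* k))).base := by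
  intro x
  let y : Spec (CommRingCat.of k) := (⟨⊥, Ideal.isPrime_bot⟩ : PrimeSpectrum k)
  refine ⟨y, ?_⟩
  have hx : (x : PrimeSpectrum (DualNumber k)).asIdeal.IsPrime := x.2
  have hle : Ideal.span {(DualNumber.eps : DualNumber k)} ≤ (x : PrimeSpectrum (DualNumber k)).asIdeal := by
    rw [Ideal.span_singleton_le_iff_mem]
    have h0 : (DualNumber.eps : DualNumber k) * DualNumber.eps ∈
        (x : PrimeSpectrum (DualNumber k)).asIdeal := by
      rw [DualNumber.eps_mul_eps]
      exact Ideal.zero_mem _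
    exact (hx.mem_or_mem h0).elim id id
  have heq : Ideal.span {(DualNumber.eps : DualNumber k)} =
      (x : PrimeSpectrum (DualNumber k)).asIdeal :=
    DualNumber.isMaximal_span_singleton_eps.eq_of_le hx.ne_top hle
  apply PrimeSpectrum.ext
  show Ideal.comap ((TrivSqZeroExt.fstHom k k k).toRingHom : DualNumber k →+* k) ⊥ = _
  rw [← heq, ← ker_fstHom]
  rfl

lemma exists_iso_XI {A B : Type u} [CommRing A] [CommRing B] {X' : Scheme.{u}}
    (f : X' ⟶ Spec (CommRingCat.of A)) (π : A →+* B) (hπ : Function.Surjective π) :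
    ∃ e : pullback f (Spec.map (CommRingCat.ofHom π)) ⟶ XI f (RingHom.ker π),
      IsIso e ∧ pullback.fst f (Spec.map (CommRingCat.ofHom π)) = e ≫ pI f (RingHom.ker π) := by
  let φ : A ⧸ RingHom.ker π ≃+* B := RingHom.quotientKerEquivOfSurjective hπ
  let φc : CommRingCat.of (A ⧸ RingHom.ker π) ⟶ CommRingCat.of B :=
    CommRingCat.ofHom (φ : A ⧸ RingHom.ker π →+* B)
  let ψc : CommRingCat.of B ⟶ CommRingCat.of (A ⧸ RingHom.ker π) :=
    CommRingCat.ofHom (φ.symm : B →+* A ⧸ RingHom.ker π)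
  have hφψ : φc ≫ ψc = 𝟙 _ :=
    CommRingCat.hom_ext (RingHom.ext fun x => φ.symm_apply_apply x)
  have hψφ : ψc ≫ φc = 𝟙 _ :=
    CommRingCat.hom_ext (RingHom.ext fun x => φ.apply_symm_apply x)
  have hφ : CommRingCat.ofHom (Ideal.Quotient.mk (RingHom.ker π)) ≫ φc = CommRingCat.ofHom π :=
    CommRingCat.hom_ext (RingHom.ext fun x =>
      RingHom.quotientKerEquivOfSurjective_apply_mk hπ x)
  haveI : IsIso φc := ⟨ψc, hφψ, hψφ⟩
  haveI : IsIso (Spec.map φc) := inferInstance
  have h2 : Spec.map (CommRingCat.ofHom π) ≫ 𝟙 _ =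
      Spec.map φc ≫ Spec.map (CommRingCat.ofHom (Ideal.Quotient.mk (RingHom.ker π))) := by
    rw [Category.comp_id, ← Spec.map_comp, hφ]
  have h1 : f ≫ 𝟙 _ = 𝟙 _ ≫ f := by rw [Category.comp_id, Category.id_comp]
  refine ⟨pullback.map f (Spec.map (CommRingCat.ofHom π)) f
    (Spec.map (CommRingCat.ofHom (Ideal.Quotient.mk (RingHom.ker π)))) (𝟙 _)
      (Spec.map φc) (𝟙 _) h1 h2, inferInstance, ?_⟩
  exact ((pullback.lift_fst _ _ _).trans (Category.comp_id _)).symm

lemma exists_retraction {X₀ S T : Scheme.{u}} (g₀ : X₀ ⟶ S) (a : T ⟶ S) (b : S ⟶ T)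
    (hba : b ≫ a = 𝟙 S) :
    ∃ ρ : pullback g₀ a ⟶ pullback (pullback.snd g₀ a) b,
      pullback.fst (pullback.snd g₀ a) b ≫ ρ = 𝟙 _ := by
  have hpb : IsPullback (pullback.fst (pullback.snd g₀ a) b ≫ pullback.fst g₀ a)
      (pullback.snd (pullback.snd g₀ a) b) g₀ (b ≫ a) :=
    (IsPullback.of_hasPullback (pullback.snd g₀ a) b).paste_horiz (IsPullback.of_hasPullback g₀ a)
  rw [hba] at hpb
  haveI : IsIso (pullback.fst (pullback.snd g₀ a) b ≫ pullback.fst g₀ a) :=
    hpb.isIso_fst_of_isIso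
  refine ⟨pullback.fst g₀ a ≫ inv (pullback.fst (pullback.snd g₀ a) b ≫ pullback.fst g₀ a), ?_⟩
  rw [← Category.assoc]
  exact IsIso.hom_inv_id _

theorem S18258_main (k : Type u) [Field k] (X₀ : Scheme.{u}) [X₀.Over (Spec (CommRingCat.of k))] (q : ℕ) :
    Nonempty ((Sheaf.H.map (UnitsSh.comap (pullback.fst (pullback.snd (X₀ ↘ Spec (CommRingCat.of k)) (Spec.map (CommRingCat.ofHom (algebraMap k (DualNumber k))))) (Spec.map (CommRingCat.ofHom (TrivSqZeroExt.fstHom k k k).toRingHom)))) q).ker ≃+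
      Coh.HH (pullback (pullback.snd (X₀ ↘ Spec (CommRingCat.of k)) (Spec.map (CommRingCat.ofHom (algebraMap k (DualNumber k))))) (Spec.map (CommRingCat.ofHom (TrivSqZeroExt.fstHom k k k).toRingHom))) (Coh.structureModule (pullback (pullback.snd (X₀ ↘ Spec (CommRingCat.of k)) (Spec.map (CommRingCat.ofHom (algebraMap k (DualNumber k))))) (Spec.map (CommRingCat.ofHom (TrivSqZeroExt.fstHom k k k).toRingHom)))) q) := by
  haveI : Flat (X₀ ↘ Spec (CommRingCat.of k)) := inferInstance
  have hπsurj : Function.Surjective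
      ((TrivSqZeroExt.fstHom k k k).toRingHom : DualNumber k →+* k) :=
    fun x => ⟨TrivSqZeroExt.inl x, rfl⟩
  obtain ⟨e, he, hi⟩ := exists_iso_XI
    (pullback.snd (X₀ ↘ Spec (CommRingCat.of k))
      (Spec.map (CommRingCat.ofHom (algebraMap k (DualNumber k)))))
    ((TrivSqZeroExt.fstHom k k k).toRingHom : DualNumber k →+* k) hπsurj
  have hba : Spec.map (CommRingCat.ofHom ((TrivSqZeroExt.fstHom k k k).toRingHom : DualNumber k →+* k)) ≫
      Spec.map (CommRingCat.ofHom (algebraMap k (DualNumber k))) = 𝟙 _ := by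
    rw [← Spec.map_comp, ← Spec.map_id]
    congr 1
  obtain ⟨ρ, hρ⟩ := exists_retraction (X₀ ↘ Spec (CommRingCat.of k))
    (Spec.map (CommRingCat.ofHom (algebraMap k (DualNumber k))))
    (Spec.map (CommRingCat.ofHom ((TrivSqZeroExt.fstHom k k k).toRingHom : DualNumber k →+* k))) hba
  haveI : Surjective (Spec.map (CommRingCat.ofHom
      ((TrivSqZeroExt.fstHom k k k).toRingHom : DualNumber k →+* k))) :=
    ⟨surjective_SpecMap_fstHom k⟩
  haveI : Surjective (pullback.fst (pullback.snd (X₀ ↘ Spec (CommRingCat.of k))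
      (Spec.map (CommRingCat.ofHom (algebraMap k (DualNumber k)))))
      (Spec.map (CommRingCat.ofHom ((TrivSqZeroExt.fstHom k k k).toRingHom : DualNumber k →+* k)))) :=
    MorphismProperty.pullback_fst _ _ inferInstance
  have hs := (pullback.fst (pullback.snd (X₀ ↘ Spec (CommRingCat.of k))
      (Spec.map (CommRingCat.ofHom (algebraMap k (DualNumber k)))))
      (Spec.map (CommRingCat.ofHom ((TrivSqZeroExt.fstHom k k k).toRingHom : DualNumber k →+* k)))).surjective
  have hNeps := ker_fstHom k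
  have heps : (DualNumber.eps : DualNumber k) * DualNumber.eps = 0 := DualNumber.eps_mul_eps
  have htt : (DualNumber.eps : DualNumber k) * DualNumber.eps ∈ (⊥ : Ideal (DualNumber k)) := by
    rw [heps]
    exact Ideal.zero_mem _
  have hN : ∀ x ∈ RingHom.ker ((TrivSqZeroExt.fstHom k k k).toRingHom : DualNumber k →+* k),
      (DualNumber.eps : DualNumber k) * x ∈ (⊥ : Ideal (DualNumber k)) := by
    intro x hx
    rw [hNeps, Ideal.mem_span_singleton'] at hx
    obtain ⟨c, rfl⟩ := hx
    rw [Ideal.mem_bot]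
    calc (DualNumber.eps : DualNumber k) * (c * DualNumber.eps)
        = c * (DualNumber.eps * DualNumber.eps) := by ring
      _ = 0 := by rw [heps, mul_zero]
  have hcolon : ∀ x, (DualNumber.eps : DualNumber k) * x ∈ (⊥ : Ideal (DualNumber k)) →
      x ∈ RingHom.ker ((TrivSqZeroExt.fstHom k k k).toRingHom : DualNumber k →+* k) := by
    intro x hx
    rw [Ideal.mem_bot] at hx
    show x.fst = 0
    have h1 : ((DualNumber.eps : DualNumber k) * x).snd = 0 := by rw [hx]; rfl
    rw [TrivSqZeroExt.snd_mul] at h1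
    simpa using h1
  have hsup : ⊥ ⊔ Ideal.span {(DualNumber.eps : DualNumber k)} =
      RingHom.ker ((TrivSqZeroExt.fstHom k k k).toRingHom : DualNumber k →+* k) := by
    rw [bot_sup_eq, hNeps]
  haveI := he
  exact nonempty_ker_equiv_of_iso _ DualNumber.eps htt _ hN hcolon DualNumber.isNilpotent_eps hsup
    e _ hi ρ hρ hs q

end Dual

end Groth.Agent.H7.UnitKer
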