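import Groth.Agent.Lib.Lead.QC.IdealMod
import Groth.Agent.Lib.Lead.LCZ.Main
import Groth.Prelude.Def_UnitsSh
import Mathlib

/-! # The units sequence `0 → J → O^× → i_* O_{X₀}^× → 0` of a square zero ideal -/

set_option autoImplicit false

universe u
open CategoryTheory CategoryTheory.Limits AlgebraicGeometry Opposite TopologicalSpace

namespace Groth.Agent.H7.UnitSq

open Groth.Agent.LD.QC

variable {X : Scheme.{u}} (J : X.IdealSheafData)

/-- inclusion of the ideal on sections. -/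
noncomputable def inc (U : X.Opens) (f : Γ(ClSub.idealMod J, U)) : Γ(X, U) :=
  (ClSub.idealModι J).app U f

lemma inc_add (U : X.Opens) (f g : Γ(ClSub.idealMod J, U)) :
    inc J U (f + g) = inc J U f + inc J U g :=
  map_add ((ClSub.idealModι J).app U).hom f g

lemma inc_injective (U : X.Opens) : Function.Injective (inc J U) :=
  idealModι_app_injective J U

lemma inc_res {U V : X.Opens} (i : V ⟶ U) (f : Γ(ClSub.idealMod J, U)) :
    X.presheaf.map i.op (inc J U f) = inc J V ((ClSub.idealMod J).presheaf.map i.op f) := by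
  have h := (ClSub.idealModι J).mapPresheaf.naturality i.op
  exact (congrArg (fun ψ => ψ f) h).symm

lemma toSub_inc (U : X.Opens) (f : Γ(ClSub.idealMod J, U)) :
    J.subschemeι.app U (inc J U f) = 0 := by
  have h := kernel.condition (ClSub.toSubscheme J)
  exact congr($(h).app U f)

lemma exists_inc (U : X.Opens) (s : Γ(X, U)) (hs : J.subschemeι.app U s = 0) :
    ∃ f : Γ(ClSub.idealMod J, U), inc J U f = s := by
  let S : ShortComplex X.Modules :=
    ShortComplex.mk (ClSub.idealModι J) (ClSub.toSubscheme J) (kernel.condition _)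
  have hS : S.Exact := ShortComplex.exact_of_f_is_kernel S (kernelIsKernel _)
  haveI : Mono S.f := inferInstanceAs (Mono (ClSub.idealModι J))
  exact exact_sections' S hS U s hs

lemma inc_mem_ideal (U : X.affineOpens) (f : Γ(ClSub.idealMod J, U.1)) :
    inc J U.1 f ∈ J.ideal U :=
  (exists_idealModι_app_eq_iff J U _).mp ⟨f, rfl⟩

variable {J}

lemma mul_eq_zero_of_mem (hJ : J * J = ⊥) (U : X.affineOpens) {a b : Γ(X, U.1)}
    (ha : a ∈ J.ideal U) (hb : b ∈ J.ideal U) : a * b = 0 := by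
  have h1 : a * b ∈ (J * J).ideal U := by
    rw [Scheme.IdealSheafData.ideal_mul]
    exact Ideal.mul_mem_mul ha hb
  rw [hJ, Scheme.IdealSheafData.ideal_bot] at h1
  exact h1

lemma inc_mul_inc (hJ : J * J = ⊥) (U : X.Opens) (f g : Γ(ClSub.idealMod J, U)) :
    inc J U f * inc J U g = 0 := by
  have hex : ∀ x : U, ∃ V : X.Opens, IsAffineOpen V ∧ x.1 ∈ V ∧ V ≤ U := by
    intro x
    obtain ⟨V, hV, hxV, hVU⟩ := exists_isAffineOpen_mem_and_subset (x := x.1) (U := U) x.2
    exact ⟨V, hV, hxV, hVU⟩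
  choose V hV hxV hVU using hex
  refine TopCat.Sheaf.eq_of_locally_eq' X.sheaf V U (fun x => homOfLE (hVU x)) ?_ _ _ ?_
  · intro x hx
    exact Opens.mem_iSup.2 ⟨⟨x, hx⟩, hxV ⟨x, hx⟩⟩
  · intro x
    have h1 : X.presheaf.map (homOfLE (hVU x)).op (inc J U f * inc J U g) =
        inc J (V x) ((ClSub.idealMod J).presheaf.map (homOfLE (hVU x)).op f) *
        inc J (V x) ((ClSub.idealMod J).presheaf.map (homOfLE (hVU x)).op g) := by
      rw [map_mul, inc_res, inc_res]
    have h2 : X.presheaf.map (homOfLE (hVU x)).op (0 : Γ(X, U)) = 0 := map_zero _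
    refine h1.trans (Eq.trans ?_ h2.symm)
    exact mul_eq_zero_of_mem hJ ⟨V x, hV x⟩ (inc_mem_ideal J ⟨V x, hV x⟩ _)
      (inc_mem_ideal J ⟨V x, hV x⟩ _)

/-- the unit `1 + f`. -/
noncomputable def unitOf (hJ : J * J = ⊥) (U : X.Opens) (f : Γ(ClSub.idealMod J, U)) :
    (Γ(X, U))ˣ where
  val := 1 + inc J U f
  inv := 1 - inc J U f
  val_inv := by
    have h := inc_mul_inc hJ U f f
    linear_combination (-1 : Γ(X, U)) * h
  inv_val := by
    have h := inc_mul_inc hJ U f f
    linear_combination (-1 : Γ(X, U)) * h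

lemma unitOf_add (hJ : J * J = ⊥) (U : X.Opens) (f g : Γ(ClSub.idealMod J, U)) :
    unitOf hJ U (f + g) = unitOf hJ U f * unitOf hJ U g := by
  apply Units.ext
  show 1 + inc J U (f + g) = (1 + inc J U f) * (1 + inc J U g)
  have h := inc_mul_inc hJ U f g
  rw [inc_add]
  linear_combination (-1 : Γ(X, U)) * h

lemma unitOf_res (hJ : J * J = ⊥) {U V : X.Opens} (i : V ⟶ U) (f : Γ(ClSub.idealMod J, U)) :
    Units.map (X.presheaf.map i.op).hom.toMonoidHom (unitOf hJ U f) =
      unitOf hJ V ((ClSub.idealMod J).presheaf.map i.op f) := by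
  apply Units.ext
  show X.presheaf.map i.op (1 + inc J U f) = 1 + inc J V _
  rw [map_add, map_one, inc_res]

lemma unitOf_injective (hJ : J * J = ⊥) (U : X.Opens) : Function.Injective (unitOf hJ U) := by
  intro f g h
  apply inc_injective J U
  have := congrArg Units.val h
  exact add_left_cancel this


/-- the map `f ↦ 1 + f` on sections. -/
noncomputable def phiApp (hJ : J * J = ⊥) (U : X.Opens) :
    Γ(ClSub.idealMod J, U) →+ (UnitsSh.unitsAb X).obj.obj (op U) :=
  AddMonoidHom.mk' (fun f => UnitsSh.sectOfUnit (unitOf hJ U f)) (fun f g => by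
    show UnitsSh.sectOfUnit (unitOf hJ U (f + g)) = _
    rw [unitOf_add]
    rfl)

/-- the morphism of sheaves `J ⟶ O^×`. -/
noncomputable def phi (hJ : J * J = ⊥) : Coh.toAb (ClSub.idealMod J) ⟶ UnitsSh.unitsAb X :=
  ⟨{ app := fun U => AddCommGrpCat.ofHom (phiApp hJ U.unop)
     naturality := fun U V i => by
       ext (f : Γ(ClSub.idealMod J, U.unop))
       have h := unitOf_res hJ i.unop f
       exact (congrArg UnitsSh.sectOfUnit h).symm }⟩

lemma phi_spec (hJ : J * J = ⊥) (U : X.Opens) (f : (ClSub.idealMod J).val.obj (op U)) :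
    (UnitsSh.unitOfSect ((phi hJ).hom.app (op U) f)).val =
      1 + (show X.sheaf.obj.obj (op U) from (ClSub.idealModι J).val.app (op U) f) := rfl

lemma phi_comap (hJ : J * J = ⊥) : phi hJ ≫ UnitsSh.comap J.subschemeι = 0 := by
  apply Sheaf.hom_ext
  ext U f
  obtain ⟨U⟩ := U
  show (UnitsSh.comap J.subschemeι).hom.app (op U) (UnitsSh.sectOfUnit (unitOf hJ U f)) = 0
  apply congrArg Additive.ofMul
  apply Units.ext
  show J.subschemeι.app U (1 + inc J U f) = 1
  rw [map_add, map_one, toSub_inc, add_zero]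

lemma mono_phi (hJ : J * J = ⊥) : Mono (phi hJ) := by
  haveI : ∀ U, Mono ((phi hJ).hom.app U) := by
    intro U
    apply ConcreteCategory.mono_of_injective
    intro f g h
    exact unitOf_injective hJ U.unop (congrArg UnitsSh.unitOfSect h)
  haveI : Mono (phi hJ).hom := NatTrans.mono_of_mono_app _
  exact Sheaf.Hom.mono_of_presheaf_mono _ _ _

lemma exact_phi (hJ : J * J = ⊥) :
    (ShortComplex.mk (phi hJ) (UnitsSh.comap J.subschemeι) (phi_comap hJ)).Exact := by
  apply Groth.Agent.LD.LCZ.exact_of_sections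
  intro V y hy
  let u : (Γ(X, V))ˣ := UnitsSh.unitOfSect y
  have h1 : J.subschemeι.app V ((u : Γ(X, V)) - 1) = 0 := by
    have h2 : Units.map (J.subschemeι.app V).hom.toMonoidHom u = 1 :=
      congrArg Additive.toMul hy
    have h3 : J.subschemeι.app V (u : Γ(X, V)) = 1 := congrArg Units.val h2
    rw [map_sub, map_one, h3, sub_self]
  obtain ⟨f, hf⟩ := exists_inc J V _ h1
  refine ⟨f, ?_⟩
  show UnitsSh.sectOfUnit (unitOf hJ V f) = UnitsSh.sectOfUnit u
  apply congrArg UnitsSh.sectOfUnit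
  apply Units.ext
  show 1 + inc J V f = (u : Γ(X, V))
  rw [hf]
  ring

lemma epi_comap (hJ : J * J = ⊥) : Epi (UnitsSh.comap J.subschemeι) := by
  rw [← Sheaf.isLocallySurjective_iff_epi']
  show TopCat.Presheaf.IsLocallySurjective (UnitsSh.comap J.subschemeι).hom
  rw [TopCat.Presheaf.isLocallySurjective_iff]
  intro U t x hx
  obtain ⟨V, hV, hxV, hVU⟩ := exists_isAffineOpen_mem_and_subset (x := x) (U := U) hx
  refine ⟨V, hVU, ?_, hxV⟩
  let u : (Γ(J.subscheme, J.subschemeι ⁻¹ᵁ V))ˣ :=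
    UnitsSh.unitOfSect (X := X.toTopCat) (O := (J.subschemeι.base _* J.subscheme.presheaf))
      (U := op V) (t |_ V)
  obtain ⟨a, ha⟩ := J.subschemeι_app_surjective ⟨V, hV⟩ u.val
  obtain ⟨b, hb⟩ := J.subschemeι_app_surjective ⟨V, hV⟩ u.inv
  have hker : ∀ c : Γ(X, V), c ∈ J.ideal ⟨V, hV⟩ ↔ J.subschemeι.app V c = 0 := by
    intro c
    rw [← J.ker_subschemeι_app ⟨V, hV⟩]
    exact RingHom.mem_ker
  have hn : a * b - 1 ∈ J.ideal ⟨V, hV⟩ := by
    rw [hker, map_sub, map_mul, map_one, ha, hb, u.val_inv, sub_self]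
  have hn2 : (a * b - 1) * (a * b - 1) = 0 := mul_eq_zero_of_mem hJ ⟨V, hV⟩ hn hn
  let w : (Γ(X, V))ˣ :=
    ⟨a, b * (1 - (a * b - 1)), by linear_combination (-1 : Γ(X, V)) * hn2,
      by linear_combination (-1 : Γ(X, V)) * hn2⟩
  refine ⟨UnitsSh.sectOfUnit w, ?_⟩
  show UnitsSh.sectOfUnit (Units.map (J.subschemeι.app V).hom.toMonoidHom w) =
    UnitsSh.sectOfUnit u
  apply congrArg UnitsSh.sectOfUnit
  apply Units.ext
  exact ha

theorem main (X : Scheme.{u}) (J : X.IdealSheafData) (hJ : J * J = ⊥) :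
    ∃ φ : Coh.toAb (ClSub.idealMod J) ⟶ UnitsSh.unitsAb X,
      (∀ (U : X.Opens) (f : (ClSub.idealMod J).val.obj (op U)),
        (UnitsSh.unitOfSect (φ.hom.app (op U) f)).val =
          1 + (show X.sheaf.obj.obj (op U) from (ClSub.idealModι J).val.app (op U) f)) ∧
      ∃ w : φ ≫ UnitsSh.comap J.subschemeι = 0,
        (ShortComplex.mk φ (UnitsSh.comap J.subschemeι) w).ShortExact :=
  ⟨phi hJ, phi_spec hJ, phi_comap hJ,
    { exact := exact_phi hJ, mono_f := mono_phi hJ, epi_g := epi_comap hJ }⟩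

end Groth.Agent.H7.UnitSq
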