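import Mathlib
open CategoryTheory CategoryTheory.Limits AlgebraicGeometry Opposite
universe u
namespace Groth.Agent.H7.UnramEq

set_option backward.isDefEq.respectTransparency false in
instance isOpenImmersion_equalizer_ι_left {S : Scheme.{u}} {X Y : Over S} [FormallyUnramified Y.hom]
    [LocallyOfFiniteType Y.hom]
    (f g : X ⟶ Y) : IsOpenImmersion (equalizer.ι f g).left := by
  refine MorphismProperty.of_isPullback (P := @IsOpenImmersion)
    ((Limits.isPullback_equalizer_prod f g).map (Over.forget _)).flip ?_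
  rw [← MorphismProperty.cancel_right_of_respectsIso @IsOpenImmersion _
    (Over.prodLeftIsoPullback Y Y).hom]
  convert! (inferInstance : IsOpenImmersion (pullback.diagonal Y.hom))
  ext1 <;> simp [← Over.comp_left]

/-- the open locus where `f` and `g` agree -/
theorem exists_open {X Y S : Scheme.{u}} (h : Y ⟶ S)
    [FormallyUnramified h] [LocallyOfFiniteType h] (f g : X ⟶ Y) (w : g ≫ h = f ≫ h) :
    ∃ U : X.Opens, U.ι ≫ f = U.ι ≫ g ∧
      (∀ {T : Scheme.{u}} (t : T ⟶ X), t ≫ f = t ≫ g → Set.range t ⊆ (U : Set X)) ∧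
      (IsSeparated h → IsClosed (U : Set X)) := by
  let X' : Over S := Over.mk (f ≫ h)
  let Y' : Over S := Over.mk h
  let f' : X' ⟶ Y' := Over.homMk f rfl
  let g' : X' ⟶ Y' := Over.homMk g w
  haveI : FormallyUnramified Y'.hom := ‹_›
  haveI : LocallyOfFiniteType Y'.hom := ‹_›
  let ι : (equalizer f' g').left ⟶ X := (equalizer.ι f' g').left
  haveI : IsOpenImmersion ι := isOpenImmersion_equalizer_ι_left f' g'
  have hι : ι ≫ f = ι ≫ g := by
    have := congrArg (fun t => t.left) (equalizer.condition f' g')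
    exact this
  refine ⟨ι.opensRange, ?_, ?_, ?_⟩
  · rw [← cancel_epi (ι.isoOpensRange).hom]
    rw [← Category.assoc, ← Category.assoc, Scheme.Hom.isoOpensRange_hom_ι]
    exact hι
  · intro T t ht
    let T' : Over S := Over.mk (t ≫ f ≫ h)
    let t' : T' ⟶ X' := Over.homMk t rfl
    have ht' : t' ≫ f' = t' ≫ g' := by
      ext
      exact ht
    have hl : (equalizer.lift t' ht').left ≫ ι = t := by
      have := congrArg (fun t => t.left) (equalizer.lift_ι t' ht')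
      exact this
    rw [← hl]
    rintro _ ⟨x, rfl⟩
    exact ⟨(equalizer.lift t' ht').left x, rfl⟩
  · intro hsep
    haveI : IsSeparated Y'.hom := hsep
    haveI : IsClosedImmersion ι := isClosedImmersion_equalizer_ι_left f' g'
    exact ι.isClosedEmbedding.isClosed_range

theorem main1 {X Y S : Scheme.{u}} (h : Y ⟶ S)
    [FormallyUnramified h] [LocallyOfFiniteType h] (f g : X ⟶ Y) (w : g ≫ h = f ≫ h)
    (hc : IsClosedMap (f ≫ h).base) (s : ↥S)
    (hs : (f ≫ h).fiberι s ≫ f = (f ≫ h).fiberι s ≫ g) :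
    ∃ V : S.Opens, s ∈ V ∧ ((f ≫ h) ⁻¹ᵁ V).ι ≫ f = ((f ≫ h) ⁻¹ᵁ V).ι ≫ g := by
  obtain ⟨U, hU, hUT, -⟩ := exists_open h f g w
  have hfib : (f ≫ h) ⁻¹' {s} ⊆ (U : Set X) := by
    rw [← Scheme.Hom.range_fiberι]
    exact hUT _ hs
  have hcl : IsClosed ((f ≫ h).base '' (U : Set X)ᶜ) := hc _ U.isOpen.isClosed_compl
  refine ⟨⟨((f ≫ h).base '' (U : Set X)ᶜ)ᶜ, hcl.isOpen_compl⟩, ?_, ?_⟩
  · rintro ⟨x, hx, hxs⟩
    exact hx (hfib hxs)
  · have hle : (f ≫ h) ⁻¹ᵁ ⟨_, hcl.isOpen_compl⟩ ≤ U := by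
      intro x hx
      by_contra hxU
      exact hx ⟨x, hxU, rfl⟩
    rw [← X.homOfLE_ι hle, Category.assoc, Category.assoc, hU]

theorem main2 {X Y S : Scheme.{u}} (h : Y ⟶ S)
    [FormallyUnramified h] [LocallyOfFiniteType h] [IsSeparated h]
    (f g : X ⟶ Y) (w : g ≫ h = f ≫ h)
    (ho : IsOpenMap (f ≫ h).base) (hc : IsClosedMap (f ≫ h).base) (s : ↥S)
    (hs : (f ≫ h).fiberι s ≫ f = (f ≫ h).fiberι s ≫ g) :
    ∃ V : S.Opens, IsClosed (V : Set ↥S) ∧ s ∈ V ∧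
      ((f ≫ h) ⁻¹ᵁ V).ι ≫ f = ((f ≫ h) ⁻¹ᵁ V).ι ≫ g := by
  obtain ⟨U, hU, hUT, hUc⟩ := exists_open h f g w
  have hUc' := hUc inferInstance
  have hfib : (f ≫ h) ⁻¹' {s} ⊆ (U : Set X) := by
    rw [← Scheme.Hom.range_fiberι]
    exact hUT _ hs
  have hcl : IsClosed ((f ≫ h).base '' (U : Set X)ᶜ) := hc _ U.isOpen.isClosed_compl
  have hop : IsOpen ((f ≫ h).base '' (U : Set X)ᶜ) := ho _ hUc'.isOpen_compl
  refine ⟨⟨((f ≫ h).base '' (U : Set X)ᶜ)ᶜ, hcl.isOpen_compl⟩, hop.isClosed_compl, ?_, ?_⟩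
  · rintro ⟨x, hx, hxs⟩
    exact hx (hfib hxs)
  · have hle : (f ≫ h) ⁻¹ᵁ ⟨_, hcl.isOpen_compl⟩ ≤ U := by
      intro x hx
      by_contra hxU
      exact hx ⟨x, hxU, rfl⟩
    rw [← X.homOfLE_ι hle, Category.assoc, Category.assoc, hU]

end Groth.Agent.H7.UnramEq
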