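import Mathlib
import Groth.Prelude.Def_W4c1liftfrobW2
import Groth.Agent.Lib.Helper7.W2Frob

/-! Explicit arithmetic of Witt vectors of length two. -/

set_option autoImplicit false
universe u v

namespace Groth.Agent.H7.W2D

open MvPolynomial WittVector

section poly
variable (p : ℕ) [hp : Fact p.Prime]

theorem wittAdd_one :
    wittAdd p 1 = X (0, 1) + X (1, 1) - Q p (X ((0 : Fin 2), 0)) (X ((1 : Fin 2), 0)) := by
  have h := wittStructureInt_prop p (X (0 : Fin 2) + X 1 : MvPolynomial (Fin 2) ℤ) 1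
  rw [wittPolynomial_one] at h
  simp only [map_add, map_mul, map_pow, bind₁_X_right, bind₁_C_right, rename_X, rename_C] at h
  have h0 : wittStructureInt p (X (0 : Fin 2) + X 1 : MvPolynomial (Fin 2) ℤ) 0 =
      X (0, 0) + X (1, 0) := wittAdd_zero p
  rw [h0, add_pow_eq] at h
  have hC : (C ((p : ℕ) : ℤ) : MvPolynomial (Fin 2 × ℕ) ℤ) ≠ 0 := by
    rw [Ne, C_eq_zero]
    exact_mod_cast hp.out.ne_zero
  apply mul_left_cancel₀ hC
  have e : ((p : ℕ) : MvPolynomial (Fin 2 × ℕ) ℤ) = C ((p : ℕ) : ℤ) := by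
    rw [map_natCast]
  rw [e] at h
  show C ((p : ℕ) : ℤ) * wittStructureInt p (X (0 : Fin 2) + X 1) 1 = _
  linear_combination h

theorem wittMul_one :
    wittMul p 1 = X (0, 1) * X (1, 0) ^ p + X (0, 0) ^ p * X (1, 1) +
      C ((p : ℕ) : ℤ) * X ((0 : Fin 2), 1) * X ((1 : Fin 2), 1) := by
  have h := wittStructureInt_prop p (X (0 : Fin 2) * X 1 : MvPolynomial (Fin 2) ℤ) 1
  rw [wittPolynomial_one] at h
  simp only [map_add, map_mul, map_pow, bind₁_X_right, bind₁_C_right, rename_X, rename_C] at h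
  have h0 : wittStructureInt p (X (0 : Fin 2) * X 1 : MvPolynomial (Fin 2) ℤ) 0 =
      X (0, 0) * X (1, 0) := wittMul_zero p
  rw [h0] at h
  have hC : (C ((p : ℕ) : ℤ) : MvPolynomial (Fin 2 × ℕ) ℤ) ≠ 0 := by
    rw [Ne, C_eq_zero]
    exact_mod_cast hp.out.ne_zero
  apply mul_left_cancel₀ hC
  show C ((p : ℕ) : ℤ) * wittStructureInt p (X (0 : Fin 2) * X 1) 1 = _
  linear_combination h

end poly

section coeff
variable {p : ℕ} [hp : Fact p.Prime] {R : Type*} [CommRing R]

theorem add_coeff_one (x y : WittVector p R) :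
    (x + y).coeff 1 = x.coeff 1 + y.coeff 1 - Q p (x.coeff 0) (y.coeff 0) := by
  rw [WittVector.add_coeff, wittAdd_one, peval]
  have hQ := map_Q p ((aeval (Function.uncurry ![x.coeff, y.coeff]) :
    MvPolynomial (Fin 2 × ℕ) ℤ →ₐ[ℤ] R) : MvPolynomial (Fin 2 × ℕ) ℤ →+* R) (X (0, 0)) (X (1, 0))
  simp only [RingHom.coe_coe, aeval_X, Function.uncurry] at hQ
  simp only [map_sub, map_add, aeval_X, Function.uncurry]
  rw [hQ]
  rfl

theorem mul_coeff_one (hpR : (p : R) = 0) (x y : WittVector p R) :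
    (x * y).coeff 1 = x.coeff 1 * y.coeff 0 ^ p + x.coeff 0 ^ p * y.coeff 1 := by
  rw [WittVector.mul_coeff, wittMul_one, peval]
  simp only [map_add, map_mul, map_pow, aeval_X, aeval_C, Function.uncurry]
  have : (algebraMap ℤ R) ((p : ℕ) : ℤ) = 0 := by
    rw [map_natCast]; exact hpR
  rw [this, zero_mul, zero_mul, add_zero]
  rfl

end coeff

section trunc
variable {p : ℕ} [hp : Fact p.Prime] {R : Type*} [CommRing R]

local notation "W₂" => TruncatedWittVector p 2 R

theorem t_exists_lift (x : W₂) : ∃ y : WittVector p R, WittVector.truncate 2 y = x :=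
  WittVector.truncate_surjective p 2 R x

theorem t_coeff (y : WittVector p R) (i : Fin 2) :
    (WittVector.truncate (p := p) 2 y).coeff i = y.coeff i := WittVector.coeff_truncate y i

theorem t_ext {x y : W₂} (h0 : x.coeff 0 = y.coeff 0) (h1 : x.coeff 1 = y.coeff 1) : x = y := by
  apply TruncatedWittVector.ext
  intro i
  fin_cases i
  · exact h0
  · exact h1

theorem t_add_coeff0 (x y : W₂) : (x + y).coeff 0 = x.coeff 0 + y.coeff 0 := by
  obtain ⟨x, rfl⟩ := t_exists_lift x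
  obtain ⟨y, rfl⟩ := t_exists_lift y
  rw [← map_add, t_coeff, t_coeff, t_coeff]
  exact WittVector.add_coeff_zero x y

theorem t_mul_coeff0 (x y : W₂) : (x * y).coeff 0 = x.coeff 0 * y.coeff 0 := by
  obtain ⟨x, rfl⟩ := t_exists_lift x
  obtain ⟨y, rfl⟩ := t_exists_lift y
  rw [← map_mul, t_coeff, t_coeff, t_coeff]
  exact WittVector.mul_coeff_zero x y

theorem t_add_coeff1 (x y : W₂) :
    (x + y).coeff 1 = x.coeff 1 + y.coeff 1 - Q p (x.coeff 0) (y.coeff 0) := by
  obtain ⟨x, rfl⟩ := t_exists_lift x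
  obtain ⟨y, rfl⟩ := t_exists_lift y
  rw [← map_add, t_coeff, t_coeff, t_coeff, t_coeff, t_coeff]
  exact add_coeff_one x y

theorem t_mul_coeff1 (hpR : (p : R) = 0) (x y : W₂) :
    (x * y).coeff 1 = x.coeff 1 * y.coeff 0 ^ p + x.coeff 0 ^ p * y.coeff 1 := by
  obtain ⟨x, rfl⟩ := t_exists_lift x
  obtain ⟨y, rfl⟩ := t_exists_lift y
  rw [← map_mul, t_coeff, t_coeff, t_coeff, t_coeff, t_coeff]
  exact mul_coeff_one hpR x y

theorem t_one_coeff0 : (1 : W₂).coeff 0 = 1 := by
  rw [← map_one (WittVector.truncate (p := p) 2), t_coeff]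
  exact WittVector.one_coeff_zero p R

theorem t_one_coeff1 : (1 : W₂).coeff 1 = 0 := by
  rw [← map_one (WittVector.truncate (p := p) 2), t_coeff]
  exact WittVector.one_coeff_eq_of_pos p R 1 (by norm_num)

theorem t_zero_coeff (i : Fin 2) : (0 : W₂).coeff i = 0 := by
  rw [← map_zero (WittVector.truncate (p := p) 2), t_coeff]
  exact WittVector.zero_coeff p R i

end trunc

end Groth.Agent.H7.W2D
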