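import Mathlib
import Groth.Prelude.Def_W4c1liftfrobW2
import Groth.Agent.Lib.Helper7.W2Poly

set_option autoImplicit false
universe u v

namespace Groth.Agent.H7.W2D

open FrobAlg MvPolynomial

section poly
variable {p : ℕ} [Fact p.Prime] {k : Type u} [Field k] [CharP k p] [PerfectRing k p] {n : ℕ}

local notation "W" => W2 p k
local notation "R'" => MvPolynomial (Fin n) (W2 p k)
local notation "R₀" => MvPolynomial (Fin n) k



/-- flatness gives `(Ideal.span (Set.range ff)) ∩ pR' = p(Ideal.span (Set.range ff))` -/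
theorem p_mul_mem_of_flat {m : ℕ} (ff : Fin m → R')
    (hflat : ((Ideal.Quotient.mk (Ideal.span (Set.range ff))).comp (C : W →+* R')).Flat)
    (g : R') (hg : (p : R') * g ∈ (Ideal.span (Set.range ff))) :
    (p : R') * g ∈ Ideal.span {(p : R')} * (Ideal.span (Set.range ff)) := by
  have h1 : ((p : ℕ) : R' ⧸ (Ideal.span (Set.range ff))) * Ideal.Quotient.mk (Ideal.span (Set.range ff)) g = 0 := by
    rw [← map_natCast (Ideal.Quotient.mk (Ideal.span (Set.range ff))), ← map_mul, Ideal.Quotient.eq_zero_iff_mem]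
    exact hg
  obtain ⟨y, hy⟩ := (flat_iff_ringHom p k _).mp hflat _ h1
  obtain ⟨g', rfl⟩ := Ideal.Quotient.mk_surjective y
  rw [← map_natCast (Ideal.Quotient.mk (Ideal.span (Set.range ff))), ← map_mul, Ideal.Quotient.eq] at hy
  have : (p : R') * g = (p : R') * (g - (p : R') * g') := by
    rw [mul_sub, ← mul_assoc, pp_zero, zero_mul, sub_zero]
  rw [this]
  exact Ideal.mul_mem_mul (Ideal.mem_span_singleton_self _) hy



theorem frobLift_iff {m : ℕ} (ff : Fin m → R')
    (hflat : ((Ideal.Quotient.mk (Ideal.span (Set.range ff))).comp (C : W →+* R')).Flat) :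
    (∃ Φ : (R' ⧸ (Ideal.span (Set.range ff))) →+* (R' ⧸ (Ideal.span (Set.range ff))),
      Φ.comp ((Ideal.Quotient.mk (Ideal.span (Set.range ff))).comp C) =
        ((Ideal.Quotient.mk (Ideal.span (Set.range ff))).comp C).comp (FrobAlg.sigma p k) ∧
      ∀ b, Ideal.quotientMap ((Ideal.span (Set.range ff)).map (rho p k n)) (rho p k n) Ideal.le_comap_map (Φ b) =
        (Ideal.quotientMap ((Ideal.span (Set.range ff)).map (rho p k n)) (rho p k n) Ideal.le_comap_map b) ^ p) ↔
    ∃ h : Fin n → R', ∀ i,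
      polyFrob p k (Fin n) (ff i) - ff i ^ p
        - (p : R') * ∑ j, pderiv j (ff i) ^ p * h j
        ∈ Ideal.span {(p : R')} * (Ideal.span (Set.range ff)) := by
  have hp : p ≠ 0 := (Fact.out : p.Prime).ne_zero
  have hfJ : ∀ i, ff i ∈ (Ideal.span (Set.range ff)) := fun i => Ideal.subset_span ⟨i, rfl⟩
  constructor
  · rintro ⟨Φ, hsemi, hred⟩
    -- lifts of the images of the variables
    have key : ∀ j : Fin n, ∃ u : R', Ideal.Quotient.mk (Ideal.span (Set.range ff)) (X j ^ p + (p : R') * u) =
        Φ (Ideal.Quotient.mk (Ideal.span (Set.range ff)) (X j)) := by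
      intro j
      obtain ⟨y0, hy0⟩ := Ideal.Quotient.mk_surjective (Φ (Ideal.Quotient.mk (Ideal.span (Set.range ff)) (X j)))
      have h1 := hred (Ideal.Quotient.mk (Ideal.span (Set.range ff)) (X j))
      rw [← hy0, Ideal.quotientMap_mk, Ideal.quotientMap_mk, ← map_pow, ← map_pow,
        Ideal.Quotient.eq, ← map_sub,
        Ideal.mem_map_iff_of_surjective _ rho_surjective] at h1
      obtain ⟨z, hz, hzz⟩ := h1
      have h2 : y0 - X j ^ p - z ∈ RingHom.ker (rho p k n) := by
        rw [RingHom.mem_ker, map_sub, hzz, sub_self]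
      rw [ker_rho, Ideal.mem_span_singleton'] at h2
      obtain ⟨u, hu⟩ := h2
      refine ⟨u, ?_⟩
      rw [← hy0, Ideal.Quotient.eq]
      have : X j ^ p + (p : R') * u - y0 = -z := by rw [mul_comm, hu]; ring
      rw [this]
      exact neg_mem hz
    choose u hu using key
    have hcomm : (Ideal.Quotient.mk (Ideal.span (Set.range ff))).comp (PhiU u) = Φ.comp (Ideal.Quotient.mk (Ideal.span (Set.range ff))) := by
      apply MvPolynomial.ringHom_ext
      · intro w
        show Ideal.Quotient.mk (Ideal.span (Set.range ff)) (PhiU u (C w)) = Φ (Ideal.Quotient.mk (Ideal.span (Set.range ff)) (C w))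
        rw [PhiU_C]
        have := congrArg (fun g => g w) hsemi
        simp only [RingHom.comp_apply] at this
        exact this.symm
      · intro j
        show Ideal.Quotient.mk (Ideal.span (Set.range ff)) (PhiU u (X j)) = Φ (Ideal.Quotient.mk (Ideal.span (Set.range ff)) (X j))
        rw [PhiU_X, hu]
    refine ⟨fun j => -u j, fun i => ?_⟩
    have h1 : PhiU u (ff i) ∈ (Ideal.span (Set.range ff)) := by
      rw [← Ideal.Quotient.eq_zero_iff_mem]
      have := congrArg (fun g => g (ff i)) hcomm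
      simp only [RingHom.comp_apply] at this
      rw [this, Ideal.Quotient.eq_zero_iff_mem.mpr (hfJ i), map_zero]
    have h2 : PhiU u (ff i) - ff i ^ p ∈ (Ideal.span (Set.range ff)) :=
      sub_mem h1 (Ideal.pow_mem_of_mem _ (hfJ i) p (Nat.pos_of_ne_zero hp))
    have h3 : polyFrob p k (Fin n) (ff i) - ff i ^ p ∈ RingHom.ker (rho p k n) := by
      rw [RingHom.mem_ker, map_sub, rho_polyFrob, map_pow, sub_self]
    rw [ker_rho, Ideal.mem_span_singleton'] at h3
    obtain ⟨g0, hg0⟩ := h3
    have e : polyFrob p k (Fin n) (ff i) - ff i ^ p - (p : R') * ∑ j, pderiv j (ff i) ^ p * (-u j) =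
        (p : R') * (g0 + ∑ j, pderiv j (ff i) ^ p * u j) := by
      rw [mul_add, mul_comm (p : R') g0, hg0]
      simp only [mul_neg, Finset.sum_neg_distrib]
      ring
    rw [e]
    apply p_mul_mem_of_flat ff hflat
    rw [← e]
    have : polyFrob p k (Fin n) (ff i) - ff i ^ p - (p : R') * ∑ j, pderiv j (ff i) ^ p * (-u j) =
        PhiU u (ff i) - ff i ^ p := by
      rw [PhiU_eq]
      simp only [mul_neg, Finset.sum_neg_distrib]
      ring
    rw [this]
    exact h2
  · rintro ⟨h, hh⟩
    let u : Fin n → R' := fun j => -h j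
    have hJ : (Ideal.span (Set.range ff)) ≤ Ideal.comap (PhiU u) (Ideal.span (Set.range ff)) := by
      rw [Ideal.span_le]
      rintro _ ⟨i, rfl⟩
      show PhiU u (ff i) ∈ (Ideal.span (Set.range ff))
      have e : PhiU u (ff i) = ff i ^ p + (polyFrob p k (Fin n) (ff i) - ff i ^ p
          - (p : R') * ∑ j, pderiv j (ff i) ^ p * h j) := by
        rw [PhiU_eq]
        simp only [u, mul_neg, Finset.sum_neg_distrib]
        ring
      rw [e]
      exact add_mem (Ideal.pow_mem_of_mem _ (hfJ i) p (Nat.pos_of_ne_zero hp))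
        (Ideal.mul_le_right (hh i))
    refine ⟨Ideal.quotientMap (Ideal.span (Set.range ff)) (PhiU u) hJ, ?_, ?_⟩
    · ext w
      show Ideal.quotientMap (Ideal.span (Set.range ff)) (PhiU u) hJ (Ideal.Quotient.mk (Ideal.span (Set.range ff)) (C w)) = _
      rw [Ideal.quotientMap_mk, PhiU_C]
      rfl
    · intro b
      obtain ⟨x, rfl⟩ := Ideal.Quotient.mk_surjective b
      rw [Ideal.quotientMap_mk, Ideal.quotientMap_mk, Ideal.quotientMap_mk, rho_PhiU, map_pow]

end poly

end Groth.Agent.H7.W2D
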