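import Mathlib
import Groth.Prelude.Def_W4c1liftfrobW2
import Groth.Agent.Lib.Helper7.W2Poly2

/-! Frobenius liftability of complete intersections over `W₂(k)`. -/

set_option autoImplicit false
universe u v

namespace Groth.Agent.H7.W2D

open FrobAlg MvPolynomial

section reg
variable {R : Type*} [CommRing R]

theorem mem_of_mul_mem_of_isWeaklyRegular {rs : List R}
    (h : RingTheory.Sequence.IsWeaklyRegular R rs) (i : ℕ) (hi : i < rs.length) (x : R)
    (hx : rs[i] * x ∈ Ideal.ofList (rs.take i)) : x ∈ Ideal.ofList (rs.take i) := by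
  have h1 := h.regular_mod_prev i hi
  have h2 : (Ideal.ofList (rs.take i) • ⊤ : Submodule R R) = Ideal.ofList (rs.take i) := by
    rw [smul_eq_mul, Ideal.mul_top]
  have h3 := @h1 (Submodule.Quotient.mk x) 0 (by
    simp only [smul_zero]
    rw [← Submodule.Quotient.mk_smul, Submodule.Quotient.mk_eq_zero, h2, smul_eq_mul]
    exact hx)
  rw [Submodule.Quotient.mk_eq_zero, h2] at h3
  exact h3

theorem ofList_ofFn {m : ℕ} (f : Fin m → R) :
    Ideal.ofList (List.ofFn f) = Ideal.span (Set.range f) := by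
  unfold Ideal.ofList
  congr 1
  ext r
  simp [List.mem_ofFn]

end reg

section ci
variable {p : ℕ} [Fact p.Prime] {k : Type u} [Field k] [CharP k p] [PerfectRing k p] {n : ℕ}

local notation "W" => W2 p k
local notation "R'" => MvPolynomial (Fin n) (W2 p k)
local notation "R₀" => MvPolynomial (Fin n) k

theorem base_flat (g : R') (hg : (p : R') * g = 0) : ∃ g', g = (p : R') * g' := by
  have : (algebraMap W R').Flat := RingHom.flat_algebraMap_iff.mpr inferInstance
  exact (flat_iff_ringHom p k (algebraMap W R')).mp this g hg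

theorem rho_p : rho p k n (p : R') = 0 := by rw [map_natCast, hp0R]

/-- lifting along rho of membership -/
theorem exists_lift_mem (I : Ideal R') (x : R') (hx : rho p k n x ∈ I.map (rho p k n)) :
    ∃ z ∈ I, ∃ d, x = z + (p : R') * d := by
  rw [Ideal.mem_map_iff_of_surjective _ rho_surjective] at hx
  obtain ⟨z, hz, hzz⟩ := hx
  have h2 : x - z ∈ RingHom.ker (rho p k n) := by
    rw [RingHom.mem_ker, map_sub, hzz, sub_self]
  rw [ker_rho, Ideal.mem_span_singleton'] at h2
  obtain ⟨d, hd⟩ := h2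
  exact ⟨z, hz, d, by rw [mul_comm, hd]; ring⟩

theorem flat_of_regular {m : ℕ} (f : Fin m → R₀) (f' : Fin m → R')
    (hf : ∀ i, rho p k n (f' i) = f i)
    (hreg : RingTheory.Sequence.IsWeaklyRegular R₀ (List.ofFn f)) :
    ∀ i, i ≤ m → ∀ g : R', (p : R') * g ∈ Ideal.ofList ((List.ofFn f').take i) →
      ∃ g', g - (p : R') * g' ∈ Ideal.ofList ((List.ofFn f').take i) := by
  have hmap : ∀ i, (Ideal.ofList ((List.ofFn f').take i)).map (rho p k n) =
      Ideal.ofList ((List.ofFn f).take i) := by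
    intro i
    rw [Ideal.map_ofList, List.map_take, List.map_ofFn]
    have : (⇑(rho p k n) ∘ f') = f := by funext j; exact hf j
    rw [this]
  intro i
  induction i with
  | zero =>
    intro _ g hg
    rw [List.take_zero, Ideal.ofList_nil, Ideal.mem_bot] at hg
    obtain ⟨g', hg'⟩ := base_flat g hg
    exact ⟨g', by rw [hg', sub_self]; exact zero_mem _⟩
  | succ i ih =>
    intro hi g hg
    have hi' : i < (List.ofFn f').length := by rw [List.length_ofFn]; omega
    have hi0 : i < (List.ofFn f).length := by rw [List.length_ofFn]; omega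
    have hJ : Ideal.ofList ((List.ofFn f').take (i+1)) =
        Ideal.ofList ((List.ofFn f').take i) ⊔ Ideal.span {f' ⟨i, hi⟩} := by
      rw [List.take_succ_eq_append_getElem hi', Ideal.ofList_append, Ideal.ofList_singleton,
        List.getElem_ofFn]
    rw [hJ] at hg ⊢
    obtain ⟨a, ha, b, hb, hab⟩ := Submodule.mem_sup.mp hg
    obtain ⟨c, rfl⟩ := Ideal.mem_span_singleton'.mp hb
    have h1 : f ⟨i, hi⟩ * rho p k n c ∈ Ideal.ofList ((List.ofFn f).take i) := by
      have := congrArg (rho p k n) hab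
      rw [map_add, map_mul, map_mul, rho_p, zero_mul, hf] at this
      have h2 : f ⟨i, hi⟩ * rho p k n c = - rho p k n a := by linear_combination this
      rw [h2, ← hmap]
      exact neg_mem (Ideal.mem_map_of_mem _ ha)
    have h3 := mem_of_mul_mem_of_isWeaklyRegular hreg i hi0 (rho p k n c)
      (by rw [List.getElem_ofFn]; exact h1)
    rw [← hmap] at h3
    obtain ⟨c₀, hc₀, d, hd⟩ := exists_lift_mem _ c h3
    have h4 : (p : R') * (g - d * f' ⟨i, hi⟩) ∈ Ideal.ofList ((List.ofFn f').take i) := by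
      have : (p : R') * (g - d * f' ⟨i, hi⟩) = a + c₀ * f' ⟨i, hi⟩ := by
        rw [mul_sub, ← hab, hd]; ring
      rw [this]
      exact add_mem ha (Ideal.mul_mem_right _ _ hc₀)
    obtain ⟨g'', hg''⟩ := ih (by omega) _ h4
    refine ⟨g'', ?_⟩
    have : g - (p : R') * g'' = (g - d * f' ⟨i, hi⟩ - (p : R') * g'') + d * f' ⟨i, hi⟩ := by ring
    rw [this]
    exact Submodule.add_mem_sup hg'' (Ideal.mul_mem_left _ _ (Ideal.mem_span_singleton_self _))

theorem flat_quot {m : ℕ} (f : Fin m → R₀) (f' : Fin m → R')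
    (hf : ∀ i, rho p k n (f' i) = f i)
    (hreg : RingTheory.Sequence.IsWeaklyRegular R₀ (List.ofFn f)) :
    ((Ideal.Quotient.mk (Ideal.span (Set.range f'))).comp (C : W →+* R')).Flat := by
  rw [flat_iff_ringHom]
  intro x hx
  obtain ⟨g, rfl⟩ := Ideal.Quotient.mk_surjective x
  rw [← map_natCast (Ideal.Quotient.mk _), ← map_mul, Ideal.Quotient.eq_zero_iff_mem] at hx
  have htake : (List.ofFn f').take m = List.ofFn f' := List.take_of_length_le (by simp)
  obtain ⟨g', hg'⟩ := flat_of_regular f f' hf hreg m le_rfl g (by rwa [htake, ofList_ofFn])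
  rw [htake, ofList_ofFn] at hg'
  refine ⟨Ideal.Quotient.mk _ g', ?_⟩
  rw [← map_natCast (Ideal.Quotient.mk _), ← map_mul, Ideal.Quotient.eq]
  exact hg'

theorem isFLiftable_of_residues {m : ℕ} (f : Fin m → R₀)
    (hreg : RingTheory.Sequence.IsWeaklyRegular R₀ (List.ofFn f))
    (f' : Fin m → R') (h : Fin n → R') (hf : ∀ i, rho p k n (f' i) = f i)
    (hh : ∀ i, polyFrob p k (Fin n) (f' i) - f' i ^ p
        - (p : R') * ∑ j, pderiv j (f' i) ^ p * h j
        ∈ Ideal.span {(p : R')} * Ideal.span (Set.range f')) :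
    IsFLiftable p k (R₀ ⧸ Ideal.span (Set.range f)) := by
  have hp : p ≠ 0 := (Fact.out : p.Prime).ne_zero
  have hfJ : ∀ i, f' i ∈ (Ideal.span (Set.range f')) := fun i => Ideal.subset_span ⟨i, rfl⟩
  have hmapJ : (Ideal.span (Set.range f')).map (rho p k n) = Ideal.span (Set.range f) := by
    rw [Ideal.map_span, ← Set.range_comp]
    have : (⇑(rho p k n) ∘ f') = f := by funext j; exact hf j
    rw [this]
  have hle : Ideal.span (Set.range f') ≤ Ideal.comap (rho p k n) (Ideal.span (Set.range f)) := by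
    rw [← hmapJ]; exact Ideal.le_comap_map
  let u : Fin n → R' := fun j => -h j
  have hΦJ : (Ideal.span (Set.range f')) ≤ Ideal.comap (PhiU u) (Ideal.span (Set.range f')) := by
    rw [Ideal.span_le]
    rintro _ ⟨i, rfl⟩
    show PhiU u (f' i) ∈ (Ideal.span (Set.range f'))
    have e : PhiU u (f' i) = f' i ^ p + (polyFrob p k (Fin n) (f' i) - f' i ^ p
        - (p : R') * ∑ j, pderiv j (f' i) ^ p * h j) := by
      rw [PhiU_eq]
      simp only [u, mul_neg, Finset.sum_neg_distrib]
      ring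
    rw [e]
    exact add_mem (Ideal.pow_mem_of_mem _ (hfJ i) p (Nat.pos_of_ne_zero hp))
      (Ideal.mul_le_right (hh i))
  have hpA : ((p : ℕ) : R₀ ⧸ Ideal.span (Set.range f)) = 0 := by
    rw [← map_natCast (Ideal.Quotient.mk (Ideal.span (Set.range f))), hp0R, map_zero]
  refine ⟨R' ⧸ Ideal.span (Set.range f'), inferInstance,
    (Ideal.Quotient.mk (Ideal.span (Set.range f'))).comp C,
    Ideal.quotientMap (Ideal.span (Set.range f)) (rho p k n) hle,
    Ideal.quotientMap (Ideal.span (Set.range f')) (PhiU u) hΦJ, ⟨⟨?_, ?_, ?_, ?_⟩, ?_, ?_⟩⟩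
  · exact flat_quot f f' hf hreg
  · exact Ideal.quotientMap_surjective rho_surjective
  · rw [ker_res, Ideal.map_span, Set.image_singleton, map_natCast]
    ext x
    obtain ⟨g, rfl⟩ := Ideal.Quotient.mk_surjective x
    rw [RingHom.mem_ker, Ideal.quotientMap_mk, Ideal.Quotient.eq_zero_iff_mem]
    constructor
    · intro hx
      rw [← hmapJ] at hx
      obtain ⟨z, hz, d, rfl⟩ := exists_lift_mem _ g hx
      rw [map_add, Ideal.Quotient.eq_zero_iff_mem.mpr hz, zero_add, map_mul, map_natCast]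
      exact Ideal.mul_mem_right _ _ (Ideal.mem_span_singleton_self _)
    · intro hx
      obtain ⟨y, hy⟩ := Ideal.mem_span_singleton'.mp hx
      obtain ⟨y', rfl⟩ := Ideal.Quotient.mk_surjective y
      rw [← map_natCast (Ideal.Quotient.mk (Ideal.span (Set.range f'))), ← map_mul,
        Ideal.Quotient.eq] at hy
      have h1 := Ideal.mem_map_of_mem (rho p k n) hy
      rw [hmapJ, map_sub, map_mul, rho_p, mul_zero, zero_sub] at h1
      simpa using neg_mem h1
  · apply RingHom.ext
    intro w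
    show Ideal.quotientMap (Ideal.span (Set.range f)) (rho p k n) hle
      (Ideal.Quotient.mk _ (C w)) = algebraMap k _ (res p k w)
    rw [Ideal.quotientMap_mk, map_C]
    rfl
  · apply RingHom.ext
    intro w
    show Ideal.quotientMap (Ideal.span (Set.range f')) (PhiU u) hΦJ
      (Ideal.Quotient.mk (Ideal.span (Set.range f')) (C w)) = _
    rw [Ideal.quotientMap_mk, PhiU_C]
    rfl
  · intro b
    obtain ⟨x, rfl⟩ := Ideal.Quotient.mk_surjective b
    rw [Ideal.quotientMap_mk, Ideal.quotientMap_mk, Ideal.quotientMap_mk, rho_PhiU, map_pow]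

theorem residues_of_isFrobLift {m : ℕ} (f : Fin m → R₀)
    {B : Type u} [CommRing B] {ι : W →+* B} {π : B →+* R₀ ⧸ Ideal.span (Set.range f)}
    {Φ : B →+* B}
    (hB : IsFrobLift p k (R₀ ⧸ Ideal.span (Set.range f)) B ι π Φ) :
    ∃ (f' : Fin m → R') (h : Fin n → R'), (∀ i, rho p k n (f' i) = f i) ∧
      ∀ i, polyFrob p k (Fin n) (f' i) - f' i ^ p
        - (p : R') * ∑ j, pderiv j (f' i) ^ p * h j
        ∈ Ideal.span {(p : R')} * Ideal.span (Set.range f') := by
  have hp : p ≠ 0 := (Fact.out : p.Prime).ne_zero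
  have hL : IsLift p k (R₀ ⧸ Ideal.span (Set.range f)) B ι π := hB.toIsLift
  have hb : ∀ j : Fin n, ∃ b : B, π b = Ideal.Quotient.mk (Ideal.span (Set.range f)) (X j) :=
    fun j => hL.surj _
  choose b hb using hb
  let ψ : R' →+* B := eval₂Hom ι b
  have hψC : ∀ w, ψ (C w) = ι w := fun w => eval₂Hom_C _ _ _
  have hψX : ∀ j, ψ (X j) = b j := fun j => eval₂Hom_X' _ _ _
  have hπψ : π.comp ψ = (Ideal.Quotient.mk (Ideal.span (Set.range f))).comp (rho p k n) := by
    apply MvPolynomial.ringHom_ext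
    · intro w
      show π (ψ (C w)) = Ideal.Quotient.mk (Ideal.span (Set.range f)) (rho p k n (C w))
      rw [hψC, map_C]
      have := congrArg (fun g => g w) hL.comm
      simp only [RingHom.comp_apply] at this
      rw [this]; rfl
    · intro j
      show π (ψ (X j)) = Ideal.Quotient.mk (Ideal.span (Set.range f)) (rho p k n (X j))
      rw [hψX, hb, map_X]
  have hπψ' : ∀ x, π (ψ x) = Ideal.Quotient.mk (Ideal.span (Set.range f)) (rho p k n x) :=
    fun x => congrArg (fun g => g x) hπψ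
  have hpB : ψ (p : R') = (p : B) := map_natCast ψ p
  have happ : ∀ y : B, ∃ g : R', ∃ y' : B, y = ψ g + (p : B) * y' := by
    intro y
    obtain ⟨g₀, hg₀⟩ := Ideal.Quotient.mk_surjective (π y)
    obtain ⟨g, rfl⟩ := rho_surjective (p := p) (k := k) g₀
    have : π (y - ψ g) = 0 := by rw [map_sub, hπψ', hg₀, sub_self]
    obtain ⟨y', hy'⟩ := (mem_ker_iff hL _).mp this
    exact ⟨g, y', by rw [← hy']; ring⟩
  have hsurj : Function.Surjective ψ := by
    intro y
    obtain ⟨g, y', rfl⟩ := happ y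
    obtain ⟨g', y'', rfl⟩ := happ y'
    refine ⟨g + (p : R') * g', ?_⟩
    rw [map_add, map_mul, hpB, mul_add, ← mul_assoc, p_mul_p hL, zero_mul, add_zero]
  have hlift : ∀ i : Fin m, ∃ f'i : R', rho p k n f'i = f i ∧ ψ f'i = 0 := by
    intro i
    obtain ⟨g, hg⟩ := rho_surjective (p := p) (k := k) (f i)
    have : π (ψ g) = 0 := by
      rw [hπψ', hg, Ideal.Quotient.eq_zero_iff_mem]; exact Ideal.subset_span ⟨i, rfl⟩
    obtain ⟨y, hy⟩ := (mem_ker_iff hL _).mp this
    obtain ⟨e, rfl⟩ := hsurj y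
    refine ⟨g - (p : R') * e, ?_, ?_⟩
    · rw [map_sub, map_mul, rho_p, zero_mul, sub_zero, hg]
    · rw [map_sub, map_mul, hpB, hy, sub_self]
  choose f' hf' hψf' using hlift
  have hmapJ : (Ideal.span (Set.range f')).map (rho p k n) = Ideal.span (Set.range f) := by
    rw [Ideal.map_span, ← Set.range_comp]
    have : (⇑(rho p k n) ∘ f') = f := by funext j; exact hf' j
    rw [this]
  have hJ'ker : ∀ x ∈ Ideal.span (Set.range f'), ψ x = 0 := by
    intro x hx
    have : Ideal.span (Set.range f') ≤ RingHom.ker ψ := by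
      rw [Ideal.span_le]; rintro _ ⟨i, rfl⟩; exact hψf' i
    exact this hx
  have hstep : ∀ x, π (ψ x) = 0 → ∃ z ∈ Ideal.span (Set.range f'), ∃ d, x = z + (p : R') * d := by
    intro x hx
    rw [hπψ', Ideal.Quotient.eq_zero_iff_mem, ← hmapJ] at hx
    exact exists_lift_mem _ x hx
  have hker : ∀ x, ψ x = 0 → x ∈ Ideal.span (Set.range f') := by
    intro x hx
    obtain ⟨z, hz, d, rfl⟩ := hstep x (by rw [hx, map_zero])
    have h1 : (p : B) * ψ d = 0 := by
      rw [map_add, hJ'ker z hz, zero_add, map_mul, hpB] at hx; exact hx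
    obtain ⟨z', hz', d', rfl⟩ := hstep d (pi_eq_zero_of_p_mul hL _ h1)
    have : z + (p : R') * (z' + (p : R') * d') = z + (p : R') * z' := by
      rw [mul_add, ← mul_assoc, pp_zero, zero_mul, add_zero]
    rw [this]
    exact add_mem hz (Ideal.mul_mem_left _ _ hz')
  have hfl : ∀ g : R', (p : R') * g ∈ Ideal.span (Set.range f') →
      (p : R') * g ∈ Ideal.span {(p : R')} * Ideal.span (Set.range f') := by
    intro g hg
    have h1 : (p : B) * ψ g = 0 := by rw [← hpB, ← map_mul]; exact hJ'ker _ hg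
    obtain ⟨y, hy⟩ := (flat_iff_ringHom p k ι).mp hL.flat _ h1
    obtain ⟨g', rfl⟩ := hsurj y
    have h2 : g - (p : R') * g' ∈ Ideal.span (Set.range f') :=
      hker _ (by rw [map_sub, map_mul, hpB, hy, sub_self])
    have : (p : R') * g = (p : R') * (g - (p : R') * g') := by
      rw [mul_sub, ← mul_assoc, pp_zero, zero_mul, sub_zero]
    rw [this]
    exact Ideal.mul_mem_mul (Ideal.mem_span_singleton_self _) h2
  have key : ∀ j : Fin n, ∃ u : R', ψ (X j ^ p + (p : R') * u) = Φ (ψ (X j)) := by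
    intro j
    have h1 : π (Φ (ψ (X j)) - ψ (X j) ^ p) = 0 := by rw [map_sub, hB.red, map_pow, sub_self]
    obtain ⟨y, hy⟩ := (mem_ker_iff hL _).mp h1
    obtain ⟨u, rfl⟩ := hsurj y
    refine ⟨u, ?_⟩
    rw [map_add, map_pow, map_mul, hpB, ← hy]; ring
  choose u hu using key
  have hcomm : ψ.comp (PhiU u) = Φ.comp ψ := by
    apply MvPolynomial.ringHom_ext
    · intro w
      show ψ (PhiU u (C w)) = Φ (ψ (C w))
      rw [PhiU_C, hψC, hψC]
      have := congrArg (fun g => g w) hB.semi
      simp only [RingHom.comp_apply] at this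
      exact this.symm
    · intro j
      show ψ (PhiU u (X j)) = Φ (ψ (X j))
      rw [PhiU_X, hu]
  refine ⟨f', fun j => -u j, hf', fun i => ?_⟩
  have hfJ : f' i ∈ Ideal.span (Set.range f') := Ideal.subset_span ⟨i, rfl⟩
  have h1 : PhiU u (f' i) ∈ Ideal.span (Set.range f') := by
    apply hker
    have := congrArg (fun g => g (f' i)) hcomm
    simp only [RingHom.comp_apply] at this
    rw [this, hψf', map_zero]
  have h2 : PhiU u (f' i) - f' i ^ p ∈ Ideal.span (Set.range f') :=
    sub_mem h1 (Ideal.pow_mem_of_mem _ hfJ p (Nat.pos_of_ne_zero hp))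
  have h3 : polyFrob p k (Fin n) (f' i) - f' i ^ p ∈ RingHom.ker (rho p k n) := by
    rw [RingHom.mem_ker, map_sub, rho_polyFrob, map_pow, sub_self]
  rw [ker_rho, Ideal.mem_span_singleton'] at h3
  obtain ⟨g0, hg0⟩ := h3
  have e : polyFrob p k (Fin n) (f' i) - f' i ^ p - (p : R') * ∑ j, pderiv j (f' i) ^ p * (-u j) =
      (p : R') * (g0 + ∑ j, pderiv j (f' i) ^ p * u j) := by
    rw [mul_add, mul_comm (p : R') g0, hg0]
    simp only [mul_neg, Finset.sum_neg_distrib]
    ring
  rw [e]
  apply hfl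
  rw [← e]
  have : polyFrob p k (Fin n) (f' i) - f' i ^ p - (p : R') * ∑ j, pderiv j (f' i) ^ p * (-u j) =
      PhiU u (f' i) - f' i ^ p := by
    rw [PhiU_eq]
    simp only [mul_neg, Finset.sum_neg_distrib]
    ring
  rw [this]
  exact h2

end ci

end Groth.Agent.H7.W2D
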