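import Mathlib
import Groth.Prelude.Def_W4c1liftfrobW2
import Groth.Agent.Lib.Helper6.W2Coeff
import Groth.Agent.Lib.Helper7.W2Arith

/-! Frobenius liftings of a flat `W₂`-lifting `B` of `A` correspond to ring maps `B → W₂(A)`. -/

set_option autoImplicit false
universe u v

namespace Groth.Agent.H7.W2D

open FrobAlg Groth.Agent.H6

section Qlem
variable (p : ℕ) {R : Type*} [CommRing R]
theorem Q_zero_right (x : R) : Q p x 0 = 0 := by unfold Q; rw [mul_zero, zero_mul]
theorem Q_zero_left (x : R) : Q p 0 x = 0 := by unfold Q; rw [zero_mul, zero_mul]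
end Qlem

section pow
variable {p : ℕ} [hp : Fact p.Prime] {R : Type*} [CommRing R]

theorem t_pow_coeff0 (w : TruncatedWittVector p 2 R) (n : ℕ) : (w ^ n).coeff 0 = w.coeff 0 ^ n := by
  induction n with
  | zero => rw [pow_zero, pow_zero, t_one_coeff0]
  | succ n ih => rw [pow_succ, t_mul_coeff0, ih, pow_succ]

theorem t_pow_coeff1 (hpR : (p : R) = 0) (w : TruncatedWittVector p 2 R) (n : ℕ) :
    (w ^ (n + 1)).coeff 1 = ((n + 1 : ℕ) : R) * (w.coeff 1 * w.coeff 0 ^ (p * n)) := by
  induction n with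
  | zero => simp
  | succ n ih =>
    rw [pow_succ, t_mul_coeff1 hpR, ih, t_pow_coeff0]
    push_cast
    ring

theorem t_pow_p_coeff1 (hpR : (p : R) = 0) (w : TruncatedWittVector p 2 R) : (w ^ p).coeff 1 = 0 := by
  obtain ⟨n, hn⟩ : ∃ n, p = n + 1 := ⟨p - 1, (Nat.succ_pred_eq_of_pos hp.out.pos).symm⟩
  rw [show w ^ p = w ^ (n + 1) from congrArg (fun m => w ^ m) hn, t_pow_coeff1 hpR, ← hn, hpR,
    zero_mul]

end pow

section sigma
variable {p : ℕ} [Fact p.Prime] {k : Type u} [Field k] [CharP k p] [PerfectRing k p]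

theorem res_of_sigma_sub (w v : W2 p k) (hv : FrobAlg.sigma p k w - w ^ p = (p : W2 p k) * v) :
    FrobAlg.res p k v = w.coeff 1 := by
  have e : FrobAlg.sigma p k w = w ^ p + (p : W2 p k) * v := by rw [← hv]; ring
  have h1 : (FrobAlg.sigma p k w).coeff 1 = (w ^ p + (p : W2 p k) * v).coeff 1 := by rw [e]
  rw [WittGrp.coeff_frob, t_add_coeff1, t_pow_p_coeff1 (CharP.cast_eq_zero k p), W2C.p_mul_coeff0, Q_zero_right,
    W2C.p_mul_coeff1, zero_add, sub_zero] at h1
  rw [FrobAlg.res_apply]
  exact (frobenius_inj k p h1).symm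

end sigma

section deltaStructure
variable {p : ℕ} [Fact p.Prime] {k : Type u} [Field k] [CharP k p] [PerfectRing k p]
variable {A : Type v} [CommRing A] [Algebra k A] {B : Type v} [CommRing B]
  {ι : W2 p k →+* B} {π : B →+* A} (h : IsLift p k A B ι π)
  (d : B → A) (d1 : d 1 = 0)
  (dadd : ∀ b b', d (b + b') = d b + d b' - π (Q p b b'))
  (dmul : ∀ b b', d (b * b') = d b * π b' ^ p + π b ^ p * d b')

include dadd in
theorem d_zero : d 0 = 0 := by
  have := dadd 0 0
  rw [add_zero, Q_zero_left, map_zero, sub_zero] at this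
  exact left_eq_add.mp this

/-- the Frobenius lift attached to a `δ`-structure -/
noncomputable def PhiOfDelta : B →+* B where
  toFun b := b ^ p + mulP h (d b)
  map_one' := by rw [d1, mulP_zero, one_pow, add_zero]
  map_mul' x y := by
    rw [dmul, mulP_add, ← map_pow, ← map_pow, mulP_mul, mul_comm (d x), mulP_mul]
    have := mulP_mul_mulP h (d x) (d y)
    linear_combination -this
  map_zero' := by
    rw [d_zero d dadd, mulP_zero, zero_pow (Fact.out : p.Prime).ne_zero, add_zero]
  map_add' x y := by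
    rw [dadd, mulP_sub, mulP_add, mulP_pi, add_pow_eq]
    ring

theorem PhiOfDelta_apply (b : B) : PhiOfDelta h d d1 dadd dmul b = b ^ p + mulP h (d b) := rfl

theorem pi_PhiOfDelta (b : B) : π (PhiOfDelta h d d1 dadd dmul b) = π b ^ p := by
  rw [PhiOfDelta_apply, map_add, pi_mulP, add_zero, map_pow]

end deltaStructure

section main
variable {p : ℕ} [Fact p.Prime] {k : Type u} [Field k] [CharP k p] [PerfectRing k p]
variable {A : Type u} [CommRing A] [Algebra k A] {B : Type u} [CommRing B]
  {ι : W2 p k →+* B} {π : B →+* A}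

theorem p_eq_zero_of_algebra (p : ℕ) (k : Type u) [Field k] [CharP k p] (A : Type*) [CommRing A]
    [Algebra k A] : (p : A) = 0 := by
  rw [← map_natCast (algebraMap k A), CharP.cast_eq_zero, map_zero]

/-- From a Frobenius lift to a map into `W₂(A)`. -/
theorem exists_theta_of_frobLift {Φ : B →+* B} (hΦ : IsFrobLift p k A B ι π Φ) :
    ∃ θ : B →+* W2 p A,
      (FrobAlg.res p A).comp θ = π ∧ θ.comp ι = WittGrp.truncMap p 2 (algebraMap k A) := by
  have hpA : (p : A) = 0 := p_eq_zero_of_algebra p k A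
  let θf : B → W2 p A := fun b => TruncatedWittVector.mk p ![π b, delta hΦ b]
  have c0 : ∀ b, (θf b).coeff 0 = π b := fun b => by
    show (TruncatedWittVector.mk p ![π b, delta hΦ b]).coeff 0 = _
    rw [TruncatedWittVector.coeff_mk]; rfl
  have c1 : ∀ b, (θf b).coeff 1 = delta hΦ b := fun b => by
    show (TruncatedWittVector.mk p ![π b, delta hΦ b]).coeff 1 = _
    rw [TruncatedWittVector.coeff_mk]; rfl
  let θ : B →+* W2 p A :=
    { toFun := θf
      map_one' := by
        apply t_ext
        · rw [c0, map_one, t_one_coeff0]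
        · rw [c1, delta_one, t_one_coeff1]
      map_mul' := fun x y => by
        apply t_ext
        · rw [c0, t_mul_coeff0, c0, c0, map_mul]
        · rw [c1, t_mul_coeff1 hpA, c0, c0, c1, c1, delta_mul]
      map_zero' := by
        apply t_ext
        · rw [c0, map_zero, t_zero_coeff]
        · rw [c1, t_zero_coeff, delta_eq hΦ 0 0 (by simp [(Fact.out : p.Prime).ne_zero]), map_zero]
      map_add' := fun x y => by
        apply t_ext
        · rw [c0, t_add_coeff0, c0, c0, map_add]
        · rw [c1, t_add_coeff1, c0, c0, c1, c1, delta_add, map_Q] }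
  refine ⟨θ, ?_, ?_⟩
  · ext b
    show FrobAlg.res p A (θf b) = π b
    rw [FrobAlg.res_apply, c0]
  · apply RingHom.ext
    intro w
    show θf (ι w) = _
    apply t_ext
    · rw [c0, WittGrp.coeff_truncMap]
      have := congrArg (fun f => f w) hΦ.comm
      simp only [RingHom.comp_apply] at this
      rw [this, FrobAlg.res_apply]
    · rw [c1, WittGrp.coeff_truncMap]
      obtain ⟨v, hv⟩ := exists_sigma_sub (p := p) (k := k) w
      rw [delta_iota hΦ w v hv, res_of_sigma_sub w v hv]

/-- From a map into `W₂(A)` to a Frobenius lift. -/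
theorem exists_frobLift_of_theta (h : IsLift p k A B ι π) (θ : B →+* W2 p A)
    (hθ0 : (FrobAlg.res p A).comp θ = π)
    (hθι : θ.comp ι = WittGrp.truncMap p 2 (algebraMap k A)) :
    ∃ Φ : B →+* B, IsFrobLift p k A B ι π Φ := by
  have hpA : (p : A) = 0 := p_eq_zero_of_algebra p k A
  have c0 : ∀ b, (θ b).coeff 0 = π b := fun b => by
    have := congrArg (fun f => f b) hθ0
    simp only [RingHom.comp_apply, FrobAlg.res_apply] at this
    exact this
  let d : B → A := fun b => (θ b).coeff 1
  have d1 : d 1 = 0 := by show (θ 1).coeff 1 = 0; rw [map_one, t_one_coeff1]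
  have dadd : ∀ b b', d (b + b') = d b + d b' - π (Q p b b') := fun b b' => by
    show (θ (b + b')).coeff 1 = (θ b).coeff 1 + (θ b').coeff 1 - _
    rw [map_add, t_add_coeff1, c0, c0, map_Q]
  have dmul : ∀ b b', d (b * b') = d b * π b' ^ p + π b ^ p * d b' := fun b b' => by
    show (θ (b * b')).coeff 1 = (θ b).coeff 1 * _ + _ * (θ b').coeff 1
    rw [map_mul, t_mul_coeff1 hpA, c0, c0]
  refine ⟨PhiOfDelta h d d1 dadd dmul, { toIsLift := h, semi := ?_, red := pi_PhiOfDelta h d d1 dadd dmul }⟩
  ext w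
  show PhiOfDelta h d d1 dadd dmul (ι w) = ι (FrobAlg.sigma p k w)
  rw [PhiOfDelta_apply]
  obtain ⟨v, hv⟩ := exists_sigma_sub (p := p) (k := k) w
  have e : FrobAlg.sigma p k w = w ^ p + (p : W2 p k) * v := by rw [← hv]; ring
  have hd : d (ι w) = π (ι v) := by
    show (θ (ι w)).coeff 1 = _
    have h1 := congrArg (fun f => f w) hθι
    simp only [RingHom.comp_apply] at h1
    rw [h1, WittGrp.coeff_truncMap, ← res_of_sigma_sub w v hv]
    have h2 := congrArg (fun f => f v) h.comm
    simp only [RingHom.comp_apply] at h2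
    exact h2.symm
  rw [hd, mulP_pi, e, map_add, map_pow, map_mul, map_natCast]

end main

end Groth.Agent.H7.W2D
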