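import Mathlib
import Groth.Agent.Lib.Helper7.DetectFam

open CategoryTheory CategoryTheory.Limits Opposite

universe u

namespace Groth.Agent.H7.WContr

open Groth.Agent.H7.ShCoprod Groth.Agent.H7.DetectFam

variable {C : Type u} [SmallCategory C] (J : GrothendieckTopology C) (U : C)

/-- index type of a sieve -/
abbrev Idx (S : Sieve U) := Σ V : C, {f : V ⟶ U // S f}

/-- the canonical map from the coproduct of representables over the sieve -/
noncomputable abbrev δ (S : Sieve U) :
    (∐ fun i : Idx U S => yoneda.obj i.1) ⟶ yoneda.obj U :=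
  Sigma.desc (fun i : Idx U S => yoneda.map i.2.1)

theorem δ_locSurj (S : Sieve U) (hS : S ∈ J U) : Presheaf.IsLocallySurjective J (δ U S) := by
  constructor
  intro W x
  refine J.superset_covering ?_ (J.pullback_stable x hS)
  intro W' h hh
  let i : Idx U S := ⟨W', ⟨h ≫ x, hh⟩⟩
  refine ⟨(Sigma.ι (fun i : Idx U S => yoneda.obj i.1) i).app (op W') (𝟙 W'), ?_⟩
  have h1 : Sigma.ι (fun i : Idx U S => yoneda.obj i.1) i ≫ δ U S = yoneda.map (h ≫ x) :=
    Sigma.ι_desc _ _
  have h2 := congrArg (fun t => t.app (op W') (𝟙 W')) h1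
  refine h2.trans ?_
  show 𝟙 W' ≫ h ≫ x = h ≫ x
  rw [Category.id_comp]

theorem main :
    (∀ S : Sieve U, S ∈ J U →
      IsSplitEpi ((presheafToSheaf J (Type u)).map
        (Sigma.desc (fun i : (Σ V : C, {f : V ⟶ U // S f}) => yoneda.map i.2.1) :
          (∐ fun i : (Σ V : C, {f : V ⟶ U // S f}) => yoneda.obj i.1) ⟶ yoneda.obj U))) ↔
    ∀ (F G : Sheaf J (Type u)) (φ : F ⟶ G), Epi φ → Function.Surjective (φ.hom.app (op U)) := by
  constructor
  · intro h F G φ hφ g
    haveI : Sheaf.IsLocallySurjective φ := (Sheaf.isLocallySurjective_iff_epi φ).mpr hφ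
    have hS := Presheaf.imageSieve_mem J φ.hom (U := op U) g
    set S := Presheaf.imageSieve φ.hom g with hSdef
    haveI := h S hS
    -- choose lifts
    have hch : ∀ i : Idx U S, ∃ t : F.obj.obj (op i.1), φ.hom.app (op i.1) t = G.obj.map i.2.1.op g :=
      fun i => i.2.2
    choose t ht using hch
    let τ₀ : (∐ fun i : Idx U S => yoneda.obj i.1) ⟶ F.obj :=
      Sigma.desc (fun i => yonedaEquiv.symm (t i))
    let τ := ((sheafificationAdjunction J (Type u)).homEquiv _ F).symm τ₀
    let σ := section_ ((presheafToSheaf J (Type u)).map (δ U S))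
    refine ⟨elEquiv J U F (σ ≫ τ), ?_⟩
    rw [← elEquiv_naturality_right, Category.assoc]
    have claim : τ ≫ φ = (presheafToSheaf J (Type u)).map (δ U S) ≫ (elEquiv J U G).symm g := by
      apply ((sheafificationAdjunction J (Type u)).homEquiv _ G).injective
      rw [Adjunction.homEquiv_naturality_right, Adjunction.homEquiv_naturality_left,
        Equiv.apply_symm_apply]
      have e1 : ((sheafificationAdjunction J (Type u)).homEquiv _ G) ((elEquiv J U G).symm g) =
          yonedaEquiv.symm g := by
        apply yonedaEquiv.injective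
        rw [Equiv.apply_symm_apply]
        exact (elEquiv J U G).apply_symm_apply g
      rw [e1]
      apply Sigma.hom_ext
      intro i
      rw [Sigma.ι_desc_assoc, Sigma.ι_desc_assoc]
      apply yonedaEquiv.injective
      rw [yonedaEquiv_comp, Equiv.apply_symm_apply]
      refine (ht i).trans ?_
      rw [← yonedaEquiv_naturality, Equiv.apply_symm_apply]
      rfl
    rw [claim, ← Category.assoc, IsSplitEpi.id, Category.id_comp, Equiv.apply_symm_apply]
  · intro h S hS
    haveI := δ_locSurj J U S hS
    haveI : Sheaf.IsLocallySurjective ((presheafToSheaf J (Type u)).map (δ U S)) :=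
      (Presheaf.isLocallySurjective_presheafToSheaf_map_iff J (δ U S)).mpr inferInstance
    have hepi : Epi ((presheafToSheaf J (Type u)).map (δ U S)) := inferInstance
    obtain ⟨s, hs⟩ := h _ _ _ hepi (elEquiv J U _ (𝟙 _))
    refine ⟨⟨(elEquiv J U _).symm s, ?_⟩⟩
    apply (elEquiv J U _).injective
    rw [elEquiv_naturality_right, Equiv.apply_symm_apply]
    exact hs

end Groth.Agent.H7.WContr
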