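import Mathlib

/-!
# Kernel of the "minor elements" map (wild quotient singularities)

Generic commutative algebra for S15807.  `R` a domain of characteristic `p`,
`A = R[u_i] / (u_i ^ p - (μ a_i)^(p-1) u_i - x_i)`, `z_j = a_{i₀} u_j - a_j u_{i₀}`.
The kernel of `R[Z_j : j ≠ i₀] → A`, `Z_j ↦ z_j` is generated by
`Z_j ^ p - (μ a_{i₀} a_j)^(p-1) Z_j - (a_{i₀}^p x_j - a_j^p x_{i₀})`.
-/

set_option autoImplicit false

namespace Groth.Agent.H7.WQKer

open MvPolynomial MonomialOrder

section Identity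

variable {R : Type*} [CommRing R] {n : ℕ} (p : ℕ) [hp : Fact p.Prime] [CharP R p]
  (μ : R) (a x : Fin n → R) (i₀ : Fin n)

/-- the defining relations of `A`. -/
noncomputable def f (i : Fin n) : MvPolynomial (Fin n) R :=
  X i ^ p - C ((μ * a i) ^ (p - 1)) * X i - C (x i)

lemma key_identity (j : Fin n) :
    (C (a i₀) * X j - C (a j) * X i₀) ^ p
        - C ((μ * a i₀ * a j) ^ (p - 1)) * (C (a i₀) * X j - C (a j) * X i₀)
        - C (a i₀ ^ p * x j - a j ^ p * x i₀)
      = C (a i₀ ^ p) * f p μ a x j - C (a j ^ p) * f p μ a x i₀ := by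
  obtain ⟨q, rfl⟩ : ∃ q, p = q + 1 := ⟨p - 1, (Nat.succ_pred_eq_of_pos hp.out.pos).symm⟩
  rw [sub_pow_char]
  simp only [f, Nat.add_sub_cancel, map_pow, map_mul, map_sub]
  ring

end Identity

section Field

variable {Ω : Type*} [Field Ω]

lemma exists_root [IsAlgClosed Ω] {p : ℕ} (hp2 : 2 ≤ p) (c e : Ω) :
    ∃ θ : Ω, θ ^ p - c * θ - e = 0 := by
  classical
  let g : Polynomial Ω := Polynomial.X ^ p - (Polynomial.C c * Polynomial.X + Polynomial.C e)
  have hlt : (Polynomial.C c * Polynomial.X + Polynomial.C e).degree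
      < (Polynomial.X ^ p : Polynomial Ω).degree := by
    rw [Polynomial.degree_X_pow]
    refine lt_of_le_of_lt (Polynomial.degree_linear_le) ?_
    exact_mod_cast hp2
  have hdeg : g.degree = p := by
    rw [Polynomial.degree_sub_eq_left_of_degree_lt hlt, Polynomial.degree_X_pow]
  have hne : g.degree ≠ 0 := by
    rw [hdeg]
    have : (p : WithBot ℕ) ≠ 0 := by
      exact_mod_cast (by omega : p ≠ 0)
    exact this
  obtain ⟨θ, hθ⟩ := IsAlgClosed.exists_root g hne
  refine ⟨θ, ?_⟩
  have := hθ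
  simp only [g, Polynomial.IsRoot.def, Polynomial.eval_sub, Polynomial.eval_pow,
    Polynomial.eval_X, Polynomial.eval_add, Polynomial.eval_mul, Polynomial.eval_C] at this
  linear_combination this

lemma root_shift (p : ℕ) [hp : Fact p.Prime] [CharP Ω p] (θ b e : Ω)
    (h : θ ^ p - b ^ (p - 1) * θ - e = 0) (m : ℕ) :
    (θ + m * b) ^ p - b ^ (p - 1) * (θ + m * b) - e = 0 := by
  have hm : ((m : Ω)) ^ p = m := by
    have := map_natCast (frobenius Ω p) m
    rwa [frobenius_def] at this
  obtain ⟨q, hq⟩ : ∃ q, p = q + 1 := ⟨p - 1, (Nat.succ_pred_eq_of_pos hp.out.pos).symm⟩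
  rw [add_pow_char, mul_pow, hm]
  have hb : b ^ p = b ^ (p - 1) * b := by
    conv_lhs => rw [hq]
    rw [hq, Nat.add_sub_cancel, pow_succ]
  rw [hb]
  linear_combination h

end Field

section Degree

variable {R : Type*} [CommRing R] [Nontrivial R] {σ : Type*} (m : MonomialOrder σ)

lemma degree_rel (j : σ) {p : ℕ} (hp2 : 2 ≤ p) (d e : R) :
    m.degree (X j ^ p - C d * X j - C e : MvPolynomial σ R) = Finsupp.single j p ∧
      m.Monic (X j ^ p - C d * X j - C e : MvPolynomial σ R) := by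
  classical
  have h1 : m.degree (X j ^ p : MvPolynomial σ R) = Finsupp.single j p := by
    rw [X_pow_eq_monomial, MonomialOrder.degree_monomial, if_neg one_ne_zero]
  have hlt : m.degree (C d * X j + C e : MvPolynomial σ R) ≺[m]
      m.degree (X j ^ p : MvPolynomial σ R) := by
    rw [h1]
    have hs : m.toSyn (Finsupp.single j 1) < m.toSyn (Finsupp.single j p) := by
      apply m.toSyn_strictMono
      refine lt_of_le_of_ne (Finsupp.single_le_single.2 (by omega)) ?_
      intro h
      have := congrArg (fun g => g j) h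
      simp at this
      omega
    refine lt_of_le_of_lt ?_ hs
    refine le_trans MonomialOrder.degree_add_le ?_
    rw [sup_le_iff]
    constructor
    · rw [C_mul_X_eq_monomial]
      exact MonomialOrder.degree_monomial_le d
    · rw [MonomialOrder.degree_C, map_zero]
      exact m.zero_le _
  have hform : (X j ^ p - C d * X j - C e : MvPolynomial σ R)
      = X j ^ p - (C d * X j + C e) := by ring
  rw [hform]
  refine ⟨by rw [MonomialOrder.degree_sub_of_lt hlt, h1], ?_⟩
  rw [MonomialOrder.Monic, MonomialOrder.leadingCoeff_sub_of_lt hlt, X_pow_eq_monomial,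
    MonomialOrder.leadingCoeff_monomial]

end Degree

section Main

variable {R : Type*} [CommRing R] [IsDomain R] {n : ℕ} (p : ℕ) [hp : Fact p.Prime] [CharP R p]
  (μ : R) (a x : Fin n → R) (i₀ : Fin n)

/-- the quotient ring `A`, for an ideal `I` (which will be the span of the relations `f`). -/
abbrev Aq (I : Ideal (MvPolynomial (Fin n) R)) := MvPolynomial (Fin n) R ⧸ I

/-- the minor elements. -/
noncomputable def z (I : Ideal (MvPolynomial (Fin n) R)) (j : {j : Fin n // j ≠ i₀}) : Aq I :=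
  algebraMap R (Aq I) (a i₀) * Ideal.Quotient.mk I (X j.1)
    - algebraMap R (Aq I) (a j.1) * Ideal.Quotient.mk I (X i₀)

/-- the relations between the minor elements. -/
noncomputable def r (j : {j : Fin n // j ≠ i₀}) : MvPolynomial {j : Fin n // j ≠ i₀} R :=
  X j ^ p - C ((μ * a i₀ * a j.1) ^ (p - 1)) * X j - C (a i₀ ^ p * x j.1 - a j.1 ^ p * x i₀)

lemma z_eq_mk (I : Ideal (MvPolynomial (Fin n) R)) (j : {j : Fin n // j ≠ i₀}) :
    z a i₀ I j = Ideal.Quotient.mk I (C (a i₀) * X j.1 - C (a j.1) * X i₀) := by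
  rw [z, map_sub, map_mul, map_mul]
  rfl

lemma aeval_r (I : Ideal (MvPolynomial (Fin n) R))
    (hI : I = Ideal.span (Set.range (f p μ a x))) (j : {j : Fin n // j ≠ i₀}) :
    aeval (z a i₀ I) (r p μ a x i₀ j) = 0 := by
  have h1 : aeval (z a i₀ I) (r p μ a x i₀ j)
      = Ideal.Quotient.mk I ((C (a i₀) * X j.1 - C (a j.1) * X i₀) ^ p
        - C ((μ * a i₀ * a j.1) ^ (p - 1)) * (C (a i₀) * X j.1 - C (a j.1) * X i₀)
        - C (a i₀ ^ p * x j.1 - a j.1 ^ p * x i₀)) := by
    rw [r]
    simp only [map_sub, map_mul, map_pow, aeval_X, aeval_C, z_eq_mk]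
    rfl
  rw [h1, key_identity, Ideal.Quotient.eq_zero_iff_mem]
  have hf : ∀ i, f p μ a x i ∈ I := fun i => by
    rw [hI]; exact Ideal.subset_span ⟨i, rfl⟩
  exact I.sub_mem (I.mul_mem_left _ (hf _)) (I.mul_mem_left _ (hf _))

/-- the evaluation homomorphism `A → Ω` attached to a tuple of roots. -/
noncomputable def ev {Ω : Type*} [Field Ω] [Algebra R Ω] (I : Ideal (MvPolynomial (Fin n) R))
    (hI : I = Ideal.span (Set.range (f p μ a x))) (ρ : Fin n → Ω)
    (hρ : ∀ i, ρ i ^ p - algebraMap R Ω ((μ * a i) ^ (p - 1)) * ρ i - algebraMap R Ω (x i) = 0) :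
    Aq I →ₐ[R] Ω :=
  Ideal.Quotient.liftₐ I (aeval ρ) (by
    intro t ht
    rw [hI] at ht
    have hle : Ideal.span (Set.range (f p μ a x)) ≤ RingHom.ker (aeval ρ : _ →ₐ[R] Ω) := by
      rw [Ideal.span_le]
      rintro _ ⟨i, rfl⟩
      rw [SetLike.mem_coe, RingHom.mem_ker, f]
      rw [map_sub, map_sub, map_mul, map_pow, aeval_X, aeval_C, aeval_C]
      exact hρ i
    exact hle ht)

lemma ev_z {Ω : Type*} [Field Ω] [Algebra R Ω] (I : Ideal (MvPolynomial (Fin n) R))
    (hI : I = Ideal.span (Set.range (f p μ a x))) (ρ : Fin n → Ω)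
    (hρ : ∀ i, ρ i ^ p - algebraMap R Ω ((μ * a i) ^ (p - 1)) * ρ i - algebraMap R Ω (x i) = 0)
    (j : {j : Fin n // j ≠ i₀}) :
    ev p μ a x I hI ρ hρ (z a i₀ I j)
      = algebraMap R Ω (a i₀) * ρ j.1 - algebraMap R Ω (a j.1) * ρ i₀ := by
  rw [z_eq_mk, ev]
  erw [Ideal.Quotient.liftₐ_apply, Ideal.Quotient.lift_mk]
  simp only [map_sub, map_mul, aeval_X, aeval_C, RingHom.coe_coe]

theorem ker_eq (I : Ideal (MvPolynomial (Fin n) R))
    (hI : I = Ideal.span (Set.range (f p μ a x))) (hμa : ∀ i, μ * a i ≠ 0) :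
    RingHom.ker (aeval (z a i₀ I) : MvPolynomial {j : Fin n // j ≠ i₀} R →ₐ[R] Aq I)
      = Ideal.span (Set.range (r p μ a x i₀)) := by
  classical
  have hp2 : 2 ≤ p := hp.out.two_le
  have hge : Ideal.span (Set.range (r p μ a x i₀))
      ≤ RingHom.ker (aeval (z a i₀ I) : MvPolynomial {j : Fin n // j ≠ i₀} R →ₐ[R] Aq I) := by
    rw [Ideal.span_le]
    rintro _ ⟨j, rfl⟩
    exact aeval_r p μ a x i₀ I hI j
  refine le_antisymm ?_ hge
  intro P hP
  -- division with remainder by the relations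
  let m : MonomialOrder {j : Fin n // j ≠ i₀} := MonomialOrder.degLex
  have hdeg : ∀ j, m.degree (r p μ a x i₀ j) = Finsupp.single j p := fun j =>
    (degree_rel m j hp2 _ _).1
  have hmonic : ∀ j, m.Monic (r p μ a x i₀ j) := fun j => (degree_rel m j hp2 _ _).2
  obtain ⟨g, rem, hPeq, -, hrem⟩ := m.div (b := r p μ a x i₀)
    (fun j => by rw [(hmonic j).leadingCoeff_eq_one]; exact isUnit_one) P
  have hlc : Finsupp.linearCombination _ (r p μ a x i₀) g
      ∈ Ideal.span (Set.range (r p μ a x i₀)) :=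
    (Finsupp.mem_span_range_iff_exists_finsupp).2 ⟨g, rfl⟩
  suffices hrem0 : rem = 0 by
    rw [hPeq, hrem0, add_zero]; exact hlc
  have hremker : aeval (z a i₀ I) rem = 0 := by
    have h1 : aeval (z a i₀ I) P = 0 := hP
    rw [hPeq, map_add, (RingHom.mem_ker).1 (hge hlc), zero_add] at h1
    exact h1
  -- the algebraically closed field
  let K := FractionRing R
  let Ω := AlgebraicClosure K
  have hinj : Function.Injective (algebraMap R Ω) := by
    rw [IsScalarTower.algebraMap_eq R K Ω]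
    exact (algebraMap K Ω).injective.comp (IsFractionRing.injective R K)
  haveI : CharP Ω p := charP_of_injective_algebraMap hinj p
  let ι := algebraMap R Ω
  have hroot : ∀ i, ∃ θ : Ω, θ ^ p - ι (μ * a i) ^ (p - 1) * θ - ι (x i) = 0 := fun i =>
    exists_root hp2 _ _
  choose θ hθ using hroot
  have ha0 : ι (a i₀) ≠ 0 := by
    intro h
    have : a i₀ = 0 := hinj (by rw [h, map_zero])
    exact hμa i₀ (by rw [this, mul_zero])
  have hb0 : ∀ i, ι (μ * a i) ≠ 0 := fun i h =>
    hμa i (hinj (by rw [h, map_zero]))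
  -- the grid
  let S : {j : Fin n // j ≠ i₀} → Finset Ω := fun j =>
    (Finset.range p).image
      (fun k : ℕ => ι (a i₀) * (θ j.1 + (k : Ω) * ι (μ * a j.1)) - ι (a j.1) * θ i₀)
  have hcard : ∀ j, (S j).card = p := by
    intro j
    rw [Finset.card_image_of_injOn, Finset.card_range]
    intro k hk l hl hkl
    simp only [Finset.coe_range, Set.mem_Iio] at hk hl
    have h1 : ι (a i₀) * ι (μ * a j.1) * ((k : Ω) - (l : Ω)) = 0 := by
      have := hkl
      simp only at this
      linear_combination this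
    have h2 : (k : Ω) - (l : Ω) = 0 := by
      rcases mul_eq_zero.1 h1 with h | h
      · exact absurd h (mul_ne_zero ha0 (hb0 _))
      · exact h
    exact CharP.natCast_injOn_Iio Ω p hk hl (sub_eq_zero.1 h2)
  have hmap0 : map ι rem = 0 := by
    apply eq_zero_of_eval_zero_at_prod_finset (map ι rem) S
    · intro j
      rw [hcard j, degreeOf_eq_sup, Finset.sup_lt_iff (show (⊥ : ℕ) < p from lt_of_lt_of_le (by simp) hp2)]
      intro c hc
      have hc' : c ∈ rem.support := support_map_subset _ _ hc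
      have := hrem c hc' j
      rw [hdeg j, Finsupp.single_le_iff] at this
      omega
    · intro y hy
      have hy' : ∀ j, ∃ k : ℕ,
          ι (a i₀) * (θ j.1 + (k : Ω) * ι (μ * a j.1)) - ι (a j.1) * θ i₀ = y j := by
        intro j
        obtain ⟨k, -, hk⟩ := Finset.mem_image.1 (hy j)
        exact ⟨k, hk⟩
      choose kk hkk using hy'
      let k' : Fin n → ℕ := fun i => if h : i = i₀ then 0 else kk ⟨i, h⟩
      let ρ : Fin n → Ω := fun i => θ i + (k' i : Ω) * ι (μ * a i)
      have hρ : ∀ i, ρ i ^ p - algebraMap R Ω ((μ * a i) ^ (p - 1)) * ρ i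
          - algebraMap R Ω (x i) = 0 := by
        intro i
        rw [map_pow]
        exact root_shift p (θ i) (ι (μ * a i)) (ι (x i)) (hθ i) (k' i)
      have hρ0 : ρ i₀ = θ i₀ := by
        simp only [ρ, k', dif_pos, Nat.cast_zero, zero_mul, add_zero]
      have hρj : ∀ j : {j : Fin n // j ≠ i₀}, ρ j.1 = θ j.1 + (kk j : Ω) * ι (μ * a j.1) := by
        intro j
        simp only [ρ, k', dif_neg j.2]
      have hy2 : y = fun j => ev p μ a x I hI ρ hρ (z a i₀ I j) := by
        funext j
        rw [ev_z, hρ0, hρj, ← hkk j]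
      have h3 : (ev p μ a x I hI ρ hρ) (aeval (z a i₀ I) rem) = aeval y rem := by
        rw [hy2, ← comp_aeval]
        rfl
      rw [eval_map, ← aeval_def, ← h3, hremker, map_zero]
  exact map_injective ι hinj (by rw [hmap0, map_zero])

end Main

end Groth.Agent.H7.WQKer
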