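import Groth.Agent.Lib.Helper5.Geom.PthPower
import Groth.Agent.Lib.Helper5.Geom.OmegaRank

/-! Weakly separable extensions are separable over the compositum (helper7). -/

set_option autoImplicit false

namespace Groth.Agent.H7.WS

open FunFld

universe u v

theorem isSeparable_compositum (k k' : Type u) (K K' : Type v) [Field k] [Field k'] [Field K] [Field K']
    [Algebra k k'] [Algebra k K] [Algebra K K'] [Algebra k' K'] [Algebra k K']
    [IsScalarTower k k' K'] [IsScalarTower k K K']
    (hK : FunFld.IsFunctionField k K) (hg : FunFld.IsGeometric k K)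
    (hK' : FunFld.IsFunctionField k' K') (hg' : FunFld.IsGeometric k' K')
    (hw : Function.Injective (KaehlerDifferential.map k k' K K')) :
    Algebra.IsSeparable (IntermediateField.adjoin K (Set.range (algebraMap k' K'))) K' := by
  obtain ⟨x, hx⟩ := FunFld.Geom.exists_D_ne_zero hK hg
  have hx' : KaehlerDifferential.D k' K' (algebraMap K K' x) ≠ 0 := by
    rw [← KaehlerDifferential.map_D k k' K K']
    intro h0
    exact hx (hw (by rw [h0, map_zero]))
  have hsep := FunFld.Geom.isSeparable_of_D_ne_zero hK' hg' hx'
  set F := IntermediateField.adjoin k' ({algebraMap K K' x} : Set K') with hF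
  set M := IntermediateField.adjoin K (Set.range (algebraMap k' K')) with hM
  have hle : ∀ z : K', z ∈ F → z ∈ M := by
    intro z hz
    have h1 : F ≤ (M.toSubfield.toIntermediateField (fun c => by
        exact IntermediateField.subset_adjoin K _ ⟨c, rfl⟩) : IntermediateField k' K') := by
      rw [hF, IntermediateField.adjoin_simple_le_iff]
      exact M.algebraMap_mem x
    exact h1 hz
  let ι : F →+* M :=
    { toFun := fun z => ⟨z.1, hle z.1 z.2⟩
      map_one' := rfl
      map_mul' := fun _ _ => rfl
      map_zero' := rfl
      map_add' := fun _ _ => rfl }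
  let _ : Algebra F M := ι.toAlgebra
  have : IsScalarTower F M K' := IsScalarTower.of_algebraMap_eq (fun _ => rfl)
  exact Algebra.isSeparable_tower_top_of_isSeparable F M K'

end Groth.Agent.H7.WS
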