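import Mathlib

/-!
# Helper7: WayOut5 — dévissage for full faithfulness of a triangulated functor
-/

set_option autoImplicit false

open CategoryTheory Limits Pretriangulated

namespace Groth.Agent.H7.WayOut

universe v₁ v₂ u₁ u₂

variable {C : Type u₁} [Category.{v₁} C] {D : Type u₂} [Category.{v₂} D]
  [HasShift C ℤ] [HasShift D ℤ] [Preadditive C] [Preadditive D]
  [HasZeroObject C] [HasZeroObject D]
  [∀ n : ℤ, (shiftFunctor C n).Additive] [∀ n : ℤ, (shiftFunctor D n).Additive]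
  [Pretriangulated C] [Pretriangulated D]
  (F : C ⥤ D) [F.CommShift ℤ]

/-- `F` induces a bijection `Hom(K, X) → Hom(F K, F X)` -/
def Bij (K X : C) : Prop := Function.Bijective (fun φ : K ⟶ X => F.map φ)

/-- `F` induces bijections `Hom(K, L[n]) → Hom(F K, F (L[n]))` for all `n` -/
def BijAll (K L : C) : Prop := ∀ n : ℤ, Bij F K (L⟦n⟧)

variable {F}

lemma bij_iso_right {K X X' : C} (e : X ≅ X') (h : Bij F K X) : Bij F K X' := by
  constructor
  · intro φ ψ hφψ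
    have hφψ' : F.map φ = F.map ψ := hφψ
    have h1 : F.map (φ ≫ e.inv) = F.map (ψ ≫ e.inv) := by
      rw [F.map_comp, F.map_comp, hφψ']
    have h2 : φ ≫ e.inv = ψ ≫ e.inv := h.1 h1
    exact (cancel_mono e.inv).1 h2
  · intro φ'
    obtain ⟨ψ, hψ⟩ := h.2 (φ' ≫ F.map e.inv)
    have hψ' : F.map ψ = φ' ≫ F.map e.inv := hψ
    refine ⟨ψ ≫ e.hom, ?_⟩
    change F.map (ψ ≫ e.hom) = φ'
    rw [F.map_comp, hψ', Category.assoc, ← F.map_comp, e.inv_hom_id, F.map_id, Category.comp_id]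

lemma bij_iso_left {K K' X : C} (e : K ≅ K') (h : Bij F K X) : Bij F K' X := by
  constructor
  · intro φ ψ hφψ
    have hφψ' : F.map φ = F.map ψ := hφψ
    have h1 : F.map (e.hom ≫ φ) = F.map (e.hom ≫ ψ) := by
      rw [F.map_comp, F.map_comp, hφψ']
    have h2 : e.hom ≫ φ = e.hom ≫ ψ := h.1 h1
    exact (cancel_epi e.hom).1 h2
  · intro φ'
    obtain ⟨ψ, hψ⟩ := h.2 (F.map e.hom ≫ φ')
    have hψ' : F.map ψ = F.map e.hom ≫ φ' := hψ
    refine ⟨e.inv ≫ ψ, ?_⟩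
    change F.map (e.inv ≫ ψ) = φ'
    rw [F.map_comp, hψ', ← Category.assoc, ← F.map_comp, e.inv_hom_id, F.map_id, Category.id_comp]

lemma map_shift_eq {K X : C} (φ : K ⟶ X) (m : ℤ) :
    F.map (φ⟦m⟧') = (F.commShiftIso m).hom.app K ≫ (F.map φ)⟦m⟧' ≫
      (F.commShiftIso m).inv.app X := by
  have h := (F.commShiftIso m).hom.naturality φ
  dsimp at h
  rw [← Category.assoc, ← h, Category.assoc, Iso.hom_inv_id_app]
  dsimp
  rw [Category.comp_id]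

lemma bij_shift {K X : C} (m : ℤ) (h : Bij F K X) : Bij F (K⟦m⟧) (X⟦m⟧) := by
  constructor
  · intro φ ψ hφψ
    have hφψ' : F.map φ = F.map ψ := hφψ
    obtain ⟨φ₀, rfl⟩ := (shiftFunctor C m).map_surjective φ
    obtain ⟨ψ₀, rfl⟩ := (shiftFunctor C m).map_surjective ψ
    rw [map_shift_eq, map_shift_eq] at hφψ'
    have h1 : (F.map φ₀)⟦m⟧' = (F.map ψ₀)⟦m⟧' := by
      have := (cancel_epi _).1 hφψ'
      exact (cancel_mono _).1 this
    have h2 : F.map φ₀ = F.map ψ₀ := (shiftFunctor D m).map_injective h1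
    rw [h.1 h2]
  · intro φ'
    obtain ⟨χ, hχ⟩ := (shiftFunctor D m).map_surjective
      ((F.commShiftIso m).inv.app K ≫ φ' ≫ (F.commShiftIso m).hom.app X)
    obtain ⟨χ₀, hχ₀⟩ := h.2 χ
    have hχ₀' : F.map χ₀ = χ := hχ₀
    refine ⟨χ₀⟦m⟧', ?_⟩
    change F.map (χ₀⟦m⟧') = φ'
    rw [map_shift_eq, hχ₀', hχ]
    simp

lemma BijAll.shift_right {K L : C} (h : BijAll F K L) (m : ℤ) : BijAll F K (L⟦m⟧) := by
  intro n
  exact bij_iso_right ((shiftFunctorAdd' C m n (m + n) rfl).app L) (h (m + n))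

lemma BijAll.shift_left {K L : C} (h : BijAll F K L) (m : ℤ) : BijAll F (K⟦m⟧) L := by
  intro n
  have h1 : Bij F (K⟦m⟧) ((L⟦n - m⟧)⟦m⟧) := bij_shift m (h (n - m))
  exact bij_iso_right ((shiftFunctorAdd' C (n - m) m n (by omega)).app L).symm h1

lemma BijAll.iso_left {K K' L : C} (e : K ≅ K') (h : BijAll F K L) : BijAll F K' L :=
  fun n => bij_iso_left e (h n)

lemma BijAll.iso_right {K L L' : C} (e : L ≅ L') (h : BijAll F K L) : BijAll F K L' :=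
  fun n => bij_iso_right ((shiftFunctor C n).mapIso e) (h n)

lemma BijAll.bij {K L : C} (h : BijAll F K L) : Bij F K L :=
  bij_iso_right ((shiftFunctorZero C ℤ).app L) (h 0)

variable [F.IsTriangulated]

/-- the contravariant four-lemma chase -/
lemma bij_obj₂_left (T : Triangle C) (hT : T ∈ distTriang C) (X : C)
    (h₁ : Bij F T.obj₁ X) (h₃ : Bij F T.obj₃ X)
    (hs : Function.Surjective (fun φ : T.obj₁⟦(1 : ℤ)⟧ ⟶ X => F.map φ))
    (hi : Function.Injective (fun φ : T.invRotate.obj₁ ⟶ X => F.map φ)) :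
    Bij F T.obj₂ X := by
  have hT' := F.map_distinguished T hT
  have hTi := inv_rot_of_distTriang T hT
  constructor
  · intro φ ψ hφψ
    have hφψ' : F.map φ = F.map ψ := hφψ
    -- reduce to `F.map θ = 0 → θ = 0`
    suffices hz : ∀ θ : T.obj₂ ⟶ X, F.map θ = 0 → θ = 0 by
      have := hz (φ - ψ) (by rw [F.map_sub, hφψ', sub_self])
      exact sub_eq_zero.1 this
    intro θ hθ
    have h1 : T.mor₁ ≫ θ = 0 := by
      apply h₁.1
      change F.map (T.mor₁ ≫ θ) = F.map 0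
      rw [F.map_comp, hθ, comp_zero, F.map_zero]
    obtain ⟨ψ₃, hψ₃⟩ := Triangle.yoneda_exact₂ T hT θ h1
    have h2 : (F.mapTriangle.obj T).mor₂ ≫ F.map ψ₃ = 0 := by
      change F.map T.mor₂ ≫ F.map ψ₃ = 0
      rw [← F.map_comp, ← hψ₃, hθ]
    obtain ⟨χ', hχ'⟩ := Triangle.yoneda_exact₃ _ hT' (F.map ψ₃) h2
    have hχ'2 : F.map ψ₃ = F.map T.mor₃ ≫ ((F.commShiftIso (1 : ℤ)).hom.app T.obj₁ ≫ χ') := by
      rw [hχ']
      change (F.map T.mor₃ ≫ (F.commShiftIso (1 : ℤ)).hom.app T.obj₁) ≫ χ' = _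
      rw [Category.assoc]
    obtain ⟨χ, hχ⟩ := hs ((F.commShiftIso (1 : ℤ)).hom.app T.obj₁ ≫ χ')
    have hχ2 : F.map χ = (F.commShiftIso (1 : ℤ)).hom.app T.obj₁ ≫ χ' := hχ
    have h3 : ψ₃ = T.mor₃ ≫ χ := by
      apply h₃.1
      change F.map ψ₃ = F.map (T.mor₃ ≫ χ)
      rw [F.map_comp, hχ2, hχ'2]
    rw [hψ₃, h3, ← Category.assoc, comp_distTriang_mor_zero₂₃ T hT, zero_comp]
  · intro φ'
    let u : T.invRotate.obj₁ ⟶ T.obj₁ := T.invRotate.mor₁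
    have hu : u ≫ T.mor₁ = 0 := comp_distTriang_mor_zero₁₂ _ hTi
    have hex : ∀ α : T.obj₁ ⟶ X, u ≫ α = 0 → ∃ β : T.obj₂ ⟶ X, α = T.mor₁ ≫ β :=
      fun α hα => Triangle.yoneda_exact₂ _ hTi α hα
    obtain ⟨α, hα⟩ := h₁.2 (F.map T.mor₁ ≫ φ')
    have hα' : F.map α = F.map T.mor₁ ≫ φ' := hα
    have h1 : u ≫ α = 0 := by
      apply hi
      change F.map (u ≫ α) = F.map 0
      rw [F.map_comp, hα', ← Category.assoc, ← F.map_comp, hu, F.map_zero, zero_comp, F.map_zero]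
    obtain ⟨β, hβ⟩ := hex α h1
    have hex2 : ∀ ξ : F.obj T.obj₂ ⟶ F.obj X, F.map T.mor₁ ≫ ξ = 0 →
        ∃ γ' : F.obj T.obj₃ ⟶ F.obj X, ξ = F.map T.mor₂ ≫ γ' :=
      fun ξ hξ => Triangle.yoneda_exact₂ _ hT' ξ hξ
    have h2 : F.map T.mor₁ ≫ (φ' - F.map β) = 0 := by
      rw [Preadditive.comp_sub, ← hα', ← F.map_comp, ← hβ, sub_self]
    obtain ⟨γ', hγ'2⟩ := hex2 (φ' - F.map β) h2
    obtain ⟨γ, hγ⟩ := h₃.2 γ'
    have hγ2 : F.map γ = γ' := hγ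
    refine ⟨β + T.mor₂ ≫ γ, ?_⟩
    change F.map (β + T.mor₂ ≫ γ) = φ'
    rw [F.map_add, F.map_comp, hγ2, ← hγ'2]
    abel

/-- the covariant four-lemma chase -/
lemma bij_obj₂_right (T : Triangle C) (hT : T ∈ distTriang C) (K : C)
    (h₁ : Bij F K T.obj₁) (h₃ : Bij F K T.obj₃)
    (hi : Function.Injective (fun φ : K ⟶ T.obj₁⟦(1 : ℤ)⟧ => F.map φ))
    (hs : Function.Surjective (fun φ : K ⟶ T.invRotate.obj₁ => F.map φ)) :
    Bij F K T.obj₂ := by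
  have hT' := F.map_distinguished T hT
  have hTi := inv_rot_of_distTriang T hT
  have hTi' := F.map_distinguished _ hTi
  constructor
  · intro φ ψ hφψ
    have hφψ' : F.map φ = F.map ψ := hφψ
    suffices hz : ∀ θ : K ⟶ T.obj₂, F.map θ = 0 → θ = 0 by
      have := hz (φ - ψ) (by rw [F.map_sub, hφψ', sub_self])
      exact sub_eq_zero.1 this
    intro θ hθ
    have h1 : θ ≫ T.mor₂ = 0 := by
      apply h₃.1
      change F.map (θ ≫ T.mor₂) = F.map 0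
      rw [F.map_comp, hθ, zero_comp, F.map_zero]
    obtain ⟨ψ₁, hψ₁⟩ := Triangle.coyoneda_exact₂ T hT θ h1
    -- `F ψ₁ ≫ F mor₁ = 0`, so `F ψ₁` comes from the inverse rotation
    let u : T.invRotate.obj₁ ⟶ T.obj₁ := T.invRotate.mor₁
    have hu : u ≫ T.mor₁ = 0 := comp_distTriang_mor_zero₁₂ _ hTi
    have hex : ∀ ξ : F.obj K ⟶ F.obj T.obj₁, ξ ≫ F.map T.mor₁ = 0 →
        ∃ χ' : F.obj K ⟶ F.obj T.invRotate.obj₁, ξ = χ' ≫ F.map u :=
      fun ξ hξ => Triangle.coyoneda_exact₂ _ hTi' ξ hξ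
    have h2 : F.map ψ₁ ≫ F.map T.mor₁ = 0 := by
      rw [← F.map_comp, ← hψ₁, hθ]
    obtain ⟨χ', hχ'⟩ := hex (F.map ψ₁) h2
    obtain ⟨χ, hχ⟩ := hs χ'
    have hχ2 : F.map χ = χ' := hχ
    have h3 : ψ₁ = χ ≫ u := by
      apply h₁.1
      change F.map ψ₁ = F.map (χ ≫ u)
      rw [F.map_comp, hχ2, hχ']
    rw [hψ₁, h3, Category.assoc, hu, comp_zero]
  · intro φ'
    obtain ⟨α, hα⟩ := h₃.2 (φ' ≫ F.map T.mor₂)
    have hα' : F.map α = φ' ≫ F.map T.mor₂ := hα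
    have h1 : α ≫ T.mor₃ = 0 := by
      apply hi
      change F.map (α ≫ T.mor₃) = F.map 0
      rw [F.map_comp, hα', Category.assoc, ← F.map_comp, comp_distTriang_mor_zero₂₃ T hT,
        F.map_zero, comp_zero, F.map_zero]
    obtain ⟨β, hβ⟩ := Triangle.coyoneda_exact₃ T hT α h1
    have hex : ∀ ξ : F.obj K ⟶ F.obj T.obj₂, ξ ≫ F.map T.mor₂ = 0 →
        ∃ γ' : F.obj K ⟶ F.obj T.obj₁, ξ = γ' ≫ F.map T.mor₁ :=
      fun ξ hξ => Triangle.coyoneda_exact₂ _ hT' ξ hξ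
    have h2 : (φ' - F.map β) ≫ F.map T.mor₂ = 0 := by
      rw [Preadditive.sub_comp, ← hα', ← F.map_comp, ← hβ, sub_self]
    obtain ⟨γ', hγ'2⟩ := hex (φ' - F.map β) h2
    obtain ⟨γ, hγ⟩ := h₁.2 γ'
    have hγ2 : F.map γ = γ' := hγ
    refine ⟨β + γ ≫ T.mor₁, ?_⟩
    change F.map (β + γ ≫ T.mor₁) = φ'
    rw [F.map_add, F.map_comp, hγ2, ← hγ'2]
    abel

/-- closure under cones in the first variable -/
lemma BijAll.obj₂_left (T : Triangle C) (hT : T ∈ distTriang C) (L : C)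
    (h₁ : BijAll F T.obj₁ L) (h₃ : BijAll F T.obj₃ L) : BijAll F T.obj₂ L := by
  intro n
  exact bij_obj₂_left T hT _ (h₁ n) (h₃ n) ((h₁.shift_left 1) n).2 ((h₃.shift_left (-1)) n).1

/-- closure under cones in the second variable -/
lemma BijAll.obj₂_right (T : Triangle C) (hT : T ∈ distTriang C) (K : C)
    (h₁ : BijAll F K T.obj₁) (h₃ : BijAll F K T.obj₃) : BijAll F K T.obj₂ := by
  intro n
  have hTn := Triangle.shift_distinguished T hT n
  exact bij_obj₂_right _ hTn K (h₁ n) (h₃ n) ((h₁.shift_right n) 1).1 ((h₃.shift_right n) (-1)).2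

end Groth.Agent.H7.WayOut
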