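import Mathlib
import Groth.Prelude.Def_WeakSerre
import Groth.Agent.Lib.Helper7.WayOut3
import Groth.Agent.Lib.Helper7.WayOut5

/-!
# Helper7: WayOut6 — an exact functor inducing an equivalence of weak Serre subcategories and
bijections on all Ext groups between them induces an equivalence `D^b_{A'} ≃ D^b_A`
-/

set_option autoImplicit false

open CategoryTheory Limits Pretriangulated DerivedCategory

namespace Groth.Agent.H7.WayOut

universe w₁ w₂ v₁ v₂ u₁ u₂

variable {A : Type u₁} [Category.{v₁} A] [Abelian A] [HasDerivedCategory.{w₁} A]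
  {B : Type u₂} [Category.{v₂} B] [Abelian B] [HasDerivedCategory.{w₂} B]

section Bdd

variable (P' : ObjectProperty B) [WSerre.IsWeakSerre P']

/-- bounded dévissage phrased with `cohInBdd` -/
theorem devissage_cohInBdd (S : ObjectProperty (DerivedCategory B)) [S.IsClosedUnderIsomorphisms]
    (h23 : ∀ T ∈ distTriang (DerivedCategory B), S T.obj₁ → S T.obj₃ → S T.obj₂)
    (hbase : ∀ (M : B) (a : ℤ), P' M → S ((singleFunctor B a).obj M))
    (X : DerivedCategory B) (hX : WSerre.cohInBdd P' X) : S X := by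
  obtain ⟨hc, ⟨a, ha⟩, ⟨b, hb⟩⟩ := hX
  have hb' : X.IsLE (a + ((b - a).toNat : ℕ)) := by
    haveI := hb
    exact tA.isLE_of_le X b _ (by omega)
  exact devissage_bounded S h23 P' (fun M hM => P'.prop_of_isZero hM) hbase _ X a ha hb' hc

end Bdd

variable (Φ : B ⥤ A) [Φ.Additive] [PreservesFiniteLimits Φ] [PreservesFiniteColimits Φ]
  (P : ObjectProperty A) [WSerre.IsWeakSerre P] (P' : ObjectProperty B) [WSerre.IsWeakSerre P']
  (h2a : ∀ F' : B, P' F' → P (Φ.obj F'))
  (h2c : ∀ F : A, P F → ∃ F' : B, P' F' ∧ Nonempty (Φ.obj F' ≅ F))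
  (hff : ∀ F F' : B, P' F → P' F' → BijAll Φ.mapDerivedCategory
    ((singleFunctor B 0).obj F) ((singleFunctor B 0).obj F'))

include h2a in
theorem bdd_part1 (Y : DerivedCategory B) (hY : WSerre.cohInBdd P' Y) :
    WSerre.cohInBdd P (Φ.mapDerivedCategory.obj Y) := by
  obtain ⟨hc, ⟨a, ha⟩, ⟨b, hb⟩⟩ := hY
  refine ⟨fun i => ?_, ⟨a, isGE_mapDerivedCategory Φ Y a ha⟩, ⟨b, isLE_mapDerivedCategory Φ Y b hb⟩⟩
  obtain ⟨e⟩ := nonempty_homology_mapDerivedCategory_iso Φ Y i
  exact P.prop_of_iso e.symm (h2a _ (hc i))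

include hff in
lemma bijAll_single (F F' : B) (hF : P' F) (hF' : P' F') (a b : ℤ) :
    BijAll Φ.mapDerivedCategory ((singleFunctor B a).obj F) ((singleFunctor B b).obj F') := by
  have ea : ((singleFunctor B 0).obj F)⟦-a⟧ ≅ (singleFunctor B a).obj F :=
    ((singleFunctors B).shiftIso (-a) a 0 (by omega)).app F
  have eb : ((singleFunctor B 0).obj F')⟦-b⟧ ≅ (singleFunctor B b).obj F' :=
    ((singleFunctors B).shiftIso (-b) b 0 (by omega)).app F'
  exact ((((hff F F' hF hF').shift_left (-a)).iso_left ea).shift_right (-b)).iso_right eb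

include hff in
theorem bijAll_bdd (K L : DerivedCategory B) (hK : WSerre.cohInBdd P' K)
    (hL : WSerre.cohInBdd P' L) : BijAll Φ.mapDerivedCategory K L := by
  -- step B: `K` a single object
  have stepB : ∀ (F : B) (a : ℤ), P' F →
      BijAll Φ.mapDerivedCategory ((singleFunctor B a).obj F) L := by
    intro F a hF
    haveI : ObjectProperty.IsClosedUnderIsomorphisms
        (fun L : DerivedCategory B => BijAll Φ.mapDerivedCategory ((singleFunctor B a).obj F) L) :=
      ⟨fun {X Y} e h => h.iso_right e⟩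
    exact devissage_cohInBdd P'
      (fun L : DerivedCategory B => BijAll Φ.mapDerivedCategory ((singleFunctor B a).obj F) L)
      (fun T hT h₁ h₃ => BijAll.obj₂_right T hT _ h₁ h₃)
      (fun M b hM => bijAll_single Φ P' hff F M hF hM a b) L hL
  haveI : ObjectProperty.IsClosedUnderIsomorphisms
      (fun K : DerivedCategory B => BijAll Φ.mapDerivedCategory K L) :=
    ⟨fun {X Y} e h => h.iso_left e⟩
  exact devissage_cohInBdd P'
    (fun K : DerivedCategory B => BijAll Φ.mapDerivedCategory K L)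
    (fun T hT h₁ h₃ => BijAll.obj₂_left T hT _ h₁ h₃)
    (fun M a hM => stepB M a hM) K hK

include h2c in
lemma ess_single (M : DerivedCategory A) (a : ℤ) (h₁ : M.IsGE a) (h₂ : M.IsLE a)
    (hM : P ((homologyFunctor A a).obj M)) :
    ∃ K : DerivedCategory B, K.IsGE a ∧ K.IsLE a ∧ WSerre.cohIn P' K ∧
      Nonempty (Φ.mapDerivedCategory.obj K ≅ M) := by
  obtain ⟨Y, ⟨e⟩⟩ := exists_iso_singleFunctor_obj_of_isGE_of_isLE M a
  have e1 : (homologyFunctor A a).obj M ≅ Y :=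
    (homologyFunctor A a).mapIso e ≪≫ (singleFunctorCompHomologyFunctorIso A a).app Y
  obtain ⟨F', hF', ⟨e2⟩⟩ := h2c Y (P.prop_of_iso e1 hM)
  refine ⟨(singleFunctor B a).obj F', inferInstance, inferInstance, cohIn_single P' F' hF' a, ⟨?_⟩⟩
  exact (Φ.mapDerivedCategorySingleFunctor a).app F' ≪≫ (singleFunctor A a).mapIso e2 ≪≫ e.symm

include h2a h2c hff in
theorem ess_bdd (N : ℕ) : ∀ (M : DerivedCategory A) (a : ℤ), M.IsGE a → M.IsLE (a + N) →
    WSerre.cohIn P M → ∃ K : DerivedCategory B, K.IsGE a ∧ K.IsLE (a + N) ∧ WSerre.cohIn P' K ∧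
      Nonempty (Φ.mapDerivedCategory.obj K ≅ M) := by
  induction N with
  | zero =>
    intro M a h₁ h₂ hM
    have h₂' : M.IsLE a := by simpa using h₂
    obtain ⟨K, k1, k2, k3, k4⟩ := ess_single Φ P P' h2c M a h₁ h₂' (hM a)
    exact ⟨K, k1, by simpa using k2, k3, k4⟩
  | succ N ih =>
    intro M a h₁ h₂ hM
    let c : ℤ := a + N + 1
    have hT := tA.triangleLTGE_distinguished c M
    haveI := h₁
    have h2' : M.IsLE c := by
      have : a + ((N + 1 : ℕ) : ℤ) = c := by push_cast; ring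
      rwa [this] at h₂
    haveI := h2'
    -- the two truncations
    have g1 : WSerre.cohIn P ((tA.truncLT c).obj M) := by
      intro q
      by_cases hq : q < c
      · haveI := isIso_homology_truncLTι M c q hq
        exact P.prop_of_iso
          (asIso ((homologyFunctor A q).map ((tA.truncLTι c).app M))).symm (hM q)
      · apply P.prop_of_isZero
        haveI : ((tA.truncLT c).obj M).IsLE (c - 1) := inferInstance
        exact ((tA.truncLT c).obj M).isZero_of_isLE (c - 1) q (by omega)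
    have g3 : P ((homologyFunctor A c).obj ((tA.truncGE c).obj M)) := by
      haveI := isIso_homology_truncGEπ M c c le_rfl
      exact P.prop_of_iso (asIso ((homologyFunctor A c).map ((tA.truncGEπ c).app M))) (hM c)
    obtain ⟨K₁, k11, k12, k13, ⟨e₁⟩⟩ := ih ((tA.truncLT c).obj M) a inferInstance
      (tA.isLE_truncLT_obj M c (a + N) (by omega)) g1
    obtain ⟨K₃, k31, k32, k33, ⟨e₃⟩⟩ := ess_single Φ P P' h2c ((tA.truncGE c).obj M) c
      inferInstance inferInstance g3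
    -- lift the connecting morphism
    have hK₁ : WSerre.cohInBdd P' K₁ := ⟨k13, ⟨a, k11⟩, ⟨a + N, k12⟩⟩
    have hK₃ : WSerre.cohInBdd P' K₃ := ⟨k33, ⟨c, k31⟩, ⟨c, k32⟩⟩
    have hb : Bij Φ.mapDerivedCategory K₃ (K₁⟦(1 : ℤ)⟧) := bijAll_bdd Φ P' hff K₃ K₁ hK₃ hK₁ 1
    let T := (tA.triangleLTGE c).obj M
    obtain ⟨δ, hδ⟩ : ∃ δ : (tA.truncGE c).obj M ⟶ ((tA.truncLT c).obj M)⟦(1 : ℤ)⟧, δ = T.mor₃ :=
      ⟨_, rfl⟩
    obtain ⟨d, hd⟩ := hb.2 (e₃.hom ≫ δ ≫ e₁.inv⟦(1 : ℤ)⟧' ≫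
      (Φ.mapDerivedCategory.commShiftIso (1 : ℤ)).inv.app K₁)
    have hd' : Φ.mapDerivedCategory.map d = e₃.hom ≫ δ ≫ e₁.inv⟦(1 : ℤ)⟧' ≫
      (Φ.mapDerivedCategory.commShiftIso (1 : ℤ)).inv.app K₁ := hd
    obtain ⟨K₂, f, g, H⟩ := distinguished_cocone_triangle₂ d
    have comm0 : (Φ.mapDerivedCategory.map d ≫
        (Φ.mapDerivedCategory.commShiftIso (1 : ℤ)).hom.app K₁) ≫ e₁.hom⟦(1 : ℤ)⟧' =
        e₃.hom ≫ δ := by
      rw [hd']
      simp only [Category.assoc, Iso.inv_hom_id_app_assoc]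
      rw [← CategoryTheory.Functor.map_comp, e₁.inv_hom_id, CategoryTheory.Functor.map_id, Category.comp_id]
    have comm : (Φ.mapDerivedCategory.map d ≫
        (Φ.mapDerivedCategory.commShiftIso (1 : ℤ)).hom.app K₁) ≫ e₁.hom⟦(1 : ℤ)⟧' =
        e₃.hom ≫ T.mor₃ := by
      rw [← hδ]; exact comm0
    have eT : Φ.mapDerivedCategory.mapTriangle.obj (Triangle.mk f g d) ≅ T :=
      isoTriangleOfIso₁₃ _ _ (Φ.mapDerivedCategory.map_distinguished _ H) hT e₁ e₃ comm
    have e₂ : Φ.mapDerivedCategory.obj K₂ ≅ M := Triangle.π₂.mapIso eT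
    have k3a : K₃.IsGE a := by
      haveI := k31
      exact tA.isGE_of_ge K₃ a c (by omega)
    have k1c : K₁.IsLE c := by
      haveI := k12
      exact tA.isLE_of_le K₁ (a + N) c (by omega)
    refine ⟨K₂, ?_, ?_, ?_, ⟨e₂⟩⟩
    · exact tA.isGE₂ _ H a k11 k3a
    · have hc1 : a + ((N + 1 : ℕ) : ℤ) = c := by push_cast; ring
      rw [hc1]
      exact tA.isLE₂ _ H c k1c k32
    · exact cohIn_obj₂ P' _ H k13 k33

include h2a h2c hff in
theorem bdd_main :
    (∀ K : DerivedCategory B, WSerre.cohInBdd P' K →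
        WSerre.cohInBdd P (Φ.mapDerivedCategory.obj K)) ∧
      (∀ K L : DerivedCategory B, WSerre.cohInBdd P' K → WSerre.cohInBdd P' L →
        Function.Bijective (fun φ : (K ⟶ L) => Φ.mapDerivedCategory.map φ)) ∧
      (∀ M : DerivedCategory A, WSerre.cohInBdd P M →
        ∃ K : DerivedCategory B, WSerre.cohInBdd P' K ∧
          Nonempty (Φ.mapDerivedCategory.obj K ≅ M)) := by
  refine ⟨fun K hK => bdd_part1 Φ P P' h2a K hK,
    fun K L hK hL => (bijAll_bdd Φ P' hff K L hK hL).bij, fun M hM => ?_⟩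
  obtain ⟨hc, ⟨a, ha⟩, ⟨b, hb⟩⟩ := hM
  have hb' : M.IsLE (a + ((b - a).toNat : ℕ)) := by
    haveI := hb
    exact tA.isLE_of_le M b _ (by omega)
  obtain ⟨K, k1, k2, k3, k4⟩ := ess_bdd Φ P P' h2a h2c hff _ M a ha hb' hc
  exact ⟨K, ⟨k3, ⟨a, k1⟩, ⟨_, k2⟩⟩, k4⟩

end Groth.Agent.H7.WayOut
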