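import Mathlib

/-!
# Weakly associated primes: elementary commutative algebra (for the `AlgSp.WeakAssEt` rows)
-/

set_option autoImplicit false
universe u

namespace Groth.Agent.H7.WeakAss

section Alg

variable {A : Type*} [CommRing A]

/-- if `p` is minimal over `I` and `x ∈ p`, some `s ∉ p` and some power satisfy `s x^n ∈ I`. -/
theorem exists_mul_pow_mem_of_mem_minimalPrimes {I p : Ideal A} (hp : p ∈ I.minimalPrimes)
    {x : A} (hx : x ∈ p) : ∃ s ∉ p, ∃ n : ℕ, s * x ^ n ∈ I := by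
  obtain ⟨⟨hp₁, hp₂⟩, hp₃⟩ := hp
  haveI := hp₁
  have : p.map (algebraMap A (Localization.AtPrime p)) ≤ (I.map (algebraMap _ _)).radical := by
    rw [Ideal.radical_eq_sInf, le_sInf_iff]
    rintro q ⟨hq', hq⟩
    obtain ⟨h₁, h₂⟩ := ((IsLocalization.AtPrime.orderIsoOfPrime _ p) ⟨q, hq⟩).2
    rw [Ideal.map_le_iff_le_comap] at hq' ⊢
    exact hp₃ ⟨h₁, hq'⟩ h₂
  obtain ⟨n, hn⟩ := this (Ideal.mem_map_of_mem _ hx)
  rw [IsLocalization.mem_map_algebraMap_iff (M := p.primeCompl)] at hn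
  obtain ⟨⟨a, b⟩, hn⟩ := hn
  rw [← map_pow, ← map_mul, IsLocalization.eq_iff_exists p.primeCompl] at hn
  obtain ⟨t, ht⟩ := hn
  simp only at ht
  refine ⟨t * b, (t * b).2, n, ?_⟩
  have : (t : A) * (b : A) * x ^ n = (t : A) * (a : A) := by
    rw [← ht]; ring
  change (t : A) * (b : A) * x ^ n ∈ I
  rw [this]
  exact I.mul_mem_left _ a.2

/-- in a reduced ring, a prime minimal over the annihilator of an element is a minimal prime. -/
theorem mem_minimalPrimes_of_isReduced [IsReduced A] {I p : Ideal A} (a : A)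
    (hI : ∀ b, b ∈ I ↔ b * a = 0) (hp : p ∈ I.minimalPrimes) : p ∈ minimalPrimes A := by
  have hpr : p.IsPrime := hp.1.1
  have key : ∀ x ∈ p, ∃ s ∉ p, s * x * a = 0 := by
    intro x hx
    obtain ⟨s, hs, n, h⟩ := exists_mul_pow_mem_of_mem_minimalPrimes hp hx
    refine ⟨s, hs, ?_⟩
    have h0 : s * x ^ n * a = 0 := (hI _).1 h
    have h1 : (s * x * a) ^ (n + 1) = 0 := by
      have : (s * x * a) ^ (n + 1) = (s * x ^ n * a) * (s ^ n * x * a ^ n) := by ring
      rw [this, h0, zero_mul]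
    exact IsReduced.eq_zero _ ⟨n + 1, h1⟩
  have ha : a ∉ p := by
    intro hap
    obtain ⟨s, hs, h⟩ := key a hap
    have h1 : (s * a) ^ 2 = 0 := by
      have : (s * a) ^ 2 = s * (s * a * a) := by ring
      rw [this, h, mul_zero]
    have h2 : s * a = 0 := IsReduced.eq_zero _ ⟨2, h1⟩
    exact hs (hp.1.2 ((hI s).2 h2))
  refine ⟨⟨hpr, bot_le⟩, ?_⟩
  rintro q ⟨hq, -⟩ hqp x hx
  obtain ⟨s, hs, h⟩ := key x hx
  have h1 : (s * a) * x ∈ q := by
    have : (s * a) * x = s * x * a := by ring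
    rw [this, h]; exact q.zero_mem
  rcases hq.mem_or_mem h1 with h2 | h2
  · rcases hq.mem_or_mem h2 with h3 | h3
    · exact absurd (hqp h3) hs
    · exact absurd (hqp h3) ha
  · exact h2

end Alg

section Mod

variable {A R : Type*} [CommRing A] [Ring R] (φ : A →+* R)

/-- the annihilator (an ideal of `A`) of an element of an `R`-module, through `φ : A →+* R`. -/
def ann {M : Type*} [AddCommGroup M] [Module R M] (m : M) : Ideal A :=
  Ideal.comap φ (LinearMap.ker (LinearMap.toSpanSingleton R M m))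

theorem mem_ann_iff {M : Type*} [AddCommGroup M] [Module R M] (m : M) (a : A) :
    a ∈ ann φ m ↔ φ a • m = 0 := Iff.rfl

theorem ann_eq_top_iff {M : Type*} [AddCommGroup M] [Module R M] (m : M) :
    ann φ m = ⊤ ↔ m = 0 := by
  constructor
  · intro h
    have : (1 : A) ∈ ann φ m := by rw [h]; trivial
    rw [mem_ann_iff, map_one, one_smul] at this
    exact this
  · rintro rfl
    rw [Ideal.eq_top_iff_one, mem_ann_iff, smul_zero]

variable {M₁ M₂ M₃ : Type*} [AddCommGroup M₁] [Module R M₁] [AddCommGroup M₂] [Module R M₂]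
  [AddCommGroup M₃] [Module R M₃]

theorem ann_map_of_injective (f : M₁ →ₗ[R] M₂) (hf : Function.Injective f) (m : M₁) :
    ann φ (f m) = ann φ m := by
  ext a
  rw [mem_ann_iff, mem_ann_iff, ← map_smul]
  exact ⟨fun h => hf (by rw [h, map_zero]), fun h => by rw [h, map_zero]⟩

theorem ann_le_ann_map (g : M₂ →ₗ[R] M₃) (m : M₂) : ann φ m ≤ ann φ (g m) := by
  intro a ha
  rw [mem_ann_iff] at ha ⊢
  rw [← map_smul, ha, map_zero]

/-- the two-out-of-three lemma for weakly associated primes in a left exact sequence. -/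
theorem mem_minimalPrimes_of_exact (f : M₁ →ₗ[R] M₂) (g : M₂ →ₗ[R] M₃)
    (hf : Function.Injective f) (hex : ∀ m, g m = 0 → ∃ m₁, f m₁ = m)
    (m : M₂) {p : Ideal A} (hp : p ∈ (ann φ m).minimalPrimes) :
    p ∈ (ann φ (g m)).minimalPrimes ∨ ∃ m₁ : M₁, p ∈ (ann φ m₁).minimalPrimes := by
  have hpr : p.IsPrime := hp.1.1
  by_cases hle : ann φ (g m) ≤ p
  · left
    refine ⟨⟨hpr, hle⟩, ?_⟩
    rintro q ⟨hq, hq'⟩ hqp
    exact hp.2 ⟨hq, (ann_le_ann_map φ g m).trans hq'⟩ hqp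
  · right
    obtain ⟨t, ht, htp⟩ := SetLike.not_le_iff_exists.1 hle
    rw [mem_ann_iff, ← map_smul] at ht
    obtain ⟨m₁, hm₁⟩ := hex _ ht
    refine ⟨m₁, ?_⟩
    have hann : ∀ b, b ∈ ann φ m₁ ↔ b * t ∈ ann φ m := by
      intro b
      rw [← ann_map_of_injective φ f hf, hm₁, mem_ann_iff, mem_ann_iff, smul_smul, map_mul]
    refine ⟨⟨hpr, ?_⟩, ?_⟩
    · intro b hb
      have := hp.1.2 ((hann b).1 hb)
      exact (hpr.mem_or_mem this).resolve_right htp
    · rintro q ⟨hq, hq'⟩ hqp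
      refine hp.2 ⟨hq, ?_⟩ hqp
      intro b hb
      refine hq' ((hann b).2 ?_)
      exact Ideal.mul_mem_right _ _ hb

end Mod

end Groth.Agent.H7.WeakAss
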