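import Groth.Prelude.Def_AlgSpModX
import Groth.Agent.Lib.Helper7.WeakAssA
import Mathlib

/-!
# Weakly associated points on the small étale site: points and primes of affine charts
-/

set_option autoImplicit false
universe u
open CategoryTheory CategoryTheory.Limits AlgebraicGeometry Opposite

namespace Groth.Agent.H7.WeakAss

open _root_.AlgSp

theorem primeAtPt_eq (U : Scheme.{u}) [IsAffine U] (u : U) :
    primeAtPt U u = ((isAffineOpen_top U).primeIdealOf ⟨u, trivial⟩).asIdeal := by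
  rw [IsAffineOpen.primeIdealOf_eq_map_closedPoint]
  rfl

theorem exists_primeAtPt_eq (U : Scheme.{u}) [IsAffine U] (p : Ideal Γ(U, ⊤)) [hp : p.IsPrime] :
    ∃ u : U, primeAtPt U u = p := by
  have hU := isAffineOpen_top U
  refine ⟨hU.fromSpec ⟨p, hp⟩, ?_⟩
  rw [primeAtPt_eq]
  have h1 := hU.fromSpec_primeIdealOf ⟨hU.fromSpec ⟨p, hp⟩, trivial⟩
  have h2 : hU.primeIdealOf ⟨hU.fromSpec ⟨p, hp⟩, trivial⟩ = ⟨p, hp⟩ :=
    hU.fromSpec.isOpenEmbedding.injective h1
  rw [h2]

theorem ringKrullDim_stalk_eq_zero_iff (U : Scheme.{u}) [IsAffine U] (u : U) :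
    ringKrullDim (U.presheaf.stalk u) = 0 ↔ primeAtPt U u ∈ minimalPrimes Γ(U, ⊤) := by
  have hU := isAffineOpen_top U
  letI : Algebra Γ(U, ⊤) (U.presheaf.stalk u) :=
    TopCat.Presheaf.algebra_section_stalk U.presheaf (⟨u, trivial⟩ : (⊤ : U.Opens))
  haveI hloc : IsLocalization.AtPrime (U.presheaf.stalk u)
      (hU.primeIdealOf ⟨u, trivial⟩).asIdeal := hU.isLocalization_stalk ⟨u, trivial⟩
  rw [IsLocalization.AtPrime.ringKrullDim_eq_height
    (hU.primeIdealOf ⟨u, trivial⟩).asIdeal (U.presheaf.stalk u), primeAtPt_eq]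
  rw [← Ideal.height_eq_zero_iff]
  exact_mod_cast Iff.rfl

end Groth.Agent.H7.WeakAss
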