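import Groth.Agent.Lib.Helper7.WeakAssB
import Groth.Agent.Lib.Helper5.AlgSp.PointsTop
import Groth.Agent.Lib.Helper5.AlgSp.ImmersionDense
import Mathlib

/-!
# Weakly associated points of a reduced algebraic space are the codimension 0 points (S10805)
-/

set_option autoImplicit false
universe u
open CategoryTheory CategoryTheory.Limits AlgebraicGeometry Opposite

namespace Groth.Agent.H7.WeakAss

open _root_.AlgSp Groth.Agent.H5.AlgSp

variable {S : Scheme.{u}}

/-- the annihilator of a section of the structure sheaf. -/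
theorem mem_annSect_unit_iff {X : Sp S} (E : EtOver X) (s : sectModEt (unitModEt X) E)
    (b : Γ(E.obj.left.left, ⊤)) :
    b ∈ annSect s ↔ b * (ULift.down (show ULift.{u + 1} Γ(E.obj.left.left, ⊤) from s)) = 0 := by
  rw [mem_annSect_iff]
  constructor
  · intro h
    exact congrArg ULift.down h
  · intro h
    exact ULift.ext _ _ h

/-- S10805. -/
theorem S10805_main (X : AlgSp.Space S) (hX : AlgSp.IsReducedSp X.obj) (x : AlgSp.Points X.obj) :
    x ∈ AlgSp.WeakAssEt (AlgSp.unitModEt X.obj) ↔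
      AlgSp.HasAt (fun U u => ringKrullDim ↥(U.presheaf.stalk u) = 0) X.obj x := by
  constructor
  · rintro ⟨E, hE, u, hu, s, hs⟩
    haveI := hE
    haveI : IsReduced E.obj.left.left :=
      Groth.Agent.H5.AlgSp.isReduced_of_etale_of_isReducedSp hX E.obj.hom E.property
    refine ⟨E.obj.left, E.obj.hom, u, E.property, hu, ?_⟩
    change ringKrullDim ↥(E.obj.left.left.presheaf.stalk u) = 0
    rw [ringKrullDim_stalk_eq_zero_iff]
    exact mem_minimalPrimes_of_isReduced _ (mem_annSect_unit_iff E s) hs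
  · rintro ⟨U, a, u, ha, hu, hdim⟩
    obtain ⟨W0, hW0, huW, -⟩ := U.left.isBasis_affineOpens.exists_subset_of_mem_open
      (Set.mem_univ u) isOpen_univ
    obtain ⟨W', hW, rfl⟩ := hW0
    obtain ⟨W, rfl⟩ : ∃ W : U.left.Opens, W = W' := ⟨W', rfl⟩
    let E : EtOver X.obj :=
      EtOver.mk ((yon S).map (overOpenι U W) ≫ a) (repWith_etale_restrict ha W)
    haveI hWa : IsAffine (W : Scheme.{u}) := hW
    haveI hEa : IsAffine E.obj.left.left := hWa
    refine ⟨E, hEa, (⟨u, huW⟩ : ↥W), ?_, ?_⟩
    · change Points.ofPt ((yon S).map (overOpenι U W) ≫ a) (⟨u, huW⟩ : ↥W) = x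
      rw [ofPt_restrict]; exact hu
    · have hst : ringKrullDim ↥((W : Scheme.{u}).presheaf.stalk (⟨u, huW⟩ : ↥W)) = 0 := by
        have e := (asIso (W.ι.stalkMap (⟨u, huW⟩ : ↥W))).commRingCatIsoToRingEquiv
        rw [← hdim]
        exact (ringKrullDim_eq_of_ringEquiv e).symm
      have hmin : primeAtPt (W : Scheme.{u}) (⟨u, huW⟩ : ↥W) ∈ minimalPrimes Γ((W : Scheme.{u}), ⊤) :=
        (ringKrullDim_stalk_eq_zero_iff (W : Scheme.{u}) _).1 hst
      let s : sectModEt (unitModEt X.obj) E :=
        (show ULift.{u + 1} Γ(E.obj.left.left, ⊤) from ULift.up 1)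
      refine ⟨s, ?_⟩
      have hann : annSect s = ⊥ := by
        ext b
        rw [mem_annSect_unit_iff, Ideal.mem_bot]
        change b * 1 = 0 ↔ b = 0
        rw [mul_one]
      rw [hann]
      exact hmin

end Groth.Agent.H7.WeakAss
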