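import Groth.Agent.Lib.Helper7.WeakAssB
import Groth.Agent.Lib.Helper5.AlgSp.PointsTop
import Mathlib

/-!
# A module on the small étale site is zero iff it has no weakly associated points (S10810)
-/

set_option autoImplicit false
universe u
open CategoryTheory CategoryTheory.Limits AlgebraicGeometry Opposite

namespace Groth.Agent.H7.WeakAss

open _root_.AlgSp Groth.Agent.H5.AlgSp

variable {S : Scheme.{u}} {X : Sp S}

theorem annSect_eq_ann {M : ModEt X} {E : EtOver X} (s : sectModEt M E) :
    annSect s = ann (upΓ E) s := rfl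

/-- over an affine object, a section of a module without weakly associated points vanishes. -/
theorem sect_eq_zero_of_isAffine (M : ModEt X) (h : WeakAssEt M = ∅) (E : EtOver X)
    [IsAffine E.obj.left.left] (s : sectModEt M E) : s = 0 := by
  by_contra hs
  have hne : annSect s ≠ ⊤ := fun htop => hs ((ann_eq_top_iff (upΓ E) s).1 htop)
  obtain ⟨⟨p, hp⟩⟩ := Ideal.nonempty_minimalPrimes hne
  haveI := hp.1.1
  obtain ⟨u, hu⟩ := exists_primeAtPt_eq E.obj.left.left p
  have : Points.ofPt E.obj.hom u ∈ WeakAssEt M :=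
    ⟨E, inferInstance, u, rfl, s, by rw [hu]; exact hp⟩
  rw [h] at this
  exact this

theorem isSheaf_forget_modEt (M : ModEt X) :
    Presieve.IsSheaf (etTop X) (M.val.presheaf ⋙ forget AddCommGrpCat.{u + 1}) :=
  (isSheaf_iff_isSheaf_of_type _ _).1
    ((Presheaf.isSheaf_iff_isSheaf_forget (etTop X) M.val.presheaf
      (forget AddCommGrpCat.{u + 1})).1 M.isSheaf)

/-- the restriction of an object of the small étale site to an open subscheme. -/
noncomputable abbrev restrictObj (E : EtOver X) (W : E.obj.left.left.Opens) : EtOver X :=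
  EtOver.mk ((yon S).map (overOpenι E.obj.left W) ≫ E.obj.hom)
    (repWith_etale_restrict E.property W)

/-- the inclusion of the restriction. -/
noncomputable abbrev restrictHom (E : EtOver X) (W : E.obj.left.left.Opens) :
    restrictObj E W ⟶ E :=
  EtOver.homMk (overOpenι E.obj.left W) rfl

/-- a section of a module without weakly associated points vanishes. -/
theorem sect_eq_zero (M : ModEt X) (h : WeakAssEt M = ∅) (E : EtOver X)
    (s : sectModEt M E) : s = 0 := by
  let Yf : E.obj.left.left.affineOpens → EtOver X := fun W => restrictObj E W.1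
  let gf : ∀ W, Yf W ⟶ E := fun W => restrictHom E W.1
  have hcov : Sieve.ofArrows Yf gf ∈ etTop X E := by
    refine ofArrows_mem_etTop Yf gf fun x => ?_
    obtain ⟨W0, hW0, hxW, -⟩ := E.obj.left.left.isBasis_affineOpens.exists_subset_of_mem_open
      (Set.mem_univ x) isOpen_univ
    obtain ⟨W, hW, rfl⟩ := hW0
    refine ⟨⟨W, hW⟩, ⟨x, hxW⟩, rfl⟩
  have hsub : ∀ W, Subsingleton (sectModEt M (Yf W)) := by
    intro W
    haveI : IsAffine (Yf W).obj.left.left := W.2
    exact ⟨fun a b => (sect_eq_zero_of_isAffine M h (Yf W) a).trans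
      (sect_eq_zero_of_isAffine M h (Yf W) b).symm⟩
  have hsh := isSheaf_forget_modEt M (Sieve.ofArrows Yf gf) hcov
  refine hsh.isSeparatedFor.ext (t₁ := s) (t₂ := (0 : sectModEt M E)) ?_
  rintro Z k ⟨W, a, c, ⟨e⟩, rfl⟩
  rw [op_comp, FunctorToTypes.map_comp_apply, FunctorToTypes.map_comp_apply]
  congr 1
  haveI := hsub e
  exact Subsingleton.elim (α := sectModEt M (Yf e)) _ _

theorem sect_eq_zero_of_isZero (M : ModEt X) (hM : IsZero M) (E : EtOver X)
    (s : sectModEt M E) : s = 0 := by
  have h1 := hM.eq_of_src (𝟙 M) 0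
  have h2 := congrArg (fun f : M ⟶ M => (f.val.app (op E)).hom s) h1
  exact h2

theorem isZero_of_sect_eq_zero (M : ModEt X) (h : ∀ (E : EtOver X) (s : sectModEt M E), s = 0) :
    IsZero M := by
  rw [IsZero.iff_id_eq_zero]
  apply SheafOfModules.hom_ext
  apply PresheafOfModules.hom_ext
  intro E
  ext s
  exact (h E.unop _).trans (h E.unop _).symm

/-- S10810. -/
theorem S10810_main (X : AlgSp.Space S) (M : AlgSp.ModEt X.obj) :
    IsZero M ↔ AlgSp.WeakAssEt M = ∅ := by
  constructor
  · intro hM
    rw [Set.eq_empty_iff_forall_notMem]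
    rintro x ⟨E, hE, u, -, s, hs⟩
    have hs0 := sect_eq_zero_of_isZero M hM E s
    have : annSect s = ⊤ := (ann_eq_top_iff (upΓ E) s).2 hs0
    rw [this, Ideal.minimalPrimes_top] at hs
    exact hs
  · intro h
    exact isZero_of_sect_eq_zero M (sect_eq_zero M h)

end Groth.Agent.H7.WeakAss
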