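import Groth.Agent.Lib.Helper7.WeakAssD
import Mathlib

/-!
# Weakly associated points in short exact sequences (S10811)
-/

set_option autoImplicit false
universe u
open CategoryTheory CategoryTheory.Limits AlgebraicGeometry Opposite

namespace Groth.Agent.H7.WeakAss

open _root_.AlgSp Groth.Agent.H5.AlgSp

variable {S : Scheme.{u}} {X : Sp S}

/-- left exactness of sections for a short exact sequence of modules. -/
theorem sections_exact (C : ShortComplex (ModEt X)) (hC : C.ShortExact) (E : EtOver X) :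
    Function.Injective ((C.f.val.app (op E)).hom) ∧
      ∀ m, (C.g.val.app (op E)).hom m = 0 → ∃ m₁, (C.f.val.app (op E)).hom m₁ = m := by
  have hmono := hC.mono_f
  let F := SheafOfModules.evaluation (OEtRing X) (op E)
  haveI : F.PreservesZeroMorphisms := ⟨fun _ _ => rfl⟩
  have hex : (C.map F).Exact := hC.exact.map_of_mono_of_preservesKernel F hmono inferInstance
  haveI : Mono (F.map C.f) := inferInstance
  refine ⟨(ModuleCat.mono_iff_injective _).1 this, ?_⟩
  intro m hm
  exact (ShortComplex.moduleCat_exact_iff _).1 hex m hm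

/-- S10811. -/
theorem S10811_main (X : AlgSp.Space S) (C : ShortComplex (AlgSp.ModEt X.obj))
    (hC : C.ShortExact) :
    AlgSp.WeakAssEt C.X₂ ⊆ AlgSp.WeakAssEt C.X₁ ∪ AlgSp.WeakAssEt C.X₃ ∧
      AlgSp.WeakAssEt C.X₁ ⊆ AlgSp.WeakAssEt C.X₂ := by
  constructor
  · rintro x ⟨E, hE, u, hu, s, hs⟩
    obtain ⟨hinj, hex⟩ := sections_exact C hC E
    rcases mem_minimalPrimes_of_exact (upΓ E) (C.f.val.app (op E)).hom (C.g.val.app (op E)).hom
      hinj hex s hs with h | ⟨m₁, h⟩
    · exact Or.inr ⟨E, hE, u, hu, (C.g.val.app (op E)).hom s, h⟩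
    · exact Or.inl ⟨E, hE, u, hu, m₁, h⟩
  · rintro x ⟨E, hE, u, hu, s, hs⟩
    obtain ⟨hinj, -⟩ := sections_exact C hC E
    refine ⟨E, hE, u, hu, (C.f.val.app (op E)).hom s, ?_⟩
    rw [annSect_eq_ann, ann_map_of_injective (upΓ E) _ hinj, ← annSect_eq_ann]
    exact hs

end Groth.Agent.H7.WeakAss
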