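import Mathlib

set_option autoImplicit false

namespace Groth.Agent.H7.WeakDim

open TensorProduct

/-- If all ideals of `A` are flat, submodules of flat modules are flat. -/
theorem flat_submodule {A : Type*} [CommRing A] (hA : ∀ I : Ideal A, Module.Flat A I)
    {F : Type*} [AddCommGroup F] [Module A F] [Module.Flat A F] (N : Submodule A F) :
    Module.Flat A N := by
  rw [Module.Flat.iff_lTensor_injective']
  intro I
  haveI := hA I
  have h1 : Function.Injective (LinearMap.rTensor I N.subtype) :=
    Module.Flat.rTensor_preserves_injective_linearMap _ N.injective_subtype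
  have h2 : Function.Injective (LinearMap.lTensor F I.subtype) :=
    Module.Flat.lTensor_preserves_injective_linearMap _ I.injective_subtype
  have h3 : (LinearMap.rTensor A N.subtype) ∘ₗ (LinearMap.lTensor N I.subtype) =
      (LinearMap.lTensor F I.subtype) ∘ₗ (LinearMap.rTensor I N.subtype) := by
    ext
    simp
  refine Function.Injective.of_comp (f := LinearMap.rTensor A N.subtype) ?_
  rw [← LinearMap.coe_comp, h3]
  exact h2.comp h1

universe u

theorem main (A B : Type u) [CommRing A] [CommRing B] [Algebra A B]
    (hA : ∀ I : Ideal A, Module.Flat A I) [Module.Flat A B]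
    (hinj : Function.Injective (algebraMap A B))
    (hepi : CategoryTheory.Epi (CommRingCat.ofHom (algebraMap A B))) :
    IsIntegrallyClosedIn A B := by
  rw [isIntegrallyClosedIn_iff]
  refine ⟨hinj, fun {x} hx => ?_⟩
  have hepi' : Algebra.IsEpi A B := CommRingCat.epi_iff_epi.mp hepi
  let C : Subalgebra A B := Algebra.adjoin A {x}
  haveI : Module.Finite A C := Module.Finite.iff_fg.mpr hx.fg_adjoin_singleton
  haveI : Module.Flat A C := flat_submodule hA (Subalgebra.toSubmodule C)
  have hCepi : Algebra.IsEpi A C := by
    rw [Algebra.isEpi_iff_forall_one_tmul_eq]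
    intro c
    have hmapinj : Function.Injective (TensorProduct.map C.val.toLinearMap C.val.toLinearMap) :=
      TensorProduct.map_injective_of_flat_flat _ _ Subtype.val_injective Subtype.val_injective
    apply hmapinj
    simp only [TensorProduct.map_tmul, AlgHom.toLinearMap_apply, Subalgebra.coe_val, map_one]
    exact (Algebra.isEpi_iff_forall_one_tmul_eq A B).mp hepi' c
  have hsurj := Algebra.isEpi_iff_surjective_algebraMap_of_finite.mp hCepi
  obtain ⟨a, ha⟩ := hsurj ⟨x, Algebra.subset_adjoin (Set.mem_singleton x)⟩
  exact ⟨a, congrArg Subtype.val ha⟩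

end Groth.Agent.H7.WeakDim
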