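import Mathlib

/-! The projective Weierstrass cubic is irreducible over every field (helper7). -/

set_option autoImplicit false

namespace Groth.Agent.H7.WeierIrr

open MvPolynomial

variable {k : Type*} [Field k]

/-- `θ : z ↦ 0, y ↦ y` -/
noncomputable def theta : MvPolynomial (Fin 2) k →ₐ[k] MvPolynomial (Fin 2) k :=
  aeval ![X 0, 0]

@[simp] lemma theta_X0 : theta (X 0 : MvPolynomial (Fin 2) k) = X 0 := by simp [theta]
@[simp] lemma theta_X1 : theta (X 1 : MvPolynomial (Fin 2) k) = 0 := by simp [theta]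
@[simp] lemma theta_C (a : k) : theta (C a : MvPolynomial (Fin 2) k) = C a := by simp [theta]

lemma sub_theta_mem (p : MvPolynomial (Fin 2) k) :
    p - theta p ∈ Ideal.span {(X 1 : MvPolynomial (Fin 2) k)} := by
  have h : (Ideal.Quotient.mkₐ k (Ideal.span {(X 1 : MvPolynomial (Fin 2) k)})).comp theta =
      Ideal.Quotient.mkₐ k _ := by
    apply MvPolynomial.algHom_ext
    intro i
    fin_cases i
    · simp
    · simp only [Fin.mk_one, AlgHom.comp_apply, theta_X1, map_zero]
      symm
      exact Ideal.Quotient.eq_zero_iff_mem.2 (Ideal.mem_span_singleton_self _)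
  have h2 := congrArg (fun f => f p) h
  simp only [AlgHom.comp_apply, Ideal.Quotient.mkₐ_eq_mk] at h2
  rw [← Ideal.Quotient.eq_zero_iff_mem, map_sub, sub_eq_zero]
  exact h2.symm

theorem irreducible (W : WeierstrassCurve k) :
    Irreducible (WeierstrassCurve.Projective.polynomial W) := by
  set e := MvPolynomial.finSuccEquiv k 2 with he
  set y : MvPolynomial (Fin 2) k := X 0 with hy
  set z : MvPolynomial (Fin 2) k := X 1 with hz
  set q : Polynomial (MvPolynomial (Fin 2) k) :=
    Polynomial.C (C W.a₂ * z) * Polynomial.X ^ 2 +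
      Polynomial.C (C W.a₄ * z ^ 2 - C W.a₁ * y * z) * Polynomial.X -
      Polynomial.C (y ^ 2 * z + C W.a₃ * y * z ^ 2 - C W.a₆ * z ^ 3) with hq
  have h0 : e (X 0) = Polynomial.X := finSuccEquiv_X_zero
  have h1 : e (X 1) = Polynomial.C y := finSuccEquiv_X_succ (j := 0)
  have h2 : e (X 2) = Polynomial.C z := finSuccEquiv_X_succ (j := 1)
  have hC : ∀ a : k, e (C a) = Polynomial.C (C a) := fun a => by
    rw [he, finSuccEquiv_apply]; simp
    done
  have hep : e (WeierstrassCurve.Projective.polynomial W) = -(Polynomial.X ^ 3 + q) := by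
    rw [WeierstrassCurve.Projective.polynomial]
    simp only [map_sub, map_add, map_mul, map_pow, h0, h1, h2, hC, hq]
    ring
  have hqdeg : q.degree < ((3 : ℕ) : WithBot ℕ) := by
    have : q.degree ≤ 2 := by rw [hq]; compute_degree
    exact lt_of_le_of_lt this (by norm_num)
  have hmonic : (Polynomial.X ^ 3 + q).Monic := Polynomial.monic_X_pow_add hqdeg
  have hnat : (Polynomial.X ^ 3 + q).natDegree = 3 := by
    rw [Polynomial.natDegree_add_eq_left_of_degree_lt, Polynomial.natDegree_X_pow]
    rw [Polynomial.degree_X_pow]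
    exact hqdeg
  have hirr : Irreducible (Polynomial.X ^ 3 + q) := by
    rw [hmonic.irreducible_iff_roots_eq_zero_of_degree_le_three (by omega) (by omega)]
    apply Multiset.eq_zero_of_forall_notMem
    intro r hr
    rw [Polynomial.mem_roots hmonic.ne_zero, Polynomial.IsRoot.def] at hr
    simp only [hq, Polynomial.eval_add, Polynomial.eval_sub, Polynomial.eval_mul,
      Polynomial.eval_pow, Polynomial.eval_X, Polynomial.eval_C] at hr
    -- apply θ
    have hθ := congrArg theta hr
    simp only [map_add, map_sub, map_mul, map_pow, hy, hz, theta_X0, theta_X1, theta_C,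
      map_zero] at hθ
    have hθr : theta r = 0 := by
      have : theta r ^ 3 = 0 := by
        have h3 : (0 : MvPolynomial (Fin 2) k) ^ 2 = 0 := by norm_num
        have h4 : (0 : MvPolynomial (Fin 2) k) ^ 3 = 0 := by norm_num
        simpa [h3, h4] using hθ
      exact pow_eq_zero_iff (by norm_num) |>.1 this
    have hmem := sub_theta_mem r
    rw [hθr, sub_zero, Ideal.mem_span_singleton'] at hmem
    obtain ⟨s, hs⟩ := hmem
    have hz0 : z ≠ 0 := X_ne_zero 1
    have hE : z * (z ^ 2 * s ^ 3 + C W.a₂ * z ^ 2 * s ^ 2 + (C W.a₄ * z - C W.a₁ * y) * z * s -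
        (y ^ 2 + C W.a₃ * y * z - C W.a₆ * z ^ 2)) = 0 := by
      rw [← hr, ← hs, hz]
      ring
    have hE' := (mul_eq_zero.1 hE).resolve_left hz0
    have hθ2 := congrArg theta hE'
    simp only [map_add, map_sub, map_mul, map_pow, hy, hz, theta_X0, theta_X1, theta_C,
      map_zero] at hθ2
    have hy2 : (X 0 : MvPolynomial (Fin 2) k) ^ 2 = 0 := by
      have h3 : (0 : MvPolynomial (Fin 2) k) ^ 2 = 0 := by norm_num
      simpa [h3] using hθ2
    exact X_ne_zero (0 : Fin 2) (pow_eq_zero_iff (by norm_num) |>.1 hy2)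
  have hirr2 : Irreducible (e (WeierstrassCurve.Projective.polynomial W)) := by
    rw [hep]
    have hassoc : Associated (-(Polynomial.X ^ 3 + q)) (Polynomial.X ^ 3 + q) :=
      ⟨-1, by simp⟩
    exact hassoc.irreducible_iff.2 hirr
  exact (MulEquiv.irreducible_iff e).1 hirr2

end Groth.Agent.H7.WeierIrr
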