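import Mathlib
open Polynomial
namespace Groth.Agent.H7.WeilQuad

lemma disc_neg (p r : ℕ) (hp : 2 ≤ p) (hr : 2 < r) : ((p : ℝ)) ^ 2 < 4 * (p : ℝ) ^ r := by
  have h1 : (p : ℝ) ^ 2 ≤ (p : ℝ) ^ r := by
    apply pow_le_pow_right₀ _ hr.le
    exact_mod_cast (by omega : 1 ≤ p)
  have h2 : (0 : ℝ) < (p : ℝ) ^ 2 := by positivity
  linarith

theorem part1 (p r : ℕ) (hp : 2 ≤ p) (hr : 2 < r) :
    Irreducible (X ^ 2 - C (p : ℚ) * X + C ((p : ℚ) ^ r)) := by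
  have hform : (X ^ 2 - C (p : ℚ) * X + C ((p : ℚ) ^ r) : ℚ[X]) =
      C 1 * X ^ 2 + C (-(p : ℚ)) * X + C ((p : ℚ) ^ r) := by
    rw [C_1, C_neg]; ring
  rw [hform]
  apply irreducible_of_degree_le_three_of_not_isRoot
  · rw [natDegree_quadratic one_ne_zero]; decide
  · intro x hx
    rw [IsRoot.def] at hx
    simp only [eval_add, eval_mul, eval_C, eval_pow, eval_X] at hx
    have hd := disc_neg p r hp hr
    have hxR : ((x : ℝ)) ^ 2 - (p : ℝ) * x + (p : ℝ) ^ r = 0 := by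
      have := congrArg (fun t : ℚ => (t : ℝ)) hx
      push_cast at this
      linarith
    nlinarith [sq_nonneg (2 * (x : ℝ) - p)]

theorem part2 (p r : ℕ) (hp : 2 ≤ p) (hr : 2 < r) (π : ℂ)
    (h : π ^ 2 - (p : ℂ) * π + (p : ℂ) ^ r = 0) : ‖π‖ = Real.sqrt ((p : ℝ) ^ r) := by
  have hd := disc_neg p r hp hr
  have hre := congrArg Complex.re h
  have him := congrArg Complex.im h
  have hq : ((p : ℂ) ^ r) = (((p : ℝ) ^ r : ℝ) : ℂ) := by push_cast; rfl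
  rw [hq] at hre him
  simp only [Complex.add_re, Complex.sub_re, Complex.mul_re, Complex.add_im, Complex.sub_im,
    Complex.mul_im, Complex.natCast_re, Complex.natCast_im, Complex.ofReal_re, Complex.ofReal_im,
    Complex.zero_re, Complex.zero_im, sq] at hre him
  rw [Complex.norm_eq_sqrt_sq_add_sq]
  congr 1
  set a := π.re
  set b := π.im
  set q := (p : ℝ) ^ r
  have hb : b * (2 * a - p) = 0 := by linarith
  rcases mul_eq_zero.mp hb with hb0 | ha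
  · exfalso
    rw [hb0] at hre
    nlinarith [sq_nonneg (2 * a - p)]
  · have ha' : a = p / 2 := by linarith
    rw [ha'] at hre ⊢
    nlinarith

theorem part3 (p r : ℕ) [Fact p.Prime] (hr : 2 < r) :
    ∃ a b : ℚ_[p], a ≠ b ∧ a ^ 2 - (p : ℚ_[p]) * a + (p : ℚ_[p]) ^ r = 0 ∧
        b ^ 2 - (p : ℚ_[p]) * b + (p : ℚ_[p]) ^ r = 0 ∧ a.valuation = 1 ∧
        b.valuation = (r : ℤ) - 1 := by
  have hp : p.Prime := Fact.out
  let F : Polynomial ℤ_[p] := X ^ 2 - X + C ((p : ℤ_[p]) ^ (r - 2))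
  have hF1 : F.aeval (1 : ℤ_[p]) = (p : ℤ_[p]) ^ (r - 2) := by
    simp [F]
  have hF'1 : F.derivative.aeval (1 : ℤ_[p]) = 1 := by
    show (derivative (X ^ 2 - X + C ((p : ℤ_[p]) ^ (r - 2)))).aeval (1 : ℤ_[p]) = 1
    rw [derivative_add, derivative_sub, derivative_C, derivative_X, derivative_X_pow]
    simp
    norm_num
  have hnorm : ‖F.aeval (1 : ℤ_[p])‖ < ‖F.derivative.aeval (1 : ℤ_[p])‖ ^ 2 := by
    rw [hF1, hF'1, norm_one, one_pow, norm_pow, PadicInt.norm_p]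
    apply pow_lt_one₀ (by positivity)
    · apply inv_lt_one_of_one_lt₀
      exact_mod_cast hp.one_lt
    · omega
  obtain ⟨y₁, hy₁, hy₁1, -, -⟩ := hensels_lemma hnorm
  rw [hF'1, norm_one] at hy₁1
  have hy₁eq : y₁ ^ 2 - y₁ + (p : ℤ_[p]) ^ (r - 2) = 0 := by
    simpa [F] using hy₁
  have hy₁norm : ‖y₁‖ = 1 := by
    have h1 : y₁ = 1 + (y₁ - 1) := by ring
    have h2 : ‖(1 : ℤ_[p])‖ = 1 := norm_one
    rw [h1]
    have := PadicInt.norm_add_eq_max_of_ne (p := p) (q := (1 : ℤ_[p])) (r := y₁ - 1)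
      (by rw [h2]; exact hy₁1.ne')
    rw [this, h2]
    exact max_eq_left hy₁1.le
  set y₂ : ℤ_[p] := 1 - y₁ with hy₂
  have hprod : y₁ * y₂ = (p : ℤ_[p]) ^ (r - 2) := by
    rw [hy₂]; linear_combination -hy₁eq
  have hy₂eq : y₂ ^ 2 - y₂ + (p : ℤ_[p]) ^ (r - 2) = 0 := by
    rw [hy₂]; linear_combination hy₁eq
  -- in ℚ_p
  have hpQ : (p : ℚ_[p]) ≠ 0 := by exact_mod_cast hp.ne_zero
  have hy₁Q : (y₁ : ℚ_[p]) ≠ 0 := by
    intro h0
    have : ‖(y₁ : ℚ_[p])‖ = 1 := by rw [PadicInt.padic_norm_e_of_padicInt]; exact hy₁norm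
    rw [h0, norm_zero] at this
    exact zero_ne_one this
  have hprodQ : (y₁ : ℚ_[p]) * (y₂ : ℚ_[p]) = (p : ℚ_[p]) ^ (r - 2) := by
    exact_mod_cast congrArg (fun t : ℤ_[p] => (t : ℚ_[p])) hprod
  have hy₂Q : (y₂ : ℚ_[p]) ≠ 0 := by
    intro h0
    rw [h0, mul_zero] at hprodQ
    exact pow_ne_zero _ hpQ hprodQ.symm
  have hv1 : (y₁ : ℚ_[p]).valuation = 0 := by
    have h1 := Padic.norm_eq_zpow_neg_valuation hy₁Q
    have h2 : ‖(y₁ : ℚ_[p])‖ = 1 := by rw [PadicInt.padic_norm_e_of_padicInt]; exact hy₁norm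
    rw [h2] at h1
    have hp1 : (1 : ℝ) < p := by exact_mod_cast hp.one_lt
    have := (zpow_eq_one_iff_right₀ (by positivity) hp1.ne').mp h1.symm
    omega
  have hv2 : (y₂ : ℚ_[p]).valuation = (r : ℤ) - 2 := by
    have h1 := Padic.valuation_mul hy₁Q hy₂Q
    rw [hprodQ, Padic.valuation_pow, Padic.valuation_p, hv1] at h1
    have : ((r - 2 : ℕ) : ℤ) = (r : ℤ) - 2 := by omega
    rw [this] at h1
    linarith
  have hpr : (p : ℚ_[p]) ^ r = (p : ℚ_[p]) ^ 2 * (p : ℚ_[p]) ^ (r - 2) := by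
    rw [← pow_add]; congr 1; omega
  have hy₁eqQ : (y₁ : ℚ_[p]) ^ 2 - y₁ + (p : ℚ_[p]) ^ (r - 2) = 0 := by
    exact_mod_cast congrArg (fun t : ℤ_[p] => (t : ℚ_[p])) hy₁eq
  have hy₂eqQ : (y₂ : ℚ_[p]) ^ 2 - y₂ + (p : ℚ_[p]) ^ (r - 2) = 0 := by
    exact_mod_cast congrArg (fun t : ℤ_[p] => (t : ℚ_[p])) hy₂eq
  have hva : ((p : ℚ_[p]) * y₁).valuation = 1 := by
    rw [Padic.valuation_mul hpQ hy₁Q, Padic.valuation_p, hv1]; rfl
  have hvb : ((p : ℚ_[p]) * y₂).valuation = (r : ℤ) - 1 := by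
    rw [Padic.valuation_mul hpQ hy₂Q, Padic.valuation_p, hv2]; ring
  refine ⟨(p : ℚ_[p]) * y₁, (p : ℚ_[p]) * y₂, ?_, ?_, ?_, hva, hvb⟩
  · intro hab
    rw [hab, hvb] at hva
    omega
  · rw [hpr]; linear_combination (p : ℚ_[p]) ^ 2 * hy₁eqQ
  · rw [hpr]; linear_combination (p : ℚ_[p]) ^ 2 * hy₂eqQ

theorem main (p r : ℕ) [Fact p.Prime] (hr : 2 < r) :
    Irreducible (Polynomial.X ^ 2 - Polynomial.C (p : ℚ) * Polynomial.X + Polynomial.C ((p : ℚ) ^ r)) ∧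
      (∀ π : ℂ, π ^ 2 - (p : ℂ) * π + (p : ℂ) ^ r = 0 → ‖π‖ = Real.sqrt ((p : ℝ) ^ r)) ∧
      ∃ a b : ℚ_[p], a ≠ b ∧ a ^ 2 - (p : ℚ_[p]) * a + (p : ℚ_[p]) ^ r = 0 ∧
        b ^ 2 - (p : ℚ_[p]) * b + (p : ℚ_[p]) ^ r = 0 ∧ a.valuation = 1 ∧ b.valuation = (r : ℤ) - 1 := by
  have hp : 2 ≤ p := (Fact.out : p.Prime).two_le
  exact ⟨part1 p r hp hr, part2 p r hp hr, part3 p r hr⟩

end Groth.Agent.H7.WeilQuad
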