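import Groth.Agent.Lib.Helper7.FlatLocSp
import Groth.Agent.Lib.Helper5.AlgSp.OpenSub
import Groth.Agent.Lib.Helper5.AlgSp.OpenSubspace
import Mathlib

/-!
# Where is the base change of `X → Y` over `Z` flat (and surjective)? (S10642, S10643)
-/

set_option autoImplicit false
universe u

open AlgebraicGeometry CategoryTheory Limits

namespace Groth.Agent.H7.WhereFlat

open _root_.AlgSp Groth.Agent.H5.AlgSp Groth.Agent.H5.EtSrc Groth.Agent.H7.FlatLocBC
  Groth.Agent.H7.FlatLocSp Groth.Agent.H1.CritFib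

variable {S : Scheme.{u}} {X Y Z : Sp S}

theorem locP_flat_iff_forall_isFlatAtMor {f : X ⟶ Y} :
    LocP @Flat f ↔ ∀ x, IsFlatAtMor f x := by
  constructor
  · intro hf x U V a b k u ha hb comm _
    haveI : Flat k.left := hf a b k ha hb comm
    exact Flat.stalkMap k.left u
  · intro h U V a b k ha hb comm
    exact Flat.of_stalkMap (f := k.left) fun u => h (Points.ofPt a u) a b k u ha hb comm rfl

/-- the image in `Z` of the non-flat locus of `f`. -/
def badSet (f : X ⟶ Y) (q : Y ⟶ Z) : Set (Points Z) :=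
  Points.map (f ≫ q) '' {x | ¬ IsFlatAtMor f x}

section

variable (hX : IsAlgSpace X) (hY : IsAlgSpace Y) (hZ : IsAlgSpace Z) (f : X ⟶ Y) (q : Y ⟶ Z)
  (hp1 : LocP @LocallyOfFinitePresentation (f ≫ q)) (hp2 : LocP @Flat (f ≫ q))
  (hq : LocP @LocallyOfFiniteType q)

include hX hY hZ hp1 hq in
theorem isClosed_badSet (hp3 : IsClosedMor (f ≫ q)) : IsClosed (badSet f q) := by
  apply hp3
  exact (isOpen_flatLocus hX hY hZ f q hp1 hq).isClosed_compl

include hX hY hZ hp1 hp2 hq in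
theorem locP_flat_of_range_subset {X' Y' Z' : Sp S} (hZ' : IsAlgSpace Z') (g : Z' ⟶ Z)
    (f' : X' ⟶ Y') (q' : Y' ⟶ Z') (gX : X' ⟶ X) (gY : Y' ⟶ Y) (sqY : IsPullback gY q' q g)
    (sqX : IsPullback gX f' f gY) (hg : Set.range (Points.map g) ⊆ (badSet f q)ᶜ) :
    LocP @Flat f' := by
  rw [locP_flat_iff_forall_isFlatAtMor]
  intro x'
  rw [isFlatAtMor_baseChange_iff hX hY hZ f q hp1 hp2 hq hZ' g f' q' gX gY sqY sqX x']
  by_contra hx
  apply hg ⟨Points.map (f' ≫ q') x', rfl⟩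
  refine ⟨Points.map gX x', hx, ?_⟩
  rw [← Points.map_comp, ← Points.map_comp]
  refine congrArg (fun φ => Points.map φ x') ?_
  rw [← Category.assoc, sqX.w, Category.assoc, sqY.w, Category.assoc]

include hX hY hZ hp1 hp2 hq in
theorem range_subset_of_locP_flat {X' Y' Z' : Sp S} (hZ' : IsAlgSpace Z') (g : Z' ⟶ Z)
    (f' : X' ⟶ Y') (q' : Y' ⟶ Z') (gX : X' ⟶ X) (gY : Y' ⟶ Y) (sqY : IsPullback gY q' q g)
    (sqX : IsPullback gX f' f gY) (hf' : LocP @Flat f') :
    Set.range (Points.map g) ⊆ (badSet f q)ᶜ := by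
  rintro _ ⟨z', rfl⟩ ⟨x, hx, hxz⟩
  have big : IsPullback gX (f' ≫ q') (f ≫ q) g := sqX.paste_vert sqY
  obtain ⟨x', hx'1, hx'2⟩ := points_pullback_surjective big x z' hxz
  apply hx
  rw [← hx'1, ← isFlatAtMor_baseChange_iff hX hY hZ f q hp1 hp2 hq hZ' g f' q' gX gY sqY sqX x']
  exact (locP_flat_iff_forall_isFlatAtMor.1 hf') x'

include hX hY hZ hp1 hq in
/-- `f` is open on open sets of points at which it is flat. -/
theorem isOpen_image_of_flat (A : Set (Points X)) (hA : IsOpen A)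
    (hAf : ∀ x ∈ A, IsFlatAtMor f x) : IsOpen (Points.map f '' A) := by
  obtain ⟨W, c, hce, hcs⟩ := hZ.atlas
  obtain ⟨V, b, gV, hbe, hbs, comm₁⟩ := exists_chart_diagram_surj hY q hce hcs
  obtain ⟨U, a, k, cU, hae, comm₂, hcUe, hcUs, hcUa, hcUk⟩ := exists_chart_diagram hX f hbe
  have comm₃ : a ≫ f ≫ q = (yon S).map (k ≫ gV) ≫ c := by
    rw [← Category.assoc, comm₂, Category.assoc, comm₁, Functor.map_comp, Category.assoc]
  haveI i1 : LocallyOfFinitePresentation (k.left ≫ gV.left) := hp1 a c (k ≫ gV) hae hce comm₃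
  haveI i3 : LocallyOfFiniteType gV.left := hq b c gV hbe hce comm₁
  haveI i4 : LocallyOfFinitePresentation k.left :=
    locallyOfFinitePresentation_of_comp k.left gV.left
  have hq' := isQuotientMap_ofPt hbe hbs
  rw [← hq'.isOpen_preimage]
  have he : Points.ofPt b ⁻¹' (Points.map f '' A) = k.left '' (Points.ofPt a ⁻¹' A) := by
    ext v
    constructor
    · rintro ⟨x, hxA, hxv⟩
      obtain ⟨z, hz1, hz2⟩ := points_pullback_surjective (IsPullback.of_hasPullback f b) x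
        (Points.ofScheme V v) (by rw [hxv, Points.ofPt_eq_map_ofScheme])
      obtain ⟨u, hu⟩ := ofPt_surjective_of_repWith hcUs z
      refine ⟨u, ?_, ?_⟩
      · change Points.ofPt a u ∈ A
        have h0 : Points.map (pullback.fst f b) (Points.ofPt cU u) =
            Points.ofPt (cU ≫ pullback.fst f b) u := rfl
        have : Points.ofPt a u = x := by rw [← hcUa, ← h0, hu, hz1]
        rw [this]
        exact hxA
      · have h0 : Points.map (pullback.snd f b) (Points.ofPt cU u) =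
            Points.ofPt (cU ≫ pullback.snd f b) u := rfl
        have h1 : Points.ofPt ((yon S).map k) u = Points.ofScheme V v := by
          rw [← hcUk, ← h0, hu, hz2]
        have h2 := congrArg (Points.toScheme V) h1
        rwa [Points.toScheme_ofPt, Points.toScheme_ofScheme] at h2
    · rintro ⟨u, huA, rfl⟩
      refine ⟨Points.ofPt a u, huA, ?_⟩
      rw [Points.map_ofPt, comm₂, ofPt_yon_map_comp]
  rw [he]
  let A₁ : U.left.Opens := ⟨Points.ofPt a ⁻¹' A, (Points.continuous_ofPt a).isOpen_preimage A hA⟩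
  have hfl : Flat (A₁.ι ≫ k.left) := flat_restrict_of_forall k.left A₁ fun u hu =>
    (isFlatAtMor_iff_of_chart a b k hae hbe comm₂ u).1 (hAf _ hu)
  haveI := hfl
  have hr : k.left '' (Points.ofPt a ⁻¹' A) = Set.range (A₁.ι ≫ k.left) := by
    ext v
    constructor
    · rintro ⟨u, hu, rfl⟩
      exact ⟨⟨u, hu⟩, rfl⟩
    · rintro ⟨u', rfl⟩
      exact ⟨u'.1, u'.2, rfl⟩
  rw [hr]
  exact (A₁.ι ≫ k.left).isOpenMap.isOpen_range

omit hX hY hZ hp1 hp2 hq in
/-- surjectivity of the base change in terms of points. -/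
theorem isSurjectiveMor_baseChange_iff {X' Y' Z' : Sp S} (g : Z' ⟶ Z)
    (f' : X' ⟶ Y') (q' : Y' ⟶ Z') (gX : X' ⟶ X) (gY : Y' ⟶ Y) (sqY : IsPullback gY q' q g)
    (sqX : IsPullback gX f' f gY) :
    IsSurjectiveMor f' ↔ ∀ (z' : Points Z') (y : Points Y),
      Points.map q y = Points.map g z' → y ∈ Set.range (Points.map f) := by
  constructor
  · intro hs z' y hy
    obtain ⟨y', hy'1, hy'2⟩ := points_pullback_surjective sqY y z' hy
    obtain ⟨x', rfl⟩ := hs y'
    refine ⟨Points.map gX x', ?_⟩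
    rw [← hy'1, ← Points.map_comp, ← Points.map_comp, sqX.w]
  · intro h y'
    obtain ⟨x, hx⟩ := h (Points.map q' y') (Points.map gY y') (by
      rw [← Points.map_comp, ← Points.map_comp, sqY.w])
    obtain ⟨x', hx'1, hx'2⟩ := points_pullback_surjective sqX x y' hx
    exact ⟨x', hx'2⟩

/-- the open set of `Z` over which the base change is flat and surjective. -/
def goodSet₂ (f : X ⟶ Y) (q : Y ⟶ Z) : Set (Points Z) :=
  (badSet f q)ᶜ ∩
    (Points.map q '' (Points.map f '' (Points.map (f ≫ q) ⁻¹' (badSet f q)ᶜ))ᶜ)ᶜ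

omit hX hY hZ hp1 hp2 hq in
theorem flat_of_mem_preimage (x : Points X) (hx : x ∈ Points.map (f ≫ q) ⁻¹' (badSet f q)ᶜ) :
    IsFlatAtMor f x := by
  by_contra h
  exact hx ⟨x, h, rfl⟩

include hX hY hZ hp1 hq in
theorem isOpen_goodSet₂ (hp3 : IsClosedMor (f ≫ q)) (hq2 : IsClosedMor q) :
    IsOpen (goodSet₂ f q) := by
  have hΩ : IsOpen (badSet f q)ᶜ := (isClosed_badSet hX hY hZ f q hp1 hq hp3).isOpen_compl
  refine hΩ.inter (isOpen_compl_iff.2 ?_)
  apply hq2
  refine isClosed_compl_iff.2 ?_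
  exact isOpen_image_of_flat hX hY hZ f q hp1 hq _
    ((Points.continuous_map (f ≫ q)).isOpen_preimage _ hΩ) (flat_of_mem_preimage f q)

omit hX hY hZ hp1 hp2 hq in
theorem range_subset_goodSet₂_iff {Z' : Sp S} (g : Z' ⟶ Z) :
    Set.range (Points.map g) ⊆ goodSet₂ f q ↔
      Set.range (Points.map g) ⊆ (badSet f q)ᶜ ∧ ∀ (z' : Points Z') (y : Points Y),
        Points.map q y = Points.map g z' → y ∈ Set.range (Points.map f) := by
  constructor
  · intro h
    refine ⟨fun z hz => (h hz).1, fun z' y hy => ?_⟩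
    have h2 := (h ⟨z', rfl⟩).2
    by_contra hyf
    apply h2
    refine ⟨y, ?_, hy⟩
    rintro ⟨x, _, rfl⟩
    exact hyf ⟨x, rfl⟩
  · rintro ⟨h1, h2⟩ _ ⟨z', rfl⟩
    refine ⟨h1 ⟨z', rfl⟩, ?_⟩
    rintro ⟨y, hy, hyz⟩
    obtain ⟨x, rfl⟩ := h2 z' y hyz
    apply hy
    refine ⟨x, ?_, rfl⟩
    change Points.map (f ≫ q) x ∈ (badSet f q)ᶜ
    rw [Points.map_comp, hyz]
    exact h1 ⟨z', rfl⟩

end

end Groth.Agent.H7.WhereFlat
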