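import Groth.Agent.Lib.Helper7.WhereFlat
import Mathlib

/-!
# S10642, S10643: statements for `AlgSp.Space`
-/

set_option autoImplicit false
universe u

open AlgebraicGeometry CategoryTheory Limits

namespace Groth.Agent.H7.WhereFlat

open _root_.AlgSp Groth.Agent.H5.AlgSp

variable {S : Scheme.{u}}

/-- factoring through the open subspace with points `Ω`, for `AlgSp.Space`. -/
theorem factors_iff {Z Z' : AlgSp.Space S} (Ω : Set (Points Z.obj)) (hΩ : IsOpen Ω)
    (g : Z' ⟶ Z) :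
    (∃ k : Z' ⟶ (⟨openSub Z.obj Ω, isAlgSpace_openSub Z.property hΩ⟩ : AlgSp.Space S),
        k ≫ (ObjectProperty.homMk (openSubι Z.obj Ω) :
          (⟨openSub Z.obj Ω, isAlgSpace_openSub Z.property hΩ⟩ : AlgSp.Space S) ⟶ Z) = g) ↔
      Set.range (Points.map g.hom) ⊆ Ω := by
  have h1 := factors_through_open_iff (openSubι Z.obj Ω) (repWith_openSubι hΩ) g.hom
  rw [range_points_map_openSubι] at h1
  refine Iff.trans ?_ h1
  constructor
  · rintro ⟨k, rfl⟩
    exact ⟨k.hom, rfl⟩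
  · rintro ⟨k₀, hk₀⟩
    exact ⟨ObjectProperty.homMk k₀, ObjectProperty.hom_ext _ hk₀⟩

theorem S10642_main {X Y Z : AlgSp.Space S}
    (f : X ⟶ Y) (p : X ⟶ Z) (q : Y ⟶ Z) (hc : f ≫ q = p)
    (hp1 : AlgSp.LocP @LocallyOfFinitePresentation p.hom) (hp2 : AlgSp.LocP @Flat p.hom)
    (hp3 : AlgSp.IsClosedMor p.hom) (hq : AlgSp.LocP @LocallyOfFiniteType q.hom) :
    ∃ (W : AlgSp.Space S) (w : W ⟶ Z), AlgSp.RepWith @IsOpenImmersion w.hom ∧
      ∀ (Z' : AlgSp.Space S) (g : Z' ⟶ Z),
        (∃ k : Z' ⟶ W, k ≫ w = g) ↔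
          ∀ (Y' : AlgSp.Space S) (gY : Y' ⟶ Y) (q' : Y' ⟶ Z'),
            IsPullback gY.hom q'.hom q.hom g.hom →
            ∀ (X' : AlgSp.Space S) (gX : X' ⟶ X) (f' : X' ⟶ Y'),
              IsPullback gX.hom f'.hom f.hom gY.hom →
                AlgSp.LocP @Flat f'.hom := by
  subst hc
  have hΩ : IsOpen (badSet f.hom q.hom)ᶜ :=
    (isClosed_badSet X.property Y.property Z.property f.hom q.hom hp1 hq hp3).isOpen_compl
  refine ⟨⟨openSub Z.obj _, isAlgSpace_openSub Z.property hΩ⟩,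
    ObjectProperty.homMk (openSubι Z.obj _), repWith_openSubι hΩ, ?_⟩
  intro Z' g
  rw [factors_iff _ hΩ g]
  constructor
  · intro hg Y' gY q' sqY X' gX f' sqX
    exact locP_flat_of_range_subset X.property Y.property Z.property f.hom q.hom hp1 hp2 hq
      Z'.property g.hom f'.hom q'.hom gX.hom gY.hom sqY sqX hg
  · intro H
    have sqY := IsPullback.of_hasPullback q.hom g.hom
    have hY' : IsAlgSpace (pullback q.hom g.hom) :=
      isAlgSpace_pullback Z.property.diag Y.property Z'.property sqY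
    have sqX := IsPullback.of_hasPullback f.hom (pullback.fst q.hom g.hom)
    have hX' : IsAlgSpace (pullback f.hom (pullback.fst q.hom g.hom)) :=
      isAlgSpace_pullback Y.property.diag X.property hY' sqX
    have hfl := H ⟨_, hY'⟩ (ObjectProperty.homMk (pullback.fst q.hom g.hom))
      (ObjectProperty.homMk (pullback.snd q.hom g.hom)) sqY ⟨_, hX'⟩
      (ObjectProperty.homMk (pullback.fst f.hom (pullback.fst q.hom g.hom)))
      (ObjectProperty.homMk (pullback.snd f.hom (pullback.fst q.hom g.hom))) sqX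
    exact range_subset_of_locP_flat X.property Y.property Z.property f.hom q.hom hp1 hp2 hq
      Z'.property g.hom _ _ _ _ sqY sqX hfl

theorem S10643_main {X Y Z : AlgSp.Space S}
    (f : X ⟶ Y) (p : X ⟶ Z) (q : Y ⟶ Z) (hc : f ≫ q = p)
    (hp1 : AlgSp.LocP @LocallyOfFinitePresentation p.hom) (hp2 : AlgSp.LocP @Flat p.hom)
    (hp3 : AlgSp.IsClosedMor p.hom) (hq1 : AlgSp.LocP @LocallyOfFiniteType q.hom)
    (hq2 : AlgSp.IsClosedMor q.hom) :
    ∃ (W : AlgSp.Space S) (w : W ⟶ Z), AlgSp.RepWith @IsOpenImmersion w.hom ∧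
      ∀ (Z' : AlgSp.Space S) (g : Z' ⟶ Z),
        (∃ k : Z' ⟶ W, k ≫ w = g) ↔
          ∀ (Y' : AlgSp.Space S) (gY : Y' ⟶ Y) (q' : Y' ⟶ Z'),
            IsPullback gY.hom q'.hom q.hom g.hom →
            ∀ (X' : AlgSp.Space S) (gX : X' ⟶ X) (f' : X' ⟶ Y'),
              IsPullback gX.hom f'.hom f.hom gY.hom →
                (AlgSp.IsSurjectiveMor f'.hom ∧ AlgSp.LocP @Flat f'.hom) := by
  subst hc
  have hΩ : IsOpen (goodSet₂ f.hom q.hom) :=
    isOpen_goodSet₂ X.property Y.property Z.property f.hom q.hom hp1 hq1 hp3 hq2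
  refine ⟨⟨openSub Z.obj _, isAlgSpace_openSub Z.property hΩ⟩,
    ObjectProperty.homMk (openSubι Z.obj _), repWith_openSubι hΩ, ?_⟩
  intro Z' g
  rw [factors_iff _ hΩ g, range_subset_goodSet₂_iff]
  constructor
  · rintro ⟨hg1, hg2⟩ Y' gY q' sqY X' gX f' sqX
    exact ⟨(isSurjectiveMor_baseChange_iff f.hom q.hom g.hom f'.hom q'.hom gX.hom gY.hom
        sqY sqX).2 hg2,
      locP_flat_of_range_subset X.property Y.property Z.property f.hom q.hom hp1 hp2 hq1
        Z'.property g.hom f'.hom q'.hom gX.hom gY.hom sqY sqX hg1⟩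
  · intro H
    have sqY := IsPullback.of_hasPullback q.hom g.hom
    have hY' : IsAlgSpace (pullback q.hom g.hom) :=
      isAlgSpace_pullback Z.property.diag Y.property Z'.property sqY
    have sqX := IsPullback.of_hasPullback f.hom (pullback.fst q.hom g.hom)
    have hX' : IsAlgSpace (pullback f.hom (pullback.fst q.hom g.hom)) :=
      isAlgSpace_pullback Y.property.diag X.property hY' sqX
    have hfl := H ⟨_, hY'⟩ (ObjectProperty.homMk (pullback.fst q.hom g.hom))
      (ObjectProperty.homMk (pullback.snd q.hom g.hom)) sqY ⟨_, hX'⟩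
      (ObjectProperty.homMk (pullback.fst f.hom (pullback.fst q.hom g.hom)))
      (ObjectProperty.homMk (pullback.snd f.hom (pullback.fst q.hom g.hom))) sqX
    exact ⟨range_subset_of_locP_flat X.property Y.property Z.property f.hom q.hom hp1 hp2 hq1
        Z'.property g.hom _ _ _ _ sqY sqX hfl.2,
      (isSurjectiveMor_baseChange_iff f.hom q.hom g.hom _ _ _ _ sqY sqX).1 hfl.1⟩

end Groth.Agent.H7.WhereFlat
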