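import Groth.Agent.Lib.Helper7.ClImm6
import Groth.Agent.Lib.Helper7.WhereFlat2
import Groth.Agent.Lib.Helper5.AlgSp.OpenSub
import Groth.Agent.Lib.Helper5.AlgSp.LocPBasic
import Groth.Agent.Lib.Helper5.AlgSp.Cover
import Mathlib

/-!
# Where is the base change of `X → Y` over `Z` an isomorphism? (S10644)
-/

set_option autoImplicit false
universe u

open AlgebraicGeometry CategoryTheory Limits

namespace Groth.Agent.H7.WhereIso

open _root_.AlgSp Groth.Agent.H5.AlgSp

variable {S : Scheme.{u}}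

/-- a flat surjective closed immersion is an isomorphism (after helper3) -/
theorem isIso_of_isClosedImmersion_of_flat_of_surjective {Z U : Scheme.{u}} (ι : Z ⟶ U)
    [IsClosedImmersion ι] [Flat ι] [Surjective ι] : IsIso ι := by
  have hsurj : Function.Surjective ι := ι.surjective
  have hinj : Function.Injective ι := ι.isClosedEmbedding.injective
  have hemb : Topology.IsOpenEmbedding ι :=
    (ι.isClosedEmbedding.isEmbedding.toHomeomorphOfSurjective hsurj).isOpenEmbedding
  have hst : ∀ z, IsIso (ι.stalkMap z) := by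
    intro z
    have h1 : Function.Surjective (ι.stalkMap z) := ι.stalkMap_surjective z
    have h2 : Function.Injective (ι.stalkMap z) := by
      algebraize [(ι.stalkMap z).hom]
      have : Module.FaithfullyFlat (U.presheaf.stalk (ι z)) (Z.presheaf.stalk z) :=
        @Module.FaithfullyFlat.of_flat_of_isLocalHom _ _ _ _ _ _ _
          (Flat.stalkMap ι z) (ι.toLRSHom.prop z)
      exact ‹RingHom.FaithfullyFlat _›.injective
    exact (ConcreteCategory.isIso_iff_bijective _).2 ⟨h2, h1⟩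
  have hoi : IsOpenImmersion ι := IsOpenImmersion.of_isIso_stalkMap ι hemb
  exact (isIso_iff_isOpenImmersion_and_surjective ι).2 ⟨hoi, ‹_›⟩

/-- closed immersion + surjective on points + flat ⇒ isomorphism, for algebraic spaces -/
theorem isIso_of_closedImmersion_surjective_flat {X Y : Sp S} (hY : IsAlgSpace Y) (f : X ⟶ Y)
    (hci : RepWith @IsClosedImmersion f) (hs : IsSurjectiveMor f) (hfl : LocP @Flat f) :
    IsIso f := by
  have h2 : RepWith @Flat f := repWith_of_locP hY hci.rep hfl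
  have h3 : RepWith @Surjective f := repWith_surjective_of_points hci.rep hs
  apply isIso_of_repWith_isomorphisms
  refine ⟨hci.rep, fun T V g fst snd sq => ?_⟩
  haveI : IsClosedImmersion snd.left := hci.property g fst snd sq
  haveI : Flat snd.left := h2.property g fst snd sq
  haveI : Surjective snd.left := h3.property g fst snd sq
  change IsIso snd.left
  exact isIso_of_isClosedImmersion_of_flat_of_surjective snd.left

theorem S10644_main {X Y Z : AlgSp.Space S}
    (f : X ⟶ Y) (p : X ⟶ Z) (q : Y ⟶ Z) (hc : f ≫ q = p)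
    (hp1 : AlgSp.LocP @LocallyOfFinitePresentation p.hom) (hp2 : AlgSp.LocP @Flat p.hom)
    (hp3 : AlgSp.IsUnivClosedMor p.hom) (hq1 : AlgSp.LocP @LocallyOfFiniteType q.hom)
    (hq2 : AlgSp.IsClosedMor q.hom) (hq3 : AlgSp.IsSeparatedMor q.hom) :
    ∃ (W : AlgSp.Space S) (w : W ⟶ Z), AlgSp.RepWith @IsOpenImmersion w.hom ∧
      ∀ (Z' : AlgSp.Space S) (g : Z' ⟶ Z),
        (∃ k : Z' ⟶ W, k ≫ w = g) ↔
          ∀ (Y' : AlgSp.Space S) (gY : Y' ⟶ Y) (q' : Y' ⟶ Z'),
            IsPullback gY.hom q'.hom q.hom g.hom →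
            ∀ (X' : AlgSp.Space S) (gX : X' ⟶ X) (f' : X' ⟶ Y'),
              IsPullback gX.hom f'.hom f.hom gY.hom →
                IsIso f'.hom := by
  have hpcl : IsClosedMor p.hom :=
    hp3 Z.property (𝟙 _) (𝟙 _) _ (IsPullback.of_horiz_isIso ⟨by simp⟩)
  have hplft : LocP @LocallyOfFiniteType p.hom :=
    locP_mono (fun _ _ g (hg : LocallyOfFinitePresentation g) =>
      (inferInstance : LocallyOfFiniteType g)) hp1
  obtain ⟨W₁, w₁, hw₁, H₁⟩ := Groth.Agent.H7.ClImmSp.S10641_main f p q hc hplft hp3 hq3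
  obtain ⟨W₂, w₂, hw₂, H₂⟩ := Groth.Agent.H7.WhereFlat.S10643_main f p q hc hp1 hp2 hpcl hq1 hq2
  have hW : IsAlgSpace (pullback w₁.hom w₂.hom) :=
    isAlgSpace_pullback Z.property.diag W₁.property W₂.property (IsPullback.of_hasPullback _ _)
  have hfst : RepWith @IsOpenImmersion (pullback.fst w₁.hom w₂.hom) :=
    MorphismProperty.of_isPullback (P := RepWith @IsOpenImmersion)
      (IsPullback.of_hasPullback w₁.hom w₂.hom).flip hw₂
  refine ⟨⟨pullback w₁.hom w₂.hom, hW⟩,
    ObjectProperty.homMk (pullback.fst w₁.hom w₂.hom ≫ w₁.hom),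
    (RepWith @IsOpenImmersion).comp_mem _ _ hfst hw₁, ?_⟩
  intro Z' g
  have e : (∃ k : Z' ⟶ (⟨pullback w₁.hom w₂.hom, hW⟩ : AlgSp.Space S),
      k ≫ (ObjectProperty.homMk (pullback.fst w₁.hom w₂.hom ≫ w₁.hom) :
        (⟨pullback w₁.hom w₂.hom, hW⟩ : AlgSp.Space S) ⟶ Z) = g) ↔
      ((∃ k₁ : Z' ⟶ W₁, k₁ ≫ w₁ = g) ∧ (∃ k₂ : Z' ⟶ W₂, k₂ ≫ w₂ = g)) := by
    constructor
    · rintro ⟨k, hk⟩
      have hk' : k.hom ≫ pullback.fst w₁.hom w₂.hom ≫ w₁.hom = g.hom :=
        congrArg (fun m => m.hom) hk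
      refine ⟨⟨ObjectProperty.homMk (k.hom ≫ pullback.fst w₁.hom w₂.hom), ?_⟩,
        ⟨ObjectProperty.homMk (k.hom ≫ pullback.snd w₁.hom w₂.hom), ?_⟩⟩
      · apply ObjectProperty.hom_ext
        change (k.hom ≫ pullback.fst w₁.hom w₂.hom) ≫ w₁.hom = g.hom
        rw [Category.assoc, hk']
      · apply ObjectProperty.hom_ext
        change (k.hom ≫ pullback.snd w₁.hom w₂.hom) ≫ w₂.hom = g.hom
        rw [Category.assoc, ← pullback.condition, hk']
    · rintro ⟨⟨k₁, hk₁⟩, ⟨k₂, hk₂⟩⟩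
      have h1 : k₁.hom ≫ w₁.hom = g.hom := congrArg (fun m => m.hom) hk₁
      have h2 : k₂.hom ≫ w₂.hom = g.hom := congrArg (fun m => m.hom) hk₂
      refine ⟨ObjectProperty.homMk (pullback.lift k₁.hom k₂.hom (h1.trans h2.symm)), ?_⟩
      apply ObjectProperty.hom_ext
      change pullback.lift k₁.hom k₂.hom _ ≫ pullback.fst w₁.hom w₂.hom ≫ w₁.hom = g.hom
      rw [pullback.lift_fst_assoc, h1]
  rw [e, H₁ Z' g, H₂ Z' g]
  constructor
  · rintro ⟨ha, hb⟩ Y' gY q' sqY X' gX f' sqX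
    obtain ⟨hs, hfl⟩ := hb Y' gY q' sqY X' gX f' sqX
    exact isIso_of_closedImmersion_surjective_flat Y'.property f'.hom
      (ha Y' gY q' sqY X' gX f' sqX) hs hfl
  · intro h
    constructor
    · intro Y' gY q' sqY X' gX f' sqX
      haveI := h Y' gY q' sqY X' gX f' sqX
      exact (RepWith @IsClosedImmersion).of_isIso f'.hom
    · intro Y' gY q' sqY X' gX f' sqX
      haveI := h Y' gY q' sqY X' gX f' sqX
      refine ⟨?_, locP_of_repWith etale_le_flat ((RepWith @Flat).of_isIso f'.hom)⟩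
      intro y
      refine ⟨Points.map (inv f'.hom) y, ?_⟩
      rw [← Points.map_comp]
      simp
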