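import Groth.Agent.Lib.Helper7.UnramLocSp
import Groth.Agent.Lib.Helper7.WhereFlat2
import Mathlib

/-!
# Where is the base change of `X → Y` over `Z` unramified? (S10639)
-/

set_option autoImplicit false
universe u

open AlgebraicGeometry CategoryTheory Limits

namespace Groth.Agent.H7.WhereUnr

open _root_.AlgSp Groth.Agent.H5.AlgSp Groth.Agent.H5.EtSrc Groth.Agent.H7.FlatLocSp
  Groth.Agent.H7.UnramLocSp Groth.Agent.H7.WhereFlat

variable {S : Scheme.{u}} {X Y Z : Sp S}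

theorem locP_unr_iff {F G : Sp S} {f : F ⟶ G} (hF : IsAlgSpace F) (hG : IsAlgSpace G) :
    LocP (@LocallyOfFiniteType ⊓ @FormallyUnramified) f ↔ ∀ x, HasAtMor UQ f x :=
  locP_iff_forall_hasAtMor
    (P := (@LocallyOfFiniteType ⊓ @FormallyUnramified : MorphismProperty Scheme.{u}))
    etale_le_unr hF hG

/-- the image in `Z` of the ramified locus of `f`. -/
def badSet (f : X ⟶ Y) (q : Y ⟶ Z) : Set (Points Z) :=
  Points.map (f ≫ q) '' {x | ¬ HasAtMor UQ f x}

section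

variable (hX : IsAlgSpace X) (hY : IsAlgSpace Y) (hZ : IsAlgSpace Z) (f : X ⟶ Y) (q : Y ⟶ Z)
  (hp1 : LocP @LocallyOfFiniteType (f ≫ q))

omit hp1 in
theorem isClosed_badSet (hp3 : IsClosedMor (f ≫ q)) : IsClosed (badSet f q) := by
  apply hp3
  exact (isOpen_unramLocus f).isClosed_compl

include hX hY hZ hp1 in
theorem hasAtMor_baseChange_iff {X' Y' Z' : Sp S} (g : Z' ⟶ Z)
    (f' : X' ⟶ Y') (q' : Y' ⟶ Z') (gX : X' ⟶ X) (gY : Y' ⟶ Y) (sqY : IsPullback gY q' q g)
    (sqX : IsPullback gX f' f gY) (hY' : IsAlgSpace Y') (x' : Points X') :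
    HasAtMor UQ f' x' ↔ HasAtMor UQ f (Points.map gX x') := by
  have h := (S10312_main hX hY hZ hY' f (f ≫ q) q rfl hp1 gY gX f' sqX).2
  have h2 := Set.ext_iff.1 h x'
  exact h2

include hX hY hZ hp1 in
theorem locP_of_range_subset {X' Y' Z' : Sp S} (hX' : IsAlgSpace X') (hY' : IsAlgSpace Y')
    (g : Z' ⟶ Z)
    (f' : X' ⟶ Y') (q' : Y' ⟶ Z') (gX : X' ⟶ X) (gY : Y' ⟶ Y) (sqY : IsPullback gY q' q g)
    (sqX : IsPullback gX f' f gY) (hg : Set.range (Points.map g) ⊆ (badSet f q)ᶜ) :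
    LocP (@LocallyOfFiniteType ⊓ @FormallyUnramified) f' := by
  rw [locP_unr_iff hX' hY']
  intro x'
  rw [hasAtMor_baseChange_iff hX hY hZ f q hp1 g f' q' gX gY sqY sqX hY' x']
  by_contra hx
  apply hg ⟨Points.map (f' ≫ q') x', rfl⟩
  refine ⟨Points.map gX x', hx, ?_⟩
  rw [← Points.map_comp, ← Points.map_comp]
  refine congrArg (fun φ => Points.map φ x') ?_
  rw [← Category.assoc, sqX.w, Category.assoc, sqY.w, Category.assoc]

include hX hY hZ hp1 in
theorem range_subset_of_locP {X' Y' Z' : Sp S} (hX' : IsAlgSpace X') (hY' : IsAlgSpace Y')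
    (g : Z' ⟶ Z)
    (f' : X' ⟶ Y') (q' : Y' ⟶ Z') (gX : X' ⟶ X) (gY : Y' ⟶ Y) (sqY : IsPullback gY q' q g)
    (sqX : IsPullback gX f' f gY)
    (hf' : LocP (@LocallyOfFiniteType ⊓ @FormallyUnramified) f') :
    Set.range (Points.map g) ⊆ (badSet f q)ᶜ := by
  rintro _ ⟨z', rfl⟩ ⟨x, hx, hxz⟩
  have big : IsPullback gX (f' ≫ q') (f ≫ q) g := sqX.paste_vert sqY
  obtain ⟨x', hx'1, hx'2⟩ := points_pullback_surjective big x z' hxz
  apply hx
  rw [← hx'1, ← hasAtMor_baseChange_iff hX hY hZ f q hp1 g f' q' gX gY sqY sqX hY' x']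
  exact (locP_unr_iff hX' hY').1 hf' x'

end

theorem S10639_main {X Y Z : AlgSp.Space S}
    (f : X ⟶ Y) (p : X ⟶ Z) (q : Y ⟶ Z) (hc : f ≫ q = p)
    (hp1 : AlgSp.LocP @LocallyOfFiniteType p.hom) (hp2 : AlgSp.IsClosedMor p.hom) :
    ∃ (W : AlgSp.Space S) (w : W ⟶ Z), AlgSp.RepWith @IsOpenImmersion w.hom ∧
      ∀ (Z' : AlgSp.Space S) (g : Z' ⟶ Z),
        (∃ k : Z' ⟶ W, k ≫ w = g) ↔
          ∀ (Y' : AlgSp.Space S) (gY : Y' ⟶ Y) (q' : Y' ⟶ Z'),
            IsPullback gY.hom q'.hom q.hom g.hom →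
            ∀ (X' : AlgSp.Space S) (gX : X' ⟶ X) (f' : X' ⟶ Y'),
              IsPullback gX.hom f'.hom f.hom gY.hom →
                AlgSp.LocP (@LocallyOfFiniteType ⊓ @FormallyUnramified) f'.hom := by
  subst hc
  have hΩ : IsOpen (badSet f.hom q.hom)ᶜ :=
    (isClosed_badSet f.hom q.hom hp2).isOpen_compl
  refine ⟨⟨openSub Z.obj _, isAlgSpace_openSub Z.property hΩ⟩,
    ObjectProperty.homMk (openSubι Z.obj _), repWith_openSubι hΩ, ?_⟩
  intro Z' g
  rw [factors_iff _ hΩ g]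
  constructor
  · intro hg Y' gY q' sqY X' gX f' sqX
    exact locP_of_range_subset X.property Y.property Z.property f.hom q.hom hp1
      X'.property Y'.property g.hom f'.hom q'.hom gX.hom gY.hom sqY sqX hg
  · intro H
    have sqY := IsPullback.of_hasPullback q.hom g.hom
    have hY' : IsAlgSpace (pullback q.hom g.hom) :=
      isAlgSpace_pullback Z.property.diag Y.property Z'.property sqY
    have sqX := IsPullback.of_hasPullback f.hom (pullback.fst q.hom g.hom)
    have hX' : IsAlgSpace (pullback f.hom (pullback.fst q.hom g.hom)) :=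
      isAlgSpace_pullback Y.property.diag X.property hY' sqX
    have hfl := H ⟨_, hY'⟩ (ObjectProperty.homMk (pullback.fst q.hom g.hom))
      (ObjectProperty.homMk (pullback.snd q.hom g.hom)) sqY ⟨_, hX'⟩
      (ObjectProperty.homMk (pullback.fst f.hom (pullback.fst q.hom g.hom)))
      (ObjectProperty.homMk (pullback.snd f.hom (pullback.fst q.hom g.hom))) sqX
    exact range_subset_of_locP X.property Y.property Z.property f.hom q.hom hp1
      hX' hY' g.hom _ _ _ _ sqY sqX hfl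

end Groth.Agent.H7.WhereUnr
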