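import Mathlib

/-! Witt addition polynomial: `S_n ≡ X_{0,n} + X_{1,n}` modulo the `p`-th power of the ideal of
variables; consequence for Witt vectors with coefficients in an ideal `I` with `I ^ p = 0`
(helper7, for S13160). -/

set_option autoImplicit false
universe u

namespace Groth.Agent.H7.WittAddLow

open MvPolynomial WittVector

variable (p : ℕ) [hp : Fact p.Prime]

theorem sat {σ : Type*} (k : ℕ) (c : ℤ) (hc : c ≠ 0) (f : MvPolynomial σ ℤ)
    (h : C c * f ∈ idealOfVars σ ℤ ^ k) : f ∈ idealOfVars σ ℤ ^ k := by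
  rw [mem_pow_idealOfVars_iff'] at h ⊢
  intro x hx
  have := h x hx
  rw [coeff_C_mul] at this
  exact (mul_eq_zero.mp this).resolve_left hc

theorem mem_of_constantCoeff {σ : Type*} (f : MvPolynomial σ ℤ) (h : constantCoeff f = 0) :
    f ∈ idealOfVars σ ℤ := by
  have : f ∈ idealOfVars σ ℤ ^ 1 := by
    rw [mem_pow_idealOfVars_iff']
    intro x hx
    have hx0 : x = 0 := by
      have : Finsupp.degree x = 0 := by omega
      exact (Finsupp.degree_eq_zero_iff x).mp this
    rw [hx0]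
    exact h
  simpa using this

theorem X_mem {σ : Type*} (i : σ) : (X i : MvPolynomial σ ℤ) ∈ idealOfVars σ ℤ :=
  Ideal.subset_span ⟨i, rfl⟩

theorem wittAdd_low (n : ℕ) :
    wittAdd p n - X (0, n) - X (1, n) ∈ idealOfVars (Fin 2 × ℕ) ℤ ^ p := by
  have hprop := wittStructureInt_prop p (X (0 : Fin 2) + X 1) n
  rw [wittPolynomial_eq_sum_C_mul_X_pow] at hprop
  simp only [map_add, map_sum, map_mul, map_pow, bind₁_X_right, rename_X, bind₁_C_right, rename_C]
    at hprop
  rw [Finset.sum_range_succ, Finset.sum_range_succ, Finset.sum_range_succ] at hprop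
  simp only [Nat.sub_self, pow_zero, pow_one] at hprop
  rw [show wittAdd p n = wittStructureInt p (X 0 + X 1) n from rfl]
  apply sat p ((p : ℤ) ^ n) (pow_ne_zero _ (by exact_mod_cast hp.out.ne_zero))
  rw [map_pow]
  have hle : ∀ i ∈ Finset.range n, p ≤ p ^ (n - i) := by
    intro i hi
    have : 1 ≤ n - i := by have := Finset.mem_range.mp hi; omega
    calc p = p ^ 1 := (pow_one p).symm
      _ ≤ p ^ (n - i) := Nat.pow_le_pow_right hp.out.pos this
  have hpow : ∀ (f : MvPolynomial (Fin 2 × ℕ) ℤ), f ∈ idealOfVars (Fin 2 × ℕ) ℤ →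
      ∀ i ∈ Finset.range n, C (p : ℤ) ^ i * f ^ p ^ (n - i) ∈ idealOfVars (Fin 2 × ℕ) ℤ ^ p := by
    intro f hf i hi
    apply Ideal.mul_mem_left
    exact Ideal.pow_le_pow_right (hle i hi) (Ideal.pow_mem_pow hf _)
  have heq : C (p : ℤ) ^ n * (wittStructureInt p (X (0 : Fin 2) + X 1) n - X ((0 : Fin 2), n) - X ((1 : Fin 2), n)) =
      (∑ x ∈ Finset.range n, C (p : ℤ) ^ x * X ((0 : Fin 2), x) ^ p ^ (n - x)) +
      (∑ x ∈ Finset.range n, C (p : ℤ) ^ x * X ((1 : Fin 2), x) ^ p ^ (n - x)) -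
      (∑ x ∈ Finset.range n, C (p : ℤ) ^ x * wittStructureInt p (X (0 : Fin 2) + X 1) x ^ p ^ (n - x)) := by
    linear_combination hprop
  rw [heq]
  refine Ideal.sub_mem _ (Ideal.add_mem _ ?_ ?_) ?_
  · exact Ideal.sum_mem _ (fun i hi => hpow _ (X_mem _) i hi)
  · exact Ideal.sum_mem _ (fun i hi => hpow _ (X_mem _) i hi)
  · refine Ideal.sum_mem _ (fun i hi => hpow _ ?_ i hi)
    exact mem_of_constantCoeff _ (constantCoeff_wittAdd p i)

/-- Witt vectors with coefficients in an ideal `I` with `I ^ p = 0` add componentwise. -/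
theorem add_coeff_of_mem {A : Type*} [CommRing A] (I : Ideal A) (hI : I ^ p = ⊥)
    (a b : WittVector p A) (ha : ∀ n, a.coeff n ∈ I) (hb : ∀ n, b.coeff n ∈ I) (n : ℕ) :
    (a + b).coeff n = a.coeff n + b.coeff n := by
  rw [WittVector.add_coeff, WittVector.peval]
  have hlow := wittAdd_low p n
  set x : Fin 2 × ℕ → A := Function.uncurry ![a.coeff, b.coeff] with hx
  have hxI : ∀ i, x i ∈ I := by
    rintro ⟨i, j⟩
    fin_cases i
    · exact ha j
    · exact hb j
  have hmap : Ideal.map (aeval x : MvPolynomial (Fin 2 × ℕ) ℤ →ₐ[ℤ] A) (idealOfVars (Fin 2 × ℕ) ℤ) ≤ I := by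
    rw [idealOfVars, Ideal.map_span, Ideal.span_le]
    rintro _ ⟨_, ⟨i, rfl⟩, rfl⟩
    simpa using hxI i
  have h1 : aeval x (wittAdd p n - X (0, n) - X (1, n)) ∈ I ^ p := by
    have := Ideal.mem_map_of_mem (aeval x : MvPolynomial (Fin 2 × ℕ) ℤ →ₐ[ℤ] A) hlow
    rw [Ideal.map_pow] at this
    exact Ideal.pow_right_mono hmap p this
  rw [hI, Ideal.mem_bot] at h1
  simp only [map_sub, aeval_X] at h1
  have h2 : x (0, n) = a.coeff n := rfl
  have h3 : x (1, n) = b.coeff n := rfl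
  rw [h2, h3] at h1
  linear_combination h1

theorem exists_ideal (R : Type u) [CommRing R] [IsDomain R]
    [IsDiscreteValuationRing R] (p : ℕ) (hp : 0 < p) (lam : R) :
    ∃ I : Ideal (R ⧸ Ideal.span {lam}), I ^ p = ⊥ ∧ ∀ c : R ⧸ Ideal.span {lam}, c ^ p = 0 → c ∈ I := by
  classical
  obtain ⟨ϖ, hϖ⟩ := IsDiscreteValuationRing.exists_irreducible R
  by_cases hlam : lam = 0
  · refine ⟨⊥, ?_, ?_⟩
    · rw [← Ideal.zero_eq_bot, zero_pow hp.ne']
    · intro c hc
      obtain ⟨r, rfl⟩ := Ideal.Quotient.mk_surjective c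
      rw [← map_pow, Ideal.Quotient.eq_zero_iff_mem, Ideal.mem_span_singleton, hlam, zero_dvd_iff] at hc
      have : r = 0 := pow_eq_zero_iff hp.ne' |>.mp hc
      rw [this, map_zero]
      exact Ideal.zero_mem _
  · obtain ⟨l, u, hu⟩ := IsDiscreteValuationRing.eq_unit_mul_pow_irreducible hlam hϖ
    have hex : ∃ k : ℕ, lam ∣ (ϖ ^ k) ^ p := by
      refine ⟨l, ?_⟩
      obtain ⟨p', rfl⟩ : ∃ p', p = p' + 1 := ⟨p - 1, by omega⟩
      rw [pow_succ, hu]
      exact (Units.isUnit u).mul_left_dvd.mpr (Dvd.intro_left _ rfl)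
    let k0 := Nat.find hex
    have hk0 : lam ∣ (ϖ ^ k0) ^ p := Nat.find_spec hex
    refine ⟨Ideal.span {Ideal.Quotient.mk (Ideal.span {lam}) (ϖ ^ k0)}, ?_, ?_⟩
    · rw [Ideal.span_singleton_pow, ← map_pow, Ideal.span_singleton_eq_bot,
        Ideal.Quotient.eq_zero_iff_mem, Ideal.mem_span_singleton]
      exact hk0
    · intro c hc
      obtain ⟨r, rfl⟩ := Ideal.Quotient.mk_surjective c
      rw [← map_pow, Ideal.Quotient.eq_zero_iff_mem, Ideal.mem_span_singleton] at hc
      by_cases hr : r = 0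
      · rw [hr, map_zero]; exact Ideal.zero_mem _
      · obtain ⟨k, v, hv⟩ := IsDiscreteValuationRing.eq_unit_mul_pow_irreducible hr hϖ
        have h1 : lam ∣ (ϖ ^ k) ^ p := by
          rw [hv, mul_pow] at hc
          exact ((Units.isUnit v).pow p).dvd_mul_left.mp hc
        have hk : k0 ≤ k := Nat.find_min' hex h1
        rw [Ideal.mem_span_singleton]
        apply map_dvd
        rw [hv]
        exact Dvd.dvd.mul_left (pow_dvd_pow ϖ hk) _

end Groth.Agent.H7.WittAddLow
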