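import Mathlib

namespace Groth.Agent.H7.YoungEuler

theorem main (μ : YoungDiagram) (hμ : μ ≠ ⊥) :
    μ.cells.card + (μ.cells.filter (fun c => (c.1 + 1, c.2 + 1) ∈ μ)).card =
      (μ.cells.filter (fun c => (c.1 + 1, c.2) ∈ μ)).card +
        (μ.cells.filter (fun c => (c.1, c.2 + 1) ∈ μ)).card + 1 := by
  classical
  set A := μ.cells.filter (fun c => 1 ≤ c.1) with hA
  set B := μ.cells.filter (fun c => 1 ≤ c.2) with hB
  have h00 : ((0, 0) : ℕ × ℕ) ∈ μ := by
    have hne : μ.cells.Nonempty := by
      rw [Finset.nonempty_iff_ne_empty]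
      intro h
      apply hμ
      ext c
      simp [← YoungDiagram.mem_cells, h]
    obtain ⟨c, hc⟩ := hne
    exact μ.up_left_mem (Nat.zero_le _) (Nat.zero_le _) ((YoungDiagram.mem_cells c).mp hc)
  have e1 : (μ.cells.filter (fun c => (c.1 + 1, c.2) ∈ μ)).card = A.card := by
    apply Finset.card_bij (fun c _ => (c.1 + 1, c.2))
    · intro c hc
      rw [Finset.mem_filter] at hc
      rw [hA, Finset.mem_filter, YoungDiagram.mem_cells]
      exact ⟨hc.2, by simp⟩
    · intro c _ c' _ h
      simp only [Prod.mk.injEq, add_left_inj] at h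
      exact Prod.ext h.1 h.2
    · intro c hc
      rw [hA, Finset.mem_filter, YoungDiagram.mem_cells] at hc
      refine ⟨(c.1 - 1, c.2), ?_, ?_⟩
      · rw [Finset.mem_filter, YoungDiagram.mem_cells]
        have : c.1 - 1 + 1 = c.1 := Nat.sub_add_cancel hc.2
        refine ⟨μ.up_left_mem (Nat.sub_le _ _) le_rfl hc.1, ?_⟩
        simp only [this]
        exact hc.1
      · simp only [Nat.sub_add_cancel hc.2]
  have e2 : (μ.cells.filter (fun c => (c.1, c.2 + 1) ∈ μ)).card = B.card := by
    apply Finset.card_bij (fun c _ => (c.1, c.2 + 1))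
    · intro c hc
      rw [Finset.mem_filter] at hc
      rw [hB, Finset.mem_filter, YoungDiagram.mem_cells]
      exact ⟨hc.2, by simp⟩
    · intro c _ c' _ h
      simp only [Prod.mk.injEq, add_left_inj] at h
      exact Prod.ext h.1 h.2
    · intro c hc
      rw [hB, Finset.mem_filter, YoungDiagram.mem_cells] at hc
      refine ⟨(c.1, c.2 - 1), ?_, ?_⟩
      · rw [Finset.mem_filter, YoungDiagram.mem_cells]
        have : c.2 - 1 + 1 = c.2 := Nat.sub_add_cancel hc.2
        refine ⟨μ.up_left_mem le_rfl (Nat.sub_le _ _) hc.1, ?_⟩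
        simp only [this]
        exact hc.1
      · simp only [Nat.sub_add_cancel hc.2]
  have e3 : (μ.cells.filter (fun c => (c.1 + 1, c.2 + 1) ∈ μ)).card = (A ∩ B).card := by
    apply Finset.card_bij (fun c _ => (c.1 + 1, c.2 + 1))
    · intro c hc
      rw [Finset.mem_filter] at hc
      rw [Finset.mem_inter, hA, hB, Finset.mem_filter, Finset.mem_filter, YoungDiagram.mem_cells]
      exact ⟨⟨hc.2, by simp⟩, hc.2, by simp⟩
    · intro c _ c' _ h
      simp only [Prod.mk.injEq, add_left_inj] at h
      exact Prod.ext h.1 h.2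
    · intro c hc
      rw [Finset.mem_inter, hA, hB, Finset.mem_filter, Finset.mem_filter,
        YoungDiagram.mem_cells] at hc
      refine ⟨(c.1 - 1, c.2 - 1), ?_, ?_⟩
      · rw [Finset.mem_filter, YoungDiagram.mem_cells]
        have h1 : c.1 - 1 + 1 = c.1 := Nat.sub_add_cancel hc.1.2
        have h2 : c.2 - 1 + 1 = c.2 := Nat.sub_add_cancel hc.2.2
        refine ⟨μ.up_left_mem (Nat.sub_le _ _) (Nat.sub_le _ _) hc.1.1, ?_⟩
        simp only [h1, h2]
        exact hc.1.1
      · simp only [Nat.sub_add_cancel hc.1.2, Nat.sub_add_cancel hc.2.2]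
  have e4 : A ∪ B = μ.cells.erase (0, 0) := by
    ext c
    rw [Finset.mem_union, hA, hB, Finset.mem_filter, Finset.mem_filter, Finset.mem_erase]
    constructor
    · rintro (⟨h1, h2⟩ | ⟨h1, h2⟩)
      · refine ⟨?_, h1⟩
        intro h; rw [h] at h2; simp at h2
      · refine ⟨?_, h1⟩
        intro h; rw [h] at h2; simp at h2
    · rintro ⟨h1, h2⟩
      by_cases hc : 1 ≤ c.1
      · left; exact ⟨h2, hc⟩
      · right
        refine ⟨h2, ?_⟩
        by_contra hc2
        apply h1
        apply Prod.ext <;> simp <;> omega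
  have e5 := Finset.card_union_add_card_inter A B
  have e6 : (μ.cells.erase (0, 0)).card + 1 = μ.cells.card :=
    Finset.card_erase_add_one ((YoungDiagram.mem_cells _).mpr h00)
  rw [e1, e2, e3]
  rw [e4] at e5
  omega

end Groth.Agent.H7.YoungEuler
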