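import Groth.Agent.Lib.Helper5.FunFld.Fibre
import Groth.Agent.Lib.Helper5.FunFld.Weil2
import Groth.Agent.Lib.Helper5.FunFld.LSpace2
import Groth.Prelude.Def_W4bk4goldsch45
import Mathlib.FieldTheory.Finite.Basic
import Mathlib.FieldTheory.Finiteness

/-! Zeta function of a function field over a finite field: finiteness of places of bounded degree
(helper7). -/

set_option autoImplicit false
set_option linter.unusedSectionVars false

attribute [-instance] IsLocalRing.instModuleResidueFieldOfAlgebra

namespace Groth.Agent.H7.Zeta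

open FunFld WithZero

variable {k K : Type*} [Field k] [Finite k] [Field K] [Algebra k K]

section places

variable (hK : IsFunctionField k K)

include hK in
/-- residue classes satisfy `a^(q^m) = a` when `deg P ∣ m`. -/
lemma residue_pow_card (P : Place k K) {m : ℕ} (hm : P.deg ∣ m)
    (a : IsLocalRing.ResidueField P.O) : a ^ (Nat.card k) ^ m = a := by
  classical
  have hfd : FiniteDimensional k (IsLocalRing.ResidueField P.O) :=
    P.finiteDimensional_residueField hK
  have hfin : Finite (IsLocalRing.ResidueField P.O) := Module.finite_of_finite k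
  let _ : Fintype (IsLocalRing.ResidueField P.O) := Fintype.ofFinite _
  have hcard : Fintype.card (IsLocalRing.ResidueField P.O) = Nat.card k ^ P.deg := by
    rw [Fintype.card_eq_nat_card, Module.natCard_eq_pow_finrank (K := k)]
    rfl
  obtain ⟨c, rfl⟩ := hm
  rw [pow_mul, ← hcard]
  exact FiniteField.pow_card_pow c a

include hK in
/-- There are finitely many places of degree at most `n`. -/
theorem finite_places_deg_le (n : ℕ) : {P : Place k K | P.deg ≤ n}.Finite := by
  classical
  obtain ⟨⟨x, hxtr, -⟩, -⟩ := id hK
  have hx0 : x ≠ 0 := by rintro rfl; exact hxtr isAlgebraic_zero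
  set q := Nat.card k with hq
  have hq2 : 2 ≤ q := by
    have : Nontrivial k := inferInstance
    exact Finite.one_lt_card
  set N := q ^ n.factorial with hN
  have hN2 : 2 ≤ N := by
    calc 2 ≤ q := hq2
      _ = q ^ 1 := (pow_one q).symm
      _ ≤ q ^ n.factorial := Nat.pow_le_pow_right (by omega) (Nat.factorial_pos n)
  set y := x ^ N - x with hy
  have hy0 : y ≠ 0 := by
    intro h0
    apply hxtr
    refine ⟨Polynomial.X ^ N - Polynomial.X, ?_, ?_⟩
    · intro h
      have := congrArg (fun p => Polynomial.coeff p 1) h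
      simp only [Polynomial.coeff_sub, Polynomial.coeff_X_pow, Polynomial.coeff_X_one,
        Polynomial.coeff_zero] at this
      rw [if_neg (by omega)] at this
      norm_num at this
    · simp only [map_sub, map_pow, Polynomial.aeval_X]
      exact h0
  refine ((finite_zeros' hK hy0).union (finite_zeros' hK (inv_ne_zero hx0))).subset ?_
  intro P hP
  rw [Set.mem_setOf_eq] at hP
  by_cases hxP : P.1 x ≤ 1
  · left
    rw [Set.mem_setOf_eq]
    have hdvd : P.deg ∣ n.factorial :=
      Nat.dvd_factorial (P.deg_pos hK) hP
    set xO : P.O := ⟨x, P.mem_O_iff.2 hxP⟩ with hxO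
    have h1 := residue_pow_card hK P hdvd (IsLocalRing.residue P.O xO)
    rw [← map_pow, ← sub_eq_zero, ← map_sub, IsLocalRing.residue_eq_zero_iff,
      P.mem_maximalIdeal_iff] at h1
    exact h1
  · right
    rw [Set.mem_setOf_eq, map_inv₀]
    rw [not_le] at hxP
    exact inv_lt_one_of_one_lt₀ hxP

include hK in
lemma apply_mul_deg_le_deg {D : Divisor k K} (hD : 0 ≤ D) (P : Place k K) :
    D P * (P.deg : ℤ) ≤ D.deg := by
  classical
  by_cases hP : P ∈ D.support
  · unfold Divisor.deg Finsupp.sum
    exact Finset.single_le_sum (f := fun Q => D Q * (Q.deg : ℤ))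
      (fun Q _ => mul_nonneg (hD Q) (Nat.cast_nonneg _)) hP
  · rw [Finsupp.notMem_support_iff] at hP
    rw [hP, zero_mul]
    unfold Divisor.deg Finsupp.sum
    exact Finset.sum_nonneg (fun Q _ => mul_nonneg (hD Q) (Nat.cast_nonneg _))

include hK in
/-- There are finitely many effective divisors of degree `n`. -/
theorem finite_effDiv (n : ℕ) : {D : Divisor k K | 0 ≤ D ∧ D.deg = n}.Finite := by
  classical
  set S := (finite_places_deg_le hK n).toFinset with hS
  let g : (S → Fin (n + 1)) → Divisor k K := fun f =>
    ∑ P : S, Finsupp.single (P : Place k K) ((f P : ℕ) : ℤ)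
  refine (Set.finite_range g).subset ?_
  rintro D ⟨hD, hdeg⟩
  have hbound : ∀ P : Place k K, D P ≠ 0 → P.deg ≤ n ∧ D P ≤ n := by
    intro P hP
    have h1 : 1 ≤ D P := by
      have := hD P
      rw [Finsupp.zero_apply] at this
      omega
    have h2 := apply_mul_deg_le_deg hK hD P
    rw [hdeg] at h2
    have h3 : (1 : ℤ) ≤ P.deg := by exact_mod_cast P.deg_pos hK
    constructor
    · have : (P.deg : ℤ) ≤ n := by nlinarith
      exact_mod_cast this
    · nlinarith
  have hle : ∀ P : Place k K, (D P).toNat < n + 1 := by
    intro P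
    by_cases hP : D P = 0
    · rw [hP]; simp
    · have := (hbound P hP).2
      omega
  refine ⟨fun P => ⟨(D P.1).toNat, hle P.1⟩, ?_⟩
  ext Q
  simp only [g, Finsupp.coe_finset_sum, Finset.sum_apply]
  by_cases hQ : D Q = 0
  · rw [hQ]
    refine Finset.sum_eq_zero (fun P _ => ?_)
    by_cases hPQ : (P : Place k K) = Q
    · rw [hPQ, Finsupp.single_eq_same, hQ]; simp
    · rw [Finsupp.single_eq_of_ne (Ne.symm hPQ)]
  · have hQS : Q ∈ S := by
      rw [hS, Set.Finite.mem_toFinset]
      exact (hbound Q hQ).1
    rw [Finset.sum_eq_single (⟨Q, hQS⟩ : S)]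
    · rw [Finsupp.single_eq_same]
      have := hD Q
      rw [Finsupp.zero_apply] at this
      simp only []
      omega
    · intro P _ hPQ
      have : (P : Place k K) ≠ Q := fun h => hPQ (Subtype.ext h)
      rw [Finsupp.single_eq_of_ne (Ne.symm this)]
    · intro h; exact absurd (Finset.mem_univ _) h

end places

end Groth.Agent.H7.Zeta
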