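import Groth.Agent.Lib.Helper7.Old.CE3
import Groth.Agent.Lib.Helper7.Hil1
import Groth.Agent.Lib.Helper7.Z1
import Groth.Agent.Lib.Helper5.FunFld.Approx

/-! Constant field extensions over finite fields: residue fields (helper7). -/

set_option autoImplicit false
set_option linter.unusedSectionVars false

attribute [-instance] IsLocalRing.instModuleResidueFieldOfAlgebra

namespace Groth.Agent.H7.Zeta

universe u v u' v'

open FunFld WithZero Polynomial TensorProduct Groth.Agent.H7.IC Groth.Agent.H7.FF Groth.Agent.H7.CE
  Groth.Agent.H7.Hil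

variable {k : Type u} {k' : Type u'} {K : Type v} {K' : Type v'} [Field k] [Field k'] [Field K] [Field K']
  [Algebra k k'] [FiniteDimensional k k'] [Algebra k K] [Algebra K K'] [Algebra k' K'] [Algebra k K']
  [IsScalarTower k k' K'] [IsScalarTower k K K']

section general

variable (hK : IsFunctionField k K)
  (h : Function.Bijective (Algebra.TensorProduct.productMap
      (IsScalarTower.toAlgHom k k' K') (IsScalarTower.toAlgHom k K K')))

include hK h in
/-- In a constant extension with `F_P ⊗ k'` reduced, every residue class at a place `Q` over `P` is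
represented by an `O_P`-combination of the constants. -/
theorem exists_coeff_residue (P : Place k K)
    [IsReduced ((IsLocalRing.ResidueField P.O) ⊗[k] k')] {Q : Place k K'} (hQ : IsOver Q P)
    (y : K') (hy : Q.1 y ≤ 1) :
    ∃ c : Fin (Module.finrank k k') → K, (∀ i, P.1 (c i) ≤ 1) ∧
      Q.1 (y - ∑ i, c i • algebraMap k' K' (Module.finBasis k k' i)) < 1 := by
  classical
  let _ : Algebra P.O K' := ((algebraMap K K').comp (algebraMap P.O K)).toAlgebra
  have : IsScalarTower P.O K K' := IsScalarTower.of_algebraMap_eq (fun _ => rfl)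
  have := finiteDimensional_constExt h
  have hfin := finite_isOver (K' := K') hK.isFF1 P
  set Qs := hfin.toFinset with hQsdef
  have hQs : ∀ Q, Q ∈ Qs ↔ IsOver Q P := fun Q => by rw [hQsdef, Set.Finite.mem_toFinset]; rfl
  obtain ⟨z, hz⟩ := Place.exists_approx Qs (fun Q' => if Q' = Q then y else 0)
    (ε := 1) one_ne_zero
  have hzQ : Q.1 (z - y) < 1 := by
    have := hz Q ((hQs Q).2 hQ)
    rwa [if_pos rfl] at this
  have hzB : InB P z := by
    intro Q' hQ'
    by_cases hne : Q' = Q
    · subst hne
      have : z = (z - y) + y := by ring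
      rw [this]
      exact (Valuation.map_add _ _ _).trans (max_le hzQ.le hy)
    · have := hz Q' ((hQs Q').2 hQ')
      rw [if_neg hne, sub_zero] at this
      exact this.le
  obtain ⟨c, hc, hzc⟩ := exists_coeff_const P hK h hzB
  refine ⟨c, hc, ?_⟩
  rw [← hzc, ← Valuation.map_neg, neg_sub]
  exact hzQ

end general

section finite

variable [Finite k] (hK : IsFunctionField k K)
  (h : Function.Bijective (Algebra.TensorProduct.productMap
      (IsScalarTower.toAlgHom k k' K') (IsScalarTower.toAlgHom k K K')))

/-- the constants in the residue field of a place of `K'` -/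
noncomputable def kappa (Q : Place k K') : k' →ₐ[k] IsLocalRing.ResidueField Q.O where
  toFun c := IsLocalRing.residue Q.O ⟨algebraMap k' K' c, Q.mem_O_iff.2 (v_const_le_one Q c)⟩
  map_one' := by
    rw [← map_one (IsLocalRing.residue Q.O)]
    congr 1
    exact Subtype.ext (map_one _)
  map_mul' a b := by
    rw [← map_mul]
    congr 1
    exact Subtype.ext (map_mul _ _ _)
  map_zero' := by
    rw [← map_zero (IsLocalRing.residue Q.O)]
    congr 1
    exact Subtype.ext (map_zero _)
  map_add' a b := by
    rw [← map_add]
    congr 1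
    exact Subtype.ext (map_add _ _ _)
  commutes' c := by
    change _ = IsLocalRing.residue Q.O (algebraMap k Q.O c)
    congr 1
    apply Subtype.ext
    change algebraMap k' K' (algebraMap k k' c) = algebraMap k K' c
    rw [← IsScalarTower.algebraMap_apply]

include hK h in
/-- **Degree of a place in a constant extension of a finite field**: `lcm (deg P) [k':k]`. -/
theorem deg_constExt (P : Place k K) {Q : Place k K'} (hQ : IsOver Q P) :
    Q.deg = Nat.lcm P.deg (Module.finrank k k') := by
  classical
  let _ : Fintype k := Fintype.ofFinite k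
  have hsep : Algebra.IsSeparable k k' := Algebra.IsAlgebraic.isSeparable_of_perfectField
  have hfdK' : FiniteDimensional K K' := finiteDimensional_constExt h
  have hK' : IsFF1 k K' := hK.isFF1.of_finite
  have hfd : FiniteDimensional k (IsLocalRing.ResidueField Q.O) :=
    W.Place.finiteDimensional_residueField Q hK'
  have hfinQ : Finite (IsLocalRing.ResidueField Q.O) := Module.finite_of_finite k
  have hfink' : Finite k' := Module.finite_of_finite k
  let _ : Fintype k' := Fintype.ofFinite k'
  set r := Module.finrank k k' with hr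
  set d := P.deg with hd
  set m := Nat.lcm d r with hm
  -- divisibility d ∣ D, r ∣ D
  have h1 : d ∣ Q.deg := ⟨_, by rw [mul_comm]; exact (finrank_F0_mul hQ).symm⟩
  have h2 : r ∣ Q.deg := by
    have e : Module.finrank k k' = Module.finrank k (kappa (k' := k') Q).fieldRange :=
      (AlgEquiv.ofInjectiveField (kappa (k' := k') Q)).toLinearEquiv.finrank_eq
    have h3 := Module.finrank_mul_finrank k (kappa (k' := k') Q).fieldRange
      (IsLocalRing.ResidueField Q.O)
    rw [← e] at h3
    exact ⟨_, h3.symm⟩
  have hlcm : m ∣ Q.deg := Nat.lcm_dvd h1 h2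
  -- Frobenius^m is the identity
  set φ := FiniteField.frobeniusAlgHom k (IsLocalRing.ResidueField Q.O) with hφ
  have hφm : ∀ a, (φ ^ m) a = a ^ (Fintype.card k) ^ m := by
    intro a
    rw [AlgHom.coe_pow, hφ, FiniteField.coe_frobeniusAlgHom, pow_iterate]
  have hcardk : Fintype.card k = Nat.card k := Fintype.card_eq_nat_card
  have hone : φ ^ m = 1 := by
    apply AlgHom.ext
    intro a
    obtain ⟨⟨y, hyO⟩, rfl⟩ := IsLocalRing.residue_surjective a
    have hy : Q.1 y ≤ 1 := Q.mem_O_iff.1 hyO
    obtain ⟨c, hc, hlt⟩ := exists_coeff_residue hK h P hQ y hy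
    -- the residue of y as a combination
    have hres : IsLocalRing.residue Q.O ⟨y, hyO⟩ =
        ∑ i, resAlg hQ (IsLocalRing.residue P.O ⟨c i, P.mem_O_iff.2 (hc i)⟩) *
          kappa Q (Module.finBasis k k' i) := by
      have hmem : ∀ i, c i • algebraMap k' K' (Module.finBasis k k' i) ∈ Q.O := fun i => by
        rw [Algebra.smul_def]
        exact mul_mem (toO hQ ⟨c i, P.mem_O_iff.2 (hc i)⟩).2
          (Q.mem_O_iff.2 (v_const_le_one Q _))
      have hsum : (∑ i, c i • algebraMap k' K' (Module.finBasis k k' i)) ∈ Q.O :=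
        sum_mem (fun i _ => hmem i)
      have e1 : IsLocalRing.residue Q.O ⟨y, hyO⟩ = IsLocalRing.residue Q.O ⟨_, hsum⟩ := by
        rw [← sub_eq_zero, ← map_sub, IsLocalRing.residue_eq_zero_iff, Q.mem_maximalIdeal_iff]
        exact hlt
      rw [e1]
      have e2 : (⟨_, hsum⟩ : Q.O) = ∑ i, (toO hQ ⟨c i, P.mem_O_iff.2 (hc i)⟩) *
          ⟨algebraMap k' K' (Module.finBasis k k' i), Q.mem_O_iff.2 (v_const_le_one Q _)⟩ := by
        apply Subtype.ext
        rw [AddSubmonoidClass.coe_finsetSum]
        change ∑ i, c i • algebraMap k' K' (Module.finBasis k k' i) = _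
        refine Finset.sum_congr rfl (fun i _ => ?_)
        rw [Algebra.smul_def]
        rfl
      rw [e2, map_sum]
      refine Finset.sum_congr rfl (fun i _ => ?_)
      rw [map_mul]
      rfl
    rw [hres, map_sum, AlgHom.one_apply]
    refine Finset.sum_congr rfl (fun i _ => ?_)
    have e3 : ∀ x : IsLocalRing.ResidueField P.O,
        (resAlg hQ x) ^ (Fintype.card k) ^ m = resAlg hQ x := by
      intro x
      rw [← map_pow, hcardk, residue_pow_card hK P (Nat.dvd_lcm_left d r) x]
    have e4 : ∀ b : k', (kappa Q b) ^ (Fintype.card k) ^ m = kappa Q b := by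
      intro b
      rw [← map_pow]
      congr 1
      have hck' : Fintype.card k' = Fintype.card k ^ r := Module.card_eq_pow_finrank
      obtain ⟨e, he⟩ := Nat.dvd_lcm_right d r
      rw [← hm] at he
      rw [he, pow_mul, ← hck']
      exact FiniteField.pow_card_pow e b
    rw [map_mul, hφm, hφm, e3, e4]
  have hord := FiniteField.orderOf_frobeniusAlgHom k (IsLocalRing.ResidueField Q.O)
  have hdvd : Q.deg ∣ m := by
    have := orderOf_dvd_of_pow_eq_one hone
    rw [hφ, hord] at this
    exact this
  exact Nat.dvd_antisymm hdvd hlcm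

include hK h in
/-- The number of places over `P` in a constant extension of a finite field is
`gcd (deg P) [k':k]`. -/
theorem card_places_over (P : Place k K) (Qs : Finset (Place k K'))
    (hQs : ∀ Q, Q ∈ Qs ↔ IsOver Q P) : Qs.card = Nat.gcd P.deg (Module.finrank k k') := by
  classical
  let _ : Algebra P.O K' := ((algebraMap K K').comp (algebraMap P.O K)).toAlgebra
  have : IsScalarTower P.O K K' := IsScalarTower.of_algebraMap_eq (fun _ => rfl)
  have hsep : Algebra.IsSeparable k k' := Algebra.IsAlgebraic.isSeparable_of_perfectField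
  have hfdK' : FiniteDimensional K K' := finiteDimensional_constExt h
  have hsum := FunFld.sum_ramIdx_mul_deg (K' := K') hK P Qs hQs
  rw [finrank_constExt h] at hsum
  have hterm : ∀ Q ∈ Qs, ramIdx Q P * Q.deg = Nat.lcm P.deg (Module.finrank k k') := by
    intro Q hQ
    have hQ' := (hQs Q).1 hQ
    rw [(isOverWith_one P hK h hQ').ramIdx_eq, one_mul, deg_constExt hK h P hQ']
  rw [Finset.sum_congr rfl hterm, Finset.sum_const, smul_eq_mul] at hsum
  have hpos : 0 < Nat.lcm P.deg (Module.finrank k k') :=
    Nat.lcm_pos (W.Place.deg_pos P hK.isFF1) Module.finrank_pos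
  have hgl := Nat.gcd_mul_lcm P.deg (Module.finrank k k')
  have : Qs.card * Nat.lcm P.deg (Module.finrank k k') =
      Nat.gcd P.deg (Module.finrank k k') * Nat.lcm P.deg (Module.finrank k k') := by
    rw [hsum, hgl, mul_comm]
  exact Nat.eq_of_mul_eq_mul_right hpos this

end finite

end Groth.Agent.H7.Zeta
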