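import Groth.Agent.Lib.Helper7.Z4

/-! Places of `K'` over `k` and over `k'` (helper7). -/

set_option autoImplicit false
set_option linter.unusedSectionVars false

attribute [-instance] IsLocalRing.instModuleResidueFieldOfAlgebra

namespace Groth.Agent.H7.Zeta

open FunFld WithZero

section updown

variable {k k' K' : Type*} [Field k] [Field k'] [Field K'] [Algebra k k'] [Algebra k' K']
  [Algebra k K'] [IsScalarTower k k' K']

/-- a place over `k'` is a place over `k` -/
def down (Q : Place k' K') : Place k K' :=
  ⟨Q.1, fun c => by rw [IsScalarTower.algebraMap_apply k k' K']; exact Q.2.1 _, Q.2.2⟩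

@[simp] lemma down_apply (Q : Place k' K') (y : K') : (down (k := k) Q).1 y = Q.1 y := rfl

/-- a place over `k` is a place over the algebraic extension `k'` -/
def up [Algebra.IsAlgebraic k k'] (Q : Place k K') : Place k' K' :=
  ⟨Q.1, fun c => by
    rcases eq_or_ne c 0 with rfl | hc
    · simp
    · have halg : IsAlgebraic k (algebraMap k' K' c) :=
        (Algebra.IsAlgebraic.isAlgebraic c).algebraMap
      exact (v_eq_one_of_isAlgebraic Q.1 Q.v_algebraMap_le
        ((map_ne_zero_iff _ (algebraMap k' K').injective).2 hc) halg).le, Q.2.2⟩

@[simp] lemma up_apply [Algebra.IsAlgebraic k k'] (Q : Place k K') (y : K') :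
    (up (k' := k') Q).1 y = Q.1 y := rfl

lemma down_up [Algebra.IsAlgebraic k k'] (Q : Place k K') : down (up (k' := k') Q) = Q := rfl

lemma up_down [Algebra.IsAlgebraic k k'] (Q : Place k' K') : up (down (k := k) Q) = Q := rfl

/-- places over `k'` and over `k` correspond -/
def downEquiv [Algebra.IsAlgebraic k k'] : Place k' K' ≃ Place k K' where
  toFun := down
  invFun := up
  left_inv := up_down
  right_inv := down_up

/-- `deg_k Q = [k':k] deg_{k'} Q` -/
theorem deg_down (Q : Place k' K') :
    (down (k := k) Q).deg = Module.finrank k k' * Q.deg := by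
  let _ : Algebra k (IsLocalRing.ResidueField Q.O) := (down (k := k) Q).algRes
  have : IsScalarTower k k' (IsLocalRing.ResidueField Q.O) := by
    refine IsScalarTower.of_algebraMap_eq (fun c => ?_)
    change IsLocalRing.residue Q.O (algebraMap k (down (k := k) Q).O c) =
      IsLocalRing.residue Q.O (algebraMap k' Q.O (algebraMap k k' c))
    congr 1
    apply Subtype.ext
    change algebraMap k K' c = algebraMap k' K' (algebraMap k k' c)
    rw [← IsScalarTower.algebraMap_apply]
  exact (Module.finrank_mul_finrank k k' (IsLocalRing.ResidueField Q.O)).symm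

end updown

end Groth.Agent.H7.Zeta
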