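import Groth.Agent.Lib.Helper7.Z6

/-! F. K. Schmidt's theorem: the degree map is onto over a finite constant field (helper7). -/

set_option autoImplicit false
set_option linter.unusedSectionVars false

attribute [-instance] IsLocalRing.instModuleResidueFieldOfAlgebra

namespace Groth.Agent.H7.Zeta

universe u v u' v'

open FunFld WithZero TensorProduct

section lift

variable {k : Type u} {K : Type v} {k' : Type u'} {K' : Type v'} [Field k] [Field K] [Algebra k K]
  [Field k'] [Field K'] [Algebra k' K']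

lemma deg_zsmul (n : ℤ) (D : Divisor k K) : (n • D).deg = n * D.deg := by
  rw [← degHom_apply, map_zsmul, degHom_apply, smul_eq_mul]

lemma mapDomain_nonneg (q : Place k K → Place k' K') {D : Divisor k K} (hD : 0 ≤ D) :
    0 ≤ (Finsupp.mapDomain q D : Divisor k' K') := by
  unfold Finsupp.mapDomain Finsupp.sum
  refine Finset.sum_nonneg (fun P _ => ?_)
  rw [Finsupp.single_nonneg]
  exact hD P

lemma deg_mapDomain (q : Place k K → Place k' K') (r : ℕ)
    (hd : ∀ P, r * (q P).deg = P.deg) (D : Divisor k K) :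
    (r : ℤ) * Divisor.deg (Finsupp.mapDomain q D : Divisor k' K') = D.deg := by
  unfold Divisor.deg
  rw [Finsupp.sum_mapDomain_index (fun _ => by simp) (fun _ _ _ => by ring), Finsupp.mul_sum]
  refine Finsupp.sum_congr (fun P _ => ?_)
  rw [← hd P]; push_cast; ring

/-- the double lift of effective divisors is injective, giving a lower bound for the number of
effective divisors upstairs -/
theorem sum_le_effDivCount [Finite k] (hK : IsFunctionField k K)
    (q₁ q₂ : Place k K → Place k' K') (hq₁ : Function.Injective q₁) (hq₂ : Function.Injective q₂)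
    (hdisj : ∀ P P', q₁ P ≠ q₂ P') (r : ℕ) (hr : 0 < r)
    (hd₁ : ∀ P, r * (q₁ P).deg = P.deg) (hd₂ : ∀ P, r * (q₂ P).deg = P.deg) (m : ℕ)
    (hfin : Finite {D : Divisor k' K' // 0 ≤ D ∧ D.deg = (m : ℤ)}) :
    ∑ j ∈ Finset.range (m + 1), effDivCount k K (r * j) * effDivCount k K (r * (m - j)) ≤
      effDivCount k' K' m := by
  classical
  let E : ℕ → Type _ := fun n => {D : Divisor k K // 0 ≤ D ∧ D.deg = (n : ℤ)}
  have hE : ∀ n, Finite (E n) := fun n => (finite_effDiv hK n).to_subtype
  let β : Fin (m + 1) → Type _ := fun j => E (r * (j : ℕ)) × E (r * (m - (j : ℕ)))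
  have hβ : ∀ j, Finite (β j) := fun j => inferInstance
  have hdeg : ∀ x : Sigma β, Divisor.deg (Finsupp.mapDomain q₁ x.2.1.1 +
      Finsupp.mapDomain q₂ x.2.2.1 : Divisor k' K') = (m : ℤ) := by
    intro x
    have h1 := deg_mapDomain q₁ r hd₁ x.2.1.1
    have h2 := deg_mapDomain q₂ r hd₂ x.2.2.1
    rw [x.2.1.2.2] at h1
    rw [x.2.2.2.2] at h2
    have hj : (x.1 : ℕ) ≤ m := Nat.lt_succ_iff.1 x.1.2
    have hr' : (r : ℤ) ≠ 0 := by exact_mod_cast hr.ne'
    apply mul_left_cancel₀ hr'
    rw [Divisor.deg_add, mul_add, h1, h2]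
    push_cast [Nat.cast_sub hj]
    ring
  let Φ : Sigma β → {D : Divisor k' K' // 0 ≤ D ∧ D.deg = (m : ℤ)} := fun x =>
    ⟨Finsupp.mapDomain q₁ x.2.1.1 + Finsupp.mapDomain q₂ x.2.2.1,
      add_nonneg (mapDomain_nonneg q₁ x.2.1.2.1) (mapDomain_nonneg q₂ x.2.2.2.1), hdeg x⟩
  have hΦ : Function.Injective Φ := by
    rintro ⟨j, ⟨D₁, hD₁⟩, ⟨D₂, hD₂⟩⟩ ⟨j', ⟨D₁', hD₁'⟩, ⟨D₂', hD₂'⟩⟩ hxy
    have hval : Finsupp.mapDomain q₁ D₁ + Finsupp.mapDomain q₂ D₂ =
        (Finsupp.mapDomain q₁ D₁' + Finsupp.mapDomain q₂ D₂' : Divisor k' K') :=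
      congrArg Subtype.val hxy
    have e1 : D₁ = D₁' := by
      ext P
      have := DFunLike.congr_fun hval (q₁ P)
      rw [Finsupp.add_apply, Finsupp.add_apply, Finsupp.mapDomain_apply hq₁,
        Finsupp.mapDomain_apply hq₁, Finsupp.mapDomain_notin_range, Finsupp.mapDomain_notin_range,
        add_zero, add_zero] at this
      · exact this
      · rintro ⟨P', hP'⟩; exact hdisj P P' hP'.symm
      · rintro ⟨P', hP'⟩; exact hdisj P P' hP'.symm
    have e2 : D₂ = D₂' := by
      ext P
      have := DFunLike.congr_fun hval (q₂ P)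
      rw [Finsupp.add_apply, Finsupp.add_apply, Finsupp.mapDomain_apply hq₂,
        Finsupp.mapDomain_apply hq₂, Finsupp.mapDomain_notin_range, Finsupp.mapDomain_notin_range,
        zero_add, zero_add] at this
      · exact this
      · rintro ⟨P', hP'⟩; exact hdisj P' P hP'
      · rintro ⟨P', hP'⟩; exact hdisj P' P hP'
    subst e1 e2
    have hjj : j = j' := by
      have h1 := hD₁.2
      have h2 := hD₁'.2
      rw [h1] at h2
      have h3 : r * (j : ℕ) = r * (j' : ℕ) := by exact_mod_cast h2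
      exact Fin.ext (Nat.eq_of_mul_eq_mul_left hr h3)
    subst hjj
    rfl
  have hle := Nat.card_le_card_of_injective Φ hΦ
  rw [Nat.card_sigma] at hle
  rw [Finset.sum_range]
  refine le_trans (le_of_eq ?_) hle
  refine Finset.sum_congr rfl (fun j _ => ?_)
  rw [Nat.card_prod]
  rfl

end lift

section bounds

variable {k : Type u} {K : Type v} [Field k] [Field K] [Algebra k K] [Finite k]
  (hK : IsFunctionField k K)

include hK in
lemma classNum_pos : 1 ≤ classNum k K := by
  have := finite_Cl0 hK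
  exact Nat.card_pos

include hK in
/-- lower bound `q^(n-g) ≤ a(n)` for a degree `n ≥ 2g - 1`, `n ≥ g`. -/
theorem pow_le_effDivCount {n : ℕ} (hn : 2 * genus k K ≤ n + 1) (hg : genus k K ≤ n)
    (D₀ : Divisor k K) (hD₀ : D₀.deg = (n : ℤ)) :
    Nat.card k ^ (n - genus k K) ≤ effDivCount k K n := by
  have h1 := effDivCount_eq hK hn D₀ hD₀
  have hh : (1 : ℤ) ≤ classNum k K := by exact_mod_cast classNum_pos hK
  have hq : (2 : ℤ) ≤ Nat.card k := by exact_mod_cast (Finite.one_lt_card : 1 < Nat.card k)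
  rw [show n + 1 - genus k K = (n - genus k K) + 1 by omega, pow_succ] at h1
  have hX : (1 : ℤ) ≤ (Nat.card k : ℤ) ^ (n - genus k K) := one_le_pow₀ (by linarith)
  by_contra hlt
  push Not at hlt
  have hlt' : (effDivCount k K n : ℤ) + 1 ≤ (Nat.card k : ℤ) ^ (n - genus k K) := by
    exact_mod_cast hlt
  set X : ℤ := (Nat.card k : ℤ) ^ (n - genus k K)
  set a : ℤ := (effDivCount k K n : ℤ)
  set q : ℤ := (Nat.card k : ℤ)
  set c : ℤ := (classNum k K : ℤ)
  have e1 : 0 ≤ (c - 1) * (X * q - 1) := mul_nonneg (by linarith) (by nlinarith)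
  have e2 : 0 ≤ (q - 1) * (X - 1 - a) := mul_nonneg (by linarith) (by linarith)
  nlinarith

include hK in
/-- upper bound `a(n) ≤ h q^(n+1)` for `n ≥ 2g - 1`. -/
theorem effDivCount_le {n : ℕ} (hn : 2 * genus k K ≤ n + 1) :
    effDivCount k K n ≤ classNum k K * Nat.card k ^ (n + 1) := by
  obtain ⟨-, hS⟩ := S11037 hK
  obtain ⟨h1, h2⟩ := hS n hn
  by_cases hex : ∃ D : Divisor k K, D.deg = n
  · have h3 := h1 hex
    have hq : (2 : ℤ) ≤ Nat.card k := by exact_mod_cast (Finite.one_lt_card : 1 < Nat.card k)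
    have hpow : (Nat.card k : ℤ) ^ (n + 1 - genus k K) ≤ (Nat.card k : ℤ) ^ (n + 1) :=
      pow_le_pow_right₀ (by linarith) (by omega)
    have ha : (0 : ℤ) ≤ effDivCount k K n := Nat.cast_nonneg _
    have hc : (0 : ℤ) ≤ classNum k K := Nat.cast_nonneg _
    have goal : (effDivCount k K n : ℤ) ≤ (classNum k K : ℤ) * (Nat.card k : ℤ) ^ (n + 1) := by
      set a : ℤ := (effDivCount k K n : ℤ)
      set q : ℤ := (Nat.card k : ℤ)
      set c : ℤ := (classNum k K : ℤ)
      have e1 : 0 ≤ a * (q - 2) := mul_nonneg ha (by linarith)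
      have e2 : c * q ^ (n + 1 - genus k K) ≤ c * q ^ (n + 1) :=
        mul_le_mul_of_nonneg_left hpow hc
      nlinarith
    exact_mod_cast goal
  · rw [h2 hex]; exact Nat.zero_le _

end bounds

section main

variable {k : Type u} {k' : Type u'} {K : Type v} {K' : Type v'} [Field k] [Field k'] [Field K]
  [Field K'] [Algebra k k'] [FiniteDimensional k k'] [Algebra k K] [Algebra K K'] [Algebra k' K']
  [Algebra k K'] [IsScalarTower k k' K'] [IsScalarTower k K K'] [Finite k]

variable (hK : IsFunctionField k K)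
  (h : Function.Bijective (Algebra.TensorProduct.productMap
      (IsScalarTower.toAlgHom k k' K') (IsScalarTower.toAlgHom k K K')))

include hK h in
/-- two distinct places above each place whose degree is divisible by `[k':k] ≥ 2` -/
theorem exists_two_over (hr : 2 ≤ Module.finrank k k') (P : Place k K)
    (hP : Module.finrank k k' ∣ P.deg) :
    ∃ Q₁ Q₂ : Place k K', IsOver Q₁ P ∧ IsOver Q₂ P ∧ Q₁ ≠ Q₂ ∧ Q₁.deg = P.deg ∧
      Q₂.deg = P.deg := by
  classical
  have hfdK' : FiniteDimensional K K' := FF.finiteDimensional_constExt h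
  have hfin := finite_isOver (K' := K') hK.isFF1 P
  have hcard := card_places_over hK h P hfin.toFinset (fun Q => by simp)
  rw [Nat.gcd_eq_right hP] at hcard
  have h1 : 1 < hfin.toFinset.card := by omega
  obtain ⟨Q₁, hQ₁, Q₂, hQ₂, hne⟩ := Finset.one_lt_card.1 h1
  simp only [Set.Finite.mem_toFinset, Set.mem_setOf_eq] at hQ₁ hQ₂
  refine ⟨Q₁, Q₂, hQ₁, hQ₂, hne, ?_, ?_⟩
  · rw [deg_constExt hK h P hQ₁, Nat.lcm_eq_left hP]
  · rw [deg_constExt hK h P hQ₂, Nat.lcm_eq_left hP]

include hK h in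
/-- the degrees of the places cannot all be divisible by `r ≥ 2` when some divisor has degree `r` -/
theorem false_of_dvd (hK' : IsFunctionField k' K') (hr : 2 ≤ Module.finrank k k')
    (hdiv : ∀ P : Place k K, Module.finrank k k' ∣ P.deg) (D₁ : Divisor k K)
    (hD₁ : D₁.deg = (Module.finrank k k' : ℤ)) : False := by
  classical
  have hfink' : Finite k' := Module.finite_of_finite k
  choose Q₁ Q₂ hQ₁ hQ₂ hne hd₁ hd₂ using fun P => exists_two_over hK h hr P (hdiv P)
  set r := Module.finrank k k' with hrdef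
  have hr0 : 0 < r := by omega
  let q₁ : Place k K → Place k' K' := fun P => up (k' := k') (Q₁ P)
  let q₂ : Place k K → Place k' K' := fun P => up (k' := k') (Q₂ P)
  have hq₁ : Function.Injective q₁ := by
    intro P P' hPP'
    have h1 : Q₁ P = Q₁ P' := by
      have := congrArg (down (k := k) (k' := k')) hPP'
      exact this
    exact (hQ₁ P).unique (h1 ▸ hQ₁ P')
  have hq₂ : Function.Injective q₂ := by
    intro P P' hPP'
    have h1 : Q₂ P = Q₂ P' := by
      have := congrArg (down (k := k) (k' := k')) hPP'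
      exact this
    exact (hQ₂ P).unique (h1 ▸ hQ₂ P')
  have hdisj : ∀ P P', q₁ P ≠ q₂ P' := by
    intro P P' hPP'
    have h1 : Q₁ P = Q₂ P' := by
      have := congrArg (down (k := k) (k' := k')) hPP'
      exact this
    have h2 : P = P' := (hQ₁ P).unique (h1 ▸ hQ₂ P')
    subst h2
    exact hne P h1
  have hdq₁ : ∀ P, r * (q₁ P).deg = P.deg := by
    intro P
    have := deg_down (k := k) (q₁ P)
    rw [← hd₁ P, ← this]
    rfl
  have hdq₂ : ∀ P, r * (q₂ P).deg = P.deg := by
    intro P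
    have := deg_down (k := k) (q₂ P)
    rw [← hd₂ P, ← this]
    rfl
  set g := genus k K with hg
  set g' := genus k' K' with hg'
  set c' := classNum k' K' with hc'
  set q := Nat.card k with hq
  have hq2 : 2 ≤ q := (Finite.one_lt_card : 1 < Nat.card k)
  have hcardk' : Nat.card k' = q ^ r := Module.natCard_eq_pow_finrank
  set N := c' * q ^ (r + 2 * g) with hN
  set m := 4 * g + 2 * g' + N with hm
  have hsum := sum_le_effDivCount hK q₁ q₂ hq₁ hq₂ hdisj r hr0 hdq₁ hdq₂ m
    (finite_effDiv hK' m).to_subtype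
  have hup := effDivCount_le hK' (n := m) (by omega)
  rw [hcardk', ← pow_mul] at hup
  -- lower bound of the sum
  have hrm : 2 * g ≤ r * m := by
    have : 4 * g ≤ m := by omega
    nlinarith
  have hlow : ∀ j ∈ Finset.Ico (2 * g) (m - 2 * g + 1), q ^ (r * m - 2 * g) ≤
      effDivCount k K (r * j) * effDivCount k K (r * (m - j)) := by
    intro j hj
    rw [Finset.mem_Ico] at hj
    have hj1 : 2 * g ≤ j := hj.1
    have hj2 : 2 * g ≤ m - j := by omega
    have hjm : j ≤ m := by omega
    have hA : 2 * g ≤ r * j := by nlinarith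
    have hB : 2 * g ≤ r * (m - j) := by nlinarith
    have hAB : r * j + r * (m - j) = r * m := by rw [← Nat.mul_add]; congr 1; omega
    have e1 := pow_le_effDivCount hK (n := r * j) (by omega) (by omega) ((j : ℤ) • D₁)
      (by rw [deg_zsmul, hD₁]; push_cast; ring)
    have e2 := pow_le_effDivCount hK (n := r * (m - j)) (by omega) (by omega)
      (((m - j : ℕ) : ℤ) • D₁) (by rw [deg_zsmul, hD₁]; push_cast; ring)
    calc q ^ (r * m - 2 * g) = q ^ (r * j - g) * q ^ (r * (m - j) - g) := by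
          rw [← pow_add]; congr 1; omega
      _ ≤ _ := Nat.mul_le_mul e1 e2
  have hsub : Finset.Ico (2 * g) (m - 2 * g + 1) ⊆ Finset.range (m + 1) := by
    intro j hj
    rw [Finset.mem_Ico] at hj
    rw [Finset.mem_range]
    omega
  have hsum2 : (N + 2 * g' + 1) * q ^ (r * m - 2 * g) ≤
      ∑ j ∈ Finset.range (m + 1), effDivCount k K (r * j) * effDivCount k K (r * (m - j)) := by
    calc (N + 2 * g' + 1) * q ^ (r * m - 2 * g)
        = ∑ j ∈ Finset.Ico (2 * g) (m - 2 * g + 1), q ^ (r * m - 2 * g) := by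
          rw [Finset.sum_const, Nat.card_Ico, smul_eq_mul]
          congr 1
          omega
      _ ≤ ∑ j ∈ Finset.Ico (2 * g) (m - 2 * g + 1),
            effDivCount k K (r * j) * effDivCount k K (r * (m - j)) := Finset.sum_le_sum hlow
      _ ≤ _ := Finset.sum_le_sum_of_subset hsub
  have hfinal : (N + 2 * g' + 1) * q ^ (r * m - 2 * g) ≤ N * q ^ (r * m - 2 * g) := by
    calc (N + 2 * g' + 1) * q ^ (r * m - 2 * g) ≤ effDivCount k' K' m := hsum2.trans hsum
      _ ≤ c' * q ^ (r * (m + 1)) := hup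
      _ = N * q ^ (r * m - 2 * g) := by
          rw [hN, mul_assoc, ← pow_add]
          congr 2
          rw [Nat.mul_add, Nat.mul_one]
          omega
  have hpos : 0 < q ^ (r * m - 2 * g) := Nat.pow_pos (by omega)
  have := Nat.le_of_mul_le_mul_right hfinal hpos
  omega

end main

/-- **S11035** (F. K. Schmidt): over a finite constant field the degree map is onto. -/
theorem deg_surjective {k : Type u} {K : Type v} [Field k] [Finite k] [Field K] [Algebra k K]
    (hK : IsFunctionField k K) :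
    Function.Surjective (Divisor.deg : Divisor k K → ℤ) := by
  classical
  obtain ⟨P₀⟩ := nonempty_place hK
  have hex : ∃ n : ℕ, 0 < n ∧ ∃ D : Divisor k K, D.deg = (n : ℤ) :=
    ⟨P₀.deg, P₀.deg_pos hK, Finsupp.single P₀ 1, by rw [Divisor.deg_single]; simp⟩
  obtain ⟨hd0, D₁, hD₁⟩ := Nat.find_spec hex
  set d := Nat.find hex with hd
  have hdiv : ∀ P : Place k K, d ∣ P.deg := by
    intro P
    by_contra hnd
    have hlt : P.deg % d < d := Nat.mod_lt _ hd0
    have hpos : 0 < P.deg % d := Nat.pos_of_ne_zero (fun h0 => hnd (Nat.dvd_of_mod_eq_zero h0))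
    refine Nat.find_min hex hlt ⟨hpos, Finsupp.single P 1 - ((P.deg / d : ℕ) : ℤ) • D₁, ?_⟩
    rw [Divisor.deg_sub, Divisor.deg_single, deg_zsmul, hD₁]
    have := Nat.div_add_mod P.deg d
    have h2 : ((d * (P.deg / d) + P.deg % d : ℕ) : ℤ) = (P.deg : ℤ) := by rw [this]
    push_cast at h2 ⊢
    linarith
  by_cases hd1 : d = 1
  · intro n
    exact ⟨n • D₁, by rw [deg_zsmul, hD₁, hd1]; simp⟩
  · exfalso
    have hd2 : 2 ≤ d := by omega
    obtain ⟨k', K', _, _, _, _, _, _, _, _, _, hfr, h⟩ := exists_constExt hK d hd0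
    have hK' := (FF.constExt h hK (isGeometric_of_perfectField k K hK)).1
    exact false_of_dvd hK h hK' (hfr ▸ hd2) (hfr ▸ hdiv) D₁ (by rw [hD₁, hfr])

end Groth.Agent.H7.Zeta
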