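import Groth.Agent.Lib.Helper7.Z7

/-! Rationality of the zeta function of a function field over a finite field and `L(1) = h`
(helper7; S11036, S11038). -/

set_option autoImplicit false
set_option linter.unusedSectionVars false

namespace Groth.Agent.H7.Zeta

open FunFld PowerSeries

section coeff

lemma coeff_succ_one_sub_CX_mul (c : ℤ) (φ : PowerSeries ℤ) (n : ℕ) :
    coeff (n + 1) ((1 - C c * X) * φ) = coeff (n + 1) φ - c * coeff n φ := by
  rw [sub_mul, one_mul, map_sub, mul_assoc, coeff_C_mul, coeff_succ_X_mul]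

lemma coeff_zero_one_sub_CX_mul (c : ℤ) (φ : PowerSeries ℤ) :
    coeff 0 ((1 - C c * X) * φ) = coeff 0 φ := by
  rw [sub_mul, one_mul, map_sub, mul_assoc, coeff_C_mul, coeff_zero_X_mul, mul_zero, sub_zero]

lemma coeff_succ_one_sub_X_mul (φ : PowerSeries ℤ) (n : ℕ) :
    coeff (n + 1) ((1 - X) * φ) = coeff (n + 1) φ - coeff n φ := by
  have := coeff_succ_one_sub_CX_mul 1 φ n
  rwa [map_one, one_mul, one_mul] at this

lemma coeff_zero_one_sub_X_mul (φ : PowerSeries ℤ) :
    coeff 0 ((1 - X) * φ) = coeff 0 φ := by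
  have := coeff_zero_one_sub_CX_mul 1 φ
  rwa [map_one, one_mul] at this

/-- telescoping -/
lemma sum_coeff_one_sub_X_mul (φ : PowerSeries ℤ) (N : ℕ) :
    ∑ i ∈ Finset.range (N + 1), coeff i ((1 - X) * φ) = coeff N φ := by
  induction N with
  | zero => simp [coeff_zero_one_sub_X_mul]
  | succ N ih => rw [Finset.sum_range_succ, ih, coeff_succ_one_sub_X_mul]; ring

variable (k K : Type*) [Field k] [Field K] [Algebra k K]

/-- `(1 - qt) Z(t)` -/
noncomputable def zetaB : PowerSeries ℤ :=
  (1 - C (Nat.card k : ℤ) * X) * zetaZ k K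

lemma numerZ_eq : numerZ k K = (1 - X) * zetaB k K := by
  unfold numerZ zetaB; ring

lemma coeff_zetaZ (n : ℕ) : coeff n (zetaZ k K) = (effDivCount k K n : ℤ) := by
  unfold zetaZ; rw [coeff_mk]

lemma coeff_zero_zetaB : coeff 0 (zetaB k K) = (effDivCount k K 0 : ℤ) := by
  unfold zetaB; rw [coeff_zero_one_sub_CX_mul, coeff_zetaZ]

lemma coeff_succ_zetaB (n : ℕ) : coeff (n + 1) (zetaB k K) =
    (effDivCount k K (n + 1) : ℤ) - (Nat.card k : ℤ) * effDivCount k K n := by
  unfold zetaB; rw [coeff_succ_one_sub_CX_mul, coeff_zetaZ, coeff_zetaZ]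

lemma coeff_zero_numerZ : coeff 0 (numerZ k K) = (effDivCount k K 0 : ℤ) := by
  rw [numerZ_eq, coeff_zero_one_sub_X_mul, coeff_zero_zetaB]

lemma coeff_one_numerZ : coeff 1 (numerZ k K) =
    (effDivCount k K 1 : ℤ) - ((Nat.card k : ℤ) + 1) * effDivCount k K 0 := by
  rw [numerZ_eq, coeff_succ_one_sub_X_mul, coeff_succ_zetaB, coeff_zero_zetaB]; ring

lemma coeff_add_two_numerZ (n : ℕ) : coeff (n + 2) (numerZ k K) =
    (effDivCount k K (n + 2) : ℤ) - ((Nat.card k : ℤ) + 1) * effDivCount k K (n + 1) +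
      (Nat.card k : ℤ) * effDivCount k K n := by
  rw [numerZ_eq, coeff_succ_one_sub_X_mul, coeff_succ_zetaB, coeff_succ_zetaB]; ring

end coeff

section finite

variable {k K : Type*} [Field k] [Field K] [Algebra k K] [Finite k] (hK : IsFunctionField k K)

include hK in
/-- the count of effective divisors of large degree (every degree is attained) -/
theorem effDivCount_eq' {n : ℕ} (hn : 2 * genus k K ≤ n + 1) :
    ((Nat.card k : ℤ) - 1) * (effDivCount k K n : ℤ) =
      (classNum k K : ℤ) * ((Nat.card k : ℤ) ^ (n + 1 - genus k K) - 1) := by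
  obtain ⟨D₀, hD₀⟩ := deg_surjective hK (n : ℤ)
  exact effDivCount_eq hK hn D₀ hD₀

lemma card_sub_one_ne_zero : ((Nat.card k : ℤ) - 1) ≠ 0 := by
  have hq : (2 : ℤ) ≤ Nat.card k := by exact_mod_cast (Finite.one_lt_card : 1 < Nat.card k)
  intro h; linarith

include hK in
/-- `L(t)` has no terms of degree `> 2g` -/
theorem coeff_numerZ_eq_zero {n : ℕ} (hn : 2 * genus k K < n) : coeff n (numerZ k K) = 0 := by
  apply (mul_right_injective₀ (card_sub_one_ne_zero (k := k))).eq_iff.1
  simp only [mul_zero]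
  match n, hn with
  | 0, hn => omega
  | 1, hn =>
    have hg : genus k K = 0 := by omega
    have h0 := effDivCount_eq' hK (n := 0) (by omega)
    have h1 := effDivCount_eq' hK (n := 1) (by omega)
    rw [hg] at h0 h1
    rw [coeff_one_numerZ]
    simp only [zero_add, Nat.sub_zero, pow_one] at h0 h1
    have e : ((Nat.card k : ℤ) - 1) * ((effDivCount k K 1 : ℤ) -
        ((Nat.card k : ℤ) + 1) * effDivCount k K 0) =
        ((Nat.card k : ℤ) - 1) * (effDivCount k K 1 : ℤ) -
        ((Nat.card k : ℤ) + 1) * (((Nat.card k : ℤ) - 1) * effDivCount k K 0) := by ring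
    rw [e, h0, h1]; ring
  | n + 2, hn =>
    have h0 := effDivCount_eq' hK (n := n) (by omega)
    have h1 := effDivCount_eq' hK (n := n + 1) (by omega)
    have h2 := effDivCount_eq' hK (n := n + 2) (by omega)
    rw [show n + 1 + 1 - genus k K = (n + 1 - genus k K) + 1 by omega, pow_succ] at h1
    rw [show n + 2 + 1 - genus k K = (n + 1 - genus k K) + 2 by omega, pow_add] at h2
    rw [coeff_add_two_numerZ]
    have e : ((Nat.card k : ℤ) - 1) * ((effDivCount k K (n + 2) : ℤ) -
        ((Nat.card k : ℤ) + 1) * effDivCount k K (n + 1) + (Nat.card k : ℤ) * effDivCount k K n) =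
        ((Nat.card k : ℤ) - 1) * (effDivCount k K (n + 2) : ℤ) -
        ((Nat.card k : ℤ) + 1) * (((Nat.card k : ℤ) - 1) * effDivCount k K (n + 1)) +
        (Nat.card k : ℤ) * (((Nat.card k : ℤ) - 1) * effDivCount k K n) := by ring
    rw [e, h0, h1, h2]; ring

include hK in
/-- **S11036** -/
theorem exists_poly_numerZ : ∃ p : Polynomial ℤ, (p : PowerSeries ℤ) = numerZ k K := by
  refine ⟨trunc (2 * genus k K + 1) (numerZ k K), ?_⟩
  ext n
  rw [Polynomial.coeff_coe, coeff_trunc]
  split_ifs with h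
  · rfl
  · rw [coeff_numerZ_eq_zero hK (by omega)]

include hK in
/-- **S11038** -/
theorem eval_one_numerZ (p : Polynomial ℤ) (hp : (p : PowerSeries ℤ) = numerZ k K) :
    p.eval 1 = (classNum k K : ℤ) := by
  set N := p.natDegree + 2 * genus k K with hN
  rw [Polynomial.eval_eq_sum_range' (n := N + 1 + 1) (by omega)]
  have hc : ∀ i, p.coeff i = coeff i (numerZ k K) := fun i => by
    rw [← hp, Polynomial.coeff_coe]
  simp only [one_pow, mul_one, hc]
  rw [numerZ_eq, sum_coeff_one_sub_X_mul, coeff_succ_zetaB]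
  apply (mul_right_injective₀ (card_sub_one_ne_zero (k := k))).eq_iff.1
  have h0 := effDivCount_eq' hK (n := N) (by omega)
  have h1 := effDivCount_eq' hK (n := N + 1) (by omega)
  rw [show N + 1 + 1 - genus k K = (N + 1 - genus k K) + 1 by omega, pow_succ] at h1
  have e : ((Nat.card k : ℤ) - 1) * ((effDivCount k K (N + 1) : ℤ) -
      (Nat.card k : ℤ) * effDivCount k K N) =
      ((Nat.card k : ℤ) - 1) * (effDivCount k K (N + 1) : ℤ) -
      (Nat.card k : ℤ) * (((Nat.card k : ℤ) - 1) * effDivCount k K N) := by ring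
  rw [e, h0, h1]; ring

end finite

end Groth.Agent.H7.Zeta
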