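import Groth.Agent.Lib.Helper7.Z8

/-! The functional equation of the zeta function of a function field over a finite field
(helper7; S11039). -/

set_option autoImplicit false
set_option linter.unusedSectionVars false

namespace Groth.Agent.H7.Zeta

open FunFld PowerSeries

section FE

variable {k K : Type*} [Field k] [Field K] [Algebra k K] [Finite k] (hK : IsFunctionField k K)
  [Fintype (Cl0 k K)]

lemma mem_ker_iff (Z : Divisor k K) : Z ∈ (degHom k K).ker ↔ Z.deg = 0 := by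
  rw [AddMonoidHom.mem_ker, degHom_apply]

/-- `A(n) = ∑ q^ℓ` over the classes of degree `n`, computed with the representatives `n D₁ + Z`. -/
noncomputable def Aq (D₁ : Divisor k K) (n : ℤ) : ℚ :=
  ∑ c : Cl0 k K, (Nat.card k : ℚ) ^ ell (n • D₁ + (Quotient.out c : (degHom k K).ker).1)

lemma deg_rep (D₁ : Divisor k K) (hD₁ : D₁.deg = 1) (n : ℤ) (Z : (degHom k K).ker) :
    (n • D₁ + Z.1).deg = n := by
  rw [Divisor.deg_add, deg_zsmul, hD₁, mul_one, (mem_ker_iff Z.1).1 Z.2, add_zero]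

lemma card_Cl0 : (Fintype.card (Cl0 k K) : ℚ) = classNum k K := by
  unfold classNum
  rw [Fintype.card_eq_nat_card]

include hK in
/-- the count of effective divisors of degree `n` in terms of `A(n)` -/
theorem count_eq_Aq (D₁ : Divisor k K) (hD₁ : D₁.deg = 1) (n : ℕ) :
    ((Nat.card k : ℚ) - 1) * (effDivCount k K n : ℚ) = Aq D₁ n - classNum k K := by
  classical
  set D₀ : Divisor k K := (n : ℤ) • D₁ with hD₀def
  have hD₀ : D₀.deg = (n : ℤ) := by rw [deg_zsmul, hD₁, mul_one]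
  have hfinE : Finite {D : Divisor k K // 0 ≤ D ∧ D.deg = (n : ℤ)} :=
    (finite_effDiv hK n).to_subtype
  have h1 : effDivCount k K n =
      ∑ c : Cl0 k K, Nat.card {D : {D : Divisor k K // 0 ≤ D ∧ D.deg = (n : ℤ)} //
        classOf D₀ (n : ℤ) hD₀ D = c} := by
    unfold effDivCount
    rw [← Nat.card_congr (Equiv.sigmaFiberEquiv (classOf D₀ (n : ℤ) hD₀)), Nat.card_sigma]
  have h2 : ∀ c : Cl0 k K, ((Nat.card k : ℚ) - 1) *
      (Nat.card {D : {D : Divisor k K // 0 ≤ D ∧ D.deg = (n : ℤ)} //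
        classOf D₀ (n : ℤ) hD₀ D = c} : ℚ) =
      (Nat.card k : ℚ) ^ ell (D₀ + (Quotient.out c : (degHom k K).ker).1) - 1 := by
    intro c
    have := Nat.card_congr (fiberEquiv D₀ n hD₀ hK (Quotient.out c))
    rw [QuotientAddGroup.out_eq'] at this
    rw [this]
    have h3 := card_eff hK (D₀ + (Quotient.out c : (degHom k K).ker).1)
    have h4 : 1 ≤ Nat.card k := Nat.card_pos
    have h5 : ((Nat.card (Eff (D₀ + (Quotient.out c : (degHom k K).ker).1)) *
        (Nat.card k - 1) + 1 : ℕ) : ℚ) =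
        (Nat.card k : ℚ) ^ ell (D₀ + (Quotient.out c : (degHom k K).ker).1) := by
      exact_mod_cast h3
    rw [Nat.cast_add, Nat.cast_mul, Nat.cast_sub h4] at h5
    push_cast at h5
    linarith
  unfold Aq
  rw [h1, Nat.cast_sum, Finset.mul_sum, Finset.sum_congr rfl (fun c _ => h2 c),
    Finset.sum_sub_distrib, Finset.sum_const, Finset.card_univ, nsmul_eq_mul, mul_one, card_Cl0]

include hK in
/-- `A(n) = h` for negative `n` -/
theorem Aq_neg (D₁ : Divisor k K) (hD₁ : D₁.deg = 1) {n : ℤ} (hn : n < 0) :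
    Aq D₁ n = classNum k K := by
  unfold Aq
  rw [← card_Cl0, ← nsmul_one (Fintype.card (Cl0 k K)), ← Finset.card_univ, ← Finset.sum_const]
  refine Finset.sum_congr rfl (fun c _ => ?_)
  rw [ell_eq_zero_of_deg_neg hK (by rw [deg_rep D₁ hD₁]; exact hn), pow_zero]

include hK in
/-- duality (Riemann–Roch) -/
theorem Aq_dual (D₁ : Divisor k K) (hD₁ : D₁.deg = 1) (n : ℤ) :
    Aq D₁ n = (Nat.card k : ℚ) ^ (n + 1 - (genus k K : ℤ)) *
      Aq D₁ (2 * (genus k K : ℤ) - 2 - n) := by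
  classical
  obtain ⟨W, hW⟩ := exists_isCanonical hK
  have hWdeg := deg_canonical hK hW
  have hq0 : (Nat.card k : ℚ) ≠ 0 := by
    have : 0 < Nat.card k := Nat.card_pos
    positivity
  let T : (degHom k K).ker := ⟨W - (2 * (genus k K : ℤ) - 2) • D₁, by
    rw [mem_ker_iff, Divisor.deg_sub, deg_zsmul, hD₁, hWdeg]; ring⟩
  let τ : Cl0 k K ≃ Cl0 k K := Equiv.subLeft (QuotientAddGroup.mk T)
  unfold Aq
  rw [Finset.mul_sum, ← Equiv.sum_comp τ]
  refine Finset.sum_congr rfl (fun c _ => ?_)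
  have hrr := riemann_roch hK hW (n • D₁ + (Quotient.out (τ c) : (degHom k K).ker).1)
  rw [deg_rep D₁ hD₁] at hrr
  have hequiv : ell (W - (n • D₁ + (Quotient.out (τ c) : (degHom k K).ker).1)) =
      ell ((2 * (genus k K : ℤ) - 2 - n) • D₁ + (Quotient.out c : (degHom k K).ker).1) := by
    have hcls : (QuotientAddGroup.mk (T - Quotient.out (τ c) - Quotient.out c) : Cl0 k K) = 0 := by
      rw [QuotientAddGroup.mk_sub, QuotientAddGroup.mk_sub, QuotientAddGroup.out_eq',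
        QuotientAddGroup.out_eq']
      change _ - (QuotientAddGroup.mk T - c) - c = 0
      abel
    have hmem := (QuotientAddGroup.eq_zero_iff _).1 hcls
    rw [AddSubgroup.mem_addSubgroupOf] at hmem
    obtain ⟨x, hx, hdiv⟩ := (mem_prinDivs_iff hK _).1 hmem
    have : W - (n • D₁ + (Quotient.out (τ c) : (degHom k K).ker).1) =
        ((2 * (genus k K : ℤ) - 2 - n) • D₁ + (Quotient.out c : (degHom k K).ker).1) +
          div k x := by
      rw [← hdiv]
      simp only [AddSubgroupClass.coe_sub, T]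
      module
    rw [this, ell_add_div hK _ hx]
  rw [← zpow_natCast, ← zpow_natCast, ← zpow_add₀ hq0]
  congr 1
  rw [hrr, hequiv]

include hK in
/-- the coefficients of `L` in terms of `A` -/
theorem coeff_numerZ_Aq (D₁ : Divisor k K) (hD₁ : D₁.deg = 1) (i : ℕ) :
    ((Nat.card k : ℚ) - 1) * ((coeff i (numerZ k K) : ℤ) : ℚ) =
      Aq D₁ i - ((Nat.card k : ℚ) + 1) * Aq D₁ ((i : ℤ) - 1) +
        (Nat.card k : ℚ) * Aq D₁ ((i : ℤ) - 2) := by
  match i with
  | 0 =>
    rw [coeff_zero_numerZ, Aq_neg hK D₁ hD₁ (n := ((0 : ℕ) : ℤ) - 1) (by norm_num),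
      Aq_neg hK D₁ hD₁ (n := ((0 : ℕ) : ℤ) - 2) (by norm_num)]
    have := count_eq_Aq hK D₁ hD₁ 0
    push_cast at this ⊢
    linarith
  | 1 =>
    rw [coeff_one_numerZ, Aq_neg hK D₁ hD₁ (n := ((1 : ℕ) : ℤ) - 2) (by norm_num)]
    have h0 := count_eq_Aq hK D₁ hD₁ 0
    have h1 := count_eq_Aq hK D₁ hD₁ 1
    have e : (((1 : ℕ) : ℤ) - 1) = ((0 : ℕ) : ℤ) := by norm_num
    rw [e]
    push_cast at h0 h1 ⊢
    linear_combination h1 - ((Nat.card k : ℚ) + 1) * h0
  | n + 2 =>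
    rw [coeff_add_two_numerZ]
    have h0 := count_eq_Aq hK D₁ hD₁ n
    have h1 := count_eq_Aq hK D₁ hD₁ (n + 1)
    have h2 := count_eq_Aq hK D₁ hD₁ (n + 2)
    have e1 : (((n + 2 : ℕ) : ℤ) - 1) = ((n + 1 : ℕ) : ℤ) := by push_cast; ring
    have e2 : (((n + 2 : ℕ) : ℤ) - 2) = ((n : ℕ) : ℤ) := by push_cast; ring
    rw [e1, e2]
    push_cast at h0 h1 h2 ⊢
    linear_combination h2 - ((Nat.card k : ℚ) + 1) * h1 + (Nat.card k : ℚ) * h0

end FE

section final

variable {k K : Type*} [Field k] [Field K] [Algebra k K] [Finite k] (hK : IsFunctionField k K)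

include hK in
/-- the functional equation for the coefficients of `L` -/
theorem coeff_numerZ_symm (i : ℕ) (hi : i ≤ 2 * genus k K) :
    ((coeff (2 * genus k K - i) (numerZ k K) : ℤ) : ℚ) =
      (Nat.card k : ℚ) ^ ((genus k K : ℤ) - i) * ((coeff i (numerZ k K) : ℤ) : ℚ) := by
  classical
  have hfin := finite_Cl0 hK
  let _ : Fintype (Cl0 k K) := Fintype.ofFinite _
  obtain ⟨D₁, hD₁⟩ := deg_surjective hK 1
  have hq1 : ((Nat.card k : ℚ) - 1) ≠ 0 := by
    have : (2 : ℚ) ≤ Nat.card k := by exact_mod_cast (Finite.one_lt_card : 1 < Nat.card k)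
    intro h; linarith
  have hq0 : (Nat.card k : ℚ) ≠ 0 := by
    have : 0 < Nat.card k := Nat.card_pos
    positivity
  apply mul_left_cancel₀ hq1
  rw [coeff_numerZ_Aq hK D₁ hD₁, mul_left_comm, coeff_numerZ_Aq hK D₁ hD₁]
  set g : ℤ := (genus k K : ℤ) with hg
  have hcast : ((2 * genus k K - i : ℕ) : ℤ) = 2 * g - i := by
    rw [Nat.cast_sub hi]; push_cast; ring
  rw [hcast]
  have d0 := Aq_dual hK D₁ hD₁ (2 * g - i)
  have d1 := Aq_dual hK D₁ hD₁ (2 * g - i - 1)
  have d2 := Aq_dual hK D₁ hD₁ (2 * g - i - 2)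
  rw [← hg] at d0 d1 d2
  rw [show 2 * g - i + 1 - g = (g - i) + 1 by ring, show 2 * g - 2 - (2 * g - i) = (i : ℤ) - 2 by ring,
    zpow_add_one₀ hq0] at d0
  rw [show 2 * g - i - 1 + 1 - g = (g - i) by ring,
    show 2 * g - 2 - (2 * g - i - 1) = (i : ℤ) - 1 by ring] at d1
  rw [show 2 * g - i - 2 + 1 - g = (g - i) - 1 by ring,
    show 2 * g - 2 - (2 * g - i - 2) = (i : ℤ) by ring, zpow_sub_one₀ hq0] at d2
  rw [d0, d1, d2]
  field_simp
  ring

include hK in
lemma effDivCount_zero_ne : effDivCount k K 0 ≠ 0 := by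
  unfold effDivCount
  have hfinE : Finite {D : Divisor k K // 0 ≤ D ∧ D.deg = ((0 : ℕ) : ℤ)} :=
    (finite_effDiv hK 0).to_subtype
  have : Nonempty {D : Divisor k K // 0 ≤ D ∧ D.deg = ((0 : ℕ) : ℤ)} :=
    ⟨⟨0, le_refl _, by rw [Divisor.deg_zero]; rfl⟩⟩
  exact Nat.card_pos.ne'

include hK in
/-- **S11039** -/
theorem S11039 :
    (∀ n : ℕ, 2 * genus k K < n → coeff n (numerZ k K) = 0) ∧
    coeff (2 * genus k K) (numerZ k K) ≠ 0 ∧
    ∀ i : ℕ, i ≤ 2 * genus k K →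
      (((coeff (2 * genus k K - i) (numerZ k K) : ℤ)) : ℚ) =
        (Nat.card k : ℚ) ^ ((genus k K : ℤ) - i) *
          (((coeff i (numerZ k K) : ℤ)) : ℚ) := by
  refine ⟨fun n hn => coeff_numerZ_eq_zero hK hn, ?_, fun i hi => coeff_numerZ_symm hK i hi⟩
  have h := coeff_numerZ_symm hK 0 (Nat.zero_le _)
  rw [Nat.sub_zero, coeff_zero_numerZ] at h
  intro h0
  rw [h0] at h
  have hq0 : (Nat.card k : ℚ) ≠ 0 := by
    have : 0 < Nat.card k := Nat.card_pos
    positivity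
  have ha : ((effDivCount k K 0 : ℤ) : ℚ) ≠ 0 := by
    exact_mod_cast effDivCount_zero_ne hK
  have := mul_ne_zero (zpow_ne_zero ((genus k K : ℤ) - ((0 : ℕ) : ℤ)) hq0) ha
  exact this (by rw [← h]; simp)

end final

end Groth.Agent.H7.Zeta
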