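import Mathlib

/-! Factoring a self-reciprocal polynomial over `ℂ` into paired linear factors (helper7). -/

set_option autoImplicit false
set_option linter.unusedSectionVars false

namespace Groth.Agent.H7.Zeta

open Polynomial

section dickson

variable (q : ℂ)

/-- Dickson polynomials `D_n(u, q)`: `D_n(x + q/x) = x^n + (q/x)^n`. -/
noncomputable def dk : ℕ → ℂ[X]
  | 0 => 2
  | 1 => X
  | (n + 2) => X * dk (n + 1) - C q * dk n

lemma dk_zero : dk q 0 = 2 := by rw [dk]
lemma dk_one : dk q 1 = X := by rw [dk]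
lemma dk_add_two (n : ℕ) : dk q (n + 2) = X * dk q (n + 1) - C q * dk q n := by rw [dk]

lemma dk_eval (x : ℂ) (hx : x ≠ 0) (n : ℕ) :
    x ^ n * (dk q n).eval ((1 + q * x ^ 2) / x) = 1 + q ^ n * x ^ (2 * n) := by
  induction n using Nat.twoStepInduction with
  | zero => rw [dk_zero]; simp; norm_num
  | one => rw [dk_one]; simp; field_simp
  | more n h0 h1 =>
    rw [dk_add_two, eval_sub, eval_mul, eval_mul, eval_X, eval_C]
    have e : x ^ (n + 2) * ((1 + q * x ^ 2) / x * eval ((1 + q * x ^ 2) / x) (dk q (n + 1)) -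
        q * eval ((1 + q * x ^ 2) / x) (dk q n)) =
        (1 + q * x ^ 2) * (x ^ (n + 1) * eval ((1 + q * x ^ 2) / x) (dk q (n + 1))) -
        q * x ^ 2 * (x ^ n * eval ((1 + q * x ^ 2) / x) (dk q n)) := by
      field_simp
      ring
    rw [e, h0, h1]
    ring

lemma dk_natDegree_le (n : ℕ) : (dk q n).natDegree ≤ n := by
  induction n using Nat.twoStepInduction with
  | zero => rw [dk_zero]; exact (natDegree_ofNat 2).le
  | one => rw [dk_one]; exact natDegree_X_le
  | more n h0 h1 =>
    rw [dk_add_two]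
    refine (natDegree_sub_le _ _).trans (max_le ?_ ?_)
    · refine (natDegree_mul_le).trans ?_
      have := natDegree_X_le (R := ℂ)
      omega
    · refine (natDegree_C_mul_le _ _).trans ?_
      omega

lemma dk_coeff_succ (n : ℕ) : (dk q (n + 1)).coeff (n + 1) = 1 := by
  induction n with
  | zero => rw [dk_one]; simp
  | succ n ih =>
    rw [dk_add_two, coeff_sub, coeff_X_mul, ih, coeff_C_mul,
      coeff_eq_zero_of_natDegree_lt (lt_of_le_of_lt (dk_natDegree_le q n) (by omega))]
    ring

end dickson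

section symm

variable (q : ℂ)

/-- a `g`-self-reciprocal polynomial is `x^g M(x⁻¹ + q x)` -/
theorem exists_M : ∀ (g : ℕ) (F : ℂ[X]), F.natDegree ≤ 2 * g →
    (∀ i ≤ g, F.coeff (2 * g - i) = q ^ (g - i) * F.coeff i) →
    ∃ M : ℂ[X], M.natDegree ≤ g ∧ M.coeff g = F.coeff 0 ∧
      ∀ x : ℂ, x ≠ 0 → F.eval x = x ^ g * M.eval ((1 + q * x ^ 2) / x) := by
  intro g
  induction g with
  | zero =>
    intro F hdeg _
    have hC := eq_C_of_natDegree_le_zero (p := F) (by simpa using hdeg)
    exact ⟨F, by simpa using hdeg, rfl, fun x _ => by rw [hC]; simp⟩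
  | succ g ih =>
    intro F hdeg hsym
    obtain ⟨c₀, hc₀⟩ : ∃ c, c = F.coeff 0 := ⟨_, rfl⟩
    obtain ⟨S, hS⟩ : ∃ S : ℂ[X], S = 1 + C (q ^ (g + 1)) * X ^ (2 * (g + 1)) := ⟨_, rfl⟩
    obtain ⟨F₁, hF₁⟩ : ∃ F₁ : ℂ[X], F₁ = F - C c₀ * S := ⟨_, rfl⟩
    have hScoeff : ∀ i, S.coeff i = (if i = 0 then 1 else 0) +
        (if i = 2 * (g + 1) then q ^ (g + 1) else 0) := by
      intro i
      rw [hS, coeff_add, coeff_one, coeff_C_mul, coeff_X_pow]
      simp only [mul_ite, mul_one, mul_zero]
    have hF₁0 : F₁.coeff 0 = 0 := by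
      rw [hF₁, coeff_sub, coeff_C_mul, hScoeff, if_pos rfl, if_neg (by omega), ← hc₀]; ring
    have hF₁coeff : ∀ i, 1 ≤ i → i ≤ 2 * g + 1 → F₁.coeff i = F.coeff i := by
      intro i h1 h2
      rw [hF₁, coeff_sub, coeff_C_mul, hScoeff, if_neg (by omega), if_neg (by omega)]; ring
    have hF₁top : ∀ i, 2 * g + 2 ≤ i → F₁.coeff i = 0 := by
      intro i hi
      rw [hF₁, coeff_sub, coeff_C_mul, hScoeff, if_neg (by omega)]
      rcases eq_or_lt_of_le hi with h | h
      · rw [if_pos (by omega)]
        have := hsym 0 (Nat.zero_le _)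
        rw [Nat.sub_zero, Nat.sub_zero, ← hc₀] at this
        rw [← h, show 2 * g + 2 = 2 * (g + 1) by ring, this]; ring
      · rw [if_neg (by omega), coeff_eq_zero_of_natDegree_lt (by omega)]; ring
    have hF₂deg : F₁.divX.natDegree ≤ 2 * g :=
      natDegree_le_iff_coeff_eq_zero.2 (fun i hi => by
        rw [coeff_divX]; exact hF₁top _ (by omega))
    have hF₂sym : ∀ i ≤ g, F₁.divX.coeff (2 * g - i) = q ^ (g - i) * F₁.divX.coeff i := by
      intro i hi
      rw [coeff_divX, coeff_divX, hF₁coeff _ (by omega) (by omega),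
        hF₁coeff _ (by omega) (by omega)]
      have := hsym (i + 1) (by omega)
      rw [show 2 * (g + 1) - (i + 1) = 2 * g - i + 1 by omega,
        show g + 1 - (i + 1) = g - i by omega] at this
      exact this
    obtain ⟨M₂, hM₂deg, hM₂c, hM₂e⟩ := ih F₁.divX hF₂deg hF₂sym
    refine ⟨C c₀ * dk q (g + 1) + M₂, ?_, ?_, ?_⟩
    · refine (natDegree_add_le _ _).trans (max_le ?_ (by omega))
      exact (natDegree_C_mul_le _ _).trans (dk_natDegree_le q (g + 1))
    · rw [coeff_add, coeff_C_mul, dk_coeff_succ, coeff_eq_zero_of_natDegree_lt (by omega), hc₀]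
      ring
    · intro x hx
      have hF : F = C c₀ * S + F₁.divX * X := by
        have := divX_mul_X_add F₁
        rw [hF₁0, C_0, add_zero] at this
        rw [this, hF₁]; ring
      have hdk := dk_eval q x hx (g + 1)
      rw [eval_add, eval_mul, eval_C, mul_add, ← mul_assoc, mul_comm (x ^ (g + 1)) c₀, mul_assoc, hdk]
      conv_lhs => rw [hF]
      rw [eval_add, eval_mul, eval_mul, eval_C, eval_X, hM₂e x hx, hS]
      simp only [eval_add, eval_one, eval_mul, eval_C, eval_pow, eval_X]
      ring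

/-- a monic polynomial over `ℂ` is a product of linear factors, indexed by `ℕ` -/
theorem exists_roots_fun (M : ℂ[X]) (hM : M.Monic) :
    ∃ β : ℕ → ℂ, M = ∏ j ∈ Finset.range M.natDegree, (X - C (β j)) := by
  have hsplit : M.Splits := IsAlgClosed.splits M
  have hprod := hsplit.eq_prod_roots_of_monic hM
  have hcard := hsplit.natDegree_eq_card_roots
  obtain ⟨l, hl⟩ : ∃ l : List ℂ, (l : Multiset ℂ) = M.roots := Quot.exists_rep _
  have hlen : l.length = M.natDegree := by rw [hcard, ← hl]; rfl
  refine ⟨fun i => l.getD i 0, ?_⟩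
  rw [← hlen, ← Fin.prod_univ_eq_prod_range (fun j => X - C (l.getD j 0)) l.length]
  have e1 : ∀ j : Fin l.length, l.getD j 0 = l.get j := fun j => by
    rw [List.getD_eq_getElem _ _ j.2]; rfl
  simp only [e1]
  conv_lhs => rw [hprod, ← hl]
  rw [Finset.prod_eq_multiset_prod]
  congr 1
  have e2 : (Finset.univ.val.map fun j : Fin l.length => X - C (l.get j)) =
      (Finset.univ.val.map l.get).map (fun β => X - C β) := by
    rw [Multiset.map_map]; rfl
  rw [e2, Fin.univ_val_map, List.ofFn_get]

/-- **pairing of the reciprocal roots** of a self-reciprocal polynomial -/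
theorem exists_alpha (g : ℕ) (F : ℂ[X]) (hdeg : F.natDegree ≤ 2 * g)
    (hsym : ∀ i ≤ g, F.coeff (2 * g - i) = q ^ (g - i) * F.coeff i) (h0 : F.coeff 0 = 1) :
    ∃ α : Fin (2 * g) → ℂ, F = ∏ i, (1 - C (α i) * X) ∧ ∀ i, α i * α (Fin.rev i) = q := by
  obtain ⟨M, hMdeg, hMc, hMe⟩ := exists_M q g F hdeg hsym
  rw [h0] at hMc
  have hMnat : M.natDegree = g :=
    le_antisymm hMdeg (le_natDegree_of_ne_zero (by rw [hMc]; exact one_ne_zero))
  have hMmonic : M.Monic := by rw [Monic, leadingCoeff, hMnat, hMc]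
  obtain ⟨β, hβ⟩ := exists_roots_fun M hMmonic
  rw [hMnat] at hβ
  -- `F` as a product of quadratics
  have hF : F = ∏ j ∈ Finset.range g, (1 - C (β j) * X + C q * X ^ 2) := by
    apply Polynomial.funext
    intro x
    rcases eq_or_ne x 0 with rfl | hx
    · rw [← coeff_zero_eq_eval_zero, h0, eval_prod]
      symm
      apply Finset.prod_eq_one
      intro j _
      simp
    · rw [hMe x hx, hβ, eval_prod, eval_prod]
      have : x ^ g = ∏ j ∈ Finset.range g, x := by rw [Finset.prod_const, Finset.card_range]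
      rw [this, ← Finset.prod_mul_distrib]
      refine Finset.prod_congr rfl (fun j _ => ?_)
      simp only [eval_sub, eval_X, eval_C, eval_add, eval_one, eval_mul, eval_pow]
      field_simp
      ring
  -- roots of the quadratics
  have hpick : ∀ b : ℂ, ∃ a : ℂ, a * a - b * a + q = 0 := by
    intro b
    have hd : (X ^ 2 - C b * X + C q : ℂ[X]).degree ≠ 0 := by
      have : (X ^ 2 - C b * X + C q : ℂ[X]).degree = 2 := by
        compute_degree!
      rw [this]; norm_num
    obtain ⟨a, ha⟩ := IsAlgClosed.exists_root _ hd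
    refine ⟨a, ?_⟩
    simp only [IsRoot.def, eval_add, eval_sub, eval_pow, eval_X, eval_mul, eval_C] at ha
    rw [← ha]; ring
  choose pick hpickspec using hpick
  have hpq : ∀ b : ℂ, pick b * (b - pick b) = q := fun b => by
    linear_combination -(hpickspec b)
  let αN : ℕ → ℂ := fun i => if i < g then pick (β i)
    else β (2 * g - 1 - i) - pick (β (2 * g - 1 - i))
  refine ⟨fun i => αN i, ?_, ?_⟩
  · rw [Fin.prod_univ_eq_prod_range (fun i => 1 - C (αN i) * X) (2 * g),
      ← Finset.prod_range_mul_prod_Ico _ (show g ≤ 2 * g by omega)]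
    have e1 : ∏ i ∈ Finset.range g, (1 - C (αN i) * X) =
        ∏ i ∈ Finset.range g, (1 - C (pick (β i)) * X) := by
      refine Finset.prod_congr rfl (fun i hi => ?_)
      rw [Finset.mem_range] at hi
      simp only [αN, if_pos hi]
    have e2 : ∏ i ∈ Finset.Ico g (2 * g), (1 - C (αN i) * X) =
        ∏ i ∈ Finset.range g, (1 - C (β i - pick (β i)) * X) := by
      refine Finset.prod_nbij' (fun i => 2 * g - 1 - i) (fun i => 2 * g - 1 - i) ?_ ?_ ?_ ?_ ?_
      · intro i hi
        rw [Finset.mem_Ico] at hi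
        rw [Finset.mem_range]; omega
      · intro i hi
        rw [Finset.mem_range] at hi
        rw [Finset.mem_Ico]; omega
      · intro i hi
        rw [Finset.mem_Ico] at hi
        omega
      · intro i hi
        rw [Finset.mem_range] at hi
        omega
      · intro i hi
        rw [Finset.mem_Ico] at hi
        simp only [αN, if_neg (show ¬ i < g by omega)]
    rw [e1, e2, ← Finset.prod_mul_distrib, hF]
    refine Finset.prod_congr rfl (fun i _ => ?_)
    have := hpq (β i)
    have hC : C (pick (β i)) * C (β i - pick (β i)) = (C q : ℂ[X]) := by rw [← C_mul, this]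
    rw [C_sub] at hC ⊢
    linear_combination (-(X : ℂ[X]) ^ 2) * hC
  · intro i
    have hi := i.2
    simp only [αN, Fin.val_rev]
    by_cases h : (i : ℕ) < g
    · rw [if_pos h, if_neg (by omega)]
      rw [show 2 * g - 1 - (2 * g - (↑i + 1)) = (i : ℕ) by omega]
      exact hpq _
    · rw [if_neg h, if_pos (by omega)]
      rw [show 2 * g - (↑i + 1) = 2 * g - 1 - (i : ℕ) by omega, mul_comm]
      exact hpq _

end symm

end Groth.Agent.H7.Zeta
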