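import Groth.Agent.Lib.Helper7.Z9
import Groth.Agent.Lib.Helper7.ZA

/-! The reciprocal roots of the zeta numerator (helper7; S11040). -/

set_option autoImplicit false
set_option linter.unusedSectionVars false

namespace Groth.Agent.H7.Zeta

open FunFld

section roots

variable {k K : Type*} [Field k] [Field K] [Algebra k K] [Finite k] (hK : IsFunctionField k K)

include hK in
lemma effDivCount_zero : effDivCount k K 0 = 1 := by
  unfold effDivCount
  rw [Nat.card_eq_one_iff_unique]
  refine ⟨⟨fun D E => Subtype.ext ?_⟩, ⟨⟨0, le_refl _, by rw [Divisor.deg_zero]; rfl⟩⟩⟩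
  rw [Divisor.eq_zero_of_nonneg_of_deg_eq_zero hK D.2.1 (by exact_mod_cast D.2.2),
    Divisor.eq_zero_of_nonneg_of_deg_eq_zero hK E.2.1 (by exact_mod_cast E.2.2)]

include hK in
/-- the polynomial `L` -/
lemma coe_trunc_numerZ :
    ((PowerSeries.trunc (2 * genus k K + 1) (numerZ k K) : Polynomial ℤ) : PowerSeries ℤ) =
      numerZ k K := by
  ext n
  rw [Polynomial.coeff_coe, PowerSeries.coeff_trunc]
  split_ifs with h
  · rfl
  · rw [coeff_numerZ_eq_zero hK (by omega)]

include hK in
/-- **S11040** -/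
theorem S11040 :
    ∃ α : Fin (2 * genus k K) → ℂ, (∀ i, IsIntegral ℤ (α i)) ∧
      PowerSeries.map (Int.castRingHom ℂ) (numerZ k K) =
        ((∏ i, (1 - Polynomial.C (α i) * Polynomial.X) : Polynomial ℂ) : PowerSeries ℂ) ∧
      ∀ i, α i * α (Fin.rev i) = (Nat.card k : ℂ) := by
  classical
  set g := genus k K with hg
  set p : Polynomial ℤ := PowerSeries.trunc (2 * g + 1) (numerZ k K) with hpdef
  have hp : (p : PowerSeries ℤ) = numerZ k K := coe_trunc_numerZ hK
  have hpc : ∀ i, p.coeff i = PowerSeries.coeff i (numerZ k K) := fun i => by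
    rw [← hp, Polynomial.coeff_coe]
  set F : Polynomial ℂ := p.map (Int.castRingHom ℂ) with hF
  have hFc : ∀ i, F.coeff i = ((PowerSeries.coeff i (numerZ k K) : ℤ) : ℂ) := fun i => by
    rw [hF, Polynomial.coeff_map, hpc, eq_intCast]
  have hpdeg : p.natDegree ≤ 2 * g :=
    Polynomial.natDegree_le_iff_coeff_eq_zero.2 (fun i hi => by
      rw [hpc, coeff_numerZ_eq_zero hK hi])
  have hdeg : F.natDegree ≤ 2 * g := (Polynomial.natDegree_map_le).trans hpdeg
  have hsym : ∀ i ≤ g, F.coeff (2 * g - i) = (Nat.card k : ℂ) ^ (g - i) * F.coeff i := by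
    intro i hi
    rw [hFc, hFc]
    have h := coeff_numerZ_symm hK i (by omega)
    have e : ((genus k K : ℤ) - i) = ((g - i : ℕ) : ℤ) := by rw [Nat.cast_sub hi]
    rw [e, zpow_natCast] at h
    have hZ : PowerSeries.coeff (2 * g - i) (numerZ k K) =
        (Nat.card k : ℤ) ^ (g - i) * PowerSeries.coeff i (numerZ k K) := by
      exact_mod_cast h
    rw [hZ]; push_cast; ring
  have h0 : F.coeff 0 = 1 := by
    rw [hFc, coeff_zero_numerZ, effDivCount_zero hK]; simp
  obtain ⟨α, hα, hpair⟩ := exists_alpha (Nat.card k : ℂ) g F hdeg hsym h0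
  have hq0 : (Nat.card k : ℂ) ≠ 0 := by
    have : 0 < Nat.card k := Nat.card_pos
    exact_mod_cast this.ne'
  refine ⟨α, ?_, ?_, hpair⟩
  · intro i
    have hαi : α i ≠ 0 := fun h => hq0 (by rw [← hpair i, h, zero_mul])
    let z : ℂ := (α i)⁻¹
    have hz : z ≠ 0 := inv_ne_zero hαi
    letI : Invertible z := invertibleOfNonzero hz
    have hinv : ⅟z = α i := by rw [invOf_eq_inv, inv_inv]
    have hev : Polynomial.eval₂ (Int.castRingHom ℂ) z p = 0 := by
      rw [← Polynomial.eval_map, ← hF, hα, Polynomial.eval_prod]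
      apply Finset.prod_eq_zero (Finset.mem_univ i)
      simp only [Polynomial.eval_sub, Polynomial.eval_one, Polynomial.eval_mul, Polynomial.eval_C,
        Polynomial.eval_X]
      rw [mul_inv_cancel₀ hαi, sub_self]
    have hrev := (Polynomial.eval₂_reflect_eq_zero_iff (Int.castRingHom ℂ) z (2 * g) p hpdeg).2 hev
    rw [hinv] at hrev
    refine ⟨Polynomial.reflect (2 * g) p, ?_, hrev⟩
    apply Polynomial.monic_of_natDegree_le_of_coeff_eq_one (2 * g)
    · exact (Polynomial.natDegree_reflect_le).trans (max_le le_rfl hpdeg)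
    · rw [Polynomial.coeff_reflect, Polynomial.revAt_le le_rfl, Nat.sub_self, hpc,
        coeff_zero_numerZ, effDivCount_zero hK]
      rfl
  · rw [← hα, hF, ← hp]
    exact Polynomial.polynomial_map_coe.symm

end roots

end Groth.Agent.H7.Zeta
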