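import Groth.Agent.Lib.Helper7.Z8

/-! The Newton recursion `n a(n) = ∑ N_m a(n - m)` for the number of effective divisors
(helper7). -/

set_option autoImplicit false
set_option linter.unusedSectionVars false

namespace Groth.Agent.H7.Zeta

open FunFld

/-- `N_m = ∑_{deg P ∣ m} deg P` -/
noncomputable def Nm (k K : Type*) [Field k] [Field K] [Algebra k K] (m : ℕ) : ℕ :=
  ∑ᶠ P ∈ {P : Place k K | P.deg ∣ m}, P.deg

section recursion

variable {k K : Type*} [Field k] [Field K] [Algebra k K] [Finite k] (hK : IsFunctionField k K)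

include hK in
lemma finite_places_dvd {m : ℕ} (hm : 0 < m) : {P : Place k K | P.deg ∣ m}.Finite :=
  (finite_places_deg_le hK m).subset (fun _ hP => Nat.le_of_dvd hm hP)

/-- the finite set of effective divisors of degree `n` -/
noncomputable def Es (n : ℕ) : Finset (Divisor k K) := (finite_effDiv hK n).toFinset

lemma mem_Es {n : ℕ} {D : Divisor k K} : D ∈ Es hK n ↔ 0 ≤ D ∧ D.deg = (n : ℤ) := by
  simp [Es]

lemma card_Es (n : ℕ) : (Es hK n).card = effDivCount k K n := by
  unfold effDivCount Es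
  rw [← Set.ncard_eq_toFinset_card _ _]
  rfl

/-- divisors containing `j P` correspond to divisors of smaller degree -/
lemma card_filter_le (P : Place k K) (j n : ℕ) (hjn : j * P.deg ≤ n) :
    ((Es hK n).filter (fun D => (j : ℤ) ≤ D P)).card = (Es hK (n - j * P.deg)).card := by
  classical
  refine Finset.card_nbij' (fun D => D - Finsupp.single P (j : ℤ))
    (fun D => D + Finsupp.single P (j : ℤ)) ?_ ?_ ?_ ?_
  · intro D hD
    rw [Finset.coe_filter, Set.mem_setOf_eq, mem_Es] at hD
    rw [Finset.mem_coe, mem_Es]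
    obtain ⟨⟨hD0, hDdeg⟩, hj⟩ := hD
    refine ⟨fun Q => ?_, ?_⟩
    · rw [Finsupp.coe_zero, Pi.zero_apply, Finsupp.sub_apply, Finsupp.single_apply]
      split_ifs with h
      · subst h; linarith
      · have := hD0 Q
        simp only [Finsupp.coe_zero, Pi.zero_apply] at this
        linarith
    · rw [Divisor.deg_sub, Divisor.deg_single, hDdeg, Nat.cast_sub hjn]; push_cast; ring
  · intro D hD
    rw [Finset.mem_coe, mem_Es] at hD
    rw [Finset.coe_filter, Set.mem_setOf_eq, mem_Es]
    obtain ⟨hD0, hDdeg⟩ := hD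
    refine ⟨⟨add_nonneg hD0 ?_, ?_⟩, ?_⟩
    · rw [Finsupp.single_nonneg]; exact Nat.cast_nonneg _
    · rw [Divisor.deg_add, Divisor.deg_single, hDdeg, Nat.cast_sub hjn]; push_cast; ring
    · rw [Finsupp.add_apply, Finsupp.single_eq_same]
      have := hD0 P
      simp only [Finsupp.coe_zero, Pi.zero_apply] at this
      linarith
  · intro D _; simp
  · intro D _; simp

include hK in
/-- the total multiplicity of `P` in the effective divisors of degree `n` -/
lemma sum_apply_Es (P : Place k K) (n : ℕ) :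
    ∑ D ∈ Es hK n, D P =
      ∑ j ∈ Finset.Icc 1 (n / P.deg), ((Es hK (n - j * P.deg)).card : ℤ) := by
  classical
  have hd : 0 < P.deg := P.deg_pos hK
  have h1 : ∀ D ∈ Es hK n, D P =
      ∑ j ∈ Finset.Icc 1 (n / P.deg), (if (j : ℤ) ≤ D P then (1 : ℤ) else 0) := by
    intro D hD
    rw [mem_Es] at hD
    have h0 : 0 ≤ D P := by
      have := hD.1 P
      simpa using this
    have hle := apply_mul_deg_le_deg hK hD.1 P
    rw [hD.2] at hle
    obtain ⟨c, hc⟩ := Int.eq_ofNat_of_zero_le h0
    rw [hc] at hle ⊢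
    have hcn : c ≤ n / P.deg := by
      rw [Nat.le_div_iff_mul_le hd]
      exact_mod_cast hle
    rw [Finset.sum_boole]
    have : (Finset.Icc 1 (n / P.deg)).filter (fun j : ℕ => (j : ℤ) ≤ (c : ℤ)) = Finset.Icc 1 c := by
      ext j
      simp only [Finset.mem_filter, Finset.mem_Icc, Nat.cast_le]
      omega
    rw [this, Nat.card_Icc]
    simp
  rw [Finset.sum_congr rfl h1, Finset.sum_comm]
  refine Finset.sum_congr rfl (fun j hj => ?_)
  rw [Finset.mem_Icc] at hj
  have hjn : j * P.deg ≤ n := (Nat.le_div_iff_mul_le hd).1 hj.2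
  rw [Finset.sum_boole, card_filter_le hK P j n hjn]

include hK in
/-- the degree of an effective divisor as a sum over the places of small degree -/
lemma deg_eq_sum_Es {n : ℕ} {D : Divisor k K} (hD : D ∈ Es hK n) :
    D.deg = ∑ P ∈ (finite_places_deg_le hK n).toFinset, D P * (P.deg : ℤ) := by
  classical
  rw [mem_Es] at hD
  unfold Divisor.deg
  refine Finsupp.sum_of_support_subset _ ?_ _ (fun _ _ => by simp)
  intro P hP
  rw [Finsupp.mem_support_iff] at hP
  rw [Set.Finite.mem_toFinset, Set.mem_setOf_eq]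
  have h0 : 0 ≤ D P := by
    have := hD.1 P
    simpa using this
  have h1 : 1 ≤ D P := by omega
  have hle := apply_mul_deg_le_deg hK hD.1 P
  rw [hD.2] at hle
  have : (P.deg : ℤ) ≤ n := by nlinarith [(Nat.cast_nonneg P.deg : (0 : ℤ) ≤ P.deg)]
  exact_mod_cast this

include hK in
lemma Nm_eq_sum {m n : ℕ} (hm : 0 < m) (hmn : m ≤ n) :
    Nm k K m = ∑ P ∈ (finite_places_deg_le hK n).toFinset, if P.deg ∣ m then P.deg else 0 := by
  classical
  unfold Nm
  rw [finsum_mem_eq_finite_toFinset_sum _ (finite_places_dvd hK hm), ← Finset.sum_filter]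
  refine Finset.sum_congr ?_ (fun _ _ => rfl)
  ext P
  simp only [Set.Finite.mem_toFinset, Set.mem_setOf_eq, Finset.mem_filter]
  constructor
  · intro h
    exact ⟨(Nat.le_of_dvd hm h).trans hmn, h⟩
  · intro h
    exact h.2

include hK in
/-- **Newton recursion**: `n a(n) = ∑_{m=1}^n N_m a(n-m)`. -/
theorem recursion (n : ℕ) :
    (n : ℤ) * (effDivCount k K n : ℤ) =
      ∑ m ∈ Finset.Icc 1 n, (Nm k K m : ℤ) * (effDivCount k K (n - m) : ℤ) := by
  classical
  set S := (finite_places_deg_le hK n).toFinset with hS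
  have h1 : (n : ℤ) * (effDivCount k K n : ℤ) = ∑ D ∈ Es hK n, D.deg := by
    rw [Finset.sum_congr rfl (fun D hD => ((mem_Es hK).1 hD).2), Finset.sum_const, card_Es,
      nsmul_eq_mul, mul_comm]
  rw [h1, Finset.sum_congr rfl (fun D hD => deg_eq_sum_Es hK hD), Finset.sum_comm]
  have h2 : ∀ P ∈ S, ∑ D ∈ Es hK n, D P * (P.deg : ℤ) =
      ∑ m ∈ Finset.Icc 1 n, (if P.deg ∣ m then (P.deg : ℤ) else 0) *
        (effDivCount k K (n - m) : ℤ) := by
    intro P _
    have hd : 0 < P.deg := P.deg_pos hK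
    rw [← Finset.sum_mul, sum_apply_Es hK P n, Finset.sum_mul]
    have h3 : ∑ m ∈ Finset.Icc 1 n, (if P.deg ∣ m then (P.deg : ℤ) else 0) *
        (effDivCount k K (n - m) : ℤ) =
        ∑ m ∈ (Finset.Icc 1 n).filter (fun m => P.deg ∣ m),
          (P.deg : ℤ) * (effDivCount k K (n - m) : ℤ) := by
      rw [Finset.sum_filter]
      refine Finset.sum_congr rfl (fun m _ => ?_)
      split_ifs <;> simp
    rw [h3]
    refine Finset.sum_nbij' (fun j => j * P.deg) (fun m => m / P.deg) ?_ ?_ ?_ ?_ ?_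
    · intro j hj
      rw [Finset.mem_Icc] at hj
      rw [Finset.mem_filter, Finset.mem_Icc]
      refine ⟨⟨Nat.mul_pos hj.1 hd, (Nat.le_div_iff_mul_le hd).1 hj.2⟩, Dvd.intro_left _ rfl⟩
    · intro m hm
      rw [Finset.mem_filter, Finset.mem_Icc] at hm
      rw [Finset.mem_Icc]
      obtain ⟨c, hc⟩ := hm.2
      subst hc
      rw [Nat.mul_div_cancel_left _ hd]
      refine ⟨Nat.pos_of_ne_zero (fun h0 => ?_), ?_⟩
      · subst h0; simp at hm
      · rw [Nat.le_div_iff_mul_le hd, mul_comm]; exact hm.1.2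
    · intro j _
      exact Nat.mul_div_cancel _ hd
    · intro m hm
      rw [Finset.mem_filter] at hm
      exact Nat.div_mul_cancel hm.2
    · intro j _
      rw [card_Es, mul_comm]
  rw [Finset.sum_congr rfl h2, Finset.sum_comm]
  refine Finset.sum_congr rfl (fun m hm => ?_)
  rw [Finset.mem_Icc] at hm
  rw [← Finset.sum_mul, Nm_eq_sum hK hm.1 hm.2]
  push_cast
  rfl

end recursion

end Groth.Agent.H7.Zeta
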