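import Mathlib

/-! Formal logarithmic derivatives of power series over `ℂ` (helper7). -/

set_option autoImplicit false
set_option linter.unusedSectionVars false

namespace Groth.Agent.H7.Zeta

open PowerSeries

/-- `s` is the logarithmic derivative `t f'/f` of `f`. -/
def LD (f s : ℂ⟦X⟧) : Prop := X * d⁄dX ℂ f = f * s

lemma LD.mul {f g s r : ℂ⟦X⟧} (hf : LD f s) (hg : LD g r) : LD (f * g) (s + r) := by
  unfold LD at *
  rw [Derivation.leibniz, smul_eq_mul, smul_eq_mul]
  linear_combination f * hg + g * hf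

lemma LD_one : LD 1 0 := by
  unfold LD
  rw [derivative_one, mul_zero, mul_zero]

lemma LD_prod {ι : Type*} (s : Finset ι) (f r : ι → ℂ⟦X⟧) (h : ∀ i ∈ s, LD (f i) (r i)) :
    LD (∏ i ∈ s, f i) (∑ i ∈ s, r i) := by
  classical
  induction s using Finset.induction_on with
  | empty => simpa using LD_one
  | insert a s ha ih =>
    rw [Finset.prod_insert ha, Finset.sum_insert ha]
    exact (h a (Finset.mem_insert_self _ _)).mul (ih (fun i hi => h i (Finset.mem_insert_of_mem hi)))

lemma LD.unique {f s r : ℂ⟦X⟧} (hf0 : f ≠ 0) (hs : LD f s) (hr : LD f r) : s = r := by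
  unfold LD at *
  exact mul_left_cancel₀ hf0 (hs.symm.trans hr)

/-- geometric series `∑_{m ≥ 1} a^m t^m` -/
noncomputable def geom (a : ℂ) : ℂ⟦X⟧ := mk fun m => if m = 0 then 0 else a ^ m

lemma coeff_geom (a : ℂ) {m : ℕ} (hm : 0 < m) : coeff m (geom a) = a ^ m := by
  unfold geom
  rw [coeff_mk, if_neg hm.ne']

lemma coeff_zero_geom (a : ℂ) : coeff 0 (geom a) = 0 := by
  unfold geom
  rw [coeff_mk, if_pos rfl]

lemma geom_mul (a : ℂ) : geom a * (1 - C a * X) = C a * X := by
  ext n
  rw [mul_sub, mul_one, map_sub, ← mul_assoc]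
  cases n with
  | zero => simp [coeff_zero_geom]
  | succ n =>
    rw [coeff_succ_mul_X, coeff_mul_C, coeff_C_mul, coeff_X, coeff_geom a (Nat.succ_pos n)]
    cases n with
    | zero => simp [coeff_zero_geom]
    | succ n =>
      rw [coeff_geom a (Nat.succ_pos n), if_neg (by omega)]
      simp only [Nat.succ_eq_add_one]
      ring

lemma LD_one_sub (a : ℂ) : LD (1 - C a * X) (-geom a) := by
  unfold LD
  have h1 : d⁄dX ℂ (1 - C a * X : ℂ⟦X⟧) = -C a := by
    rw [map_sub, derivative_one, Derivation.leibniz, derivative_X, derivative_C]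
    simp
  rw [h1, mul_neg, mul_neg, mul_comm (1 - C a * X), geom_mul, mul_comm]

lemma constantCoeff_prod_one_sub {ι : Type*} (s : Finset ι) (a : ι → ℂ) :
    constantCoeff (∏ i ∈ s, (1 - C (a i) * X : ℂ⟦X⟧)) = 1 := by
  rw [map_prod]
  apply Finset.prod_eq_one
  intro i _
  simp

/-- read off the power sums from the logarithmic derivative of the zeta function -/
theorem coeff_of_LD {Z S : ℂ⟦X⟧} (hZ : LD Z S) {n : ℕ} (α : Fin n → ℂ) (q : ℂ)
    (hL : (1 - X) * (1 - C q * X) * Z = ∏ i, (1 - C (α i) * X)) {m : ℕ} (hm : 0 < m) :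
    coeff m S = 1 + q ^ m - ∑ i, α i ^ m := by
  have h1 : LD ((1 - C 1 * X) * (1 - C q * X) * Z) (-geom 1 + -geom q + S) :=
    ((LD_one_sub 1).mul (LD_one_sub q)).mul hZ
  rw [map_one, one_mul, hL] at h1
  have h2 : LD (∏ i, (1 - C (α i) * X : ℂ⟦X⟧)) (∑ i, -geom (α i)) :=
    LD_prod _ _ _ (fun i _ => LD_one_sub (α i))
  have hne : (∏ i, (1 - C (α i) * X : ℂ⟦X⟧)) ≠ 0 := by
    intro h0
    have := constantCoeff_prod_one_sub Finset.univ α
    rw [h0, map_zero] at this
    exact zero_ne_one this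
  have h3 := LD.unique hne h1 h2
  have h4 := congrArg (coeff m) h3
  simp only [map_add, map_neg, map_sum, coeff_geom _ hm, one_pow] at h4
  rw [Finset.sum_neg_distrib] at h4
  linear_combination h4

/-- a power series with constant term `1` is determined by its logarithmic derivative -/
theorem eq_of_LD {f g s : ℂ⟦X⟧} (hf : LD f s) (hg : LD g s) (h0 : constantCoeff f = 1)
    (h0' : constantCoeff g = 1) : f = g := by
  unfold LD at *
  have hg0 : constantCoeff g ≠ 0 := by rw [h0']; exact one_ne_zero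
  have hgi : g⁻¹ * g = 1 := PowerSeries.inv_mul_cancel _ hg0
  have hd : X * d⁄dX ℂ (f * g⁻¹) = 0 := by
    rw [Derivation.leibniz, derivative_inv', smul_eq_mul, smul_eq_mul]
    linear_combination (-f * g⁻¹ ^ 2) * hg + g⁻¹ * hf - (f * g⁻¹ * s) * hgi
  have hd' : d⁄dX ℂ (f * g⁻¹) = d⁄dX ℂ (1 : ℂ⟦X⟧) := by
    rw [derivative_one]
    rcases mul_eq_zero.1 hd with h | h
    · exact absurd h X_ne_zero
    · exact h
  have hc : constantCoeff (f * g⁻¹) = constantCoeff (1 : ℂ⟦X⟧) := by
    rw [map_mul, h0, constantCoeff_inv, h0']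
    simp
  have h1 := derivative.ext hd' hc
  calc f = f * (g⁻¹ * g) := by rw [hgi, mul_one]
    _ = (f * g⁻¹) * g := by ring
    _ = g := by rw [h1, one_mul]

end Groth.Agent.H7.Zeta
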