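import Groth.Agent.Lib.Helper7.ZC

/-! Places of small degree in a constant field extension (helper7). -/

set_option autoImplicit false
set_option linter.unusedSectionVars false

attribute [-instance] IsLocalRing.instModuleResidueFieldOfAlgebra

namespace Groth.Agent.H7.Zeta

universe u v u' v'

open FunFld TensorProduct

section NmCE

variable {k : Type u} {k' : Type u'} {K : Type v} {K' : Type v'} [Field k] [Field k'] [Field K]
  [Field K'] [Algebra k k'] [FiniteDimensional k k'] [Algebra k K] [Algebra K K'] [Algebra k' K']
  [Algebra k K'] [IsScalarTower k k' K'] [IsScalarTower k K K'] [Finite k]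

variable (hK : IsFunctionField k K)
  (h : Function.Bijective (Algebra.TensorProduct.productMap
      (IsScalarTower.toAlgHom k k' K') (IsScalarTower.toAlgHom k K K')))

include hK h in
/-- `N'_m = N_{rm}` for the constant field extension of degree `r`. -/
theorem Nm_constExt (hK' : IsFunctionField k' K') {m : ℕ} (hm : 0 < m) :
    Nm k' K' m = Nm k K (Module.finrank k k' * m) := by
  classical
  have hfink' : Finite k' := Module.finite_of_finite k
  have hfdK' : FiniteDimensional K K' := FF.finiteDimensional_constExt h
  set r := Module.finrank k k' with hr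
  have hr0 : 0 < r := Module.finrank_pos
  have hrm : 0 < r * m := Nat.mul_pos hr0 hm
  set A := (finite_places_dvd hK hrm).toFinset with hA
  let Qs : Place k K → Finset (Place k K') := fun P =>
    (finite_isOver (K' := K') hK.isFF1 P).toFinset
  set T' := (finite_places_dvd hK' hm).toFinset with hT'
  have hdeg : ∀ Q : Place k K', Q.deg = r * (up (k' := k') Q).deg := fun Q => by
    have := deg_down (k := k) (up (k' := k') Q)
    exact this
  have himage : T'.image (down (k := k)) = A.biUnion Qs := by
    ext Q
    simp only [Finset.mem_image, Finset.mem_biUnion, hT', hA, Set.Finite.mem_toFinset,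
      Set.mem_setOf_eq, Qs]
    constructor
    · rintro ⟨Q', hQ', rfl⟩
      obtain ⟨P, e, hP⟩ := exists_isOverWith hK.isFF1 (down (k := k) Q')
      have hPQ : IsOver (down (k := k) Q') P := ⟨e, hP⟩
      refine ⟨P, ?_, hPQ⟩
      have h1 := deg_constExt hK h P hPQ
      have h2 : (down (k := k) Q').deg = r * Q'.deg := deg_down Q'
      have h3 : P.deg ∣ (down (k := k) Q').deg := by rw [h1]; exact Nat.dvd_lcm_left _ _
      rw [h2] at h3
      exact h3.trans (Nat.mul_dvd_mul_left r hQ')
    · rintro ⟨P, hP, hPQ⟩
      refine ⟨up (k' := k') Q, ?_, rfl⟩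
      have h1 := deg_constExt hK h P hPQ
      have h2 : Q.deg ∣ r * m := by
        rw [h1]; exact Nat.lcm_dvd hP (Dvd.intro _ rfl)
      rw [hdeg Q] at h2
      exact (Nat.mul_dvd_mul_iff_left hr0).1 h2
  have hinj : Function.Injective (down (k := k) (k' := k') (K' := K')) := by
    intro Q₁ Q₂ h12
    have := congrArg (up (k' := k')) h12
    exact this
  have hdisj : (A : Set (Place k K)).PairwiseDisjoint Qs := by
    intro P _ P' _ hne
    rw [Function.onFun, Finset.disjoint_left]
    intro Q hQ hQ'
    simp only [Qs, Set.Finite.mem_toFinset, Set.mem_setOf_eq] at hQ hQ'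
    exact hne (hQ.unique hQ')
  have key : r * Nm k' K' m = r * Nm k K (r * m) := by
    unfold Nm
    rw [finsum_mem_eq_finite_toFinset_sum _ (finite_places_dvd hK' hm),
      finsum_mem_eq_finite_toFinset_sum _ (finite_places_dvd hK hrm), ← hT', ← hA,
      Finset.mul_sum, Finset.mul_sum]
    calc ∑ Q' ∈ T', r * Q'.deg = ∑ Q' ∈ T', (down (k := k) Q').deg :=
          Finset.sum_congr rfl (fun Q' _ => (deg_down Q').symm)
      _ = ∑ Q ∈ T'.image (down (k := k)), Q.deg :=
          (Finset.sum_image (fun _ _ _ _ hxy => hinj hxy)).symm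
      _ = ∑ P ∈ A, ∑ Q ∈ Qs P, Q.deg := by rw [himage, Finset.sum_biUnion hdisj]
      _ = ∑ P ∈ A, r * P.deg := by
          refine Finset.sum_congr rfl (fun P _ => ?_)
          have hc := card_places_over hK h P (Qs P) (fun Q => by simp [Qs])
          have hd : ∀ Q ∈ Qs P, Q.deg = Nat.lcm P.deg r := fun Q hQ => by
            simp only [Qs, Set.Finite.mem_toFinset, Set.mem_setOf_eq] at hQ
            exact deg_constExt hK h P hQ
          rw [Finset.sum_congr rfl hd, Finset.sum_const, hc, smul_eq_mul, Nat.gcd_mul_lcm,
            mul_comm]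
  exact Nat.eq_of_mul_eq_mul_left hr0 key

end NmCE

end Groth.Agent.H7.Zeta
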