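import Groth.Agent.Lib.Helper7.ZE
import Groth.Agent.Lib.Helper7.ZD
import Groth.Agent.Lib.Helper7.ZB

/-! Zeta functions of constant field extensions (helper7; S11061, S11062). -/

set_option autoImplicit false
set_option linter.unusedSectionVars false

attribute [-instance] IsLocalRing.instModuleResidueFieldOfAlgebra

namespace Groth.Agent.H7.Zeta

universe u v u' v'

open FunFld TensorProduct

section bij

variable {k : Type u} {k' : Type u'} {K : Type v} {K' : Type v'} [Field k] [Field k'] [Field K]
  [Field K'] [Algebra k k'] [FiniteDimensional k k'] [Algebra k K] [Algebra K K'] [Algebra k' K']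
  [Algebra k K'] [IsScalarTower k k' K'] [IsScalarTower k K K']

/-- the tensor-product criterion from the definition of a constant field extension -/
theorem bijective_productMap_of_adjoin
    (hadj : Algebra.adjoin K (Set.range (algebraMap k' K')) = ⊤)
    (hrank : Module.finrank K K' = Module.finrank k k') :
    Function.Bijective (Algebra.TensorProduct.productMap
      (IsScalarTower.toAlgHom k k' K') (IsScalarTower.toAlgHom k K K')) := by
  have hsurj : Function.Surjective (FF.prodK k k' K K') := by
    rw [← AlgHom.range_eq_top, eq_top_iff, ← hadj]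
    refine Algebra.adjoin_le ?_
    rintro _ ⟨c, rfl⟩
    exact ⟨1 ⊗ₜ c, by
      change FF.prodK k k' K K' (1 ⊗ₜ[k] c) = _
      rw [FF.prodK_tmul, map_one, one_mul]⟩
  have hfd : FiniteDimensional K K' :=
    Module.Finite.of_surjective (FF.prodK k k' K K').toLinearMap hsurj
  have hinj : Function.Injective (FF.prodK k k' K K') := by
    have := LinearMap.injective_iff_surjective_of_finrank_eq_finrank
      (f := (FF.prodK k k' K K').toLinearMap) (by rw [Module.finrank_baseChange, hrank])
    exact this.2 hsurj
  have hcomp : ∀ t : k' ⊗[k] K, Algebra.TensorProduct.productMap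
      (IsScalarTower.toAlgHom k k' K') (IsScalarTower.toAlgHom k K K') t =
      FF.prodK k k' K K' (Algebra.TensorProduct.comm k k' K t) := by
    intro t
    induction t using TensorProduct.induction_on with
    | zero => simp
    | tmul c x =>
      rw [Algebra.TensorProduct.comm_tmul, FF.prodK_tmul,
        Algebra.TensorProduct.productMap_apply_tmul, mul_comm]
      rfl
    | add a b ha hb => rw [map_add, map_add, map_add, ha, hb]
  have : (Algebra.TensorProduct.productMap
      (IsScalarTower.toAlgHom k k' K') (IsScalarTower.toAlgHom k K K') : k' ⊗[k] K → K') =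
      (FF.prodK k k' K K') ∘ (Algebra.TensorProduct.comm k k' K) := funext hcomp
  rw [this]
  have hb : Function.Bijective (FF.prodK k k' K K') := ⟨hinj, hsurj⟩
  exact hb.comp (Algebra.TensorProduct.comm k k' K).bijective

end bij

section series

variable (k K : Type*) [Field k] [Field K] [Algebra k K]

/-- the series `∑_{m ≥ 1} N_m t^m` -/
noncomputable def NmSeries : PowerSeries ℂ :=
  PowerSeries.mk fun m => if m = 0 then 0 else (Nm k K m : ℂ)

/-- the zeta series over `ℂ` -/
noncomputable def zetaC : PowerSeries ℂ := PowerSeries.map (Int.castRingHom ℂ) (zetaZ k K)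

lemma coeff_zetaC (n : ℕ) : PowerSeries.coeff n (zetaC k K) = (effDivCount k K n : ℂ) := by
  unfold zetaC
  rw [PowerSeries.coeff_map, coeff_zetaZ]
  simp

lemma coeff_NmSeries {m : ℕ} (hm : 0 < m) : PowerSeries.coeff m (NmSeries k K) = (Nm k K m : ℂ) := by
  unfold NmSeries
  rw [PowerSeries.coeff_mk, if_neg hm.ne']

lemma coeff_zero_NmSeries : PowerSeries.coeff 0 (NmSeries k K) = 0 := by
  unfold NmSeries
  rw [PowerSeries.coeff_mk, if_pos rfl]

lemma map_numerZ : PowerSeries.map (Int.castRingHom ℂ) (numerZ k K) =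
    (1 - PowerSeries.X) * (1 - PowerSeries.C (Nat.card k : ℂ) * PowerSeries.X) * zetaC k K := by
  unfold numerZ zetaC
  rw [map_mul, map_mul, map_sub, map_sub, map_one, map_mul, PowerSeries.map_X, PowerSeries.map_C]
  simp

variable {k K}

lemma coe_prod_one_sub {n : ℕ} (α : Fin n → ℂ) :
    ((∏ i, (1 - Polynomial.C (α i) * Polynomial.X) : Polynomial ℂ) : PowerSeries ℂ) =
      ∏ i, (1 - PowerSeries.C (α i) * PowerSeries.X) := by
  rw [← Polynomial.coeToPowerSeries.ringHom_apply, map_prod]
  refine Finset.prod_congr rfl (fun i _ => ?_)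
  rw [Polynomial.coeToPowerSeries.ringHom_apply]
  simp

variable [Finite k] (hK : IsFunctionField k K)

include hK in
/-- the Newton recursion as a logarithmic derivative -/
theorem LD_zetaC : LD (zetaC k K) (NmSeries k K) := by
  unfold LD
  ext n
  cases n with
  | zero =>
    rw [PowerSeries.coeff_zero_X_mul, PowerSeries.coeff_mul]
    simp [coeff_zero_NmSeries]
  | succ n =>
    rw [PowerSeries.coeff_succ_X_mul, PowerSeries.coeff_derivative, coeff_zetaC, mul_comm (zetaC k K),
      PowerSeries.coeff_mul, Finset.Nat.sum_antidiagonal_eq_sum_range_succ_mk,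
      Finset.sum_range_succ', coeff_zero_NmSeries, zero_mul, add_zero]
    have hrec := recursion hK (n + 1)
    have hrec' : ((n + 1 : ℕ) : ℂ) * (effDivCount k K (n + 1) : ℂ) =
        ∑ m ∈ Finset.Icc 1 (n + 1), (Nm k K m : ℂ) * (effDivCount k K (n + 1 - m) : ℂ) := by
      exact_mod_cast hrec
    have hsum : ∑ m ∈ Finset.Icc 1 (n + 1), (Nm k K m : ℂ) * (effDivCount k K (n + 1 - m) : ℂ) =
        ∑ i ∈ Finset.range (n + 1), (Nm k K (i + 1) : ℂ) * (effDivCount k K (n + 1 - (i + 1)) : ℂ) := by
      refine Finset.sum_nbij' (fun m => m - 1) (fun i => i + 1) ?_ ?_ ?_ ?_ ?_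
      · intro m hm
        rw [Finset.mem_Icc] at hm
        rw [Finset.mem_range]; omega
      · intro i hi
        rw [Finset.mem_range] at hi
        rw [Finset.mem_Icc]; omega
      · intro m hm
        rw [Finset.mem_Icc] at hm
        omega
      · intro i _
        omega
      · intro m hm
        rw [Finset.mem_Icc] at hm
        rw [Nat.sub_add_cancel hm.1]
    rw [hsum] at hrec'
    push_cast at hrec'
    rw [mul_comm, hrec']
    refine Finset.sum_congr rfl (fun i _ => ?_)
    rw [coeff_NmSeries k K (Nat.succ_pos i), coeff_zetaC]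
    dsimp only
    rw [Nat.add_sub_add_right]

include hK in
/-- `N_m = 1 + q^m - ∑ αᵢ^m` -/
theorem Nm_eq {n : ℕ} (α : Fin n → ℂ)
    (hα : PowerSeries.map (Int.castRingHom ℂ) (numerZ k K) =
      ((∏ i, (1 - Polynomial.C (α i) * Polynomial.X) : Polynomial ℂ) : PowerSeries ℂ))
    {m : ℕ} (hm : 0 < m) :
    (Nm k K m : ℂ) = 1 + (Nat.card k : ℂ) ^ m - ∑ i, α i ^ m := by
  rw [map_numerZ, coe_prod_one_sub] at hα
  rw [← coeff_NmSeries k K hm]
  exact coeff_of_LD (LD_zetaC hK) α _ hα hm

include hK in
lemma Nm_one : Nm k K 1 = Nat.card {P : Place k K // P.deg = 1} := by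
  classical
  unfold Nm
  rw [finsum_mem_eq_finite_toFinset_sum _ (finite_places_dvd hK Nat.one_pos)]
  have h1 : ∀ P ∈ (finite_places_dvd hK Nat.one_pos).toFinset, P.deg = 1 := by
    intro P hP
    rw [Set.Finite.mem_toFinset, Set.mem_setOf_eq, Nat.dvd_one] at hP
    exact hP
  rw [Finset.sum_congr rfl h1, Finset.sum_const, smul_eq_mul, mul_one,
    ← Set.ncard_eq_toFinset_card _ _]
  have : {P : Place k K | P.deg ∣ 1} = {P : Place k K | P.deg = 1} := by
    ext P; simp
  rw [this]
  rfl

end series

section final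

open PowerSeries in
/-- **S11062** -/
theorem S11062 (k K k' K' : Type*) [Field k] [Finite k] [Field K] [Algebra k K] [Field k']
    [Finite k'] [Field K'] [Algebra k k'] [Algebra K K'] [Algebra k' K']
    (hK : IsFunctionField k K) (hK' : IsFunctionField k' K') (hce : IsConstExt k K k' K')
    (α : Fin (2 * genus k K) → ℂ)
    (hα : PowerSeries.map (Int.castRingHom ℂ) (numerZ k K) =
      ((∏ i, (1 - Polynomial.C (α i) * Polynomial.X) : Polynomial ℂ) : PowerSeries ℂ)) :
    (Nat.card {P : Place k' K' // P.deg = 1} : ℂ) =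
      1 + (Nat.card k : ℂ) ^ Module.finrank k k' - ∑ i, α i ^ Module.finrank k k' := by
  letI : Algebra k K' := ((algebraMap K K').comp (algebraMap k K)).toAlgebra
  haveI : IsScalarTower k K K' := IsScalarTower.of_algebraMap_eq (fun _ => rfl)
  haveI : IsScalarTower k k' K' := IsScalarTower.of_algebraMap_eq (fun c => hce.1 c)
  haveI : FiniteDimensional k k' := Module.Finite.of_finite
  have h := bijective_productMap_of_adjoin (k := k) (K := K) hce.2.1 hce.2.2
  have hr0 : 0 < Module.finrank k k' := Module.finrank_pos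
  rw [← Nm_one hK', Nm_constExt hK h hK' Nat.one_pos, mul_one]
  exact Nm_eq hK α hα hr0

open PowerSeries in
/-- **S11061** -/
theorem S11061 (k K k' K' : Type*) [Field k] [Finite k] [Field K] [Algebra k K] [Field k']
    [Finite k'] [Field K'] [Algebra k k'] [Algebra K K'] [Algebra k' K']
    (hK : IsFunctionField k K) (hK' : IsFunctionField k' K') (hce : IsConstExt k K k' K')
    (α : Fin (2 * genus k K) → ℂ)
    (hα : PowerSeries.map (Int.castRingHom ℂ) (numerZ k K) =
      ((∏ i, (1 - Polynomial.C (α i) * Polynomial.X) : Polynomial ℂ) : PowerSeries ℂ)) :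
    PowerSeries.map (Int.castRingHom ℂ) (numerZ k' K') =
      ((∏ i, (1 - Polynomial.C (α i ^ Module.finrank k k') * Polynomial.X) : Polynomial ℂ) :
        PowerSeries ℂ) := by
  letI : Algebra k K' := ((algebraMap K K').comp (algebraMap k K)).toAlgebra
  haveI : IsScalarTower k K K' := IsScalarTower.of_algebraMap_eq (fun _ => rfl)
  haveI : IsScalarTower k k' K' := IsScalarTower.of_algebraMap_eq (fun c => hce.1 c)
  haveI : FiniteDimensional k k' := Module.Finite.of_finite
  have h := bijective_productMap_of_adjoin (k := k) (K := K) hce.2.1 hce.2.2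
  set r := Module.finrank k k' with hr
  have hr0 : 0 < r := Module.finrank_pos
  rw [map_numerZ, coe_prod_one_sub]
  have hq' : (Nat.card k' : ℂ) = (Nat.card k : ℂ) ^ r := by
    have := Module.natCard_eq_pow_finrank (K := k) (V := k')
    exact_mod_cast this
  have h1 : LD ((1 - C 1 * X) * (1 - C (Nat.card k' : ℂ) * X) * zetaC k' K')
      (-geom 1 + -geom (Nat.card k' : ℂ) + NmSeries k' K') :=
    ((LD_one_sub 1).mul (LD_one_sub _)).mul (LD_zetaC hK')
  rw [map_one, one_mul] at h1
  have h2 : LD (∏ i, (1 - C (α i ^ r) * X : ℂ⟦X⟧)) (∑ i, -geom (α i ^ r)) :=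
    LD_prod _ _ _ (fun i _ => LD_one_sub _)
  have hs : -geom 1 + -geom (Nat.card k' : ℂ) + NmSeries k' K' = ∑ i, -geom (α i ^ r) := by
    ext m
    rcases Nat.eq_zero_or_pos m with rfl | hm
    · simp only [map_add, map_neg, map_sum, coeff_zero_geom, coeff_zero_NmSeries]
      simp
    · simp only [map_add, map_neg, map_sum, coeff_geom _ hm, coeff_NmSeries _ _ hm, one_pow]
      rw [Nm_constExt hK h hK' hm, Nm_eq hK α hα (m := r * m) (Nat.mul_pos hr0 hm), hq',
        Finset.sum_neg_distrib]
      simp only [← pow_mul]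
      ring
  rw [hs] at h1
  refine eq_of_LD h1 h2 ?_ (constantCoeff_prod_one_sub _ _)
  simp only [map_mul, map_sub, map_one, constantCoeff_X, mul_zero, sub_zero, one_mul]
  rw [← coeff_zero_eq_constantCoeff_apply, coeff_zetaC, effDivCount_zero hK', Nat.cast_one]

end final

end Groth.Agent.H7.Zeta
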