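import Mathlib
import Groth.Prelude.Def_BigSite

set_option autoImplicit false

universe u

open CategoryTheory CategoryTheory.Limits Opposite AlgebraicGeometry TopologicalSpace

namespace Groth.Agent.H7.ZS

variable (X : Scheme.{u})

set_option backward.isDefEq.respectTransparency.types false in
/-- The inclusion of the opens of `X` into the big Zariski site is cocontinuous. -/
instance zarIncl_isCocontinuous :
    (BigSite.zarIncl X).IsCocontinuous (Opens.grothendieckTopology X)
      (QuotSh.J Scheme.zariskiPrecoverage X) where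
  cover_lift {U S} hS := by
    have hS' : Sieve.overEquiv ((BigSite.zarIncl X).obj U) S ∈
        Scheme.zariskiTopology (U : Scheme.{u}) := hS
    obtain ⟨𝒰, h𝒰⟩ := Scheme.mem_grothendieckTopology_iff.1 hS'
    intro x hx
    obtain ⟨i, y, hy⟩ := 𝒰.exists_eq ⟨x, hx⟩
    haveI : IsOpenImmersion (𝒰.f i) := 𝒰.map_prop i
    let g : 𝒰.X i ⟶ X := 𝒰.f i ≫ U.ι
    haveI : IsOpenImmersion g := IsOpenImmersion.comp (𝒰.f i) U.ι
    have hVU : g.opensRange ≤ U := by
      rintro _ ⟨z, rfl⟩
      exact ((𝒰.f i) z).2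
    refine ⟨g.opensRange, homOfLE hVU, ?_, ⟨y, ?_⟩⟩
    · let m : Over.mk (𝒰.f i ≫ U.ι) ⟶ (BigSite.zarIncl X).obj U := Over.homMk (𝒰.f i) rfl
      have h1 : S m :=
        (Sieve.overEquiv_iff _ _).1 (h𝒰 _ _ (Presieve.ofArrows.mk i))
      let e : (BigSite.zarIncl X).obj g.opensRange ⟶ Over.mk (𝒰.f i ≫ U.ι) :=
        Over.homMk g.isoOpensRange.inv (g.isoOpensRange_inv_comp)
      have h2 : (BigSite.zarIncl X).map (homOfLE hVU) = e ≫ m := by
        apply Over.OverMorphism.ext
        change X.homOfLE hVU = g.isoOpensRange.inv ≫ 𝒰.f i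
        rw [← cancel_mono U.ι, Scheme.homOfLE_ι, Category.assoc]
        exact (g.isoOpensRange_inv_comp).symm
      change S ((BigSite.zarIncl X).map (homOfLE hVU))
      rw [h2]
      exact S.downward_closed h1 e
    · change (𝒰.f i ≫ U.ι) y = x
      rw [Scheme.Hom.comp_apply, hy]
      rfl

end Groth.Agent.H7.ZS
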