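import Mathlib
import Groth.Prelude.Def_BigSite

set_option autoImplicit false

universe u

open CategoryTheory CategoryTheory.Limits Opposite AlgebraicGeometry TopologicalSpace

namespace Groth.Agent.H7.ZS

variable (X : Scheme.{u})

set_option backward.isDefEq.respectTransparency.types false in
lemma isPullback_zarIncl {U V W : X.Opens} (f : U ⟶ W) (g : V ⟶ W) :
    IsPullback ((BigSite.zarIncl X).map (homOfLE inf_le_left : U ⊓ V ⟶ U))
      ((BigSite.zarIncl X).map (homOfLE inf_le_right : U ⊓ V ⟶ V))
      ((BigSite.zarIncl X).map f) ((BigSite.zarIncl X).map g) := by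
  have comm : (BigSite.zarIncl X).map (homOfLE inf_le_left : U ⊓ V ⟶ U) ≫
      (BigSite.zarIncl X).map f = (BigSite.zarIncl X).map (homOfLE inf_le_right : U ⊓ V ⟶ V) ≫
      (BigSite.zarIncl X).map g := by
    rw [← Functor.map_comp, ← Functor.map_comp]
    congr 1
  refine IsPullback.of_map (Over.forget X) comm ?_
  exact isPullback_opens_inf_le f.le g.le

set_option backward.isDefEq.respectTransparency.types false in
instance preservesPullbacks_zarIncl :
    PreservesLimitsOfShape WalkingCospan (BigSite.zarIncl X) := by
  constructor
  intro K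
  let f := K.map WalkingCospan.Hom.inl
  let g := K.map WalkingCospan.Hom.inr
  suffices PreservesLimit (cospan f g) (BigSite.zarIncl X) from
    preservesLimit_of_iso_diagram _ (diagramIsoCospan K).symm
  let c : PullbackCone f g := PullbackCone.mk (homOfLE inf_le_left : K.obj .left ⊓ K.obj .right ⟶ _)
    (homOfLE inf_le_right) (Subsingleton.elim _ _)
  have hc : IsLimit c := PullbackCone.IsLimit.mk _ (fun s => homOfLE (le_inf s.fst.le s.snd.le))
    (fun s => Subsingleton.elim _ _) (fun s => Subsingleton.elim _ _)
    (fun s m _ _ => Subsingleton.elim _ _)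
  apply preservesLimit_of_preserves_limit_cone hc
  exact (isLimitMapConePullbackConeEquiv (BigSite.zarIncl X) _).symm
    (isPullback_zarIncl X f g).isLimit

instance preservesEqualizers_zarIncl :
    PreservesLimitsOfShape WalkingParallelPair (BigSite.zarIncl X) := by
  constructor
  intro K
  let f := K.map WalkingParallelPairHom.left
  let g := K.map WalkingParallelPairHom.right
  have hfg : f = g := Subsingleton.elim _ _
  suffices PreservesLimit (parallelPair f g) (BigSite.zarIncl X) from
    preservesLimit_of_iso_diagram _ (diagramIsoParallelPair K).symm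
  apply preservesLimit_of_preserves_limit_cone (isLimitIdFork hfg)
  refine (isLimitMapConeForkEquiv (BigSite.zarIncl X) _).symm ?_
  have hfg' : (BigSite.zarIncl X).map f = (BigSite.zarIncl X).map g := by rw [hfg]
  exact IsLimit.ofIsoLimit (isLimitIdFork hfg') (Fork.ext (Iso.refl _)
    ((Category.id_comp _).trans ((BigSite.zarIncl X).map_id _)))

end Groth.Agent.H7.ZS
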