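import Mathlib
import Groth.Prelude.Def_BigSite
import Groth.Agent.Lib.Helper7.GT1
import Groth.Agent.Lib.Helper7.GT2
import Groth.Agent.Lib.Helper7.ZS1
import Groth.Agent.Lib.Helper7.ZS2
import Groth.Agent.Lib.Lead.EZ.ExtAdj

set_option autoImplicit false

universe u

open CategoryTheory CategoryTheory.Limits Opposite AlgebraicGeometry TopologicalSpace Abelian

namespace Groth.Agent.H7.ZS

open Groth.Agent.H7.GT

variable (X : Scheme.{u})

section

variable (K : Precoverage Scheme.{u}) [BigSite.ZarCont K X]

instance ab5_addCommGrp_succ' : AB5OfSize.{u, u} AddCommGrpCat.{u + 1} :=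
  AB5OfSize_of_univLE.{u, u, u + 1, u + 1} AddCommGrpCat.{u + 1}

instance ab4_addCommGrp_succ' : AB4OfSize.{u} AddCommGrpCat.{u + 1} :=
  AB4OfSize_shrink.{u, u + 1} AddCommGrpCat.{u + 1}

/-- The pullback from the small Zariski site to a big site is exact. -/
instance piZarPull_preservesFiniteLimits : PreservesFiniteLimits (BigSite.piZarPull K X) :=
  sheafPullback_preservesFiniteLimits (BigSite.zarIncl X) AddCommGrpCat.{u + 1}
    (Opens.grothendieckTopology X) (QuotSh.J K X)

instance resZar_preservesInjectiveObjects : (BigSite.resZar K X).PreservesInjectiveObjects :=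
  Functor.preservesInjectiveObjects_of_adjunction_of_preservesMonomorphisms (BigSite.piZarAdj K X)

instance resZar_preservesFiniteLimits : PreservesFiniteLimits (BigSite.resZar K X) := by
  haveI : PreservesLimitsOfSize.{0, 0} (BigSite.resZar K X) :=
    (BigSite.piZarAdj K X).rightAdjoint_preservesLimits
  exact PreservesLimitsOfSize.preservesFiniteLimits _

/-- The object of the big site given by `⊤ : X.Opens` is terminal. -/
noncomputable def zarInclTopIsTerminal : IsTerminal ((BigSite.zarIncl X).obj ⊤) :=
  IsTerminal.ofIso Over.mkIdTerminal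
    (Over.isoMk (X.topIso).symm (by
      change (X.topIso).inv ≫ (⊤ : X.Opens).ι = 𝟙 X
      simp) : Over.mk (𝟙 X) ≅ (BigSite.zarIncl X).obj ⊤)

/-- The pullback of a constant sheaf from the small Zariski site is the constant sheaf. -/
noncomputable def piZarPullConstantIso :
    constantSheaf (Opens.grothendieckTopology X) AddCommGrpCat.{u + 1} ⋙ BigSite.piZarPull K X ≅
      constantSheaf (QuotSh.J K X) AddCommGrpCat.{u + 1} :=
  ((constantSheafAdj (Opens.grothendieckTopology X) AddCommGrpCat.{u + 1}
      (isTerminalTop : IsTerminal (⊤ : X.Opens))).comp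
    (BigSite.piZarAdj K X)).leftAdjointUniq
    ((constantSheafAdj (QuotSh.J K X) AddCommGrpCat.{u + 1}
      (zarInclTopIsTerminal X)).ofNatIsoRight (Iso.refl _))

end

instance resZar_preservesEpimorphisms_zariski [BigSite.ZarCont Scheme.zariskiPrecoverage X] :
    (BigSite.resZar Scheme.zariskiPrecoverage X).PreservesEpimorphisms :=
  Functor.preservesEpimorphisms_of_adjunction
    ((BigSite.zarIncl X).sheafAdjunctionCocontinuous AddCommGrpCat.{u + 1}
      (Opens.grothendieckTopology X) (QuotSh.J Scheme.zariskiPrecoverage X))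

theorem S12223_main [BigSite.ZarCont Scheme.zariskiPrecoverage X]
    (F : BigSite.Ab Scheme.zariskiPrecoverage X) (p : ℕ) :
    Nonempty (EtZar.H ((BigSite.resZar Scheme.zariskiPrecoverage X).obj F) p ≃+
      BigSite.H Scheme.zariskiPrecoverage X F p) := by
  obtain ⟨e1⟩ := Groth.Agent.LD.EZ.nonempty_ext_equiv_of_adj.{u + 1, u + 1}
    (BigSite.piZarAdj Scheme.zariskiPrecoverage X)
    ((constantSheaf (Opens.grothendieckTopology X) AddCommGrpCat.{u + 1}).obj
      (AddCommGrpCat.of (ULift ℤ))) F p
  let e2 := (piZarPullConstantIso X Scheme.zariskiPrecoverage).app (AddCommGrpCat.of (ULift ℤ))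
  let e3 := (((extFunctor.{u + 1} p).mapIso e2.op).app F).addCommGroupIsoToAddEquiv
  exact ⟨e1.symm.trans e3.symm⟩

end Groth.Agent.H7.ZS
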