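import Groth.Agent.Lib.Helper7.EtSp1
import Groth.Agent.Lib.Helper5.Descent.SepLQFLocal
import Groth.Agent.Lib.Helper5.AlgSp.SchImageQC
import Mathlib

/-!
# S10111: a Zariski sheaf covered fppf-locally by fppf subsheaves with inclusions representable by
algebraic spaces is an fppf sheaf
-/

set_option autoImplicit false
universe u v

open AlgebraicGeometry CategoryTheory Limits Opposite

namespace Groth.Agent.H7.ZarFppf

open _root_.AlgSp Groth.Agent.H5.AlgSp Groth.Agent.H5.Descent Groth.Agent.H7.EtSp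

variable {S : Scheme.{u}}

section Singleton

variable {𝒥 : GrothendieckTopology (Over S)} {G : PSp S}

lemma eq_of_singleton (hG : Presheaf.IsSheaf 𝒥 G) {T T' : Over S} (c : T' ⟶ T)
    (hc : Sieve.generate (Presieve.singleton c) ∈ 𝒥 T) (a b : G.obj (op T))
    (h : G.map c.op a = G.map c.op b) : a = b := by
  have hF : Presieve.IsSheaf 𝒥 G := (isSheaf_iff_isSheaf_of_type _ _).1 hG
  have hsh : Presieve.IsSheafFor G (Presieve.singleton c) :=
    (Presieve.isSheafFor_iff_generate _).2 (hF _ hc)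
  rw [Presieve.isSheafFor_singleton] at hsh
  obtain ⟨y, -, hy⟩ := hsh (G.map c.op a) (by
    intro Z p₁ p₂ hp
    rw [← CategoryTheory.Functor.map_comp_apply, ← CategoryTheory.Functor.map_comp_apply, ← op_comp, ← op_comp, hp])
  rw [hy a rfl, hy b h.symm]

lemma exists_of_singleton (hG : Presheaf.IsSheaf 𝒥 G) {T T' : Over S} (c : T' ⟶ T)
    (hc : Sieve.generate (Presieve.singleton c) ∈ 𝒥 T) (z : G.obj (op T'))
    (h : ∀ {Z : Over S} (g₁ g₂ : Z ⟶ T'), g₁ ≫ c = g₂ ≫ c → G.map g₁.op z = G.map g₂.op z) :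
    ∃ a : G.obj (op T), G.map c.op a = z := by
  have hF : Presieve.IsSheaf 𝒥 G := (isSheaf_iff_isSheaf_of_type _ _).1 hG
  have hsh : Presieve.IsSheafFor G (Presieve.singleton c) :=
    (Presieve.isSheafFor_iff_generate _).2 (hF _ hc)
  rw [Presieve.isSheafFor_singleton] at hsh
  obtain ⟨y, hy, -⟩ := hsh z h
  exact ⟨y, hy⟩

end Singleton

/-- a section of `F` which lies in a subfunctor `G` (with inclusion representable by algebraic
spaces) after an fppf covering lies in `G`. -/
lemma mem_range_of_cover {G F : PSp S} (m : G ⟶ F) [Mono m] (hm : RepBySp m) {V Y : Over S}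
    (c : Y ⟶ V) (hc : Sieve.generate (Presieve.singleton c) ∈ J S V) (x : F.obj (op V))
    (hx : F.map c.op x ∈ Set.range (m.app (op Y))) : x ∈ Set.range (m.app (op V)) := by
  obtain ⟨z, hz⟩ := hx
  have sq := IsPullback.of_hasPullback m (uliftYonedaEquiv.symm x : (pyon S).obj V ⟶ F)
  obtain ⟨hW, -⟩ := hm _ _ _ sq
  have hω : (uliftYonedaEquiv.symm z : (pyon S).obj Y ⟶ G) ≫ m =
      (pyon S).map c ≫ uliftYonedaEquiv.symm x := by
    apply uliftYonedaEquiv.injective
    rw [uliftYonedaEquiv_comp, Equiv.apply_symm_apply, hz, ← ulift_nat, Equiv.apply_symm_apply]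
  obtain ⟨w, hw⟩ := exists_desc_of_singleton hW c hc (sq.lift _ _ hω) (by
    intro Z g₁ g₂ hg
    rw [← cancel_mono (pullback.snd m (uliftYonedaEquiv.symm x : (pyon S).obj V ⟶ F))]
    rw [Category.assoc, Category.assoc, sq.lift_snd, ← Functor.map_comp, ← Functor.map_comp, hg])
  have h1 : w ≫ pullback.snd m (uliftYonedaEquiv.symm x : (pyon S).obj V ⟶ F) =
      𝟙 ((pyon S).obj V) := by
    refine hom_ext_of_singleton (G := (pyon S).obj V) ((yon S).obj V).property c hc _ _ ?_
    rw [← Category.assoc, hw, sq.lift_snd, Category.comp_id]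
  refine ⟨uliftYonedaEquiv (w ≫ pullback.fst m _), ?_⟩
  rw [← uliftYonedaEquiv_comp, Category.assoc, pullback.condition, ← Category.assoc, h1,
    Category.id_comp, Equiv.apply_symm_apply]

/-- a Zariski open cover generates a covering sieve of the big Zariski site. -/
lemma generate_ofArrows_mem_Jzar {T : Over S} {κ : Type*} (V : κ → T.left.Opens)
    (hV : ∀ t : T.left, ∃ k, t ∈ V k) :
    Sieve.generate (Presieve.ofArrows (fun k => overOpen T (V k)) (fun k => overOpenι T (V k))) ∈
      QuotSh.J Scheme.zariskiPrecoverage S T := by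
  rw [show QuotSh.J Scheme.zariskiPrecoverage S = _ from
    over_toGrothendieck_eq_toGrothendieck_comap_forget _ S]
  apply Precoverage.generate_mem_toGrothendieck
  show (Presieve.ofArrows _ _).map (Over.forget S) ∈ Scheme.zariskiPrecoverage T.left
  rw [Presieve.map_ofArrows]
  change Presieve.ofArrows (fun k => (overOpen T (V k)).left)
    (fun k => (overOpenι T (V k)).left) ∈ Scheme.precoverage @IsOpenImmersion T.left
  rw [Scheme.ofArrows_mem_precoverage_iff]
  refine ⟨fun x => ?_, fun k => ?_⟩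
  · obtain ⟨k, hk⟩ := hV x
    exact ⟨k, ⟨x, hk⟩, rfl⟩
  · exact inferInstanceAs (IsOpenImmersion (V k).ι)

lemma m_inj {F : PSp S} {ι : Type v} {Fi : ι → PSp S} (m : ∀ i, Fi i ⟶ F) [∀ i, Mono (m i)]
    (i : ι) (T : Over S) : Function.Injective ((m i).app (op T)) := by
  haveI : Mono ((m i).app (op T)) := (NatTrans.mono_iff_mono_app (m i)).1 inferInstance _
  exact (mono_iff_injective _).1 this

section Main

variable (F : PSp S) {ι : Type v} (Fi : ι → PSp S) (m : ∀ i, Fi i ⟶ F) [∀ i, Mono (m i)]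

omit Fi m in
lemma isSheafFor_zar (h1 : Presheaf.IsSheaf (QuotSh.J Scheme.zariskiPrecoverage S) F) {T : Over S}
    {κ : Type*} (V : κ → T.left.Opens) (hV : ∀ t : T.left, ∃ k, t ∈ V k) :
    Presieve.IsSheafFor F
      (Presieve.ofArrows (fun k => overOpen T (V k)) (fun k => overOpenι T (V k))) :=
  (Presieve.isSheafFor_iff_generate _).2
    ((isSheaf_iff_isSheaf_of_type _ _).1 h1 _ (generate_ofArrows_mem_Jzar V hV))

variable (h1 : Presheaf.IsSheaf (QuotSh.J Scheme.zariskiPrecoverage S) F)
  (ha : ∀ i, Presheaf.IsSheaf (J S) (Fi i)) (hb : ∀ i, RepBySp (m i))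
  (hc : ∀ (T : Over S) (x : F.obj (op T)), ∃ R ∈ (J S) T,
      ∀ ⦃T' : Over S⦄ (f : T' ⟶ T), R.arrows f → ∃ i, F.map f.op x ∈ Set.range ((m i).app (op T')))

include h1 ha hb hc in
/-- `F` is separated for the fppf topology. -/
theorem sep {T : Over S} (R : Sieve T) (hR : R ∈ J S T) (a b : F.obj (op T))
    (h : ∀ ⦃T' : Over S⦄ (f : T' ⟶ T), R f → F.map f.op a = F.map f.op b) : a = b := by
  obtain ⟨Ra, hRa, hRa'⟩ := hc T a
  have hR' : R ⊓ Ra ∈ J S T := (J S).intersection_covering hR hRa
  have key : ∀ t : T.left, ∃ V : T.left.Opens, t ∈ V ∧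
      F.map (overOpenι T V).op a = F.map (overOpenι T V).op b := by
    intro t
    obtain ⟨V, htV, -, Y, c, hc1, hc2, hc3, hRc⟩ := exists_local_fppf_of_mem_J hR' t
    refine ⟨V, htV, ?_⟩
    have hRc1 : R (c ≫ overOpenι T V) := hRc.1
    obtain ⟨i, hi⟩ := hRa' _ hRc.2
    have hcJ : Sieve.generate (Presieve.singleton c) ∈ J S (overOpen T V) := by
      haveI := hc1
      haveI := hc2
      haveI := hc3
      exact Groth.Agent.H3.RepDesc.generate_singleton_mem_J c
    have e1 : F.map c.op (F.map (overOpenι T V).op a) = F.map (c ≫ overOpenι T V).op a := by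
      rw [op_comp, CategoryTheory.Functor.map_comp_apply]
    have e2 : F.map c.op (F.map (overOpenι T V).op b) = F.map (c ≫ overOpenι T V).op b := by
      rw [op_comp, CategoryTheory.Functor.map_comp_apply]
    obtain ⟨a', ha'⟩ := mem_range_of_cover (m i) (hb i) c hcJ (F.map (overOpenι T V).op a)
      (by rw [e1]; exact hi)
    obtain ⟨b', hb'⟩ := mem_range_of_cover (m i) (hb i) c hcJ (F.map (overOpenι T V).op b)
      (by rw [e2, ← h _ hRc1]; exact hi)
    have hab : a' = b' := by
      apply eq_of_singleton (ha i) c hcJ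
      apply m_inj m i
      rw [NatTrans.naturality_apply, NatTrans.naturality_apply, ha', hb', e1, e2, h _ hRc1]
    rw [← ha', ← hb', hab]
  choose V hV hVab using key
  have hsh := isSheafFor_zar F h1 V (fun t => ⟨t, hV t⟩)
  rw [Presieve.isSheafFor_arrows_iff] at hsh
  obtain ⟨y, -, hy⟩ := hsh (fun t => F.map (overOpenι T (V t)).op a) (by
    intro t t' Z gi gj hg
    simp only
    rw [← CategoryTheory.Functor.map_comp_apply, ← CategoryTheory.Functor.map_comp_apply, ← op_comp, ← op_comp, hg])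
  rw [hy a (fun _ => rfl), hy b (fun t => (hVab t).symm)]

include h1 ha hb hc in
/-- the sheaf condition of `F` for a covering sieve of the fppf topology. -/
theorem isSheafFor {T : Over S} (R : Sieve T) (hR : R ∈ J S T) :
    Presieve.IsSheafFor F R.arrows := by
  intro x hx
  have hxeq : ∀ {T' : Over S} (f f' : T' ⟶ T) (_ : f = f') (hf : R f) (hf' : R f'),
      x f hf = x f' hf' := by
    intro T' f f' e hf hf'
    subst e
    rfl
  have hxc : ∀ {T' T'' : Over S} (g : T'' ⟶ T') (f : T' ⟶ T) (hf : R f) (hgf : R (g ≫ f)),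
      F.map g.op (x f hf) = x (g ≫ f) hgf := by
    intro T' T'' g f hf hgf
    have h := hx g (𝟙 _) hf hgf (by rw [Category.id_comp])
    rw [h, op_id, CategoryTheory.Functor.map_id_apply]
  -- the refined sieve
  let R' : Sieve T :=
    { arrows := fun T' f => ∃ hf : R f, ∃ i, x f hf ∈ Set.range ((m i).app (op T'))
      downward_closed := by
        rintro T' T'' f ⟨hf, i, z, hz⟩ g
        refine ⟨R.downward_closed hf g, i, (Fi i).map g.op z, ?_⟩
        rw [NatTrans.naturality_apply, hz, hxc g f hf] }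
  have hR' : R' ∈ J S T := by
    apply (J S).transitive hR
    intro T' f hf
    obtain ⟨Rf, hRf, hRf'⟩ := hc T' (x f hf)
    refine (J S).superset_covering ?_ hRf
    intro T'' g hg
    obtain ⟨i, z, hz⟩ := hRf' g hg
    refine ⟨R.downward_closed hf g, i, z, ?_⟩
    rw [hz, hxc g f hf]
  have key : ∀ t : T.left, ∃ (V : T.left.Opens) (_ : t ∈ V) (ξ : F.obj (op (overOpen T V))),
      ∀ ⦃T' : Over S⦄ (g : T' ⟶ overOpen T V) (hg : R (g ≫ overOpenι T V)),
        F.map g.op ξ = x (g ≫ overOpenι T V) hg := by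
    intro t
    obtain ⟨V, htV, -, Y, c, hc1, hc2, hc3, hf, i, z, hz⟩ := exists_local_fppf_of_mem_J hR' t
    have hcJ : Sieve.generate (Presieve.singleton c) ∈ J S (overOpen T V) := by
      haveI := hc1
      haveI := hc2
      haveI := hc3
      exact Groth.Agent.H3.RepDesc.generate_singleton_mem_J c
    obtain ⟨z', hz'⟩ := exists_of_singleton (ha i) c hcJ z (by
      intro Z g₁ g₂ hg
      apply m_inj m i
      rw [NatTrans.naturality_apply, NatTrans.naturality_apply, hz,
        hxc g₁ _ hf (R.downward_closed hf g₁), hxc g₂ _ hf (R.downward_closed hf g₂)]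
      exact hxeq _ _ (by rw [← Category.assoc, hg, Category.assoc]) _ _)
    refine ⟨V, htV, (m i).app _ z', ?_⟩
    have hcξ : F.map c.op ((m i).app _ z') = x (c ≫ overOpenι T V) hf := by
      rw [← NatTrans.naturality_apply, hz', hz]
    intro T' g hg
    apply sep F Fi m h1 ha hb hc ((Sieve.generate (Presieve.singleton c)).pullback g)
      ((J S).pullback_stable g hcJ)
    intro T'' h hh
    obtain ⟨Y', k, l, ⟨⟩, hkl⟩ := hh
    rw [← CategoryTheory.Functor.map_comp_apply, ← op_comp, ← hkl, op_comp, CategoryTheory.Functor.map_comp_apply,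
      hcξ, hxc k _ hf (R.downward_closed hf k), hxc h _ hg (R.downward_closed hg h)]
    exact hxeq _ _ (by rw [← Category.assoc, hkl, Category.assoc]) _ _
  choose V hV ξ hξ using key
  have hsh := isSheafFor_zar F h1 V (fun t => ⟨t, hV t⟩)
  rw [Presieve.isSheafFor_arrows_iff] at hsh
  obtain ⟨y, hy, -⟩ := hsh ξ (by
    intro t t' Z gi gj hg
    apply sep F Fi m h1 ha hb hc (R.pullback (gi ≫ overOpenι T (V t)))
      ((J S).pullback_stable _ hR)
    intro Z' h hh
    have hh1 : R ((h ≫ gi) ≫ overOpenι T (V t)) := by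
      rw [Category.assoc]; exact hh
    have hh2 : R ((h ≫ gj) ≫ overOpenι T (V t')) := by
      rw [Category.assoc, ← hg]; exact hh
    rw [← CategoryTheory.Functor.map_comp_apply, ← op_comp, ← CategoryTheory.Functor.map_comp_apply, ← op_comp,
      hξ t (h ≫ gi) hh1, hξ t' (h ≫ gj) hh2]
    exact hxeq _ _ (by rw [Category.assoc, Category.assoc, hg]) _ _)
  have hamal : x.IsAmalgamation y := by
    intro T' f hf
    apply sep F Fi m h1 ha hb hc
      ((Sieve.generate (Presieve.ofArrows (fun t => overOpen T (V t))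
        (fun t => overOpenι T (V t)))).pullback f)
      ((J S).pullback_stable f (mem_J_of_openCover V (fun t => ⟨t, hV t⟩) _
        (fun t => Sieve.le_generate _ _ _ (Presieve.ofArrows.mk t))))
    intro T'' h hh
    obtain ⟨W, g, l, hl, hgl⟩ := hh
    obtain ⟨t⟩ := hl
    have hg : R (g ≫ overOpenι T (V t)) := by
      rw [hgl]; exact R.downward_closed hf h
    rw [← CategoryTheory.Functor.map_comp_apply, ← op_comp, ← hgl, op_comp, CategoryTheory.Functor.map_comp_apply,
      hy t, hξ t g hg, hxc h f hf (R.downward_closed hf h)]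
    exact hxeq _ _ hgl _ _
  refine ⟨y, hamal, ?_⟩
  intro y' hy'
  apply sep F Fi m h1 ha hb hc R hR
  intro T' f hf
  rw [hy' f hf, hamal f hf]

include h1 ha hb hc in
theorem S10111_main : Presheaf.IsSheaf (J S) F :=
  (isSheaf_iff_isSheaf_of_type _ _).2 (fun _ R hR => isSheafFor F Fi m h1 ha hb hc R hR)

end Main

end Groth.Agent.H7.ZarFppf
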